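import Mathlib
import Cfsg.Agent.Lib.H20.Basic
import Cfsg.Agent.Lib.H20.ConjClass
import Cfsg.Agent.Lib.H20.ConjCover
import Cfsg.Agent.Lib.H20.DirectFactor
import Cfsg.Agent.Lib.H20.PowDecomp
import Cfsg.Agent.Lib.H20.TI
import Cfsg.Agent.Lib.H26.Basic

set_option autoImplicit false

namespace Cfsg.Agent.S4035

open Cfsg.Agent.Lib.H20 Cfsg.Agent.Lib.H26
open scoped Pointwise

theorem result {G : Type*} [Group G] [Finite G] {p : ℕ} [Fact p.Prime]
    (h : ∀ x : G, (orderOf x).Coprime p → ¬ p ∣ (ConjClasses.mk x).carrier.ncard) (P : Sylow p G) :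
    (P : Subgroup G).Normal ∧ ∃ H : Subgroup G, H.Normal ∧ ¬ p ∣ Nat.card H ∧
      (P : Subgroup G) ⊓ H = ⊥ ∧ (P : Subgroup G) ⊔ H = ⊤ := by
  classical
  have hp : p.Prime := Fact.out
  -- centralizers of p'-elements contain Sylow p-subgroups of G
  have hsyl : ∀ b : G, (orderOf b).Coprime p → ∃ P₁ : Sylow p G,
      (P₁ : Subgroup G) ≤ Subgroup.centralizer ({b} : Set G) := by
    intro b hb
    have hidx : ¬ p ∣ (Subgroup.centralizer ({b} : Set G)).index := by
      rw [index_centralizer_eq_ncard_carrier]; exact h b hb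
    obtain ⟨S⟩ : Nonempty (Sylow p (Subgroup.centralizer ({b} : Set G))) := inferInstance
    have hSp : IsPGroup p ((S : Subgroup (Subgroup.centralizer ({b} : Set G))).map
        (Subgroup.centralizer ({b} : Set G)).subtype) := S.isPGroup'.map _
    have hSidx : ¬ p ∣ ((S : Subgroup (Subgroup.centralizer ({b} : Set G))).map
        (Subgroup.centralizer ({b} : Set G)).subtype).index := by
      rw [Subgroup.index_map_subtype]
      intro hd
      rcases (Nat.Prime.dvd_mul hp).mp hd with hd | hd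
      · exact S.not_dvd_index hd
      · exact hidx hd
    refine ⟨hSp.toSylow hSidx, ?_⟩
    intro u hu
    have hu' : u ∈ (S : Subgroup (Subgroup.centralizer ({b} : Set G))).map
        (Subgroup.centralizer ({b} : Set G)).subtype := hu
    obtain ⟨v, _, rfl⟩ := hu'
    exact v.2
  -- every element normalizes a conjugate of P
  have hcover : ∀ y : G, ∃ c : G, y ∈ MulAut.conj c •
      Subgroup.normalizer ((P : Subgroup G) : Set G) := by
    intro y
    obtain ⟨k, l, hkl, ⟨e, he⟩, hl⟩ := exists_pPart_pPrimePart y (isOfFinOrder_of_finite y) p hp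
    set a := y ^ k with ha
    set b := y ^ l with hb
    obtain ⟨P₁, hP₁⟩ := hsyl b hl
    have hab : a * b = b * a := by rw [ha, hb, ← pow_add, ← pow_add, add_comm]
    have haH : a ∈ Subgroup.centralizer ({b} : Set G) := by
      rw [Subgroup.mem_centralizer_singleton_iff]; exact hab
    have hza : IsPGroup p (Subgroup.zpowers a) := by
      apply IsPGroup.of_card (n := e)
      rw [Nat.card_zpowers, he]
    obtain ⟨hh, hhH, hha⟩ := exists_conj_mem_sylow_of_le P₁ (Subgroup.centralizer ({b} : Set G))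
      (Subgroup.zpowers a) hP₁ (Subgroup.zpowers_le_of_mem haH) hza
    have hha' := hha a (Subgroup.mem_zpowers a)
    obtain ⟨g, hg⟩ := MulAction.exists_smul_eq G P P₁
    have hgP : ∀ w : G, w ∈ (P₁ : Subgroup G) ↔ g⁻¹ * w * g ∈ (P : Subgroup G) := by
      intro w
      rw [← hg, Sylow.coe_subgroup_smul, mem_conj_smul_iff]
    set c := hh⁻¹ * g with hc
    set u₀ := g⁻¹ * (hh * a * hh⁻¹) * g with hu₀
    have hu₀P : u₀ ∈ (P : Subgroup G) := (hgP _).mp hha'
    have hacu : a = c * u₀ * c⁻¹ := by rw [hc, hu₀]; group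
    have hcb : ∀ u ∈ (P : Subgroup G), (c * u * c⁻¹) * b = b * (c * u * c⁻¹) := by
      intro u hu
      have h1 : g * u * g⁻¹ ∈ (P₁ : Subgroup G) := by
        rw [hgP]
        have : g⁻¹ * (g * u * g⁻¹) * g = u := by group
        rw [this]; exact hu
      have h2 := hP₁ h1
      have h3 : hh⁻¹ ∈ Subgroup.centralizer ({b} : Set G) := Subgroup.inv_mem _ hhH
      have h4 := Subgroup.mul_mem _ (Subgroup.mul_mem _ h3 h2) hhH
      have h5 : hh⁻¹ * (g * u * g⁻¹) * hh = c * u * c⁻¹ := by rw [hc]; group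
      rw [h5, Subgroup.mem_centralizer_singleton_iff] at h4
      exact h4
    refine ⟨c, ?_⟩
    rw [mem_conj_smul_iff]
    apply Subgroup.mem_normalizer_fintype
    intro u hu
    have hy : y = a * b := hkl.symm
    have hcu := hcb u hu
    have key : (c⁻¹ * y * c) * u * (c⁻¹ * y * c)⁻¹ = u₀ * u * u₀⁻¹ := by
      have e1 : (c⁻¹ * y * c) * u * (c⁻¹ * y * c)⁻¹ = c⁻¹ * (a * (b * (c * u * c⁻¹) * b⁻¹) * a⁻¹) * c := by
        rw [hy]; group
      have e2 : b * (c * u * c⁻¹) * b⁻¹ = c * u * c⁻¹ := by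
        rw [← hcu]; group
      rw [e1, e2, hacu]; group
    rw [SetLike.mem_coe, key]
    exact Subgroup.mul_mem _ (Subgroup.mul_mem _ hu₀P hu) (Subgroup.inv_mem _ hu₀P)
  have hNtop : Subgroup.normalizer ((P : Subgroup G) : Set G) = ⊤ := by
    by_contra hne
    obtain ⟨y, hy⟩ := exists_not_mem_conj _ hne
    obtain ⟨c, hc⟩ := hcover y
    exact hy c hc
  have hPn : (P : Subgroup G).Normal := Subgroup.normalizer_eq_top_iff.mp hNtop
  have hcomm : ∀ x y : G, (∃ a : ℕ, orderOf x = p ^ a) →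
      (∃ q b : ℕ, q.Prime ∧ q ≠ p ∧ orderOf y = q ^ b) → x * y = y * x := by
    rintro x y ⟨a, ha⟩ ⟨q, b, hq, hqp, hb⟩
    have hycop : (orderOf y).Coprime p := by
      rw [hb]
      exact Nat.Coprime.pow_left b ((Nat.coprime_primes hq hp).mpr hqp)
    obtain ⟨P₁, hP₁⟩ := hsyl y hycop
    have hxP₁ : x ∈ (P₁ : Subgroup G) := by
      have : P₁ = P := by
        haveI : Subsingleton (Sylow p G) := (Sylow.unique_of_normal P hPn).instSubsingleton
        exact Subsingleton.elim _ _
      rw [this]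
      exact mem_sylow_of_normal_of_orderOf P hPn ha
    have := hP₁ hxP₁
    rw [Subgroup.mem_centralizer_singleton_iff] at this
    exact this
  obtain ⟨_, K, hKn, hinf, hsup, hcop⟩ := sylow_direct_factor_of_commute p hcomm P
  refine ⟨hPn, K, hKn, ?_, hinf, hsup⟩
  intro hd
  have : p ∣ Nat.gcd (Nat.card K) p := Nat.dvd_gcd hd dvd_rfl
  rw [hcop] at this
  exact hp.one_lt.ne' (Nat.dvd_one.mp this)

end Cfsg.Agent.S4035
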