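import Mathlib
import Cfsg.Agent.Lib.H20.FixedInvariant

namespace Cfsg.Agent.S4036

open Cfsg.Agent.Lib.H20 in
theorem result {P : Type*} [CommGroup P] [Finite P] {p : ℕ}
    [Fact p.Prime] (hP : IsPGroup p P) (K : Subgroup (MulAut P)) (hK : p ∣ Nat.card K)
    (hfix : ∀ x y : MulAut P, x ∈ K → y ∈ K → x ≠ 1 → y ≠ 1 → ∀ v : P, x v = v ↔ y v = v) :
    ∀ N : Subgroup ↥K, N.Normal → ¬ p ∣ Nat.card N → N = ⊥ := by
  classical
  intro N hNn hNp
  have hp : p.Prime := Fact.out
  by_contra hNbot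
  haveI : Fintype N := Fintype.ofFinite N
  obtain ⟨⟨n₀, hn₀N⟩, hn₀⟩ := (Subgroup.ne_bot_iff_exists_ne_one).mp hNbot
  have hn₀1 : n₀ ≠ 1 := fun h => hn₀ (Subtype.ext h)
  obtain ⟨x, hx⟩ := exists_prime_orderOf_dvd_card' (G := K) p hK
  have hxo : orderOf (x : MulAut P) = p := by rw [Subgroup.orderOf_coe]; exact hx
  have hx1 : (x : MulAut P) ≠ 1 := by
    intro h
    rw [h, orderOf_one] at hxo
    exact hp.one_lt.ne hxo
  -- the norm map
  let τ : P →* P :=
    { toFun := fun v => ∏ a : N, ((a : K) : MulAut P) v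
      map_one' := by simp
      map_mul' := by
        intro v w
        simp only [map_mul]
        exact Finset.prod_mul_distrib }
  have hτ : ∀ v, τ v = ∏ a : N, ((a : K) : MulAut P) v := fun v => rfl
  -- equivariance under x
  have hτx : ∀ v, τ ((x : MulAut P) v) = (x : MulAut P) (τ v) := by
    intro v
    rw [hτ, hτ, map_prod]
    symm
    apply Fintype.prod_equiv (MulAut.conjNormal (H := N) x).toEquiv
    intro a
    have h1 : (((MulAut.conjNormal (H := N) x a : N) : K) : MulAut P) =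
        (x : MulAut P) * ((a : K) : MulAut P) * (x : MulAut P)⁻¹ := by
      rw [MulAut.conjNormal_apply]; rfl
    simp only [MulEquiv.toEquiv_eq_coe, EquivLike.coe_coe]
    rw [h1]
    simp [MulAut.mul_apply]
  -- invariance under N
  have hτN : ∀ (b : N) (v : P), τ (((b : K) : MulAut P) v) = τ v := by
    intro b v
    rw [hτ, hτ]
    apply Fintype.prod_equiv (Equiv.mulRight b)
    intro a
    simp [MulAut.mul_apply]
  -- the kernel is nontrivial
  have hW1 : τ.ker ≠ ⊥ := by
    intro hker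
    have hinj : Function.Injective τ := (MonoidHom.ker_eq_bot_iff τ).mp hker
    apply hn₀1
    apply Subtype.ext
    ext v
    exact hinj (hτN ⟨n₀, hn₀N⟩ v)
  have hWp : IsPGroup p τ.ker := hP.to_subgroup _
  have hinv : ∀ w ∈ τ.ker, (x : MulAut P) w ∈ τ.ker := by
    intro w hw
    rw [MonoidHom.mem_ker] at hw ⊢
    rw [hτx, hw, map_one]
  obtain ⟨w, hwW, hw1, hwx⟩ := exists_fixed_in_invariant_subgroup (x : MulAut P)
    ⟨1, by rw [hxo, pow_one]⟩ τ.ker hWp hW1 hinv
  -- every element of N fixes w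
  have hNw : ∀ a : N, ((a : K) : MulAut P) w = w := by
    intro a
    by_cases ha : ((a : K) : MulAut P) = 1
    · rw [ha]; rfl
    · exact (hfix (x : MulAut P) ((a : K) : MulAut P) x.2 (a : K).2 hx1 ha w).mp hwx
  have hτw : τ w = w ^ Nat.card N := by
    rw [hτ]
    simp only [hNw]
    rw [Finset.prod_const, Finset.card_univ, Nat.card_eq_fintype_card]
  rw [MonoidHom.mem_ker, hτw] at hwW
  obtain ⟨k, hk⟩ := hP w
  have hcop : (Nat.card N).Coprime (p ^ k) :=
    Nat.Coprime.pow_right k ((Nat.coprime_comm).mp ((Nat.Prime.coprime_iff_not_dvd hp).mpr hNp))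
  have h1 : orderOf w ∣ Nat.card N := orderOf_dvd_of_pow_eq_one hwW
  have h2 : orderOf w ∣ p ^ k := orderOf_dvd_of_pow_eq_one hk
  have h3 : orderOf w = 1 := Nat.eq_one_of_dvd_coprimes hcop h1 h2
  exact hw1 (orderOf_eq_one_iff.mp h3)

end Cfsg.Agent.S4036
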