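import Mathlib
import Cfsg.Agent.Lib.L0.ControlFusion
import Cfsg.Agent.Lib.L0.TransferWC
import Cfsg.Agent.Lib.H1.CoprimeSylow
import Cfsg.Agent.Lib.H1.Complement
import Cfsg.Agent.Lib.H1.OmegaZ

set_option autoImplicit false
open Cfsg

namespace Cfsg.Agent.S4039

open Cfsg.Agent.Lib.H1 Cfsg.Agent.Lib.L0

universe u

variable {G : Type u} [Group G] [Finite G]

/-- in the core-free case, nontrivial subgroups of `M` normalized by `M` have normalizer `M`
(after helper1's `Lib/H1/NilMax`) -/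
theorem normalizer_eq_of_coatom' {M : Subgroup G} (hmax : IsCoatom M) (hcore : M.normalCore = ⊥)
    {C : Subgroup G} (hC : C ≠ ⊥) (hCM : C ≤ M) (hMC : M ≤ Subgroup.normalizer (C : Set G)) :
    Subgroup.normalizer (C : Set G) = M := by
  rcases hmax.le_iff.mp hMC with h | h
  · exfalso
    haveI : C.Normal := Subgroup.normalizer_eq_top_iff.mp h
    have := Subgroup.normal_le_normalCore.mpr hCM
    rw [hcore, le_bot_iff] at this
    exact hC this
  · exact h

/-- normalizers grow in `p`-groups (after helper1's `Lib/H1/NilMax`) -/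
theorem exists_mem_normalizer_not_mem'' {p : ℕ} [Fact p.Prime] {P T : Subgroup G}
    (hP : IsPGroup p P) (hTP : T < P) :
    ∃ u ∈ P, u ∈ Subgroup.normalizer (T : Set G) ∧ u ∉ T := by
  haveI : Group.IsNilpotent P := hP.isNilpotent
  have hlt : T.subgroupOf P < ⊤ := by
    rw [lt_top_iff_ne_top, Ne, Subgroup.subgroupOf_eq_top]
    exact not_le_of_gt hTP
  have h2 := Group.normalizerCondition_of_isNilpotent (G := P) (T.subgroupOf P) hlt
  obtain ⟨u, hu1, hu2⟩ := SetLike.exists_of_lt h2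
  refine ⟨u, u.2, ?_, fun h => hu2 (Subgroup.mem_subgroupOf.mpr h)⟩
  rw [Subgroup.mem_normalizer_iff] at hu1 ⊢
  intro x
  constructor
  · intro hx
    have := (hu1 ⟨x, hTP.le hx⟩).mp (Subgroup.mem_subgroupOf.mpr hx)
    exact Subgroup.mem_subgroupOf.mp this
  · intro hx
    have hxP : x ∈ P := by
      have h3 : x = (u : G)⁻¹ * ((u : G) * x * (u : G)⁻¹) * (u : G) := by group
      rw [h3]
      exact P.mul_mem (P.mul_mem (P.inv_mem u.2) (hTP.le hx)) u.2
    have := (hu1 ⟨x, hxP⟩).mpr (Subgroup.mem_subgroupOf.mpr hx)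
    exact Subgroup.mem_subgroupOf.mp this

/-- the centre of a nontrivial `p`-subgroup is nontrivial -/
theorem zz_ne_bot {p : ℕ} [Fact p.Prime] {P : Subgroup G} (hP : IsPGroup p P)
    (hne : P ≠ ⊥) : P ⊓ Subgroup.centralizer (P : Set G) ≠ ⊥ := by
  haveI : Nontrivial P := (Subgroup.nontrivial_iff_ne_bot P).mpr hne
  haveI := hP.center_nontrivial
  obtain ⟨z, hz⟩ := exists_ne (1 : Subgroup.center P)
  intro hbot
  apply hz
  have hzc := z.2
  have hmem : ((z : P) : G) ∈ P ⊓ Subgroup.centralizer (P : Set G) := by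
    refine Subgroup.mem_inf.mpr ⟨(z : P).2, ?_⟩
    rw [Subgroup.mem_centralizer_iff]
    intro w hw
    have := Subgroup.mem_center_iff.mp hzc ⟨w, hw⟩
    exact congrArg Subtype.val this
  rw [hbot, Subgroup.mem_bot] at hmem
  apply Subtype.ext
  apply Subtype.ext
  exact hmem

/-- the normalizer of `P` normalizes the centre of `P` -/
theorem normalizer_le_normalizer_zz (P : Subgroup G) :
    Subgroup.normalizer (P : Set G) ≤
      Subgroup.normalizer ((P ⊓ Subgroup.centralizer (P : Set G) : Subgroup G) : Set G) := by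
  apply le_normalizer_of_conj_mem
  intro g hg z hz
  obtain ⟨hz1, hz2⟩ := Subgroup.mem_inf.mp hz
  refine Subgroup.mem_inf.mpr ⟨(Subgroup.mem_normalizer_iff.mp hg z).mp hz1, ?_⟩
  rw [Subgroup.mem_centralizer_iff]
  intro w hw
  have hw' : g⁻¹ * w * g ∈ P := by
    have := (Subgroup.mem_normalizer_iff.mp (Subgroup.inv_mem _ hg) w).mp hw
    rwa [inv_inv] at this
  have h1 := hz2
  rw [Subgroup.mem_centralizer_iff] at h1
  have h2 := h1 _ hw'
  calc w * (g * z * g⁻¹) = g * ((g⁻¹ * w * g) * z) * g⁻¹ := by group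
    _ = g * (z * (g⁻¹ * w * g)) * g⁻¹ := by rw [h2]
    _ = g * z * g⁻¹ * w := by group

/-- Core-free nilpotent maximal subgroup of class at most two: for every prime `p` dividing `|M|`,
`G` has a normal `p`-complement and `p` does not divide the index of `M`. -/
theorem npc_of_class_two {M : Subgroup G} (hmax : IsCoatom M) (hnil : Group.IsNilpotent M)
    (hcl : ∀ a b : ↥M, a * b * a⁻¹ * b⁻¹ ∈ Subgroup.center ↥M)
    (hcore : M.normalCore = ⊥) {p : ℕ} (hp : p.Prime) (hpM : p ∣ Nat.card M) :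
    Cfsg.HasNormalPComplement p G ∧ ¬ p ∣ M.index := by
  classical
  haveI : Fact p.Prime := ⟨hp⟩
  obtain ⟨P, hPM, hPp, hPcard, hPall⟩ := Cfsg.Agent.Lib.H8.sylow_of_nilpotent M hnil p
  have hfacpos : 0 < (Nat.card M).factorization p :=
    hp.factorization_pos_of_dvd Nat.card_pos.ne' hpM
  have hPne : P ≠ ⊥ := by
    intro h
    rw [h, Subgroup.card_bot] at hPcard
    have : 1 < p ^ (Nat.card M).factorization p := Nat.one_lt_pow hfacpos.ne' hp.one_lt
    omega
  -- p-power elements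
  have hPpow : ∀ x ∈ P, ∃ k : ℕ, x ^ (p ^ k) = 1 := by
    intro x hx
    obtain ⟨k, hk⟩ := hPp ⟨x, hx⟩
    exact ⟨k, congrArg Subtype.val hk⟩
  have hMP : M ≤ Subgroup.normalizer (P : Set G) := by
    apply le_normalizer_of_conj_mem
    intro m hm x hx
    apply hPall _ (M.mul_mem (M.mul_mem hm (hPM hx)) (M.inv_mem hm))
    obtain ⟨k, hk⟩ := hPpow x hx
    exact ⟨k, by rw [conj_pow, hk]; group⟩
  have hNP : Subgroup.normalizer (P : Set G) = M :=
    normalizer_eq_of_coatom' hmax hcore hPne hPM hMP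
  -- P is Sylow in G
  obtain ⟨Ps, hPs⟩ := hPp.exists_le_sylow
  have hPeq : (Ps : Subgroup G) = P := by
    by_contra hne
    have hlt : P < (Ps : Subgroup G) := lt_of_le_of_ne hPs (Ne.symm hne)
    obtain ⟨u, hu1, hu2, hu3⟩ := exists_mem_normalizer_not_mem'' Ps.2 hlt
    rw [hNP] at hu2
    apply hu3
    apply hPall u hu2
    obtain ⟨k, hk⟩ := Ps.2 ⟨u, hu1⟩
    exact ⟨k, congrArg Subtype.val hk⟩
  have hidx : ¬ p ∣ M.index := by
    intro hd
    have h1 := Ps.card_eq_multiplicity
    rw [hPeq, hPcard] at h1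
    have h2 := Nat.pow_right_injective hp.two_le h1
    have h3 : (Nat.card G).factorization p =
        (Nat.card M).factorization p + M.index.factorization p := by
      rw [← Subgroup.card_mul_index M, Nat.factorization_mul Nat.card_pos.ne'
        Subgroup.index_ne_zero_of_finite, Finsupp.add_apply]
    have h4 : 0 < M.index.factorization p :=
      hp.factorization_pos_of_dvd Subgroup.index_ne_zero_of_finite hd
    omega
  refine ⟨?_, hidx⟩
  -- the centre of P
  obtain ⟨Z, hZdef⟩ : ∃ Z : Subgroup G, Z = P ⊓ Subgroup.centralizer (P : Set G) := ⟨_, rfl⟩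
  have hZne : Z ≠ ⊥ := hZdef ▸ zz_ne_bot hPp hPne
  have hZP : Z ≤ P := hZdef ▸ inf_le_left
  have hZC : Z ≤ Subgroup.centralizer (P : Set G) := hZdef ▸ inf_le_right
  have hNZ : Subgroup.normalizer (Z : Set G) = M := by
    apply normalizer_eq_of_coatom' hmax hcore hZne (hZP.trans hPM)
    rw [hZdef]
    exact hMP.trans (normalizer_le_normalizer_zz P)
  -- commutators of P lie in Z
  have hcomm : ∀ u ∈ P, ∀ v ∈ P, u * v * u⁻¹ * v⁻¹ ∈ Z := by
    intro u hu v hv
    rw [hZdef]
    refine Subgroup.mem_inf.mpr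
      ⟨P.mul_mem (P.mul_mem (P.mul_mem hu hv) (P.inv_mem hu)) (P.inv_mem hv), ?_⟩
    rw [Subgroup.mem_centralizer_iff]
    intro w hw
    have h1 := hcl ⟨u, hPM hu⟩ ⟨v, hPM hv⟩
    have h2 := Subgroup.mem_center_iff.mp h1 ⟨w, hPM hw⟩
    exact congrArg Subtype.val h2
  -- p'-elements of M centralize P
  have hp'c : ∀ c ∈ M, (orderOf c).Coprime p → ∀ x ∈ P, c * x = x * c := by
    intro c hc hcop x hx
    apply Cfsg.Agent.Lib.H8.mul_comm_of_coprime_of_mem_nilpotent M hnil hc (hPM hx)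
    obtain ⟨k, hk⟩ := (IsPGroup.iff_orderOf.mp hPp) ⟨x, hx⟩
    rw [Subgroup.orderOf_mk] at hk
    rw [hk]
    exact Nat.Coprime.pow_right k hcop
  -- every element of M acts on P as an element of P
  have hMact : ∀ m ∈ M, ∃ c ∈ P, ∀ x ∈ P, m * x * m⁻¹ = c * x * c⁻¹ := by
    intro m hm
    obtain ⟨c₁, c₂, hc₁, hc₂, hdec, hc₁p, hc₂p⟩ :=
      Cfsg.Agent.Lib.H8.exists_p_decomp m (orderOf_pos m).ne' p hp
    have hzM : Subgroup.zpowers m ≤ M := by
      rw [Subgroup.zpowers_le]; exact hm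
    refine ⟨c₁, hPall c₁ (hzM hc₁) hc₁p, fun x hx => ?_⟩
    have hcx := hp'c c₂ (hzM hc₂) hc₂p x hx
    rw [hdec]
    calc c₁ * c₂ * x * (c₁ * c₂)⁻¹ = c₁ * (c₂ * x) * c₂⁻¹ * c₁⁻¹ := by group
      _ = c₁ * (x * c₂) * c₂⁻¹ * c₁⁻¹ := by rw [hcx]
      _ = c₁ * x * c₁⁻¹ := by group
  -- Z is weakly closed in P
  have hW : Cfsg.IsWeaklyClosed Z (Ps : Subgroup G) := by
    rw [hPeq]
    refine ⟨hZP, fun g hg => ?_⟩
    -- conjugates of Z by g lie in P
    have hgZ : ∀ z ∈ Z, g * z * g⁻¹ ∈ P := fun z hz => hg ⟨z, hz, rfl⟩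
    -- Z ≤ Q := g P g⁻¹, i.e. g⁻¹ z g ∈ P
    have hZQ : ∀ z ∈ Z, g⁻¹ * z * g ∈ P := by
      intro z hz
      have hN : g⁻¹ * z * g ∈ Subgroup.normalizer (Z : Set G) := by
        apply Subgroup.centralizer_le_normalizer
        rw [Subgroup.mem_centralizer_iff]
        intro w hw
        have h1 := hZC hz
        rw [Subgroup.mem_centralizer_iff] at h1
        have h2 := h1 (g * w * g⁻¹) (hgZ w hw)
        calc w * (g⁻¹ * z * g) = g⁻¹ * ((g * w * g⁻¹) * z) * g := by group
          _ = g⁻¹ * (z * (g * w * g⁻¹)) * g := by rw [h2]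
          _ = g⁻¹ * z * g * w := by group
      rw [hNZ] at hN
      apply hPall _ hN
      obtain ⟨k, hk⟩ := hPpow z (hZP hz)
      refine ⟨k, ?_⟩
      have : g⁻¹ * z * g = g⁻¹ * z * g⁻¹⁻¹ := by rw [inv_inv]
      rw [this, conj_pow, hk]; group
    -- D = P ⊓ Q
    obtain ⟨Q, hQdef⟩ : ∃ Q : Subgroup G, Q = P.map (MulAut.conj g).toMonoidHom := ⟨_, rfl⟩
    have hQmem : ∀ x, x ∈ Q ↔ g⁻¹ * x * g ∈ P := by
      intro x
      rw [hQdef]
      constructor
      · rintro ⟨y, hy, rfl⟩
        have : g⁻¹ * ((MulAut.conj g).toMonoidHom y) * g = y := by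
          show g⁻¹ * (g * y * g⁻¹) * g = y
          group
        rw [this]; exact hy
      · intro hx
        refine ⟨g⁻¹ * x * g, hx, ?_⟩
        show g * (g⁻¹ * x * g) * g⁻¹ = x
        group
    obtain ⟨D, hDdef⟩ : ∃ D : Subgroup G, D = P ⊓ Q := ⟨_, rfl⟩
    have hZD : Z ≤ D := by
      intro z hz
      rw [hDdef]
      exact Subgroup.mem_inf.mpr ⟨hZP hz, (hQmem z).mpr (hZQ z hz)⟩
    have hDne : D ≠ ⊥ := fun h => hZne (eq_bot_iff.mpr (h ▸ hZD))
    have hDP : D ≤ P := hDdef ▸ inf_le_left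
    have hDQ : D ≤ Q := hDdef ▸ inf_le_right
    have hMD : M ≤ Subgroup.normalizer (D : Set G) := by
      apply le_normalizer_of_conj_mem
      intro m hm d hd
      obtain ⟨c, hc, hcx⟩ := hMact m hm
      rw [hcx d (hDP hd)]
      have : c * d * c⁻¹ = (c * d * c⁻¹ * d⁻¹) * d := by group
      rw [this]
      exact D.mul_mem (hZD (hcomm c hc d (hDP hd))) hd
    have hND : Subgroup.normalizer (D : Set G) = M :=
      normalizer_eq_of_coatom' hmax hcore hDne (hDP.trans hPM) hMD
    have hQD : Q ≤ Subgroup.normalizer (D : Set G) := by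
      apply le_normalizer_of_conj_mem
      intro q hq d hd
      have : q * d * q⁻¹ = (q * d * q⁻¹ * d⁻¹) * d := by group
      rw [this]
      refine D.mul_mem ?_ hd
      -- the commutator is g (commutator in P) g⁻¹ ∈ g Z g⁻¹ ≤ P, and in Q
      have hq' := (hQmem q).mp hq
      have hd' := (hQmem d).mp (hDQ hd)
      have hc := hcomm _ hq' _ hd'
      have e : q * d * q⁻¹ * d⁻¹ =
          g * ((g⁻¹ * q * g) * (g⁻¹ * d * g) * (g⁻¹ * q * g)⁻¹ * (g⁻¹ * d * g)⁻¹) * g⁻¹ := by
        group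
      rw [hDdef]
      refine Subgroup.mem_inf.mpr ⟨?_, ?_⟩
      · rw [e]; exact hgZ _ hc
      · rw [hQmem, e]
        have : g⁻¹ * (g * ((g⁻¹ * q * g) * (g⁻¹ * d * g) * (g⁻¹ * q * g)⁻¹ * (g⁻¹ * d * g)⁻¹)
            * g⁻¹) * g = (g⁻¹ * q * g) * (g⁻¹ * d * g) * (g⁻¹ * q * g)⁻¹ * (g⁻¹ * d * g)⁻¹ := by
          group
        rw [this]
        exact hZP hc
    rw [hND] at hQD
    -- so g P g⁻¹ ≤ P
    have hQP : Q ≤ P := by
      intro x hx
      apply hPall x (hQD hx)
      obtain ⟨k, hk⟩ := hPpow _ ((hQmem x).mp hx)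
      refine ⟨k, ?_⟩
      have h1 : g⁻¹ * x * g = g⁻¹ * x * g⁻¹⁻¹ := by rw [inv_inv]
      rw [h1, conj_pow] at hk
      have h2 : x ^ (p ^ k) = g * (g⁻¹ * x ^ (p ^ k) * g⁻¹⁻¹) * g⁻¹ := by group
      rw [h2, hk]; group
    have hQeq : Q = P := by
      apply Subgroup.eq_of_le_of_card_ge hQP
      rw [hQdef, Subgroup.card_map_of_injective (MulAut.conj g).injective]
    have hgN : g ∈ Subgroup.normalizer (P : Set G) := by
      rw [Subgroup.mem_normalizer_iff_map_conj_eq]
      rw [hQdef] at hQeq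
      exact hQeq
    rw [hNP, ← hNZ, Subgroup.mem_normalizer_iff_map_conj_eq] at hgN
    exact hgN
  -- control of fusion
  apply hasNormalPComplement_of_control_fusion Ps
  rw [hPeq]
  intro x hx g hxg
  have hZC' : Z ≤ Subgroup.centralizer ((Ps : Subgroup G) : Set G) := by rw [hPeq]; exact hZC
  obtain ⟨n, hn, hnx⟩ := wc_fusion Ps Z hZC' hW x (g⁻¹ * x * g) (show x ∈ (Ps : Subgroup G) from hPeq.symm ▸ hx)
    (show g⁻¹ * x * g ∈ (Ps : Subgroup G) from hPeq.symm ▸ hxg) g⁻¹
    (by rw [inv_inv])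
  rw [hNZ] at hn
  obtain ⟨c, hc, hcx⟩ := hMact n hn
  refine ⟨c⁻¹, P.inv_mem hc, ?_⟩
  rw [← hnx, hcx x hx, inv_inv]

/-- the core-free case -/
theorem isSolvable_corefree {M : Subgroup G} (hmax : IsCoatom M) (hnil : Group.IsNilpotent M)
    (hcl : ∀ a b : ↥M, a * b * a⁻¹ * b⁻¹ ∈ Subgroup.center ↥M) (hcore : M.normalCore = ⊥) :
    Group.IsSolvable G := by
  classical
  have hnpc : ∀ p : ℕ, p.Prime → p ∣ Nat.card M → Cfsg.HasNormalPComplement p G :=
    fun p hp hpM => (npc_of_class_two hmax hnil hcl hcore hp hpM).1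
  have hHall : Nat.Coprime (Nat.card M) M.index := by
    apply Nat.coprime_of_dvd
    intro p hp hpM hpi
    exact (npc_of_class_two hmax hnil hcl hcore hp hpM).2 hpi
  obtain ⟨K, hKn, hKc⟩ := exists_normal_complement_of_forall_hasNormalPComplement M hHall hnpc
  have hKM : K ⊓ M = ⊥ := hKc.disjoint.eq_bot
  have hcop : (Nat.card M).Coprime (Nat.card K) := by
    have := hKc.index_eq_card
    rw [← this]; exact hHall
  haveI := hnil
  have hact : CoprimeAction M K := by
    refine ⟨?_, hcop, Or.inl inferInstance⟩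
    rw [Subgroup.normalizer_eq_top_iff.mpr hKn]; exact le_top
  -- `K` is solvable (helper1's argument)
  haveI hKs : Group.IsSolvable K := by
    by_cases hKb : K = ⊥
    · haveI : Subsingleton K := by rw [hKb]; infer_instance
      infer_instance
    have hcard1 : Nat.card K ≠ 1 := fun h => hKb (Subgroup.card_eq_one.mp h)
    obtain ⟨q, hq, hqdvd⟩ := Nat.exists_prime_and_dvd hcard1
    haveI : Fact q.Prime := ⟨hq⟩
    obtain ⟨Q, hQ, hMQ⟩ := coprime_exists_invariant_sylow hact q
    have hQne : Q ≠ ⊥ := by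
      intro h
      have h1 := hQ.card_eq
      rw [h, Subgroup.card_bot] at h1
      have h3 : 0 < (Nat.card K).factorization q :=
        hq.factorization_pos_of_dvd Nat.card_pos.ne' hqdvd
      have : 1 < q ^ (Nat.card K).factorization q := Nat.one_lt_pow h3.ne' hq.one_lt
      omega
    have hlt : M < Q ⊔ M := by
      refine lt_of_le_of_ne le_sup_right ?_
      intro h
      apply hQne
      rw [eq_bot_iff, ← hKM]
      exact le_inf hQ.le (h ▸ le_sup_left)
    have htop : Q ⊔ M = ⊤ := hmax.lt_iff.mp hlt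
    have hKQ : K ≤ Q := by
      intro k hk
      obtain ⟨x, hx, m, hm, hkm⟩ := mem_sup_of_le_normalizer hMQ
        (htop ▸ Subgroup.mem_top k : k ∈ Q ⊔ M)
      have hmK : m ∈ K := by
        have : m = x⁻¹ * k := by rw [hkm]; group
        rw [this]
        exact K.mul_mem (K.inv_mem (hQ.le hx)) hk
      have hm1 : m = 1 := by
        have : m ∈ K ⊓ M := ⟨hmK, hm⟩
        rwa [hKM, Subgroup.mem_bot] at this
      rw [hkm, hm1, mul_one]
      exact hx
    have hKeq : K = Q := le_antisymm hKQ hQ.le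
    have hKq : IsPGroup q K := hKeq ▸ hQ.isPGroup
    haveI : Group.IsNilpotent K := hKq.isNilpotent
    infer_instance
  -- `G ⧸ K` is a quotient of `M`
  haveI hQs : Group.IsSolvable (G ⧸ K) := by
    apply solvable_of_surjective (f := (QuotientGroup.mk' K).comp M.subtype)
    intro t
    obtain ⟨g, rfl⟩ := QuotientGroup.mk_surjective t
    obtain ⟨⟨⟨k, hk⟩, ⟨m, hm⟩⟩, hkm⟩ := hKc.2 g
    have hkm' : k * m = g := hkm
    refine ⟨⟨m, hm⟩, ?_⟩
    show ((m : G) : G ⧸ K) = (g : G ⧸ K)
    rw [← hkm', QuotientGroup.mk_mul, (QuotientGroup.eq_one_iff k).mpr hk, one_mul]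
  exact solvable_of_ker_le_range K.subtype (QuotientGroup.mk' K)
    (by rw [QuotientGroup.ker_mk', Subgroup.range_subtype])

/-- class at most two, elementwise -/
theorem comm_mem_center_of_class_le_two {H : Type*} [Group H] [Group.IsNilpotent H]
    (h : Group.nilpotencyClass H ≤ 2) (a b : H) : a * b * a⁻¹ * b⁻¹ ∈ Subgroup.center H := by
  have h1 : Subgroup.upperCentralSeries H 2 = ⊤ :=
    Subgroup.upperCentralSeries_eq_top_iff_nilpotencyClass_le.mpr h
  have h2 : a ∈ Subgroup.upperCentralSeries H (1 + 1) := by rw [h1]; trivial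
  rw [Subgroup.mem_upperCentralSeries_succ_iff] at h2
  have h3 := h2 b
  rwa [Subgroup.upperCentralSeries_one, commutatorElement_def] at h3

theorem main : ∀ (n : ℕ) (G : Type u) [Group G] [Finite G], Nat.card G = n → ∀ M : Subgroup G,
    IsCoatom M → Group.IsNilpotent M → (∀ a b : ↥M, a * b * a⁻¹ * b⁻¹ ∈ Subgroup.center ↥M) →
    Group.IsSolvable G := by
  intro n
  induction n using Nat.strong_induction_on with
  | _ n ih =>
    intro G _ _ hn M hmax hnil hcl
    by_cases hcore : M.normalCore = ⊥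
    · exact isSolvable_corefree hmax hnil hcl hcore
    obtain ⟨C, hC⟩ : ∃ C : Subgroup G, C = M.normalCore := ⟨_, rfl⟩
    haveI hCn : C.Normal := hC ▸ Subgroup.normalCore_normal M
    have hCM : C ≤ M := hC ▸ Subgroup.normalCore_le M
    have hCne : C ≠ ⊥ := hC ▸ hcore
    have hπ : Function.Surjective (QuotientGroup.mk' C) := QuotientGroup.mk'_surjective C
    have hcomap : (M.map (QuotientGroup.mk' C)).comap (QuotientGroup.mk' C) = M := by
      rw [Subgroup.comap_map_eq, QuotientGroup.ker_mk', sup_eq_left.mpr hCM]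
    have hMb : IsCoatom (M.map (QuotientGroup.mk' C)) := by
      constructor
      · intro h
        apply hmax.1
        rw [← hcomap, h, Subgroup.comap_top]
      · intro L hL
        have h1 : M ≤ L.comap (QuotientGroup.mk' C) := by
          rw [← hcomap]; exact Subgroup.comap_mono hL.le
        have h2 : M ≠ L.comap (QuotientGroup.mk' C) := by
          intro h
          apply hL.ne
          rw [h, Subgroup.map_comap_eq_self_of_surjective hπ]
        have h3 := hmax.lt_iff.mp (lt_of_le_of_ne h1 h2)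
        rw [← Subgroup.map_comap_eq_self_of_surjective hπ L, h3, ← MonoidHom.range_eq_map,
          MonoidHom.range_eq_top]
        exact hπ
    haveI := hnil
    have hsm : Function.Surjective ((QuotientGroup.mk' C).subgroupMap M) :=
      (QuotientGroup.mk' C).subgroupMap_surjective M
    have hMbnil : Group.IsNilpotent (M.map (QuotientGroup.mk' C)) :=
      nilpotent_of_surjective ((QuotientGroup.mk' C).subgroupMap M) hsm
    have hMbcl : ∀ a b : ↥(M.map (QuotientGroup.mk' C)),
        a * b * a⁻¹ * b⁻¹ ∈ Subgroup.center ↥(M.map (QuotientGroup.mk' C)) := by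
      intro a b
      obtain ⟨a', rfl⟩ := hsm a
      obtain ⟨b', rfl⟩ := hsm b
      rw [Subgroup.mem_center_iff]
      intro c
      obtain ⟨c', rfl⟩ := hsm c
      have := Subgroup.mem_center_iff.mp (hcl a' b') c'
      rw [← map_inv, ← map_inv, ← map_mul, ← map_mul, ← map_mul, ← map_mul, ← map_mul, this]
    have hcardlt : Nat.card (G ⧸ C) < Nat.card G := by
      have h1 : Nat.card G = Nat.card (G ⧸ C) * Nat.card C := by
        rw [← Subgroup.index_eq_card, Subgroup.index_mul_card]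
      have h2 : 1 < Nat.card C := (Subgroup.one_lt_card_iff_ne_bot (H := C)).mpr hCne
      have h3 : 0 < Nat.card (G ⧸ C) := Nat.card_pos
      rw [h1]
      nlinarith
    haveI hQ : Group.IsSolvable (G ⧸ C) :=
      ih (Nat.card (G ⧸ C)) (hn ▸ hcardlt) (G ⧸ C) rfl _ hMb hMbnil hMbcl
    haveI hCs : Group.IsSolvable C := by
      haveI : Group.IsNilpotent C :=
        (Group.isNilpotent_congr (Subgroup.subgroupOfEquivOfLe hCM)).mp inferInstance
      infer_instance
    apply solvable_of_ker_le_range C.subtype (QuotientGroup.mk' C)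
    rw [QuotientGroup.ker_mk', Subgroup.range_subtype]

/-- A finite group possessing a maximal subgroup that is nilpotent of class at most 2 is solvable. -/
theorem result {G : Type*} [Group G] [Finite G]
    (M : Subgroup G) (hmax : IsCoatom M) (hnil : Group.IsNilpotent M) (hcl : Group.nilpotencyClass ↥M ≤ 2) :
    Group.IsSolvable G :=
  main _ G rfl M hmax hnil (fun a b => comm_mem_center_of_class_le_two hcl a b)

end Cfsg.Agent.S4039
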