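import Mathlib
import Cfsg.Prelude.Def_Transfer
import Cfsg.Agent.Lib.H1.SchurZassenhaus
import Cfsg.Agent.Lib.H1.NilpotentBasic
import Cfsg.Agent.Lib.H20.TI

set_option autoImplicit false

namespace Cfsg.Agent.S4043

open Cfsg.Agent.Lib.H20
open scoped Pointwise

universe u

/-- unpack a normal `p`-complement of a subgroup as subgroups of the ambient group -/
theorem unpack {G : Type u} [Group G] [Finite G] {p : ℕ} [Fact p.Prime] (A : Subgroup G)
    (h : Cfsg.HasNormalPComplement p A) :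
    ∃ K S : Subgroup G, K ≤ A ∧ S ≤ A ∧ IsPGroup p S ∧ (Nat.card K).Coprime p ∧
      A ≤ Subgroup.normalizer (K : Set G) ∧ K ⊔ S = A := by
  have hp : p.Prime := Fact.out
  obtain ⟨S, K, hKn, hKS⟩ := h
  refine ⟨K.map A.subtype, (S : Subgroup A).map A.subtype, Subgroup.map_subtype_le _,
    Subgroup.map_subtype_le _, S.isPGroup'.map _, ?_, ?_, ?_⟩
  · have h1 : Nat.card (K.map A.subtype) = Nat.card K :=
      (Nat.card_congr (Subgroup.equivMapOfInjective _ A.subtype A.subtype_injective).toEquiv).symm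
    have h2 : (S : Subgroup A).index = Nat.card K := hKS.index_eq_card
    rw [h1, ← h2, Nat.coprime_comm]
    exact (Nat.Prime.coprime_iff_not_dvd hp).mpr S.not_dvd_index
  · intro a ha
    apply Subgroup.mem_normalizer_fintype
    rintro _ ⟨k, hk, rfl⟩
    refine ⟨⟨a, ha⟩ * k * ⟨a, ha⟩⁻¹, hKn.conj_mem k hk ⟨a, ha⟩, ?_⟩
    simp
  · rw [← Subgroup.map_sup, hKS.sup_eq_top, ← MonoidHom.range_eq_map, Subgroup.range_subtype]

theorem disjoint_of_pgroup_coprime {G : Type u} [Group G] [Finite G] {p : ℕ} [Fact p.Prime]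
    {N K : Subgroup G} (hN : IsPGroup p N) (hK : (Nat.card K).Coprime p) :
    (Nat.card N).Coprime (Nat.card K) := by
  obtain ⟨j, hj⟩ := hN.exists_card_eq
  rw [hj]
  exact (Nat.Coprime.pow_right j hK).symm

/-- the key step: two supplements sharing the normal `p`-complement -/
theorem key {G : Type u} [Group G] [Finite G] {p : ℕ} [Fact p.Prime] (N : Subgroup G) [N.Normal]
    (hN : IsPGroup p N) (A A₁ K₀ S : Subgroup G) (hA : A.IsComplement' N)
    (hK₀p : (Nat.card K₀).Coprime p) (hS : IsPGroup p S) (hSA : S ≤ A)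
    (hAK : A ≤ Subgroup.normalizer (K₀ : Set G)) (hA₁K : A₁ ≤ Subgroup.normalizer (K₀ : Set G))
    (hsup : K₀ ⊔ S = A)
    (hC : ∀ n : G, n ∈ N → (∀ a : G, a ∈ A → a * n * a⁻¹ = n) → n = 1) : A₁ ≤ A := by
  classical
  have hcopNK := disjoint_of_pgroup_coprime hN hK₀p
  have hdisjNK : ∀ x, x ∈ N → x ∈ K₀ → x = 1 := by
    intro x h1 h2
    have := Subgroup.disjoint_of_coprime_natCard hcopNK
    rw [Subgroup.disjoint_def] at this
    exact this h1 h2
  set N₀ := N ⊓ Subgroup.normalizer (K₀ : Set G) with hN₀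
  -- (a) N₀ centralizes K₀
  have ha : ∀ n ∈ N₀, ∀ k ∈ K₀, n * k = k * n := by
    intro n hn k hk
    obtain ⟨hnN, hnW⟩ := Subgroup.mem_inf.mp hn
    have h1 : n * k * n⁻¹ ∈ K₀ := (Subgroup.mem_normalizer_iff.mp hnW k).mp hk
    have h2 : n * k * n⁻¹ * k⁻¹ = 1 := by
      apply hdisjNK
      · have h3 : k * n⁻¹ * k⁻¹ ∈ N := ‹N.Normal›.conj_mem _ (N.inv_mem hnN) k
        have := N.mul_mem hnN h3
        have e : n * (k * n⁻¹ * k⁻¹) = n * k * n⁻¹ * k⁻¹ := by group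
        rwa [e] at this
      · exact K₀.mul_mem h1 (K₀.inv_mem hk)
    have h4 : n * k * n⁻¹ = k := mul_inv_eq_one.mp h2
    calc n * k = (n * k * n⁻¹) * n := by group
      _ = k * n := by rw [h4]
  -- (b) N₀ is trivial
  have hN₀bot : N₀ = ⊥ := by
    by_contra hne
    have hSN₀ : S ≤ Subgroup.normalizer (N₀ : Set G) := by
      intro s hs
      apply Subgroup.mem_normalizer_fintype
      intro x hx
      obtain ⟨hxN, hxW⟩ := Subgroup.mem_inf.mp hx
      have hsW : s ∈ Subgroup.normalizer (K₀ : Set G) := hAK (hSA hs)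
      refine Subgroup.mem_inf.mpr ⟨‹N.Normal›.conj_mem x hxN s, ?_⟩
      exact Subgroup.mul_mem _ (Subgroup.mul_mem _ hsW hxW) (Subgroup.inv_mem _ hsW)
    have hN₀p : IsPGroup p N₀ := hN.to_le inf_le_left
    have hTp : IsPGroup p (N₀ ⊔ S : Subgroup G) := hN₀p.to_sup_of_normal_left' hS hSN₀
    haveI : Group.IsNilpotent (N₀ ⊔ S : Subgroup G) := hTp.isNilpotent
    have hN₀T : N₀ ≤ N₀ ⊔ S := le_sup_left
    haveI : (N₀.subgroupOf (N₀ ⊔ S)).Normal := by
      rw [Subgroup.normal_subgroupOf_iff_le_normalizer hN₀T]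
      exact sup_le Subgroup.le_normalizer hSN₀
    have hne' : N₀.subgroupOf (N₀ ⊔ S) ≠ ⊥ := by
      intro hb
      apply hne
      rw [eq_bot_iff]
      intro x hx
      have : (⟨x, hN₀T hx⟩ : (N₀ ⊔ S : Subgroup G)) ∈ N₀.subgroupOf (N₀ ⊔ S) :=
        Subgroup.mem_subgroupOf.mpr hx
      rw [hb, Subgroup.mem_bot] at this
      rw [Subgroup.mem_bot]
      exact congrArg Subtype.val this
    have hz := Cfsg.Agent.Lib.H1.normal_inf_center_ne_bot (N₀.subgroupOf (N₀ ⊔ S)) hne'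
    obtain ⟨⟨z, hz1, hz2⟩, hzne⟩ := (Subgroup.ne_bot_iff_exists_ne_one).mp hz
    have hzN₀ : (z : G) ∈ N₀ := Subgroup.mem_subgroupOf.mp hz1
    have hz1' : (z : G) ≠ 1 := by
      intro h
      apply hzne
      apply Subtype.ext
      exact Subtype.ext h
    apply hz1'
    apply hC (z : G) (Subgroup.mem_inf.mp hzN₀).1
    -- z commutes with K₀ and S, hence with A
    have hle : A ≤ Subgroup.centralizer ({(z : G)} : Set G) := by
      rw [← hsup]
      apply sup_le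
      · intro k hk
        rw [Subgroup.mem_centralizer_singleton_iff]
        exact (ha z hzN₀ k hk).symm
      · intro s hs
        rw [Subgroup.mem_centralizer_singleton_iff]
        have := (Subgroup.mem_center_iff.mp hz2) ⟨s, Subgroup.mem_sup_right hs⟩
        have h2 := congrArg Subtype.val this
        simpa using h2
    intro a haA
    have := hle haA
    rw [Subgroup.mem_centralizer_singleton_iff] at this
    rw [this]; group
  -- (c)
  intro a₁ ha₁
  obtain ⟨a, haA, n', hn', hmul⟩ := Cfsg.Agent.Lib.H1.isComplement'_exists_mul hA a₁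
  have hn'W : n' ∈ Subgroup.normalizer (K₀ : Set G) := by
    have : n' = a⁻¹ * a₁ := by rw [hmul]; group
    rw [this]
    exact Subgroup.mul_mem _ (Subgroup.inv_mem _ (hAK haA)) (hA₁K ha₁)
  have hn'1 : n' = 1 := by
    have : n' ∈ N₀ := Subgroup.mem_inf.mpr ⟨hn', hn'W⟩
    rw [hN₀bot, Subgroup.mem_bot] at this
    exact this
  rw [hmul, hn'1, mul_one]
  exact haA

/-- every `p'`-element lies in `N ⊔ K₁` -/
theorem le_sup_of_coprime {G : Type u} [Group G] [Finite G] {p : ℕ} [Fact p.Prime]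
    (N : Subgroup G) [N.Normal] (A₁ K₁ S₁ K : Subgroup G) (hA₁ : A₁.IsComplement' N)
    (hS₁ : IsPGroup p S₁) (hA₁K : A₁ ≤ Subgroup.normalizer (K₁ : Set G))
    (hsup₁ : K₁ ⊔ S₁ = A₁) (hK₁A₁ : K₁ ≤ A₁) (hKp : (Nat.card K).Coprime p) : K ≤ N ⊔ K₁ := by
  classical
  have hp : p.Prime := Fact.out
  -- N ⊔ K₁ is normal
  have hnorm : (N ⊔ K₁).Normal := by
    rw [← Subgroup.normalizer_eq_top_iff, eq_top_iff, ← hA₁.sup_eq_top]
    apply sup_le
    · intro a ha
      apply Subgroup.mem_normalizer_fintype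
      have hsub : N ⊔ K₁ ≤ (N ⊔ K₁).comap (MulAut.conj a).toMonoidHom := by
        apply sup_le
        · intro x hx
          rw [Subgroup.mem_comap]
          simp only [MulEquiv.coe_toMonoidHom, MulAut.conj_apply]
          exact Subgroup.mem_sup_left (‹N.Normal›.conj_mem x hx a)
        · intro x hx
          rw [Subgroup.mem_comap]
          simp only [MulEquiv.coe_toMonoidHom, MulAut.conj_apply]
          exact Subgroup.mem_sup_right ((Subgroup.mem_normalizer_iff.mp (hA₁K ha) x).mp hx)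
      intro x hx
      have := hsub hx
      rw [Subgroup.mem_comap] at this
      simpa [MulAut.conj_apply] using this
    · exact le_sup_left.trans Subgroup.le_normalizer
  intro k hk
  obtain ⟨a₁, ha₁, n, hn, hmul⟩ := Cfsg.Agent.Lib.H1.isComplement'_exists_mul hA₁ k
  -- a₁ = k₁ s₁
  have ha₁' : a₁ ∈ ((K₁ ⊔ S₁ : Subgroup G) : Set G) := by rw [hsup₁]; exact ha₁
  haveI : (K₁.subgroupOf A₁).Normal := by
    rw [Subgroup.normal_subgroupOf_iff_le_normalizer hK₁A₁]; exact hA₁K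
  have hS₁A₁ : S₁ ≤ A₁ := by rw [← hsup₁]; exact le_sup_right
  -- work in the quotient G ⧸ (N ⊔ K₁)
  rw [← QuotientGroup.eq_one_iff (N := N ⊔ K₁), ← orderOf_eq_one_iff]
  -- image of k equals image of some element of S₁
  have hex : ∃ s ∈ S₁, ((k : G) : G ⧸ (N ⊔ K₁)) = ((s : G) : G ⧸ (N ⊔ K₁)) := by
    have h1 : a₁ ∈ K₁ ⊔ S₁ := by rw [hsup₁]; exact ha₁
    have hK₁S₁ : S₁ ≤ Subgroup.normalizer (K₁ : Set G) := hS₁A₁.trans hA₁K
    -- a₁ = k₁ * s₁ using normality of K₁ in K₁ ⊔ S₁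
    have h2 : ∃ k₁ ∈ K₁, ∃ s ∈ S₁, a₁ = k₁ * s := by
      have h3 : a₁ ∈ ((K₁ ⊔ S₁ : Subgroup G) : Set G) := h1
      rw [Subgroup.coe_mul_of_right_le_normalizer_left K₁ S₁ hK₁S₁] at h3
      obtain ⟨k₁, hk₁, s, hs, e⟩ := h3
      exact ⟨k₁, hk₁, s, hs, e.symm⟩
    obtain ⟨k₁, hk₁, s, hs, has⟩ := h2
    refine ⟨s, hs, ?_⟩
    rw [QuotientGroup.eq]
    -- k⁻¹ * s ∈ N ⊔ K₁ ; k = k₁ s n
    have hk_eq : k = k₁ * s * n := by rw [hmul, has]
    have e : k⁻¹ * s = n⁻¹ * (s⁻¹ * k₁ * s)⁻¹ := by rw [hk_eq]; group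
    rw [e]
    apply Subgroup.mul_mem
    · apply Subgroup.inv_mem
      exact Subgroup.mem_sup_left hn
    · apply Subgroup.inv_mem
      apply Subgroup.mem_sup_right
      have := (Subgroup.mem_normalizer_iff.mp (Subgroup.inv_mem _ (hK₁S₁ hs)) k₁).mp hk₁
      simpa using this
  obtain ⟨s, hs, hks⟩ := hex
  obtain ⟨j, hj⟩ := (IsPGroup.iff_orderOf.mp hS₁) ⟨s, hs⟩
  rw [Subgroup.orderOf_mk] at hj
  have h1 : orderOf ((k : G) : G ⧸ (N ⊔ K₁)) ∣ p ^ j := by
    rw [hks, ← hj]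
    exact orderOf_map_dvd (QuotientGroup.mk' (N ⊔ K₁)) s
  have h2 : orderOf ((k : G) : G ⧸ (N ⊔ K₁)) ∣ Nat.card K := by
    have h3 : orderOf ((k : G) : G ⧸ (N ⊔ K₁)) ∣ orderOf k :=
      orderOf_map_dvd (QuotientGroup.mk' (N ⊔ K₁)) k
    have h4 : orderOf (⟨k, hk⟩ : K) ∣ Nat.card K := orderOf_dvd_natCard _
    rw [Subgroup.orderOf_mk] at h4
    exact h3.trans h4
  exact Nat.eq_one_of_dvd_coprimes (Nat.Coprime.pow_left j hKp.symm) h1 h2

theorem result {G : Type*} [Group G] [Finite G] {p : ℕ}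
    [Fact p.Prime] (N : Subgroup G) [N.Normal] (hN : IsPGroup p N) (A A₁ : Subgroup G)
    (hA : A.IsComplement' N) (hA₁ : A₁.IsComplement' N)
    (hAp : Cfsg.HasNormalPComplement p A) (hA₁p : Cfsg.HasNormalPComplement p A₁)
    (hC : ∀ n : G, n ∈ N → (∀ a : G, a ∈ A → a * n * a⁻¹ = n) → n = 1)
    (hC₁ : ∀ n : G, n ∈ N → (∀ a : G, a ∈ A₁ → a * n * a⁻¹ = n) → n = 1) :
    ∃ n : G, n ∈ N ∧ A₁ = A.map (MulAut.conj n).toMonoidHom := by
  classical
  obtain ⟨K, S, hKA, hSA, hSp, hKp, hAK, hsup⟩ := unpack A hAp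
  obtain ⟨K₁, S₁, hK₁A₁, hS₁A₁, hS₁p, hK₁p, hA₁K₁, hsup₁⟩ := unpack A₁ hA₁p
  have h1 : K ≤ N ⊔ K₁ := le_sup_of_coprime N A₁ K₁ S₁ K hA₁ hS₁p hA₁K₁ hsup₁ hK₁A₁ hKp
  have h2 : K₁ ≤ N ⊔ K := le_sup_of_coprime N A K S K₁ hA hSp hAK hsup hKA hK₁p
  have hsupeq : N ⊔ K = N ⊔ K₁ :=
    le_antisymm (sup_le le_sup_left h1) (sup_le le_sup_left h2)
  have hNtop : ∀ X : Subgroup G, X ≤ Subgroup.normalizer (N : Set G) := by
    intro X
    rw [Subgroup.normalizer_eq_top]; exact le_top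
  have hsolv : Group.IsSolvable N := by
    haveI : Group.IsNilpotent N := hN.isNilpotent
    infer_instance
  have hcopK := disjoint_of_pgroup_coprime hN hKp
  have hcopK₁ := disjoint_of_pgroup_coprime hN hK₁p
  obtain ⟨n, hnN, hn⟩ := Cfsg.Agent.Lib.H1.sz_conj_internal (N := N) (H := K) (K := K₁)
    (hNtop _) (hNtop _) hcopK (Subgroup.disjoint_of_coprime_natCard hcopK)
    (Subgroup.disjoint_of_coprime_natCard hcopK₁) hsupeq (Or.inl hsolv)
  refine ⟨n, hnN, ?_⟩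
  rw [map_conj_eq_smul]
  -- A' = conj n • A normalizes K₁
  have hA'K₁ : MulAut.conj n • A ≤ Subgroup.normalizer (K₁ : Set G) := by
    intro x hx
    rw [mem_conj_smul_iff] at hx
    have hx' := hAK hx
    apply Subgroup.mem_normalizer_fintype
    intro y hy
    rw [SetLike.mem_coe, ← hn, mem_conj_smul_iff] at hy ⊢
    have := (Subgroup.mem_normalizer_iff.mp hx' _).mp hy
    have e : n⁻¹ * (x * y * x⁻¹) * n = (n⁻¹ * x * n) * (n⁻¹ * y * n) * (n⁻¹ * x * n)⁻¹ := by group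
    rw [e]; exact this
  have hle : MulAut.conj n • A ≤ A₁ :=
    key N hN A₁ (MulAut.conj n • A) K₁ S₁ hA₁ hK₁p hS₁p hS₁A₁ hA₁K₁ hA'K₁ hsup₁ hC₁
  have hcard : Nat.card (MulAut.conj n • A : Subgroup G) = Nat.card A₁ := by
    rw [← Nat.card_congr (Subgroup.equivSMul (MulAut.conj n) A).toEquiv]
    exact (Cfsg.Agent.Lib.H1.card_eq_of_isComplement' hA₁.symm hA.symm)
  exact (Subgroup.eq_of_le_of_card_ge hle (le_of_eq hcard.symm)).symm

end Cfsg.Agent.S4043
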