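import Mathlib
import Cfsg.Agent.Lib.H20.NCQuotient
import Cfsg.Agent.Lib.H20.TwoInvolutions

set_option autoImplicit false

namespace Cfsg.Agent.S4049

open Cfsg.Agent.Lib.H20

universe u

/-- the hypothesis as a predicate on groups -/
def Hyp (G : Type u) [Group G] : Prop :=
  ∀ H : Subgroup G, H ≠ ⊥ → ¬ 2 ∣ Nat.card ↥H →
    ¬ 2 ∣ (Subgroup.centralizer (H : Set G)).relIndex (Subgroup.normalizer (H : Set G))

theorem hyp_no_inversion (G : Type u) [Group G] [Finite G] (h : Hyp G) :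
    ∀ s w : G, orderOf s = 2 → Odd (orderOf w) → s * w * s⁻¹ = w⁻¹ → w = 1 := by
  intro s w hs hw hsw
  haveI : Fact (Nat.Prime 2) := ⟨Nat.prime_two⟩
  by_contra hw1
  have hne : Subgroup.zpowers w ≠ ⊥ := by
    intro hbot
    have : w ∈ Subgroup.zpowers w := Subgroup.mem_zpowers w
    rw [hbot, Subgroup.mem_bot] at this
    exact hw1 this
  have hodd : ¬ 2 ∣ Nat.card (Subgroup.zpowers w) := by
    rw [Nat.card_zpowers]
    intro hd
    exact (Nat.not_even_iff_odd.mpr hw) (even_iff_two_dvd.mpr hd)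
  have hsN : s ∈ Subgroup.normalizer ((Subgroup.zpowers w : Subgroup G) : Set G) := by
    apply Subgroup.mem_normalizer_fintype
    intro n hn
    obtain ⟨k, rfl⟩ := Subgroup.mem_zpowers_iff.mp hn
    have e1 : s * w ^ k * s⁻¹ = MulAut.conj s (w ^ k) := by simp [MulAut.conj_apply]
    have e2 : s * w * s⁻¹ = MulAut.conj s w := by simp [MulAut.conj_apply]
    rw [SetLike.mem_coe, e1, map_zpow, ← e2, hsw]
    exact Subgroup.zpow_mem _ (Subgroup.inv_mem _ (Subgroup.mem_zpowers w)) k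
  have hsC := mem_centralizer_of_not_dvd_relIndex 2 (Subgroup.zpowers w)
    (h _ hne hodd) s hsN ⟨1, by rw [hs, pow_one]⟩
  have hcomm : w * s = s * w :=
    Subgroup.mem_centralizer_iff.mp hsC w (Subgroup.mem_zpowers w)
  have h1 : s * w * s⁻¹ = w := by rw [← hcomm]; group
  have h2 : w⁻¹ = w := by rw [← hsw, h1]
  have h3 : w ^ 2 = 1 := by rw [pow_two]; nth_rewrite 1 [← h2]; exact inv_mul_cancel w
  have h4 : orderOf w ∣ 2 := orderOf_dvd_of_pow_eq_one h3
  rcases (Nat.dvd_prime Nat.prime_two).mp h4 with h | h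
  · exact hw1 (orderOf_eq_one_iff.mp h)
  · rw [h] at hw; exact (by decide : ¬ Odd 2) hw

theorem hyp_quotient (G : Type u) [Group G] [Finite G] (O : Subgroup G) [O.Normal]
    (hO : IsPGroup 2 O) (h : Hyp G) : Hyp (G ⧸ O) := by
  haveI : Fact (Nat.Prime 2) := ⟨Nat.prime_two⟩
  intro Hbar hHbar1 hHbarodd
  obtain ⟨H₀, hcard, hmap, hlift⟩ := exists_lift_normalizer 2 O hO Hbar hHbarodd
  have hH₀1 : H₀ ≠ ⊥ := by
    intro hbot
    rw [hbot, Subgroup.card_bot] at hcard
    exact hHbar1 (Subgroup.card_eq_one.mp hcard.symm)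
  have hH₀odd : ¬ 2 ∣ Nat.card H₀ := by rw [hcard]; exact hHbarodd
  have hG := h H₀ hH₀1 hH₀odd
  apply not_dvd_relIndex_of_forall_mem
  intro gbar hgN hg2
  obtain ⟨a, haN, ha2, rfl⟩ := hlift gbar hgN hg2
  have haC := mem_centralizer_of_not_dvd_relIndex 2 H₀ hG a haN ha2
  rw [Subgroup.mem_centralizer_iff]
  intro xbar hx
  have hx' : xbar ∈ H₀.map (QuotientGroup.mk' O) := by rw [hmap]; exact hx
  obtain ⟨x, hxH, rfl⟩ := hx'
  have := Subgroup.mem_centralizer_iff.mp haC x hxH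
  rw [← map_mul, ← map_mul, this]

theorem result {G : Type*} [Group G] [Finite G]
    (hhom : ∀ H : Subgroup G, H ≠ ⊥ → ¬ 2 ∣ Nat.card ↥H →
        ¬ 2 ∣ (Subgroup.centralizer (H : Set G)).relIndex (Subgroup.normalizer (H : Set G))) (P : Sylow 2 G) :
    (P : Subgroup G).Normal :=
  sylow_two_normal_of_hereditary (fun G _ => Hyp G) hyp_no_inversion hyp_quotient
    (Nat.card G) G rfl hhom P

end Cfsg.Agent.S4049
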