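import Cfsg.Statements.S4050
import Cfsg.Agent.Lib.H22.PiClosed

set_option autoImplicit false
open Cfsg

namespace Cfsg.Agent.S4050

open Cfsg.Agent.Lib.H22.PiClosed

/-- forward direction: a `π`-closed group is `π`-separable and `π'`-homogeneous -/
theorem forward {G : Type*} [Group G] [Finite G] (π : Set ℕ) (K : Subgroup G)
    (hK : ∀ x : G, x ∈ K ↔ IsPi π x) :
    (∃ (n : ℕ) (H : Fin (n + 1) → Subgroup G), H 0 = ⊥ ∧ H (Fin.last n) = ⊤ ∧ Monotone H ∧ (∀ i, (H i).Normal) ∧
      ∀ i : Fin n, (∀ q : ℕ, q.Prime → q ∣ (H i.castSucc).relIndex (H i.succ) → q ∈ π) ∨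
        (∀ q : ℕ, q.Prime → q ∣ (H i.castSucc).relIndex (H i.succ) → q ∉ π)) ∧
     (∀ H : Subgroup G, H ≠ ⊥ → (∀ p : ℕ, p.Prime → p ∣ Nat.card ↥H → p ∉ π) →
        ∀ p : ℕ, p.Prime → p ∣ (Subgroup.centralizer (H : Set G)).relIndex (Subgroup.normalizer (H : Set G)) → p ∉ π) := by
  have hKn : K.Normal := by
    constructor
    intro x hx g
    rw [hK] at hx ⊢
    apply hx.of_orderOf_dvd
    have hsc : SemiconjBy g x (g * x * g⁻¹) := by unfold SemiconjBy; group
    rw [hsc.orderOf_eq]
  have hsyl : ∀ (q : ℕ) [Fact q.Prime], q ∈ π → ∀ (X : Subgroup G) (P : Sylow q ↥X),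
      (P : Subgroup ↥X).map X.subtype ≤ K := by
    intro q hq hqπ X P
    rintro _ ⟨s, hs, rfl⟩
    obtain ⟨k, hk⟩ := (IsPGroup.iff_orderOf.mp P.2) ⟨s, hs⟩
    rw [hK]
    apply isPi_of_orderOf_eq_prime_pow hq.out hqπ (k := k)
    show orderOf (s : G) = q ^ k
    rw [Subgroup.orderOf_coe, ← Subgroup.orderOf_mk s hs]
    exact hk
  refine ⟨⟨2, ![⊥, K, ⊤], rfl, rfl, ?_, ?_, ?_⟩, ?_⟩
  · rw [Fin.monotone_iff_le_succ]
    intro i
    fin_cases i
    · exact bot_le
    · exact le_top
  · intro i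
    fin_cases i
    · exact (inferInstance : (⊥ : Subgroup G).Normal)
    · exact hKn
    · exact (inferInstance : (⊤ : Subgroup G).Normal)
  · intro i
    fin_cases i
    · left
      intro q hq hd
      have hd' : q ∣ Nat.card K := by
        have : (⊥ : Subgroup G).relIndex K = Nat.card K := Subgroup.relIndex_bot_left K
        rw [← this]; exact hd
      exact prime_mem_of_dvd_card K (fun x hx => (hK x).mp hx) hq hd'
    · right
      intro q hq hd hqπ
      have hd' : q ∣ K.index := by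
        have : K.relIndex ⊤ = K.index := Subgroup.relIndex_top_right K
        rw [← this]; exact hd
      have : Fact q.Prime := ⟨hq⟩
      obtain ⟨P⟩ : Nonempty (Sylow q G) := inferInstance
      have hPK : (P : Subgroup G) ≤ K := by
        intro x hx
        obtain ⟨k, hk⟩ := (IsPGroup.iff_orderOf.mp P.2) ⟨x, hx⟩
        rw [hK]
        apply isPi_of_orderOf_eq_prime_pow hq hqπ (k := k)
        rw [← Subgroup.orderOf_mk x hx]
        exact hk
      exact P.not_dvd_index (hd'.trans (Subgroup.index_dvd_of_le hPK))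
  · intro H hH hHπ p hp hd hpπ
    have : Fact p.Prime := ⟨hp⟩
    set N := Subgroup.normalizer (H : Set G) with hN
    set C := Subgroup.centralizer (H : Set G) with hC
    obtain ⟨P⟩ : Nonempty (Sylow p ↥N) := inferInstance
    have hPC : (P : Subgroup ↥N) ≤ C.subgroupOf N := by
      intro y hy
      rw [Subgroup.mem_subgroupOf, Subgroup.mem_centralizer_iff]
      have hyK : (y : G) ∈ K := hsyl p hpπ N P ⟨y, hy, rfl⟩
      intro h hh
      set c := (y : G) * h * (y : G)⁻¹ * h⁻¹ with hc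
      have hcH : c ∈ H :=
        H.mul_mem ((Subgroup.mem_normalizer_iff.mp y.2 h).mp hh) (H.inv_mem hh)
      have hcK : c ∈ K := by
        have e : c = (y : G) * (h * (y : G)⁻¹ * h⁻¹) := by rw [hc]; group
        rw [e]
        exact K.mul_mem hyK (hKn.conj_mem _ (K.inv_mem hyK) h)
      have hc1 : c = 1 := by
        by_contra hne
        have hne' : orderOf c ≠ 1 := by rwa [Ne, orderOf_eq_one_iff]
        obtain ⟨q, hq, hqd⟩ := Nat.exists_prime_and_dvd hne'
        exact hHπ q hq (hqd.trans (Subgroup.orderOf_dvd_natCard H hcH)) ((hK c).mp hcK q hq hqd)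
      have e2 : (y : G) * h = c * (h * (y : G)) := by rw [hc]; group
      rw [e2, hc1, one_mul]
    have h1 : C.relIndex N ∣ (P : Subgroup ↥N).index := Subgroup.index_dvd_of_le hPC
    exact P.not_dvd_index (hd.trans h1)

/-- Let π be a set of primes and G a finite group. The π-elements of G (elements whose order is divisible only by primes of π) form a subgroup if and only if G is π-separable (it has a chain of normal subgroups from 1 to G with each successive index divisible only by primes in π or only by primes outside π) and N_G(H)/C_G(H) is a π'-group for every nontrivial π'-subgroup H of G. -/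
theorem result {G : Type*} [Group G] [Finite G] (π : Set ℕ)
    (hπ : ∀ p ∈ π, p.Prime) :
    (∃ K : Subgroup G, ∀ x : G, x ∈ K ↔ ∀ p : ℕ, p.Prime → p ∣ orderOf x → p ∈ π) ↔
    ((∃ (n : ℕ) (H : Fin (n + 1) → Subgroup G), H 0 = ⊥ ∧ H (Fin.last n) = ⊤ ∧ Monotone H ∧ (∀ i, (H i).Normal) ∧
      ∀ i : Fin n, (∀ q : ℕ, q.Prime → q ∣ (H i.castSucc).relIndex (H i.succ) → q ∈ π) ∨
        (∀ q : ℕ, q.Prime → q ∣ (H i.castSucc).relIndex (H i.succ) → q ∉ π)) ∧
     (∀ H : Subgroup G, H ≠ ⊥ → (∀ p : ℕ, p.Prime → p ∣ Nat.card ↥H → p ∉ π) →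
        ∀ p : ℕ, p.Prime → p ∣ (Subgroup.centralizer (H : Set G)).relIndex (Subgroup.normalizer (H : Set G)) → p ∉ π)) := by
  constructor
  · rintro ⟨K, hK⟩
    exact forward π K hK
  · rintro ⟨⟨n, H, h0, hlast, hmono, hnorm, hfac⟩, hhom⟩
    have hE := homE_of_relIndex hhom
    have key : ∀ i : ℕ, ∀ hi : i < n + 1,
        ∃ W : Subgroup G, ∀ x, x ∈ W ↔ x ∈ H ⟨i, hi⟩ ∧ IsPi π x := by
      intro i
      induction i with
      | zero =>
        intro hi
        refine ⟨⊥, fun x => ?_⟩
        have h0' : H ⟨0, hi⟩ = ⊥ := h0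
        rw [h0', Subgroup.mem_bot]
        constructor
        · intro h; rw [h]; exact ⟨rfl, IsPi.one⟩
        · intro h; exact h.1
      | succ i ih =>
        intro hi
        have hi' : i < n := by omega
        exact exists_pi_subgroup_step hE (A := H (Fin.castSucc ⟨i, hi'⟩))
          (B := H (Fin.succ ⟨i, hi'⟩)) (hnorm _) (ih (by omega)) (hfac ⟨i, hi'⟩)
    obtain ⟨W, hW⟩ := key n (by omega)
    have hl : H ⟨n, by omega⟩ = ⊤ := hlast
    refine ⟨W, fun x => ?_⟩
    rw [hW, hl]
    exact ⟨fun h => h.2, fun h => ⟨Subgroup.mem_top x, h⟩⟩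

end Cfsg.Agent.S4050
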