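import Mathlib
import Cfsg.Prelude.Def_Transfer
import Cfsg.Agent.Lib.H1.PGroupBasic

set_option autoImplicit false
open Cfsg

namespace Cfsg.Agent.S4056

open scoped commutatorElement in
theorem result {P : Type*} [Group P] [Finite P] (hP : IsPGroup 2 P)
    (hcl : Group.nilpotencyClass P ≤ 2) (hexp : Monoid.exponent P ∣ 4) :
    frattini P ≤ Subgroup.center P ∧ Cfsg.IsElementaryAbelian 2 (frattini P) := by
  haveI : Fact (Nat.Prime 2) := ⟨Nat.prime_two⟩
  haveI : Group.IsNilpotent P := hP.isNilpotent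
  have hucs : Subgroup.upperCentralSeries P 2 = ⊤ :=
    Subgroup.upperCentralSeries_eq_top_iff_nilpotencyClass_le.mpr hcl
  have h4 : ∀ x : P, x ^ 4 = 1 := Monoid.exponent_dvd_iff_forall_pow_eq_one.mp hexp
  -- commutators are central
  have hcc : ∀ x y z : P, z * (x * y * x⁻¹ * y⁻¹) = (x * y * x⁻¹ * y⁻¹) * z := by
    intro x y z
    have h1 : x ∈ Subgroup.upperCentralSeries P (1 + 1) := by rw [hucs]; trivial
    rw [Subgroup.mem_upperCentralSeries_succ_iff] at h1
    have h2 := h1 y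
    rw [Subgroup.upperCentralSeries_one, commutatorElement_def] at h2
    exact Subgroup.mem_center_iff.mp h2 z
  have key : ∀ (x y : P) (n : ℕ),
      x * y ^ n = (x * y * x⁻¹ * y⁻¹) ^ n * (y ^ n * x) := by
    intro x y n
    set c := x * y * x⁻¹ * y⁻¹ with hc_def
    have hc : ∀ z : P, z * c = c * z := fun z => hcc x y z
    have hxy : x * y = c * (y * x) := by rw [hc_def]; group
    induction n with
    | zero => simp
    | succ n ih =>
      calc x * y ^ (n + 1) = (x * y ^ n) * y := by rw [pow_succ, mul_assoc]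
        _ = c ^ n * (y ^ n * x) * y := by rw [ih]
        _ = c ^ n * (y ^ n * (x * y)) := by simp only [mul_assoc]
        _ = c ^ n * (y ^ n * (c * (y * x))) := by rw [hxy]
        _ = c ^ n * (c * (y ^ n * (y * x))) := by
            rw [← mul_assoc (y ^ n) c, hc (y ^ n), mul_assoc]
        _ = c ^ (n + 1) * (y ^ (n + 1) * x) := by
            rw [pow_succ, pow_succ]; simp only [mul_assoc]
  have hc4 : ∀ x y : P, (x * y * x⁻¹ * y⁻¹) ^ 4 = 1 := by
    intro x y
    have := key x y 4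
    rw [h4 y, mul_one, one_mul] at this
    exact (mul_eq_right).mp this.symm
  have hc2 : ∀ x y : P, (x * y * x⁻¹ * y⁻¹) ^ 2 = 1 := by
    intro x y
    set c := x * y * x⁻¹ * y⁻¹ with hc_def
    have hc : ∀ z : P, z * c = c * z := fun z => hcc x y z
    have hxy : x * y = c * (y * x) := by rw [hc_def]; group
    have h2 : x * y ^ 2 = c ^ 2 * (y ^ 2 * x) := key x y 2
    have h3 : x ^ 2 * y ^ 2 = y ^ 2 * x ^ 2 := by
      calc x ^ 2 * y ^ 2 = x * (x * y ^ 2) := by rw [pow_two, mul_assoc]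
        _ = x * (c ^ 2 * (y ^ 2 * x)) := by rw [h2]
        _ = c ^ 2 * ((x * y ^ 2) * x) := by
            rw [← mul_assoc x (c ^ 2), (Commute.pow_right (hc x) 2 : x * c ^ 2 = c ^ 2 * x)]
            simp only [mul_assoc]
        _ = c ^ 2 * ((c ^ 2 * (y ^ 2 * x)) * x) := by rw [h2]
        _ = c ^ 4 * (y ^ 2 * x ^ 2) := by
            rw [show (4 : ℕ) = 2 + 2 from rfl, pow_add, pow_two x]; simp only [mul_assoc]
        _ = y ^ 2 * x ^ 2 := by rw [hc4 x y, one_mul]
    have h5 : (x * y) ^ 2 = c * (y * x ^ 2 * y) := by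
      calc (x * y) ^ 2 = (x * y) * (x * y) := pow_two _
        _ = c * (y * x) * (x * y) := by rw [hxy]
        _ = c * (y * x ^ 2 * y) := by rw [pow_two]; simp only [mul_assoc]
    have h6 : (y * x ^ 2 * y) * (y * x ^ 2 * y) = 1 := by
      calc (y * x ^ 2 * y) * (y * x ^ 2 * y) = y * (x ^ 2 * y ^ 2) * x ^ 2 * y := by
            rw [pow_two y]; simp only [mul_assoc]
        _ = y * (y ^ 2 * x ^ 2) * x ^ 2 * y := by rw [h3]
        _ = y ^ 3 * x ^ 4 * y := by
            rw [show (3 : ℕ) = 1 + 2 from rfl, show (4 : ℕ) = 2 + 2 from rfl, pow_add, pow_add, pow_one]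
            simp only [mul_assoc]
        _ = y ^ 4 := by
            rw [h4 x, mul_one, show (4 : ℕ) = 3 + 1 from rfl, pow_add y 3 1, pow_one]
        _ = 1 := h4 y
    have h7 : (x * y) ^ 4 = c ^ 2 := by
      calc (x * y) ^ 4 = (x * y) ^ 2 * (x * y) ^ 2 := by
            rw [← pow_add]
        _ = c * (y * x ^ 2 * y) * (c * (y * x ^ 2 * y)) := by rw [h5]
        _ = c * c * ((y * x ^ 2 * y) * (y * x ^ 2 * y)) := by
            rw [mul_assoc c (y * x ^ 2 * y), ← mul_assoc (y * x ^ 2 * y) c, hc (y * x ^ 2 * y)]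
            simp only [mul_assoc]
        _ = c ^ 2 := by rw [h6, mul_one, pow_two]
    rw [← h7]; exact h4 _
  have hsq : ∀ x y : P, y * x ^ 2 = x ^ 2 * y := by
    intro x y
    have := key y x 2
    rw [hc2 y x, one_mul] at this
    exact this
  -- the subgroup of central elements of order dividing 2
  let N : Subgroup P :=
    { carrier := {z | z ∈ Subgroup.center P ∧ z ^ 2 = 1}
      one_mem' := ⟨Subgroup.one_mem _, one_pow 2⟩
      mul_mem' := by
        rintro a b ⟨ha1, ha2⟩ ⟨hb1, hb2⟩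
        refine ⟨Subgroup.mul_mem _ ha1 hb1, ?_⟩
        have hab : Commute a b := (Subgroup.mem_center_iff.mp hb1 a)
        rw [hab.mul_pow, ha2, hb2, one_mul]
      inv_mem' := by
        rintro a ⟨ha1, ha2⟩
        exact ⟨Subgroup.inv_mem _ ha1, by rw [inv_pow, ha2, inv_one]⟩ }
  have hNmem : ∀ z : P, z ∈ N ↔ z ∈ Subgroup.center P ∧ z ^ 2 = 1 := fun z => Iff.rfl
  have hcommN : commutator P ≤ N := by
    rw [commutator_def, Subgroup.commutator_le]
    intro x _ y _
    rw [hNmem, commutatorElement_def]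
    exact ⟨Subgroup.mem_center_iff.mpr (fun z => hcc x y z), hc2 x y⟩
  have hpowN : ∀ x : P, x ^ 2 ∈ N := by
    intro x
    rw [hNmem]
    refine ⟨Subgroup.mem_center_iff.mpr (fun y => hsq x y), ?_⟩
    rw [← pow_mul]; exact h4 x
  have hΦN : frattini P ≤ N :=
    Cfsg.Agent.Lib.H1.frattini_le_of_commutator_le_of_pow_mem N hcommN hpowN
  refine ⟨fun z hz => ((hNmem z).mp (hΦN hz)).1, ⟨⟨fun a b => ?_⟩⟩, fun a ha => ((hNmem a).mp (hΦN ha)).2⟩
  apply Subtype.ext
  have := ((hNmem b.1).mp (hΦN b.2)).1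
  exact (Subgroup.mem_center_iff.mp this a.1)

end Cfsg.Agent.S4056
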