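import Mathlib
import Cfsg.Agent.Lib.H24.CharFSInd
import Cfsg.Agent.Lib.H24.CharLinearMul
import Cfsg.Agent.Lib.H1.PGroupBasic

set_option autoImplicit false

namespace Cfsg.Agent.S4058

open Cfsg Cfsg.Agent.Lib.L0 Cfsg.Agent.Lib.H24 Cfsg.Agent.Lib.H23
open scoped ComplexConjugate

/-- Summing an invariant integer function over a finite set acted on by a group: if `m` divides
`|orbit x| * F x` for every `x`, then `m` divides the total sum. -/
theorem dvd_sum_of_orbit {Λ X : Type*} [Group Λ] [Fintype X] [MulAction Λ X] (F : X → ℤ) (m : ℤ)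
    (hinv : ∀ (l : Λ) (x : X), F (l • x) = F x)
    (h : ∀ x : X, m ∣ (Nat.card (MulAction.orbit Λ x) : ℤ) * F x) : m ∣ ∑ x, F x := by
  classical
  haveI : Fintype (MulAction.orbitRel.Quotient Λ X) := Fintype.ofFinite _
  rw [← Fintype.sum_fiberwise (fun x : X => (Quotient.mk'' x : MulAction.orbitRel.Quotient Λ X)) F]
  apply Finset.dvd_sum
  intro ω _
  induction ω using Quotient.inductionOn' with
  | h x₀ =>
  have hmem : ∀ x : X, (Quotient.mk'' x : MulAction.orbitRel.Quotient Λ X) = Quotient.mk'' x₀ ↔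
      x ∈ MulAction.orbit Λ x₀ := by
    intro x
    rw [Quotient.eq'']
    exact MulAction.orbitRel_apply
  have hconst : ∀ x : {x : X // (Quotient.mk'' x : MulAction.orbitRel.Quotient Λ X) =
      Quotient.mk'' x₀}, F x = F x₀ := by
    intro x
    obtain ⟨l, hl⟩ := (hmem x.1).mp x.2
    rw [← hl]
    exact hinv l x₀
  rw [Finset.sum_congr rfl (fun x _ => hconst x), Finset.sum_const, Finset.card_univ, nsmul_eq_mul]
  have hcard : Fintype.card {x : X // (Quotient.mk'' x : MulAction.orbitRel.Quotient Λ X) =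
      Quotient.mk'' x₀} = Nat.card (MulAction.orbit Λ x₀) := by
    rw [← Nat.card_eq_fintype_card]
    exact Nat.card_congr (Equiv.subtypeEquivRight hmem)
  rw [hcard]
  exact h x₀


section lin

variable {G : Type*} [Group G]

/-- The group of real linear characters (homomorphisms to `ℂˣ` with values of square `1`). -/
def realLin (G : Type*) [Group G] : Subgroup (G →* ℂˣ) where
  carrier := {l | ∀ g, (l g) ^ 2 = 1}
  one_mem' := by intro g; simp
  mul_mem' := by
    intro a b ha hb g
    rw [MonoidHom.mul_apply, mul_pow, ha g, hb g, mul_one]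
  inv_mem' := by
    intro a ha g
    rw [MonoidHom.inv_apply, inv_pow, ha g, inv_one]

theorem mem_realLin (l : G →* ℂˣ) : l ∈ realLin G ↔ ∀ g, (l g) ^ 2 = 1 := Iff.rfl

instance finite_hom [Finite G] : Finite (G →* ℂˣ) :=
  Finite.of_equiv _ (linearCharEquiv (G := G))

/-- The action of real linear characters on irreducible characters by multiplication. -/
noncomputable instance mulActionRealLin [Finite G] : MulAction (realLin G) (IrrCharacter G) where
  smul l χ := ⟨fun g => (χ : G → ℂ) g * (((l : G →* ℂˣ) g : ℂˣ) : ℂ),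
    isIrrCharacter_mul_hom _ χ.2 _⟩
  one_smul χ := by
    apply Subtype.ext
    funext g
    show (χ : G → ℂ) g * ((((1 : realLin G) : G →* ℂˣ) g : ℂˣ) : ℂ) = (χ : G → ℂ) g
    simp
  mul_smul a b χ := by
    apply Subtype.ext
    funext g
    show (χ : G → ℂ) g * ((((a * b : realLin G) : G →* ℂˣ) g : ℂˣ) : ℂ) =
      (χ : G → ℂ) g * (((b : G →* ℂˣ) g : ℂˣ) : ℂ) * (((a : G →* ℂˣ) g : ℂˣ) : ℂ)
    rw [Subgroup.coe_mul, MonoidHom.mul_apply, Units.val_mul]
    ring

theorem smul_apply [Finite G] (l : realLin G) (χ : IrrCharacter G) (g : G) :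
    ((l • χ : IrrCharacter G) : G → ℂ) g = (χ : G → ℂ) g * (((l : G →* ℂˣ) g : ℂˣ) : ℂ) := rfl

theorem realLin_apply_sq (l : realLin G) (g : G) : ((((l : G →* ℂˣ) g : ℂˣ) : ℂ)) ^ 2 = 1 := by
  have := l.2 g
  have h2 := congrArg Units.val this
  simpa using h2

theorem realLin_apply_mul_self (l : realLin G) (s : G) :
    ((((l : G →* ℂˣ) (s * s) : ℂˣ) : ℂ)) = 1 := by
  rw [map_mul, Units.val_mul, ← pow_two]
  exact realLin_apply_sq l s

theorem smul_apply_one [Finite G] (l : realLin G) (χ : IrrCharacter G) :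
    ((l • χ : IrrCharacter G) : G → ℂ) 1 = (χ : G → ℂ) 1 := by
  rw [smul_apply, map_one, Units.val_one, mul_one]

theorem fsInd_smul [Fintype G] (l : realLin G) (χ : IrrCharacter G) :
    fsInd ((l • χ : IrrCharacter G) : G → ℂ) = fsInd (χ : G → ℂ) := by
  unfold fsInd
  congr 1
  refine Finset.sum_congr rfl (fun s _ => ?_)
  rw [smul_apply, realLin_apply_mul_self, mul_one]

/-- The group of real linear characters is a `2`-group. -/
theorem isPGroup_realLin : IsPGroup 2 (realLin G) := by
  intro l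
  refine ⟨1, ?_⟩
  apply Subtype.ext
  ext g
  rw [pow_one, Subgroup.coe_pow, MonoidHom.pow_apply, l.2 g]
  simp


open scoped commutatorElement in
/-- For a finite `2`-group, there are at least `#(G/Φ(G))` real linear characters. -/
theorem card_quot_le_card_realLin [Finite G] (hG : IsPGroup 2 G) :
    Nat.card (G ⧸ frattini G) ≤ Nat.card (realLin G) := by
  classical
  haveI : Fact (Nat.Prime 2) := ⟨Nat.prime_two⟩
  have hcomm : ∀ a b : G ⧸ frattini G, a * b = b * a := by
    intro a b
    induction a using QuotientGroup.induction_on with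
    | H a =>
    induction b using QuotientGroup.induction_on with
    | H b =>
    have h1 : ⁅a, b⁆ ∈ frattini G :=
      Cfsg.Agent.Lib.H1.isPGroup_commutator_le_frattini hG (Subgroup.commutator_mem_commutator
        (Subgroup.mem_top a) (Subgroup.mem_top b))
    have h2 : ((⁅a, b⁆ : G) : G ⧸ frattini G) = 1 := (QuotientGroup.eq_one_iff _).mpr h1
    rw [commutatorElement_def] at h2
    simp only [QuotientGroup.mk_mul, QuotientGroup.mk_inv] at h2
    calc (a : G ⧸ frattini G) * b
        = (a * b * (a : G ⧸ frattini G)⁻¹ * (b : G ⧸ frattini G)⁻¹) * (b * a) := by group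
      _ = b * a := by rw [h2, one_mul]
  have hsq : ∀ a : G ⧸ frattini G, a ^ 2 = 1 := by
    intro a
    induction a using QuotientGroup.induction_on with
    | H a =>
    rw [← QuotientGroup.mk_pow]
    exact (QuotientGroup.eq_one_iff _).mpr (Cfsg.Agent.Lib.H1.isPGroup_pow_mem_frattini hG a)
  letI : CommGroup (G ⧸ frattini G) :=
    { (inferInstance : Group (G ⧸ frattini G)) with mul_comm := hcomm }
  have hcard : Nat.card ((G ⧸ frattini G) →* ℂˣ) = Nat.card (G ⧸ frattini G) :=
    CommGroup.card_monoidHom_of_hasEnoughRootsOfUnity (G ⧸ frattini G) ℂ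
  rw [← hcard]
  let Φ : ((G ⧸ frattini G) →* ℂˣ) → realLin G :=
    fun f => ⟨f.comp (QuotientGroup.mk' (frattini G)), by
      intro g
      rw [MonoidHom.comp_apply, ← map_pow, hsq, map_one]⟩
  apply Nat.card_le_card_of_injective Φ
  intro f f' hff
  have h1 : f.comp (QuotientGroup.mk' (frattini G)) = f'.comp (QuotientGroup.mk' (frattini G)) :=
    congrArg Subtype.val hff
  apply MonoidHom.ext
  intro q
  induction q using QuotientGroup.induction_on with
  | H g => exact DFunLike.congr_fun h1 g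


/-- The stabilizer of an irreducible character `χ` under multiplication by real linear
characters has order at most `χ(1)²`. -/
theorem card_stabilizer_le [Finite G] (χ : IrrCharacter G) (n : ℕ) (hn : (χ : G → ℂ) 1 = n) :
    Nat.card (MulAction.stabilizer (realLin G) χ) ≤ n ^ 2 := by
  classical
  haveI := Fintype.ofFinite G
  obtain ⟨K, hKdef⟩ : ∃ K : Subgroup G, K = ⨅ l : MulAction.stabilizer (realLin G) χ,
      ((l : realLin G) : G →* ℂˣ).ker := ⟨_, rfl⟩
  have hK : ∀ g, g ∈ K ↔ ∀ l : MulAction.stabilizer (realLin G) χ,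
      ((l : realLin G) : G →* ℂˣ) g = 1 := by
    intro g
    rw [hKdef, Subgroup.mem_iInf]
    simp only [MonoidHom.mem_ker]
  -- `χ` vanishes off `K`
  have hvan : ∀ g, g ∉ K → (χ : G → ℂ) g = 0 := by
    intro g hg
    rw [hK] at hg
    push_neg at hg
    obtain ⟨l, hl⟩ := hg
    have h1 : (l : realLin G) • χ = χ := l.2
    have h2 : ((((l : realLin G) • χ : IrrCharacter G)) : G → ℂ) g = (χ : G → ℂ) g := by rw [h1]
    rw [smul_apply] at h2
    by_contra hne
    have h3 : ((((l : realLin G) : G →* ℂˣ) g : ℂˣ) : ℂ) = 1 :=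
      mul_left_cancel₀ hne (h2.trans (mul_one _).symm)
    exact hl (Units.ext h3)
  -- the stabilizer has at most `K.index` elements
  have h1 : Nat.card (MulAction.stabilizer (realLin G) χ) ≤ K.index := by
    haveI : Fintype (MulAction.stabilizer (realLin G) χ) := Fintype.ofFinite _
    obtain ⟨S, hSdef⟩ : ∃ S : Finset (G →* ℂˣ), S = Finset.univ.image
        (fun l : MulAction.stabilizer (realLin G) χ => ((l : realLin G) : G →* ℂˣ)) := ⟨_, rfl⟩
    have hS : ∀ ν ∈ S, ∀ i ∈ K, ν i = 1 := by
      intro ν hν i hi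
      rw [hSdef] at hν
      obtain ⟨l, _, rfl⟩ := Finset.mem_image.mp hν
      exact (hK i).mp hi l
    have h := card_hom_trivial_on_le_index K S hS
    rw [hSdef, Finset.card_image_of_injective] at h
    · rwa [Finset.card_univ, ← Nat.card_eq_fintype_card] at h
    · intro a b hab
      exact Subtype.ext (Subtype.ext hab)
  -- `K.index ≤ n²`
  have h2 : K.index ≤ n ^ 2 := by
    have hinner := irr_classInner_self χ.2
    unfold classInner at hinner
    have hGne : (Nat.card G : ℂ) ≠ 0 := by exact_mod_cast (Nat.card_pos (α := G)).ne'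
    have hsum : ∑ g : G, (χ : G → ℂ) g * conj ((χ : G → ℂ) g) = (Nat.card G : ℂ) := by
      have := congrArg (fun z => (Nat.card G : ℂ) * z) hinner
      simp only [mul_one] at this
      rw [← this, ← mul_assoc, mul_inv_cancel₀ hGne, one_mul]
    have hsumR : ∑ g : G, ‖(χ : G → ℂ) g‖ ^ 2 = (Nat.card G : ℝ) := by
      have h3 : ((∑ g : G, ‖(χ : G → ℂ) g‖ ^ 2 : ℝ) : ℂ) = ((Nat.card G : ℝ) : ℂ) := by
        push_cast
        rw [← hsum]
        refine Finset.sum_congr rfl (fun g _ => ?_)
        rw [Complex.mul_conj, Complex.normSq_eq_norm_sq]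
        push_cast
        rfl
      exact Complex.ofReal_injective h3
    have hbound : ∀ g : G, ‖(χ : G → ℂ) g‖ ^ 2 ≤ (n : ℝ) ^ 2 := by
      intro g
      have h4 := isCharacter_norm_le (isCharacter_of_irr χ.2) g
      rw [hn] at h4
      have h5 : ‖(n : ℂ)‖ = (n : ℝ) := by simp
      rw [h5] at h4
      exact pow_le_pow_left₀ (norm_nonneg _) h4 2
    have hfilter : ∑ g : G, ‖(χ : G → ℂ) g‖ ^ 2 =
        ∑ g ∈ Finset.univ.filter (fun g : G => g ∈ K), ‖(χ : G → ℂ) g‖ ^ 2 := by
      symm
      apply Finset.sum_filter_of_ne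
      intro g _ hne
      by_contra hgK
      apply hne
      rw [hvan g hgK]
      simp
    have hle : (Nat.card G : ℝ) ≤ (Nat.card K : ℝ) * (n : ℝ) ^ 2 := by
      rw [← hsumR, hfilter]
      calc ∑ g ∈ Finset.univ.filter (fun g : G => g ∈ K), ‖(χ : G → ℂ) g‖ ^ 2
          ≤ ∑ _g ∈ Finset.univ.filter (fun g : G => g ∈ K), (n : ℝ) ^ 2 :=
            Finset.sum_le_sum (fun g _ => hbound g)
        _ = (Nat.card K : ℝ) * (n : ℝ) ^ 2 := by
            rw [Finset.sum_const, nsmul_eq_mul]
            congr 2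
            rw [Nat.card_eq_fintype_card, Fintype.card_subtype]
    have hleN : Nat.card G ≤ Nat.card K * n ^ 2 := by exact_mod_cast hle
    rw [← Subgroup.index_mul_card K, mul_comm] at hleN
    exact Nat.le_of_mul_le_mul_left hleN Nat.card_pos
  exact h1.trans h2

end lin


/-- Let G be a finite 2-group with #(G/Φ(G)) ≥ 2^(2k+1). Then the number of elements x of G with x² = 1 is divisible by 2^(k+1). -/
theorem result {G : Type*} [Group G] [Finite G] (hG : IsPGroup 2 G) (k : ℕ)
    (hgen : 2 ^ (2 * k + 1) ≤ Nat.card (G ⧸ frattini G)) :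
    2 ^ (k + 1) ∣ Nat.card {x : G // x ^ 2 = 1} := by
  classical
  haveI := Fintype.ofFinite G
  haveI : Fintype (IrrCharacter G) := Fintype.ofFinite _
  haveI : Fact (Nat.Prime 2) := ⟨Nat.prime_two⟩
  -- integer data
  have hν : ∀ χ : IrrCharacter G, ∃ e : ℤ, (e : ℂ) = fsInd (χ : G → ℂ) := by
    intro χ
    rcases fsInd_irr_cases χ with ⟨h0, _⟩ | ⟨h1 | h1, _⟩
    · exact ⟨0, by rw [h0]; simp⟩
    · exact ⟨1, by rw [h1]; simp⟩
    · exact ⟨-1, by rw [h1]; simp⟩
  choose ν hν using hν
  choose n hn0 hn1 hndvd using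
    (fun χ : IrrCharacter G => irr_apply_one_dvd_card (χ : G → ℂ) χ.2)
  -- the number of solutions of `x² = 1` as a character sum
  have ht : ((Nat.card {x : G // x ^ 2 = 1} : ℤ)) = ∑ χ : IrrCharacter G, ν χ * (n χ : ℤ) := by
    have h1 := card_sqrt_eq_sum (G := G) 1
    have h2 : Nat.card {s : G // s * s = 1} = Nat.card {x : G // x ^ 2 = 1} := by
      apply Nat.card_congr
      exact Equiv.subtypeEquivRight (fun x => by rw [pow_two])
    rw [h2] at h1
    have h3 : ((Nat.card {x : G // x ^ 2 = 1} : ℤ) : ℂ) =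
        ((∑ χ : IrrCharacter G, ν χ * (n χ : ℤ) : ℤ) : ℂ) := by
      push_cast
      rw [h1]
      refine Finset.sum_congr rfl (fun χ _ => ?_)
      rw [hν χ, hn1 χ]
    exact_mod_cast h3
  -- invariance
  have hinvν : ∀ (l : realLin G) (χ : IrrCharacter G), ν (l • χ) = ν χ := by
    intro l χ
    have : ((ν (l • χ) : ℤ) : ℂ) = ((ν χ : ℤ) : ℂ) := by rw [hν, hν, fsInd_smul]
    exact_mod_cast this
  have hinvn : ∀ (l : realLin G) (χ : IrrCharacter G), n (l • χ) = n χ := by
    intro l χ
    have : ((n (l • χ) : ℕ) : ℂ) = ((n χ : ℕ) : ℂ) := by rw [← hn1, ← hn1, smul_apply_one]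
    exact_mod_cast this
  -- the order of the group of real linear characters
  obtain ⟨d, hd⟩ := IsPGroup.iff_card.mp (isPGroup_realLin (G := G))
  have hd2 : 2 * k + 1 ≤ d := by
    have := hgen.trans (card_quot_le_card_realLin hG)
    rw [hd] at this
    exact (Nat.pow_le_pow_iff_right (by norm_num)).mp this
  obtain ⟨m, hm⟩ := IsPGroup.iff_card.mp hG
  -- main divisibility
  have hdvd : ((2 : ℤ) ^ (k + 1)) ∣ ∑ χ : IrrCharacter G, ν χ * (n χ : ℤ) := by
    apply dvd_sum_of_orbit (Λ := realLin G) (fun χ => ν χ * (n χ : ℤ))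
    · intro l χ
      rw [hinvν, hinvn]
    · intro χ
      obtain ⟨a, ha, hna⟩ := (Nat.dvd_prime_pow Nat.prime_two).mp (hm ▸ hndvd χ)
      haveI : Fintype (realLin G) := Fintype.ofFinite _
      haveI : Fintype (MulAction.orbit (realLin G) χ) := Fintype.ofFinite _
      haveI : Fintype (MulAction.stabilizer (realLin G) χ) := Fintype.ofFinite _
      have hos := MulAction.card_orbit_mul_card_stabilizer_eq_card_group (realLin G) χ
      simp only [← Nat.card_eq_fintype_card] at hos
      rw [hd] at hos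
      obtain ⟨s, hs, hstab⟩ := (Nat.dvd_prime_pow Nat.prime_two).mp (Dvd.intro_left _ hos)
      obtain ⟨o, ho, horb⟩ := (Nat.dvd_prime_pow Nat.prime_two).mp (Dvd.intro _ hos)
      have hosd : o + s = d := by
        rw [hstab, horb, ← pow_add] at hos
        exact Nat.pow_right_injective (le_refl 2) hos
      have hs2a : s ≤ 2 * a := by
        have h1 := card_stabilizer_le χ (n χ) (hn1 χ)
        rw [hstab, hna, ← pow_mul] at h1
        have h2 := (Nat.pow_le_pow_iff_right (by norm_num)).mp h1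
        omega
      rw [horb, hna]
      have h1 : (2 : ℤ) ^ (k + 1) ∣ (2 : ℤ) ^ (o + a) := pow_dvd_pow 2 (by omega)
      have h2 : (((2 ^ o : ℕ) : ℤ)) * (ν χ * ((2 ^ a : ℕ) : ℤ)) = ν χ * (2 : ℤ) ^ (o + a) := by
        push_cast; ring
      rw [h2]
      exact Dvd.dvd.mul_left h1 _
  rw [← ht] at hdvd
  exact_mod_cast hdvd

end Cfsg.Agent.S4058
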