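import Cfsg.Statements.S4059
import Cfsg.Agent.Lib.H20.ConjClass
import Cfsg.Agent.Lib.H20.PowDecomp

set_option autoImplicit false
open Cfsg

namespace Cfsg.Agent.S4059

open Cfsg.Agent.Lib.H20
open scoped commutatorElement

theorem closure_normal_of_conj {G : Type*} [Group G] {s : Set G}
    (h : ∀ g x, x ∈ s → g * x * g⁻¹ ∈ s) : (Subgroup.closure s).Normal := by
  constructor
  intro n hn g
  induction hn using Subgroup.closure_induction with
  | mem x hx => exact Subgroup.subset_closure (h g x hx)
  | one => simp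
  | mul a b _ _ iha ihb =>
    have : g * (a * b) * g⁻¹ = (g * a * g⁻¹) * (g * b * g⁻¹) := by group
    rw [this]; exact Subgroup.mul_mem _ iha ihb
  | inv a _ iha =>
    have : g * a⁻¹ * g⁻¹ = (g * a * g⁻¹)⁻¹ := by group
    rw [this]; exact Subgroup.inv_mem _ iha

theorem isConj_inv_of {G : Type*} [Group G] {x y : G} (h : IsConj x y) : IsConj x⁻¹ y⁻¹ := by
  rw [isConj_iff] at h ⊢
  obtain ⟨c, hc⟩ := h
  exact ⟨c, by rw [← hc]; group⟩

/-- an involution on a finite set of odd size has a fixed point -/
theorem exists_fixed_of_odd {α : Type*} [Finite α] (f : α → α) (hf : ∀ a, f (f a) = a)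
    (hodd : ¬ 2 ∣ Nat.card α) : ∃ a, f a = a := by
  classical
  let _i : Fintype α := Fintype.ofFinite α
  let σ : Equiv.Perm α := ⟨f, f, hf, hf⟩
  haveI : Fact (Nat.Prime 2) := ⟨Nat.prime_two⟩
  have hσ : σ ^ 2 ^ 1 = 1 := by
    ext a
    simp [pow_two, σ, hf]
  have h2 : ¬ 2 ∣ Fintype.card α := by rwa [← Nat.card_eq_fintype_card]
  exact Equiv.Perm.exists_fixed_point_of_prime h2 hσ

/-- conjugating by a power: if `g x g⁻¹ = x⁻¹` then `g^k x g^-k = x` or `x⁻¹` by parity -/
theorem conj_pow_of_inverts {G : Type*} [Group G] {g x : G} (h : g * x * g⁻¹ = x⁻¹) (k : ℕ) :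
    g ^ k * x * (g ^ k)⁻¹ = if Even k then x else x⁻¹ := by
  induction k with
  | zero => simp
  | succ n ih =>
    have : g ^ (n + 1) * x * (g ^ (n + 1))⁻¹ = g * (g ^ n * x * (g ^ n)⁻¹) * g⁻¹ := by
      rw [pow_succ']; group
    rw [this, ih]
    by_cases hn : Even n
    · have : ¬ Even (n + 1) := by
        rw [Nat.even_add_one]; simpa using hn
      simp [hn, this, h]
    · have : Even (n + 1) := by
        rw [Nat.even_add_one]; exact hn
      simp only [hn, this, if_true, if_false]
      have : g * x⁻¹ * g⁻¹ = (g * x * g⁻¹)⁻¹ := by group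
      rw [this, h, inv_inv]

/-- Let G be a finite group in which every element is conjugate to its inverse. Then: every non-identity element commuting with all elements of some Sylow 2-subgroup is an involution; the centre of G is an elementary abelian 2-group; the commutator quotient G/G' is an elementary abelian 2-group; and G is generated by its 2-elements. -/
theorem result {G : Type*} [Group G] [Finite G] (hamb : ∀ x : G, IsConj x x⁻¹) :
    (∀ (S : Sylow 2 G) (x : G), x ∈ Subgroup.centralizer ((S : Subgroup G) : Set G) → x ≠ 1 → orderOf x = 2) ∧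
    (∀ z : G, z ∈ Subgroup.center G → z ^ 2 = 1) ∧
    (∀ x : G, x ^ 2 ∈ commutator G) ∧
    Subgroup.closure {x : G | ∃ k : ℕ, orderOf x = 2 ^ k} = ⊤ := by
  haveI : Fact (Nat.Prime 2) := ⟨Nat.prime_two⟩
  refine ⟨?_, ?_, ?_, ?_⟩
  · intro S x hx hx1
    -- S ≤ C(x)
    have hle : (S : Subgroup G) ≤ Subgroup.centralizer ({x} : Set G) := by
      intro s hs
      rw [Subgroup.mem_centralizer_iff]
      intro y hy
      rw [Set.mem_singleton_iff] at hy
      subst hy
      rw [Subgroup.mem_centralizer_iff] at hx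
      exact (hx s hs).symm
    have hdvd : (Subgroup.centralizer ({x} : Set G)).index ∣ (S : Subgroup G).index :=
      Subgroup.index_dvd_of_le hle
    have hodd : ¬ 2 ∣ (Subgroup.centralizer ({x} : Set G)).index := by
      intro h
      exact S.not_dvd_index (h.trans hdvd)
    rw [index_centralizer_eq_ncard_conj, ← Nat.card_coe_set_eq] at hodd
    let f : {y : G | IsConj x y} → {y : G | IsConj x y} := fun y =>
      ⟨(y : G)⁻¹, (hamb x).trans (isConj_inv_of y.2)⟩
    have hf : ∀ a, f (f a) = a := by
      intro a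
      apply Subtype.ext
      simp [f]
    obtain ⟨⟨y, hy⟩, hfix⟩ := exists_fixed_of_odd f hf hodd
    have hyy : y⁻¹ = y := congrArg Subtype.val hfix
    have hy2 : y ^ 2 = 1 := by
      rw [pow_two]
      nth_rw 1 [← hyy]
      exact inv_mul_cancel y
    have hx2 : x ^ 2 = 1 := by
      have := (isConj_iff.mp hy)
      obtain ⟨c, hc⟩ := this
      have hxc : x = c⁻¹ * y * c := by rw [← hc]; group
      rw [hxc]
      have : (c⁻¹ * y * c) ^ 2 = c⁻¹ * y ^ 2 * c := by rw [pow_two, pow_two]; group
      rw [this, hy2]; group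
    exact orderOf_eq_prime hx2 hx1
  · intro z hz
    obtain ⟨c, hc⟩ := isConj_iff.mp (hamb z)
    rw [Subgroup.mem_center_iff] at hz
    have : z = z⁻¹ := by
      rw [← hc, hz c]; group
    rw [pow_two]
    nth_rw 1 [this]
    exact inv_mul_cancel z
  · intro x
    obtain ⟨c, hc⟩ := isConj_iff.mp (hamb x)
    have : x ^ 2 = ⁅x, c⁆ := by
      rw [commutatorElement_def, pow_two]
      have : x * c * x⁻¹ * c⁻¹ = x * (c * x * c⁻¹)⁻¹ := by group
      rw [this, hc, inv_inv]
    rw [this, commutator_def]
    exact Subgroup.commutator_mem_commutator (Subgroup.mem_top _) (Subgroup.mem_top _)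
  · set T := Subgroup.closure {x : G | ∃ k : ℕ, orderOf x = 2 ^ k} with hT
    have hTn : T.Normal := by
      apply closure_normal_of_conj
      rintro g x ⟨k, hk⟩
      refine ⟨k, ?_⟩
      have : g * x * g⁻¹ = MulAut.conj g x := by simp [MulAut.conj_apply]
      rw [this, MulEquiv.orderOf_eq, hk]
    rw [eq_top_iff]
    intro x _
    obtain ⟨k, l, hkl, ⟨e, he⟩, hl⟩ := exists_pPart_pPrimePart x (isOfFinOrder_of_finite x) 2 Nat.prime_two
    rw [← hkl]
    apply Subgroup.mul_mem
    · exact Subgroup.subset_closure ⟨e, he⟩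
    -- u = x ^ l has odd order
    set u := x ^ l with hu
    obtain ⟨g, hg⟩ := isConj_iff.mp (hamb u)
    -- t = g ^ m, m the odd part of the order of g
    set n := orderOf g with hn
    have hn0 : n ≠ 0 := (orderOf_pos g).ne'
    set m := n / 2 ^ n.factorization 2 with hm
    have hnm : 2 ^ n.factorization 2 * m = n := Nat.ordProj_mul_ordCompl_eq_self n 2
    have hmodd : ¬ Even m := by
      rw [even_iff_two_dvd]
      exact Nat.not_dvd_ordCompl Nat.prime_two hn0
    set t := g ^ m with ht
    have htT : t ∈ T := by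
      apply Subgroup.subset_closure
      have h1 : t ^ (2 ^ n.factorization 2) = 1 := by
        rw [ht, ← pow_mul, mul_comm, hnm, hn, pow_orderOf_eq_one]
      have := orderOf_dvd_of_pow_eq_one h1
      obtain ⟨e', _, he'⟩ := (Nat.dvd_prime_pow Nat.prime_two).mp this
      exact ⟨e', he'⟩
    have htu : t * u * t⁻¹ = u⁻¹ := by
      have := conj_pow_of_inverts hg m
      rw [if_neg hmodd] at this
      exact this
    have hu2 : u ^ 2 ∈ T := by
      have h1 : (u ^ 2)⁻¹ = t * (u * t⁻¹ * u⁻¹) := by
        have : t * (u * t⁻¹ * u⁻¹) = (t * u * t⁻¹) * u⁻¹ := by group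
        rw [this, htu, pow_two]; group
      have h2 : (u ^ 2)⁻¹ ∈ T := by
        rw [h1]
        apply Subgroup.mul_mem _ htT
        exact hTn.conj_mem _ (Subgroup.inv_mem _ htT) u
      simpa using Subgroup.inv_mem _ h2
    -- u is a power of u^2
    have hodd : Odd (orderOf u) := by
      rw [Nat.odd_iff, ← Nat.two_dvd_ne_zero]
      intro h2
      have := Nat.Coprime.eq_one_of_dvd hl.symm h2
      omega
    obtain ⟨j, hj⟩ := hodd
    have : u = (u ^ 2) ^ (j + 1) := by
      rw [← pow_mul]
      have : 2 * (j + 1) = orderOf u + 1 := by omega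
      rw [this, pow_succ, pow_orderOf_eq_one, one_mul]
    rw [this]
    exact Subgroup.pow_mem _ hu2 _

end Cfsg.Agent.S4059
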