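import Cfsg.Statements.S4060
import Cfsg.Agent.Lib.H20.Real
import Cfsg.Agent.Lib.H20.Solvable

set_option autoImplicit false
open Cfsg

namespace Cfsg.Agent.S4060

open Cfsg.Agent.Lib.H20

universe u

theorem aux (n : ℕ) : ∀ (G : Type u) [Group G] [Finite G] [Group.IsSolvable G], Nat.card G = n →
    ∀ (S : Sylow 2 G) (x : G), x ≠ 1 → Odd (orderOf x) →
      x ∈ Subgroup.normalizer ((S : Subgroup G) : Set G) → ¬ IsConj x x⁻¹ := by
  induction n using Nat.strong_induction_on with
  | _ n ih =>
    intro G _ _ _ hcard S x hx hodd hnorm hreal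
    have : Fact (Nat.Prime 2) := ⟨Nat.prime_two⟩
    haveI : Nontrivial G := ⟨⟨x, 1, hx⟩⟩
    obtain ⟨p, M, hp, hMn, hM1, hMp⟩ := exists_normal_pGroup_of_solvable (G := G)
    haveI := hMn
    haveI : Fact p.Prime := ⟨hp⟩
    -- quotient
    have hlt : Nat.card (G ⧸ M) < n := by
      rw [← hcard, Subgroup.card_eq_card_quotient_mul_card_subgroup M]
      have h1 : 1 < Nat.card M := by
        rw [Subgroup.one_lt_card_iff_ne_bot]; exact hM1
      have h0 : 0 < Nat.card (G ⧸ M) := Nat.card_pos
      nlinarith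
    have hsurj : Function.Surjective (QuotientGroup.mk' M) := QuotientGroup.mk'_surjective M
    let Sbar : Sylow 2 (G ⧸ M) := S.mapSurjective hsurj
    have hxM : x ∈ M := by
      by_contra hxM
      have hxbar : (QuotientGroup.mk' M x) ≠ 1 := by
        intro h
        exact hxM ((QuotientGroup.eq_one_iff x).mp h)
      have hoddbar : Odd (orderOf (QuotientGroup.mk' M x)) :=
        Odd.of_dvd_nat hodd (orderOf_map_dvd _ x)
      have hnormbar : QuotientGroup.mk' M x ∈ Subgroup.normalizer ((Sbar : Subgroup (G ⧸ M)) : Set (G ⧸ M)) := by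
        have h1 : (Sbar : Subgroup (G ⧸ M)) = (S : Subgroup G).map (QuotientGroup.mk' M) :=
          Sylow.coe_mapSurjective hsurj S
        rw [h1]
        exact Subgroup.le_normalizer_map (QuotientGroup.mk' M) (Subgroup.mem_map_of_mem _ hnorm)
      have hrealbar : IsConj (QuotientGroup.mk' M x) (QuotientGroup.mk' M x)⁻¹ := by
        have := (QuotientGroup.mk' M).map_isConj hreal
        rwa [map_inv] at this
      exact ih _ hlt (G ⧸ M) rfl Sbar _ hxbar hoddbar hnormbar hrealbar
    by_cases hp2 : p = 2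
    · subst hp2
      obtain ⟨k, hk⟩ := (IsPGroup.iff_orderOf.mp hMp) ⟨x, hxM⟩
      rw [Subgroup.orderOf_mk] at hk
      rw [hk] at hodd
      have hk0 : k = 0 := by
        by_contra hk0
        have : Even (2 ^ k) := (Nat.even_pow).mpr ⟨even_two, hk0⟩
        exact (Nat.not_even_iff_odd.mpr hodd) this
      rw [hk0, pow_zero, orderOf_eq_one_iff] at hk
      exact hx hk
    · -- x centralizes S
      have hcent : x ∈ Subgroup.centralizer ((S : Subgroup G) : Set G) := by
        rw [Subgroup.mem_centralizer_iff]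
        intro s hs
        have hs' : s ∈ (S : Subgroup G) := hs
        have hcS : x * s * x⁻¹ * s⁻¹ ∈ (S : Subgroup G) := by
          apply Subgroup.mul_mem
          · exact (Subgroup.mem_normalizer_iff.mp hnorm s).mp hs'
          · exact Subgroup.inv_mem _ hs'
        have hcM : x * s * x⁻¹ * s⁻¹ ∈ M := by
          have : x * s * x⁻¹ * s⁻¹ = x * (s * x⁻¹ * s⁻¹) := by group
          rw [this]
          exact Subgroup.mul_mem _ hxM (hMn.conj_mem _ (Subgroup.inv_mem _ hxM) s)
        obtain ⟨a, ha⟩ := (IsPGroup.iff_orderOf.mp S.isPGroup') ⟨_, hcS⟩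
        obtain ⟨b, hb⟩ := (IsPGroup.iff_orderOf.mp hMp) ⟨_, hcM⟩
        rw [Subgroup.orderOf_mk] at ha hb
        have h1 : orderOf (x * s * x⁻¹ * s⁻¹) = 1 := by
          have hcop : Nat.Coprime (2 ^ a) (p ^ b) := by
            apply Nat.Coprime.pow
            exact (Nat.coprime_primes Nat.prime_two hp).mpr (Ne.symm hp2)
          have h3 : orderOf (x * s * x⁻¹ * s⁻¹) ∣ 2 ^ a := by rw [ha]
          have h4 : orderOf (x * s * x⁻¹ * s⁻¹) ∣ p ^ b := by rw [hb]
          exact Nat.eq_one_of_dvd_coprimes hcop h3 h4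
        rw [orderOf_eq_one_iff] at h1
        have : x * s = (x * s * x⁻¹ * s⁻¹) * s * x := by group
        rw [this, h1, one_mul]
      have hx2 := sq_eq_one_of_real_of_mem_centralizer_sylow S hcent hreal
      have hdvd : orderOf x ∣ 2 := orderOf_dvd_of_pow_eq_one hx2
      have : orderOf x = 1 := by
        rcases (Nat.dvd_prime Nat.prime_two).mp hdvd with h | h
        · exact h
        · rw [h] at hodd
          exact absurd hodd (by decide)
      exact hx (orderOf_eq_one_iff.mp this)

/-- Let G be a finite solvable group with Sylow 2-subgroup S, and let x ≠ 1 be an element of odd order normalizing S. Then x is not conjugate to its inverse in G. -/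
theorem result {G : Type*} [Group G] [Finite G] [Group.IsSolvable G]
    (S : Sylow 2 G) (x : G) (hx : x ≠ 1) (hodd : Odd (orderOf x))
    (hnorm : x ∈ Subgroup.normalizer ((S : Subgroup G) : Set G)) : ¬ IsConj x x⁻¹ :=
  aux (Nat.card G) G rfl S x hx hodd hnorm

end Cfsg.Agent.S4060
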