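import Cfsg.Statements.S4061
import Cfsg.Agent.Lib.H20.RealOneClass6
import Cfsg.Agent.Lib.H22.UniqueInvolution

set_option autoImplicit false
open Cfsg

namespace Cfsg.Agent.S4061

/-- Let G be a finite solvable group of even order in which every element is conjugate to its inverse and all involutions are conjugate. Then a Sylow 2-subgroup S of G has order 2 or is a generalized quaternion group (of order at least 8). Moreover, if S has order 2, then G is the semidirect product of its largest normal subgroup of odd order O(G) by S, O(G) equals the derived subgroup of G, and the involution of S inverts every element of O(G). -/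
theorem result {G : Type*} [Group G] [Finite G] [Group.IsSolvable G]
    (hamb : ∀ x : G, IsConj x x⁻¹) (heven : 2 ∣ Nat.card G) (hone : ∀ s t : G, orderOf s = 2 → orderOf t = 2 → IsConj s t) (S : Sylow 2 G) :
    (Nat.card S = 2 ∨ ∃ n : ℕ, Nonempty ((S : Subgroup G) ≃* QuaternionGroup (2 ^ (n + 1)))) ∧
    (Nat.card S = 2 → (S : Subgroup G).IsComplement' (Cfsg.oddCore G) ∧ Cfsg.oddCore G = commutator G ∧
        ∀ t : G, t ∈ S → t ≠ 1 → ∀ x : G, x ∈ Cfsg.oddCore G → t * x * t⁻¹ = x⁻¹) := by
  classical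
  haveI : Fact (Nat.Prime 2) := ⟨Nat.prime_two⟩
  refine ⟨?_, fun hS => Cfsg.Agent.Lib.H20.ROC.structure_of_card_two hamb S hS⟩
  have huniq : Cfsg.Agent.Lib.H22.AtMostOneOrderP 2 ↥(S : Subgroup G) := by
    intro H K hH hK
    have key : ∀ L : Subgroup ↥(S : Subgroup G), Nat.card L = 2 →
        ∃ l : ↥(S : Subgroup G), orderOf l = 2 ∧ L = Subgroup.zpowers l := by
      intro L hL
      obtain ⟨l, hl⟩ := exists_prime_orderOf_dvd_card' (G := L) 2 (by rw [hL])
      refine ⟨(l : ↥(S : Subgroup G)), ?_, ?_⟩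
      · rw [Subgroup.orderOf_coe]; exact hl
      · symm
        apply Subgroup.eq_of_le_of_card_ge
        · rw [Subgroup.zpowers_le]; exact l.2
        · rw [Nat.card_zpowers, Subgroup.orderOf_coe, hl, hL]
    obtain ⟨h, hh, rfl⟩ := key H hH
    obtain ⟨k, hk, rfl⟩ := key K hK
    have h1 : ((h : ↥(S : Subgroup G)) : G) = ((k : ↥(S : Subgroup G)) : G) := by
      apply Cfsg.Agent.Lib.H20.ROC.involution_unique hamb hone (S : Subgroup G) S.isPGroup' h.2 k.2
      · rw [Subgroup.orderOf_coe]; exact hh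
      · rw [Subgroup.orderOf_coe]; exact hk
    rw [Subtype.ext h1]
  rcases Cfsg.Agent.Lib.H22.cyclic_or_quaternion_of_atMostOne S.isPGroup' huniq with hc | ⟨n, hn, hq⟩
  · exact Or.inl (Cfsg.Agent.Lib.H20.ROC.card_eq_two_of_cyclic hamb heven S hc)
  · right
    obtain ⟨m, rfl⟩ : ∃ m, n = m + 1 := ⟨n - 1, by omega⟩
    exact ⟨m, hq⟩

end Cfsg.Agent.S4061
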