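import Mathlib
import Cfsg.Prelude.Def_OddOrderLocal

set_option autoImplicit false
open Cfsg

namespace Cfsg.Agent.S4065

universe u

/-- In a group where centralizers of non-identity elements are commutative, every centralizer is a
TI-subset. -/
theorem isTISubset_centralizer_of_CA {G : Type u} [Group G]
    (hCA : ∀ x : G, x ≠ 1 → ∀ a b : G, a * x = x * a → b * x = x * b → a * b = b * a) (x : G) :
    Cfsg.IsTISubset ((Subgroup.centralizer ({x} : Set G) : Subgroup G) : Set G) := by
  intro g hg y hy hgy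
  by_contra hy1
  apply hg
  have hyC : y * x = x * y := Subgroup.mem_centralizer_singleton_iff.mp hy
  have hgyC : g * y * g⁻¹ * x = x * (g * y * g⁻¹) := Subgroup.mem_centralizer_singleton_iff.mp hgy
  have hx1 : x ≠ 1 := by
    rintro rfl
    apply hg
    rw [Subgroup.mem_normalizer_iff]
    intro h
    simp [Subgroup.mem_centralizer_singleton_iff]
  have key : ∀ z : G, z ≠ 1 → z * x = x * z → ∀ h : G,
      h ∈ Subgroup.centralizer ({x} : Set G) ↔ h * z = z * h := by
    intro z hz1 hzx h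
    rw [Subgroup.mem_centralizer_singleton_iff]
    constructor
    · intro hh
      exact hCA x hx1 h z hh hzx
    · intro hh
      exact hCA z hz1 h x hh hzx.symm
  have hgy1 : g * y * g⁻¹ ≠ 1 := by
    intro h
    apply hy1
    have : y = g⁻¹ * (g * y * g⁻¹) * g := by group
    rw [this, h]; group
  rw [Subgroup.mem_normalizer_iff]
  intro h
  rw [key y hy1 hyC h, key (g * y * g⁻¹) hgy1 hgyC (g * h * g⁻¹)]
  constructor
  · intro hh
    have e1 : g * h * g⁻¹ * (g * y * g⁻¹) = g * (h * y) * g⁻¹ := by group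
    have e2 : g * y * g⁻¹ * (g * h * g⁻¹) = g * (y * h) * g⁻¹ := by group
    rw [e1, e2, hh]
  · intro hh
    have e1 : h * y = g⁻¹ * (g * h * g⁻¹ * (g * y * g⁻¹)) * g := by group
    have e2 : y * h = g⁻¹ * (g * y * g⁻¹ * (g * h * g⁻¹)) * g := by group
    rw [e1, e2, hh]

section matrix

variable {F : Type*} [Field F]

/-- A matrix commuting with a non-scalar `2 × 2` matrix `x` is a polynomial in `x`. -/
theorem exists_poly_of_commute (x a : Matrix (Fin 2) (Fin 2) F)
    (hx : x 0 1 ≠ 0 ∨ x 1 0 ≠ 0 ∨ x 0 0 ≠ x 1 1) (h : a * x = x * a) :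
    ∃ α β : F, a = α • (1 : Matrix (Fin 2) (Fin 2) F) + β • x := by
  have h00 := congrFun (congrFun h 0) 0
  have h01 := congrFun (congrFun h 0) 1
  have h10 := congrFun (congrFun h 1) 0
  have h11 := congrFun (congrFun h 1) 1
  simp only [Matrix.mul_apply, Fin.sum_univ_two] at h00 h01 h10 h11
  by_cases hx1 : x 0 1 = 0
  swap
  · refine ⟨a 0 0 - a 0 1 / x 0 1 * x 0 0, a 0 1 / x 0 1, ?_⟩
    ext i j
    fin_cases i <;> fin_cases j <;>
      simp only [Matrix.add_apply, Matrix.smul_apply, Matrix.one_apply, smul_eq_mul,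
        Fin.zero_eta, Fin.mk_one, Fin.isValue] <;> simp <;> field_simp
    · linear_combination (-1 : F) * h00
    · linear_combination (-1 : F) * h01
  by_cases hx2 : x 1 0 = 0
  swap
  · refine ⟨a 0 0 - a 1 0 / x 1 0 * x 0 0, a 1 0 / x 1 0, ?_⟩
    ext i j
    fin_cases i <;> fin_cases j <;>
      simp only [Matrix.add_apply, Matrix.smul_apply, Matrix.one_apply, smul_eq_mul,
        Fin.zero_eta, Fin.mk_one, Fin.isValue] <;> simp <;> field_simp
    · linear_combination h00
    · linear_combination h10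
  have hx3 : x 0 0 ≠ x 1 1 := by
    rcases hx with hx | hx | hx
    · exact absurd hx1 hx
    · exact absurd hx2 hx
    · exact hx
  have hx' : x 0 0 - x 1 1 ≠ 0 := sub_ne_zero.mpr hx3
  rw [hx1] at h01
  rw [hx2] at h10
  have ha01 : a 0 1 = 0 := by
    have : a 0 1 * (x 0 0 - x 1 1) = 0 := by linear_combination (-1 : F) * h01
    rcases mul_eq_zero.mp this with h | h
    · exact h
    · exact absurd h hx'
  have ha10 : a 1 0 = 0 := by
    have : a 1 0 * (x 0 0 - x 1 1) = 0 := by linear_combination h10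
    rcases mul_eq_zero.mp this with h | h
    · exact h
    · exact absurd h hx'
  refine ⟨a 0 0 - (a 0 0 - a 1 1) / (x 0 0 - x 1 1) * x 0 0, (a 0 0 - a 1 1) / (x 0 0 - x 1 1), ?_⟩
  ext i j
  fin_cases i <;> fin_cases j <;>
    simp only [Matrix.add_apply, Matrix.smul_apply, Matrix.one_apply, smul_eq_mul,
      Fin.zero_eta, Fin.mk_one, Fin.isValue] <;> simp [hx1, hx2, ha01, ha10]
  field_simp
  ring

theorem commute_of_commute_nonscalar (x a b : Matrix (Fin 2) (Fin 2) F)
    (hx : x 0 1 ≠ 0 ∨ x 1 0 ≠ 0 ∨ x 0 0 ≠ x 1 1) (ha : a * x = x * a) (hb : b * x = x * b) :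
    a * b = b * a := by
  obtain ⟨α, β, rfl⟩ := exists_poly_of_commute x a hx ha
  obtain ⟨γ, δ, rfl⟩ := exists_poly_of_commute x b hx hb
  have h1 : Commute (α • (1 : Matrix (Fin 2) (Fin 2) F)) (γ • (1 : Matrix (Fin 2) (Fin 2) F)) :=
    ((Commute.one_left _).smul_left α).smul_right γ
  have h2 : Commute (α • (1 : Matrix (Fin 2) (Fin 2) F)) (δ • x) :=
    ((Commute.one_left _).smul_left α).smul_right δ
  have h3 : Commute (β • x) (γ • (1 : Matrix (Fin 2) (Fin 2) F)) :=
    ((Commute.one_right _).smul_left β).smul_right γ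
  have h4 : Commute (β • x) (δ • x) :=
    ((Commute.refl x).smul_left β).smul_right δ
  exact ((h1.add_right h2).add_left (h3.add_right h4)).eq

theorem eq_one_of_sq_eq_one [CharP F 2] {r : F} (hr : r ^ 2 = 1) : r = 1 := by
  have h2 : (2 : F) = 0 := CharTwo.two_eq_zero
  have h3 : (r - 1) ^ 2 = 0 := by linear_combination hr + (1 - r) * h2
  have h4 : r - 1 = 0 := pow_eq_zero_iff (two_ne_zero) |>.mp h3
  exact sub_eq_zero.mp h4

theorem nonscalar_of_ne_one [CharP F 2] (x : Matrix.SpecialLinearGroup (Fin 2) F) (hx : x ≠ 1) :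
    x.1 0 1 ≠ 0 ∨ x.1 1 0 ≠ 0 ∨ x.1 0 0 ≠ x.1 1 1 := by
  by_contra hcon
  push Not at hcon
  obtain ⟨h1, h2, h3⟩ := hcon
  apply hx
  have hdet := x.2
  rw [Matrix.det_fin_two, h1, h2, ← h3] at hdet
  have hr : (x.1 0 0) ^ 2 = 1 := by linear_combination hdet
  have hr1 := eq_one_of_sq_eq_one hr
  apply Subtype.ext
  ext i j
  fin_cases i <;> fin_cases j <;> simp [h1, h2, ← h3, hr1]

theorem center_eq_bot [CharP F 2] :
    Subgroup.center (Matrix.SpecialLinearGroup (Fin 2) F) = ⊥ := by
  rw [eq_bot_iff]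
  intro A hA
  rw [Matrix.SpecialLinearGroup.mem_center_iff] at hA
  obtain ⟨r, hr, hA⟩ := hA
  rw [Fintype.card_fin] at hr
  have hr1 := eq_one_of_sq_eq_one hr
  rw [Subgroup.mem_bot]
  apply Subtype.ext
  rw [← hA, hr1]
  simp

end matrix

/-- Let F be a finite field with 2ⁿ elements, n ≥ 2. In PSL₂(F) the centralizer of every element meets each of its conjugates by elements outside its normalizer trivially. -/
theorem result (n : ℕ) (hn : 2 ≤ n)
    (x : Matrix.ProjectiveSpecialLinearGroup (Fin 2) (GaloisField 2 n)) :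
    Cfsg.IsTISubset (Subgroup.centralizer ({x} : Set (Matrix.ProjectiveSpecialLinearGroup (Fin 2) (GaloisField 2 n))) :
      Set (Matrix.ProjectiveSpecialLinearGroup (Fin 2) (GaloisField 2 n))) := by
  have hZ : Subgroup.center (Matrix.SpecialLinearGroup (Fin 2) (GaloisField 2 n)) = ⊥ :=
    center_eq_bot
  have hinj : Function.Injective
      (QuotientGroup.mk' (Subgroup.center (Matrix.SpecialLinearGroup (Fin 2) (GaloisField 2 n)))) := by
    rw [← MonoidHom.ker_eq_bot_iff, QuotientGroup.ker_mk', hZ]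
  apply isTISubset_centralizer_of_CA
  intro y hy1 a b hay hby
  obtain ⟨y, rfl⟩ := QuotientGroup.mk'_surjective _ y
  obtain ⟨a, rfl⟩ := QuotientGroup.mk'_surjective _ a
  obtain ⟨b, rfl⟩ := QuotientGroup.mk'_surjective _ b
  rw [← map_mul, ← map_mul] at hay hby ⊢
  have hay' := hinj hay
  have hby' := hinj hby
  have hy1' : y ≠ 1 := by
    rintro rfl
    exact hy1 (map_one _)
  congr 1
  apply Subtype.ext
  rw [Matrix.SpecialLinearGroup.coe_mul, Matrix.SpecialLinearGroup.coe_mul]
  apply commute_of_commute_nonscalar y.1 a.1 b.1 (nonscalar_of_ne_one y hy1')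
  · have := congrArg Subtype.val hay'
    simpa [Matrix.SpecialLinearGroup.coe_mul] using this
  · have := congrArg Subtype.val hby'
    simpa [Matrix.SpecialLinearGroup.coe_mul] using this

end Cfsg.Agent.S4065
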