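import Mathlib
import Cfsg.Prelude.Def_OddOrderLocal
import Cfsg.Agent.Lib.H20.SylowExtra
import Cfsg.Agent.Lib.H20.TI

set_option autoImplicit false

namespace Cfsg.Agent.S4066

open Cfsg.Agent.Lib.H20
open scoped Pointwise

theorem orderOf_conj_aux {G : Type*} [Group G] (g x : G) : orderOf (g * x * g⁻¹) = orderOf x := by
  have : g * x * g⁻¹ = MulAut.conj g x := by simp [MulAut.conj_apply]
  rw [this, MulEquiv.orderOf_eq]

theorem main {G : Type*} [Group G] [Finite G]
    (hTI : ∀ x : G, Cfsg.IsTISubset (Subgroup.centralizer ({x} : Set G) : Set G))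
    {p : ℕ} [Fact p.Prime] (P : Sylow p G) (g u : G) (hu : u ∈ (P : Subgroup G)) (hu1 : u ≠ 1)
    (hgu : g⁻¹ * u * g ∈ (P : Subgroup G)) :
    g ∈ Subgroup.normalizer ((P : Subgroup G) : Set G) := by
  classical
  have hp : p.Prime := Fact.out
  -- elementwise TI
  have hTI' : ∀ x g c : G, c * x = x * c → c ≠ 1 → (g * c * g⁻¹) * x = x * (g * c * g⁻¹) →
      g ∈ Subgroup.normalizer ((Subgroup.centralizer ({x} : Set G) : Subgroup G) : Set G) := by
    intro x g c hc hc1 hgc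
    by_contra hg
    exact hc1 (hTI x g hg c (Subgroup.mem_centralizer_singleton_iff.mpr hc)
      (Subgroup.mem_centralizer_singleton_iff.mpr hgc))
  have hcenter : ∀ x g : G,
      g ∈ Subgroup.normalizer ((Subgroup.centralizer ({x} : Set G) : Subgroup G) : Set G) →
      ∀ c : G, c * x = x * c → Commute (g * x * g⁻¹) c := by
    intro x g hg c hc
    have hginv := Subgroup.inv_mem _ hg
    have h1 := (Subgroup.mem_normalizer_iff.mp hginv c).mp
      (Subgroup.mem_centralizer_singleton_iff.mpr hc)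
    rw [inv_inv, Subgroup.mem_centralizer_singleton_iff] at h1
    -- h1 : g⁻¹ * c * g * x = x * (g⁻¹ * c * g)
    show g * x * g⁻¹ * c = c * (g * x * g⁻¹)
    calc g * x * g⁻¹ * c = g * (x * (g⁻¹ * c * g)) * g⁻¹ := by group
      _ = g * ((g⁻¹ * c * g) * x) * g⁻¹ := by rw [h1]
      _ = c * (g * x * g⁻¹) := by group
  -- the centre of P
  set ZP : Subgroup G := (P : Subgroup G) ⊓ Subgroup.centralizer ((P : Subgroup G) : Set G) with hZP
  have hZPmem : ∀ z : G, z ∈ ZP ↔ z ∈ (P : Subgroup G) ∧ ∀ a ∈ (P : Subgroup G), a * z = z * a := by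
    intro z
    rw [hZP, Subgroup.mem_inf, Subgroup.mem_centralizer_iff]
    rfl
  haveI : Nontrivial (P : Subgroup G) := ⟨⟨⟨u, hu⟩, 1, fun h => hu1 (congrArg Subtype.val h)⟩⟩
  haveI := P.isPGroup'.center_nontrivial
  obtain ⟨⟨z₀, hz₀c⟩, hz₀ne⟩ := exists_ne (1 : Subgroup.center (P : Subgroup G))
  have hz₀1 : (z₀ : G) ≠ 1 := by
    intro h
    apply hz₀ne
    apply Subtype.ext
    exact Subtype.ext h
  have hz₀ : (z₀ : G) ∈ ZP := by
    rw [hZPmem]
    refine ⟨z₀.2, fun a ha => ?_⟩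
    have := Subgroup.mem_center_iff.mp hz₀c ⟨a, ha⟩
    exact congrArg Subtype.val this
  -- Step A
  have stepA : ∀ z ∈ ZP, g * z * g⁻¹ ∈ ZP := by
    intro z hz
    by_cases hz1 : z = 1
    · rw [hz1]; simp
    obtain ⟨hzP, hzc⟩ := (hZPmem z).mp hz
    have h1 : g⁻¹ ∈ Subgroup.normalizer
        ((Subgroup.centralizer ({z} : Set G) : Subgroup G) : Set G) := by
      apply hTI' z g⁻¹ u (hzc u hu) hu1
      rw [inv_inv]
      exact hzc _ hgu
    have h2 : g ∈ Subgroup.normalizer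
        ((Subgroup.centralizer ({z} : Set G) : Subgroup G) : Set G) := by
      have := Subgroup.inv_mem _ h1
      rwa [inv_inv] at this
    have h3 := hcenter z g h2
    have ht : ∀ a ∈ (P : Subgroup G), a * (g * z * g⁻¹) = (g * z * g⁻¹) * a :=
      fun a ha => (h3 a (hzc a ha)).symm
    have htc : g * z * g⁻¹ ∈ Subgroup.centralizer ((P : Subgroup G) : Set G) := by
      rw [Subgroup.mem_centralizer_iff]; exact ht
    obtain ⟨k, hk⟩ := (IsPGroup.iff_orderOf.mp P.isPGroup') ⟨z, hzP⟩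
    have ho : orderOf (g * z * g⁻¹) = p ^ k := by
      rw [orderOf_conj_aux, ← hk, Subgroup.orderOf_mk]
    have htP : g * z * g⁻¹ ∈ (P : Subgroup G) :=
      mem_sylow_of_mem_normalizer P ho (Subgroup.centralizer_le_normalizer _ htc)
    exact (hZPmem _).mpr ⟨htP, ht⟩
  -- M = N(ZP)
  have hgM : g ∈ Subgroup.normalizer (ZP : Set G) := Subgroup.mem_normalizer_fintype stepA
  have hMconj : ∀ h ∈ Subgroup.normalizer (ZP : Set G), ∀ z ∈ ZP, h * z * h⁻¹ ∈ ZP :=
    fun h hh z hz => (Subgroup.mem_normalizer_iff.mp hh z).mp hz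
  have hPM : (P : Subgroup G) ≤ Subgroup.normalizer (ZP : Set G) := by
    intro a ha
    apply Subgroup.mem_normalizer_fintype
    intro z hz
    have hz' : z ∈ ZP := hz
    obtain ⟨_, hzc⟩ := (hZPmem z).mp hz'
    have : a * z * a⁻¹ = z := by rw [hzc a ha]; group
    rw [this]; exact hz
  -- Step C
  have stepC : ∀ h ∈ Subgroup.normalizer (ZP : Set G), ∀ y ∈ (P : Subgroup G), y ≠ 1 →
      ∀ c : G, c * y = y * c → Commute (h * y * h⁻¹) c := by
    intro h hh y hy hy1
    have h1 : (z₀ : G) * y = y * (z₀ : G) := (((hZPmem _).mp hz₀).2 y hy).symm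
    have h2 : (h * (z₀ : G) * h⁻¹) * y = y * (h * (z₀ : G) * h⁻¹) :=
      (((hZPmem _).mp (hMconj h hh _ hz₀)).2 y hy).symm
    exact hcenter y h (hTI' y h z₀ h1 hz₀1 h2)
  -- Step D
  have stepD : ∀ h ∈ Subgroup.normalizer (ZP : Set G), ∀ y ∈ (P : Subgroup G),
      h * y * h⁻¹ ∈ (P : Subgroup G) := by
    intro h hh y hy
    by_cases hy1 : y = 1
    · rw [hy1]; simp
    let T : Set G := {t | ∃ k ∈ Subgroup.normalizer (ZP : Set G), t = k * y * k⁻¹}
    have hTcomm : ∀ s ∈ T, ∀ t ∈ T, Commute s t := by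
      rintro s ⟨a, ha, rfl⟩ t ⟨b, hb, rfl⟩
      have hk : b⁻¹ * a ∈ Subgroup.normalizer (ZP : Set G) :=
        Subgroup.mul_mem _ (Subgroup.inv_mem _ hb) ha
      have h1 : Commute ((b⁻¹ * a) * y * (b⁻¹ * a)⁻¹) y := stepC _ hk y hy hy1 y rfl
      have h2 : Commute (MulAut.conj b ((b⁻¹ * a) * y * (b⁻¹ * a)⁻¹)) (MulAut.conj b y) :=
        h1.map (MulAut.conj b)
      have e1 : MulAut.conj b ((b⁻¹ * a) * y * (b⁻¹ * a)⁻¹) = a * y * a⁻¹ := by
        simp only [MulAut.conj_apply]; group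
      have e2 : MulAut.conj b y = b * y * b⁻¹ := by simp [MulAut.conj_apply]
      rw [e1, e2] at h2
      exact h2
    obtain ⟨k, hk⟩ := (IsPGroup.iff_orderOf.mp P.isPGroup') ⟨y, hy⟩
    have hyo : orderOf y = p ^ k := by rw [← hk, Subgroup.orderOf_mk]
    have hTp : ∀ t ∈ T, ∃ j : ℕ, t ^ (p ^ j) = 1 := by
      rintro t ⟨a, _, rfl⟩
      refine ⟨k, ?_⟩
      rw [← hyo, ← orderOf_conj_aux a y]
      exact pow_orderOf_eq_one _
    have hYp : IsPGroup p (Subgroup.closure T) := isPGroup_closure_of_pairwise_commute p T hTp hTcomm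
    have hMT : Subgroup.normalizer (ZP : Set G) ≤ Subgroup.normalizer ((Subgroup.closure T : Subgroup G) : Set G) := by
      intro a ha
      apply Subgroup.normalizer_le_normalizer_closure T
      rw [Subgroup.mem_set_normalizer_iff]
      intro t
      constructor
      · rintro ⟨b, hb, rfl⟩
        refine ⟨a * b, Subgroup.mul_mem _ ha hb, ?_⟩
        group
      · rintro ⟨b, hb, hbt⟩
        refine ⟨a⁻¹ * b, Subgroup.mul_mem _ (Subgroup.inv_mem _ ha) hb, ?_⟩
        have : t = a⁻¹ * (a * t * a⁻¹) * a := by group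
        rw [this, hbt]; group
    have hYP : Subgroup.closure T ≤ (P : Subgroup G) :=
      le_sylow_of_le_normalizer P _ hYp (hPM.trans hMT)
    exact hYP (Subgroup.subset_closure ⟨h, hh, rfl⟩)
  exact Subgroup.mem_normalizer_fintype (fun y hy => stepD g hgM y hy)

theorem result {G : Type*} [Group G] [Finite G] (hTI : ∀ x : G, Cfsg.IsTISubset (Subgroup.centralizer ({x} : Set G) : Set G))
    {p : ℕ} [Fact p.Prime] (P Q : Sylow p G) (hPQ : P ≠ Q) : (P : Subgroup G) ⊓ (Q : Subgroup G) = ⊥ := by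
  obtain ⟨g, hg⟩ := MulAction.exists_smul_eq G P Q
  rw [eq_bot_iff]
  intro u hu
  rw [Subgroup.mem_bot]
  by_contra hu1
  obtain ⟨huP, huQ⟩ := Subgroup.mem_inf.mp hu
  apply hPQ
  rw [← hg]
  symm
  rw [Sylow.smul_eq_iff_mem_normalizer]
  apply main hTI P g u huP hu1
  rw [← hg, Sylow.coe_subgroup_smul, mem_conj_smul_iff] at huQ
  exact huQ

end Cfsg.Agent.S4066
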