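import Cfsg.Statements.S4067
import Cfsg.Agent.Lib.H20.AutOrbits1
import Cfsg.Agent.Lib.H20.AutOrbits2
import Cfsg.Agent.Lib.H20.AutOrbits6

set_option autoImplicit false
open Cfsg

namespace Cfsg.Agent.S4067

open Cfsg.Agent.Lib.H20.AutOrb

/-- Let G be a finite non-abelian group and p the least prime dividing its order. Then the automorphism group of G has at most #G/p orbits on G. -/
theorem result {G : Type*} [Group G] [Finite G] (hna : ¬ IsMulCommutative G) :
    Nat.card (MulAction.orbitRel.Quotient (MulAut G) G) ≤ Nat.card G / (Nat.card G).minFac := by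
  have hZ : Subgroup.center G ≠ ⊤ := by
    rw [Ne, Subgroup.center_eq_top_iff]; exact hna
  have hcard1 : Nat.card G ≠ 1 := by
    intro h
    apply hna
    haveI : Subsingleton G := (Nat.card_eq_one_iff_unique.mp h).1
    exact ⟨⟨fun a b => Subsingleton.elim _ _⟩⟩
  have hp : (Nat.card G).minFac.Prime := Nat.minFac_prime hcard1
  have hmin : ∀ n : ℕ, n ∣ Nat.card G → n ≠ 1 → (Nat.card G).minFac ≤ n := by
    intro n hn hn1
    apply Nat.minFac_le_of_dvd _ hn
    have h0 : n ≠ 0 := by
      rintro rfl
      rw [zero_dvd_iff] at hn
      exact Nat.card_pos.ne' hn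
    omega
  generalize hpdef : (Nat.card G).minFac = p at hp hmin
  rw [Nat.le_div_iff_mul_le hp.pos, mul_comm]
  by_cases hd : (p + 1) * (commutator G).index ≤ Nat.card G
  · have h1 := mul_card_conjClasses_le p hp.pos hmin hd
    exact (Nat.mul_le_mul_left p card_orbits_le_card_conjClasses).trans h1
  · have hc : Nat.card (commutator G) = p := by
      have h1 : Nat.card (commutator G) * (commutator G).index = Nat.card G :=
        Subgroup.card_mul_index _
      have h2 : Nat.card (commutator G) ≤ p := by
        by_contra hcon
        push_neg at hcon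
        apply hd
        rw [← h1]
        exact Nat.mul_le_mul_right _ hcon
      have h3 : p ≤ Nat.card (commutator G) := by
        apply hmin _ (Subgroup.card_subgroup_dvd_card _)
        intro h
        rw [Subgroup.card_eq_one, commutator_def,
          Subgroup.commutator_top_left_eq_bot_iff_le_center] at h
        exact hZ (top_le_iff.mp h)
      omega
    have hD := le_center_of_card_eq hmin (commutator G) hc
    have hZ2 := sq_mul_card_center_le hmin hZ
    have hdata : HasData p G := by
      by_cases hA : ∃ w ∈ Subgroup.center G, w ^ p = 1 ∧ w ∉ commutator G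
      · obtain ⟨w, hw, hwp, hwD⟩ := hA
        exact hasData_of_central hp hD hc hZ hw hwp hwD
      · push_neg at hA
        rcases hp.eq_two_or_odd' with h2 | hodd
        · subst h2
          exact hasData_of_two hD hc hZ hA
        · exact hasData_of_odd hp hodd hD hc hZ2 hA
    exact mul_card_orbits_le_of_data hp hD hc hZ2 hdata

end Cfsg.Agent.S4067
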