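import Cfsg.Statements.S5748
import Mathlib
import Cfsg.Agent.Lib.H21.CATI5
import Cfsg.Agent.S0182
import Cfsg.Agent.Lib.H18.SL2Char2Action

set_option autoImplicit false
open Cfsg

namespace Cfsg.Agent.S5748

open Cfsg.Agent.Lib.H6.CIT (mem_centralizer_singleton)

/-- commuting is transitive on non-scalar `2 × 2` matrices over a field. -/
theorem commute_of_nonscalar {F : Type*} [Field F] {a b c : Matrix (Fin 2) (Fin 2) F}
    (hb : b 0 1 ≠ 0 ∨ b 1 0 ≠ 0 ∨ b 0 0 ≠ b 1 1) (hab : a * b = b * a) (hbc : b * c = c * b) :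
    a * c = c * a := by
  have e00 := congrFun (congrFun hab 0) 0
  have e01 := congrFun (congrFun hab 0) 1
  have e10 := congrFun (congrFun hab 1) 0
  have f00 := congrFun (congrFun hbc 0) 0
  have f01 := congrFun (congrFun hbc 0) 1
  have f10 := congrFun (congrFun hbc 1) 0
  simp only [Matrix.mul_apply, Fin.sum_univ_two] at e00 e01 e10 f00 f01 f10
  have hb' : b 0 0 - b 1 1 ≠ 0 ∨ b 0 1 ≠ 0 ∨ b 1 0 ≠ 0 := by
    rcases hb with hb | hb | hb
    · right; left; exact hb
    · right; right; exact hb
    · left; exact sub_ne_zero.mpr hb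
  ext i j
  fin_cases i <;> fin_cases j <;>
    simp only [Fin.zero_eta, Fin.mk_one, Matrix.mul_apply, Fin.sum_univ_two]
  · rcases hb' with hb | hb | hb <;> grind
  · rcases hb' with hb | hb | hb <;> grind
  · rcases hb' with hb | hb | hb <;> grind
  · rcases hb' with hb | hb | hb <;> grind

/-- in `SL₂(F)`, `char F = 2`, commuting is transitive on non-identity elements. -/
theorem sl2_commute_trans {F : Type*} [Field F] [CharP F 2]
    (a b c : Matrix.SpecialLinearGroup (Fin 2) F) (hb : b ≠ 1)
    (hab : a * b = b * a) (hbc : b * c = c * b) : a * c = c * a := by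
  have hns : (b : Matrix (Fin 2) (Fin 2) F) 0 1 ≠ 0 ∨ (b : Matrix (Fin 2) (Fin 2) F) 1 0 ≠ 0 ∨
      (b : Matrix (Fin 2) (Fin 2) F) 0 0 ≠ (b : Matrix (Fin 2) (Fin 2) F) 1 1 := by
    by_contra hcon
    push Not at hcon
    obtain ⟨h01, h10, h00⟩ := hcon
    apply hb
    have hdet := b.2
    rw [Matrix.det_fin_two, h01, h10, ← h00] at hdet
    have h2 : (2 : F) = 0 := CharTwo.two_eq_zero
    have h1 : ((b : Matrix (Fin 2) (Fin 2) F) 0 0 - 1) * ((b : Matrix (Fin 2) (Fin 2) F) 0 0 - 1) = 0 := by
      linear_combination hdet - (b : Matrix (Fin 2) (Fin 2) F) 0 0 * h2 + h2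
    have h3 : (b : Matrix (Fin 2) (Fin 2) F) 0 0 = 1 := sub_eq_zero.mp (mul_self_eq_zero.mp h1)
    apply Subtype.ext
    ext i j
    fin_cases i <;> fin_cases j
    · simpa using h3
    · simpa using h01
    · simpa using h10
    · simp only [Fin.mk_one, Matrix.SpecialLinearGroup.coe_one, Matrix.one_apply_eq]
      rw [← h00]; exact h3
  apply Subtype.ext
  rw [Matrix.SpecialLinearGroup.coe_mul, Matrix.SpecialLinearGroup.coe_mul]
  apply commute_of_nonscalar hns
  · rw [← Matrix.SpecialLinearGroup.coe_mul, ← Matrix.SpecialLinearGroup.coe_mul, hab]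
  · rw [← Matrix.SpecialLinearGroup.coe_mul, ← Matrix.SpecialLinearGroup.coe_mul, hbc]

/-- A finite non-abelian simple group in which commuting is a transitive relation on the non-identity elements (equivalently, every non-identity element has abelian centraliser) is isomorphic to PSL₂ over a field with 2^f elements for some f ≥ 2; conversely these groups have that property. -/
theorem result {G : Type*} [Group G] [Finite G] [IsSimpleGroup G] (hG : ¬ IsMulCommutative G) :
    (∀ a b c : G, a ≠ 1 → b ≠ 1 → c ≠ 1 → Commute a b → Commute b c → Commute a c) ↔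
    ∃ (F : Type) (_ : Field F) (_ : Fintype F) (f : ℕ), 2 ≤ f ∧ Fintype.card F = 2 ^ f ∧ Nonempty (G ≃* Matrix.ProjectiveSpecialLinearGroup (Fin 2) F) := by
  have hnc : ¬ ∀ a b : G, a * b = b * a := fun hc => hG ⟨⟨hc⟩⟩
  constructor
  · intro hCA
    have hCA' : ∀ x : G, x ≠ 1 → ∀ a ∈ Subgroup.centralizer ({x} : Set G),
        ∀ b ∈ Subgroup.centralizer ({x} : Set G), a * b = b * a := by
      intro x hx a ha b hb
      by_cases ha1 : a = 1
      · rw [ha1, one_mul, mul_one]
      by_cases hb1 : b = 1
      · rw [hb1, one_mul, mul_one]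
      rw [mem_centralizer_singleton] at ha hb
      exact hCA a x b ha1 hx hb1 ha.symm hb
    have heven : Even (Nat.card G) := by
      by_contra hodd
      rw [Nat.not_even_iff_odd] at hodd
      have hsol := Cfsg.Agent.S0182.result hodd hCA'
      exact hnc (IsSimpleGroup.comm_iff_isSolvable.mpr hsol)
    haveI : Fact (Nat.Prime 2) := ⟨Nat.prime_two⟩
    obtain ⟨t, ht⟩ := exists_prime_orderOf_dvd_card' 2 (even_iff_two_dvd.mp heven)
    have ht1 : t ≠ 1 := by
      intro e; rw [e, orderOf_one] at ht; omega
    have hyp : Cfsg.Agent.Lib.H21.CATI.Hyp (Subgroup.centralizer ({t} : Set G)) := by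
      refine ⟨?_, ⟨t, ?_, ht⟩, ?_⟩
      · intro a ha ha1
        rw [mem_centralizer_singleton] at ha
        ext x
        rw [mem_centralizer_singleton, mem_centralizer_singleton]
        by_cases hx1 : x = 1
        · rw [hx1, one_mul, mul_one, one_mul, mul_one]
          exact ⟨fun _ => rfl, fun _ => rfl⟩
        constructor
        · intro hx
          exact (hCA x a t hx1 ha1 ht1 hx.symm ha.symm).symm
        · intro hx
          exact (hCA x t a hx1 ht1 ha1 hx.symm ha).symm
      · rw [mem_centralizer_singleton]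
      · intro htop
        have hn : (Subgroup.centralizer ({t} : Set G)).Normal := Subgroup.normalizer_eq_top_iff.mp htop
        rcases hn.eq_bot_or_eq_top with hbot | htop'
        · have : t ∈ Subgroup.centralizer ({t} : Set G) := by rw [mem_centralizer_singleton]
          rw [hbot, Subgroup.mem_bot] at this
          exact ht1 this
        · apply hnc
          intro a b
          by_cases ha1 : a = 1
          · rw [ha1, one_mul, mul_one]
          by_cases hb1 : b = 1
          · rw [hb1, one_mul, mul_one]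
          have ha : a ∈ Subgroup.centralizer ({t} : Set G) := by rw [htop']; trivial
          have hb : b ∈ Subgroup.centralizer ({t} : Set G) := by rw [htop']; trivial
          rw [mem_centralizer_singleton] at ha hb
          exact hCA a t b ha1 ht1 hb1 ha.symm hb
    obtain ⟨F, fld, fin, f, hf2, hF, -, hiso⟩ := Cfsg.Agent.Lib.H21.CATI.main hyp
    exact ⟨F, fld, fin, f, hf2, hF, hiso⟩
  · rintro ⟨F, fld, fin, f, hf2, hF, ⟨φ⟩⟩
    have hchar : ringChar F = 2 := by
      haveI : CharP F (ringChar F) := ringChar.charP F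
      obtain ⟨m, hp, hm⟩ := FiniteField.card F (ringChar F)
      have hdvd : ringChar F ∣ 2 ^ f := by
        rw [← hF, hm]
        exact dvd_pow_self _ m.ne_zero
      exact (Nat.prime_dvd_prime_iff_eq hp Nat.prime_two).1 (hp.dvd_of_dvd_pow hdvd)
    haveI : CharP F 2 := by
      have := ringChar.charP F
      rwa [hchar] at this
    let ψ : G ≃* Matrix.SpecialLinearGroup (Fin 2) F := φ.trans Cfsg.Agent.Lib.H18.psl2EquivSl2
    intro a b c _ hb _ hab hbc
    have hb' : ψ b ≠ 1 := by
      intro e
      apply hb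
      exact (MulEquiv.map_eq_one_iff ψ).mp e
    have h1 : ψ a * ψ b = ψ b * ψ a := by rw [← map_mul, ← map_mul, hab.eq]
    have h2 : ψ b * ψ c = ψ c * ψ b := by rw [← map_mul, ← map_mul, hbc.eq]
    have h3 := sl2_commute_trans (ψ a) (ψ b) (ψ c) hb' h1 h2
    rw [← map_mul, ← map_mul] at h3
    exact ψ.injective h3

end Cfsg.Agent.S5748
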