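import Cfsg.Statements.S4073
import Mathlib
import Cfsg.Agent.S4072
import Cfsg.Agent.S5748
import Cfsg.Agent.Lib.H5.PSL2Iso
import Cfsg.Agent.Lib.H5.SNSMERS
import Cfsg.Agent.Lib.H3.SNSCA2
import Cfsg.Agent.Lib.H23.SNSTools
import Cfsg.Agent.Lib.H23.SNSMain

set_option autoImplicit false
set_option linter.style.haveILetI false
open Cfsg

namespace Cfsg.Agent.S4073

open Cfsg.Agent.S4072 (SN)
open Cfsg.Agent.Lib.H23.SNS

/-- Let G be a finite non-abelian simple group. Every non-abelian subgroup of G is self-normalizing if and only if G is isomorphic to PSL₂(2ⁿ) for some n ≥ 2 with 2ⁿ − 1 prime (this includes the alternating group of degree 5 as PSL₂(4)). -/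
theorem result {G : Type*} [Group G] [Finite G] [IsSimpleGroup G]
    (hna : ¬ IsMulCommutative G) :
    (∀ H : Subgroup G, ¬ IsMulCommutative H → Subgroup.normalizer (H : Set G) = H) ↔
    ∃ n : ℕ, 2 ≤ n ∧ (2 ^ n - 1).Prime ∧ Nonempty (G ≃* Matrix.ProjectiveSpecialLinearGroup (Fin 2) (GaloisField 2 n)) := by
  constructor
  · intro h
    have hSN : SN G := h
    have hct := commute_trans_of hna hSN
      (fun x hx hsol hnn => Cfsg.Agent.Lib.H3.SNS.ca2 hna hSN x hx hsol hnn)
    obtain ⟨F, _, _, f, hf, hF, ⟨e⟩⟩ := (Cfsg.Agent.S5748.result hna).mp hct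
    have hSNF : SN (Matrix.ProjectiveSpecialLinearGroup (Fin 2) F) := sn_of_equiv e hSN
    have hprime := Cfsg.Agent.Lib.H5.SNS.mersenne f hf hF hSNF
    haveI : Fact (Nat.Prime 2) := ⟨Nat.prime_two⟩
    letI : Fintype (GaloisField 2 f) := Fintype.ofFinite _
    have hcard : Fintype.card F = Fintype.card (GaloisField 2 f) := by
      rw [hF, ← Nat.card_eq_fintype_card, GaloisField.card 2 f (by omega)]
    have r : F ≃+* GaloisField 2 f := FiniteField.ringEquivOfCardEq hcard
    exact ⟨f, hf, hprime, ⟨e.trans (Cfsg.Agent.Lib.H5.PSL2Iso.pslMapEquiv r)⟩⟩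
  · rintro ⟨n, hn, hp, ⟨e⟩⟩
    haveI : Fact (Nat.Prime 2) := ⟨Nat.prime_two⟩
    letI : Fintype (GaloisField 2 n) := Fintype.ofFinite _
    have hF : Fintype.card (GaloisField 2 n) = 2 ^ n := by
      rw [← Nat.card_eq_fintype_card, GaloisField.card 2 n (by omega)]
    have hct : ∀ a b c : G, a ≠ 1 → b ≠ 1 → c ≠ 1 → Commute a b → Commute b c → Commute a c :=
      (Cfsg.Agent.S5748.result hna).mpr
        ⟨GaloisField 2 n, inferInstance, inferInstance, n, hn, hF, ⟨e⟩⟩
    have hct' : ∀ a b c : Matrix.ProjectiveSpecialLinearGroup (Fin 2) (GaloisField 2 n),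
        a ≠ 1 → b ≠ 1 → c ≠ 1 → Commute a b → Commute b c → Commute a c := by
      intro a b c ha hb hc hab hbc
      have h1 := hct (e.symm a) (e.symm b) (e.symm c)
        (by simpa using ha) (by simpa using hb) (by simpa using hc)
        (hab.map e.symm.toMonoidHom) (hbc.map e.symm.toMonoidHom)
      have h2 := h1.map e.toMonoidHom
      simpa using h2
    have hsimp : IsSimpleGroup (Matrix.ProjectiveSpecialLinearGroup (Fin 2) (GaloisField 2 n)) :=
      (MulEquiv.isSimpleGroup_congr e).mp inferInstance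
    have hSN := sn_psl2 n hn hF hp hsimp hct'
    exact sn_of_equiv e.symm hSN

end Cfsg.Agent.S4073
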