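import Cfsg.Statements.S4079
import Cfsg.Agent.Lib.H26.MC3Final

set_option autoImplicit false
open Cfsg

namespace Cfsg.Agent.S4079

open Cfsg.Agent.Lib.H26.MC3

/-- Let p be an odd prime and L a finite metacyclic p-group with no cyclic subgroup of index p, and let a be an automorphism of L of order p. Then a moves some element of order p of L if and only if p = 3 and the semidirect product L ⋊ ⟨a⟩ (of order 3·#L) has maximal class, i.e. nilpotency class m where #L = 3^m. -/
theorem result {L : Type*} [Group L] [Finite L] {p : ℕ} [Fact p.Prime]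
    (hp : p ≠ 2) (hL : IsPGroup p L) (hmc : Cfsg.IsMetacyclic L) (hnc : ∀ C : Subgroup L, IsCyclic C → C.index ≠ p)
    (a : MulAut L) (ha : orderOf a = p) (m : ℕ) (hm : Nat.card L = p ^ m) :
    (∃ x : L, orderOf x = p ∧ a x ≠ x) ↔
    (p = 3 ∧ Group.nilpotencyClass (SemidirectProduct L ↥(Subgroup.zpowers a) (Subgroup.zpowers a).subtype) = m) := by
  have hpp : p.Prime := Fact.out
  constructor
  · rintro ⟨x, hxo, hxa⟩
    have hx1 : x ≠ 1 := by
      intro h1
      rw [h1, orderOf_one] at hxo
      exact hpp.one_lt.ne hxo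
    have hnt : Nontrivial L := ⟨⟨x, 1, hx1⟩⟩
    have h : Hyp p L := ⟨hp, hL, hmc, hnc, hnt⟩
    have hmv : Mov p a := ⟨by rw [← ha]; exact pow_orderOf_eq_one a,
      ⟨x, by rw [← hxo]; exact pow_orderOf_eq_one x, hxa⟩⟩
    exact ⟨(p_eq_three' h hmv).1, semidirect_class h ha hmv hm⟩
  · rintro ⟨_, hclass⟩
    -- L is nontrivial: otherwise the semidirect product is abelian nontrivial of class 1 ≠ 0 = m
    have hnt : Nontrivial L := by
      by_contra hnt
      rw [not_nontrivial_iff_subsingleton] at hnt
      have hm0 : m = 0 := by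
        have h1 : Nat.card L = 1 := Nat.card_eq_one_iff_unique.mpr ⟨hnt, ⟨1⟩⟩
        rw [h1] at hm
        by_contra hne
        have : 1 < p ^ m := Nat.one_lt_pow hne hpp.one_lt
        omega
      have hcardS := card_SD a ha hm
      rw [hm0] at hcardS hclass
      -- class 0 means trivial group
      have hnil : Group.IsNilpotent (SD a) := (IsPGroup.of_card hcardS).isNilpotent
      have h0 : Subgroup.upperCentralSeries (SD a) 0 = ⊤ := by
        rw [upperCentralSeries_eq_top_iff_nilpotencyClass_le]
        exact le_of_eq hclass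
      rw [Subgroup.upperCentralSeries_zero] at h0
      have h1 : Nat.card (SD a) = 1 := by
        have h2 : Nat.card (⊥ : Subgroup (SD a)) = 1 := Subgroup.card_bot
        rw [h0, Subgroup.card_top] at h2
        exact h2
      rw [hcardS] at h1
      simp at h1
      exact hpp.one_lt.ne' h1
    have h : Hyp p L := ⟨hp, hL, hmc, hnc, hnt⟩
    obtain ⟨x, hx, hxa⟩ := semidirect_moves h ha hm hclass
    refine ⟨x, ?_, hxa⟩
    have hx1 : x ≠ 1 := by
      intro h1
      apply hxa
      rw [h1, map_one]
    exact orderOf_eq_prime hx hx1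

end Cfsg.Agent.S4079
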