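import Mathlib

set_option autoImplicit false

namespace Cfsg.Agent.S4080

open Matrix

/-- An element of `ZMod (p^2)` whose reduction mod `p` vanishes is a multiple of `p`. -/
theorem exists_mul_of_cast_eq_zero {p : ℕ} [Fact p.Prime] (u : ZMod (p ^ 2))
    (hu : (ZMod.castHom (dvd_pow_self p two_ne_zero) (ZMod p)) u = 0) :
    ∃ c : ZMod (p ^ 2), u = (p : ZMod (p ^ 2)) * c := by
  have hp : p.Prime := Fact.out
  haveI : NeZero (p ^ 2) := ⟨pow_ne_zero 2 hp.ne_zero⟩
  have h1 : u = ((u.val : ℕ) : ZMod (p ^ 2)) := (ZMod.natCast_zmod_val u).symm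
  rw [h1, map_natCast, ZMod.natCast_eq_zero_iff] at hu
  obtain ⟨k, hk⟩ := hu
  refine ⟨(k : ZMod (p ^ 2)), ?_⟩
  rw [h1, hk]
  push_cast
  rfl

/-- An element of `ZMod (p^2)` killed by `p` is a multiple of `p`. -/
theorem exists_mul_of_mul_eq_zero {p : ℕ} [Fact p.Prime] (u : ZMod (p ^ 2))
    (hu : (p : ZMod (p ^ 2)) * u = 0) :
    ∃ c : ZMod (p ^ 2), u = (p : ZMod (p ^ 2)) * c := by
  have hp : p.Prime := Fact.out
  haveI : NeZero (p ^ 2) := ⟨pow_ne_zero 2 hp.ne_zero⟩
  have h1 : u = ((u.val : ℕ) : ZMod (p ^ 2)) := (ZMod.natCast_zmod_val u).symm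
  rw [h1, ← Nat.cast_mul, ZMod.natCast_eq_zero_iff] at hu
  have h2 : p ∣ u.val := by
    have hu' : p * p ∣ p * u.val := by rw [← pow_two]; exact hu
    exact Nat.dvd_of_mul_dvd_mul_left hp.pos hu'
  obtain ⟨k, hk⟩ := h2
  refine ⟨(k : ZMod (p ^ 2)), ?_⟩
  rw [h1, hk]
  push_cast
  rfl

theorem natCast_mul_self_eq_zero {p : ℕ} : (p : ZMod (p ^ 2)) * (p : ZMod (p ^ 2)) = 0 := by
  rw [← Nat.cast_mul, ← pow_two, ZMod.natCast_self]

/-- A nilpotent `2 × 2` matrix over a field squares to zero. -/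
theorem sq_eq_zero_of_isNilpotent {F : Type*} [Field F] (N : Matrix (Fin 2) (Fin 2) F)
    (hN : IsNilpotent N) : N ^ 2 = 0 := by
  have h1 := Matrix.isNilpotent_charpoly_sub_pow_of_isNilpotent hN
  have h2 : N.charpoly - Polynomial.X ^ (Fintype.card (Fin 2)) = 0 := h1.eq_zero
  have h3 : N.charpoly = Polynomial.X ^ 2 := by
    rw [sub_eq_zero] at h2
    rw [h2]; simp
  have h4 := Matrix.aeval_self_charpoly N
  rw [h3] at h4
  simpa using h4


/-- Key matrix lemma: a `2 × 2` matrix over `ZMod (p^2)` (`p > 3`) with `M ^ p = 1` is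
congruent to `1` modulo `p`. -/
theorem matrix_key {p : ℕ} [Fact p.Prime] (hp3 : 3 < p)
    (M : Matrix (Fin 2) (Fin 2) (ZMod (p ^ 2))) (hM : M ^ p = 1) :
    p • (M - 1) = 0 := by
  have hp : p.Prime := Fact.out
  obtain ⟨N, hNdef⟩ : ∃ N, N = M - 1 := ⟨_, rfl⟩
  rw [← hNdef]
  have hMN : M = N + 1 := by rw [hNdef]; abel
  -- reduction mod p
  obtain ⟨f, hf⟩ : ∃ f : Matrix (Fin 2) (Fin 2) (ZMod (p ^ 2)) →+* Matrix (Fin 2) (Fin 2) (ZMod p),
      f = (ZMod.castHom (dvd_pow_self p two_ne_zero) (ZMod p)).mapMatrix := ⟨_, rfl⟩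
  have hfM : (f M) ^ p = 1 := by rw [← map_pow, hM, map_one]
  have hfN : (f N) ^ p = 0 := by
    rw [hNdef, map_sub, map_one, sub_pow_char_of_commute _ (Commute.one_right _), hfM, one_pow,
      sub_self]
  have hfN2 : (f N) ^ 2 = 0 := sq_eq_zero_of_isNilpotent _ ⟨p, hfN⟩
  have hN2 : ∀ i j, ∃ c, (N ^ 2) i j = (p : ZMod (p ^ 2)) * c := by
    intro i j
    apply exists_mul_of_cast_eq_zero
    have := congrFun (congrFun hfN2 i) j
    rw [← map_pow, hf] at this
    simpa using this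
  have hpN2 : p • N ^ 2 = 0 := by
    ext i j
    obtain ⟨c, hc⟩ := hN2 i j
    rw [Matrix.smul_apply, hc, nsmul_eq_mul, ← mul_assoc, natCast_mul_self_eq_zero, zero_mul]
    rfl
  have hN4 : N ^ 4 = 0 := by
    have : N ^ 4 = N ^ 2 * N ^ 2 := by rw [← pow_add]
    rw [this]
    ext i j
    rw [Matrix.mul_apply]
    apply Finset.sum_eq_zero
    intro k _
    obtain ⟨c, hc⟩ := hN2 i k
    obtain ⟨c', hc'⟩ := hN2 k j
    rw [hc, hc', mul_mul_mul_comm, natCast_mul_self_eq_zero, zero_mul]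
  have hexp := (Commute.one_right N).add_pow p
  rw [← hMN, hM] at hexp
  have hzero : ∀ m ∈ Finset.range (p + 1), m ∉ Finset.range 2 →
      N ^ m * 1 ^ (p - m) * ((p.choose m : ℕ) : Matrix (Fin 2) (Fin 2) (ZMod (p ^ 2))) = 0 := by
    intro m hm hm2
    rw [Finset.mem_range] at hm hm2
    rw [one_pow, mul_one]
    rcases Nat.lt_or_ge m p with hlt | hge
    · obtain ⟨c, hc⟩ := hp.dvd_choose_self (by omega) hlt
      rw [hc, ← nsmul_eq_mul', mul_nsmul]
      have : N ^ m = N ^ 2 * N ^ (m - 2) := by rw [← pow_add]; congr 1; omega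
      rw [this, ← smul_mul_assoc, hpN2, zero_mul, smul_zero]
    · have hmp : m = p := by omega
      have : N ^ m = N ^ 4 * N ^ (m - 4) := by rw [← pow_add]; congr 1; omega
      rw [this, hN4, zero_mul, zero_mul]
  rw [← Finset.sum_subset (by intro m hm; rw [Finset.mem_range] at hm ⊢; omega) hzero] at hexp
  rw [Finset.sum_range_succ, Finset.sum_range_one] at hexp
  simp only [pow_zero, one_pow, mul_one, Nat.choose_zero_right, Nat.cast_one, pow_one,
    Nat.choose_one_right] at hexp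
  rw [← nsmul_eq_mul'] at hexp
  exact left_eq_add.mp hexp


/-- The additive endomorphism induced by an automorphism of `Multiplicative L`. -/
def addHom {L : Type*} [AddCommGroup L] (a : MulAut (Multiplicative L)) : L →+ L where
  toFun v := Multiplicative.toAdd (a (Multiplicative.ofAdd v))
  map_zero' := by simp
  map_add' v w := by simp

/-- The `ZMod (p^2)`-linear endomorphism induced by an automorphism, as a monoid hom. -/
def lin (p : ℕ) : MulAut (Multiplicative (ZMod (p ^ 2) × ZMod (p ^ 2))) →*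
    Module.End (ZMod (p ^ 2)) (ZMod (p ^ 2) × ZMod (p ^ 2)) where
  toFun a := (addHom a).toZModLinearMap (p ^ 2)
  map_one' := rfl
  map_mul' _ _ := rfl

theorem lin_apply (p : ℕ) (a : MulAut (Multiplicative (ZMod (p ^ 2) × ZMod (p ^ 2))))
    (v : ZMod (p ^ 2) × ZMod (p ^ 2)) :
    lin p a v = Multiplicative.toAdd (a (Multiplicative.ofAdd v)) := rfl

/-- Let p > 3 be a prime and L the direct product of two cyclic groups of order p². Every automorphism of L of order p fixes every element of order p of L. -/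
theorem result {p : ℕ} [Fact p.Prime] (hp : 3 < p)
    (a : MulAut (Multiplicative (ZMod (p ^ 2) × ZMod (p ^ 2)))) (ha : orderOf a = p)
    (x : Multiplicative (ZMod (p ^ 2) × ZMod (p ^ 2))) (hx : orderOf x = p) : a x = x := by
  have hap : a ^ p = 1 := by
    have := pow_orderOf_eq_one a
    rwa [ha] at this
  have hxp : x ^ p = 1 := by
    have := pow_orderOf_eq_one x
    rwa [hx] at this
  -- the matrix of `a`
  have hlin : (lin p a) ^ p = 1 := by rw [← map_pow, hap, map_one]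
  obtain ⟨e, he⟩ : ∃ e : Module.End (ZMod (p ^ 2)) (ZMod (p ^ 2) × ZMod (p ^ 2)) ≃ₐ[ZMod (p ^ 2)]
      Matrix (Fin 2) (Fin 2) (ZMod (p ^ 2)),
      e = LinearMap.toMatrixAlgEquiv (Module.Basis.finTwoProd (ZMod (p ^ 2))) := ⟨_, rfl⟩
  have hM : (e (lin p a)) ^ p = 1 := by rw [← map_pow, hlin, map_one]
  have hkey := matrix_key hp (e (lin p a)) hM
  have hkey2 : p • (lin p a - 1) = 0 := by
    apply e.injective
    rw [map_nsmul, map_sub, map_one, map_zero]
    exact hkey
  -- `x = p • w`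
  obtain ⟨v, hv⟩ : ∃ v, x = Multiplicative.ofAdd v := ⟨Multiplicative.toAdd x, rfl⟩
  rw [hv] at hxp ⊢
  clear hx hv
  have hpv : p • v = 0 := by
    have : Multiplicative.ofAdd (p • v) = 1 := by rw [ofAdd_nsmul]; exact hxp
    simpa using this
  have hv1 : (p : ZMod (p ^ 2)) * v.1 = 0 := by
    have := congrArg Prod.fst hpv
    simpa [nsmul_eq_mul] using this
  have hv2 : (p : ZMod (p ^ 2)) * v.2 = 0 := by
    have := congrArg Prod.snd hpv
    simpa [nsmul_eq_mul] using this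
  obtain ⟨w1, hw1⟩ := exists_mul_of_mul_eq_zero v.1 hv1
  obtain ⟨w2, hw2⟩ := exists_mul_of_mul_eq_zero v.2 hv2
  have hvw : v = p • ((w1, w2) : ZMod (p ^ 2) × ZMod (p ^ 2)) := by
    ext
    · simp [nsmul_eq_mul, hw1]
    · simp [nsmul_eq_mul, hw2]
  have h1 : lin p a v = v := by
    have h2 := LinearMap.congr_fun hkey2 (w1, w2)
    rw [LinearMap.smul_apply, LinearMap.sub_apply, Module.End.one_apply, LinearMap.zero_apply,
      smul_sub, sub_eq_zero] at h2
    rw [hvw, map_nsmul, h2]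
  rw [lin_apply] at h1
  have := congrArg Multiplicative.ofAdd h1
  simpa using this

end Cfsg.Agent.S4080
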