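import Mathlib

namespace Cfsg.Agent.S4084

theorem aux {G H : Type*} [Group G] [Finite G] [Group H] [Finite H] (e : G ≃ H)
    (he : ∀ x y : G, Commute x y ↔ Commute (e x) (e y))
    {p q : ℕ} (hp : p.Prime) (hq : q.Prime) (hpq : p ≠ q) (g : G) (hg : orderOf g = p * q) :
    ∃ h : H, orderOf h = p * q := by
  classical
  -- maximal commuting set containing ⟨g⟩
  let F : Set (Set G) := {S | (∀ a ∈ S, ∀ b ∈ S, Commute a b) ∧ (Subgroup.zpowers g : Set G) ⊆ S}
  have hFfin : F.Finite := Set.toFinite F
  have hZ : (Subgroup.zpowers g : Set G) ∈ F := by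
    refine ⟨?_, subset_rfl⟩
    intro a ha b hb
    obtain ⟨i, rfl⟩ := Subgroup.mem_zpowers_iff.mp ha
    obtain ⟨j, rfl⟩ := Subgroup.mem_zpowers_iff.mp hb
    exact ((Commute.refl g).zpow_right j).zpow_left i
  obtain ⟨S, hZS, hSmax⟩ := hFfin.exists_le_maximal hZ
  have hSF : S ∈ F := hSmax.prop
  have hScomm := hSF.1
  have hgS : g ∈ S := hSF.2 (Subgroup.mem_zpowers g)
  have hSclosed : ∀ c : G, (∀ s ∈ S, Commute c s) → c ∈ S := by
    intro c hc
    have hins : insert c S ∈ F := by
      refine ⟨?_, hSF.2.trans (Set.subset_insert c S)⟩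
      intro a ha b hb
      rcases Set.mem_insert_iff.mp ha with ha1 | ha1
      · rcases Set.mem_insert_iff.mp hb with hb1 | hb1
        · rw [ha1, hb1]
        · rw [ha1]; exact hc b hb1
      · rcases Set.mem_insert_iff.mp hb with hb1 | hb1
        · rw [hb1]; exact (hc a ha1).symm
        · exact hScomm a ha1 b hb1
    have := hSmax.le_of_ge hins (Set.subset_insert c S)
    exact this (Set.mem_insert c S)
  have hA : ((Subgroup.centralizer S : Subgroup G) : Set G) = S := by
    ext c
    constructor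
    · intro hc
      apply hSclosed
      intro s hs
      exact Commute.symm (Subgroup.mem_centralizer_iff.mp hc s hs)
    · intro hc
      rw [SetLike.mem_coe, Subgroup.mem_centralizer_iff]
      intro s hs
      exact (hScomm s hs c hc)
  have hB : ((Subgroup.centralizer (e '' S) : Subgroup H) : Set H) = e '' S := by
    ext c
    constructor
    · intro hc
      refine ⟨e.symm c, ?_, by simp⟩
      apply hSclosed
      intro s hs
      rw [he]
      simp only [Equiv.apply_symm_apply]
      exact Commute.symm (Subgroup.mem_centralizer_iff.mp hc (e s) ⟨s, hs, rfl⟩)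
    · rintro ⟨c, hc, rfl⟩
      rw [SetLike.mem_coe, Subgroup.mem_centralizer_iff]
      rintro _ ⟨s, hs, rfl⟩
      exact (he s c).mp (hScomm s hs c hc)
  have hcard : Nat.card (Subgroup.centralizer (e '' S) : Subgroup H) =
      Nat.card (Subgroup.centralizer S : Subgroup G) := by
    rw [← SetLike.coe_sort_coe, ← SetLike.coe_sort_coe, Nat.card_coe_set_eq, Nat.card_coe_set_eq, hA, hB]
    exact Set.ncard_image_of_injective S e.injective
  have hgA : g ∈ Subgroup.centralizer S := by
    rw [← SetLike.mem_coe, hA]; exact hgS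
  have hdvd : p * q ∣ Nat.card (Subgroup.centralizer (e '' S) : Subgroup H) := by
    rw [hcard, ← hg]
    have : orderOf (⟨g, hgA⟩ : (Subgroup.centralizer S : Subgroup G)) ∣ _ := orderOf_dvd_natCard _
    rwa [Subgroup.orderOf_mk] at this
  haveI : Fact p.Prime := ⟨hp⟩
  haveI : Fact q.Prime := ⟨hq⟩
  obtain ⟨a, ha⟩ := exists_prime_orderOf_dvd_card' (G := (Subgroup.centralizer (e '' S) : Subgroup H)) p
    ((dvd_mul_right p q).trans hdvd)
  obtain ⟨b, hb⟩ := exists_prime_orderOf_dvd_card' (G := (Subgroup.centralizer (e '' S) : Subgroup H)) q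
    ((dvd_mul_left q p).trans hdvd)
  have hab : Commute (a : H) (b : H) := by
    have ha' : (a : H) ∈ ((Subgroup.centralizer (e '' S) : Subgroup H) : Set H) := a.2
    have hb' : (b : H) ∈ ((Subgroup.centralizer (e '' S) : Subgroup H) : Set H) := b.2
    rw [hB] at ha' hb'
    obtain ⟨s, hs, hsa⟩ := ha'
    obtain ⟨t, ht, htb⟩ := hb'
    rw [← hsa, ← htb]
    exact (he s t).mp (hScomm s hs t ht)
  refine ⟨(a : H) * (b : H), ?_⟩
  have hoa : orderOf (a : H) = p := by rw [Subgroup.orderOf_coe]; exact ha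
  have hob : orderOf (b : H) = q := by rw [Subgroup.orderOf_coe]; exact hb
  rw [hab.orderOf_mul_eq_mul_orderOf_of_coprime (by rw [hoa, hob]; exact (Nat.coprime_primes hp hq).mpr hpq),
    hoa, hob]

theorem result {G H : Type*} [Group G] [Finite G] [Group H] [Finite H] (e : G ≃ H)
    (he : ∀ x y : G, Commute x y ↔ Commute (e x) (e y))
    {p q : ℕ} (hp : p.Prime) (hq : q.Prime) (hpq : p ≠ q) :
    (∃ g : G, orderOf g = p * q) ↔ (∃ h : H, orderOf h = p * q) := by
  constructor
  · rintro ⟨g, hg⟩
    exact aux e he hp hq hpq g hg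
  · rintro ⟨h, hh⟩
    refine aux e.symm ?_ hp hq hpq h hh
    intro x y
    have := he (e.symm x) (e.symm y)
    simp only [Equiv.apply_symm_apply] at this
    exact this.symm

end Cfsg.Agent.S4084
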