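import Cfsg.Statements.S4086
import Cfsg.Agent.Lib.H20.Cyclic

set_option autoImplicit false
open Cfsg

namespace Cfsg.Agent.S4086

open Cfsg.Agent.Lib.H20

/-- For a finite group G the following are equivalent: every non-identity element has prime-power order; whenever two elements generate a cyclic subgroup, one of them is a power of the other (the enhanced power graph of G coincides with its power graph). -/
theorem result {G : Type*} [Group G] [Finite G] :
    (∀ g : G, g ≠ 1 → IsPrimePow (orderOf g)) ↔
    (∀ x y : G, IsCyclic ↥(Subgroup.closure ({x, y} : Set G)) → (x ∈ Subgroup.zpowers y ∨ y ∈ Subgroup.zpowers x)) := by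
  constructor
  · intro h x y hc
    obtain ⟨z, hz⟩ := (Subgroup.isCyclic_iff_exists_zpowers_eq_top _).mp hc
    have hxz : x ∈ Subgroup.zpowers z := by
      rw [hz]; exact Subgroup.subset_closure (by simp)
    have hyz : y ∈ Subgroup.zpowers z := by
      rw [hz]; exact Subgroup.subset_closure (by simp)
    by_cases hz1 : z = 1
    · subst hz1
      rw [Subgroup.zpowers_one_eq_bot, Subgroup.mem_bot] at hxz
      subst hxz
      left; exact Subgroup.one_mem _
    obtain ⟨p, k, hp, hk, hpk⟩ := h z hz1
    have hx := orderOf_dvd_of_mem_zpowers hxz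
    have hy := orderOf_dvd_of_mem_zpowers hyz
    rw [← hpk] at hx hy
    obtain ⟨a, ha, hxa⟩ := (Nat.dvd_prime_pow hp.nat_prime).mp hx
    obtain ⟨b, hb, hyb⟩ := (Nat.dvd_prime_pow hp.nat_prime).mp hy
    rcases le_total a b with hab | hab
    · left
      apply mem_zpowers_of_orderOf_dvd hxz hyz
      rw [hxa, hyb]; exact pow_dvd_pow p hab
    · right
      apply mem_zpowers_of_orderOf_dvd hyz hxz
      rw [hxa, hyb]; exact pow_dvd_pow p hab
  · intro h g hg
    by_contra hnp
    set n := orderOf g with hn
    have hn0 : 0 < n := orderOf_pos g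
    have hn1 : n ≠ 1 := by
      intro h1; exact hg (orderOf_eq_one_iff.mp h1)
    set p := n.minFac with hpdef
    have hp : p.Prime := Nat.minFac_prime hn1
    set a := p ^ n.factorization p with hadef
    set b := n / a with hbdef
    have hab : a * b = n := Nat.ordProj_mul_ordCompl_eq_self n p
    have hcop : Nat.Coprime a b := by
      apply Nat.Coprime.pow_left
      exact Nat.coprime_ordCompl hp hn0.ne'
    have hb1 : b ≠ 1 := by
      intro hb
      rw [hb, mul_one] at hab
      apply hnp
      rw [← hab]
      refine ⟨p, n.factorization p, hp.prime, ?_, rfl⟩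
      exact (hp.factorization_pos_of_dvd hn0.ne' (Nat.minFac_dvd n))
    have ha1 : a ≠ 1 := by
      intro ha
      have : 0 < n.factorization p := hp.factorization_pos_of_dvd hn0.ne' (Nat.minFac_dvd n)
      have h2 : p ^ 1 ≤ p ^ n.factorization p := Nat.pow_le_pow_right hp.pos this
      have h3 := hp.one_lt
      rw [pow_one] at h2
      rw [hadef] at ha
      omega
    have ha0 : a ≠ 0 := by intro h0; rw [h0, zero_mul] at hab; omega
    have hb0 : b ≠ 0 := by intro h0; rw [h0, mul_zero] at hab; omega
    have hoa : orderOf (g ^ a) = b := by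
      rw [orderOf_pow_of_dvd ha0 (Dvd.intro _ hab), ← hn]
    have hob : orderOf (g ^ b) = a := by
      rw [orderOf_pow_of_dvd hb0 (Dvd.intro_left _ hab), ← hn, ← hab, Nat.mul_div_cancel _ (Nat.pos_of_ne_zero hb0)]
    have hcyc : IsCyclic ↥(Subgroup.closure ({g ^ a, g ^ b} : Set G)) := by
      have hle : Subgroup.closure ({g ^ a, g ^ b} : Set G) ≤ Subgroup.zpowers g := by
        rw [Subgroup.closure_le]
        intro x hx
        rcases hx with rfl | rfl
        · exact Subgroup.npow_mem_zpowers g a
        · exact Subgroup.npow_mem_zpowers g b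
      exact Subgroup.isCyclic_of_le hle
    rcases h _ _ hcyc with h1 | h1
    · have := orderOf_dvd_of_mem_zpowers h1
      rw [hoa, hob] at this
      have := Nat.Coprime.eq_one_of_dvd hcop.symm this
      exact hb1 this
    · have := orderOf_dvd_of_mem_zpowers h1
      rw [hoa, hob] at this
      have := Nat.Coprime.eq_one_of_dvd hcop this
      exact ha1 this

end Cfsg.Agent.S4086
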