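import Cfsg.Statements.S4090
import Cfsg.Agent.Lib.H20.Casolo7

set_option autoImplicit false
open scoped BigOperators
open Cfsg

namespace Cfsg.Agent.S4090

open Cfsg.Agent.Lib.H20.Casolo

theorem telescope : ∀ (n : ℕ) (f : Fin (n + 1) → ℕ) (a : Fin n → ℕ),
    (∀ i : Fin n, f i.castSucc = a i * f i.succ) → f 0 = (∏ i, a i) * f (Fin.last n) := by
  intro n
  induction n with
  | zero =>
    intro f a _
    rw [Fin.prod_univ_zero, one_mul]
    rfl
  | succ n ih =>
    intro f a h
    have h1 := ih (fun i => f i.castSucc) (fun i => a i.castSucc) (by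
      intro i
      have := h i.castSucc
      rw [Fin.succ_castSucc] at this
      exact this)
    simp only [Fin.castSucc_zero] at h1
    rw [h1, h (Fin.last n), Fin.succ_last, Fin.prod_univ_castSucc, mul_assoc]

theorem card_sylow_eq {G : Type*} [Group G] [Finite G] (p : ℕ) [Fact p.Prime] (P : Sylow p G)
    (k B : ℕ) (hB : B.Coprime p) (h : Nat.card G = p ^ k * B) : Nat.card (P : Subgroup G) = p ^ k := by
  have hp : p.Prime := Fact.out
  rw [P.card_eq_multiplicity, h]
  congr 1
  have hB0 : B ≠ 0 := by
    rintro rfl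
    rw [Nat.coprime_zero_left] at hB
    exact hp.one_lt.ne' hB
  rw [Nat.factorization_mul (pow_ne_zero _ hp.pos.ne') hB0, hp.factorization_pow,
    Finsupp.add_apply, Finsupp.single_eq_same,
    Nat.factorization_eq_zero_of_not_dvd ((Nat.Prime.coprime_iff_not_dvd hp).mp hB.symm), add_zero]

/-- Let G be a finite p-solvable group, H a p-subgroup of G and P a Sylow p-subgroup, and fix a chain of normal subgroups 1 = M₀ ≤ M₁ ≤ ⋯ ≤ Mₙ = G of G each of whose factors is a p-group or a p'-group. Then the number of elements g of G such that H is subnormal in the subgroup generated by H and g equals the order of P times the product, over the factors Mᵢ₊₁/Mᵢ of order prime to p, of the order of the centralizer of H in Mᵢ₊₁/Mᵢ (counted as the number of u ∈ Mᵢ₊₁ with [h, u] ∈ Mᵢ for all h ∈ H, divided by the order of Mᵢ). -/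
theorem result {G : Type*} [Group G] [Finite G] (p : ℕ) [Fact p.Prime]
    (hG : Cfsg.IsPSolvable p G) (H : Subgroup G) (hH : IsPGroup p H) (P : Sylow p G)
    (n : ℕ) (M : Fin (n + 1) → Subgroup G) (h0 : M 0 = ⊥) (hn : M (Fin.last n) = ⊤) (hmono : Monotone M)
    (hnormal : ∀ i, (M i).Normal)
    (hfac : ∀ i : Fin n, (∃ m : ℕ, (M i.castSucc).relIndex (M i.succ) = p ^ m) ∨ ((M i.castSucc).relIndex (M i.succ)).Coprime p) :
    Nat.card {g : G // ((H).subgroupOf (H ⊔ Subgroup.zpowers g)).IsSubnormal} =
      Nat.card (P : Subgroup G) *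
        ∏ i : Fin n, (if ((M i.castSucc).relIndex (M i.succ)).Coprime p then
          Nat.card {u : G // u ∈ M i.succ ∧ ∀ h ∈ H, h * u * h⁻¹ * u⁻¹ ∈ M i.castSucc} / Nat.card (M i.castSucc)
          else 1) := by
  haveI : ∀ i, (M i).Normal := hnormal
  have hle : ∀ i : Fin n, M i.castSucc ≤ M i.succ := fun i => hmono (Fin.castSucc_lt_succ).le
  -- the steps
  have hstep : ∀ i : Fin n, snq H (M i.castSucc) =
      (if ((M i.castSucc).relIndex (M i.succ)).Coprime p then
          Nat.card {u : G // u ∈ M i.succ ∧ ∀ h ∈ H, h * u * h⁻¹ * u⁻¹ ∈ M i.castSucc} /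
            Nat.card (M i.castSucc)
        else (M i.castSucc).relIndex (M i.succ)) * snq H (M i.succ) := by
    intro i
    by_cases hc : ((M i.castSucc).relIndex (M i.succ)).Coprime p
    · rw [if_pos hc]
      exact snq_step_coprime p hH _ _ (hle i) hc
    · rw [if_neg hc]
      obtain ⟨m, hm⟩ := (hfac i).resolve_right hc
      exact snq_step_pgroup p hH _ _ (hle i) hm
  have e1 := telescope n (fun i => snq H (M i)) _ hstep
  beta_reduce at e1
  rw [snq_of_eq_top p hH _ hn, mul_one, ← snq_of_eq_bot p hH _ h0] at e1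
  rw [e1]
  -- the order of `G`
  have hidx : ∀ i : Fin n, (M i.castSucc).index =
      (M i.castSucc).relIndex (M i.succ) * (M i.succ).index :=
    fun i => (Subgroup.relIndex_mul_index (hle i)).symm
  have e2 := telescope n (fun i => (M i).index) _ hidx
  beta_reduce at e2
  rw [h0, hn, Subgroup.index_bot, Subgroup.index_top, mul_one] at e2
  -- split the products
  have hsplit : ∀ i : Fin n, (M i.castSucc).relIndex (M i.succ) =
      (if ((M i.castSucc).relIndex (M i.succ)).Coprime p then 1
        else (M i.castSucc).relIndex (M i.succ)) *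
      (if ((M i.castSucc).relIndex (M i.succ)).Coprime p then (M i.castSucc).relIndex (M i.succ)
        else 1) := by
    intro i
    split_ifs <;> simp
  have hpow : ∀ i : Fin n, ∃ m : ℕ, (if ((M i.castSucc).relIndex (M i.succ)).Coprime p then 1
        else (M i.castSucc).relIndex (M i.succ)) = p ^ m := by
    intro i
    by_cases hc : ((M i.castSucc).relIndex (M i.succ)).Coprime p
    · exact ⟨0, by rw [if_pos hc, pow_zero]⟩
    · obtain ⟨m, hm⟩ := (hfac i).resolve_right hc
      exact ⟨m, by rw [if_neg hc, hm]⟩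
  choose m hm using hpow
  have hcop : (∏ i : Fin n, (if ((M i.castSucc).relIndex (M i.succ)).Coprime p then
      (M i.castSucc).relIndex (M i.succ) else 1)).Coprime p := by
    apply Nat.Coprime.prod_left
    intro i _
    split_ifs with hc
    · exact hc
    · exact Nat.coprime_one_left p
  rw [Finset.prod_congr rfl (fun i _ => hsplit i), Finset.prod_mul_distrib,
    Finset.prod_congr rfl (fun i _ => hm i), Finset.prod_pow_eq_pow_sum] at e2
  have e3 := card_sylow_eq p P _ _ hcop e2
  rw [e3, ← Finset.prod_pow_eq_pow_sum, ← Finset.prod_mul_distrib]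
  apply Finset.prod_congr rfl
  intro i _
  rw [← hm i]
  split_ifs <;> simp

end Cfsg.Agent.S4090
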