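import Mathlib
import Cfsg.Agent.Lib.H20.Zipper

set_option autoImplicit false

namespace Cfsg.Agent.S4092

open scoped Pointwise

/-- Counting lemma: a family of subgroups of common order `q`, pairwise meeting in `D`. -/
theorem count_union {G : Type*} [Group G] [Fintype G] [DecidableEq G]
    (T : Finset (Subgroup G)) (D : Subgroup G) (q : ℕ)
    (hq : ∀ R ∈ T, Nat.card R = q) (hD : ∀ R ∈ T, D ≤ R)
    (hpair : ∀ R ∈ T, ∀ R' ∈ T, R ≠ R' → R ⊓ R' = D)
    (S : Finset G) (hDS : ∀ g ∈ D, g ∈ S) (hS : ∀ R ∈ T, ∀ g ∈ R, g ∈ S) :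
    T.card * (q - Nat.card D) + Nat.card D ≤ S.card := by
  classical
  let FD : Finset G := Finset.univ.filter (· ∈ D)
  let FR : Subgroup G → Finset G := fun R => Finset.univ.filter (fun g => g ∈ R ∧ g ∉ D)
  have hFD : FD.card = Nat.card D := by
    rw [Nat.card_eq_fintype_card, Fintype.card_subtype]
  have hFR : ∀ R ∈ T, (FR R).card = q - Nat.card D := by
    intro R hR
    have h1 : FR R = (Finset.univ.filter (· ∈ R)) \ FD := by
      ext g
      simp [FR, FD]
    have h2 : (Finset.univ.filter (· ∈ R) : Finset G).card = q := by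
      rw [← hq R hR, Nat.card_eq_fintype_card, Fintype.card_subtype]
    rw [h1, Finset.card_sdiff_of_subset, h2, hFD]
    intro g hg
    simp only [FD, Finset.mem_filter, Finset.mem_univ, true_and] at hg ⊢
    exact hD R hR hg
  have hdisj : (T : Set (Subgroup G)).PairwiseDisjoint FR := by
    intro R hR R' hR' hne
    rw [Function.onFun, Finset.disjoint_left]
    intro g hg hg'
    simp only [FR, Finset.mem_filter, Finset.mem_univ, true_and] at hg hg'
    have : g ∈ R ⊓ R' := ⟨hg.1, hg'.1⟩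
    rw [hpair R hR R' hR' hne] at this
    exact hg.2 this
  have hcardU : (T.biUnion FR).card = T.card * (q - Nat.card D) := by
    rw [Finset.card_biUnion hdisj, Finset.sum_congr rfl hFR, Finset.sum_const, smul_eq_mul]
  have hdisj2 : Disjoint (T.biUnion FR) FD := by
    rw [Finset.disjoint_left]
    intro g hg hg'
    rw [Finset.mem_biUnion] at hg
    obtain ⟨R, _, hgR⟩ := hg
    simp only [FR, FD, Finset.mem_filter, Finset.mem_univ, true_and] at hgR hg'
    exact hgR.2 hg'
  rw [← hcardU, ← hFD, ← Finset.card_union_of_disjoint hdisj2]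
  apply Finset.card_le_card
  intro g hg
  rw [Finset.mem_union] at hg
  rcases hg with hg | hg
  · rw [Finset.mem_biUnion] at hg
    obtain ⟨R, hR, hgR⟩ := hg
    simp only [FR, Finset.mem_filter, Finset.mem_univ, true_and] at hgR
    exact hS R hR g hgR.1
  · simp only [FD, Finset.mem_filter, Finset.mem_univ, true_and] at hg
    exact hDS g hg


/-- In a `p`-element, a power with exponent prime to `p` lying in `D` forces the element into `D`. -/
theorem mem_of_pow_mem_of_coprime {G : Type*} [Group G] {p : ℕ} (hp : p.Prime)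
    (D : Subgroup G) (x : G) (n k : ℕ) (hx : x ^ (p ^ n) = 1) (hk0 : 0 < k) (hkp : k < p)
    (hxk : x ^ k ∈ D) : x ∈ D := by
  have hco : Nat.Coprime k (p ^ n) := by
    apply Nat.Coprime.pow_right
    exact (Nat.coprime_of_lt_prime hk0.ne' hkp hp).symm
  have h1 := Nat.gcd_eq_gcd_ab k (p ^ n)
  rw [hco.gcd_eq_one] at h1
  have h2 : x = (x ^ k) ^ (Nat.gcdA k (p ^ n)) * (x ^ (p ^ n)) ^ (Nat.gcdB k (p ^ n)) := by
    rw [← zpow_natCast x k, ← zpow_natCast x (p ^ n), ← zpow_mul, ← zpow_mul, ← zpow_add, ← h1]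
    simp
  rw [h2, hx, one_zpow, mul_one]
  exact D.zpow_mem hxk _

/-- Let G be a finite group, p a prime and P a Sylow p-subgroup of G that is not normal in G. Then G has at least p·#P elements of p-power order (the identity included). -/
theorem result {G : Type*} [Group G] [Finite G] (p : ℕ) [Fact p.Prime]
    (P : Sylow p G) (hP : ¬ (P : Subgroup G).Normal) :
    p * Nat.card (P : Subgroup G) ≤ Nat.card {g : G // ∃ k : ℕ, orderOf g = p ^ k} := by
  classical
  have hp : p.Prime := Fact.out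
  haveI : Fintype G := Fintype.ofFinite G
  haveI : Fintype (Sylow p G) := Fintype.ofFinite _
  have hcardS : ∀ R : Sylow p G, Nat.card (R : Subgroup G) = Nat.card (P : Subgroup G) := fun R => by
    rw [Sylow.card_eq_multiplicity, Sylow.card_eq_multiplicity]
  -- a second Sylow
  obtain ⟨Q, hQ⟩ : ∃ Q : Sylow p G, Q ≠ P := by
    by_contra hcon
    push_neg at hcon
    haveI : Subsingleton (Sylow p G) := ⟨fun a b => (hcon a).trans (hcon b).symm⟩
    exact hP (Sylow.normal_of_subsingleton P)
  -- maximal intersection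
  haveI : Nonempty {pr : Sylow p G × Sylow p G // pr.1 ≠ pr.2} := ⟨⟨(P, Q), hQ.symm⟩⟩
  obtain ⟨⟨⟨P', Q'⟩, hne⟩, hmax⟩ := Finite.exists_max
    (fun pr : {pr : Sylow p G × Sylow p G // pr.1 ≠ pr.2} =>
      Nat.card ((pr.1.1 : Subgroup G) ⊓ (pr.1.2 : Subgroup G) : Subgroup G))
  simp only at hne hmax
  obtain ⟨D, hDdef⟩ : ∃ D : Subgroup G, D = (P' : Subgroup G) ⊓ (Q' : Subgroup G) := ⟨_, rfl⟩
  have hDP : D ≤ (P' : Subgroup G) := hDdef ▸ inf_le_left
  have hDQ : D ≤ (Q' : Subgroup G) := hDdef ▸ inf_le_right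
  have hmax' : ∀ R R' : Sylow p G, R ≠ R' → D ≤ R → D ≤ R' →
      (R : Subgroup G) ⊓ (R' : Subgroup G) = D := by
    intro R R' hRR hDR hDR'
    have h1 := hmax ⟨(R, R'), hRR⟩
    simp only at h1
    rw [← hDdef] at h1
    exact (Subgroup.eq_of_le_of_card_ge (le_inf hDR hDR') h1).symm
  have hDneP : D ≠ (P' : Subgroup G) := by
    intro h
    apply hne
    have h2 : (P' : Subgroup G) ≤ Q' := h ▸ hDQ
    exact Sylow.ext (P'.is_maximal' Q'.isPGroup' h2).symm
  -- an element of `P'` normalizing `D` outside `D`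
  have hDlt : D.subgroupOf (P' : Subgroup G) < ⊤ := by
    rw [lt_top_iff_ne_top]
    intro h
    rw [Subgroup.subgroupOf_eq_top] at h
    exact hDneP (le_antisymm hDP h)
  haveI : Group.IsNilpotent (P' : Subgroup G) := P'.isPGroup'.isNilpotent
  have hnc := normalizerCondition_of_isNilpotent (G := (P' : Subgroup G)) _ hDlt
  obtain ⟨y, hyN, hyD⟩ := SetLike.exists_of_lt hnc
  rw [← Subgroup.subgroupOf_normalizer_eq hDP] at hyN
  obtain ⟨x, hxdef⟩ : ∃ x : G, x = (y : G) := ⟨_, rfl⟩
  have hxP : x ∈ (P' : Subgroup G) := hxdef ▸ y.2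
  have hxN : x ∈ Subgroup.normalizer (D : Set G) := hxdef ▸ Subgroup.mem_subgroupOf.mp hyN
  have hxD : x ∉ D := fun h => hyD (Subgroup.mem_subgroupOf.mpr (hxdef ▸ h))
  obtain ⟨n, hn⟩ : ∃ n : ℕ, x ^ (p ^ n) = 1 := by
    obtain ⟨n, hn⟩ := P'.isPGroup' ⟨x, hxP⟩
    refine ⟨n, ?_⟩
    have := congrArg Subtype.val hn
    simpa using this
  -- the Sylow subgroups x^i • Q'
  have hfD : ∀ i : ℕ, D ≤ ((x ^ i • Q' : Sylow p G) : Subgroup G) := by
    intro i
    rw [Sylow.coe_subgroup_smul]
    have h1 : MulAut.conj (x ^ i) • D = D :=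
      Cfsg.Agent.Lib.H20.smul_eq_self_of_mem_normalizer (pow_mem hxN i)
    rw [← h1]
    exact Subgroup.pointwise_smul_le_pointwise_smul_iff.mpr hDQ
  have hfP : ∀ i : ℕ, (x ^ i • Q' : Sylow p G) ≠ P' := by
    intro i h
    have h1 : x ^ i • P' = P' :=
      Sylow.smul_eq_iff_mem_normalizer.mpr (Subgroup.le_normalizer (pow_mem hxP i))
    rw [← h1] at h
    exact hne (smul_left_cancel _ h).symm
  have hfinj : ∀ i j : ℕ, i < j → j < p → (x ^ i • Q' : Sylow p G) ≠ x ^ j • Q' := by
    intro i j hij hjp h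
    have h1 : x ^ j = x ^ i * x ^ (j - i) := by
      rw [← pow_add]; congr 1; omega
    rw [h1, mul_smul] at h
    have h2 := (smul_left_cancel _ h).symm
    rw [Sylow.smul_eq_iff_mem_normalizer] at h2
    have h3 : x ^ (j - i) ∈ (P' : Subgroup G) ⊓ Subgroup.normalizer (Q' : Set G) :=
      ⟨pow_mem hxP _, h2⟩
    rw [P'.isPGroup'.inf_normalizer_sylow, ← hDdef] at h3
    exact hxD (mem_of_pow_mem_of_coprime hp D x n (j - i) hn (by omega) (by omega) h3)
  -- the family of Sylow subgroups containing D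
  obtain ⟨T0, hT0⟩ : ∃ T0 : Finset (Sylow p G), T0 = Finset.univ.filter (fun R : Sylow p G => D ≤ R) :=
    ⟨_, rfl⟩
  have hT0card : p + 1 ≤ T0.card := by
    have hinj : Set.InjOn (fun i : ℕ => (x ^ i • Q' : Sylow p G)) (Finset.range p : Set ℕ) := by
      intro i hi j hj hij
      simp only [Finset.coe_range, Set.mem_Iio] at hi hj
      by_contra hne'
      rcases lt_or_gt_of_ne hne' with h | h
      · exact hfinj i j h hj hij
      · exact hfinj j i h hi hij.symm
    have hc1 : ((Finset.range p).image (fun i : ℕ => (x ^ i • Q' : Sylow p G))).card = p := by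
      rw [Finset.card_image_of_injOn hinj, Finset.card_range]
    have hnotin : P' ∉ (Finset.range p).image (fun i : ℕ => (x ^ i • Q' : Sylow p G)) := by
      intro h
      rw [Finset.mem_image] at h
      obtain ⟨i, _, hi⟩ := h
      exact hfP i hi
    have hc2 : (insert P' ((Finset.range p).image (fun i : ℕ => (x ^ i • Q' : Sylow p G)))).card
        = p + 1 := by
      rw [Finset.card_insert_of_notMem hnotin, hc1]
    rw [← hc2]
    apply Finset.card_le_card
    intro R hR
    rw [hT0, Finset.mem_filter]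
    refine ⟨Finset.mem_univ _, ?_⟩
    rw [Finset.mem_insert] at hR
    rcases hR with rfl | hR
    · exact hDP
    · rw [Finset.mem_image] at hR
      obtain ⟨i, _, rfl⟩ := hR
      exact hfD i
  have hcoeinj : Function.Injective (fun R : Sylow p G => (R : Subgroup G)) :=
    fun R R' h => Sylow.ext h
  have hpel : ∀ R : Sylow p G, ∀ g ∈ (R : Subgroup G), ∃ k : ℕ, orderOf g = p ^ k := by
    intro R g hg
    obtain ⟨k, hk⟩ := IsPGroup.iff_orderOf.mp R.isPGroup' ⟨g, hg⟩
    exact ⟨k, by rw [← hk, Subgroup.orderOf_mk]⟩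
  have hcount := count_union (T0.image (fun R : Sylow p G => (R : Subgroup G))) D
    (Nat.card (P : Subgroup G))
    (by
      intro R hR
      rw [Finset.mem_image] at hR
      obtain ⟨R0, _, rfl⟩ := hR
      exact hcardS R0)
    (by
      intro R hR
      rw [Finset.mem_image] at hR
      obtain ⟨R0, hR0, rfl⟩ := hR
      rw [hT0, Finset.mem_filter] at hR0
      exact hR0.2)
    (by
      intro R hR R' hR' hRR
      rw [Finset.mem_image] at hR hR'
      obtain ⟨R0, hR0, rfl⟩ := hR
      obtain ⟨R0', hR0', rfl⟩ := hR'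
      rw [hT0, Finset.mem_filter] at hR0 hR0'
      exact hmax' R0 R0' (fun h => hRR (by rw [h])) hR0.2 hR0'.2)
    (Finset.univ.filter (fun g : G => ∃ k : ℕ, orderOf g = p ^ k))
    (by
      intro g hg
      rw [Finset.mem_filter]
      exact ⟨Finset.mem_univ _, hpel P' g (hDP hg)⟩)
    (by
      intro R hR g hg
      rw [Finset.mem_image] at hR
      obtain ⟨R0, _, rfl⟩ := hR
      rw [Finset.mem_filter]
      exact ⟨Finset.mem_univ _, hpel R0 g hg⟩)
  rw [Finset.card_image_of_injective _ hcoeinj] at hcount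
  have hgoal : Nat.card {g : G // ∃ k : ℕ, orderOf g = p ^ k}
      = (Finset.univ.filter (fun g : G => ∃ k : ℕ, orderOf g = p ^ k)).card := by
    rw [Nat.card_eq_fintype_card, Fintype.card_subtype]
  rw [hgoal]
  -- arithmetic
  have hdq : p * Nat.card D ≤ Nat.card (P : Subgroup G) := by
    rw [← hcardS P']
    have hdvd : Nat.card D ∣ Nat.card (P' : Subgroup G) := Subgroup.card_dvd_of_le hDP
    have hPcard := Sylow.card_eq_multiplicity P'
    rw [hPcard] at hdvd ⊢
    obtain ⟨m, hm, hmd⟩ := (Nat.dvd_prime_pow hp).1 hdvd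
    have hmne : m ≠ (Nat.card G).factorization p := by
      intro h
      apply hDneP
      apply Subgroup.eq_of_le_of_card_ge hDP
      rw [hPcard, hmd, h]
    rw [hmd, ← pow_succ']
    exact Nat.pow_le_pow_right hp.pos (by omega)
  have hdle : Nat.card D ≤ Nat.card (P : Subgroup G) := by
    rw [← hcardS P']
    exact Subgroup.card_le_of_le hDP
  obtain ⟨e, he⟩ := Nat.exists_eq_add_of_le hdle
  rw [he] at hcount hdq ⊢
  rw [Nat.add_sub_cancel_left] at hcount
  have h1 : (p + 1) * e ≤ T0.card * e := Nat.mul_le_mul_right e hT0card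
  nlinarith
end Cfsg.Agent.S4092
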