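import Mathlib
import Cfsg.Agent.Lib.H20.ConjOrbit
import Cfsg.Agent.Lib.H26.Basic

namespace Cfsg.Agent.S4093

open Cfsg.Agent.Lib.H20 Cfsg.Agent.Lib.H26 in
theorem result {G : Type*} [Group G] [Finite G] (p : ℕ) [Fact p.Prime]
    (P : Sylow p G) (N : Subgroup G) [N.Normal] (hNP : N.IsComplement' (P : Subgroup G)) :
    Nat.card {g : G // ∃ k : ℕ, orderOf g = p ^ k} =
      ∑ᶠ x : (P : Subgroup G), Nat.card N / Nat.card ↥(N ⊓ Subgroup.centralizer ({(x : G)} : Set G)) := by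
  classical
  have hp : p.Prime := Fact.out
  haveI : Fintype (P : Subgroup G) := Fintype.ofFinite _
  have hsup : N ⊔ (P : Subgroup G) = ⊤ := hNP.sup_eq_top
  have hdisj : ∀ z, z ∈ N → z ∈ (P : Subgroup G) → z = 1 := by
    intro z h1 h2
    have := hNP.disjoint
    rw [Subgroup.disjoint_def] at this
    exact this h1 h2
  have hdecomp : ∀ g : G, ∃ n ∈ N, ∃ u ∈ (P : Subgroup G), n * u = g := by
    intro g
    have hg : g ∈ N ⊔ (P : Subgroup G) := by rw [hsup]; trivial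
    have : g ∈ ((N ⊔ (P : Subgroup G) : Subgroup G) : Set G) := hg
    rw [Subgroup.normal_mul] at this
    obtain ⟨n, hn, h, hh, rfl⟩ := Set.mem_mul.mp this
    exact ⟨n, hn, h, hh, rfl⟩
  -- the P-part of g
  have hex : ∀ g : G, ∃ y : (P : Subgroup G), g * (y : G)⁻¹ ∈ N := by
    intro g
    obtain ⟨n, hn, u, hu, rfl⟩ := hdecomp g
    refine ⟨⟨u, hu⟩, ?_⟩
    simpa using hn
  have huniq : ∀ (g : G) (y y' : (P : Subgroup G)), g * (y : G)⁻¹ ∈ N → g * (y' : G)⁻¹ ∈ N → y = y' := by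
    intro g y y' h1 h2
    have h3 : (y : G) * (y' : G)⁻¹ ∈ N := by
      have := N.mul_mem (N.inv_mem h1) h2
      have e : (g * (y : G)⁻¹)⁻¹ * (g * (y' : G)⁻¹) = (y : G) * (y' : G)⁻¹ := by group
      rwa [e] at this
    have h4 := hdisj _ h3 ((P : Subgroup G).mul_mem y.2 ((P : Subgroup G).inv_mem y'.2))
    apply Subtype.ext
    exact mul_inv_eq_one.mp h4
  let π : G → (P : Subgroup G) := fun g => Classical.choose (hex g)
  have hπ : ∀ g, g * (π g : G)⁻¹ ∈ N := fun g => Classical.choose_spec (hex g)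
  have hπiff : ∀ g (y : (P : Subgroup G)), π g = y ↔ g * (y : G)⁻¹ ∈ N := by
    intro g y
    constructor
    · intro h; rw [← h]; exact hπ g
    · intro h; exact huniq g _ _ (hπ g) h
  -- description of fibres
  have hiff : ∀ (g : G) (y : (P : Subgroup G)),
      ((∃ k : ℕ, orderOf g = p ^ k) ∧ π g = y) ↔ g ∈ {g : G | ∃ n ∈ N, n * (y : G) * n⁻¹ = g} := by
    intro g y
    rw [Set.mem_ofPred_eq, hπiff]
    constructor
    · rintro ⟨⟨k, hk⟩, hgy⟩
      have hpg : IsPGroup p (Subgroup.zpowers g) := by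
        rw [IsPGroup.iff_card]
        exact ⟨k, by rw [Nat.card_zpowers, hk]⟩
      obtain ⟨c, hc⟩ := exists_conj_mem_sylow P (Subgroup.zpowers g) hpg
      have hcg := hc g (Subgroup.mem_zpowers g)
      obtain ⟨n, hn, u, hu, hnu⟩ := hdecomp c⁻¹
      -- g = c⁻¹ x' c with x' ∈ P, c⁻¹ = n u
      set x' := c * g * c⁻¹ with hx'
      have hgx' : g = n * (u * x' * u⁻¹) * n⁻¹ := by
        have : c = (n * u)⁻¹ := by rw [hnu, inv_inv]
        rw [hx', this]; group
      set x'' := u * x' * u⁻¹ with hx''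
      have hx''P : x'' ∈ (P : Subgroup G) :=
        (P : Subgroup G).mul_mem ((P : Subgroup G).mul_mem hu hcg) ((P : Subgroup G).inv_mem hu)
      have h1 : g * x''⁻¹ ∈ N := by
        rw [hgx']
        have h2 : x'' * n⁻¹ * x''⁻¹ ∈ N := ‹N.Normal›.conj_mem _ (N.inv_mem hn) x''
        have := N.mul_mem hn h2
        have e : n * (x'' * n⁻¹ * x''⁻¹) = n * x'' * n⁻¹ * x''⁻¹ := by group
        rwa [e] at this
      have h3 := huniq g ⟨x'', hx''P⟩ y h1 hgy
      refine ⟨n, hn, ?_⟩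
      rw [hgx', ← h3]
    · rintro ⟨n, hn, rfl⟩
      constructor
      · obtain ⟨k, hk⟩ := (IsPGroup.iff_orderOf.mp P.isPGroup') y
        refine ⟨k, ?_⟩
        have : n * (y : G) * n⁻¹ = MulAut.conj n (y : G) := by simp [MulAut.conj_apply]
        rw [this, MulEquiv.orderOf_eq, ← hk, Subgroup.orderOf_coe]
      · have h2 : (y : G) * n⁻¹ * (y : G)⁻¹ ∈ N := ‹N.Normal›.conj_mem _ (N.inv_mem hn) _
        have := N.mul_mem hn h2
        have e : n * ((y : G) * n⁻¹ * (y : G)⁻¹) = n * (y : G) * n⁻¹ * (y : G)⁻¹ := by group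
        rwa [e] at this
  have hfib : ∀ y : (P : Subgroup G),
      Nat.card {a : {g : G // ∃ k : ℕ, orderOf g = p ^ k} // π a.1 = y} =
        Set.ncard {g : G | ∃ n ∈ N, n * (y : G) * n⁻¹ = g} := by
    intro y
    rw [← Nat.card_coe_set_eq]
    apply Nat.card_congr
    exact ⟨fun a => ⟨a.1.1, (hiff a.1.1 y).mp ⟨a.1.2, a.2⟩⟩,
      fun b => ⟨⟨b.1, ((hiff b.1 y).mpr b.2).1⟩, ((hiff b.1 y).mpr b.2).2⟩,
      fun a => rfl, fun b => rfl⟩
  rw [finsum_eq_sum_of_fintype]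
  rw [Nat.card_congr (Equiv.sigmaFiberEquiv (fun a : {g : G // ∃ k : ℕ, orderOf g = p ^ k} => π a.1)).symm]
  rw [Nat.card_sigma]
  apply Finset.sum_congr rfl
  intro y _
  rw [hfib y]
  have h := card_eq_ncard_conj_mul_card_inf_centralizer N (y : G)
  have hpos : 0 < Nat.card ↥(N ⊓ Subgroup.centralizer ({(y : G)} : Set G)) := Nat.card_pos
  rw [h, Nat.mul_div_cancel _ hpos]

end Cfsg.Agent.S4093
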