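import Cfsg.Statements.S4097
import Cfsg.Agent.S0042
import Cfsg.Agent.Lib.H18.FrobeniusThm
import Cfsg.Agent.Lib.H7.CoprimeFactor
import Cfsg.Agent.Lib.H1.FrobeniusConj2
-- import your own Cfsg.Agent.* helpers here

set_option autoImplicit false
open Cfsg

namespace Cfsg.Agent.S4097

universe u

open Pointwise

/-- The hypothesis: `A` is central in every solvable subgroup containing it. -/
def Hyp {G : Type u} [Group G] (A : Subgroup G) : Prop :=
  ∀ S : Subgroup G, A ≤ S → Group.IsSolvable S → ∀ a ∈ A, ∀ s ∈ S, a * s = s * a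

theorem mem_cs {G : Type u} [Group G] (H : Subgroup G) (g x : G) :
    x ∈ MulAut.conj g • H ↔ g⁻¹ * x * g ∈ H := by
  rw [Subgroup.mem_pointwise_smul_iff_inv_smul_mem, MulAut.smul_def, MulAut.conj_inv_apply]

/-- If `A` lies in a solvable normal subgroup, the hypothesis forces `A` central. -/
theorem le_center_of_le_normal {G : Type u} [Group G] [Finite G] (A : Subgroup G) (hc : Hyp A)
    (N : Subgroup G) [N.Normal] (hN : Group.IsSolvable N) (hAN : A ≤ N) :
    A ≤ Subgroup.center G := by
  intro a ha
  rw [Subgroup.mem_center_iff]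
  intro g
  have hg : g ∈ Subgroup.normalizer (N : Set G) := by
    rw [Subgroup.normalizer_eq_top]; exact Subgroup.mem_top g
  have hs := Cfsg.Agent.Lib.H1.isSolvable_sup_zpowers hN hg
  have := hc (N ⊔ Subgroup.zpowers g) (hAN.trans le_sup_left) hs a ha g
    (le_sup_right (a := N) (Subgroup.mem_zpowers g))
  exact this.symm

theorem hyp_subgroupOf {G : Type u} [Group G] (A : Subgroup G) (hc : Hyp A) (H : Subgroup G)
    (hAH : A ≤ H) : Hyp (A.subgroupOf H) := by
  intro S hAS hS a ha s hs
  have hS' : Group.IsSolvable (S.map H.subtype) := by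
    have e := Subgroup.equivMapOfInjective S H.subtype H.subtype_injective
    exact Group.isSolvable_of_isSolvable_injective (f := e.symm.toMonoidHom) e.symm.injective
  have hA' : A ≤ S.map H.subtype := by
    intro x hx
    exact ⟨⟨x, hAH hx⟩, hAS (Subgroup.mem_subgroupOf.2 hx), rfl⟩
  have := hc (S.map H.subtype) hA' hS' (a : G) (Subgroup.mem_subgroupOf.1 ha) (s : G)
    ⟨s, hs, rfl⟩
  exact Subtype.ext this

/-- Preimages of solvable subgroups modulo the centre are solvable. -/
theorem isSolvable_comap_center {G : Type u} [Group G] (T : Subgroup (G ⧸ Subgroup.center G))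
    (hT : Group.IsSolvable T) :
    Group.IsSolvable (T.comap (QuotientGroup.mk' (Subgroup.center G))) := by
  set S := T.comap (QuotientGroup.mk' (Subgroup.center G)) with hS
  have hZ : Group.IsSolvable ((Subgroup.center G).subgroupOf S) := by
    apply Group.isSolvable_of_comm
    intro a b
    apply Subtype.ext
    apply Subtype.ext
    have ha : ((a : S) : G) ∈ Subgroup.center G := Subgroup.mem_subgroupOf.1 a.2
    exact ((Subgroup.mem_center_iff.1 ha) ((b : S) : G)).symm
  refine Group.isSolvable_of_ker_le_range ((Subgroup.center G).subgroupOf S).subtype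
    ((QuotientGroup.mk' (Subgroup.center G)).subgroupComap T) ?_
  intro s hs
  rw [MonoidHom.mem_ker] at hs
  have h1 : (QuotientGroup.mk' (Subgroup.center G)) (s : G) = 1 := congrArg Subtype.val hs
  have h2 : (s : G) ∈ Subgroup.center G := by
    rwa [QuotientGroup.mk'_apply, QuotientGroup.eq_one_iff] at h1
  exact ⟨⟨s, Subgroup.mem_subgroupOf.2 h2⟩, rfl⟩

theorem main : ∀ (n : ℕ) (G : Type u) [Group G] [Finite G], Nat.card G = n →
    ∀ A : Subgroup G, Group.IsSolvable A → Hyp A → A ≤ Subgroup.center G := by
  intro n
  induction n using Nat.strong_induction_on with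
  | _ n ih =>
  intro G _ _ hn A hA hc
  have hAcomm : ∀ a ∈ A, ∀ b ∈ A, a * b = b * a := fun a ha b hb => hc A le_rfl hA a ha b hb
  by_contra hnot
  set C := Subgroup.centralizer (A : Set G) with hC
  have hAC : A ≤ C := fun a ha => Subgroup.mem_centralizer_iff.2 (fun b hb => hAcomm b hb a ha)
  have hCtop : C ≠ ⊤ := by
    intro h
    apply hnot
    intro a ha
    rw [Subgroup.mem_center_iff]
    intro g
    have : g ∈ C := h ▸ Subgroup.mem_top g
    exact (Subgroup.mem_centralizer_iff.1 this a ha).symm
  -- proper overgroups of `A` centralize `A`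
  have key : ∀ H : Subgroup G, A ≤ H → H ≠ ⊤ → H ≤ C := by
    intro H hAH hH
    have hlt : Nat.card H < n := by
      rw [← hn]
      by_contra hge
      push Not at hge
      exact hH (Subgroup.eq_top_of_le_card H hge)
    have hAs : Group.IsSolvable (A.subgroupOf H) :=
      Group.isSolvable_of_isSolvable_injective
        (f := (Subgroup.subgroupOfEquivOfLe hAH).toMonoidHom)
        (Subgroup.subgroupOfEquivOfLe hAH).injective
    have := ih (Nat.card H) hlt H rfl (A.subgroupOf H) hAs (hyp_subgroupOf A hc H hAH)
    intro h hh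
    rw [Subgroup.mem_centralizer_iff]
    intro a ha
    have h1 := this (Subgroup.mem_subgroupOf.2 (show ((⟨a, hAH ha⟩ : H) : G) ∈ A from ha))
    rw [Subgroup.mem_center_iff] at h1
    have h2 := h1 ⟨h, hh⟩
    exact (congrArg Subtype.val h2).symm
  -- the normalizer of `C` is `C`
  have hNC : Subgroup.normalizer (C : Set G) ≤ C := by
    by_cases hN : Subgroup.normalizer (C : Set G) = ⊤
    · exfalso
      have hCn : C.Normal := Subgroup.normalizer_eq_top_iff.1 hN
      set N0 := C ⊓ Subgroup.centralizer (C : Set G) with hN0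
      have hN0n : N0.Normal := inferInstance
      have hN0s : Group.IsSolvable N0 := by
        apply Group.isSolvable_of_comm
        intro a b
        apply Subtype.ext
        exact (Subgroup.mem_centralizer_iff.1 a.2.2 (b : G) b.2.1).symm
      have hAN0 : A ≤ N0 := by
        intro a ha
        refine ⟨hAC ha, ?_⟩
        show a ∈ Subgroup.centralizer (C : Set G)
        rw [Subgroup.mem_centralizer_iff]
        intro c hc'
        exact (Subgroup.mem_centralizer_iff.1 hc' a ha).symm
      exact hnot (le_center_of_le_normal A hc N0 hN0s hAN0)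
    · exact key _ (hAC.trans Subgroup.le_normalizer) hN
  -- conjugates by outside elements generate with `A`
  have hgen : ∀ g : G, g ∉ C → A ⊔ MulAut.conj g • A = ⊤ := by
    intro g hg
    by_contra h
    have h1 := key _ le_sup_left h
    have h2 : MulAut.conj g • A ≤ C := le_sup_right.trans h1
    set D := MulAut.conj g⁻¹ • C with hD
    have hAD : A ≤ D := by
      intro a ha
      rw [hD, mem_cs, inv_inv]
      apply h2
      rw [mem_cs]
      have : g⁻¹ * (g * a * g⁻¹) * g = a := by group
      rw [this]; exact ha
    have hcard : Nat.card D = Nat.card C := by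
      rw [hD]; exact (Nat.card_congr (Subgroup.equivSMul (MulAut.conj g⁻¹) C).toEquiv).symm
    have hDtop : D ≠ ⊤ := by
      intro h3
      apply hCtop
      apply Subgroup.eq_top_of_le_card
      rw [← hcard, h3, Subgroup.card_top]
    have hDC : D ≤ C := key D hAD hDtop
    have hDC' : D = C := Subgroup.eq_of_le_of_card_ge hDC hcard.ge
    apply hg
    apply hNC
    rw [Subgroup.mem_normalizer_iff]
    intro x
    have : x ∈ D ↔ g * x * g⁻¹ ∈ C := by
      rw [hD, mem_cs, inv_inv]
    rw [← this, hDC']
  -- intersections of `C` with outside conjugates are central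
  have hint : ∀ g : G, g ∉ C → C ⊓ MulAut.conj g • C ≤ Subgroup.center G := by
    intro g hg x hx
    have hx1 : x ∈ C := hx.1
    have hx2 : g⁻¹ * x * g ∈ C := (mem_cs C g x).1 hx.2
    have h1 : A ≤ Subgroup.centralizer ({x} : Set G) := by
      intro a ha
      rw [Subgroup.mem_centralizer_singleton_iff]
      exact Subgroup.mem_centralizer_iff.1 hx1 a ha
    have h2 : MulAut.conj g • A ≤ Subgroup.centralizer ({x} : Set G) := by
      intro y hy
      rw [mem_cs] at hy
      rw [Subgroup.mem_centralizer_singleton_iff]
      have h3 := Subgroup.mem_centralizer_iff.1 hx2 _ hy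
      -- h3 : g⁻¹ * y * g * (g⁻¹ * x * g) = g⁻¹ * x * g * (g⁻¹ * y * g)
      have h4 : g * (g⁻¹ * y * g * (g⁻¹ * x * g)) * g⁻¹ = g * (g⁻¹ * x * g * (g⁻¹ * y * g)) * g⁻¹ := by
        rw [h3]
      have e1 : g * (g⁻¹ * y * g * (g⁻¹ * x * g)) * g⁻¹ = y * x := by group
      have e2 : g * (g⁻¹ * x * g * (g⁻¹ * y * g)) * g⁻¹ = x * y := by group
      rw [e1, e2] at h4
      exact h4
    have h3 : (⊤ : Subgroup G) ≤ Subgroup.centralizer ({x} : Set G) := by
      rw [← hgen g hg]; exact sup_le h1 h2
    rw [Subgroup.mem_center_iff]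
    intro y
    have := Subgroup.mem_centralizer_singleton_iff.1 (h3 (Subgroup.mem_top y))
    exact this
  by_cases hZ : Subgroup.center G = ⊥
  · -- Frobenius case
    have hAbot : A ≠ ⊥ := by
      intro h
      apply hnot
      rw [h]; exact bot_le
    have hCbot : C ≠ ⊥ := by
      intro h
      apply hAbot
      exact le_bot_iff.1 (h ▸ hAC)
    have hF : Cfsg.IsFrobeniusComplement C := by
      refine ⟨hCbot, hCtop, ?_⟩
      intro g hg
      exact le_bot_iff.1 (hZ ▸ hint g hg)
    set K := Cfsg.Agent.Lib.H18.frobKer C hF with hK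
    have hKn : K.Normal := Cfsg.Agent.Lib.H18.frobKer_normal C hF
    have hKnil : Group.IsNilpotent K := by
      obtain ⟨N', hN', -, hnil⟩ := Cfsg.Agent.S0042.result C hF
      have : N' = K := SetLike.coe_injective (hN'.trans (Cfsg.Agent.Lib.H18.coe_frobKer C hF).symm)
      rw [← this]; exact hnil
    have hKs : Group.IsSolvable K := inferInstance
    have hAK : A ≤ Subgroup.normalizer (K : Set G) := by
      rw [Subgroup.normalizer_eq_top]; exact le_top
    have hS := Cfsg.Agent.Lib.H7.isSolvable_sup_of_le_normalizer hAK hKs hA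
    have hKC : K ≤ C := by
      intro k hk
      rw [Subgroup.mem_centralizer_iff]
      intro a ha
      exact hc (K ⊔ A) le_sup_right hS a ha k (le_sup_left (b := A) hk)
    have hKbot : K = ⊥ := by
      have := Cfsg.Agent.Lib.H18.frobKer_inf C hF
      rw [← hK] at this
      rw [← this]; exact (inf_eq_left.2 hKC).symm
    have := Cfsg.Agent.Lib.H18.frobKer_sup C hF
    rw [← hK, hKbot, bot_sup_eq] at this
    exact hCtop this
  · -- nontrivial centre: pass to the quotient
    set Z := Subgroup.center G with hZdef
    have hlt : Nat.card (G ⧸ Z) < n := by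
      rw [← hn, Subgroup.card_eq_card_quotient_mul_card_subgroup Z]
      have h1 : 1 < Nat.card Z := by
        rw [Subgroup.one_lt_card_iff_ne_bot]; exact hZ
      have h2 : 0 < Nat.card (G ⧸ Z) := Nat.card_pos
      nlinarith
    set Abar := A.map (QuotientGroup.mk' Z) with hAbar
    have hAbs : Group.IsSolvable Abar :=
      Group.isSolvable_of_surjective ((QuotientGroup.mk' Z).subgroupMap_surjective A)
    have hHyp : Hyp Abar := by
      intro T hAT hT abar habar s hs
      obtain ⟨a, ha, rfl⟩ := habar
      obtain ⟨s, rfl⟩ := QuotientGroup.mk'_surjective Z s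
      have hS := isSolvable_comap_center T hT
      have hAS : A ≤ T.comap (QuotientGroup.mk' Z) := by
        intro x hx
        exact hAT ⟨x, hx, rfl⟩
      have := hc _ hAS hS a ha s hs
      rw [← map_mul, ← map_mul, this]
    have hcen := ih _ hlt (G ⧸ Z) rfl Abar hAbs hHyp
    set N1 := (Subgroup.center (G ⧸ Z)).comap (QuotientGroup.mk' Z) with hN1
    have hN1n : N1.Normal := inferInstance
    have hN1s : Group.IsSolvable N1 := by
      apply isSolvable_comap_center
      apply Group.isSolvable_of_comm
      intro a b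
      apply Subtype.ext
      exact ((Subgroup.mem_center_iff.1 a.2) (b : G ⧸ Z)).symm
    have hAN1 : A ≤ N1 := by
      intro x hx
      exact hcen ⟨x, hx, rfl⟩
    exact hnot (le_center_of_le_normal A hc N1 hN1s hAN1)


/-- Let A be a solvable subgroup of a finite group G such that A lies in the centre of every solvable subgroup of G containing A. Then A lies in the centre of G. -/
theorem result {G : Type*} [Group G] [Finite G]
    (A : Subgroup G) (hA : Group.IsSolvable A)
    (hc : ∀ S : Subgroup G, A ≤ S → Group.IsSolvable S → ∀ a ∈ A, ∀ s ∈ S, a * s = s * a) : A ≤ Subgroup.center G := by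
  exact main _ G rfl A hA hc


end Cfsg.Agent.S4097
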