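import Mathlib
import Cfsg.Agent.Lib.H20.PowDecomp
import Cfsg.Agent.Lib.H26.Basic

set_option autoImplicit false
open Cfsg

namespace Cfsg.Agent.S4106

open Cfsg.Agent.Lib.H20

universe u

/-- `x` is a `π`-element -/
def IsPiElt {G : Type*} [Group G] (π : Set ℕ) (x : G) : Prop :=
  ∀ q : ℕ, q.Prime → q ∣ orderOf x → q ∈ π

/-- the predicate on classes used in the statement -/
def ClassPred {G : Type*} [Group G] (π : Set ℕ) (C : ConjClasses G) : Prop :=
  ∀ q : ℕ, q.Prime → (∃ g : G, ConjClasses.mk g = C ∧ q ∣ orderOf g) → q ∈ π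

theorem orderOf_eq_of_mk_eq {G : Type*} [Group G] {g x : G}
    (h : ConjClasses.mk g = ConjClasses.mk x) : orderOf g = orderOf x := by
  rw [ConjClasses.mk_eq_mk_iff_isConj, isConj_iff] at h
  obtain ⟨c, rfl⟩ := h
  have := (MulAut.conj c).orderOf_eq g
  rw [MulAut.conj_apply] at this
  exact this.symm

theorem classPred_mk_iff {G : Type*} [Group G] (π : Set ℕ) (x : G) :
    ClassPred π (ConjClasses.mk x) ↔ IsPiElt π x := by
  constructor
  · intro h q hq hqx
    exact h q hq ⟨x, rfl, hqx⟩
  · rintro h q hq ⟨g, hg, hqg⟩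
    rw [orderOf_eq_of_mk_eq hg] at hqg
    exact h q hq hqg

theorem main (m : ℕ) : ∀ (G : Type u) [Group G] [Finite G] (π : Set ℕ), (∀ q ∈ π, q.Prime) →
    (∃ d, Nat.card G = m * d ∧ ∀ q ∈ π, ¬ q ∣ d) →
    Nat.card {C : ConjClasses G // ClassPred π C} ≤ m := by
  induction m using Nat.strong_induction_on with
  | _ m ih =>
  intro G _ _ π hπ hd
  classical
  obtain ⟨d, hmd, hdπ⟩ := hd
  have hGpos : 0 < Nat.card G := Nat.card_pos
  have hmpos : 0 < m := by
    rcases Nat.eq_zero_or_pos m with h | h
    · rw [h, zero_mul] at hmd; omega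
    · exact h
  by_cases hp : ∃ p ∈ π, p ∣ Nat.card G
  swap
  · -- only the trivial class
    push Not at hp
    have hone : ∀ C : {C : ConjClasses G // ClassPred π C}, C.1 = ConjClasses.mk 1 := by
      rintro ⟨C, hC⟩
      obtain ⟨x, rfl⟩ := ConjClasses.exists_rep C
      rw [classPred_mk_iff] at hC
      have hx : orderOf x = 1 := by
        by_contra hne
        obtain ⟨q, hq, hqx⟩ := Nat.exists_prime_and_dvd hne
        exact hp q (hC q hq hqx) (hqx.trans (orderOf_dvd_natCard x))
      rw [orderOf_eq_one_iff] at hx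
      change ConjClasses.mk x = ConjClasses.mk 1
      rw [hx]
    have hsub : Subsingleton {C : ConjClasses G // ClassPred π C} := by
      constructor
      intro C D
      apply Subtype.ext
      rw [hone C, hone D]
    have : Nat.card {C : ConjClasses G // ClassPred π C} ≤ 1 := Finite.card_le_one_iff_subsingleton.mpr hsub
    omega
  · obtain ⟨p, hpπ, hpG⟩ := hp
    have hpp : p.Prime := hπ p hpπ
    haveI : Fact p.Prime := ⟨hpp⟩
    obtain ⟨P⟩ : Nonempty (Sylow p G) := inferInstance
    have hPdvd : Nat.card (P : Subgroup G) ∣ Nat.card G := Subgroup.card_subgroup_dvd_card _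
    obtain ⟨a, ha⟩ := P.isPGroup'.exists_card_eq
    have hcopPd : Nat.Coprime (Nat.card (P : Subgroup G)) d := by
      rw [ha]
      exact Nat.Coprime.pow_left a ((Nat.Prime.coprime_iff_not_dvd hpp).mpr (hdπ p hpπ))
    have hPm : Nat.card (P : Subgroup G) ∣ m := by
      rw [hmd] at hPdvd
      exact hcopPd.dvd_of_dvd_mul_right hPdvd
    obtain ⟨m', hm'⟩ := hPm
    have hm'pos : 0 < m' := by
      rcases Nat.eq_zero_or_pos m' with h | h
      · rw [h, mul_zero] at hm'; omega
      · exact h
    have hP2 : 2 ≤ Nat.card (P : Subgroup G) := by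
      have h1 : Nat.card (P : Subgroup G) ≠ 1 := by
        intro h
        exact P.ne_bot_of_dvd_card hpG (Subgroup.card_eq_one.mp h)
      have h0 : 0 < Nat.card (P : Subgroup G) := Nat.card_pos
      omega
    have hm'lt : m' < m := by
      rw [hm']
      nlinarith
    set π' : Set ℕ := π \ {p} with hπ'
    have hπ'prime : ∀ q ∈ π', q.Prime := fun q hq => hπ q hq.1
    -- bound for each centralizer
    have hbound : ∀ u : (P : Subgroup G),
        Nat.card {C : ConjClasses (Subgroup.centralizer ({(u : G)} : Set G)) // ClassPred π' C} ≤ m' := by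
      intro u
      set L := Subgroup.centralizer ({(u : G)} : Set G) with hL
      set mu := Nat.gcd (Nat.card L) m' with hmu
      have hmule : mu ≤ m' := Nat.gcd_le_right _ hm'pos
      have hmupos : 0 < mu := Nat.gcd_pos_of_pos_right _ hm'pos
      refine le_trans (ih mu (lt_of_le_of_lt hmule hm'lt) L π' hπ'prime ?_) hmule
      refine ⟨Nat.card L / mu, (Nat.mul_div_cancel' (Nat.gcd_dvd_left _ _)).symm, ?_⟩
      intro q hq hqd
      -- Nat.card L / mu ∣ |P| * d
      have hLG : Nat.card L ∣ m' * (Nat.card (P : Subgroup G) * d) := by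
        have : Nat.card L ∣ Nat.card G := Subgroup.card_subgroup_dvd_card _
        rw [hmd, hm'] at this
        convert this using 1
        ring
      have hcop : Nat.Coprime (Nat.card L / mu) (m' / mu) :=
        Nat.coprime_div_gcd_div_gcd hmupos
      have h1 : Nat.card L / mu ∣ (m' / mu) * (Nat.card (P : Subgroup G) * d) := by
        have h2 : mu * (Nat.card L / mu) ∣ mu * ((m' / mu) * (Nat.card (P : Subgroup G) * d)) := by
          rw [Nat.mul_div_cancel' (Nat.gcd_dvd_left _ _), ← mul_assoc,
            Nat.mul_div_cancel' (Nat.gcd_dvd_right _ _)]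
          exact hLG
        exact (Nat.mul_dvd_mul_iff_left hmupos).mp h2
      have h3 : Nat.card L / mu ∣ Nat.card (P : Subgroup G) * d :=
        hcop.dvd_of_dvd_mul_left h1
      have h4 : q ∣ Nat.card (P : Subgroup G) * d := hqd.trans h3
      rcases (Nat.Prime.dvd_mul (hπ'prime q hq)).mp h4 with h5 | h5
      · rw [ha] at h5
        have := (Nat.prime_dvd_prime_iff_eq (hπ'prime q hq) hpp).mp
          ((hπ'prime q hq).dvd_of_dvd_pow h5)
        exact hq.2 this
      · exact hdπ q hq.1 h5
    -- the surjection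
    let D := Σ u : (P : Subgroup G),
      {C : ConjClasses (Subgroup.centralizer ({(u : G)} : Set G)) // ClassPred π' C}
    have hrepspec : ∀ (u : (P : Subgroup G))
        (c : {C : ConjClasses (Subgroup.centralizer ({(u : G)} : Set G)) // ClassPred π' C}),
        IsPiElt π ((u : G) * ((ConjClasses.exists_rep c.1).choose : G)) := by
      intro u c q hq hqo
      set y := (ConjClasses.exists_rep c.1).choose with hy
      have hyspec : ConjClasses.mk y = c.1 := (ConjClasses.exists_rep c.1).choose_spec
      have hypi : IsPiElt π' y := by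
        rw [← classPred_mk_iff, hyspec]; exact c.2
      have hcomm : Commute (u : G) (y : G) := by
        have := y.2
        rw [Subgroup.mem_centralizer_singleton_iff] at this
        exact this.symm
      have h1 := hqo.trans hcomm.orderOf_mul_dvd_mul_orderOf
      rcases (Nat.Prime.dvd_mul hq).mp h1 with h2 | h2
      · -- q ∣ orderOf u, a power of p
        obtain ⟨e, he⟩ := (IsPGroup.iff_orderOf.mp P.isPGroup') u
        rw [Subgroup.orderOf_coe] at h2
        rw [he] at h2
        have := (Nat.prime_dvd_prime_iff_eq hq hpp).mp (hq.dvd_of_dvd_pow h2)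
        rw [this]; exact hpπ
      · rw [Subgroup.orderOf_coe] at h2
        exact (hypi q hq h2).1
    let Ψ : D → {C : ConjClasses G // ClassPred π C} := fun z =>
      ⟨ConjClasses.mk ((z.1 : G) * ((ConjClasses.exists_rep z.2.1).choose : G)),
        (classPred_mk_iff π _).mpr (hrepspec z.1 z.2)⟩
    have hΨ : Function.Surjective Ψ := by
      rintro ⟨C, hC⟩
      obtain ⟨x, rfl⟩ := ConjClasses.exists_rep C
      rw [classPred_mk_iff] at hC
      obtain ⟨k, l, hkl, ⟨e, he⟩, hcopl⟩ := exists_pPart_pPrimePart x (isOfFinOrder_of_finite x) p hpp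
      have hzp : IsPGroup p (Subgroup.zpowers (x ^ k)) :=
        IsPGroup.of_card (n := e) (by rw [Nat.card_zpowers, he])
      obtain ⟨g, hg⟩ := Cfsg.Agent.Lib.H26.exists_conj_mem_sylow P (Subgroup.zpowers (x ^ k)) hzp
      have huP : g * x ^ k * g⁻¹ ∈ (P : Subgroup G) := hg _ (Subgroup.mem_zpowers _)
      set u : (P : Subgroup G) := ⟨g * x ^ k * g⁻¹, huP⟩ with hu
      have hy₀L : g * x ^ l * g⁻¹ ∈ Subgroup.centralizer ({(u : G)} : Set G) := by
        rw [Subgroup.mem_centralizer_singleton_iff]
        change g * x ^ l * g⁻¹ * (g * x ^ k * g⁻¹) = g * x ^ k * g⁻¹ * (g * x ^ l * g⁻¹)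
        have hc : x ^ l * x ^ k = x ^ k * x ^ l := by rw [← pow_add, ← pow_add, add_comm]
        calc g * x ^ l * g⁻¹ * (g * x ^ k * g⁻¹) = g * (x ^ l * x ^ k) * g⁻¹ := by group
          _ = g * (x ^ k * x ^ l) * g⁻¹ := by rw [hc]
          _ = g * x ^ k * g⁻¹ * (g * x ^ l * g⁻¹) := by group
      set y₀ : Subgroup.centralizer ({(u : G)} : Set G) := ⟨g * x ^ l * g⁻¹, hy₀L⟩ with hy₀
      have hy₀pi : IsPiElt π' y₀ := by
        intro q hq hqo
        have ho : orderOf y₀ = orderOf (x ^ l) := by
          rw [← Subgroup.orderOf_coe]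
          have := (MulAut.conj g).orderOf_eq (x ^ l)
          rw [MulAut.conj_apply] at this
          exact this
        rw [ho] at hqo
        refine ⟨hC q hq (hqo.trans (orderOf_pow_dvd l)), ?_⟩
        intro hqp
        rw [Set.mem_singleton_iff] at hqp
        subst hqp
        have := Nat.Coprime.eq_one_of_dvd hcopl.symm hqo
        exact hq.one_lt.ne' this
      let c : {C : ConjClasses (Subgroup.centralizer ({(u : G)} : Set G)) // ClassPred π' C} :=
        ⟨ConjClasses.mk y₀, (classPred_mk_iff π' y₀).mpr hy₀pi⟩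
      refine ⟨⟨u, c⟩, ?_⟩
      apply Subtype.ext
      change ConjClasses.mk ((u : G) * ((ConjClasses.exists_rep c.1).choose : G)) = ConjClasses.mk x
      set y := (ConjClasses.exists_rep c.1).choose with hy
      have hyspec : ConjClasses.mk y = ConjClasses.mk y₀ := (ConjClasses.exists_rep c.1).choose_spec
      rw [ConjClasses.mk_eq_mk_iff_isConj, isConj_iff] at hyspec
      obtain ⟨w, hw⟩ := hyspec
      -- y₀ = w y w⁻¹
      rw [ConjClasses.mk_eq_mk_iff_isConj, isConj_iff]
      refine ⟨g⁻¹ * (w : G), ?_⟩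
      have hw' : (w : G) * (y : G) * (w : G)⁻¹ = g * x ^ l * g⁻¹ := by
        have := congrArg Subtype.val hw
        simpa using this
      have hwu : (w : G) * (u : G) = (u : G) * (w : G) := by
        have := w.2
        rw [Subgroup.mem_centralizer_singleton_iff] at this
        exact this
      have huval : (u : G) = g * x ^ k * g⁻¹ := rfl
      calc g⁻¹ * (w : G) * ((u : G) * (y : G)) * (g⁻¹ * (w : G))⁻¹
          = g⁻¹ * (((w : G) * (u : G)) * (y : G) * (w : G)⁻¹) * g := by group
        _ = g⁻¹ * (((u : G) * (w : G)) * (y : G) * (w : G)⁻¹) * g := by rw [hwu]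
        _ = g⁻¹ * ((u : G) * ((w : G) * (y : G) * (w : G)⁻¹)) * g := by group
        _ = g⁻¹ * ((g * x ^ k * g⁻¹) * (g * x ^ l * g⁻¹)) * g := by rw [hw', huval]
        _ = x ^ k * x ^ l := by group
        _ = x := hkl
    haveI : Finite D := by
      apply Finite.instSigma
    have h1 := Nat.card_le_card_of_surjective Ψ hΨ
    refine h1.trans ?_
    haveI : Fintype (P : Subgroup G) := Fintype.ofFinite _
    rw [Nat.card_sigma]
    calc ∑ u : (P : Subgroup G), Nat.card {C : ConjClasses (Subgroup.centralizer ({(u : G)} : Set G)) // ClassPred π' C}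
        ≤ ∑ _u : (P : Subgroup G), m' := Finset.sum_le_sum (fun u _ => hbound u)
      _ = Nat.card (P : Subgroup G) * m' := by
        rw [Finset.sum_const, smul_eq_mul, Finset.card_univ, Nat.card_eq_fintype_card]
      _ = m := hm'.symm

/-- Let G be a finite group, π a set of primes and m the π-part of the order of G. Then the number of conjugacy classes of G consisting of π-elements (elements whose order is divisible only by primes in π) is at most m. -/
theorem result {G : Type*} [Group G] [Finite G]
    (π : Set ℕ) (hπ : ∀ q ∈ π, q.Prime)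
    (m : ℕ) (hm : m ∣ Nat.card G) (hmπ : ∀ q : ℕ, q.Prime → q ∣ m → q ∈ π)
    (hm' : ∀ q ∈ π, ¬ q ∣ Nat.card G / m) :
    Nat.card {C : ConjClasses G // ∀ q : ℕ, q.Prime → (∃ g : G, ConjClasses.mk g = C ∧ q ∣ orderOf g) → q ∈ π} ≤ m :=
  main m G π hπ ⟨Nat.card G / m, (Nat.mul_div_cancel' hm).symm, hm'⟩

end Cfsg.Agent.S4106
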