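import Mathlib
import Cfsg.Prelude.Def_Solvable
import Cfsg.Agent.Lib.H20.Frobenius

namespace Cfsg.Agent.S4108

open Cfsg.Agent.Lib.H20 in
theorem result {G : Type*} [Group G] [Finite G] (N : Subgroup G) [N.Normal] (hN1 : N ≠ ⊥) (hN2 : N ≠ ⊤)
    (heq : ∀ x : G, x ∉ N → ∀ n ∈ N, orderOf (x * n) = orderOf x)
    (p : ℕ) [Fact p.Prime] (hNp : IsPGroup p N) :
    ∀ H : Subgroup G, H ≠ ⊥ → (Nat.card H).Coprime p →
      Cfsg.IsFrobeniusComplement (H.subgroupOf (N ⊔ H)) ∧ Cfsg.frobeniusKernel (H.subgroupOf (N ⊔ H)) = (N.subgroupOf (N ⊔ H) : Set ↥(N ⊔ H)) := by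
  intro H hH hcop
  have hp : p.Prime := Fact.out
  -- orders of elements of N and H are coprime
  have hordN : ∀ n ∈ N, ∃ k, orderOf n = p ^ k := by
    intro n hn
    obtain ⟨k, hk⟩ := hNp.exists_card_eq
    have h1 : orderOf (⟨n, hn⟩ : N) ∣ Nat.card N := orderOf_dvd_natCard _
    rw [hk] at h1
    obtain ⟨j, _, hj⟩ := (Nat.dvd_prime_pow hp).mp h1
    refine ⟨j, ?_⟩
    rw [← hj]
    exact (Subgroup.orderOf_mk n hn).symm
  have hordH : ∀ h ∈ H, (orderOf h).Coprime p := by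
    intro h hh
    have h1 : orderOf (⟨h, hh⟩ : H) ∣ Nat.card H := orderOf_dvd_natCard _
    rw [Subgroup.orderOf_mk] at h1
    exact Nat.Coprime.coprime_dvd_left h1 hcop
  have hNH : ∀ x, x ∈ N → x ∈ H → x = 1 := by
    intro x hxN hxH
    obtain ⟨k, hk⟩ := hordN x hxN
    have h2 := hordH x hxH
    rw [hk] at h2
    rcases Nat.eq_zero_or_pos k with rfl | hkpos
    · rw [pow_zero] at hk; exact orderOf_eq_one_iff.mp hk
    · exfalso
      have : p ∣ 1 := by
        have h3 : (p ^ k).gcd p = 1 := h2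
        have h4 : p ∣ (p ^ k).gcd p := Nat.dvd_gcd (dvd_pow_self p (Nat.pos_iff_ne_zero.mp hkpos)) dvd_rfl
        rwa [h3] at h4
      exact hp.one_lt.ne' (Nat.dvd_one.mp this)
  have hNle : N ≤ N ⊔ H := le_sup_left
  have hHle : H ≤ N ⊔ H := le_sup_right
  apply frobenius_of_fpf (N.subgroupOf (N ⊔ H)) (H.subgroupOf (N ⊔ H))
  · rw [← Subgroup.subgroupOf_sup hNle hHle, Subgroup.subgroupOf_self]
  · rw [eq_bot_iff]
    rintro ⟨x, hx⟩ ⟨h1, h2⟩
    rw [Subgroup.mem_bot]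
    apply Subtype.ext
    exact hNH x (Subgroup.mem_subgroupOf.mp h1) (Subgroup.mem_subgroupOf.mp h2)
  · intro hbot
    apply hN1
    rw [eq_bot_iff]
    intro x hx
    have : (⟨x, hNle hx⟩ : ↥(N ⊔ H)) ∈ N.subgroupOf (N ⊔ H) := Subgroup.mem_subgroupOf.mpr hx
    rw [hbot, Subgroup.mem_bot] at this
    rw [Subgroup.mem_bot]
    exact congrArg Subtype.val this
  · intro hbot
    apply hH
    rw [eq_bot_iff]
    intro x hx
    have : (⟨x, hHle hx⟩ : ↥(N ⊔ H)) ∈ H.subgroupOf (N ⊔ H) := Subgroup.mem_subgroupOf.mpr hx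
    rw [hbot, Subgroup.mem_bot] at this
    rw [Subgroup.mem_bot]
    exact congrArg Subtype.val this
  · rintro ⟨h, hhK⟩ hh hh1 ⟨n, hnK⟩ hn hcomm
    have hhH : h ∈ H := Subgroup.mem_subgroupOf.mp hh
    have hnN : n ∈ N := Subgroup.mem_subgroupOf.mp hn
    have hh1' : h ≠ 1 := fun e => hh1 (Subtype.ext e)
    have hhN : h ∉ N := fun e => hh1' (hNH h e hhH)
    have hcomm' : n * h = h * n := congrArg Subtype.val hcomm
    have h1 := heq h hhN n hnN
    obtain ⟨k, hk⟩ := hordN n hnN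
    have hcop' : (orderOf h).Coprime (orderOf n) := by
      rw [hk]; exact Nat.Coprime.pow_right k (hordH h hhH)
    have hc : Commute h n := hcomm'.symm
    have h2 := hc.orderOf_mul_eq_mul_orderOf_of_coprime hcop'
    rw [h1] at h2
    have hpos : 0 < orderOf h := orderOf_pos h
    have h3 : orderOf n = 1 := by
      have : orderOf h * 1 = orderOf h * orderOf n := by rw [mul_one]; exact h2
      exact (Nat.eq_of_mul_eq_mul_left hpos this).symm
    apply Subtype.ext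
    exact orderOf_eq_one_iff.mp h3

end Cfsg.Agent.S4108
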