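import Mathlib
import Cfsg.Agent.Lib.H1.NilpotentBasic
import Cfsg.Agent.Lib.H20.PowDecomp
import Cfsg.Agent.Lib.H20.Supplement

namespace Cfsg.Agent.S4112

open Cfsg.Agent.Lib.H20 Cfsg.Agent.Lib.H1 in
theorem result {G : Type*} [Group G] [Finite G] (N M : Subgroup G) [N.Normal] [M.Normal] (hMN : M ≤ N) (hM1 : M ≠ ⊥) (hN2 : N ≠ ⊤)
    (hcam : ∀ g : G, g ∉ N → ∀ m ∈ M, ∃ x : G, x * g * x⁻¹ = g * m) :
    ((∀ x ∈ M, x ≠ 1 → Subgroup.centralizer ({x} : Set G) ≤ N) ↔ N.index.Coprime (Nat.card M)) ∧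
    ((∀ x ∈ M, x ≠ 1 → Subgroup.centralizer ({x} : Set G) ≤ N) → ∃ H : Subgroup G, H ⊔ N = ⊤ ∧ H ⊓ M = ⊥) := by
  classical
  have hfwd : (∀ x ∈ M, x ≠ 1 → Subgroup.centralizer ({x} : Set G) ≤ N) →
      N.index.Coprime (Nat.card M) := by
    intro hC
    apply Nat.coprime_of_dvd
    intro p hp hp1 hp2
    haveI : Fact p.Prime := ⟨hp⟩
    obtain ⟨x, hx⟩ := exists_prime_orderOf_dvd_card' (G := M) p hp2
    have hxo : orderOf (x : G) = p := by rw [Subgroup.orderOf_coe]; exact hx
    have hpg : IsPGroup p (Subgroup.zpowers (x : G)) := by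
      rw [IsPGroup.iff_card]
      exact ⟨1, by rw [Nat.card_zpowers, hxo, pow_one]⟩
    obtain ⟨Q, hQ⟩ := hpg.exists_le_sylow
    have hxQ : (x : G) ∈ (Q : Subgroup G) := hQ (Subgroup.mem_zpowers _)
    haveI : Group.IsNilpotent (Q : Subgroup G) := Q.isPGroup'.isNilpotent
    have hne : M.subgroupOf (Q : Subgroup G) ≠ ⊥ := by
      intro hbot
      have : (⟨(x : G), hxQ⟩ : (Q : Subgroup G)) ∈ M.subgroupOf (Q : Subgroup G) :=
        Subgroup.mem_subgroupOf.mpr x.2
      rw [hbot, Subgroup.mem_bot] at this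
      have h1 : (x : G) = 1 := congrArg Subtype.val this
      rw [h1, orderOf_one] at hxo
      exact hp.one_lt.ne hxo
    have hz := normal_inf_center_ne_bot (M.subgroupOf (Q : Subgroup G)) hne
    obtain ⟨⟨z, hz1, hz2⟩, hzne⟩ := (Subgroup.ne_bot_iff_exists_ne_one).mp hz
    have hzM : (z : G) ∈ M := Subgroup.mem_subgroupOf.mp hz1
    have hz1' : (z : G) ≠ 1 := by
      intro h
      apply hzne
      apply Subtype.ext
      exact Subtype.ext h
    have hQle : (Q : Subgroup G) ≤ Subgroup.centralizer ({(z : G)} : Set G) := by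
      intro y hy
      rw [Subgroup.mem_centralizer_singleton_iff]
      have := (Subgroup.mem_center_iff.mp hz2) ⟨y, hy⟩
      have h2 := congrArg Subtype.val this
      simpa using h2
    have hQN : (Q : Subgroup G) ≤ N := hQle.trans (hC z hzM hz1')
    have h3 : N.index ∣ (Q : Subgroup G).index := Subgroup.index_dvd_of_le hQN
    exact Q.not_dvd_index (hp1.trans h3)
  have hbwd : N.index.Coprime (Nat.card M) →
      (∀ x ∈ M, x ≠ 1 → Subgroup.centralizer ({x} : Set G) ≤ N) := by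
    intro hcop x hxM hx1 g hg
    by_contra hgN
    rw [Subgroup.mem_centralizer_singleton_iff] at hg
    have hox : orderOf x ≠ 1 := fun h => hx1 (orderOf_eq_one_iff.mp h)
    set p := (orderOf x).minFac with hp_def
    have hp : p.Prime := Nat.minFac_prime hox
    have hpdvd : p ∣ orderOf x := Nat.minFac_dvd _
    set x' := x ^ (orderOf x / p) with hx'_def
    have hx'o : orderOf x' = p := orderOf_pow_orderOf_div (orderOf_pos x).ne' hpdvd
    have hx'M : x' ∈ M := M.pow_mem hxM _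
    have hpM : p ∣ Nat.card M := by
      have : orderOf (⟨x', hx'M⟩ : M) ∣ Nat.card M := orderOf_dvd_natCard _
      rwa [Subgroup.orderOf_mk, hx'o] at this
    have hpN : ¬ p ∣ N.index := by
      intro h
      have : p ∣ Nat.gcd N.index (Nat.card M) := Nat.dvd_gcd h hpM
      rw [hcop] at this
      exact hp.one_lt.ne' (Nat.dvd_one.mp this)
    obtain ⟨k, l, hkl, ⟨e, he⟩, hl⟩ := exists_pPart_pPrimePart g (isOfFinOrder_of_finite g) p hp
    -- the p-part lies in N
    have haN : g ^ k ∈ N := by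
      rw [← QuotientGroup.eq_one_iff]
      rw [← orderOf_eq_one_iff]
      have h1 : orderOf ((g ^ k : G) : G ⧸ N) ∣ p ^ e := by
        rw [← he]
        exact orderOf_map_dvd (QuotientGroup.mk' N) (g ^ k)
      have h2 : orderOf ((g ^ k : G) : G ⧸ N) ∣ N.index := by
        rw [Subgroup.index_eq_card]
        exact orderOf_dvd_natCard _
      have h3 : (p ^ e).Coprime N.index :=
        Nat.Coprime.pow_left e ((Nat.Prime.coprime_iff_not_dvd hp).mpr hpN)
      exact Nat.eq_one_of_dvd_coprimes h3 h1 h2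
    have hbN : g ^ l ∉ N := by
      intro h
      apply hgN
      rw [← hkl]
      exact N.mul_mem haN h
    have hcomm : Commute (g ^ l) x' := by
      have h1 : Commute g x := hg
      exact (h1.pow_left l).pow_right _
    obtain ⟨y, hy⟩ := hcam (g ^ l) hbN x' hx'M
    have ho1 : orderOf (g ^ l * x') = orderOf (g ^ l) := by
      rw [← hy]
      have : y * g ^ l * y⁻¹ = MulAut.conj y (g ^ l) := by simp [MulAut.conj_apply]
      rw [this, MulEquiv.orderOf_eq]
    have ho2 : orderOf (g ^ l * x') = orderOf (g ^ l) * orderOf x' :=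
      hcomm.orderOf_mul_eq_mul_orderOf_of_coprime (by rw [hx'o]; exact hl)
    rw [ho1, hx'o] at ho2
    have hpos : 0 < orderOf (g ^ l) := orderOf_pos _
    have : orderOf (g ^ l) * 1 = orderOf (g ^ l) * p := by rw [mul_one]; exact ho2
    have := Nat.eq_of_mul_eq_mul_left hpos this
    exact hp.one_lt.ne this
  refine ⟨⟨hfwd, hbwd⟩, fun hC => ?_⟩
  have hcop := hfwd hC
  obtain ⟨H, hH, hHp⟩ := exists_supplement_inf_card N
  refine ⟨H, hH, ?_⟩
  rw [eq_bot_iff]
  intro x hx
  rw [Subgroup.mem_bot]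
  by_contra hx1
  obtain ⟨hxH, hxM⟩ := hx
  have hox : orderOf x ≠ 1 := fun h => hx1 (orderOf_eq_one_iff.mp h)
  set p := (orderOf x).minFac with hp_def
  have hp : p.Prime := Nat.minFac_prime hox
  have hpdvd : p ∣ orderOf x := Nat.minFac_dvd _
  set x' := x ^ (orderOf x / p) with hx'_def
  have hx'o : orderOf x' = p := orderOf_pow_orderOf_div (orderOf_pos x).ne' hpdvd
  have hx'M : x' ∈ M := M.pow_mem hxM _
  have hx'H : x' ∈ H := H.pow_mem hxH _
  have hpM : p ∣ Nat.card M := by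
    have : orderOf (⟨x', hx'M⟩ : M) ∣ Nat.card M := orderOf_dvd_natCard _
    rwa [Subgroup.orderOf_mk, hx'o] at this
  have hpN : ¬ p ∣ N.index := by
    intro h
    have : p ∣ Nat.gcd N.index (Nat.card M) := Nat.dvd_gcd h hpM
    rw [hcop] at this
    exact hp.one_lt.ne' (Nat.dvd_one.mp this)
  apply hHp p hp hpN
  have hmem : (⟨x', hx'H⟩ : H) ∈ N.subgroupOf H := Subgroup.mem_subgroupOf.mpr (hMN hx'M)
  have : orderOf (⟨⟨x', hx'H⟩, hmem⟩ : N.subgroupOf H) ∣ Nat.card (N.subgroupOf H) :=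
    orderOf_dvd_natCard _
  rwa [Subgroup.orderOf_mk, Subgroup.orderOf_mk, hx'o] at this

end Cfsg.Agent.S4112
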