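import Mathlib

set_option autoImplicit false

namespace Cfsg.Agent.S4113

open scoped Pointwise

theorem result {G : Type*} [Group G] [Finite G] (N M : Subgroup G) [N.Normal] [M.Normal] (hMN : M ≤ N) (hM1 : M ≠ ⊥) (hN2 : N ≠ ⊤)
    (H : Subgroup G) (hHM : H ⊔ M = ⊤) (hHM' : H ⊓ M = ⊥) :
    (∀ x ∈ M, x ≠ 1 → Subgroup.centralizer ({x} : Set G) ≤ N) ↔
      (H ≠ ⊥ ∧ H ≠ ⊤ ∧ H ⊓ N < H ∧ ∀ g : G, g ∉ H → H ⊓ H.map (MulAut.conj g).toMonoidHom ≤ N) := by
  classical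
  have hdecomp : ∀ g : G, ∃ h ∈ H, ∃ m ∈ M, h * m = g := by
    intro g
    have hg : g ∈ H ⊔ M := by rw [hHM]; trivial
    have : g ∈ ((H ⊔ M : Subgroup G) : Set G) := hg
    rw [Subgroup.mul_normal] at this
    obtain ⟨h, hh, m, hm, rfl⟩ := Set.mem_mul.mp this
    exact ⟨h, hh, m, hm, rfl⟩
  have hdisj : ∀ x, x ∈ H → x ∈ M → x = 1 := by
    intro x h1 h2
    have : x ∈ H ⊓ M := ⟨h1, h2⟩
    rw [hHM'] at this
    exact Subgroup.mem_bot.mp this
  have hHtop : H ≠ ⊤ := by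
    intro hT
    apply hM1
    rw [hT, top_inf_eq] at hHM'
    exact hHM'
  have hHN : ¬ H ≤ N := by
    intro hle
    apply hN2
    rw [eq_top_iff, ← hHM]
    exact sup_le hle hMN
  have hHbot : H ≠ ⊥ := by
    intro hb
    apply hHN
    rw [hb]; exact bot_le
  have hlt : H ⊓ N < H := by
    apply lt_of_le_of_ne inf_le_left
    intro heq
    apply hHN
    rw [← heq]; exact inf_le_right
  constructor
  · intro hC
    refine ⟨hHbot, hHtop, hlt, ?_⟩
    intro g hg k hk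
    obtain ⟨hkH, hkg⟩ := Subgroup.mem_inf.mp hk
    obtain ⟨k', hk'H, hk'⟩ := hkg
    simp only [MulEquiv.coe_toMonoidHom, MulAut.conj_apply] at hk'
    obtain ⟨h, hh, m, hm, rfl⟩ := hdecomp g
    have hm1 : m ≠ 1 := by
      intro h1
      apply hg
      rw [h1, mul_one]; exact hh
    -- conjugate back by h
    set k₁ := h⁻¹ * k * h with hk₁
    set k₂ := h * k' * h⁻¹ with hk₂
    have hk₁H : k₁ ∈ H := H.mul_mem (H.mul_mem (H.inv_mem hh) hkH) hh
    have hk₂H : k₂ ∈ H := H.mul_mem (H.mul_mem hh hk'H) (H.inv_mem hh)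
    -- k = h m k' m⁻¹ h⁻¹
    have e1 : h⁻¹ * k * h = m * k' * m⁻¹ := by rw [← hk']; group
    -- m k' m⁻¹ k'⁻¹ ∈ M ∩ H
    have h2 : m * k' * m⁻¹ * k'⁻¹ = 1 := by
      apply hdisj
      · rw [← e1]
        exact H.mul_mem hk₁H (H.inv_mem hk'H)
      · have h3 : k' * m⁻¹ * k'⁻¹ ∈ M := ‹M.Normal›.conj_mem _ (M.inv_mem hm) k'
        have := M.mul_mem hm h3
        have e : m * (k' * m⁻¹ * k'⁻¹) = m * k' * m⁻¹ * k'⁻¹ := by group
        rwa [e] at this
    have h4 : m * k' * m⁻¹ = k' := mul_inv_eq_one.mp h2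
    have h5 : k' ∈ Subgroup.centralizer ({m} : Set G) := by
      rw [Subgroup.mem_centralizer_singleton_iff]
      calc k' * m = (m * k' * m⁻¹) * m := by rw [h4]
        _ = m * k' := by group
    have h6 : k' ∈ N := hC m hm hm1 h5
    have h7 : k = h * k' * h⁻¹ := by
      have : k = h * (h⁻¹ * k * h) * h⁻¹ := by group
      rw [this, e1, h4]
    rw [h7]
    exact ‹N.Normal›.conj_mem k' h6 h
  · rintro ⟨-, -, -, hTI⟩ x hxM hx1 c hc
    rw [Subgroup.mem_centralizer_singleton_iff] at hc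
    obtain ⟨h, hh, m, hm, rfl⟩ := hdecomp c
    by_cases hhN : h ∈ N
    · exact N.mul_mem hhN (hMN hm)
    exfalso
    -- elements of H \ N act fixed-point-freely on M
    have hfpf : ∀ y ∈ M, y * h = h * y → y = 1 := by
      intro y hy hyh
      by_contra hy1
      have hyH : y ∉ H := fun hyH => hy1 (hdisj y hyH hy)
      have := hTI y hyH
      apply hhN
      apply this
      refine Subgroup.mem_inf.mpr ⟨hh, ⟨h, hh, ?_⟩⟩
      simp only [MulEquiv.coe_toMonoidHom, MulAut.conj_apply]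
      rw [hyh]; group
    -- m' ↦ m' h m'⁻¹ h⁻¹ is a bijection of M
    let f : M → M := fun m' => ⟨m'.1 * h * m'.1⁻¹ * h⁻¹, by
      have h1 : h * m'.1⁻¹ * h⁻¹ ∈ M := ‹M.Normal›.conj_mem _ (M.inv_mem m'.2) h
      have := M.mul_mem m'.2 h1
      have e : m'.1 * (h * m'.1⁻¹ * h⁻¹) = m'.1 * h * m'.1⁻¹ * h⁻¹ := by group
      rwa [e] at this⟩
    have hinj : Function.Injective f := by
      intro a b hab
      have h2 : a.1 * h * a.1⁻¹ * h⁻¹ = b.1 * h * b.1⁻¹ * h⁻¹ := congrArg Subtype.val hab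
      have h3 : a.1 * h * a.1⁻¹ = b.1 * h * b.1⁻¹ := mul_right_cancel h2
      have h4 : (b.1⁻¹ * a.1) * h = h * (b.1⁻¹ * a.1) := by
        calc (b.1⁻¹ * a.1) * h = b.1⁻¹ * (a.1 * h * a.1⁻¹) * a.1 := by group
          _ = b.1⁻¹ * (b.1 * h * b.1⁻¹) * a.1 := by rw [h3]
          _ = h * (b.1⁻¹ * a.1) := by group
      have h5 := hfpf _ (M.mul_mem (M.inv_mem b.2) a.2) h4
      apply Subtype.ext
      exact (inv_mul_eq_one.mp h5).symm
    have hsurj : Function.Surjective f := Finite.injective_iff_surjective.mp hinj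
    have hhm : h * m * h⁻¹ ∈ M := ‹M.Normal›.conj_mem m hm h
    obtain ⟨m', hm'⟩ := hsurj ⟨h * m * h⁻¹, hhm⟩
    have hm'' : m'.1 * h * m'.1⁻¹ * h⁻¹ = h * m * h⁻¹ := congrArg Subtype.val hm'
    have hconj : h * m = m'.1 * h * m'.1⁻¹ := by
      calc h * m = (h * m * h⁻¹) * h := by group
        _ = (m'.1 * h * m'.1⁻¹ * h⁻¹) * h := by rw [hm'']
        _ = m'.1 * h * m'.1⁻¹ := by group
    -- h commutes with m'⁻¹ x m'
    have h8 : (m'.1⁻¹ * x * m'.1) * h = h * (m'.1⁻¹ * x * m'.1) := by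
      have hc' : (m'.1 * h * m'.1⁻¹) * x = x * (m'.1 * h * m'.1⁻¹) := by rw [← hconj]; exact hc
      calc (m'.1⁻¹ * x * m'.1) * h = m'.1⁻¹ * (x * (m'.1 * h * m'.1⁻¹)) * m'.1 := by group
        _ = m'.1⁻¹ * ((m'.1 * h * m'.1⁻¹) * x) * m'.1 := by rw [hc']
        _ = h * (m'.1⁻¹ * x * m'.1) := by group
    have h9 : m'.1⁻¹ * x * m'.1 ∈ M := by
      have := ‹M.Normal›.conj_mem x hxM m'.1⁻¹
      simpa using this
    have h10 := hfpf _ h9 h8
    apply hx1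
    have : x = m'.1 * (m'.1⁻¹ * x * m'.1) * m'.1⁻¹ := by group
    rw [this, h10]; group

end Cfsg.Agent.S4113
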