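import Mathlib
import Cfsg.Prelude.Def_OddOrderLocal
import Cfsg.Agent.Lib.H20.Malnormal
import Cfsg.Agent.Lib.H20.TI
import Cfsg.Agent.Lib.H1.SylowBasic

set_option autoImplicit false
open Cfsg

namespace Cfsg.Agent.S4116

open scoped Pointwise
open Cfsg.Agent.Lib.H20

variable {G : Type*} [Group G]

/-- conjugates of a TI subgroup sharing a nontrivial element coincide -/
theorem conj_eq_of_common (H : Subgroup G) (hTI : Cfsg.IsTISubset (H : Set G)) (a b x : G)
    (hx : x ≠ 1) (ha : a⁻¹ * x * a ∈ H) (hb : b⁻¹ * x * b ∈ H) :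
    MulAut.conj a • H = MulAut.conj b • H := by
  have hg : b⁻¹ * a ∈ Subgroup.normalizer (H : Set G) := by
    by_contra hg
    have h1 := hTI (b⁻¹ * a) hg (a⁻¹ * x * a) ha (by
      have e : b⁻¹ * a * (a⁻¹ * x * a) * (b⁻¹ * a)⁻¹ = b⁻¹ * x * b := by group
      rw [e]; exact hb)
    apply hx
    have e : x = a * (a⁻¹ * x * a) * a⁻¹ := by group
    rw [e, h1]; group
  ext y
  rw [mem_conj_smul_iff, mem_conj_smul_iff]
  have := (Subgroup.mem_normalizer_iff.mp hg) (a⁻¹ * y * a)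
  rw [this]
  have e : b⁻¹ * a * (a⁻¹ * y * a) * (b⁻¹ * a)⁻¹ = b⁻¹ * y * b := by group
  rw [e]

/-- `π(H)`-elements of the normalizer of a Hall subgroup lie in it -/
theorem mem_of_mem_normalizer [Finite G] (H : Subgroup G) (hHall : (Nat.card H).Coprime H.index)
    (g : G) (hg : g ∈ Subgroup.normalizer (H : Set G))
    (hπ : ∀ q : ℕ, q.Prime → q ∣ orderOf g → q ∣ Nat.card H) : g ∈ H := by
  set N := Subgroup.normalizer (H : Set G) with hN
  have hHN : H ≤ N := Subgroup.le_normalizer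
  haveI : (H.subgroupOf N).Normal := Subgroup.normal_in_normalizer
  have h1 : (⟨g, hg⟩ : N) ^ (H.subgroupOf N).index ∈ H.subgroupOf N := Subgroup.pow_index_mem _ _
  have h2 : g ^ (H.relIndex N) ∈ H := by
    rw [Subgroup.mem_subgroupOf] at h1
    have h1' : g ^ (H.subgroupOf N).index ∈ H := by simpa using h1
    exact h1'
  have h3 : H.relIndex N ∣ H.index := Subgroup.relIndex_dvd_index_of_le hHN
  have h4 : g ^ H.index ∈ H := by
    obtain ⟨c, hc⟩ := h3
    rw [hc, pow_mul]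
    exact H.pow_mem h2 c
  have hcop : Nat.Coprime H.index (orderOf g) := by
    rw [Nat.coprime_iff_gcd_eq_one]
    by_contra hne
    obtain ⟨q, hq, hqd⟩ := Nat.exists_prime_and_dvd hne
    have hq1 : q ∣ H.index := hqd.trans (Nat.gcd_dvd_left _ _)
    have hq2 : q ∣ Nat.card H := hπ q hq (hqd.trans (Nat.gcd_dvd_right _ _))
    have := Nat.eq_one_of_dvd_coprimes hHall hq2 hq1
    exact hq.one_lt.ne' this
  obtain ⟨m, hm⟩ := exists_pow_eq_self_of_coprime hcop
  rw [← hm]
  exact H.pow_mem h4 m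

/-- the key malnormality lemma -/
theorem key [Finite G] (H : Subgroup G) (hHall : (Nat.card H).Coprime H.index)
    (hTI : Cfsg.IsTISubset (H : Set G)) (a k x : G)
    (hπ : ∀ q : ℕ, q.Prime → q ∣ orderOf k → q ∣ Nat.card H) (hx : x ≠ 1)
    (h1 : a⁻¹ * x * a ∈ H) (h2 : a⁻¹ * (k * x * k⁻¹) * a ∈ H) : a⁻¹ * k * a ∈ H := by
  have hg : a⁻¹ * k * a ∈ Subgroup.normalizer (H : Set G) := by
    by_contra hg
    have h3 := hTI (a⁻¹ * k * a) hg (a⁻¹ * x * a) h1 (by
      have e : a⁻¹ * k * a * (a⁻¹ * x * a) * (a⁻¹ * k * a)⁻¹ = a⁻¹ * (k * x * k⁻¹) * a := by group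
      rw [e]; exact h2)
    apply hx
    have e : x = a * (a⁻¹ * x * a) * a⁻¹ := by group
    rw [e, h3]; group
  apply mem_of_mem_normalizer H hHall _ hg
  have ho : orderOf (a⁻¹ * k * a) = orderOf k := by
    have := (MulAut.conj a⁻¹).orderOf_eq k
    rw [MulAut.conj_apply, inv_inv] at this
    exact this
  rw [ho]
  exact hπ


/-- Let G be a finite group with a subgroup H whose order is coprime to its index (a Hall subgroup) and which meets each of its conjugates by elements outside N_G(H) trivially. Then every subgroup of G whose order is divisible only by primes dividing the order of H lies in a conjugate of H. -/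
theorem result {G : Type*} [Group G] [Finite G] (H : Subgroup G)
    (hHall : (Nat.card H).Coprime H.index) (hTI : Cfsg.IsTISubset (H : Set G))
    (K : Subgroup G) (hK : ∀ q : ℕ, q.Prime → q ∣ Nat.card K → q ∣ Nat.card H) :
    ∃ g : G, K ≤ H.map (MulAut.conj g).toMonoidHom := by
  classical
  by_cases hKbot : K = ⊥
  · exact ⟨1, by rw [hKbot]; exact bot_le⟩
  -- every element of K is a π-element
  have hπ : ∀ k ∈ K, ∀ q : ℕ, q.Prime → q ∣ orderOf k → q ∣ Nat.card H := by
    intro k hk q hq hqk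
    apply hK q hq
    have : orderOf k ∣ Nat.card K := by
      have := orderOf_dvd_natCard (⟨k, hk⟩ : K)
      rwa [Subgroup.orderOf_mk] at this
    exact hqk.trans this
  -- Sylow subgroups of K lie in conjugates of H
  have hsyl : ∀ (r : ℕ) [Fact r.Prime], r ∣ Nat.card K → ∀ R : Sylow r K,
      ∃ a : G, (R : Subgroup K).map K.subtype ≤ MulAut.conj a • H := by
    intro r hrF hr R
    have hrH : ¬ r ∣ H.index := by
      intro h
      have := Nat.eq_one_of_dvd_coprimes hHall (hK r hrF.out hr) h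
      exact hrF.out.one_lt.ne' this
    have hRp : IsPGroup r ((R : Subgroup K).map K.subtype) := R.isPGroup'.map _
    obtain ⟨g, hg⟩ := Cfsg.Agent.Lib.H1.exists_conj_le_of_not_dvd_index hrH hRp
    refine ⟨g⁻¹, fun n hn => ?_⟩
    rw [mem_conj_smul_iff]
    simpa using hg n hn
  -- nontrivial elements in Sylow subgroups
  have hsylne : ∀ (r : ℕ) [Fact r.Prime], r ∣ Nat.card K → ∀ R : Sylow r K,
      ∃ x : K, x ∈ R ∧ x ≠ 1 := by
    intro r hrF hr R
    have hne : (R : Subgroup K) ≠ ⊥ := R.ne_bot_of_dvd_card hr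
    obtain ⟨x, hx⟩ := (Subgroup.ne_bot_iff_exists_ne_one).mp hne
    exact ⟨x, x.2, fun h => hx (Subtype.ext h)⟩
  have hKcard : Nat.card K ≠ 1 := fun h => hKbot (Subgroup.card_eq_one.mp h)
  obtain ⟨q, hq, hqK⟩ := Nat.exists_prime_and_dvd hKcard
  haveI hqF : Fact q.Prime := ⟨hq⟩
  obtain ⟨Q⟩ : Nonempty (Sylow q K) := inferInstance
  obtain ⟨a₁, ha₁⟩ := hsyl q hqK Q
  refine ⟨a₁, ?_⟩
  rw [map_conj_eq_smul]
  by_contra hnot
  set K₁ := K ⊓ MulAut.conj a₁ • H with hK₁
  have hex : ∃ (r : ℕ) (_ : Fact r.Prime) (R : Sylow r K), r ∣ Nat.card K ∧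
      ∀ k ∈ K, ¬ (R : Subgroup K).map K.subtype ≤ MulAut.conj (k * a₁) • H := by
    by_contra hcon
    push Not at hcon
    apply hnot
    have hdvd : Nat.card K ∣ Nat.card K₁ := by
      rw [Nat.dvd_iff_prime_pow_dvd_dvd]
      intro r j hr hrj
      haveI hrF : Fact r.Prime := ⟨hr⟩
      rcases Nat.eq_zero_or_pos j with hj | hj
      · subst hj; simp
      have hrK : r ∣ Nat.card K := (dvd_pow_self r hj.ne').trans hrj
      obtain ⟨R⟩ : Nonempty (Sylow r K) := inferInstance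
      obtain ⟨k, hk, hle⟩ := hcon r hrF R hrK
      have hle' : MulAut.conj k⁻¹ • (R : Subgroup K).map K.subtype ≤ K₁ := by
        intro y hy
        rw [mem_conj_smul_iff, inv_inv] at hy
        rw [hK₁, Subgroup.mem_inf]
        constructor
        · have : k * y * k⁻¹ ∈ K := (Subgroup.map_subtype_le _) hy
          have e : y = k⁻¹ * (k * y * k⁻¹) * k := by group
          rw [e]; exact K.mul_mem (K.mul_mem (K.inv_mem hk) this) hk
        · have := hle hy
          rw [mem_conj_smul_iff] at this ⊢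
          have e : (k * a₁)⁻¹ * (k * y * k⁻¹) * (k * a₁) = a₁⁻¹ * y * a₁ := by group
          rwa [e] at this
      have hcard : Nat.card (MulAut.conj k⁻¹ • (R : Subgroup K).map K.subtype : Subgroup G) =
          r ^ (Nat.card K).factorization r := by
        rw [← Nat.card_congr (Subgroup.equivSMul (MulAut.conj k⁻¹) _).toEquiv,
          Subgroup.card_map_of_injective K.subtype_injective]
        exact R.card_eq_multiplicity
      have h1 : r ^ (Nat.card K).factorization r ∣ Nat.card K₁ :=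
        hcard ▸ Subgroup.card_dvd_of_le hle'
      have h2 : j ≤ (Nat.card K).factorization r :=
        (hr.pow_dvd_iff_le_factorization Nat.card_pos.ne').mp hrj
      exact (pow_dvd_pow r h2).trans h1
    have hle : K₁ ≤ K := inf_le_left
    have : K₁ = K := Subgroup.eq_of_le_of_card_ge hle (Nat.le_of_dvd Nat.card_pos hdvd)
    rw [← this]; exact inf_le_right
  obtain ⟨r, hrF, R, hrK, hR⟩ := hex
  obtain ⟨a₂, ha₂⟩ := hsyl r hrK R
  set K₂ := K ⊓ MulAut.conj a₂ • H with hK₂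
  have hmemK₁ : ∀ y : K, y ∈ K₁.subgroupOf K ↔ a₁⁻¹ * (y : G) * a₁ ∈ H := by
    intro y
    rw [Subgroup.mem_subgroupOf, hK₁, Subgroup.mem_inf, mem_conj_smul_iff]
    exact ⟨fun h => h.2, fun h => ⟨y.2, h⟩⟩
  have hmemK₂ : ∀ y : K, y ∈ K₂.subgroupOf K ↔ a₂⁻¹ * (y : G) * a₂ ∈ H := by
    intro y
    rw [Subgroup.mem_subgroupOf, hK₂, Subgroup.mem_inf, mem_conj_smul_iff]
    exact ⟨fun h => h.2, fun h => ⟨y.2, h⟩⟩
  have hne1 : ∀ y : K, y ≠ 1 → (y : G) ≠ 1 := by
    intro y hy h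
    exact hy (Subtype.ext h)
  apply false_of_two_malnormal (K := K) (K₁.subgroupOf K) (K₂.subgroupOf K)
  · intro k x hx hx1 hkx
    rw [hmemK₁] at hx hkx ⊢
    exact key H hHall hTI a₁ k x (hπ k k.2) (hne1 x hx1) hx (by simpa using hkx)
  · intro k x hx hx1 hkx
    rw [hmemK₂] at hx hkx ⊢
    exact key H hHall hTI a₂ k x (hπ k k.2) (hne1 x hx1) hx (by simpa using hkx)
  · intro k x hx hkx
    by_contra hx1
    rw [hmemK₁] at hx
    rw [hmemK₂] at hkx
    have h2 : ((k : G)⁻¹ * a₂)⁻¹ * (x : G) * ((k : G)⁻¹ * a₂) ∈ H := by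
      have e : ((k : G)⁻¹ * a₂)⁻¹ * (x : G) * ((k : G)⁻¹ * a₂) =
          a₂⁻¹ * ((k : G) * (x : G) * (k : G)⁻¹) * a₂ := by group
      rw [e]
      simpa using hkx
    have heq := conj_eq_of_common H hTI a₁ ((k : G)⁻¹ * a₂) x (hne1 x hx1) hx h2
    apply hR k k.2
    intro y hy
    have hy2 := ha₂ hy
    rw [mem_conj_smul_iff] at hy2 ⊢
    -- y ∈ conj a₂ • H ; want (k a₁)⁻¹ y (k a₁) ∈ H
    have h3 : (k : G)⁻¹ * y * (k : G) ∈ MulAut.conj ((k : G)⁻¹ * a₂) • H := by
      rw [mem_conj_smul_iff]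
      have e : ((k : G)⁻¹ * a₂)⁻¹ * ((k : G)⁻¹ * y * (k : G)) * ((k : G)⁻¹ * a₂) = a₂⁻¹ * y * a₂ := by
        group
      rw [e]; exact hy2
    rw [← heq, mem_conj_smul_iff] at h3
    have e : ((k : G) * a₁)⁻¹ * y * ((k : G) * a₁) = a₁⁻¹ * ((k : G)⁻¹ * y * (k : G)) * a₁ := by group
    rw [e]; exact h3
  · obtain ⟨x, hxQ, hx1⟩ := hsylne q hqK Q
    intro hbot
    apply hx1
    have : x ∈ K₁.subgroupOf K := by
      rw [hmemK₁, ← mem_conj_smul_iff]
      exact ha₁ ⟨x, hxQ, rfl⟩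
    rw [hbot, Subgroup.mem_bot] at this
    exact this
  · obtain ⟨x, hxR, hx1⟩ := hsylne r hrK R
    intro hbot
    apply hx1
    have : x ∈ K₂.subgroupOf K := by
      rw [hmemK₂, ← mem_conj_smul_iff]
      exact ha₂ ⟨x, hxR, rfl⟩
    rw [hbot, Subgroup.mem_bot] at this
    exact this

end Cfsg.Agent.S4116
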