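import Mathlib
import Cfsg.Agent.Lib.H20.CoprimeAbelian
import Cfsg.Agent.Lib.H20.Cyclic
import Cfsg.Agent.Lib.H26.Basic

set_option autoImplicit false
open Cfsg

namespace Cfsg.Agent.S4117

open Cfsg.Agent.Lib.H20
open scoped commutatorElement

section

variable {G A : Type*} [Group G] [Group A] [MulDistribMulAction A G]

/-- The subgroup `[G, A]`. -/
def commGA (G A : Type*) [Group G] [Group A] [MulDistribMulAction A G] : Subgroup G :=
  Subgroup.closure {y : G | ∃ (a : A) (g : G), y = g⁻¹ * a • g}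

theorem gen_mem (a : A) (g : G) : g⁻¹ * a • g ∈ commGA G A :=
  Subgroup.subset_closure ⟨a, g, rfl⟩

theorem smul_mem_commGA (a : A) {k : G} (hk : k ∈ commGA G A) : a • k ∈ commGA G A := by
  unfold commGA at hk
  induction hk using Subgroup.closure_induction with
  | mem y hy =>
    obtain ⟨b, g, rfl⟩ := hy
    have : a • (g⁻¹ * b • g) = (a • g)⁻¹ * (a * b * a⁻¹) • (a • g) := by
      rw [smul_mul', smul_inv', smul_smul, smul_smul]
      congr 2
      group
    rw [this]; exact gen_mem _ _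
  | one => rw [smul_one]; exact one_mem _
  | mul x y _ _ hx hy => rw [smul_mul']; exact mul_mem hx hy
  | inv x _ hx => rw [smul_inv']; exact inv_mem hx

instance commGA_normal : (commGA G A).Normal := by
  refine ⟨fun k hk x => ?_⟩
  unfold commGA at hk
  induction hk using Subgroup.closure_induction with
  | mem y hy =>
    obtain ⟨a, g, rfl⟩ := hy
    have : x * (g⁻¹ * a • g) * x⁻¹ =
        ((g * x⁻¹)⁻¹ * a • (g * x⁻¹)) * ((x⁻¹)⁻¹ * a • x⁻¹)⁻¹ := by
      rw [smul_mul']
      group
    rw [this]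
    exact mul_mem (gen_mem _ _) (inv_mem (gen_mem _ _))
  | one => simp
  | mul y z _ _ hy hz =>
    have : x * (y * z) * x⁻¹ = (x * y * x⁻¹) * (x * z * x⁻¹) := by group
    rw [this]; exact mul_mem hy hz
  | inv y _ hy =>
    have : x * y⁻¹ * x⁻¹ = (x * y * x⁻¹)⁻¹ := by group
    rw [this]; exact inv_mem hy

theorem smul_mem_commutator (a : A) {c : G} (hc : c ∈ commutator G) : a • c ∈ commutator G := by
  have hchar : (commutator G).Characteristic := inferInstance
  have := Subgroup.characteristic_iff_map_le.mp hchar (MulDistribMulAction.toMulAut A G a)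
  exact this ⟨c, hc, rfl⟩

theorem commGA_le_centralizer_commutator (hcyc : IsCyclic (commutator G)) :
    commGA G A ≤ Subgroup.centralizer (commutator G : Set G) := by
  obtain ⟨⟨c₀, hc₀mem⟩, hc₀⟩ := hcyc.exists_generator
  have hgen : ∀ c ∈ commutator G, ∃ k : ℤ, c₀ ^ k = c := by
    intro c hc
    obtain ⟨k, hk⟩ := Subgroup.mem_zpowers_iff.mp (hc₀ ⟨c, hc⟩)
    exact ⟨k, by simpa using congrArg Subtype.val hk⟩
  unfold commGA
  rw [Subgroup.closure_le]
  rintro y ⟨a, g, rfl⟩
  rw [SetLike.mem_coe, Subgroup.mem_centralizer_iff]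
  intro c' hc'
  -- key identity
  have key : ∀ c ∈ commutator G, g * (a • c) * g⁻¹ = a • (g * c * g⁻¹) := by
    intro c hc
    obtain ⟨k, rfl⟩ := hgen c hc
    obtain ⟨i, hi⟩ := hgen (g * c₀ * g⁻¹)
      ((inferInstance : (commutator G).Normal).conj_mem c₀ hc₀mem g)
    obtain ⟨j, hj⟩ := hgen (a • c₀) (smul_mem_commutator a hc₀mem)
    have h0 : g * (a • c₀) * g⁻¹ = a • (g * c₀ * g⁻¹) := by
      rw [← hj, ← conj_zpow, ← hi, smul_zpow', ← hj, ← zpow_mul, ← zpow_mul, mul_comm]
    rw [smul_zpow', ← conj_zpow, h0, ← conj_zpow, smul_zpow']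
  have hc : a⁻¹ • c' ∈ commutator G := smul_mem_commutator a⁻¹ hc'
  have h1 := key _ hc
  rw [smul_smul, mul_inv_cancel, one_smul, smul_mul', smul_mul', smul_inv', smul_smul,
    mul_inv_cancel, one_smul] at h1
  -- h1 : g * c' * g⁻¹ = a • g * c' * (a • g)⁻¹
  calc c' * (g⁻¹ * a • g) = g⁻¹ * (g * c' * g⁻¹) * a • g := by group
    _ = g⁻¹ * (a • g * c' * (a • g)⁻¹) * a • g := by rw [h1]
    _ = g⁻¹ * a • g * c' := by group

end

section finite

variable {G A : Type*} [Group G] [Finite G] [Group A] [Finite A] [MulDistribMulAction A G]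

theorem isCyclic_commGA [IsZGroup G] : IsCyclic (commGA G A) := by
  have hcyc : IsCyclic (commutator G) := IsZGroup.isCyclic_commutator G
  have hle := commGA_le_centralizer_commutator (A := A) hcyc
  have h1 : ⁅commGA G A, commGA G A⁆ ≤ commutator G := Subgroup.commutator_mono le_top le_top
  have h2 : ⁅⁅commGA G A, commGA G A⁆, commGA G A⁆ = ⊥ := by
    rw [Subgroup.commutator_eq_bot_iff_le_centralizer]
    intro x hx
    rw [Subgroup.mem_centralizer_iff]
    intro h hh
    have := Subgroup.mem_centralizer_iff.mp (hle hh) x (h1 hx)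
    exact this.symm
  haveI : Group.IsNilpotent (commGA G A) :=
    (Subgroup.isNilpotent_iff_lowerCentralSeries (commGA G A)).mpr ⟨2, h2⟩
  infer_instance

/-- The induced action on `[G, A]`. -/
def actK : MulDistribMulAction A (commGA G A) where
  smul a k := ⟨a • k.1, smul_mem_commGA a k.2⟩
  one_smul k := Subtype.ext (one_smul A k.1)
  mul_smul a b k := Subtype.ext (mul_smul a b k.1)
  smul_mul a k l := Subtype.ext (smul_mul' a k.1 l.1)
  smul_one a := Subtype.ext (smul_one a)

theorem exists_fixed_mul [IsZGroup G] (hcop : (Nat.card A).Coprime (Nat.card G)) (g : G) :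
    ∃ d ∈ commGA G A, ∀ a : A, a • (g * d) = g * d := by
  haveI := isCyclic_commGA (G := G) (A := A)
  letI : CommGroup (commGA G A) := IsCyclic.commGroup
  letI : MulDistribMulAction A (commGA G A) := actK
  have hcopK : (Nat.card (commGA G A)).Coprime (Nat.card A) :=
    (Nat.Coprime.coprime_dvd_right (Subgroup.card_subgroup_dvd_card _) hcop).symm
  obtain ⟨d, hd⟩ := exists_coboundary hcopK (fun a => ⟨g⁻¹ * a • g, gen_mem a g⟩) (by
    intro a b
    apply Subtype.ext
    show g⁻¹ * (a * b) • g = (g⁻¹ * a • g) * a • (g⁻¹ * b • g)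
    rw [mul_smul, smul_mul', smul_inv']; group)
  refine ⟨d.1, d.2, fun a => ?_⟩
  have h1 : g⁻¹ * a • g = d.1 * (a • d.1)⁻¹ := congrArg Subtype.val (hd a)
  rw [smul_mul']
  have h2 : a • g = g * (d.1 * (a • d.1)⁻¹) := by rw [← h1]; group
  rw [h2]; group

theorem eq_one_of_mem_commGA_of_fixed [IsZGroup G] (hcop : (Nat.card A).Coprime (Nat.card G))
    {e : G} (heK : e ∈ commGA G A) (he : ∀ a : A, a • e = e) : e = 1 := by
  haveI := isCyclic_commGA (G := G) (A := A)
  letI : CommGroup (commGA G A) := IsCyclic.commGroup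
  letI : MulDistribMulAction A (commGA G A) := actK
  have hcopK : (Nat.card (commGA G A)).Coprime (Nat.card A) :=
    (Nat.Coprime.coprime_dvd_right (Subgroup.card_subgroup_dvd_card _) hcop).symm
  have hsub : commGA G A ≤ (Subgroup.closure
      {y : commGA G A | ∃ (b : A) (k : commGA G A), y = k⁻¹ * b • k}).map
        (commGA G A).subtype := by
    show Subgroup.closure {y : G | ∃ (a : A) (g : G), y = g⁻¹ * a • g} ≤ _
    rw [Subgroup.closure_le]
    rintro y ⟨a, g, rfl⟩
    obtain ⟨d, hdK, hd⟩ := exists_fixed_mul hcop g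
    have hda := hd a
    rw [smul_mul'] at hda
    refine ⟨(⟨d⁻¹, inv_mem hdK⟩ : commGA G A)⁻¹ * a • (⟨d⁻¹, inv_mem hdK⟩ : commGA G A),
      Subgroup.subset_closure ⟨a, _, rfl⟩, ?_⟩
    show (d⁻¹)⁻¹ * a • d⁻¹ = g⁻¹ * a • g
    rw [smul_inv', inv_inv]
    have h2 : a • g = g * d * (a • d)⁻¹ := by rw [← hda]; group
    rw [h2]; group
  obtain ⟨z, hz, hze⟩ := hsub heK
  have hzeq : z = ⟨e, heK⟩ := Subtype.ext hze
  rw [hzeq] at hz
  have key := eq_one_of_fixed_of_mem_closure hcopK (⟨e, heK⟩ : commGA G A)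
    (fun a => Subtype.ext (he a)) hz
  exact congrArg Subtype.val key

theorem main [IsZGroup G] (hcop : (Nat.card A).Coprime (Nat.card G)) :
    commGA G A ⊓ FixedPoints.subgroup A G = ⊥ ∧ commGA G A ⊔ FixedPoints.subgroup A G = ⊤ ∧
      (Nat.card (FixedPoints.subgroup A G)).Coprime (Nat.card (commGA G A)) ∧
      Nat.card (commGA G A) * Nat.card (FixedPoints.subgroup A G) = Nat.card G := by
  have hinf : commGA G A ⊓ FixedPoints.subgroup A G = ⊥ := by
    rw [eq_bot_iff]
    rintro e ⟨heK, heC⟩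
    rw [Subgroup.mem_bot]
    exact eq_one_of_mem_commGA_of_fixed hcop heK ((FixedPoints.mem_subgroup A G e).mp heC)
  have hsup : commGA G A ⊔ FixedPoints.subgroup A G = ⊤ := by
    rw [eq_top_iff]
    intro g _
    obtain ⟨d, hdK, hd⟩ := exists_fixed_mul (A := A) hcop g
    have hg : g = (g * d) * d⁻¹ := by group
    rw [hg, sup_comm]
    exact Subgroup.mul_mem_sup ((FixedPoints.mem_subgroup A G _).mpr hd) (inv_mem hdK)
  have hcompl : Subgroup.IsComplement' (commGA G A) (FixedPoints.subgroup A G) := by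
    apply Subgroup.isComplement'_of_disjoint_and_mul_eq_univ (disjoint_iff.mpr hinf)
    rw [← Subgroup.normal_mul, hsup]; rfl
  have hcard := hcompl.card_mul_card
  refine ⟨hinf, hsup, ?_, hcard⟩
  apply Nat.coprime_of_dvd
  intro p hp hpC hpK
  haveI : Fact p.Prime := ⟨hp⟩
  obtain ⟨y, hy⟩ := exists_prime_orderOf_dvd_card' (G := FixedPoints.subgroup A G) p hpC
  obtain ⟨x, hx⟩ := exists_prime_orderOf_dvd_card' (G := commGA G A) p hpK
  rw [← Subgroup.orderOf_coe] at hy hx
  have hyp : IsPGroup p (Subgroup.zpowers (y : G)) := by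
    apply IsPGroup.of_card (n := 1)
    rw [Nat.card_zpowers, hy, pow_one]
  have hxp : IsPGroup p (Subgroup.zpowers (x : G)) := by
    apply IsPGroup.of_card (n := 1)
    rw [Nat.card_zpowers, hx, pow_one]
  obtain ⟨P, hyP⟩ := hyp.exists_le_sylow
  obtain ⟨g, hg⟩ := Cfsg.Agent.Lib.H26.exists_conj_mem_sylow P _ hxp
  have hx'P : g * (x : G) * g⁻¹ ∈ (P : Subgroup G) := hg _ (Subgroup.mem_zpowers _)
  have hx'K : g * (x : G) * g⁻¹ ∈ commGA G A :=
    (inferInstance : (commGA G A).Normal).conj_mem _ x.2 g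
  have hx'o : orderOf (g * (x : G) * g⁻¹) = p := by
    rw [← hx]; exact (MulAut.conj g).orderOf_eq (x : G)
  have hyPm : (y : G) ∈ (P : Subgroup G) := hyP (Subgroup.mem_zpowers _)
  haveI : IsCyclic (P : Subgroup G) := inferInstance
  have hmem := mem_zpowers_of_orderOf_dvd_of_isCyclic (C := (P : Subgroup G))
    (x := ⟨(y : G), hyPm⟩) (y := ⟨g * (x : G) * g⁻¹, hx'P⟩)
    (by rw [Subgroup.orderOf_mk, Subgroup.orderOf_mk, hy, hx'o])
  obtain ⟨k, hk⟩ := Subgroup.mem_zpowers_iff.mp hmem
  have hk' : (g * (x : G) * g⁻¹) ^ k = (y : G) := by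
    have := congrArg Subtype.val hk
    simpa using this
  have hyK : (y : G) ∈ commGA G A := by
    rw [← hk']; exact Subgroup.zpow_mem _ hx'K k
  have hy1 : (y : G) = 1 :=
    eq_one_of_mem_commGA_of_fixed hcop hyK ((FixedPoints.mem_subgroup A G _).mp y.2)
  rw [hy1, orderOf_one] at hy
  exact hp.one_lt.ne hy

end finite

/-- Let A be a finite group acting on the finite group G by automorphisms with the orders of A and G coprime, and suppose every Sylow subgroup of G is cyclic. Then the fixed-point subgroup C_G(A) is a Hall subgroup of G (its order is coprime to its index), the subgroup [G, A] generated by the elements g⁻¹·a(g) is cyclic and normal with [G, A] ∩ C_G(A) = 1 and [G, A]·C_G(A) = G. -/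
theorem result {G A : Type*} [Group G] [Finite G] [Group A] [Finite A]
    [MulDistribMulAction A G] (hcop : (Nat.card A).Coprime (Nat.card G))
    (hcyc : ∀ (p : ℕ) [Fact p.Prime] (P : Sylow p G), IsCyclic (P : Subgroup G)) :
    (Nat.card (MulAction.fixedPoints A G : Set G)).Coprime (Nat.card G / Nat.card (MulAction.fixedPoints A G : Set G)) ∧
    IsCyclic (Subgroup.closure {y : G | ∃ (a : A) (g : G), y = g⁻¹ * a • g}) ∧
    (Subgroup.closure {y : G | ∃ (a : A) (g : G), y = g⁻¹ * a • g}).Normal ∧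
    (Subgroup.closure {y : G | ∃ (a : A) (g : G), y = g⁻¹ * a • g} : Set G) ∩ MulAction.fixedPoints A G = {1} ∧
    Subgroup.closure {y : G | ∃ (a : A) (g : G), y = g⁻¹ * a • g} ⊔ Subgroup.closure (MulAction.fixedPoints A G) = ⊤ := by
  haveI : IsZGroup G := ⟨fun p hp P => @hcyc p ⟨hp⟩ P⟩
  obtain ⟨hinf, hsup, hcopCK, hcard⟩ := main (G := G) (A := A) hcop
  have hfix : (MulAction.fixedPoints A G : Set G) = ((FixedPoints.subgroup A G : Subgroup G) : Set G) := rfl
  have hcardfix : Nat.card (MulAction.fixedPoints A G : Set G) = Nat.card (FixedPoints.subgroup A G) := rfl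
  refine ⟨?_, isCyclic_commGA (G := G) (A := A), commGA_normal (G := G) (A := A), ?_, ?_⟩
  · rw [hcardfix, ← hcard, Nat.mul_div_cancel _ Nat.card_pos]
    exact hcopCK
  · ext x
    rw [hfix]
    constructor
    · rintro ⟨h1, h2⟩
      have : x ∈ commGA G A ⊓ FixedPoints.subgroup A G := ⟨h1, h2⟩
      rw [hinf, Subgroup.mem_bot] at this
      exact this
    · intro h
      rw [Set.mem_singleton_iff] at h
      rw [h]
      exact ⟨Subgroup.one_mem _, Subgroup.one_mem _⟩
  · rw [hfix, Subgroup.closure_eq]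
    exact hsup

end Cfsg.Agent.S4117
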