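import Mathlib
import Cfsg.Prelude.Def_Transfer
import Cfsg.Agent.Lib.H20.OmegaTwo
import Cfsg.Agent.Lib.H20.IndexCoprime
import Cfsg.Agent.Lib.L0.FrobeniusPC

set_option autoImplicit false
open Cfsg

namespace Cfsg.Agent.S4126

open scoped commutatorElement

/-- If the centralizer of `x` has `p`-power index, then every conjugate of `x` is a conjugate by an
element of any given Sylow `p`-subgroup. -/
theorem conj_eq_sylow_conj {G : Type*} [Group G] [Finite G] {p : ℕ} [hp : Fact p.Prime]
    (P : Sylow p G) (x : G) (a : ℕ)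
    (hidx : (Subgroup.centralizer ({x} : Set G)).index = p ^ a) (g : G) :
    ∃ u ∈ (P : Subgroup G), g * x * g⁻¹ = u * x * u⁻¹ := by
  classical
  obtain ⟨C, hC⟩ : ∃ C : Subgroup G, C = Subgroup.centralizer ({x} : Set G) := ⟨_, rfl⟩
  rw [← hC] at hidx
  have hcop : C.index.Coprime (P : Subgroup G).index := by
    rw [hidx]
    exact Nat.Coprime.pow_left a ((Nat.Prime.coprime_iff_not_dvd hp.out).mpr P.not_dvd_index)
  have h1 := Cfsg.Agent.Lib.H20.index_inf_of_coprime C (P : Subgroup G) hcop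
  have h2 := Subgroup.relIndex_mul_index (inf_le_right : C ⊓ (P : Subgroup G) ≤ P)
  rw [h1, Subgroup.inf_relIndex_right] at h2
  have h3 : C.relIndex (P : Subgroup G) = C.index :=
    Nat.eq_of_mul_eq_mul_right (Nat.pos_of_ne_zero Subgroup.index_ne_zero_of_finite) h2
  -- the orbit of the base coset under `P`
  have hstab : MulAction.stabilizer (P : Subgroup G) (((1 : G) : G ⧸ C)) =
      C.subgroupOf (P : Subgroup G) := by
    ext u
    have hu : u • (((1 : G) : G ⧸ C)) = (((u : G) * 1 : G) : G ⧸ C) := rfl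
    rw [MulAction.mem_stabilizer_iff, Subgroup.mem_subgroupOf, hu, mul_one, eq_comm,
      QuotientGroup.eq, inv_one, one_mul]
  haveI : Fintype (P : Subgroup G) := Fintype.ofFinite _
  haveI : Fintype (MulAction.orbit (P : Subgroup G) (((1 : G) : G ⧸ C))) := Fintype.ofFinite _
  haveI : Fintype (MulAction.stabilizer (P : Subgroup G) (((1 : G) : G ⧸ C))) :=
    Fintype.ofFinite _
  have hos := MulAction.card_orbit_mul_card_stabilizer_eq_card_group (P : Subgroup G)
    (((1 : G) : G ⧸ C))
  simp only [← Nat.card_eq_fintype_card] at hos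
  rw [hstab] at hos
  have h4 := Subgroup.index_mul_card (C.subgroupOf (P : Subgroup G))
  have h5 : Nat.card (MulAction.orbit (P : Subgroup G) (((1 : G) : G ⧸ C))) = Nat.card (G ⧸ C) := by
    have h6 : Nat.card (MulAction.orbit (P : Subgroup G) (((1 : G) : G ⧸ C))) =
        (C.subgroupOf (P : Subgroup G)).index :=
      Nat.eq_of_mul_eq_mul_right Nat.card_pos (hos.trans h4.symm)
    rw [h6, ← Subgroup.index_eq_card, ← h3]
    rfl
  have h7 : MulAction.orbit (P : Subgroup G) (((1 : G) : G ⧸ C)) = Set.univ := by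
    apply Set.eq_univ_of_forall
    by_contra hne
    push_neg at hne
    obtain ⟨q, hq⟩ := hne
    have hlt : (MulAction.orbit (P : Subgroup G) (((1 : G) : G ⧸ C))).ncard <
        (Set.univ : Set (G ⧸ C)).ncard := by
      apply Set.ncard_lt_ncard _ (Set.toFinite _)
      exact ⟨Set.subset_univ _, fun h => hq (h (Set.mem_univ q))⟩
    rw [Set.ncard_univ, ← Nat.card_coe_set_eq, h5] at hlt
    exact lt_irrefl _ hlt
  have h8 : ((g : G) : G ⧸ C) ∈ MulAction.orbit (P : Subgroup G) (((1 : G) : G ⧸ C)) := by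
    rw [h7]; exact Set.mem_univ _
  obtain ⟨u, hu⟩ := h8
  have hu' : (((u : G) * 1 : G) : G ⧸ C) = ((g : G) : G ⧸ C) := hu
  rw [mul_one, QuotientGroup.eq] at hu'
  refine ⟨u, u.2, ?_⟩
  rw [hC, Subgroup.mem_centralizer_iff] at hu'
  have h9 := hu' x rfl
  -- x * (u⁻¹ g) = (u⁻¹ g) * x
  calc g * x * g⁻¹ = u * ((u : G)⁻¹ * g * x) * g⁻¹ := by group
    _ = u * (x * ((u : G)⁻¹ * g)) * g⁻¹ := by rw [← h9]
    _ = u * x * (u : G)⁻¹ := by group


/-- The lower-central-series argument: a `p`-subgroup `U` with `[U, Z] = U`, generated by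
elements whose centralizers have `p`-power index, is trivial. -/
theorem eq_bot_of_commutator_eq {G : Type*} [Group G] [Finite G] {p : ℕ} [hp : Fact p.Prime]
    (S : Set G) (hS : ∀ x ∈ S, ∃ a : ℕ, (Subgroup.centralizer ({x} : Set G)).index = p ^ a)
    (U : Subgroup G) (hU : IsPGroup p U) (Z : Subgroup G) (hcomm : ⁅U, Z⁆ = U)
    (hgen : U ≤ Subgroup.closure {x | x ∈ U ∧ x ∈ S}) : U = ⊥ := by
  obtain ⟨P, hUP⟩ := hU.exists_le_sylow
  obtain ⟨Γ, hΓ⟩ : ∃ Γ : ℕ → Subgroup G, Γ = (P : Subgroup G).lowerCentralSeries := ⟨_, rfl⟩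
  have hΓ0 : Γ 0 = P := by rw [hΓ]; rfl
  have hΓsucc : ∀ i, Γ (i + 1) = ⁅Γ i, (P : Subgroup G)⁆ := by
    intro i; rw [hΓ]; rfl
  have hΓconj : ∀ i, ∀ a ∈ (P : Subgroup G), ∀ w ∈ Γ i, a * w * a⁻¹ ∈ Γ i := by
    intro i a ha w hw
    have h1 := (P : Subgroup G).self_le_normalizer_lowerCentralSeries i ha
    rw [← hΓ] at h1
    exact (Subgroup.mem_normalizer_iff.mp h1 w).mp hw
  have key : ∀ i, U ≤ Γ i := by
    intro i
    induction i with
    | zero => rw [hΓ0]; exact hUP
    | succ i ih =>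
      have h1 : ⁅Z, U⁆ ≤ Γ (i + 1) := by
        rw [Subgroup.commutator_le]
        intro z hz u hu
        have h2 : ∀ v ∈ Subgroup.closure {x | x ∈ U ∧ x ∈ S},
            v ∈ (P : Subgroup G) ∧ ⁅z, v⁆ ∈ Γ (i + 1) := by
          intro v hv
          induction hv using Subgroup.closure_induction with
          | mem x hx =>
            obtain ⟨hxU, hxS⟩ := hx
            refine ⟨hUP hxU, ?_⟩
            obtain ⟨a, ha⟩ := hS x hxS
            obtain ⟨w, hwP, hw⟩ := conj_eq_sylow_conj P x a ha z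
            have h3 : ⁅z, x⁆ = ⁅w, x⁆ := by
              rw [commutatorElement_def, commutatorElement_def, hw]
            rw [h3, hΓsucc, Subgroup.commutator_comm]
            exact Subgroup.commutator_mem_commutator hwP (ih hxU)
          | one =>
            refine ⟨Subgroup.one_mem _, ?_⟩
            rw [commutatorElement_def]
            simp
          | mul a b _ _ iha ihb =>
            refine ⟨Subgroup.mul_mem _ iha.1 ihb.1, ?_⟩
            have h3 : ⁅z, a * b⁆ = ⁅z, a⁆ * (a * ⁅z, b⁆ * a⁻¹) := by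
              simp only [commutatorElement_def]; group
            rw [h3]
            exact Subgroup.mul_mem _ iha.2 (hΓconj _ a iha.1 _ ihb.2)
          | inv a _ iha =>
            refine ⟨Subgroup.inv_mem _ iha.1, ?_⟩
            have h3 : ⁅z, a⁻¹⁆ = a⁻¹ * (⁅z, a⁆)⁻¹ * (a⁻¹)⁻¹ := by
              simp only [commutatorElement_def]; group
            rw [h3]
            exact hΓconj _ a⁻¹ (Subgroup.inv_mem _ iha.1) _ (Subgroup.inv_mem _ iha.2)
        exact (h2 u (hgen hu)).2
      rw [Subgroup.commutator_comm] at h1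
      rw [hcomm] at h1
      exact h1
  haveI : Group.IsNilpotent ↥(P : Subgroup G) := P.isPGroup'.isNilpotent
  obtain ⟨c, hc⟩ := (Subgroup.isNilpotent_iff_lowerCentralSeries (P : Subgroup G)).mp
    (inferInstance : Group.IsNilpotent ↥(P : Subgroup G))
  have h1 := key c
  rw [hΓ, hc] at h1
  exact eq_bot_iff.mpr h1


theorem orderOf_conj'' {G : Type*} [Group G] (g x : G) : orderOf (g * x * g⁻¹) = orderOf x := by
  have : g * x * g⁻¹ = MulAut.conj g x := by simp [MulAut.conj_apply]
  rw [this, MulEquiv.orderOf_eq]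

/-- Conjugation by `g` maps `closure T` into itself when it maps `T` into itself. -/
theorem conj_mem_closure {G : Type*} [Group G] {T : Set G} (g : G)
    (h : ∀ x ∈ T, g * x * g⁻¹ ∈ T) : ∀ w ∈ Subgroup.closure T, g * w * g⁻¹ ∈ Subgroup.closure T := by
  intro w hw
  induction hw using Subgroup.closure_induction with
  | mem x hx => exact Subgroup.subset_closure (h x hx)
  | one => simp
  | mul a b _ _ iha ihb =>
    have : g * (a * b) * g⁻¹ = (g * a * g⁻¹) * (g * b * g⁻¹) := by group
    rw [this]; exact Subgroup.mul_mem _ iha ihb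
  | inv a _ iha =>
    have : g * a⁻¹ * g⁻¹ = (g * a * g⁻¹)⁻¹ := by group
    rw [this]; exact Subgroup.inv_mem _ iha

open Cfsg.Agent.Lib.H15 in
/-- The hypothesis of the statement implies the Frobenius hypothesis. -/
theorem frobHyp_of_hyp {G : Type*} [Group G] [Finite G] (p : ℕ) [hp : Fact p.Prime]
    (h : ∀ x : G, (orderOf x = p ∨ (p = 2 ∧ orderOf x = 4)) →
      ∃ a : ℕ, (Subgroup.centralizer ({x} : Set G)).index = p ^ a) :
    Cfsg.Agent.Lib.L0.FrobHyp p G := by
  intro Q hQ y hyN hycop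
  suffices H : ∀ (n : ℕ) (U : Subgroup G), Nat.card U = n → IsPGroup p U →
      y ∈ Subgroup.normalizer (U : Set G) → ∀ x ∈ U, y * x = x * y by
    rw [Subgroup.mem_centralizer_iff]
    intro x hx
    exact (H _ Q rfl hQ hyN x hx).symm
  intro n
  induction n using Nat.strong_induction_on with
  | _ n ih =>
  intro U hn hU hyU
  by_contra hcon
  push_neg at hcon
  obtain ⟨Z, hZ⟩ : ∃ Z : Subgroup G, Z = Subgroup.zpowers y := ⟨_, rfl⟩
  have hZN : Z ≤ Subgroup.normalizer (U : Set G) := by
    rw [hZ, Subgroup.zpowers_le]; exact hyU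
  have hA : Cfsg.Agent.Lib.H1.CoprimeAction Z U := by
    refine ⟨hZN, ?_, Or.inr ?_⟩
    · rw [hZ, Nat.card_zpowers]
      obtain ⟨k, hk⟩ := IsPGroup.iff_card.mp hU
      rw [hk]; exact Nat.Coprime.pow_right k hycop
    · haveI : Group.IsNilpotent ↥U := hU.isNilpotent
      infer_instance
  have hprop : ∀ V : Subgroup G, V ≤ U → V ≠ U → y ∈ Subgroup.normalizer (V : Set G) →
      ∀ x ∈ V, y * x = x * y := by
    intro V hV hne hyV
    have hlt : Nat.card V < n := by
      rw [← hn]
      by_contra hlt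
      push_neg at hlt
      exact hne (Subgroup.eq_of_le_of_card_ge hV hlt)
    exact ih (Nat.card V) hlt V rfl (hU.to_le hV) hyV
  -- `[U, Z] = U`
  have hC1 : ⁅U, Z⁆ = U := by
    by_contra hne
    have hle : ⁅U, Z⁆ ≤ U := hA.commutator_le
    have hy1 : y ∈ Subgroup.normalizer ((⁅U, Z⁆ : Subgroup G) : Set G) :=
      Subgroup.normalizer_commutator_ge_right U Z (by rw [hZ]; exact Subgroup.mem_zpowers y)
    have hc := hprop _ hle hne hy1
    have h1 : ⁅⁅U, Z⁆, Z⁆ = ⊥ := by
      rw [Subgroup.commutator_eq_bot_iff_le_centralizer, hZ, le_centralizer_zpowers_iff]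
      rw [hZ] at hc
      exact hc
    have h2 := Cfsg.Agent.Lib.H1.coprime_commutator_commutator hA
    rw [h1] at h2
    have h3 : U ≤ Subgroup.centralizer ((Z : Subgroup G) : Set G) :=
      Subgroup.commutator_eq_bot_iff_le_centralizer.mp h2.symm
    rw [hZ] at h3
    obtain ⟨x, hx, hxy⟩ := hcon
    exact hxy (le_centralizer_zpowers_iff.mp h3 x hx)
  -- `U` is generated by its elements of order `p` (or `4`)
  have hC2 : U ≤ Subgroup.closure {x | x ∈ U ∧
      x ∈ {x : G | orderOf x = p ∨ (p = 2 ∧ orderOf x = 4)}} := by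
    by_contra hne
    obtain ⟨T, hT⟩ : ∃ T : Set G, T = {x | x ∈ U ∧
      x ∈ {x : G | orderOf x = p ∨ (p = 2 ∧ orderOf x = 4)}} := ⟨_, rfl⟩
    rw [← hT] at hne
    have hΩU : Subgroup.closure T ≤ U := by
      rw [Subgroup.closure_le, hT]
      intro x hx
      exact hx.1
    have hΩne : Subgroup.closure T ≠ U := fun h => hne (h ▸ le_rfl)
    have hTconj : ∀ g : G, g ∈ Subgroup.normalizer (U : Set G) → ∀ x ∈ T, g * x * g⁻¹ ∈ T := by
      intro g hg x hx
      rw [hT] at hx ⊢
      refine ⟨(Subgroup.mem_normalizer_iff.mp hg x).mp hx.1, ?_⟩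
      have := hx.2
      simp only [Set.mem_setOf_eq] at this ⊢
      rw [orderOf_conj'']
      exact this
    have hyΩ : y ∈ Subgroup.normalizer ((Subgroup.closure T : Subgroup G) : Set G) := by
      rw [Subgroup.mem_normalizer_iff]
      intro w
      constructor
      · exact conj_mem_closure y (hTconj y hyU) w
      · intro hw
        have := conj_mem_closure y⁻¹ (hTconj y⁻¹ (Subgroup.inv_mem _ hyU)) _ hw
        have h2 : y⁻¹ * (y * w * y⁻¹) * y⁻¹⁻¹ = w := by group
        rwa [h2] at this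
    have hc := hprop _ hΩU hΩne hyΩ
    have hall := Cfsg.Agent.Lib.H20.commute_of_commute_small hycop hU hyU
      (fun x hx hX => hc x (Subgroup.subset_closure (by rw [hT]; exact ⟨hx, hX⟩)))
    obtain ⟨x, hx, hxy⟩ := hcon
    exact hxy (hall x hx)
  have hbot := eq_bot_of_commutator_eq {x : G | orderOf x = p ∨ (p = 2 ∧ orderOf x = 4)}
    (fun x hx => h x hx) U hU Z hC1 hC2
  obtain ⟨x, hx, hxy⟩ := hcon
  rw [hbot, Subgroup.mem_bot] at hx
  rw [hx] at hxy
  simp at hxy

/-- Let G be a finite group and p a prime. Suppose every element of order p, and when p = 2 also every element of order 4, has a conjugacy class of p-power size. Then G has a normal p-complement. -/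
theorem result {G : Type*} [Group G] [Finite G] (p : ℕ) [Fact p.Prime]
    (h : ∀ x : G, (orderOf x = p ∨ (p = 2 ∧ orderOf x = 4)) → ∃ a : ℕ, (Subgroup.centralizer ({x} : Set G)).index = p ^ a) :
    Cfsg.HasNormalPComplement p G :=
  Cfsg.Agent.Lib.L0.hasNormalPComplement_of_frobHyp (frobHyp_of_hyp p h)

end Cfsg.Agent.S4126
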