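import Mathlib
import Cfsg.Prelude.Def_Transfer
import Cfsg.Agent.Lib.H20.ConjCover
import Cfsg.Agent.Lib.H7.Coprime
import Cfsg.Agent.Lib.H8.Nilpotent

set_option autoImplicit false
open Cfsg
open scoped Pointwise

namespace Cfsg.Agent.S4127

/-- Camina's lemma: if every `p'`-element of a finite group `C` has class size prime to `p`, then
`C` has a normal Sylow `p`-subgroup centralized by every `p'`-element. -/
theorem camina {C : Type*} [Group C] [Finite C] (p : ℕ) [hp : Fact p.Prime]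
    (h : ∀ y : C, (orderOf y).Coprime p → ¬ p ∣ (Subgroup.centralizer ({y} : Set C)).index) :
    ∃ P₀ : Sylow p C, (P₀ : Subgroup C).Normal ∧
      ∀ u ∈ (P₀ : Subgroup C), ∀ y : C, (orderOf y).Coprime p → y * u = u * y := by
  classical
  -- a Sylow subgroup inside the centralizer of a p'-element, containing a given p-element
  have hkey : ∀ (c₁ c₂ : C), (∃ k : ℕ, c₁ ^ (p ^ k) = 1) → (orderOf c₂).Coprime p →
      c₁ * c₂ = c₂ * c₁ → ∃ S : Sylow p C, c₁ ∈ (S : Subgroup C) ∧
        (S : Subgroup C) ≤ Subgroup.centralizer ({c₂} : Set C) := by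
    intro c₁ c₂ hc₁ hc₂ hcomm
    obtain ⟨K, hK⟩ : ∃ K, K = Subgroup.centralizer ({c₂} : Set C) := ⟨_, rfl⟩
    have hKidx : ¬ p ∣ K.index := hK ▸ h c₂ hc₂
    have hc₁K : c₁ ∈ K := by
      rw [hK, Subgroup.mem_centralizer_iff]
      intro z hz
      rw [Set.mem_singleton_iff] at hz
      rw [hz]; exact hcomm.symm
    have hpg : IsPGroup p (Subgroup.zpowers (⟨c₁, hc₁K⟩ : K)) := by
      obtain ⟨k, hk⟩ := hc₁
      apply IsPGroup.of_card (n := (Nat.dvd_prime_pow hp.out).mp
        (orderOf_dvd_of_pow_eq_one hk) |>.choose)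
      rw [Nat.card_zpowers, Subgroup.orderOf_mk]
      exact ((Nat.dvd_prime_pow hp.out).mp (orderOf_dvd_of_pow_eq_one hk)).choose_spec.2
    obtain ⟨SK, hSK⟩ := hpg.exists_le_sylow
    have hfac : (Nat.card C).factorization p = (Nat.card K).factorization p := by
      rw [← Subgroup.card_mul_index K, Nat.factorization_mul Nat.card_pos.ne'
        Subgroup.index_ne_zero_of_finite, Finsupp.add_apply,
        Nat.factorization_eq_zero_of_not_dvd hKidx, add_zero]
    have hcard : Nat.card ((SK : Subgroup K).map K.subtype) = p ^ (Nat.card C).factorization p := by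
      rw [Subgroup.card_map_of_injective K.subtype_injective, hfac]
      exact SK.card_eq_multiplicity
    refine ⟨Sylow.ofCard _ hcard, ?_, ?_⟩
    · rw [Sylow.coe_ofCard]
      exact ⟨⟨c₁, hc₁K⟩, hSK (Subgroup.mem_zpowers _), rfl⟩
    · rw [Sylow.coe_ofCard, ← hK]
      exact Subgroup.map_subtype_le _
  obtain ⟨P₀⟩ : Nonempty (Sylow p C) := inferInstance
  -- every element normalizes some Sylow subgroup
  have hnorm : ∀ g : C, ∃ S : Sylow p C, g ∈ Subgroup.normalizer ((S : Subgroup C) : Set C) := by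
    intro g
    obtain ⟨c₁, c₂, hc₁, hc₂, hdec, hc₁p, hc₂p⟩ :=
      Cfsg.Agent.Lib.H8.exists_p_decomp g (orderOf_pos g).ne' p hp.out
    have hcomm : c₁ * c₂ = c₂ * c₁ := by
      obtain ⟨i, rfl⟩ := Subgroup.mem_zpowers_iff.mp hc₁
      obtain ⟨j, rfl⟩ := Subgroup.mem_zpowers_iff.mp hc₂
      rw [← zpow_add, ← zpow_add, add_comm]
    obtain ⟨S, hS1, hS2⟩ := hkey c₁ c₂ hc₁p hc₂p hcomm
    refine ⟨S, ?_⟩
    rw [hdec]
    exact Subgroup.mul_mem _ (Subgroup.le_normalizer hS1)
      (Subgroup.centralizer_le_normalizer _ (by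
        rw [Subgroup.mem_centralizer_iff]
        intro s hs
        have := hS2 hs
        rw [Subgroup.mem_centralizer_iff] at this
        exact (this c₂ rfl).symm))
  -- the normalizer of P₀ is everything
  have hN : Subgroup.normalizer ((P₀ : Subgroup C) : Set C) = ⊤ := by
    by_contra hne
    obtain ⟨g, hg⟩ := Cfsg.Agent.Lib.H20.exists_not_mem_conj _ hne
    obtain ⟨S, hS⟩ := hnorm g
    obtain ⟨c, hc⟩ := MulAction.exists_smul_eq C P₀ S
    apply hg c
    rw [Subgroup.mem_pointwise_smul_iff_inv_smul_mem]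
    have e : (MulAut.conj c)⁻¹ • g = c⁻¹ * g * c := by
      rw [← map_inv, MulAut.smul_def, MulAut.conj_apply, inv_inv]
    rw [e, Subgroup.mem_normalizer_iff]
    intro y
    have hSc : ∀ z : C, z ∈ (S : Subgroup C) ↔ c⁻¹ * z * c ∈ (P₀ : Subgroup C) := by
      intro z
      rw [← hc]
      show z ∈ MulAut.conj c • (P₀ : Subgroup C) ↔ _
      rw [Subgroup.mem_pointwise_smul_iff_inv_smul_mem, ← map_inv, MulAut.smul_def,
        MulAut.conj_apply, inv_inv]
    have h1 := Subgroup.mem_normalizer_iff.mp hS (c * y * c⁻¹)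
    rw [hSc, hSc] at h1
    have e1 : c⁻¹ * (c * y * c⁻¹) * c = y := by group
    have e2 : c⁻¹ * (g * (c * y * c⁻¹) * g⁻¹) * c = c⁻¹ * g * c * y * (c⁻¹ * g * c)⁻¹ := by group
    rw [e1, e2] at h1
    exact h1
  have hP₀n : (P₀ : Subgroup C).Normal := Subgroup.normalizer_eq_top_iff.mp hN
  refine ⟨P₀, hP₀n, ?_⟩
  intro u hu y hy
  obtain ⟨S, -, hS2⟩ := hkey 1 y ⟨0, by simp⟩ hy (by simp)
  have hSP : S = P₀ := by
    obtain ⟨c, hc⟩ := MulAction.exists_smul_eq C P₀ S
    rw [← hc]
    have hcN : c ∈ Subgroup.normalizer ((P₀ : Subgroup C) : Set C) := by rw [hN]; trivial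
    exact Sylow.smul_eq_iff_mem_normalizer.mpr hcN
  rw [hSP] at hS2
  have := hS2 hu
  rw [Subgroup.mem_centralizer_iff] at this
  exact this y rfl

/-- commuting elements of coprime orders: the centralizer of the product -/
theorem centralizer_mul_of_coprime {G : Type*} [Group G] {x y : G} (hxy : Commute x y)
    (hx : orderOf x ≠ 0) (hcop : (orderOf x).Coprime (orderOf y)) :
    Subgroup.centralizer ({x * y} : Set G) =
      Subgroup.centralizer ({x} : Set G) ⊓ Subgroup.centralizer ({y} : Set G) := by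
  apply le_antisymm
  · intro g hg
    rw [Subgroup.mem_centralizer_iff] at hg
    have hg' : Commute (x * y) g := hg (x * y) rfl
    -- x and y are powers of x * y
    obtain ⟨n, hn1, hn0⟩ := Nat.chineseRemainder hcop 1 0
    have hpow : (x * y) ^ n = x := by
      rw [hxy.mul_pow]
      have h1 : x ^ n = x ^ 1 := pow_eq_pow_iff_modEq.mpr hn1
      have h2 : y ^ n = y ^ 0 := pow_eq_pow_iff_modEq.mpr hn0
      rw [h1, h2, pow_one, pow_zero, mul_one]
    have hxg : Commute x g := by rw [← hpow]; exact hg'.pow_left n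
    have hyg : Commute y g := by
      have : y = x⁻¹ * (x * y) := by group
      rw [this]
      exact (hxg.inv_left).mul_left hg'
    refine Subgroup.mem_inf.mpr ⟨?_, ?_⟩
    · rw [Subgroup.mem_centralizer_iff]
      intro z hz
      rw [Set.mem_singleton_iff] at hz
      rw [hz]; exact hxg.eq
    · rw [Subgroup.mem_centralizer_iff]
      intro z hz
      rw [Set.mem_singleton_iff] at hz
      rw [hz]; exact hyg.eq
  · intro g hg
    obtain ⟨h1, h2⟩ := Subgroup.mem_inf.mp hg
    rw [Subgroup.mem_centralizer_iff] at h1 h2 ⊢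
    intro z hz
    rw [Set.mem_singleton_iff] at hz
    rw [hz]
    have e1 : x * g = g * x := h1 x rfl
    have e2 : y * g = g * y := h2 y rfl
    rw [mul_assoc, e2, ← mul_assoc, e1, mul_assoc]

theorem result {G : Type*} [Group G] [Finite G] (p : ℕ) [Fact p.Prime]
    (a : ℕ) (hmax : ∀ y : G, ¬ p ^ (a + 1) ∣ (Subgroup.centralizer ({y} : Set G)).index)
    (hx : ∃ x : G, (∃ k : ℕ, orderOf x = p ^ k) ∧ (Subgroup.centralizer ({x} : Set G)).index = p ^ a) :
    Cfsg.HasNormalPComplement p G := by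
  classical
  have hp : p.Prime := Fact.out
  obtain ⟨x, ⟨k, hk⟩, hidx⟩ := hx
  obtain ⟨C, hC⟩ : ∃ C : Subgroup G, C = Subgroup.centralizer ({x} : Set G) := ⟨_, rfl⟩
  rw [← hC] at hidx
  have hCmem : ∀ g : G, g ∈ C ↔ x * g = g * x := by
    intro g
    rw [hC, Subgroup.mem_centralizer_iff]
    constructor
    · intro h; exact h x rfl
    · intro h z hz
      rw [Set.mem_singleton_iff] at hz
      rw [hz]; exact h
  -- p'-elements of C have p'-index in C
  have hα : ∀ y : C, (orderOf y).Coprime p →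
      ¬ p ∣ (Subgroup.centralizer ({y} : Set C)).index := by
    intro y hy hd
    have hyo : (orderOf (y : G)).Coprime p := by rw [Subgroup.orderOf_coe]; exact hy
    have hxy : Commute x (y : G) := (hCmem y).mp y.2
    have hcop : (orderOf x).Coprime (orderOf (y : G)) := by
      rw [hk]; exact (Nat.Coprime.pow_right k hyo).symm
    have h1 := centralizer_mul_of_coprime hxy (orderOf_pos x).ne' hcop
    rw [← hC] at h1
    have h2 : (C ⊓ Subgroup.centralizer ({(y : G)} : Set G)).subgroupOf C =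
        Subgroup.centralizer ({y} : Set C) := by
      ext g
      rw [Subgroup.mem_subgroupOf, Subgroup.mem_inf, Subgroup.mem_centralizer_iff,
        Subgroup.mem_centralizer_iff]
      constructor
      · rintro ⟨-, h⟩ z hz
        rw [Set.mem_singleton_iff] at hz
        rw [hz]
        exact Subtype.ext (h (y : G) rfl)
      · intro h
        refine ⟨g.2, fun z hz => ?_⟩
        rw [Set.mem_singleton_iff] at hz
        rw [hz]
        exact congrArg Subtype.val (h y rfl)
    have h3 := Subgroup.relIndex_mul_index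
      (inf_le_left : C ⊓ Subgroup.centralizer ({(y : G)} : Set G) ≤ C)
    rw [Subgroup.relIndex, h2, hidx, ← h1] at h3
    apply hmax (x * (y : G))
    rw [← h3, pow_succ, mul_comm]
    exact Nat.mul_dvd_mul_right hd _
  obtain ⟨P₀, hP₀n, hP₀c⟩ := camina p hα
  obtain ⟨H₀', hcompl₀⟩ := Subgroup.exists_right_complement'_of_coprime P₀.card_coprime_index
  have hH₀'cop : (Nat.card H₀').Coprime p := by
    rw [← hcompl₀.symm.index_eq_card]
    exact ((Nat.Prime.coprime_iff_not_dvd hp).mpr P₀.not_dvd_index).symm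
  -- elements of H₀' are p'-elements
  have hH₀'ord : ∀ h ∈ H₀', (orderOf h).Coprime p := by
    intro h hh
    have : orderOf h ∣ Nat.card H₀' := by
      have := orderOf_dvd_natCard (⟨h, hh⟩ : H₀')
      rwa [Subgroup.orderOf_mk] at this
    exact Nat.Coprime.coprime_dvd_left this hH₀'cop
  -- p-elements of C lie in P₀
  have hP₀all : ∀ w : C, (∃ j : ℕ, w ^ (p ^ j) = 1) → w ∈ (P₀ : Subgroup C) := by
    rintro w ⟨j, hj⟩
    have hpg : IsPGroup p (Subgroup.zpowers w) := by
      obtain ⟨i, -, hi⟩ := (Nat.dvd_prime_pow hp).mp (orderOf_dvd_of_pow_eq_one hj)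
      apply IsPGroup.of_card (n := i)
      rw [Nat.card_zpowers, hi]
    obtain ⟨S, hS⟩ := hpg.exists_le_sylow
    have hSP : S = P₀ := by
      obtain ⟨c, hc⟩ := MulAction.exists_smul_eq C P₀ S
      rw [← hc]
      have hcN : c ∈ Subgroup.normalizer ((P₀ : Subgroup C) : Set C) := by
        rw [Subgroup.normalizer_eq_top_iff.mpr hP₀n]; trivial
      exact Sylow.smul_eq_iff_mem_normalizer.mpr hcN
    rw [← hSP]
    exact hS (Subgroup.mem_zpowers w)
  -- p'-elements of C lie in H₀'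
  have hH₀'all : ∀ c : C, (orderOf c).Coprime p → c ∈ H₀' := by
    intro c hc
    obtain ⟨⟨⟨u, hu⟩, ⟨h, hh⟩⟩, huh⟩ := hcompl₀.2 c
    have huh' : u * h = c := huh
    have hcomm : Commute u h := (hP₀c u hu h (hH₀'ord h hh)).symm
    have h1 : u ^ orderOf c * h ^ orderOf c = 1 := by
      rw [← hcomm.mul_pow, huh', pow_orderOf_eq_one]
    have h2 : u ^ orderOf c ∈ (P₀ : Subgroup C) ⊓ H₀' := by
      refine Subgroup.mem_inf.mpr ⟨Subgroup.pow_mem _ hu _, ?_⟩
      have : u ^ orderOf c = (h ^ orderOf c)⁻¹ := eq_inv_of_mul_eq_one_left h1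
      rw [this]
      exact H₀'.inv_mem (H₀'.pow_mem hh _)
    rw [hcompl₀.disjoint.eq_bot, Subgroup.mem_bot] at h2
    have h3 : orderOf u ∣ orderOf c := orderOf_dvd_of_pow_eq_one h2
    obtain ⟨j, hj⟩ := (IsPGroup.iff_orderOf.mp P₀.2) ⟨u, hu⟩
    rw [Subgroup.orderOf_mk] at hj
    have h4 : orderOf u = 1 := by
      have : (orderOf u).Coprime (orderOf u) :=
        Nat.Coprime.coprime_dvd_left h3 (by rw [hj]; exact Nat.Coprime.pow_right j hc)
      exact (Nat.coprime_self _).mp this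
    rw [orderOf_eq_one_iff.mp h4, one_mul] at huh'
    rw [← huh']; exact hh
  -- the Hall subgroup in G
  obtain ⟨H₀, hH₀⟩ : ∃ H₀ : Subgroup G, H₀ = H₀'.map C.subtype := ⟨_, rfl⟩
  have hH₀C : H₀ ≤ C := hH₀ ▸ Subgroup.map_subtype_le _
  have hH₀mem : ∀ h : G, h ∈ H₀ ↔ ∃ hc : h ∈ C, (⟨h, hc⟩ : C) ∈ H₀' := by
    intro h
    rw [hH₀]
    constructor
    · rintro ⟨h', hh', rfl⟩
      exact ⟨h'.2, hh'⟩
    · rintro ⟨hc, hh⟩
      exact ⟨⟨h, hc⟩, hh, rfl⟩
  have hH₀card : Nat.card H₀ = Nat.card H₀' := by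
    rw [hH₀]; exact Subgroup.card_map_of_injective C.subtype_injective
  have hH₀cop : (Nat.card H₀).Coprime p := hH₀card ▸ hH₀'cop
  -- a Sylow subgroup of G containing x
  have hxpg : IsPGroup p (Subgroup.zpowers x) := by
    apply IsPGroup.of_card (n := k)
    rw [Nat.card_zpowers, hk]
  obtain ⟨P, hxP⟩ := hxpg.exists_le_sylow
  have hxP' : x ∈ (P : Subgroup G) := hxP (Subgroup.mem_zpowers x)
  -- cardinalities
  have hcardG : Nat.card (P : Subgroup G) * Nat.card H₀ = Nat.card G := by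
    obtain ⟨e, he⟩ := IsPGroup.iff_card.mp P₀.2
    have h1 : Nat.card G = p ^ (e + a) * Nat.card H₀ := by
      rw [← Subgroup.card_mul_index C, hidx, ← hcompl₀.card_mul_card, he, hH₀card, pow_add]
      ring
    have h2 : (Nat.card G).factorization p = e + a := by
      rw [h1, Nat.factorization_mul (pow_ne_zero _ hp.ne_zero) Nat.card_pos.ne',
        Finsupp.add_apply, Nat.factorization_eq_zero_of_not_dvd
          ((Nat.Prime.coprime_iff_not_dvd hp).mp hH₀cop.symm), add_zero,
        hp.factorization_pow, Finsupp.single_eq_same]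
    rw [P.card_eq_multiplicity, h2, h1]
  have hcompl : (P : Subgroup G).IsComplement' H₀ := by
    apply Subgroup.isComplement'_of_coprime hcardG
    obtain ⟨e, he⟩ := IsPGroup.iff_card.mp P.2
    rw [he]
    exact (Nat.Coprime.pow_right e hH₀cop).symm
  -- conjugates of x lie in P
  have hconjP : ∀ g : G, g * x * g⁻¹ ∈ (P : Subgroup G) := by
    intro g
    obtain ⟨⟨⟨u, hu⟩, ⟨h, hh⟩⟩, huh⟩ := hcompl.2 g
    have huh' : u * h = g := huh
    have hhx : x * h = h * x := (hCmem h).mp (hH₀C hh)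
    have : g * x * g⁻¹ = u * x * u⁻¹ := by
      rw [← huh']
      calc u * h * x * (u * h)⁻¹ = u * (h * x) * h⁻¹ * u⁻¹ := by group
        _ = u * (x * h) * h⁻¹ * u⁻¹ := by rw [hhx]
        _ = u * x * u⁻¹ := by group
    rw [this]
    exact Subgroup.mul_mem _ (Subgroup.mul_mem _ hu hxP') (Subgroup.inv_mem _ hu)
  obtain ⟨N, hNdef⟩ : ∃ N : Subgroup G, N = Subgroup.normalClosure ({x} : Set G) := ⟨_, rfl⟩
  have hNn : N.Normal := by rw [hNdef]; infer_instance
  have hxN : x ∈ N := by rw [hNdef]; exact Subgroup.subset_normalClosure rfl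
  have hNP : N ≤ (P : Subgroup G) := by
    rw [hNdef, Subgroup.normalClosure, Subgroup.closure_le]
    intro z hz
    rw [Group.mem_conjugatesOfSet_iff] at hz
    obtain ⟨b, hb, hbz⟩ := hz
    rw [Set.mem_singleton_iff] at hb
    rw [hb, isConj_iff] at hbz
    obtain ⟨c, rfl⟩ := hbz
    exact hconjP c
  have hNp : IsPGroup p N := P.2.to_le hNP
  -- Thompson A × B
  have hH₀x : H₀ ≤ Subgroup.centralizer ((Subgroup.zpowers x : Subgroup G) : Set G) := by
    intro h hh
    rw [Subgroup.mem_centralizer_iff]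
    intro z hz
    obtain ⟨i, rfl⟩ := Subgroup.mem_zpowers_iff.mp hz
    have hhx : Commute x h := (hCmem h).mp (hH₀C hh)
    exact (hhx.zpow_left i).eq
  have hAB : ⁅H₀, Subgroup.zpowers x⁆ = ⊥ :=
    Subgroup.commutator_eq_bot_iff_le_centralizer.mpr hH₀x
  have hnormN : ∀ K : Subgroup G, K ≤ Subgroup.normalizer (N : Set G) := by
    intro K
    rw [Subgroup.normalizer_eq_top_iff.mpr hNn]; exact le_top
  have hCc : ⁅H₀, N ⊓ Subgroup.centralizer ((Subgroup.zpowers x : Subgroup G) : Set G)⁆ = ⊥ := by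
    rw [Subgroup.commutator_eq_bot_iff_le_centralizer]
    intro h hh
    rw [Subgroup.mem_centralizer_iff]
    intro w hw
    obtain ⟨hw1, hw2⟩ := Subgroup.mem_inf.mp hw
    rw [Subgroup.mem_centralizer_iff] at hw2
    have hwC : w ∈ C := (hCmem w).mpr (hw2 x (Subgroup.mem_zpowers x))
    obtain ⟨hc, hh'⟩ := (hH₀mem h).mp hh
    have hwP₀ : (⟨w, hwC⟩ : C) ∈ (P₀ : Subgroup C) := by
      apply hP₀all
      obtain ⟨j, hj⟩ := hNp ⟨w, hw1⟩
      exact ⟨j, Subtype.ext (show w ^ (p ^ j) = 1 from congrArg Subtype.val hj)⟩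
    have := hP₀c _ hwP₀ ⟨h, hc⟩ (hH₀'ord _ hh')
    exact (congrArg Subtype.val this).symm
  have hHN : ⁅H₀, N⁆ = ⊥ :=
    Cfsg.Agent.Lib.H7.thompson_AxB' p hNp hxpg hH₀cop hAB (hnormN _) (hnormN _) hCc
  rw [Subgroup.commutator_eq_bot_iff_le_centralizer] at hHN
  -- H₀ is normal
  have hH₀n : H₀.Normal := by
    constructor
    intro h hh g
    have hD : g * h * g⁻¹ ∈ Subgroup.centralizer (N : Set G) :=
      (inferInstance : (Subgroup.centralizer (N : Set G)).Normal).conj_mem h (hHN hh) g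
    have hDC : g * h * g⁻¹ ∈ C := by
      rw [hCmem]
      rw [Subgroup.mem_centralizer_iff] at hD
      exact hD x hxN
    rw [hH₀mem]
    refine ⟨hDC, hH₀'all _ ?_⟩
    rw [← Subgroup.orderOf_coe]
    show (orderOf (g * h * g⁻¹)).Coprime p
    have hoc : orderOf (g * h * g⁻¹) = orderOf h := by
      rw [← MulAut.conj_apply]; exact MulEquiv.orderOf_eq _ _
    rw [hoc]
    obtain ⟨hc, hh'⟩ := (hH₀mem h).mp hh
    have := hH₀'ord _ hh'
    rwa [← Subgroup.orderOf_coe] at this
  exact ⟨P, H₀, hH₀n, hcompl.symm⟩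

end Cfsg.Agent.S4127
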