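-- Statement S4130 (fg7_square_free_class_sizes_structure).  Proof: tools/blueprints/S4130.md (lead), FT-free.
-- Pieces: A helper26, B helper5/helper4/helper1, C helper22/helper3, D/F helper29, E helper4/helper21, G helper16/helper22/helper3.
import Cfsg.Statements.S4130
import Cfsg.Agent.Lib.L0.SFDefs
import Cfsg.Agent.Lib.H3.SFC2
import Cfsg.Agent.Lib.H21.SFE4
import Cfsg.Agent.Lib.H3.SFG3
import Cfsg.Agent.Lib.H29.SFF2

set_option autoImplicit false
open Cfsg

namespace Cfsg.Agent.S4130

/-- Let G be a finite group all of whose conjugacy class sizes are square-free. Then G is supersolvable, G/F(G) and the derived subgroup G′ are cyclic of square-free order (F(G) the Fitting subgroup, which is normal), F(G) has nilpotency class at most 2, and G is metabelian. -/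
theorem result {G : Type*} [Group G] [Finite G]
    (h : ∀ x : G, Squarefree (Subgroup.centralizer ({x} : Set G)).index) :
    Cfsg.IsSupersolvable G ∧ (Cfsg.fittingSubgroup G).Normal ∧
    (∀ _h : (Cfsg.fittingSubgroup G).Normal, IsCyclic (G ⧸ Cfsg.fittingSubgroup G) ∧ Squarefree (Cfsg.fittingSubgroup G).index) ∧
    IsCyclic (commutator G) ∧ Squarefree (Nat.card (commutator G)) ∧
    Subgroup.upperCentralSeries ↥(Cfsg.fittingSubgroup G) 2 = ⊤ ∧ commutator ↥(commutator G) = ⊥ := by
  have hS : Cfsg.Agent.Lib.L0.SF.SFClass G := h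
  have hc := Cfsg.Agent.Lib.H3.SF.SFClass.commutator_isCyclic hS
  refine ⟨Cfsg.Agent.Lib.H3.SF.SFClass.isSupersolvable hS, Subgroup.sSup_normal _ (fun _ hH => hH.1),
    fun hn => Cfsg.Agent.Lib.H21.SF.SFClass.quotient_fittingSubgroup hS hn, hc.1, hc.2,
    Cfsg.Agent.Lib.H29.SF.SFClass.upperCentralSeries_fittingSubgroup hS, ?_⟩
  have hcyc := hc.1
  have key : ∀ x y : ↥(commutator G), x * y = y * x := fun x y => IsCyclic.commGroup.mul_comm x y
  rw [commutator_eq_bot_iff_center_eq_top, eq_top_iff]
  intro x _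
  rw [Subgroup.mem_center_iff]
  intro y
  exact key y x

end Cfsg.Agent.S4130
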