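import Cfsg.Statements.S4134
import Mathlib
import Cfsg.Agent.Lib.H21.Ito3

set_option autoImplicit false
open Cfsg

namespace Cfsg.Agent.S4134

open Cfsg.Agent.Lib.H21.Ito Subgroup in
/-- Let G be a finite group whose conjugacy classes have exactly two sizes, 1 and n > 1. Then n is a power of a prime p and G is the direct product of a p-group and an abelian group of order prime to p: its Sylow p-subgroup P is normal with an abelian normal complement centralizing it; moreover P has an abelian normal subgroup A with P/A of exponent dividing p. -/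
theorem result {G : Type*} [Group G] [Finite G] (n : ℕ) (hn : 1 < n)
    (h : ∀ x : G, (Subgroup.centralizer ({x} : Set G)).index = 1 ∨ (Subgroup.centralizer ({x} : Set G)).index = n) (hex : ∃ x : G, (Subgroup.centralizer ({x} : Set G)).index = n) :
    ∃ (p : ℕ) (_ : Fact p.Prime) (a : ℕ), n = p ^ a ∧ ∀ P : Sylow p G, (P : Subgroup G).Normal ∧
      (∃ N : Subgroup G, N.Normal ∧ N.IsComplement' (P : Subgroup G) ∧ IsMulCommutative N ∧
        ∀ x ∈ N, ∀ y ∈ (P : Subgroup G), x * y = y * x) ∧
      ∃ A : Subgroup (P : Subgroup G), A.Normal ∧ IsMulCommutative A ∧ ∀ y : (P : Subgroup G), y ^ p ∈ A := by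
  have hTwo : Two G n := ⟨h, hn⟩
  obtain ⟨p, hp, hpow⟩ := hTwo.exists_prime
  haveI : Fact p.Prime := ⟨hp⟩
  have hQ : IsPGroup p (G ⧸ center G) := by
    intro g
    obtain ⟨g, rfl⟩ := QuotientGroup.mk_surjective g
    obtain ⟨k, hk⟩ := hpow g
    exact ⟨k, by rw [← QuotientGroup.mk_pow]; exact (QuotientGroup.eq_one_iff _).2 hk⟩
  obtain ⟨x₀, hx₀⟩ := hex
  obtain ⟨m, hm⟩ := IsPGroup.iff_card.1 hQ
  have hidxZ : (center G).index = p ^ m := hm
  have hdvd : n ∣ p ^ m := by
    rw [← hx₀, ← hidxZ]
    exact Subgroup.index_dvd_of_le (center_le_Cx x₀)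
  obtain ⟨a, -, ha⟩ := (Nat.dvd_prime_pow hp).1 hdvd
  refine ⟨p, ⟨hp⟩, a, ha, fun P => ?_⟩
  haveI : Group.IsNilpotent (G ⧸ center G) := hQ.isNilpotent
  haveI : Group.IsNilpotent G := Group.of_quotient_center_nilpotent inferInstance
  have hPn : (P : Subgroup G).Normal := inferInstance
  obtain ⟨K, hK⟩ := Subgroup.exists_right_complement'_of_coprime (N := (P : Subgroup G))
    P.card_coprime_index
  have hKcard : (P : Subgroup G).index = Nat.card K := hK.symm.index_eq_card
  have hKZ : K ≤ center G := by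
    intro k hk
    obtain ⟨j, hj⟩ := hpow k
    have h1 : orderOf k ∣ Nat.card K := by
      have := orderOf_dvd_natCard (⟨k, hk⟩ : K)
      rwa [Subgroup.orderOf_mk] at this
    have h2 : (Nat.card K).Coprime p := by
      rw [← hKcard]
      exact ((Nat.Prime.coprime_iff_not_dvd hp).2 P.not_dvd_index).symm
    have h3 : (p ^ j).Coprime (orderOf k) :=
      (Nat.Coprime.pow_right j (Nat.Coprime.coprime_dvd_left h1 h2)).symm
    obtain ⟨t, ht⟩ := exists_pow_eq_self_of_coprime h3
    rw [← ht]
    exact (center G).pow_mem hj t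
  have hKn : K.Normal := by
    constructor
    intro k hk g
    have := Subgroup.mem_center_iff.1 (hKZ hk) g
    rw [this, mul_inv_cancel_right]
    exact hk
  have hPK : (P : Subgroup G) ⊔ K = ⊤ := hK.sup_eq_top
  refine ⟨hPn, ⟨K, hKn, hK.symm, ?_, ?_⟩, ?_⟩
  · exact ⟨⟨fun a b => Subtype.ext (Subgroup.mem_center_iff.1 (hKZ b.2) a.1)⟩⟩
  · intro x hx y _
    exact (Subgroup.mem_center_iff.1 (hKZ hx) y).symm
  · apply exists_abelian_normal_exponent P.isPGroup' n
    intro y
    have hCy : Cx y = (Cx (y : G)).subgroupOf (P : Subgroup G) := by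
      ext g
      rw [mem_Cx, Subgroup.mem_subgroupOf, mem_Cx, Subtype.ext_iff]
      rfl
    have hidx : (Cx y).index = (Cx (y : G)).relIndex (P : Subgroup G) := by
      rw [hCy]; rfl
    rw [hidx]
    by_cases hyZ : (y : G) ∈ center G
    · left
      rw [Subgroup.relIndex_eq_one]
      exact fun g _ => center_le_Cx g hyZ |> fun h' => by
        rw [mem_Cx] at h' ⊢
        exact h'.symm
    · right
      have h1 := Cfsg.Agent.Lib.H21.relIndex_sup_of_normal (P : Subgroup G) (Cx (y : G))
      have h2 : Cx (y : G) ⊔ (P : Subgroup G) = ⊤ := by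
        apply top_unique
        rw [← hPK]
        exact sup_le le_sup_right (le_sup_of_le_left (hKZ.trans (center_le_Cx (y : G))))
      have h3 : (Cx (y : G)).relIndex (P : Subgroup G) = (Cx (y : G)).index := by
        calc (Cx (y : G)).relIndex (P : Subgroup G)
            = (Cx (y : G)).relIndex (Cx (y : G) ⊔ (P : Subgroup G)) := h1.symm
          _ = (Cx (y : G)).relIndex ⊤ := by rw [h2]
          _ = (Cx (y : G)).index := Subgroup.relIndex_top_right _
      rw [h3]
      exact hTwo.index_eq hyZ

end Cfsg.Agent.S4134
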