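import Cfsg.Statements.S4135
import Mathlib
import Cfsg.Agent.Lib.H1.TwoClsC

set_option autoImplicit false
open Cfsg
open Cfsg.Agent.Lib.H1.TwoCls
open scoped Pointwise

namespace Cfsg.Agent.S4135

variable {G : Type*} [Group G] [Finite G]

/-- All `r`-elements of `G` lie in a normal subgroup containing a Sylow `r`-subgroup. -/
theorem mem_of_r_element {r : ℕ} [Fact r.Prime] (R : Sylow r G) (N : Subgroup G) (hN : N.Normal)
    (hRN : (R : Subgroup G) ≤ N) {w : G} (hw : ∃ k : ℕ, orderOf w = r ^ k) : w ∈ N := by
  obtain ⟨k, hk⟩ := hw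
  have hp : IsPGroup r (Subgroup.zpowers w) :=
    IsPGroup.of_card (n := k) (by rw [Nat.card_zpowers, hk])
  obtain ⟨Q, hQ⟩ := hp.exists_le_sylow
  obtain ⟨g, hg⟩ := MulAction.exists_smul_eq G R Q
  have hwQ : w ∈ (Q : Subgroup G) := hQ (Subgroup.mem_zpowers w)
  rw [← hg, Sylow.coe_subgroup_smul, Subgroup.mem_pointwise_smul_iff_inv_smul_mem] at hwQ
  have h1 : g⁻¹ * w * g ∈ N := by
    have := hRN hwQ
    simpa [MulAut.smul_def, MulAut.conj_inv_apply] using this
  have h2 := hN.conj_mem _ h1 g
  have e : g * (g⁻¹ * w * g) * g⁻¹ = w := by group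
  rwa [e] at h2

/-- A noncentral element `y ∈ N` commutes with some noncentral `r`-element (which lies in `N`). -/
theorem exists_noncentral_r_elt {r : ℕ} [Fact r.Prime] (R : Sylow r G)
    (hR : ¬ (R : Subgroup G) ≤ Subgroup.center G) {N : Subgroup G} {m : ℕ} (hyp : Hyp N m)
    (hRN : (R : Subgroup G) ≤ N) {y : G} (hy : y ∈ N) (hy' : y ∉ Subgroup.center G) :
    ∃ w : G, w ∈ Cn y ∧ w ∉ Subgroup.center G ∧ ∃ k : ℕ, orderOf w = r ^ k := by
  have hr : r.Prime := Fact.out
  obtain ⟨S⟩ : Nonempty (Sylow r ↥(Cn y)) := inferInstance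
  by_cases hex : ∃ s : ↥(Cn y), s ∈ S ∧ (s : G) ∉ Subgroup.center G
  · obtain ⟨s, hsS, hsc⟩ := hex
    refine ⟨s, s.2, hsc, ?_⟩
    obtain ⟨k, hk⟩ := (IsPGroup.iff_orderOf.mp S.2) ⟨s, hsS⟩
    refine ⟨k, ?_⟩
    rw [← Subgroup.orderOf_coe, ← Subgroup.orderOf_coe] at hk
    exact hk
  · exfalso
    push Not at hex
    -- u ∈ R noncentral
    obtain ⟨u, huR, huc⟩ := SetLike.not_le_iff_exists.mp hR
    have huN : u ∈ N := hRN huR
    -- S' = image of S in G
    set S' : Subgroup G := (S : Subgroup ↥(Cn y)).map (Cn y).subtype with hS'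
    have hS'c : S' ≤ Subgroup.center G := by
      rintro _ ⟨s, hs, rfl⟩
      exact hex s hs
    have hS'card : Nat.card ↥S' = Nat.card ↥(S : Subgroup ↥(Cn y)) :=
      Subgroup.card_map_of_injective (Cn y).subtype_injective
    have hS'p : IsPGroup r ↥S' := S.2.map _
    have hup : IsPGroup r ↥(Subgroup.zpowers u) := R.2.to_le (by
      rw [Subgroup.zpowers_le]; exact huR)
    set T : Subgroup G := Subgroup.zpowers u ⊔ S' with hT
    have hTp : IsPGroup r ↥T := by
      apply IsPGroup.to_sup_of_normal_right' hup hS'p
      intro g _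
      rw [Subgroup.mem_normalizer_iff]
      intro v
      constructor
      · intro hv
        have hvc := Subgroup.mem_center_iff.mp (hS'c hv) g
        have : g * v * g⁻¹ = v := by rw [hvc]; group
        rw [this]; exact hv
      · intro hv
        have hvc := Subgroup.mem_center_iff.mp (hS'c hv) g⁻¹
        have : v = g⁻¹ * (g * v * g⁻¹) * g⁻¹⁻¹ := by group
        rw [this, hvc]
        have e : g * v * g⁻¹ * g⁻¹ * g⁻¹⁻¹ = g * v * g⁻¹ := by group
        rw [e]; exact hv
    have hTle : T ≤ Cn u := by
      rw [hT]
      refine sup_le ?_ (hS'c.trans (center_le_Cn u))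
      rw [Subgroup.zpowers_le, mem_Cn]
    -- cardinalities
    have hcard : Nat.card ↥(Cn u) = Nat.card ↥(Cn y) := by
      have h1 := Subgroup.card_mul_index (Cn u)
      have h2 := Subgroup.card_mul_index (Cn y)
      rw [hyp.cls u huN huc] at h1
      rw [hyp.cls y hy hy'] at h2
      have hm : 0 < m := by
        rcases Nat.eq_zero_or_pos m with h0 | h0
        · rw [h0, mul_zero] at h1
          exact absurd h1.symm (Nat.card_pos.ne')
        · exact h0
      exact Nat.eq_of_mul_eq_mul_right hm (h1.trans h2.symm)
    obtain ⟨n, hn⟩ := IsPGroup.iff_card.mp hTp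
    have hdvd : r ^ n ∣ Nat.card ↥(Cn y) := by
      rw [← hn, ← hcard]; exact Subgroup.card_dvd_of_le hTle
    have hle : n ≤ (Nat.card ↥(Cn y)).factorization r :=
      (hr.pow_dvd_iff_le_factorization Nat.card_pos.ne').mp hdvd
    have hTS : Nat.card ↥T ≤ Nat.card ↥S' := by
      rw [hS'card, Sylow.card_eq_multiplicity, hn]
      exact Nat.pow_le_pow_right hr.pos hle
    have hST : S' = T := Subgroup.eq_of_le_of_card_ge le_sup_right hTS
    apply huc
    apply hS'c
    rw [hST, hT]
    exact (le_sup_left : Subgroup.zpowers u ≤ _) (Subgroup.mem_zpowers u)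

/-- Let G be a finite group, r a prime and R a Sylow r-subgroup of G that is not central, N a normal subgroup of G containing R, and m a natural number such that every element of N has a conjugacy class in G of size 1 or m. Then N is nilpotent. -/
theorem result {G : Type*} [Group G] [Finite G] (r : ℕ) [Fact r.Prime]
    (R : Sylow r G) (hR : ¬ (R : Subgroup G) ≤ Subgroup.center G) (N : Subgroup G) [N.Normal] (hRN : (R : Subgroup G) ≤ N)
    (m : ℕ) (h : ∀ x ∈ N, (Subgroup.centralizer ({x} : Set G)).index = 1 ∨ (Subgroup.centralizer ({x} : Set G)).index = m) : Group.IsNilpotent N := by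
  have hr : r.Prime := Fact.out
  have hN : N.Normal := inferInstance
  have hyp : Hyp N m := by
    refine ⟨hN, ?_⟩
    intro x hx hxc
    rcases h x hx with h1 | h1
    · exfalso
      apply hxc
      rw [Subgroup.index_eq_one] at h1
      rw [Subgroup.mem_center_iff]
      intro g
      have : g ∈ Cn x := by rw [Cn, h1]; exact Subgroup.mem_top g
      exact mem_Cn.mp this
    · exact h1
  by_cases hab : ∀ a ∈ N, ∀ b ∈ N, a * b = b * a
  · -- abelian
    let _ : CommGroup ↥N :=
      { (inferInstance : Group ↥N) with
        mul_comm := fun a b => Subtype.ext (hab a a.2 b b.2) }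
    exact CommGroup.isNilpotent
  · -- every noncentral element of `N` has prime order modulo the centre
    have hprime : ∀ x ∈ N, x ∉ Subgroup.center G → (om x).Prime := by
      intro x hx hxc
      by_contra hn
      apply hab
      intro a ha b hb
      exact (Setup.mk hyp hx hxc hn).abelian ha hb
    -- every element of `N` has order `1` or `r` modulo the centre
    have hr_or : ∀ g ∈ N, g ^ r ∈ Subgroup.center G := by
      intro g hg
      by_cases hgc : g ∈ Subgroup.center G
      · exact Subgroup.pow_mem _ hgc r
      · have hp := hprime g hg hgc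
        by_cases hpr : om g = r
        · rw [pow_mem_center_iff, hpr]
        · exfalso
          obtain ⟨w, hwC, hwc, k, hk⟩ := exists_noncentral_r_elt R hR hyp hRN hg hgc
          have hwN : w ∈ N := mem_of_r_element R N hN hRN ⟨k, hk⟩
          have hpw := hprime w hwN hwc
          -- om w divides r ^ k, so om w = r
          have h1 : om w ∣ r ^ k := by
            rw [← pow_mem_center_iff, ← hk, pow_orderOf_eq_one]
            exact Subgroup.one_mem _
          have h2 : om w = r := (Nat.prime_dvd_prime_iff_eq hpw hr).mp (hpw.dvd_of_dvd_pow h1)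
          -- the product w * g
          have hcomm : Commute w g := (mem_Cn.mp hwC)
          have hcop : Nat.Coprime (om w) (om g) := by
            rw [h2]
            exact (Nat.coprime_primes hr hp).mpr (fun e => hpr e.symm)
          have hcomm' : Commute (QuotientGroup.mk w : G ⧸ Subgroup.center G)
              (QuotientGroup.mk g : G ⧸ Subgroup.center G) := by
            show (QuotientGroup.mk w : G ⧸ Subgroup.center G) * QuotientGroup.mk g
              = QuotientGroup.mk g * QuotientGroup.mk w
            rw [← QuotientGroup.mk_mul, ← QuotientGroup.mk_mul, hcomm.eq]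
          have hom : om (w * g) = om w * om g := by
            have := hcomm'.orderOf_mul_eq_mul_orderOf_of_coprime hcop
            rw [← QuotientGroup.mk_mul] at this
            exact this
          have hwgN : w * g ∈ N := N.mul_mem hwN hg
          have hwgc : w * g ∉ Subgroup.center G := by
            intro hc
            rw [← om_eq_one_iff, hom] at hc
            have := Nat.eq_one_of_mul_eq_one_right hc
            exact hpw.one_lt.ne' this
          have hpwg := hprime (w * g) hwgN hwgc
          rw [hom] at hpwg
          exact Nat.not_prime_mul hpw.one_lt.ne' hp.one_lt.ne' hpwg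
    -- `N / (N ∩ Z(G))` is an `r`-group
    let f : ↥N →* G ⧸ Subgroup.center G := (QuotientGroup.mk' (Subgroup.center G)).comp N.subtype
    have hker : f.rangeRestrict.ker ≤ Subgroup.center ↥N := by
      intro n hn
      rw [MonoidHom.ker_rangeRestrict, MonoidHom.mem_ker] at hn
      have hn' : (n : G) ∈ Subgroup.center G := by
        have : (QuotientGroup.mk (n : G) : G ⧸ Subgroup.center G) = 1 := hn
        exact (QuotientGroup.eq_one_iff _).mp this
      rw [Subgroup.mem_center_iff]
      intro a
      exact Subtype.ext (Subgroup.mem_center_iff.mp hn' a)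
    have hpg : IsPGroup r ↥f.range := by
      rintro ⟨q, n, rfl⟩
      refine ⟨1, ?_⟩
      apply Subtype.ext
      have h1 := hr_or n n.2
      have : (QuotientGroup.mk ((n : G) ^ r) : G ⧸ Subgroup.center G) = 1 :=
        (QuotientGroup.eq_one_iff _).mpr h1
      simpa [f] using this
    have hnil : Group.IsNilpotent ↥f.range := hpg.isNilpotent
    exact Subgroup.isNilpotent_of_ker_le_center f.rangeRestrict hker

end Cfsg.Agent.S4135
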