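import Mathlib
import Cfsg.Prelude.Def_Solvable
import Cfsg.Agent.Lib.H20.BGC4

set_option autoImplicit false
open Cfsg

namespace Cfsg.Agent.S4138

open Cfsg.Agent.Lib.H20.BHM Cfsg.Agent.Lib.H20.BGC

/-- Let G be a finite group whose two largest conjugacy class sizes m > n > 1 are coprime, and let x, y ∈ G have classes of sizes n and m respectively. Then C_G(x) and C_G(y) are abelian, and G/Z(G) is a Frobenius group with kernel C_G(x)/Z(G) and complement C_G(y)/Z(G). -/
theorem result {G : Type*} [Group G] [Finite G] (m n : ℕ) (hmn : n < m) (hn : 1 < n)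
    (hcop : m.Coprime n) (htop : ∀ z : G, (Subgroup.centralizer ({z} : Set G)).index ≤ m) (hsecond : ∀ z : G, (Subgroup.centralizer ({z} : Set G)).index < m → (Subgroup.centralizer ({z} : Set G)).index ≤ n)
    (x y : G) (hx : (Subgroup.centralizer ({x} : Set G)).index = n) (hy : (Subgroup.centralizer ({y} : Set G)).index = m) :
    IsMulCommutative (Subgroup.centralizer ({x} : Set G)) ∧ IsMulCommutative (Subgroup.centralizer ({y} : Set G)) ∧
    Cfsg.IsFrobeniusComplement ((Subgroup.centralizer ({y} : Set G)).map (QuotientGroup.mk' (Subgroup.center G))) ∧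
    Cfsg.frobeniusKernel ((Subgroup.centralizer ({y} : Set G)).map (QuotientGroup.mk' (Subgroup.center G))) =
      ((Subgroup.centralizer ({x} : Set G)).map (QuotientGroup.mk' (Subgroup.center G)) : Set (G ⧸ Subgroup.center G)) := by
  have H : Hyp G m n := ⟨hmn, hn, hcop, htop, hsecond⟩
  have hx' : cs x = n := hx
  have hy' : cs y = m := hy
  obtain ⟨T, hT⟩ : ∃ T : Set ℕ, T = {p | p ∣ n} := ⟨_, rfl⟩
  have hsplit : Split T G := by
    intro g
    rcases H.trichotomy hx' hy' g with h | h | h
    · left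
      intro p hp hpd
      rw [h] at hpd
      exact absurd (Nat.dvd_one.mp hpd) hp.ne_one
    · left
      intro p _ hpd
      rw [h] at hpd
      rw [hT]; exact hpd
    · right
      intro p hp hpd
      rw [h] at hpd
      rw [hT]
      exact H.not_dvd hp hpd
  have hY : IsY T y := by
    refine ⟨by rw [hy']; omega, ?_⟩
    intro p hp hpd
    rw [hy'] at hpd
    rw [hT]
    exact H.not_dvd hp hpd
  have hX : IsX T x := by
    refine ⟨by rw [hx']; omega, ?_⟩
    intro p _ hpd
    rw [hx'] at hpd
    rw [hT]; exact hpd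
  have S : Setup T y := ⟨hsplit, H.hmax hy', hY⟩
  obtain ⟨hF, hK, hCy⟩ := S.main' hX
  have hCx := S.centralizer_eq_N hX
  refine ⟨?_, ?_, hF, ?_⟩
  · rw [hCx]
    exact ⟨⟨fun a b => Subtype.ext (S.N_comm a.2 b.2)⟩⟩
  · exact ⟨⟨fun a b => Subtype.ext (hCy a.1 a.2 b.1 b.2)⟩⟩
  · rw [hK, hCx]

end Cfsg.Agent.S4138
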