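import Mathlib
import Cfsg.Agent.Lib.H20.ConjClass
import Cfsg.Agent.Lib.H20.FrobeniusDiv
import Cfsg.Agent.Lib.H1.Hall

set_option autoImplicit false
open Cfsg

namespace Cfsg.Agent.S4139

universe u

/-- The index of the centralizer of `x` (= the size of its conjugacy class). -/
noncomputable def ind {G : Type*} [Group G] (x : G) : ℕ :=
  (Subgroup.centralizer ({x} : Set G)).index

/-- The elements of `p`-power index. -/
def T (p : ℕ) (G : Type*) [Group G] : Set G := {x | ∃ a : ℕ, ind x = p ^ a}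

theorem ind_eq_card_carrier {G : Type*} [Group G] (x : G) :
    ind x = Nat.card (ConjClasses.mk x).carrier := by
  unfold ind
  rw [Cfsg.Agent.Lib.H20.index_centralizer_eq_ncard_carrier, Nat.card_coe_set_eq]

theorem card_fiber {G : Type*} [Group G] [Finite G] (k : ℕ) :
    Nat.card {x : G // ind x = k} =
      Nat.card {C : ConjClasses G // Nat.card C.carrier = k} * k := by
  classical
  haveI := Fintype.ofFinite {C : ConjClasses G // Nat.card C.carrier = k}
  let m : {x : G // ind x = k} → {C : ConjClasses G // Nat.card C.carrier = k} :=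
    fun x => ⟨ConjClasses.mk x.1, by rw [← ind_eq_card_carrier]; exact x.2⟩
  rw [← Nat.card_congr (Equiv.sigmaFiberEquiv m), Nat.card_sigma]
  have hfib : ∀ C : {C : ConjClasses G // Nat.card C.carrier = k},
      Nat.card {x // m x = C} = k := by
    intro C
    conv_rhs => rw [← C.2]
    apply Nat.card_congr
    refine ⟨fun x => ⟨x.1.1, ?_⟩, fun y => ⟨⟨y.1, ?_⟩, ?_⟩, ?_, ?_⟩
    · rw [ConjClasses.mem_carrier_iff_mk_eq]
      exact congrArg Subtype.val x.2
    · rw [ind_eq_card_carrier, ConjClasses.mem_carrier_iff_mk_eq.1 y.2]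
      exact C.2
    · exact Subtype.ext (ConjClasses.mem_carrier_iff_mk_eq.1 y.2)
    · intro x; rfl
    · intro y; rfl
  simp only [hfib, Finset.sum_const, Finset.card_univ, smul_eq_mul, Nat.card_eq_fintype_card]

theorem exists_equiv {G H : Type*} [Group G] [Finite G] [Group H] [Finite H]
    (h : ∀ k : ℕ, Nat.card {C : ConjClasses G // Nat.card C.carrier = k} =
      Nat.card {C : ConjClasses H // Nat.card C.carrier = k}) :
    ∃ Φ : G ≃ H, ∀ x, ind (Φ x) = ind x := by
  have hk : ∀ k, Nat.card {x : G // ind x = k} = Nat.card {y : H // ind y = k} := by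
    intro k; rw [card_fiber, card_fiber, h k]
  have e : ∀ k, {x : G // ind x = k} ≃ {y : H // ind y = k} :=
    fun k => Classical.choice (Finite.card_eq.1 (hk k))
  let Φ : G ≃ H := (Equiv.sigmaFiberEquiv (ind : G → ℕ)).symm.trans
    ((Equiv.sigmaCongrRight e).trans (Equiv.sigmaFiberEquiv (ind : H → ℕ)))
  refine ⟨Φ, fun x => ?_⟩
  exact (e (ind x) ⟨x, rfl⟩).2

theorem ind_conj {Γ : Type*} [Group Γ] (g y : Γ) : ind (g * y * g⁻¹) = ind y := by
  rw [ind_eq_card_carrier, ind_eq_card_carrier]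
  have : ConjClasses.mk (g * y * g⁻¹) = ConjClasses.mk y := by
    rw [ConjClasses.mk_eq_mk_iff_isConj, isConj_iff]
    exact ⟨g⁻¹, by group⟩
  rw [this]

theorem ind_eq_one_iff {Γ : Type*} [Group Γ] (x : Γ) : ind x = 1 ↔ x ∈ Subgroup.center Γ := by
  unfold ind
  rw [Subgroup.index_eq_one, eq_top_iff, Subgroup.mem_center_iff]
  constructor
  · intro h g
    have := h (Subgroup.mem_top g)
    rwa [Subgroup.mem_centralizer_singleton_iff] at this
  · intro h g _
    rw [Subgroup.mem_centralizer_singleton_iff]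
    exact h g

theorem center_subset_T (p : ℕ) {Γ : Type*} [Group Γ] : (Subgroup.center Γ : Set Γ) ⊆ T p Γ := by
  intro x hx
  exact ⟨0, by rw [pow_zero]; exact (ind_eq_one_iff x).2 hx⟩

theorem card_T_modEq (p : ℕ) [hp : Fact p.Prime] {Γ : Type*} [Group Γ] [Finite Γ] :
    Nat.card (T p Γ) ≡ Nat.card (Subgroup.center Γ) [MOD p] := by
  classical
  haveI := Fintype.ofFinite Γ
  have hdvd : p ∣ ∑ y ∈ Finset.univ.filter
      (fun y : Γ => y ∈ T p Γ ∧ y ∉ Subgroup.center Γ), (fun _ : Γ => 1) y := by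
    apply Cfsg.Agent.Lib.H20.dvd_sum_of_conj_invariant p _ (fun _ => 1)
    · rintro g y ⟨⟨a, ha⟩, hyc⟩
      refine ⟨⟨a, ?_⟩, ?_⟩
      · rw [ind_conj]; exact ha
      · intro hc
        apply hyc
        have := (inferInstance : (Subgroup.center Γ).Normal).conj_mem _ hc g⁻¹
        simpa [mul_assoc] using this
    · intros; rfl
    · rintro y ⟨⟨a, ha⟩, hyc⟩
      rw [mul_one]
      change p ∣ ind y
      rw [ha]
      apply dvd_pow_self
      rintro rfl
      rw [pow_zero] at ha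
      exact hyc ((ind_eq_one_iff y).1 ha)
  rw [Finset.sum_const, smul_eq_mul, mul_one] at hdvd
  have h1 : Nat.card (T p Γ) = (Finset.univ.filter (fun y : Γ => y ∈ T p Γ)).card :=
    Cfsg.Agent.Lib.H20.card_subtype_eq_card_filter _
  have h2 : Nat.card (Subgroup.center Γ) =
      (Finset.univ.filter (fun y : Γ => y ∈ Subgroup.center Γ)).card :=
    Cfsg.Agent.Lib.H20.card_subtype_eq_card_filter _
  have h3 := Finset.card_filter_add_card_filter_not
    (s := Finset.univ.filter (fun y : Γ => y ∈ T p Γ)) (fun y : Γ => y ∈ Subgroup.center Γ)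
  rw [Finset.filter_filter, Finset.filter_filter] at h3
  have h4 : Finset.univ.filter (fun y : Γ => y ∈ T p Γ ∧ y ∈ Subgroup.center Γ) =
      Finset.univ.filter (fun y : Γ => y ∈ Subgroup.center Γ) := by
    ext y
    simp only [Finset.mem_filter, Finset.mem_univ, true_and]
    exact ⟨fun h => h.2, fun h => ⟨center_subset_T p h, h⟩⟩
  rw [h4] at h3
  rw [h1, h2, ← h3]
  obtain ⟨c, hc⟩ := hdvd
  rw [hc]
  exact Nat.add_mul_mod_self_left _ _ _

theorem mem_T_of_quotient (p : ℕ) [hp : Fact p.Prime] {Γ : Type*} [Group Γ] [Finite Γ]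
    (N : Subgroup Γ) [N.Normal] (hNc : N ≤ Subgroup.center Γ) (hNp : Nat.card N = p) (x : Γ)
    (hx : ((x : Γ) : Γ ⧸ N) ∈ T p (Γ ⧸ N)) : x ∈ T p Γ := by
  obtain ⟨b, hb⟩ := hx
  unfold ind at hb
  set Cs := (Subgroup.centralizer ({((x : Γ) : Γ ⧸ N)} : Set (Γ ⧸ N))).comap
    (QuotientGroup.mk' N) with hCs
  have hidx : Cs.index = p ^ b := by
    rw [hCs, Subgroup.index_comap_of_surjective _ (QuotientGroup.mk'_surjective N)]
    exact hb
  have hmem : ∀ g : Γ, g ∈ Cs → g * x * g⁻¹ * x⁻¹ ∈ N := by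
    intro g hg
    rw [hCs, Subgroup.mem_comap, Subgroup.mem_centralizer_singleton_iff] at hg
    rw [← QuotientGroup.eq_one_iff]
    have h1 : ((g * x : Γ) : Γ ⧸ N) = ((x * g : Γ) : Γ ⧸ N) := by
      rw [QuotientGroup.mk_mul, QuotientGroup.mk_mul]; exact hg
    rw [QuotientGroup.mk_mul, QuotientGroup.mk_mul, h1, ← QuotientGroup.mk_mul,
      ← QuotientGroup.mk_mul]
    have : x * g * g⁻¹ * x⁻¹ = 1 := by group
    rw [this]; rfl
  have hle : Subgroup.centralizer ({x} : Set Γ) ≤ Cs := by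
    intro g hg
    rw [Subgroup.mem_centralizer_singleton_iff] at hg
    rw [hCs, Subgroup.mem_comap, Subgroup.mem_centralizer_singleton_iff]
    show ((g : Γ) : Γ ⧸ N) * ((x : Γ) : Γ ⧸ N) = ((x : Γ) : Γ ⧸ N) * ((g : Γ) : Γ ⧸ N)
    rw [← QuotientGroup.mk_mul, ← QuotientGroup.mk_mul, hg]
  let φ : ↥Cs →* ↥N := MonoidHom.mk' (fun g => ⟨g.1 * x * g.1⁻¹ * x⁻¹, hmem g.1 g.2⟩) (by
    intro g h
    apply Subtype.ext
    have hc := Subgroup.mem_center_iff.1 (hNc (hmem h.1 h.2))
    show (g.1 * h.1) * x * (g.1 * h.1)⁻¹ * x⁻¹ =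
      (g.1 * x * g.1⁻¹ * x⁻¹) * (h.1 * x * h.1⁻¹ * x⁻¹)
    have e1 : (g.1 * h.1) * x * (g.1 * h.1)⁻¹ * x⁻¹ =
        g.1 * ((h.1 * x * h.1⁻¹ * x⁻¹) * x) * g.1⁻¹ * x⁻¹ := by group
    rw [e1, ← hc x]
    have e2 : g.1 * (x * (h.1 * x * h.1⁻¹ * x⁻¹)) * g.1⁻¹ * x⁻¹ =
        g.1 * x * ((h.1 * x * h.1⁻¹ * x⁻¹) * g.1⁻¹) * x⁻¹ := by group
    rw [e2, ← hc g.1⁻¹]
    have hc2 := hc x⁻¹
    have e3 : g.1 * x * (g.1⁻¹ * (h.1 * x * h.1⁻¹ * x⁻¹)) * x⁻¹ =
        g.1 * x * g.1⁻¹ * ((h.1 * x * h.1⁻¹ * x⁻¹) * x⁻¹) := by group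
    rw [e3, ← hc2]
    group)
  have hker : φ.ker = (Subgroup.centralizer ({x} : Set Γ)).subgroupOf Cs := by
    ext g
    rw [MonoidHom.mem_ker, Subgroup.mem_subgroupOf, Subgroup.mem_centralizer_singleton_iff]
    constructor
    · intro h
      have h1 : g.1 * x * g.1⁻¹ * x⁻¹ = 1 := congrArg Subtype.val h
      have h2 : g.1 * x = (g.1 * x * g.1⁻¹ * x⁻¹) * (x * g.1) := by group
      rw [h2, h1, one_mul]
    · intro h
      apply Subtype.ext
      show g.1 * x * g.1⁻¹ * x⁻¹ = 1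
      rw [h]; group
  have hrel : (Subgroup.centralizer ({x} : Set Γ)).relIndex Cs ∣ p := by
    have h1 : φ.ker.index = Nat.card φ.range := Subgroup.index_ker φ
    have h2 : Nat.card φ.range ∣ Nat.card N := Subgroup.card_subgroup_dvd_card φ.range
    rw [hNp, ← h1, hker] at h2
    exact h2
  have hmul := Subgroup.relIndex_mul_index hle
  have hdvd : ind x ∣ p ^ (b + 1) := by
    unfold ind
    rw [← hmul, hidx, pow_succ, mul_comm]
    exact Nat.mul_dvd_mul_left _ hrel
  obtain ⟨a, -, ha⟩ := (Nat.dvd_prime_pow hp.out).1 hdvd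
  exact ⟨a, ha⟩

theorem mem_T_quotient (p : ℕ) [hp : Fact p.Prime] {Γ : Type*} [Group Γ] [Finite Γ]
    (N : Subgroup Γ) [N.Normal] (x : Γ) (hx : x ∈ T p Γ) :
    ((x : Γ) : Γ ⧸ N) ∈ T p (Γ ⧸ N) := by
  obtain ⟨a, ha⟩ := hx
  unfold ind at ha
  have h3 : (Subgroup.centralizer ({x} : Set Γ)).map (QuotientGroup.mk' N) ≤
      Subgroup.centralizer ({((x : Γ) : Γ ⧸ N)} : Set (Γ ⧸ N)) := by
    rintro _ ⟨c, hc, rfl⟩
    rw [SetLike.mem_coe, Subgroup.mem_centralizer_singleton_iff] at hc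
    rw [Subgroup.mem_centralizer_singleton_iff]
    show (c : Γ ⧸ N) * ((x : Γ) : Γ ⧸ N) = ((x : Γ) : Γ ⧸ N) * (c : Γ ⧸ N)
    rw [← QuotientGroup.mk_mul, ← QuotientGroup.mk_mul, hc]
  have h4 : ind ((x : Γ) : Γ ⧸ N) ∣ p ^ a := by
    unfold ind
    rw [← ha]
    exact (Subgroup.index_dvd_of_le h3).trans
      (Subgroup.index_map_dvd _ (QuotientGroup.mk'_surjective N))
  obtain ⟨i, -, hi⟩ := (Nat.dvd_prime_pow hp.out).1 h4
  exact ⟨i, hi⟩

/-- If the `p`-part of `|Γ|` divides the number of elements of `p`-power index, then `Γ` has a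
normal Sylow `p`-subgroup. -/
theorem exists_normal_sylow (p : ℕ) [hp : Fact p.Prime] : ∀ (n : ℕ) (Γ : Type u) [Group Γ]
    [Finite Γ], Nat.card Γ = n → p ^ (Nat.card Γ).factorization p ∣ Nat.card (T p Γ) →
    ∃ P : Subgroup Γ, P.Normal ∧ Nat.card P = p ^ (Nat.card Γ).factorization p := by
  intro n
  induction n using Nat.strong_induction_on with
  | _ n ih =>
  intro Γ _ _ hn hdvd
  by_cases hpZ : p ∣ Nat.card (Subgroup.center Γ)
  · obtain ⟨z, hz⟩ := exists_prime_orderOf_dvd_card' p hpZ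
    set N := Subgroup.zpowers (z : Γ) with hNdef
    have hNc : N ≤ Subgroup.center Γ := by
      rw [hNdef, Subgroup.zpowers_le]; exact z.2
    haveI : N.Normal := ⟨fun y hy g => by
      have := Subgroup.mem_center_iff.1 (hNc hy) g
      rw [this, mul_inv_cancel_right]; exact hy⟩
    have hNp : Nat.card N = p := by
      rw [hNdef, Nat.card_zpowers, Subgroup.orderOf_coe]; exact hz
    have hcard : Nat.card Γ = Nat.card (Γ ⧸ N) * p := by
      rw [← hNp]; exact Subgroup.card_eq_card_quotient_mul_card_subgroup N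
    have hQpos : Nat.card (Γ ⧸ N) ≠ 0 := Nat.card_pos.ne'
    have hlt : Nat.card (Γ ⧸ N) < n := by
      rw [← hn, hcard]
      have := hp.out.one_lt
      have h0 : 0 < Nat.card (Γ ⧸ N) := Nat.card_pos
      nlinarith
    have hfac : (Nat.card Γ).factorization p = (Nat.card (Γ ⧸ N)).factorization p + 1 := by
      rw [hcard, Nat.factorization_mul hQpos hp.out.ne_zero, Finsupp.add_apply,
        hp.out.factorization_self]
    have hTeq : T p Γ = (QuotientGroup.mk : Γ → Γ ⧸ N) ⁻¹' (T p (Γ ⧸ N)) := by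
      ext x
      exact ⟨fun h => mem_T_quotient p N x h, fun h => mem_T_of_quotient p N hNc hNp x h⟩
    have hTcard : Nat.card (T p Γ) = p * Nat.card (T p (Γ ⧸ N)) := by
      rw [hTeq, QuotientGroup.card_preimage_mk, hNp]
    rw [hTcard, hfac, pow_succ, mul_comm] at hdvd
    have hdvd' : p ^ (Nat.card (Γ ⧸ N)).factorization p ∣ Nat.card (T p (Γ ⧸ N)) :=
      Nat.dvd_of_mul_dvd_mul_left hp.out.pos hdvd
    obtain ⟨Pb, hPbn, hPbc⟩ := ih _ hlt (Γ ⧸ N) rfl hdvd'
    refine ⟨Pb.comap (QuotientGroup.mk' N), hPbn.comap _, ?_⟩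
    have h1 : ((Pb.comap (QuotientGroup.mk' N) : Subgroup Γ) : Set Γ) =
        (QuotientGroup.mk : Γ → Γ ⧸ N) ⁻¹' (Pb : Set (Γ ⧸ N)) := rfl
    have h2 : Nat.card (Pb.comap (QuotientGroup.mk' N) : Subgroup Γ) =
        Nat.card ((QuotientGroup.mk : Γ → Γ ⧸ N) ⁻¹' (Pb : Set (Γ ⧸ N))) := rfl
    rw [h2, QuotientGroup.card_preimage_mk, hNp, hfac, pow_succ, mul_comm]
    congr 1
  · have hmod := card_T_modEq p (Γ := Γ)
    have hnd : ¬ p ∣ Nat.card (T p Γ) := by
      intro hd
      apply hpZ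
      have h0 : Nat.card (T p Γ) % p = 0 := Nat.mod_eq_zero_of_dvd hd
      have h1 : Nat.card (Subgroup.center Γ) % p = 0 := by
        rw [← h0]; exact hmod.symm
      exact Nat.dvd_of_mod_eq_zero h1
    have he : (Nat.card Γ).factorization p = 0 := by
      by_contra hne
      exact hnd ((dvd_pow_self p hne).trans hdvd)
    refine ⟨⊥, inferInstance, ?_⟩
    rw [he, pow_zero, Subgroup.card_bot]

/-- In a nilpotent group the set of elements of `p`-power index is a union of cosets of the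
Sylow `p`-subgroup. -/
theorem pow_dvd_card_T_of_nilpotent (p : ℕ) [hp : Fact p.Prime] {H : Type*} [Group H] [Finite H]
    (hH : Group.IsNilpotent H) : p ^ (Nat.card H).factorization p ∣ Nat.card (T p H) := by
  have hnorm : ∀ (r : ℕ) [Fact r.Prime] (R : Sylow r H), (R : Subgroup H).Normal := by
    intro r _ R
    haveI := hH
    exact inferInstance
  obtain ⟨P⟩ : Nonempty (Sylow p H) := inferInstance
  haveI hPn : (P : Subgroup H).Normal := hnorm p P
  have hstable : ∀ x ∈ T p H, ∀ u ∈ (P : Subgroup H), x * u ∈ T p H := by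
    rintro x ⟨a, ha⟩ u hu
    have hne : ind (x * u) ≠ 0 := by
      unfold ind; exact Subgroup.index_ne_zero_of_finite
    refine ⟨_, Nat.eq_prime_pow_of_unique_prime_dvd hne ?_⟩
    intro r hr hrd
    by_contra hrp
    haveI : Fact r.Prime := ⟨hr⟩
    obtain ⟨R⟩ : Nonempty (Sylow r H) := inferInstance
    haveI hRn : (R : Subgroup H).Normal := hnorm r R
    have hRx : (R : Subgroup H) ≤ Subgroup.centralizer ({x} : Set H) := by
      apply Cfsg.Agent.Lib.H1.le_of_normal_isPGroup_of_not_dvd_index R.2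
      change ¬ r ∣ ind x
      rw [ha]
      intro hd
      exact hrp ((Nat.prime_dvd_prime_iff_eq hr hp.out).1 (hr.dvd_of_dvd_pow hd))
    have hRu : (R : Subgroup H) ≤ Subgroup.centralizer ({u} : Set H) := by
      intro y hy
      rw [Subgroup.mem_centralizer_singleton_iff]
      exact Subgroup.commute_of_normal_of_disjoint _ _ hRn hPn
        (IsPGroup.disjoint_of_ne r p hrp _ _ R.2 P.2) y u hy hu
    have hRxu : (R : Subgroup H) ≤ Subgroup.centralizer ({x * u} : Set H) := by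
      intro y hy
      have h1 := hRx hy
      have h2 := hRu hy
      rw [Subgroup.mem_centralizer_singleton_iff] at h1 h2 ⊢
      rw [← mul_assoc, h1, mul_assoc, h2, mul_assoc]
    have h3 : ind (x * u) ∣ (R : Subgroup H).index := Subgroup.index_dvd_of_le hRxu
    exact R.not_dvd_index (hrd.trans h3)
  have hTeq : T p H = (QuotientGroup.mk : H → H ⧸ (P : Subgroup H)) ⁻¹'
      ((QuotientGroup.mk : H → H ⧸ (P : Subgroup H)) '' (T p H)) := by
    ext x
    constructor
    · intro hx; exact ⟨x, hx, rfl⟩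
    · rintro ⟨y, hy, hyx⟩
      have h1 : y⁻¹ * x ∈ (P : Subgroup H) := QuotientGroup.eq.1 hyx
      have := hstable y hy _ h1
      rwa [mul_inv_cancel_left] at this
  rw [hTeq, QuotientGroup.card_preimage_mk, ← P.card_eq_multiplicity]
  exact dvd_mul_right _ _

/-- Let G and H be finite groups such that for every natural number k, G and H have the same number of conjugacy classes of size k. If H is nilpotent then G is nilpotent. -/
theorem result {G H : Type*} [Group G] [Finite G] [Group H] [Finite H]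
    (hH : Group.IsNilpotent H)
    (h : ∀ k : ℕ, Nat.card {C : ConjClasses G // Nat.card C.carrier = k} = Nat.card {C : ConjClasses H // Nat.card C.carrier = k}) :
    Group.IsNilpotent G := by
  obtain ⟨Φ, hΦ⟩ := exists_equiv h
  have hcard : Nat.card G = Nat.card H := Nat.card_congr Φ
  refine ((Group.isNilpotent_of_finite_tfae (G := G)).out 0 3 rfl rfl).mpr ?_
  intro p hp P
  have hT : Nat.card (T p G) = Nat.card (T p H) := by
    apply Nat.card_congr
    exact Φ.subtypeEquiv (fun x => by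
      show (∃ a, ind x = p ^ a) ↔ (∃ a, ind (Φ x) = p ^ a)
      rw [hΦ x])
  have hdvd : p ^ (Nat.card G).factorization p ∣ Nat.card (T p G) := by
    rw [hT, hcard]
    exact pow_dvd_card_T_of_nilpotent p hH
  obtain ⟨N, hNn, hNc⟩ := exists_normal_sylow p _ G rfl hdvd
  have hNp : IsPGroup p N := IsPGroup.of_card hNc
  haveI := hNn
  have hle : N ≤ (P : Subgroup G) := hNp.le_sylow_of_normal P
  have heq : N = (P : Subgroup G) := by
    apply Subgroup.eq_of_le_of_card_ge hle
    rw [hNc, P.card_eq_multiplicity]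
  rw [← heq]
  exact hNn

end Cfsg.Agent.S4139
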