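import Cfsg.Statements.S4142
import Cfsg.Agent.Lib.H21.ClassSize

set_option autoImplicit false
open Cfsg

namespace Cfsg.Agent.S4142

open Cfsg.Agent.Lib.H21

theorem pointwise {G : Type*} [Group G] [Finite G] (N : Subgroup G) [N.Normal] (g : G) :
    (∀ n ∈ N, ∃ x : G, x * g * x⁻¹ = g * n) ↔
      Nat.card (Subgroup.centralizer ({g} : Set G)) =
        Nat.card (Subgroup.centralizer ({(QuotientGroup.mk g : G ⧸ N)} : Set (G ⧸ N))) := by
  classical
  set A : Set G := {h : G | IsConj g h} with hAdef
  set B : Set (G ⧸ N) := {k : G ⧸ N | IsConj (QuotientGroup.mk g : G ⧸ N) k} with hBdef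
  have hsub : A ⊆ (QuotientGroup.mk : G → G ⧸ N) ⁻¹' B := by
    intro h hh
    obtain ⟨x, hx⟩ := isConj_iff.mp hh
    show IsConj _ _
    rw [isConj_iff]
    exact ⟨QuotientGroup.mk x, by rw [← hx]; simp⟩
  have hpre : Nat.card ((QuotientGroup.mk : G → G ⧸ N) ⁻¹' B) = Nat.card N * Nat.card B :=
    QuotientGroup.card_preimage_mk N B
  have hA : Nat.card A * Nat.card (Subgroup.centralizer ({g} : Set G)) = Nat.card G :=
    card_conj_mul_card_centralizer g
  have hB : Nat.card B * Nat.card (Subgroup.centralizer ({(QuotientGroup.mk g : G ⧸ N)} : Set (G ⧸ N)))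
      = Nat.card (G ⧸ N) := card_conj_mul_card_centralizer _
  have hG : Nat.card G = Nat.card (G ⧸ N) * Nat.card N := Subgroup.card_eq_card_quotient_mul_card_subgroup N
  have hcam : (∀ n ∈ N, ∃ x : G, x * g * x⁻¹ = g * n) ↔ A = (QuotientGroup.mk : G → G ⧸ N) ⁻¹' B := by
    constructor
    · intro hc
      apply Set.Subset.antisymm hsub
      intro h hh
      obtain ⟨c, hc'⟩ := isConj_iff.mp (show IsConj (QuotientGroup.mk g : G ⧸ N) (QuotientGroup.mk h) from hh)
      obtain ⟨y, rfl⟩ := QuotientGroup.mk_surjective c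
      have h1 : ((y * g * y⁻¹ : G) : G ⧸ N) = (h : G ⧸ N) := by
        rw [← hc']; simp
      rw [QuotientGroup.eq] at h1
      -- n' = (y g y⁻¹)⁻¹ h ∈ N
      have hn : y⁻¹ * ((y * g * y⁻¹)⁻¹ * h) * y⁻¹⁻¹ ∈ N := ‹N.Normal›.conj_mem _ h1 y⁻¹
      obtain ⟨x, hx⟩ := hc _ hn
      show IsConj g h
      rw [isConj_iff]
      refine ⟨y * x, ?_⟩
      calc y * x * g * (y * x)⁻¹ = y * (x * g * x⁻¹) * y⁻¹ := by group
        _ = y * (g * (y⁻¹ * ((y * g * y⁻¹)⁻¹ * h) * y⁻¹⁻¹)) * y⁻¹ := by rw [hx]
        _ = h := by group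
    · intro hAB n hn
      have : g * n ∈ (QuotientGroup.mk : G → G ⧸ N) ⁻¹' B := by
        show IsConj (QuotientGroup.mk g : G ⧸ N) (QuotientGroup.mk (g * n))
        have : (QuotientGroup.mk (g * n) : G ⧸ N) = QuotientGroup.mk g := by
          rw [QuotientGroup.eq]; simpa using hn
        rw [this]
      rw [← hAB] at this
      exact isConj_iff.mp this
  have hcard : A = (QuotientGroup.mk : G → G ⧸ N) ⁻¹' B ↔ Nat.card A = Nat.card N * Nat.card B := by
    rw [← hpre]
    constructor
    · intro h; rw [← h]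
    · intro h
      apply Set.eq_of_subset_of_ncard_le hsub _ (Set.toFinite _)
      rw [← Nat.card_coe_set_eq, ← Nat.card_coe_set_eq, h]
  rw [hcam, hcard]
  have hApos : 0 < Nat.card A := by
    have : 0 < Nat.card G := Nat.card_pos
    rw [← hA] at this
    exact Nat.pos_of_mul_pos_right this
  set a := Nat.card A
  set b := Nat.card B
  set c := Nat.card (Subgroup.centralizer ({g} : Set G))
  set d := Nat.card (Subgroup.centralizer ({(QuotientGroup.mk g : G ⧸ N)} : Set (G ⧸ N)))
  set n := Nat.card N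
  have hcpos : 0 < c := Nat.card_pos
  have hkey : a * c = n * b * d := by
    rw [hA, hG, ← hB]; ring
  constructor
  · intro h
    rw [h] at hkey
    rw [h] at hApos
    exact Nat.eq_of_mul_eq_mul_left hApos hkey
  · intro h
    rw [← h] at hkey
    exact Nat.eq_of_mul_eq_mul_right hcpos hkey

/-- Let G be a finite group and N a normal subgroup. Then the conjugacy class of every element g outside N is a union of cosets of N (gn is conjugate to g for all n ∈ N) if and only if for every g outside N the centralizer of g in G has the same order as the centralizer of gN in G/N. -/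
theorem result {G : Type*} [Group G] [Finite G] (N : Subgroup G) [N.Normal] :
    (∀ g : G, g ∉ N → ∀ n ∈ N, ∃ x : G, x * g * x⁻¹ = g * n) ↔
      ∀ g : G, g ∉ N → Nat.card (Subgroup.centralizer ({g} : Set G)) =
        Nat.card (Subgroup.centralizer ({(QuotientGroup.mk g : G ⧸ N)} : Set (G ⧸ N))) := by
  apply forall_congr'
  intro g
  apply imp_congr_right
  intro _
  exact pointwise N g

end Cfsg.Agent.S4142
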