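import Cfsg.Statements.S4143
import Mathlib

set_option autoImplicit false
open Cfsg

namespace Cfsg.Agent.S4143

open scoped commutatorElement

universe u

/-- The elements `x` with `[x, s] ∈ Z` for all `s ∈ S` number at most `|C(S)| · |Z|^{|S|}`. -/
theorem card_stab_le {Y : Type*} [Group Y] [Finite Y] (Z : Subgroup Y) (S : Finset Y) :
    Nat.card {x : Y // ∀ s ∈ S, ⁅x, s⁆ ∈ Z} ≤
      Nat.card (Subgroup.centralizer (S : Set Y)) * Nat.card Z ^ S.card := by
  classical
  obtain ⟨f, hf⟩ : ∃ f : {x : Y // ∀ s ∈ S, ⁅x, s⁆ ∈ Z} → (S → Z),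
      f = fun x s => ⟨⁅x.1, s.1⁆, x.2 s s.2⟩ := ⟨_, rfl⟩
  have hfib : ∀ x y : {x : Y // ∀ s ∈ S, ⁅x, s⁆ ∈ Z}, f y = f x →
      y.1⁻¹ * x.1 ∈ Subgroup.centralizer (S : Set Y) := by
    intro x y hxy
    rw [Subgroup.mem_centralizer_iff]
    intro s hs
    have h1 := congrFun hxy ⟨s, hs⟩
    rw [hf] at h1
    have h2 : ⁅y.1, s⁆ = ⁅x.1, s⁆ := congrArg Subtype.val h1
    rw [commutatorElement_def, commutatorElement_def] at h2
    have h3 : y.1 * s * y.1⁻¹ = x.1 * s * x.1⁻¹ := mul_right_cancel h2
    calc s * (y.1⁻¹ * x.1) = y.1⁻¹ * (y.1 * s * y.1⁻¹) * x.1 := by group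
      _ = y.1⁻¹ * (x.1 * s * x.1⁻¹) * x.1 := by rw [h3]
      _ = y.1⁻¹ * x.1 * s := by group
  obtain ⟨rep, hrep⟩ : ∃ rep : {x : Y // ∀ s ∈ S, ⁅x, s⁆ ∈ Z} → {x : Y // ∀ s ∈ S, ⁅x, s⁆ ∈ Z},
      ∀ x, f (rep x) = f x ∧ ∀ x', f x' = f x → rep x' = rep x := by
    refine ⟨fun x => Classical.choose (⟨x, rfl⟩ : ∃ y, f y = f x), fun x => ⟨?_, ?_⟩⟩
    · exact Classical.choose_spec (⟨x, rfl⟩ : ∃ y, f y = f x)
    · intro x' hx'
      have : (fun y => f y = f x') = (fun y => f y = f x) := by rw [hx']
      simp only [this]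
  have hinj : Function.Injective
      (fun x : {x : Y // ∀ s ∈ S, ⁅x, s⁆ ∈ Z} =>
        ((f x, ⟨(rep x).1⁻¹ * x.1, hfib x (rep x) (hrep x).1⟩) :
          (S → Z) × Subgroup.centralizer (S : Set Y))) := by
    intro x x' h
    have h1 : f x = f x' := congrArg Prod.fst h
    have h2 : (rep x).1⁻¹ * x.1 = (rep x').1⁻¹ * x'.1 :=
      congrArg (fun q => (q.2 : Y)) h
    rw [(hrep x').2 x h1] at h2
    exact Subtype.ext (mul_left_cancel h2)
  have := Nat.card_le_card_of_injective _ hinj
  rw [Nat.card_prod, Nat.card_fun, Nat.card_eq_fintype_card (α := S), Fintype.card_coe,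
    mul_comm] at this
  exact this

/-- In a `p`-group of order at least `p²` every centralizer has order at least `p²`. -/
theorem sq_le_card_centralizer {W : Type*} [Group W] [Finite W] {p : ℕ} [Fact p.Prime] {k : ℕ}
    (hW : Nat.card W = p ^ k) (hk : 2 ≤ k) (w : W) :
    p ^ 2 ≤ Nat.card (Subgroup.centralizer ({w} : Set W)) := by
  have hp := (Fact.out : p.Prime)
  have hWp : IsPGroup p W := IsPGroup.of_card hW
  obtain ⟨j, hj⟩ := IsPGroup.iff_card.1 (hWp.to_subgroup (Subgroup.centralizer ({w} : Set W)))
  rw [hj]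
  apply Nat.pow_le_pow_right hp.pos
  by_contra hlt
  push Not at hlt
  obtain ⟨i, hi0, hi⟩ := IsPGroup.card_center_eq_prime_pow hW (by omega : 0 < k)
  have hle : Subgroup.center W ≤ Subgroup.centralizer ({w} : Set W) :=
    Subgroup.center_le_centralizer _
  have hij : i ≤ j := by
    have := Subgroup.card_dvd_of_le hle
    rw [hi, hj] at this
    exact (Nat.pow_dvd_pow_iff_le_right hp.one_lt).1 this
  have hij' : i = j := by omega
  have heq : Subgroup.center W = Subgroup.centralizer ({w} : Set W) :=
    Subgroup.eq_of_le_of_card_ge hle (by rw [hi, hj, hij'])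
  have hw : w ∈ Subgroup.center W := by
    rw [heq, Subgroup.mem_centralizer_iff]
    intro y hy
    rw [Set.mem_singleton_iff.1 hy]
  have htop : Subgroup.centralizer ({w} : Set W) = ⊤ := by
    rw [eq_top_iff]
    intro g _
    rw [Subgroup.mem_centralizer_iff]
    intro y hy
    rw [Set.mem_singleton_iff.1 hy]
    exact (Subgroup.mem_center_iff.1 hw g).symm
  rw [htop, Subgroup.card_top, hW] at hj
  have := Nat.pow_right_injective hp.two_le hj
  omega

/-- A `p`-group of order `p^m` with an element whose centralizer has order `p²` has class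
`m - 1`. -/
theorem class_of_centralizer (p : ℕ) [Fact p.Prime] : ∀ (m : ℕ) (Y : Type u) [Group Y] [Finite Y],
    Nat.card Y = p ^ m → ∀ a : Y, Nat.card (Subgroup.centralizer ({a} : Set Y)) = p ^ 2 →
      Group.nilpotencyClass Y = m - 1 := by
  have hp := (Fact.out : p.Prime)
  intro m
  induction m with
  | zero =>
    intro Y _ _ hY a ha
    exfalso
    have h1 := Subgroup.card_le_card_group (Subgroup.centralizer ({a} : Set Y))
    rw [ha, hY, pow_zero] at h1
    have : 1 < p ^ 2 := Nat.one_lt_pow (by norm_num) hp.one_lt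
    omega
  | succ m ih =>
    intro Y _ _ hY a ha
    have hYp : IsPGroup p Y := IsPGroup.of_card hY
    haveI : Group.IsNilpotent Y := hYp.isNilpotent
    haveI : Nontrivial Y := by
      rw [← Finite.one_lt_card_iff_nontrivial, hY]
      exact Nat.one_lt_pow (by omega) hp.one_lt
    have haC : a ∈ Subgroup.centralizer ({a} : Set Y) := by
      rw [Subgroup.mem_centralizer_iff]
      intro y hy
      rw [Set.mem_singleton_iff.1 hy]
    by_cases hac : a ∈ Subgroup.center Y
    · -- `Y` has order `p²`
      have htop : Subgroup.centralizer ({a} : Set Y) = ⊤ := by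
        rw [eq_top_iff]
        intro g _
        rw [Subgroup.mem_centralizer_iff]
        intro y hy
        rw [Set.mem_singleton_iff.1 hy]
        exact (Subgroup.mem_center_iff.1 hac g).symm
      rw [htop, Subgroup.card_top] at ha
      have hm : m + 1 = 2 := Nat.pow_right_injective hp.two_le (hY.symm.trans ha)
      haveI hcomm : IsMulCommutative Y := IsPGroup.isMulCommutative_of_card_eq_prime_sq ha
      have hcen : Subgroup.center Y = ⊤ := by
        rw [eq_top_iff]
        intro g _
        rw [Subgroup.mem_center_iff]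
        intro h
        exact mul_comm' h g
      have hle : Group.nilpotencyClass Y ≤ 1 := by
        rw [← Subgroup.upperCentralSeries_eq_top_iff_nilpotencyClass_le,
          Subgroup.upperCentralSeries_one, hcen]
      have hne : Group.nilpotencyClass Y ≠ 0 := by
        rw [Ne, Group.nilpotencyClass_zero_iff_subsingleton]
        exact not_subsingleton Y
      omega
    · -- general case
      have hZle : Subgroup.center Y ≤ Subgroup.centralizer ({a} : Set Y) :=
        Subgroup.center_le_centralizer _
      obtain ⟨i, hi0, hi⟩ := IsPGroup.card_center_eq_prime_pow hY (by omega : 0 < m + 1)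
      have hZcard : Nat.card (Subgroup.center Y) = p := by
        have h1 := Subgroup.card_dvd_of_le hZle
        rw [hi, ha] at h1
        have h2 : i ≤ 2 := (Nat.pow_dvd_pow_iff_le_right hp.one_lt).1 h1
        have h3 : i ≠ 2 := by
          intro h
          apply hac
          have heq : Subgroup.center Y = Subgroup.centralizer ({a} : Set Y) :=
            Subgroup.eq_of_le_of_card_ge hZle (by rw [hi, ha, h])
          rw [heq]
          exact haC
        have : i = 1 := by omega
        rw [hi, this, pow_one]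
      have hm2 : 2 ≤ m := by
        by_contra hlt
        push Not at hlt
        have h1 := Subgroup.card_le_card_group (Subgroup.centralizer ({a} : Set Y))
        rw [ha, hY] at h1
        have h2 : 2 ≤ m + 1 := (Nat.pow_le_pow_iff_right hp.one_lt).1 h1
        have hm1 : m + 1 = 2 := by omega
        apply hac
        have htop : Subgroup.centralizer ({a} : Set Y) = ⊤ := by
          rw [← Subgroup.card_eq_iff_eq_top, ha, hY, hm1]
        have hg : ∀ g : Y, g ∈ Subgroup.centralizer ({a} : Set Y) := by
          intro g; rw [htop]; trivial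
        rw [Subgroup.mem_center_iff]
        intro g
        have := hg g
        rw [Subgroup.mem_centralizer_iff] at this
        exact (this a rfl).symm
      -- the quotient
      have hQcard : Nat.card (Y ⧸ Subgroup.center Y) = p ^ m := by
        have h1 := Subgroup.card_mul_index (Subgroup.center Y)
        rw [hZcard, hY, Subgroup.index_eq_card, pow_succ, mul_comm] at h1
        exact Nat.eq_of_mul_eq_mul_right hp.pos h1
      have hsurj : Function.Surjective (QuotientGroup.mk' (Subgroup.center Y)) :=
        QuotientGroup.mk'_surjective _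
      have hKcard : Nat.card (Subgroup.centralizer
          ({QuotientGroup.mk' (Subgroup.center Y) a} : Set (Y ⧸ Subgroup.center Y))) = p ^ 2 := by
        apply le_antisymm
        · -- upper bound
          obtain ⟨K, hK⟩ : ∃ K : Subgroup (Y ⧸ Subgroup.center Y), K = Subgroup.centralizer
            ({QuotientGroup.mk' (Subgroup.center Y) a} : Set (Y ⧸ Subgroup.center Y)) := ⟨_, rfl⟩
          rw [← hK]
          have hsub : ∀ x ∈ K.comap (QuotientGroup.mk' (Subgroup.center Y)),
              ∀ s ∈ ({a} : Finset Y), ⁅x, s⁆ ∈ Subgroup.center Y := by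
            intro x hx s hs
            rw [Finset.mem_singleton] at hs
            rw [hs]
            rw [Subgroup.mem_comap, hK, Subgroup.mem_centralizer_iff] at hx
            have h1 := hx _ rfl
            rw [← QuotientGroup.eq_one_iff, ← QuotientGroup.mk'_apply, commutatorElement_def,
              map_mul, map_mul, map_mul, map_inv, map_inv, ← h1]
            group
          have h1 : Nat.card (K.comap (QuotientGroup.mk' (Subgroup.center Y))) ≤
              Nat.card {x : Y // ∀ s ∈ ({a} : Finset Y), ⁅x, s⁆ ∈ Subgroup.center Y} :=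
            Nat.card_le_card_of_injective
              (fun x : K.comap (QuotientGroup.mk' (Subgroup.center Y)) =>
                (⟨x.1, hsub x.1 x.2⟩ :
                  {x : Y // ∀ s ∈ ({a} : Finset Y), ⁅x, s⁆ ∈ Subgroup.center Y}))
              (by
                intro x y h
                apply Subtype.ext
                have h' := congrArg Subtype.val h
                exact h')
          have h2 := card_stab_le (Subgroup.center Y) ({a} : Finset Y)
          rw [Finset.coe_singleton, ha, hZcard, Finset.card_singleton, pow_one] at h2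
          have h3 : Nat.card (K.comap (QuotientGroup.mk' (Subgroup.center Y))) = Nat.card K * p := by
            have e1 := Subgroup.card_mul_index (K.comap (QuotientGroup.mk' (Subgroup.center Y)))
            rw [Subgroup.index_comap_of_surjective _ hsurj, hY] at e1
            have e2 := Subgroup.card_mul_index K
            rw [hQcard] at e2
            have hidx : 0 < K.index := Nat.pos_of_ne_zero Subgroup.index_ne_zero_of_finite
            have : Nat.card (K.comap (QuotientGroup.mk' (Subgroup.center Y))) * K.index =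
                Nat.card K * p * K.index := by
              rw [e1, mul_right_comm, e2, pow_succ]
            exact Nat.eq_of_mul_eq_mul_right hidx this
          have h4 : Nat.card K * p ≤ p ^ 2 * p := by rw [← h3]; exact h1.trans h2
          exact Nat.le_of_mul_le_mul_right h4 hp.pos
        · exact sq_le_card_centralizer hQcard hm2 _
      have hcl := ih (Y ⧸ Subgroup.center Y) hQcard _ hKcard
      rw [Group.nilpotencyClass_eq_quotient_center_plus_one, hcl]
      omega

theorem card_comap_mk {Y : Type*} [Group Y] (N : Subgroup Y) [N.Normal] (K : Subgroup (Y ⧸ N)) :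
    Nat.card (K.comap (QuotientGroup.mk' N)) = Nat.card N * Nat.card K :=
  QuotientGroup.card_preimage_mk N (K : Set (Y ⧸ N))

theorem comm_of_card_dvd_sq {Y : Type*} [Group Y] {p : ℕ} [Fact p.Prime] (H : Subgroup Y)
    (hH : Nat.card H ∣ p ^ 2) (x y : Y) (hx : x ∈ H) (hy : y ∈ H) : x * y = y * x := by
  have hp := (Fact.out : p.Prime)
  obtain ⟨j, hj2, hj⟩ := (Nat.dvd_prime_pow hp).1 hH
  have key : ∀ u v : H, u * v = v * u := by
    interval_cases j
    · rw [pow_zero] at hj
      haveI : Subsingleton H := (Nat.card_eq_one_iff_unique.1 hj).1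
      intro u v
      exact Subsingleton.elim _ _
    · rw [pow_one] at hj
      haveI : IsCyclic H := isCyclic_of_prime_card hj
      intro u v
      exact IsCyclic.commGroup.mul_comm u v
    · haveI := IsPGroup.isMulCommutative_of_card_eq_prime_sq hj
      intro u v
      exact mul_comm' u v
  exact congrArg Subtype.val (key ⟨x, hx⟩ ⟨y, hy⟩)

/-- If `H ≤ A`, `|A| = p^k`, and `H` strictly contains a subgroup of order `p^(k-1)`, then `H = A`. -/
theorem eq_of_lt_of_card {Y : Type*} [Group Y] [Finite Y] {p : ℕ} [Fact p.Prime] (C H A : Subgroup Y)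
    (k : ℕ) (hCH : C ≤ H) (hHA : H ≤ A) (hC : Nat.card C = p ^ k) (hA : Nat.card A = p ^ (k + 1))
    (hne : ¬ H ≤ C) : H = A := by
  have hp := (Fact.out : p.Prime)
  have h1 := Subgroup.card_dvd_of_le hHA
  rw [hA] at h1
  obtain ⟨j, hj1, hj⟩ := (Nat.dvd_prime_pow hp).1 h1
  have h2 := Subgroup.card_dvd_of_le hCH
  rw [hC, hj] at h2
  have h3 : k ≤ j := (Nat.pow_dvd_pow_iff_le_right hp.one_lt).1 h2
  have h4 : k ≠ j := by
    intro h
    apply hne
    have : C = H := Subgroup.eq_of_le_of_card_ge hCH (by rw [hC, hj, h])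
    rw [this]
  have h5 : j = k + 1 := by omega
  exact Subgroup.eq_of_le_of_card_ge hHA (by rw [hA, hj, h5])

/-- A `p`-group of order `p^m` with a self-centralizing subgroup of order `p²` has class `m - 1`. -/
theorem class_of_self_centralizing (p : ℕ) [Fact p.Prime] (m : ℕ) (Y : Type u) [Group Y] [Finite Y]
    (hY : Nat.card Y = p ^ m) (A : Subgroup Y) (hA : Nat.card A = p ^ 2)
    (hCA : Subgroup.centralizer (A : Set Y) ≤ A) : Group.nilpotencyClass Y = m - 1 := by
  have hp := (Fact.out : p.Prime)
  haveI : IsMulCommutative A := IsPGroup.isMulCommutative_of_card_eq_prime_sq hA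
  have hAC : A ≤ Subgroup.centralizer (A : Set Y) := Subgroup.le_centralizer A
  have hCeq : Subgroup.centralizer (A : Set Y) = A := le_antisymm hCA hAC
  have hm2 : 2 ≤ m := by
    have h1 := Subgroup.card_le_card_group A
    rw [hA, hY] at h1
    exact (Nat.pow_le_pow_iff_right hp.one_lt).1 h1
  by_cases hAZ : A ≤ Subgroup.center Y
  · have htop : A = ⊤ := by
      rw [← hCeq, Subgroup.centralizer_eq_top_iff_subset]
      exact hAZ
    apply class_of_centralizer p m Y hY 1
    have h1 : Subgroup.centralizer ({1} : Set Y) = ⊤ := by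
      rw [Subgroup.centralizer_eq_top_iff_subset]
      intro y hy
      rw [Set.mem_singleton_iff.1 hy]
      exact one_mem _
    rw [h1, ← htop, hA]
  · obtain ⟨a, haA, haZ⟩ := SetLike.not_le_iff_exists.1 hAZ
    apply class_of_centralizer p m Y hY a
    have hZA : Subgroup.center Y ≤ A := (Subgroup.center_le_centralizer _).trans hCA
    obtain ⟨i, hi0, hi⟩ := IsPGroup.card_center_eq_prime_pow hY (by omega : 0 < m)
    have hi1 : i = 1 := by
      have h1 := Subgroup.card_dvd_of_le hZA
      rw [hi, hA] at h1
      have h2 : i ≤ 2 := (Nat.pow_dvd_pow_iff_le_right hp.one_lt).1 h1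
      have h3 : i ≠ 2 := by
        intro h
        apply haZ
        have : Subgroup.center Y = A := Subgroup.eq_of_le_of_card_ge hZA (by rw [hi, hA, h])
        rw [this]
        exact haA
      omega
    have hD : Subgroup.zpowers a ⊔ Subgroup.center Y = A := by
      apply eq_of_lt_of_card (Subgroup.center Y) _ A 1 le_sup_right
        (sup_le ((Subgroup.zpowers_le).2 haA) hZA) (by rw [hi, hi1]) hA
      intro h
      exact haZ (h (le_sup_left (a := Subgroup.zpowers a) (Subgroup.mem_zpowers a)))
    have hle : Subgroup.centralizer ({a} : Set Y) ≤ A := by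
      intro x hx
      apply hCA
      rw [Subgroup.mem_centralizer_iff]
      intro d hd
      have hd' : d ∈ Subgroup.zpowers a ⊔ Subgroup.center Y := by rw [hD]; exact hd
      have hsub : Subgroup.zpowers a ⊔ Subgroup.center Y ≤ Subgroup.centralizer ({x} : Set Y) := by
        apply sup_le
        · rw [Subgroup.zpowers_le, Subgroup.mem_centralizer_singleton_iff]
          exact (Subgroup.mem_centralizer_singleton_iff.1 hx).symm
        · exact Subgroup.center_le_centralizer _
      exact (Subgroup.mem_centralizer_singleton_iff.1 (hsub hd'))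
    have hge : A ≤ Subgroup.centralizer ({a} : Set Y) :=
      hAC.trans (Subgroup.centralizer_le (by
        intro y hy
        rw [Set.mem_singleton_iff.1 hy]
        exact haA))
    rw [le_antisymm hle hge, hA]

/-- Let X be a finite p-group of order p^n containing a non-abelian subgroup B of order p³ with C_X(B) ≤ B. Then X has nilpotency class n − 1 (maximal class). -/
theorem result {X : Type*} [Group X] [Finite X] {p : ℕ} [Fact p.Prime] (n : ℕ) (hX : Nat.card X = p ^ n)
    (B : Subgroup X) (hB : Nat.card B = p ^ 3) (hBna : ¬ IsMulCommutative B) (hC : Subgroup.centralizer (B : Set X) ≤ B) :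
    Group.nilpotencyClass X = n - 1 := by
  classical
  have hp := (Fact.out : p.Prime)
  have hXp : IsPGroup p X := IsPGroup.of_card hX
  haveI : Group.IsNilpotent X := hXp.isNilpotent
  have hn3 : 3 ≤ n := by
    have h1 := Subgroup.card_le_card_group B
    rw [hB, hX] at h1
    exact (Nat.pow_le_pow_iff_right hp.one_lt).1 h1
  haveI : Nontrivial X := by
    rw [← Finite.one_lt_card_iff_nontrivial, hX]
    exact Nat.one_lt_pow (by omega) hp.one_lt
  -- a noncommuting pair
  obtain ⟨b₁, hb₁, b₂, hb₂, hne⟩ : ∃ b₁ ∈ B, ∃ b₂ ∈ B, b₁ * b₂ ≠ b₂ * b₁ := by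
    by_contra h
    push Not at h
    apply hBna
    exact ⟨⟨fun x y => Subtype.ext (h x.1 x.2 y.1 y.2)⟩⟩
  obtain ⟨C₀, hC₀⟩ : ∃ C₀ : Subgroup X, C₀ = Subgroup.centralizer (B : Set X) := ⟨_, rfl⟩
  rw [← hC₀] at hC
  have hZC : Subgroup.center X ≤ C₀ := by rw [hC₀]; exact Subgroup.center_le_centralizer _
  have hb₁C : b₁ ∉ C₀ := by
    intro h
    rw [hC₀, Subgroup.mem_centralizer_iff] at h
    exact hne (h b₂ hb₂).symm
  obtain ⟨i, hi0, hi⟩ := IsPGroup.card_center_eq_prime_pow hX (by omega : 0 < n)
  have hC₀card : Nat.card C₀ = p := by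
    have h1 := Subgroup.card_dvd_of_le hC
    rw [hB] at h1
    obtain ⟨c, hc3, hc⟩ := (Nat.dvd_prime_pow hp).1 h1
    have h2 := Subgroup.card_dvd_of_le hZC
    rw [hi, hc] at h2
    have h3 : i ≤ c := (Nat.pow_dvd_pow_iff_le_right hp.one_lt).1 h2
    have hc3' : c ≠ 3 := by
      intro h
      apply hb₁C
      have : C₀ = B := Subgroup.eq_of_le_of_card_ge hC (by rw [hB, hc, h])
      rw [this]; exact hb₁
    have hc2 : c ≠ 2 := by
      intro h
      have hD : Subgroup.zpowers b₁ ⊔ C₀ = B := by
        apply eq_of_lt_of_card C₀ _ B 2 le_sup_right (sup_le ((Subgroup.zpowers_le).2 hb₁) hC)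
          (by rw [hc, h]) hB
        intro h'
        exact hb₁C (h' (le_sup_left (a := Subgroup.zpowers b₁) (Subgroup.mem_zpowers b₁)))
      have hsub : Subgroup.zpowers b₁ ⊔ C₀ ≤ Subgroup.centralizer ({b₁} : Set X) := by
        apply sup_le
        · rw [Subgroup.zpowers_le, Subgroup.mem_centralizer_singleton_iff]
        · rw [hC₀]
          exact Subgroup.centralizer_le (by
            intro y hy; rw [Set.mem_singleton_iff.1 hy]; exact hb₁)
      rw [hD] at hsub
      exact hne (Subgroup.mem_centralizer_singleton_iff.1 (hsub hb₂)).symm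
    have : c = 1 := by omega
    rw [hc, this, pow_one]
  have hZeq : Subgroup.center X = C₀ := by
    apply Subgroup.eq_of_le_of_card_ge hZC
    rw [hC₀card, hi]
    calc p = p ^ 1 := (pow_one p).symm
      _ ≤ p ^ i := Nat.pow_le_pow_right hp.pos hi0
  have hZcard : Nat.card (Subgroup.center X) = p := by rw [hZeq, hC₀card]
  -- the centralizer of the pair
  have hpair : Subgroup.centralizer (({b₁, b₂} : Finset X) : Set X) ≤ C₀ := by
    intro x hx
    rw [Finset.coe_pair, Subgroup.mem_centralizer_iff] at hx
    have hx1 : b₁ * x = x * b₁ := hx b₁ (by simp)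
    have hx2 : b₂ * x = x * b₂ := hx b₂ (by simp)
    have hE : Subgroup.centralizer ({x} : Set X) ⊓ B = B := by
      by_contra hEne
      have hle : Subgroup.centralizer ({x} : Set X) ⊓ B ≤ B := inf_le_right
      have h1 := Subgroup.card_dvd_of_le hle
      rw [hB] at h1
      obtain ⟨j, hj3, hj⟩ := (Nat.dvd_prime_pow hp).1 h1
      have hj3' : j ≠ 3 := by
        intro h
        exact hEne (Subgroup.eq_of_le_of_card_ge hle (by rw [hB, hj, h]))
      have hdvd : Nat.card (Subgroup.centralizer ({x} : Set X) ⊓ B : Subgroup X) ∣ p ^ 2 := by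
        rw [hj]; exact pow_dvd_pow p (by omega)
      apply hne
      apply comm_of_card_dvd_sq _ hdvd
      · exact ⟨Subgroup.mem_centralizer_singleton_iff.2 hx1, hb₁⟩
      · exact ⟨Subgroup.mem_centralizer_singleton_iff.2 hx2, hb₂⟩
    rw [hC₀, Subgroup.mem_centralizer_iff]
    intro b hb
    have : b ∈ Subgroup.centralizer ({x} : Set X) ⊓ B := by rw [hE]; exact hb
    exact Subgroup.mem_centralizer_singleton_iff.1 this.1
  -- the quotient
  have hQcard : Nat.card (X ⧸ Subgroup.center X) = p ^ (n - 1) := by
    have h1 := Subgroup.card_mul_index (Subgroup.center X)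
    rw [hZcard, hX, Subgroup.index_eq_card] at h1
    have : p ^ n = p * p ^ (n - 1) := by
      rw [← pow_succ']; congr 1; omega
    rw [this] at h1
    exact Nat.eq_of_mul_eq_mul_left hp.pos h1
  obtain ⟨Bb, hBb⟩ : ∃ Bb : Subgroup (X ⧸ Subgroup.center X),
      Bb = B.map (QuotientGroup.mk' (Subgroup.center X)) := ⟨_, rfl⟩
  have hcomap : Bb.comap (QuotientGroup.mk' (Subgroup.center X)) = B := by
    rw [hBb]
    apply Subgroup.comap_map_eq_self
    rw [QuotientGroup.ker_mk', hZeq]
    exact hC
  have hBbcard : Nat.card Bb = p ^ 2 := by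
    have h1 := card_comap_mk (Subgroup.center X) Bb
    rw [hcomap, hB, hZcard] at h1
    have : p ^ 3 = p * p ^ 2 := by ring
    rw [this] at h1
    exact (Nat.eq_of_mul_eq_mul_left hp.pos h1).symm
  obtain ⟨K, hK⟩ : ∃ K : Subgroup (X ⧸ Subgroup.center X),
      K = Subgroup.centralizer (Bb : Set (X ⧸ Subgroup.center X)) := ⟨_, rfl⟩
  have hsub : ∀ x ∈ K.comap (QuotientGroup.mk' (Subgroup.center X)),
      ∀ s ∈ ({b₁, b₂} : Finset X), ⁅x, s⁆ ∈ Subgroup.center X := by
    intro x hx s hs
    rw [Subgroup.mem_comap, hK, Subgroup.mem_centralizer_iff] at hx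
    have hsB : s ∈ B := by
      rw [Finset.mem_insert, Finset.mem_singleton] at hs
      rcases hs with rfl | rfl
      · exact hb₁
      · exact hb₂
    have h1 := hx (QuotientGroup.mk' (Subgroup.center X) s)
      (by rw [hBb]; exact Subgroup.mem_map_of_mem _ hsB)
    rw [← QuotientGroup.eq_one_iff, ← QuotientGroup.mk'_apply, commutatorElement_def,
      map_mul, map_mul, map_mul, map_inv, map_inv, ← h1]
    group
  have h1 : Nat.card (K.comap (QuotientGroup.mk' (Subgroup.center X))) ≤
      Nat.card {x : X // ∀ s ∈ ({b₁, b₂} : Finset X), ⁅x, s⁆ ∈ Subgroup.center X} :=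
    Nat.card_le_card_of_injective
      (fun x : K.comap (QuotientGroup.mk' (Subgroup.center X)) =>
        (⟨x.1, hsub x.1 x.2⟩ :
          {x : X // ∀ s ∈ ({b₁, b₂} : Finset X), ⁅x, s⁆ ∈ Subgroup.center X}))
      (by
        intro x y h
        apply Subtype.ext
        have h' := congrArg Subtype.val h
        exact h')
  have h2 := card_stab_le (Subgroup.center X) ({b₁, b₂} : Finset X)
  have hb12 : b₁ ≠ b₂ := by
    intro h; apply hne; rw [h]
  rw [Finset.card_pair hb12, hZcard] at h2
  have h3 : Nat.card (Subgroup.centralizer (({b₁, b₂} : Finset X) : Set X)) ≤ p := by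
    rw [← hC₀card]
    exact Subgroup.card_le_of_le hpair
  have h4 : Nat.card K * p ≤ p ^ 2 * p := by
    have h5 := card_comap_mk (Subgroup.center X) K
    rw [hZcard] at h5
    calc Nat.card K * p = p * Nat.card K := mul_comm _ _
      _ = _ := h5.symm
      _ ≤ _ := h1
      _ ≤ _ := h2
      _ ≤ p * p ^ 2 := Nat.mul_le_mul_right _ h3
      _ = p ^ 2 * p := mul_comm _ _
  have hKcard : Nat.card K ≤ p ^ 2 := Nat.le_of_mul_le_mul_right h4 hp.pos
  haveI : IsMulCommutative Bb := IsPGroup.isMulCommutative_of_card_eq_prime_sq hBbcard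
  have hBK : Bb ≤ K := by rw [hK]; exact Subgroup.le_centralizer Bb
  have hKB : K = Bb := (Subgroup.eq_of_le_of_card_ge hBK (by rw [hBbcard]; exact hKcard)).symm
  have hcl := class_of_self_centralizing p (n - 1) (X ⧸ Subgroup.center X) hQcard Bb hBbcard
    (by rw [← hK, hKB])
  rw [Group.nilpotencyClass_eq_quotient_center_plus_one, hcl]
  omega

end Cfsg.Agent.S4143
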