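import Cfsg.Statements.S4145
import Mathlib
import Cfsg.Agent.Lib.L0.TransferPC
import Cfsg.Agent.Lib.L0.HallCentral
import Cfsg.Agent.Lib.H22.CyclicSylow
import Cfsg.Agent.Lib.H19.SylowAux
import Cfsg.Agent.Lib.H10.LocalGlobal
import Cfsg.Agent.Lib.H10.Conj
import Cfsg.Agent.Lib.H10.SylowIn

set_option autoImplicit false
open Cfsg

namespace Cfsg.Agent.S4145

open Cfsg.Agent.Lib.L0 Cfsg.Agent.Lib.H22 Cfsg.Agent.Lib.H10

/-- Burnside's transfer theorem for a subgroup `H` with a "Sylow-in" subgroup `Q`. -/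
lemma hasNPC_of_sylowIn {G : Type*} [Group G] [Finite G] {p : ℕ} [Fact p.Prime] (H Q : Subgroup G)
    (hQH : Q ≤ H) (hQp : IsPGroup p Q) (hidx : ¬ p ∣ Q.relIndex H)
    (h : ∀ g ∈ H, g ∈ Subgroup.normalizer (Q : Set G) → g ∈ Subgroup.centralizer (Q : Set G)) :
    Cfsg.HasNormalPComplement p H := by
  have hQ' : IsPGroup p (Q.subgroupOf H) := hQp.comap_subtype
  let S : Sylow p H := hQ'.toSylow hidx
  have hS : ∀ y : H, y ∈ S ↔ (y : G) ∈ Q := fun y => Iff.rfl
  apply hasNormalPComplement_of_normalizer_le_centralizer S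
  intro g hg
  have hgN : (g : G) ∈ Subgroup.normalizer (Q : Set G) := by
    rw [Subgroup.mem_normalizer_iff] at hg ⊢
    intro y
    constructor
    · intro hy
      have := (hg ⟨y, hQH hy⟩).1 ((hS _).2 hy)
      exact (hS _).1 this
    · intro hy
      have hyH : y ∈ H := by
        have h1 : (g : G) * y * (g : G)⁻¹ ∈ H := hQH hy
        have : y = (g : G)⁻¹ * ((g : G) * y * (g : G)⁻¹) * (g : G) := by group
        rw [this]; exact H.mul_mem (H.mul_mem (H.inv_mem g.2) h1) g.2
      have := (hg ⟨y, hyH⟩).2 ((hS _).2 hy)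
      exact (hS _).1 this
  have hgC := h g g.2 hgN
  rw [Subgroup.mem_centralizer_iff] at hgC ⊢
  intro y hy
  exact Subtype.ext (hgC y ((hS y).1 hy))

/-- Let G be a finite group with a cyclic Sylow p-subgroup and H a normal subgroup such that p divides both the order of H and the index of H. Then H has a normal p-complement and G is p-solvable. -/
theorem result {G : Type*} [Group G] [Finite G] (p : ℕ) [Fact p.Prime]
    (P : Sylow p G) (hP : IsCyclic (P : Subgroup G)) (H : Subgroup G) [H.Normal] (h1 : p ∣ Nat.card H) (h2 : p ∣ H.index) :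
    Cfsg.HasNormalPComplement p H ∧ Cfsg.IsPSolvable p G := by
  have hp : p.Prime := Fact.out
  obtain ⟨x0, hx0⟩ := hP.exists_generator
  have hx : Subgroup.zpowers (x0 : G) = (P : Subgroup G) := by
    ext y
    constructor
    · intro hy
      obtain ⟨k, rfl⟩ := Subgroup.mem_zpowers_iff.1 hy
      exact Subgroup.zpow_mem _ x0.2 k
    · intro hy
      obtain ⟨k, hk⟩ := Subgroup.mem_zpowers_iff.1 (hx0 ⟨y, hy⟩)
      refine Subgroup.mem_zpowers_iff.2 ⟨k, ?_⟩
      have := congrArg Subtype.val hk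
      simpa using this
  have key : ∃ x : G, Subgroup.zpowers x = (P : Subgroup G) := ⟨x0, hx⟩
  clear hx hx0
  clear x0
  obtain ⟨x0, hx⟩ := key
  have hxP : (x0 : G) ∈ (P : Subgroup G) := by rw [← hx]; exact Subgroup.mem_zpowers x0
  obtain ⟨n, hn⟩ := P.2.exists_card_eq
  have hord : orderOf (x0 : G) = p ^ n := by
    rw [← Nat.card_zpowers, hx]; exact hn
  have hPab : (P : Subgroup G) ≤ Subgroup.centralizer ((P : Subgroup G) : Set G) :=
    le_centralizer_of_zpowers hx
  have hPH : ¬ (P : Subgroup G) ≤ H := fun hle =>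
    P.not_dvd_index (dvd_trans h2 (Subgroup.index_dvd_of_le hle))
  obtain ⟨Q, hQdef⟩ : ∃ Q : Subgroup G, Q = (P : Subgroup G) ⊓ H := ⟨_, rfl⟩
  have hQP : Q ≤ (P : Subgroup G) := by rw [hQdef]; exact inf_le_left
  have hQH : Q ≤ H := by rw [hQdef]; exact inf_le_right
  have hQp : IsPGroup p Q := P.2.to_le hQP
  have hQidx : ¬ p ∣ Q.relIndex H := by
    rw [hQdef]; exact Cfsg.Agent.Lib.H19.not_dvd_relIndex_inf_normal P H
  have hCQ : Subgroup.centralizer ((P : Subgroup G) : Set G) ≤ Subgroup.centralizer (Q : Set G) :=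
    Subgroup.centralizer_le hQP
  -- Step B
  have stepB : ∀ g ∈ H, g ∈ Subgroup.normalizer ((P : Subgroup G) : Set G) →
      g ∈ Subgroup.centralizer ((P : Subgroup G) : Set G) := by
    intro g hgH hgN
    have hconj : g * x0 * g⁻¹ ∈ Subgroup.zpowers x0 := by
      rw [hx]; exact (Subgroup.mem_normalizer_iff.1 hgN _).1 hxP
    obtain ⟨s, hs⟩ := Subgroup.mem_zpowers_iff.1 hconj
    apply mem_centralizer_of_conj_zpow P hx hgN hs.symm
    by_contra hps
    have h3 : (x0 : G) ^ (s - 1) ∈ Q := by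
      have e : (x0 : G) ^ (s - 1) = g * x0 * g⁻¹ * (x0 : G)⁻¹ := by rw [zpow_sub_one, hs]
      rw [hQdef]
      constructor
      · exact Subgroup.zpow_mem _ hxP _
      · rw [e]
        have h4 : (x0 : G) * g⁻¹ * (x0 : G)⁻¹ ∈ H :=
          (inferInstance : H.Normal).conj_mem _ (H.inv_mem hgH) _
        have e2 : g * x0 * g⁻¹ * (x0 : G)⁻¹ = g * ((x0 : G) * g⁻¹ * (x0 : G)⁻¹) := by group
        rw [e2]
        exact H.mul_mem hgH h4
    have h4 : (x0 : G) ∈ Q := mem_of_zpow_mem_of_not_dvd hord hps h3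
    apply hPH
    rw [← hx, Subgroup.zpowers_le]
    exact hQH h4
  -- Step C
  have stepC : ∀ g ∈ H, g ∈ Subgroup.normalizer (Q : Set G) →
      g ∈ Subgroup.centralizer (Q : Set G) := by
    intro g hgH hgN
    obtain ⟨C₁, hC₁⟩ : ∃ C₁ : Subgroup G,
        C₁ = Subgroup.centralizer (Q : Set G) ⊓ ((P : Subgroup G) ⊔ H) := ⟨_, rfl⟩
    have hPC : (P : Subgroup G) ≤ C₁ := by
      rw [hC₁]; exact le_inf (hPab.trans hCQ) le_sup_left
    have hP'C : (P : Subgroup G).map (MulAut.conj g).toMonoidHom ≤ C₁ := by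
      rintro _ ⟨u, hu, rfl⟩
      rw [hC₁, Subgroup.mem_inf]
      constructor
      · rw [Subgroup.mem_centralizer_iff]
        intro q hq
        simp only [MulEquiv.coe_toMonoidHom, MulAut.conj_apply]
        -- g⁻¹ q g ∈ Q commutes with u
        have hq' : g⁻¹ * q * g ∈ Q := by
          have := (Subgroup.mem_normalizer_iff.1 (Subgroup.inv_mem _ hgN) q).1 hq
          simpa using this
        have hc : (g⁻¹ * q * g) * u = u * (g⁻¹ * q * g) :=
          (Subgroup.mem_centralizer_iff.1 ((hPab.trans hCQ) hu)) _ hq'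
        calc q * (g * u * g⁻¹) = g * ((g⁻¹ * q * g) * u) * g⁻¹ := by group
          _ = g * (u * (g⁻¹ * q * g)) * g⁻¹ := by rw [hc]
          _ = g * u * g⁻¹ * q := by group
      · simp only [MulEquiv.coe_toMonoidHom, MulAut.conj_apply]
        have h4 : u⁻¹ * g * u ∈ H := by
          have := (inferInstance : H.Normal).conj_mem _ hgH u⁻¹
          simpa using this
        have e : g * u * g⁻¹ = u * ((u⁻¹ * g * u) * g⁻¹) := by group
        rw [e]
        exact Subgroup.mul_mem _ (Subgroup.mem_sup_left hu)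
          (Subgroup.mem_sup_right (H.mul_mem h4 (H.inv_mem hgH)))
    have hi1 : ¬ p ∣ (P : Subgroup G).relIndex C₁ := not_dvd_relIndex_of_sylow_le P hPC
    have hi2 : ¬ p ∣ ((P : Subgroup G).map (MulAut.conj g).toMonoidHom).relIndex C₁ := by
      have := not_dvd_relIndex_of_sylow_le (g • P) (K := C₁) (by
        rw [coe_smul_sylow_eq_map]; exact hP'C)
      rwa [coe_smul_sylow_eq_map] at this
    obtain ⟨m, hm, hmP⟩ := exists_mem_map_conj_eq_of_sylowIn P.2 hPC hi1 (P.2.map _) hP'C hi2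
    rw [map_conj_map_conj] at hmP
    have hmg : m * g ∈ Subgroup.normalizer ((P : Subgroup G) : Set G) :=
      mem_normalizer_iff_map_conj.2 hmP
    rw [hC₁] at hm
    obtain ⟨hmC, hmPH⟩ := hm
    obtain ⟨u, hu, h, hh, rfl⟩ := Subgroup.mem_sup_of_normal_right.1 hmPH
    -- h * g ∈ N(P) ∩ H
    have hhg : h * g ∈ Subgroup.normalizer ((P : Subgroup G) : Set G) := by
      have hu' : u⁻¹ ∈ Subgroup.normalizer ((P : Subgroup G) : Set G) :=
        Subgroup.inv_mem _ (Subgroup.le_normalizer hu)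
      have := Subgroup.mul_mem _ hu' hmg
      have e : u⁻¹ * (u * h * g) = h * g := by group
      rwa [e] at this
    have hhgC := hCQ (stepB (h * g) (H.mul_mem hh hgH) hhg)
    have hhC : h ∈ Subgroup.centralizer (Q : Set G) := by
      have hu' : u⁻¹ ∈ Subgroup.centralizer (Q : Set G) :=
        Subgroup.inv_mem _ ((hPab.trans hCQ) hu)
      have := Subgroup.mul_mem _ hu' hmC
      have e : u⁻¹ * (u * h) = h := by group
      rwa [e] at this
    have := Subgroup.mul_mem _ (Subgroup.inv_mem _ hhC) hhgC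
    have e : h⁻¹ * (h * g) = g := by group
    rwa [e] at this
  have part1 : Cfsg.HasNormalPComplement p H := hasNPC_of_sylowIn H Q hQH hQp hQidx stepC
  refine ⟨part1, ?_⟩
  -- Part 2
  obtain ⟨L', hL'n, hL'p, k, hL'idx⟩ := HasNormalPComplement.exists_normal part1
  have hL'cop : Nat.Coprime (Nat.card L') L'.index := by
    rw [hL'idx]
    exact Nat.Coprime.pow_right k ((Nat.Prime.coprime_iff_not_dvd hp).2 hL'p).symm
  haveI hLn : (L'.map H.subtype).Normal := normal_map_subtype_of_coprime H L' hL'cop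
  obtain ⟨L, hL⟩ : ∃ L : Subgroup G, L = L'.map H.subtype := ⟨_, rfl⟩
  haveI hLn' : L.Normal := by rw [hL]; exact hLn
  have hLH : L ≤ H := by rw [hL]; exact Subgroup.map_subtype_le _
  have hLcard : Nat.card L = Nat.card L' := by
    rw [hL]
    exact Nat.card_congr (Subgroup.equivMapOfInjective _ _ (Subgroup.subtype_injective H)).symm.toEquiv
  have hLp : ¬ p ∣ Nat.card L := by rw [hLcard]; exact hL'p
  have hLrel : L.relIndex H = p ^ k := by
    rw [← hL'idx, hL, Subgroup.relIndex, Subgroup.subgroupOf,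
      Subgroup.comap_map_eq_self_of_injective (Subgroup.subtype_injective H)]
  -- Q ≠ ⊥
  have hQne : ∃ q ∈ Q, q ≠ 1 := by
    have hcard := Cfsg.Agent.Lib.H19.card_mul_relIndex hQH
    have hpQ : p ∣ Nat.card Q := by
      rw [← hcard] at h1
      rcases (Nat.Prime.dvd_mul hp).1 h1 with h | h
      · exact h
      · exact absurd h hQidx
    have hQbot : Q ≠ ⊥ := by
      intro h
      rw [h, Subgroup.card_bot] at hpQ
      exact hp.one_lt.ne' (Nat.dvd_one.1 hpQ)
    obtain ⟨⟨q, hq⟩, hq1⟩ := Subgroup.ne_bot_iff_exists_ne_one.1 hQbot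
    exact ⟨q, hq, fun h => hq1 (Subtype.ext h)⟩
  -- P ⊓ L = ⊥
  have hPL : (P : Subgroup G) ⊓ L = ⊥ := by
    apply Subgroup.inf_eq_bot_of_coprime
    rw [hn]
    exact Nat.Coprime.pow_left n ((Nat.Prime.coprime_iff_not_dvd hp).2 hLp)
  -- the quotient map
  obtain ⟨π, hπ⟩ : ∃ π : G →* G ⧸ L, π = QuotientGroup.mk' L := ⟨_, rfl⟩
  have hπker : π.ker = L := by rw [hπ]; exact QuotientGroup.ker_mk' L
  have hπsurj : Function.Surjective π := by rw [hπ]; exact QuotientGroup.mk'_surjective L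
  have hHbar_card : Nat.card (H.map π) = p ^ k := by
    have h3 : π.ker.relIndex H = Nat.card (H.map π) := Subgroup.relIndex_ker H π
    have h4 : π.ker.relIndex H = L.relIndex H := congrArg (fun K : Subgroup G => K.relIndex H) hπker
    rw [← h3, h4, hLrel]
  have hHbar_p : IsPGroup p (H.map π) := IsPGroup.of_card hHbar_card
  haveI : (H.map π).Normal := Subgroup.Normal.map inferInstance π hπsurj
  have hHP : H.map π ≤ (P : Subgroup G).map π := by
    have := hHbar_p.le_sylow_of_normal (P.mapSurjective hπsurj)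
    rwa [Sylow.coe_mapSurjective] at this
  obtain ⟨Ct, hCt⟩ : ∃ Ct : Subgroup G, Ct =
      (Subgroup.centralizer ((H.map π : Subgroup (G ⧸ L)) : Set (G ⧸ L))).comap π := ⟨_, rfl⟩
  haveI hCtn : Ct.Normal := by rw [hCt]; exact Subgroup.Normal.comap inferInstance π
  have hmemCt : ∀ g : G, g ∈ Ct ↔ ∀ h ∈ H, π h * π g = π g * π h := by
    intro g
    rw [hCt, Subgroup.mem_comap, Subgroup.mem_centralizer_iff]
    constructor
    · intro hg h hh; exact hg (π h) ⟨h, hh, rfl⟩
    · rintro hg _ ⟨h, hh, rfl⟩; exact hg h hh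
  have hPCt : (P : Subgroup G) ≤ Ct := by
    intro u hu
    rw [hmemCt]
    intro h hh
    obtain ⟨u', hu', hu'h⟩ := hHP ⟨h, hh, rfl⟩
    rw [← hu'h, ← map_mul, ← map_mul]
    congr 1
    exact (Subgroup.mem_centralizer_iff.1 (hPab hu)) u' hu'
  -- Burnside in Ct
  have hCtB : ∀ g ∈ Ct, g ∈ Subgroup.normalizer ((P : Subgroup G) : Set G) →
      g ∈ Subgroup.centralizer ((P : Subgroup G) : Set G) := by
    intro g hgC hgN
    have hconj : g * x0 * g⁻¹ ∈ Subgroup.zpowers x0 := by
      rw [hx]; exact (Subgroup.mem_normalizer_iff.1 hgN _).1 hxP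
    obtain ⟨s, hs⟩ := Subgroup.mem_zpowers_iff.1 hconj
    apply mem_centralizer_of_conj_zpow P hx hgN hs.symm
    obtain ⟨q, hq, hq1⟩ := hQne
    have hgq : g * q * g⁻¹ = q := by
      have h3 : g * q * g⁻¹ * q⁻¹ ∈ L := by
        rw [← hπker, MonoidHom.mem_ker]
        simp only [map_mul, map_inv]
        have := (hmemCt g).1 hgC q (hQH hq)
        rw [← this]
        group
      have h4 : g * q * g⁻¹ * q⁻¹ ∈ (P : Subgroup G) :=
        Subgroup.mul_mem _ ((Subgroup.mem_normalizer_iff.1 hgN q).1 (hQP hq))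
          (Subgroup.inv_mem _ (hQP hq))
      have h5 : g * q * g⁻¹ * q⁻¹ ∈ (P : Subgroup G) ⊓ L := ⟨h4, h3⟩
      rw [hPL, Subgroup.mem_bot] at h5
      exact mul_inv_eq_one.1 h5
    have hqz : q ∈ Subgroup.zpowers x0 := by rw [hx]; exact hQP hq
    obtain ⟨j, hj⟩ := Subgroup.mem_zpowers_iff.1 hqz
    have h6 : (x0 ^ s) ^ j = x0 ^ j := by
      rw [hs, conj_zpow, hj, hgq]
    have h7 : x0 ^ ((s - 1) * j) = 1 := by
      have : x0 ^ ((s - 1) * j) = (x0 ^ s) ^ j * (x0 ^ j)⁻¹ := by
        rw [← zpow_mul, ← zpow_neg, ← zpow_add]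
        congr 1
        ring
      rw [this, h6, mul_inv_cancel]
    have h8 : (orderOf x0 : ℤ) ∣ (s - 1) * j := orderOf_dvd_iff_zpow_eq_one.2 h7
    rw [hord] at h8
    by_contra hps
    have hcop : IsCoprime (((p : ℕ) : ℤ) ^ n) (s - 1) := by
      apply IsCoprime.pow_left
      exact (Prime.coprime_iff_not_dvd (Nat.prime_iff_prime_int.1 hp)).2 hps
    have h9 : (((p ^ n : ℕ) : ℤ)) ∣ j := by
      push_cast
      push_cast at h8
      exact hcop.dvd_of_dvd_mul_left h8
    apply hq1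
    rw [← hj]
    rw [← hord] at h9
    exact orderOf_dvd_iff_zpow_eq_one.1 h9
  have hnpcC : Cfsg.HasNormalPComplement p Ct :=
    hasNPC_of_sylowIn Ct (P : Subgroup G) hPCt P.2 (not_dvd_relIndex_of_sylow_le P hPCt) hCtB
  obtain ⟨M', hM'n, hM'p, j, hM'idx⟩ := HasNormalPComplement.exists_normal hnpcC
  have hM'cop : Nat.Coprime (Nat.card M') M'.index := by
    rw [hM'idx]
    exact Nat.Coprime.pow_right j ((Nat.Prime.coprime_iff_not_dvd hp).2 hM'p).symm
  haveI hMn : (M'.map Ct.subtype).Normal := normal_map_subtype_of_coprime Ct M' hM'cop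
  obtain ⟨M, hM⟩ : ∃ M : Subgroup G, M = M'.map Ct.subtype := ⟨_, rfl⟩
  have hMn' : M.Normal := by rw [hM]; exact hMn
  have hMC : M ≤ Ct := by rw [hM]; exact Subgroup.map_subtype_le _
  have hMcard : Nat.card M = Nat.card M' := by
    rw [hM]
    exact Nat.card_congr (Subgroup.equivMapOfInjective _ _ (Subgroup.subtype_injective Ct)).symm.toEquiv
  have hMrel : M.relIndex Ct = p ^ j := by
    rw [← hM'idx, hM, Subgroup.relIndex, Subgroup.subgroupOf,
      Subgroup.comap_map_eq_self_of_injective (Subgroup.subtype_injective Ct)]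
  have hCtidx : ¬ p ∣ Ct.index := fun h =>
    P.not_dvd_index (dvd_trans h (Subgroup.index_dvd_of_le hPCt))
  -- the chain
  refine ⟨3, ![⊥, M, Ct, ⊤], rfl, rfl, ?_, ?_, ?_⟩
  · apply Fin.monotone_iff_le_succ.2
    intro i
    fin_cases i
    · exact bot_le
    · exact hMC
    · exact le_top
  · intro i
    fin_cases i
    · exact Subgroup.normal_bot
    · exact hMn'
    · exact hCtn
    · exact Subgroup.normal_top
  · intro i
    fin_cases i
    · right
      show ((⊥ : Subgroup G).relIndex M).Coprime p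
      rw [Subgroup.relIndex_bot_left, hMcard]
      exact ((Nat.Prime.coprime_iff_not_dvd hp).2 hM'p).symm
    · left
      exact ⟨j, hMrel⟩
    · right
      show (Ct.relIndex ⊤).Coprime p
      rw [Subgroup.relIndex_top_right]
      exact ((Nat.Prime.coprime_iff_not_dvd hp).2 hCtidx).symm

end Cfsg.Agent.S4145
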