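import Cfsg.Statements.S4146
import Mathlib
import Cfsg.Agent.Lib.H5.CS4e
import Cfsg.Agent.Lib.H5.CS4f
import Cfsg.Agent.Lib.H4.CS4_T7
import Cfsg.Agent.Lib.H4.CS4_T3b
import Cfsg.Agent.Lib.H8.CS4_T4
import Cfsg.Agent.Lib.H1.CS4_T3

set_option autoImplicit false
open Cfsg

namespace Cfsg.Agent.S4146

open Cfsg.Agent.Lib.H5.CS4 in
/-- Let G be a finite group whose conjugacy class sizes are exactly 1, n, m and nm for coprime integers n, m > 1. Then G is nilpotent and n and m are prime powers. -/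
theorem result {G : Type*} [Group G] [Finite G] (n m : ℕ) (hn : 1 < n) (hm : 1 < m) (hcop : n.Coprime m)
    (h : Set.range (fun x : G => (Subgroup.centralizer ({x} : Set G)).index) = ({1, n, m, n * m} : Set ℕ)) :
    Group.IsNilpotent G ∧ IsPrimePow n ∧ IsPrimePow m := by
  have gs : GoodStruct G := by
    intro n m H p hp hpm h hh hpe
    haveI : Fact p.Prime := ⟨hp⟩
    exact H.good_struct hpm hh hpe
  have key : ∀ {n m : ℕ} (H : Hyp G n m) (hnm : m < n),
      Group.IsNilpotent G ∧ IsPrimePow n ∧ IsPrimePow m := by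
    intro n m H hnm
    have pp : ∀ {p q : ℕ}, G1 G n m p q → IsPrimePow n ∧ IsPrimePow m := by
      intro p q h1
      obtain ⟨a, ha⟩ := h1.n_eq
      obtain ⟨b, hb⟩ := h1.m_eq
      have ha0 : a ≠ 0 := by
        rintro rfl
        rw [pow_zero] at ha
        exact H.hn.ne' ha
      have hb0 : b ≠ 0 := by
        rintro rfl
        rw [pow_zero] at hb
        exact H.hm.ne' hb
      exact ⟨ha ▸ (h1.hq.isPrimePow.pow ha0), hb ▸ (h1.hp.isPrimePow.pow hb0)⟩
    by_cases hg : NoGood G n m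
    · exact (H.false_of_commute hnm hg (H.M_comm hnm hg)
        (H.commute_n_m hnm hg (H.M_comm hnm hg))).elim
    · unfold NoGood at hg
      rw [not_and_or] at hg
      rcases hg with hg | hg
      · push Not at hg
        obtain ⟨p, hp, hpm, x, hx, hpe⟩ := hg
        obtain ⟨q, h1⟩ := exists_G1_of_goodStruct gs H hp hpm hx hpe
        exact ⟨h1.nilpotent hnm, pp h1⟩
      · push Not at hg
        obtain ⟨q, hq, hqn, x, hx, hpe⟩ := hg
        obtain ⟨p, h1⟩ := exists_G1_of_goodStruct gs H.symm hq hqn hx hpe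
        exact ⟨h1.symm.nilpotent hnm, pp h1.symm⟩
  have H := hyp_of_range hn hm hcop h
  rcases lt_or_gt_of_ne H.n_ne_m with hlt | hgt
  · obtain ⟨h1, h2, h3⟩ := key H.symm hlt
    exact ⟨h1, h3, h2⟩
  · exact key H hgt

end Cfsg.Agent.S4146
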