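import Cfsg.Statements.S4149
import Cfsg.Agent.Lib.H20.CasoloCount

set_option autoImplicit false
open Cfsg

namespace Cfsg.Agent.S4149

open Subgroup

/-- Let G be a finite group that has a normal p-complement for at most one prime p dividing its order, and let σ be a natural number such that every conjugacy class size of G has at most σ distinct prime divisors. Then the number of primes dividing at least one conjugacy class size of G is at most 2σ. -/
theorem result {G : Type*} [Group G] [Finite G] (σ : ℕ)
    (hσ : ∀ x : G, ((Subgroup.centralizer ({x} : Set G)).index).primeFactors.card ≤ σ)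
    (hnil : ∀ p q : ℕ, p.Prime → q.Prime → p ∣ Nat.card G → q ∣ Nat.card G →
      Cfsg.HasNormalPComplement p G → Cfsg.HasNormalPComplement q G → p = q) :
    Nat.card {p : ℕ | p.Prime ∧ ∃ x : G, p ∣ (Subgroup.centralizer ({x} : Set G)).index} ≤ 2 * σ := by
  classical
  haveI : Fintype G := Fintype.ofFinite G
  set idx : G → ℕ := fun x => (centralizer ({x} : Set G)).index with hidx
  have hidx_dvd : ∀ x, idx x ∣ Nat.card G := fun x => Subgroup.index_dvd_card _
  have hidx_ne : ∀ x, idx x ≠ 0 := fun x => Subgroup.index_ne_zero_of_finite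
  have hσ' : ∀ x : G, (idx x).primeFactors.card ≤ σ := hσ
  -- the set as a finset
  set R : Finset ℕ := (Nat.card G).primeFactors.filter (fun p => ∃ x : G, p ∣ idx x) with hR
  have hset : {p : ℕ | p.Prime ∧ ∃ x : G, p ∣ (centralizer ({x} : Set G)).index} = (R : Set ℕ) := by
    ext p
    simp only [Set.mem_setOf_eq, hR, Finset.coe_filter, Nat.mem_primeFactors]
    constructor
    · rintro ⟨hp, x, hx⟩
      exact ⟨⟨hp, hx.trans (hidx_dvd x), Nat.card_pos.ne'⟩, x, hx⟩
    · rintro ⟨⟨hp, _, _⟩, x, hx⟩
      exact ⟨hp, x, hx⟩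
  rw [hset, Nat.card_coe_set_eq, Set.ncard_coe_finset]
  have hRprime : ∀ p ∈ R, p.Prime ∧ p ∣ Nat.card G := by
    intro p hp
    have := Nat.mem_primeFactors.mp (Finset.mem_filter.mp hp).1
    exact ⟨this.1, this.2.1⟩
  rcases R.eq_empty_or_nonempty with hRe | hRne
  · rw [hRe]; simp
  obtain ⟨p0, hp0⟩ := hRne
  -- σ ≥ 1
  have hσ1 : 1 ≤ σ := by
    obtain ⟨x, hx⟩ := (Finset.mem_filter.mp hp0).2
    have : p0 ∈ (idx x).primeFactors :=
      Nat.mem_primeFactors.mpr ⟨(hRprime p0 hp0).1, hx, hidx_ne x⟩
    exact le_trans (Finset.card_pos.mpr ⟨p0, this⟩) (hσ' x)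
  set Pi : Finset ℕ := R.filter (fun p => ¬ Cfsg.HasNormalPComplement p G) with hPi
  have hrest : (R.filter (fun p => Cfsg.HasNormalPComplement p G)).card ≤ 1 := by
    rw [Finset.card_le_one]
    intro a ha b hb
    rw [Finset.mem_filter] at ha hb
    exact hnil a b (hRprime a ha.1).1 (hRprime b hb.1).1 (hRprime a ha.1).2 (hRprime b hb.1).2 ha.2 hb.2
  have hsplit : (R.filter (fun p => Cfsg.HasNormalPComplement p G)).card + Pi.card = R.card :=
    Finset.card_filter_add_card_filter_not _
  -- key: for p ∈ Pi at least half of the elements have class size divisible by p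
  have hkey : ∀ p ∈ Pi, Fintype.card G ≤ 2 * (Finset.univ.filter (fun x : G => p ∣ idx x)).card := by
    intro p hp
    rw [hPi, Finset.mem_filter] at hp
    obtain ⟨hpR, hpn⟩ := hp
    have : Fact p.Prime := ⟨(hRprime p hpR).1⟩
    let P : Sylow p G := default
    have hNC : ¬ (normalizer ((P : Subgroup G) : Set G) ≤ centralizer ((P : Subgroup G) : Set G)) := by
      intro h
      exact hpn ⟨P, (MonoidHom.transferSylow P h).ker, inferInstance,
        MonoidHom.ker_transferSylow_isComplement' P h⟩
    have h1 := Cfsg.Agent.Lib.H20.Casolo.two_mul_card_not_dvd_le P hNC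
    rw [Nat.card_eq_fintype_card, Nat.card_eq_fintype_card, Fintype.card_subtype] at h1
    have h2 := Finset.card_filter_add_card_filter_not (s := (Finset.univ : Finset G))
      (fun x : G => p ∣ idx x)
    rw [Finset.card_univ] at h2
    have h3 : (Finset.univ.filter (fun x : G => ¬ p ∣ (centralizer ({x} : Set G)).index)).card =
        (Finset.univ.filter (fun x : G => ¬ p ∣ idx x)).card := rfl
    omega
  -- double counting
  have hdc : ∑ p ∈ Pi, (Finset.univ.filter (fun x : G => p ∣ idx x)).card =
      ∑ x : G, (Pi.filter (fun p => p ∣ idx x)).card :=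
    Finset.sum_card_bipartiteAbove_eq_sum_card_bipartiteBelow (fun p x => p ∣ idx x)
  have hx_le : ∀ x : G, (Pi.filter (fun p => p ∣ idx x)).card ≤ σ := by
    intro x
    refine le_trans (Finset.card_le_card ?_) (hσ' x)
    intro p hp
    rw [Finset.mem_filter] at hp
    have hpR : p ∈ R := (Finset.mem_filter.mp hp.1).1
    exact Nat.mem_primeFactors.mpr ⟨(hRprime p hpR).1, hp.2, hidx_ne x⟩
  have hidx1 : idx 1 = 1 := by
    have : centralizer ({(1 : G)} : Set G) = ⊤ := by
      rw [eq_top_iff]
      intro g _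
      rw [Subgroup.mem_centralizer_iff]
      intro a ha
      rw [Set.mem_singleton_iff] at ha
      rw [ha, one_mul, mul_one]
    show (centralizer ({(1 : G)} : Set G)).index = 1
    rw [this, Subgroup.index_top]
  have hx_one : (Pi.filter (fun p => p ∣ idx 1)).card = 0 := by
    rw [Finset.card_eq_zero, Finset.filter_eq_empty_iff]
    intro p hp hdvd
    have hpR : p ∈ R := (Finset.mem_filter.mp hp).1
    rw [hidx1] at hdvd
    exact (hRprime p hpR).1.one_lt.ne' (Nat.dvd_one.mp hdvd)
  have hsum : ∑ x : G, (Pi.filter (fun p => p ∣ idx x)).card ≤ (Fintype.card G - 1) * σ := by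
    rw [← Finset.add_sum_erase Finset.univ _ (Finset.mem_univ (1 : G)), hx_one, zero_add]
    have := Finset.sum_le_card_nsmul (Finset.univ.erase (1 : G))
      (fun x => (Pi.filter (fun p => p ∣ idx x)).card) σ (fun x _ => hx_le x)
    rw [Finset.card_erase_of_mem (Finset.mem_univ _), Finset.card_univ, smul_eq_mul] at this
    exact this
  have hmain : Pi.card * Fintype.card G ≤ 2 * ((Fintype.card G - 1) * σ) := by
    calc Pi.card * Fintype.card G = ∑ _p ∈ Pi, Fintype.card G := by
          rw [Finset.sum_const, smul_eq_mul]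
      _ ≤ ∑ p ∈ Pi, 2 * (Finset.univ.filter (fun x : G => p ∣ idx x)).card := Finset.sum_le_sum hkey
      _ = 2 * ∑ p ∈ Pi, (Finset.univ.filter (fun x : G => p ∣ idx x)).card := by rw [Finset.mul_sum]
      _ = 2 * ∑ x : G, (Pi.filter (fun p => p ∣ idx x)).card := by rw [hdc]
      _ ≤ 2 * ((Fintype.card G - 1) * σ) := Nat.mul_le_mul_left _ hsum
  have hGpos : 0 < Fintype.card G := Fintype.card_pos
  have hPilt : Pi.card < 2 * σ := by
    by_contra hcon
    rw [not_lt] at hcon
    have h1 : 2 * σ * Fintype.card G ≤ Pi.card * Fintype.card G := Nat.mul_le_mul_right _ hcon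
    have h2 : 2 * ((Fintype.card G - 1) * σ) < 2 * σ * Fintype.card G := by
      have h3 : (Fintype.card G - 1) * σ < Fintype.card G * σ := by
        apply Nat.mul_lt_mul_of_lt_of_le (by omega) le_rfl (by omega)
      calc 2 * ((Fintype.card G - 1) * σ) < 2 * (Fintype.card G * σ) := by omega
        _ = 2 * σ * Fintype.card G := by ring
    omega
  omega

end Cfsg.Agent.S4149
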