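import Cfsg.Statements.S4150
import Cfsg.Agent.Lib.H18.AGN1
import Cfsg.Agent.Lib.H9.AGPAIR
import Cfsg.Agent.Lib.H25.AGC5
import Cfsg.Agent.Lib.H13.AGNORM
import Cfsg.Agent.Lib.H5.AGH7
import Cfsg.Agent.Lib.H9.AGE6
import Cfsg.Agent.Lib.H17.AGH13

set_option autoImplicit false
open Cfsg

namespace Cfsg.Agent.S4150

/-- Let m ≥ 5. Then there are primes p < q with m/2 ≤ p and q ≤ m such that any two elements x, y of the alternating group of degree m with x of order p and y of order q generate a subgroup isomorphic to an alternating group of some degree d ≥ 5. -/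
theorem result (m : ℕ) (hm : 5 ≤ m) :
    ∃ p q : ℕ, p.Prime ∧ q.Prime ∧ m ≤ 2 * p ∧ p < q ∧ q ≤ m ∧
      ∀ x y : alternatingGroup (Fin m), orderOf x = p → orderOf y = q →
        ∃ d : ℕ, 5 ≤ d ∧ Nonempty (Subgroup.closure ({x, y} : Set (alternatingGroup (Fin m))) ≃* alternatingGroup (Fin d)) := by
  have core7 : ∀ x y : Equiv.Perm (Fin 7), x.cycleType = {5} → y.cycleType = {7} →
      Subgroup.closure ({x, y} : Set (Equiv.Perm (Fin 7))) = alternatingGroup (Fin 7) :=
    Cfsg.Agent.Lib.H13.AG.core_of_normalized 3 (by norm_num) (by norm_num) Cfsg.Agent.Lib.H5.AG.normalized7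
  have core13 : ∀ x y : Equiv.Perm (Fin 13), x.cycleType = {11} → y.cycleType = {13} →
      Subgroup.closure ({x, y} : Set (Equiv.Perm (Fin 13))) = alternatingGroup (Fin 13) :=
    Cfsg.Agent.Lib.H13.AG.core_of_normalized 9 (by norm_num) (by norm_num) Cfsg.Agent.Lib.H17.AG.normalized13
  rcases Nat.lt_or_ge m 17 with h | h
  · -- small cases
    have key : ∀ p q : ℕ, p.Prime → q.Prime → 3 ≤ p → p < q → m ≤ 2 * p → q ≤ m →
        (q = p + 2 → ∀ x' y' : Equiv.Perm (Fin q), x'.cycleType = {p} → y'.cycleType = {q} →
          Subgroup.closure ({x', y'} : Set (Equiv.Perm (Fin q))) = alternatingGroup (Fin q)) →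
        (m = 2 * p → 2 * p < q + 3 → ∀ x' y' : Equiv.Perm (Fin m), x'.cycleType = {p, p} →
          y'.cycleType = {q} → ∃ d : ℕ, 5 ≤ d ∧
            Nonempty (Subgroup.closure ({x', y'} : Set (Equiv.Perm (Fin m))) ≃* alternatingGroup (Fin d))) →
        ∃ p q : ℕ, p.Prime ∧ q.Prime ∧ m ≤ 2 * p ∧ p < q ∧ q ≤ m ∧
          ∀ x y : alternatingGroup (Fin m), orderOf x = p → orderOf y = q →
            ∃ d : ℕ, 5 ≤ d ∧ Nonempty (Subgroup.closure ({x, y} : Set (alternatingGroup (Fin m))) ≃* alternatingGroup (Fin d)) :=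
      fun p q hp hq h3 hpq hmp hqm hc hd =>
        ⟨p, q, hp, hq, hmp, hpq, hqm, Cfsg.Agent.Lib.H9.AG.pair_ok m p q hp hq h3 hpq hmp hqm hc hd⟩
    interval_cases m
    · -- m = 5
      exact key 3 5 (by norm_num) (by norm_num) (by norm_num) (by norm_num) (by norm_num) (by norm_num)
        (fun _ => Cfsg.Agent.Lib.H25.AG.core5) (fun h => by omega)
    · -- m = 6
      exact key 3 5 (by norm_num) (by norm_num) (by norm_num) (by norm_num) (by norm_num) (by norm_num)
        (fun _ => Cfsg.Agent.Lib.H25.AG.core5) (fun _ _ => Cfsg.Agent.Lib.H9.AG.exotic6)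
    · exact key 5 7 (by norm_num) (by norm_num) (by norm_num) (by norm_num) (by norm_num) (by norm_num)
        (fun _ => core7) (fun h => by omega)
    · exact key 5 7 (by norm_num) (by norm_num) (by norm_num) (by norm_num) (by norm_num) (by norm_num)
        (fun _ => core7) (fun h => by omega)
    · exact key 5 7 (by norm_num) (by norm_num) (by norm_num) (by norm_num) (by norm_num) (by norm_num)
        (fun _ => core7) (fun h => by omega)
    · exact key 5 7 (by norm_num) (by norm_num) (by norm_num) (by norm_num) (by norm_num) (by norm_num)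
        (fun _ => core7) (fun _ h => by omega)
    · exact key 7 11 (by norm_num) (by norm_num) (by norm_num) (by norm_num) (by norm_num) (by norm_num)
        (fun h => by omega) (fun h => by omega)
    · exact key 7 11 (by norm_num) (by norm_num) (by norm_num) (by norm_num) (by norm_num) (by norm_num)
        (fun h => by omega) (fun h => by omega)
    · exact key 7 11 (by norm_num) (by norm_num) (by norm_num) (by norm_num) (by norm_num) (by norm_num)
        (fun h => by omega) (fun h => by omega)
    · exact key 7 11 (by norm_num) (by norm_num) (by norm_num) (by norm_num) (by norm_num) (by norm_num)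
        (fun h => by omega) (fun _ h => by omega)
    · exact key 11 13 (by norm_num) (by norm_num) (by norm_num) (by norm_num) (by norm_num) (by norm_num)
        (fun _ => core13) (fun h => by omega)
    · exact key 11 13 (by norm_num) (by norm_num) (by norm_num) (by norm_num) (by norm_num) (by norm_num)
        (fun _ => core13) (fun h => by omega)
  · obtain ⟨p, q, hp, hq, hmp, hgap, hqm⟩ := Cfsg.Agent.Lib.H18.AG.exists_primes_gap m h
    have h3 : 3 ≤ p := by omega
    exact ⟨p, q, hp, hq, by omega, by omega, hqm,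
      Cfsg.Agent.Lib.H9.AG.pair_ok m p q hp hq h3 (by omega) (by omega) hqm (fun h => by omega) (fun h => by omega)⟩

end Cfsg.Agent.S4150
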