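import Cfsg.Statements.S4153
import Mathlib

set_option autoImplicit false
open Cfsg

namespace Cfsg.Agent.S4153

open QuotientGroup

variable {G : Type*} [Group G] [Finite G] (p : ℕ) [Fact p.Prime] (N : Subgroup G) [N.Normal]

lemma isPEl_of_mem {p : ℕ} [Fact p.Prime] (S : Sylow p G) {g : G} (hg : g ∈ S) :
    ∃ k : ℕ, orderOf g = p ^ k := by
  obtain ⟨k, hk⟩ := IsPGroup.iff_orderOf.1 S.isPGroup' ⟨g, hg⟩
  exact ⟨k, by rw [← hk, Subgroup.orderOf_mk]⟩

lemma isPEl_map {p : ℕ} [Fact p.Prime] {H : Type*} [Group H] (f : G →* H) {g : G}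
    (hg : ∃ k : ℕ, orderOf g = p ^ k) : ∃ k : ℕ, orderOf (f g) = p ^ k := by
  obtain ⟨k, hk⟩ := hg
  have h := orderOf_map_dvd f g
  rw [hk] at h
  obtain ⟨j, _, hj⟩ := (Nat.dvd_prime_pow (Fact.out : p.Prime)).1 h
  exact ⟨j, hj⟩

/-- the size of `S ∩ N` times the size of a Sylow subgroup of `G/N` is the size of `S`. -/
lemma card_mul {p : ℕ} [Fact p.Prime] (N : Subgroup G) [N.Normal] (S : Sylow p G)
    (Pbar : Sylow p (G ⧸ N)) :
    Nat.card (N.subgroupOf S) * Nat.card (Pbar : Subgroup (G ⧸ N)) = Nat.card (S : Subgroup G) := by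
  have h1 := (N.subgroupOf S).card_mul_index
  have h2 : (N.subgroupOf S).index = Nat.card ((S : Subgroup G).map (mk' N)) := by
    have := Subgroup.relIndex_ker (K := (S : Subgroup G)) (mk' N)
    rw [QuotientGroup.ker_mk'] at this
    exact this
  have h3 : Nat.card ((S : Subgroup G).map (mk' N)) = Nat.card (Pbar : Subgroup (G ⧸ N)) := by
    have h4 : ((S.mapSurjective (mk'_surjective N) : Sylow p (G ⧸ N)) : Subgroup (G ⧸ N)) =
        (S : Subgroup G).map (mk' N) := Sylow.coe_mapSurjective _ _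
    rw [← h4, Sylow.card_eq_multiplicity, Sylow.card_eq_multiplicity]
  rw [← h1, h2, h3]

lemma central_mem {p : ℕ} [Fact p.Prime] (S : Sylow p G) {z : G} (hz : z ∈ Subgroup.center G)
    (hzp : ∃ k : ℕ, orderOf z = p ^ k) : z ∈ S := by
  haveI : (Subgroup.zpowers z).Normal := by
    refine ⟨fun n hn g => ?_⟩
    have hn' : n ∈ Subgroup.center G := by
      obtain ⟨k, rfl⟩ := hn
      exact Subgroup.zpow_mem _ hz k
    have : g * n * g⁻¹ = n := by
      rw [Subgroup.mem_center_iff] at hn'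
      rw [hn' g, mul_inv_cancel_right]
    rw [this]; exact hn
  have hp : IsPGroup p (Subgroup.zpowers z) := by
    obtain ⟨k, hk⟩ := hzp
    exact IsPGroup.of_card (n := k) (by rw [Nat.card_zpowers, hk])
  exact hp.le_sylow_of_normal S (Subgroup.mem_zpowers z)

/-- every `p`-element of `G/N` lifts to an element of a Sylow subgroup. -/
lemma exists_sylow_lift {p : ℕ} [Fact p.Prime] (N : Subgroup G) [N.Normal] (y : G ⧸ N)
    (hy : ∃ k : ℕ, orderOf y = p ^ k) : ∃ S : Sylow p G, ∃ s ∈ S, (s : G ⧸ N) = y := by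
  have hp : IsPGroup p (Subgroup.zpowers y) := by
    obtain ⟨k, hk⟩ := hy
    exact IsPGroup.of_card (n := k) (by rw [Nat.card_zpowers, hk])
  obtain ⟨Q, hQ⟩ := hp.exists_le_sylow
  obtain ⟨S, rfl⟩ := Sylow.mapSurjective_surjective (mk'_surjective N) p Q
  have hyQ : y ∈ (S : Subgroup G).map (mk' N) := hQ (Subgroup.mem_zpowers y)
  obtain ⟨s, hs, hsy⟩ := hyQ
  exact ⟨S, s, hs, hsy⟩

/-- The fibre of the set of `p`-elements of `G` over a `p`-element of `G/N`. -/
abbrev Fib (y : G ⧸ N) : Type _ := {g : G // (∃ k : ℕ, orderOf g = p ^ k) ∧ (g : G ⧸ N) = y}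

lemma fib_card {p : ℕ} [Fact p.Prime] (N : Subgroup G) [N.Normal] (P : Sylow p G)
    (Pbar : Sylow p (G ⧸ N)) (y : G ⧸ N) (hy : ∃ k : ℕ, orderOf y = p ^ k) :
    Nat.card (Fib p N y) * Nat.card (Pbar : Subgroup (G ⧸ N)) ≥ Nat.card (P : Subgroup G) ∧
    (N ≤ Subgroup.center G →
      Nat.card (Fib p N y) * Nat.card (Pbar : Subgroup (G ⧸ N)) = Nat.card (P : Subgroup G)) := by
  obtain ⟨S, s, hs, hsy⟩ := exists_sylow_lift N y hy
  have hcard := card_mul N S Pbar
  have hSP : Nat.card (S : Subgroup G) = Nat.card (P : Subgroup G) := by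
    rw [Sylow.card_eq_multiplicity, Sylow.card_eq_multiplicity]
  rw [hSP] at hcard
  -- the injection
  let ι : N.subgroupOf S → Fib p N y := fun n =>
    ⟨s * ((n : S) : G), isPEl_of_mem S (S.mul_mem hs (n : S).2), by
      have hn : ((n : S) : G) ∈ N := Subgroup.mem_subgroupOf.1 n.2
      rw [QuotientGroup.mk_mul, hsy, (QuotientGroup.eq_one_iff _).2 hn, mul_one]⟩
  have hι : Function.Injective ι := by
    intro a b hab
    have h1 : s * ((a : S) : G) = s * ((b : S) : G) := congrArg Subtype.val hab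
    exact Subtype.ext (Subtype.ext (mul_left_cancel h1))
  constructor
  · rw [← hcard]
    exact Nat.mul_le_mul_right _ (Nat.card_le_card_of_injective ι hι)
  · intro hN
    rw [← hcard]
    congr 1
    symm
    apply Nat.card_eq_of_bijective ι ⟨hι, ?_⟩
    rintro ⟨g, hgp, hgy⟩
    have hn : s⁻¹ * g ∈ N := by
      rw [← QuotientGroup.eq, hsy, hgy]
    have hc : s⁻¹ * g ∈ Subgroup.center G := hN hn
    have hcomm : Commute s⁻¹ g := by
      have h1 := (Subgroup.mem_center_iff.1 hc) s⁻¹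
      -- s⁻¹ * (s⁻¹ * g) = (s⁻¹ * g) * s⁻¹
      show s⁻¹ * g = g * s⁻¹
      have h2 : s⁻¹ * (s⁻¹ * g) = s⁻¹ * (g * s⁻¹) := by rw [h1, mul_assoc]
      exact mul_left_cancel h2
    have hnp : ∃ k : ℕ, orderOf (s⁻¹ * g) = p ^ k := by
      obtain ⟨i, hi⟩ := isPEl_of_mem S hs
      obtain ⟨j, hj⟩ := hgp
      have h1 := hcomm.orderOf_mul_dvd_lcm
      rw [orderOf_inv, hi, hj] at h1
      have h2 : Nat.lcm (p ^ i) (p ^ j) ∣ p ^ (max i j) :=
        Nat.lcm_dvd (pow_dvd_pow _ (le_max_left _ _)) (pow_dvd_pow _ (le_max_right _ _))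
      obtain ⟨l, _, hl⟩ := (Nat.dvd_prime_pow (Fact.out : p.Prime)).1 (h1.trans h2)
      exact ⟨l, hl⟩
    have hS : s⁻¹ * g ∈ S := central_mem S hc hnp
    refine ⟨⟨⟨s⁻¹ * g, hS⟩, Subgroup.mem_subgroupOf.2 hn⟩, ?_⟩
    apply Subtype.ext
    show s * (s⁻¹ * g) = g
    rw [mul_inv_cancel_left]

/-- Let G be a finite group, p a prime, N a normal subgroup, P a Sylow p-subgroup of G and P̄ a Sylow p-subgroup of G/N. Count the elements of p-power order, the identity included. Then (number of such elements of G/N)/#P̄ ≤ (number of such elements of G)/#P, stated as a cross-multiplied inequality, with equality when N is central. -/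
theorem result {G : Type*} [Group G] [Finite G] (p : ℕ) [Fact p.Prime] (N : Subgroup G) [N.Normal]
    (P : Sylow p G) (Pbar : Sylow p (G ⧸ N)) :
    Nat.card {g : (G ⧸ N) // ∃ k : ℕ, orderOf g = p ^ k} * Nat.card (P : Subgroup G) ≤ Nat.card {g : G // ∃ k : ℕ, orderOf g = p ^ k} * Nat.card (Pbar : Subgroup (G ⧸ N)) ∧
    (N ≤ Subgroup.center G → Nat.card {g : (G ⧸ N) // ∃ k : ℕ, orderOf g = p ^ k} * Nat.card (P : Subgroup G) = Nat.card {g : G // ∃ k : ℕ, orderOf g = p ^ k} * Nat.card (Pbar : Subgroup (G ⧸ N))) := by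
  classical
  haveI : Fintype {g : (G ⧸ N) // ∃ k : ℕ, orderOf g = p ^ k} := Fintype.ofFinite _
  -- decompose the p-elements of G into fibres
  let e : {g : G // ∃ k : ℕ, orderOf g = p ^ k} ≃
      Σ y : {g : (G ⧸ N) // ∃ k : ℕ, orderOf g = p ^ k}, Fib p N y.1 :=
    { toFun := fun g => ⟨⟨(g.1 : G ⧸ N), isPEl_map (mk' N) g.2⟩, ⟨g.1, g.2, rfl⟩⟩
      invFun := fun x => ⟨x.2.1, x.2.2.1⟩
      left_inv := fun g => rfl
      right_inv := by
        rintro ⟨⟨y, hy⟩, ⟨g, hg, hgy⟩⟩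
        change (g : G ⧸ N) = y at hgy
        subst hgy
        rfl }
  have hsum : Nat.card {g : G // ∃ k : ℕ, orderOf g = p ^ k} =
      ∑ y : {g : (G ⧸ N) // ∃ k : ℕ, orderOf g = p ^ k}, Nat.card (Fib p N y.1) := by
    rw [Nat.card_congr e, Nat.card_sigma]
  rw [hsum, Finset.sum_mul]
  have hB : Nat.card {g : (G ⧸ N) // ∃ k : ℕ, orderOf g = p ^ k} * Nat.card (P : Subgroup G) =
      ∑ _y : {g : (G ⧸ N) // ∃ k : ℕ, orderOf g = p ^ k}, Nat.card (P : Subgroup G) := by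
    rw [Finset.sum_const, Finset.card_univ, Nat.card_eq_fintype_card, smul_eq_mul]
  rw [hB]
  constructor
  · exact Finset.sum_le_sum fun y _ => (fib_card N P Pbar y.1 y.2).1
  · intro hN
    exact Finset.sum_congr rfl fun y _ => ((fib_card N P Pbar y.1 y.2).2 hN).symm

end Cfsg.Agent.S4153
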