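import Cfsg.Statements.S4154

set_option autoImplicit false
open Cfsg

namespace Cfsg.Agent.S4154

/-- Key counting lemma: if every element is (fixed point) * (commutator with β), then a
commutator `g⁻¹ β(g)` which is fixed by `β` is trivial. -/
theorem fixed_comm_eq_one {H : Type*} [Group H] [Finite H] (β : H ≃* H)
    (hdec : ∀ x : H, ∃ c g : H, β c = c ∧ x = c * (g⁻¹ * β g))
    (g : H) (hg : β (g⁻¹ * β g) = g⁻¹ * β g) : g⁻¹ * β g = 1 := by
  classical
  let F : Subgroup H :=
    { carrier := {c | β c = c}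
      mul_mem' := by
        intro a b ha hb
        simp only [Set.mem_setOf_eq] at *
        rw [map_mul, ha, hb]
      one_mem' := by simp
      inv_mem' := by
        intro a ha
        simp only [Set.mem_setOf_eq] at *
        rw [map_inv, ha] }
  let φ : H → H := fun g => g * (β g)⁻¹
  let K : Set H := Set.range φ
  -- surjection H ⧸ F → K
  have hφ : ∀ a b : H, QuotientGroup.leftRel F a b → φ a = φ b := by
    intro a b hab
    rw [QuotientGroup.leftRel_apply] at hab
    have h1 : β (a⁻¹ * b) = a⁻¹ * b := hab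
    rw [map_mul, map_inv] at h1
    show a * (β a)⁻¹ = b * (β b)⁻¹
    have h2 : β b = β a * (a⁻¹ * b) := by rw [← h1]; group
    rw [h2]; group
  let ψ : H ⧸ F → K := fun q => Quotient.liftOn' q (fun g => (⟨φ g, g, rfl⟩ : K))
    (fun a b hab => Subtype.ext (hφ a b hab))
  have hψ : Function.Surjective ψ := by
    rintro ⟨_, g, rfl⟩
    exact ⟨QuotientGroup.mk g, rfl⟩
  have hK : Nat.card K ≤ F.index := by
    rw [Subgroup.index_eq_card]
    exact Nat.card_le_card_of_surjective ψ hψ
  -- the product map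
  let m : F × K → H := fun p => (p.1 : H) * (p.2 : H)
  have hm : Function.Surjective m := by
    intro x
    obtain ⟨c, g, hc, hx⟩ := hdec x
    refine ⟨(⟨c, hc⟩, ⟨g⁻¹ * β g, g⁻¹, by simp [φ]⟩), ?_⟩
    simp [m, hx]
  have hcard : Nat.card (F × K) ≤ Nat.card H := by
    rw [Nat.card_prod, ← Subgroup.card_mul_index F]
    exact Nat.mul_le_mul_left _ hK
  have hbij := hm.bijective_of_nat_card_le hcard
  have hkF : g⁻¹ * β g ∈ F := hg
  have hkK : g⁻¹ * β g ∈ K := ⟨g⁻¹, by simp [φ]⟩
  have h1K : (1 : H) ∈ K := ⟨1, by simp [φ]⟩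
  have heq : m (⟨g⁻¹ * β g, hkF⟩, ⟨1, h1K⟩) = m (⟨1, F.one_mem⟩, ⟨g⁻¹ * β g, hkK⟩) := by
    simp [m]
  have := hbij.1 heq
  have h2 := congrArg (fun p : F × K => (p.1 : H)) this
  simpa using h2

/-- Let G be a finite group and α an automorphism of G such that every element of G is the product of an element fixed by α and an element of the form g⁻¹α(g). If N is a normal α-invariant subgroup, then the automorphism ᾱ induced on G/N has the same property, and every coset fixed by ᾱ contains an element fixed by α (so the fixed points of ᾱ are the images of the fixed points of α). -/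
theorem result {G : Type*} [Group G] [Finite G] (α : MulAut G)
    (hccp : ∀ x : G, ∃ c g : G, α c = c ∧ x = c * (g⁻¹ * α g))
    (N : Subgroup G) [N.Normal] (hN : ∀ n ∈ N, α n ∈ N) :
    (∀ x : G, ∃ c g : G, c⁻¹ * α c ∈ N ∧ x⁻¹ * (c * (g⁻¹ * α g)) ∈ N) ∧
    (∀ x : G, x⁻¹ * α x ∈ N → ∃ c : G, α c = c ∧ c⁻¹ * x ∈ N) := by
  constructor
  · intro x
    obtain ⟨c, g, hc, hx⟩ := hccp x
    refine ⟨c, g, ?_, ?_⟩
    · rw [hc]; simp
    · rw [← hx]; simp
  · intro x hx
    -- induced automorphism on the quotient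
    have hmap : N.map (α : G →* G) = N := by
      have hle : N.map (α : G →* G) ≤ N := by
        rintro _ ⟨n, hn, rfl⟩
        exact hN n hn
      apply Subgroup.eq_of_le_of_card_ge hle
      rw [Subgroup.card_map_of_injective (show Function.Injective (α : G →* G) from α.injective)]
    let β : G ⧸ N ≃* G ⧸ N := QuotientGroup.congr N N α hmap
    have hβ : ∀ y : G, β (QuotientGroup.mk y) = QuotientGroup.mk (α y) := fun y => rfl
    have hdec : ∀ y : G ⧸ N, ∃ c g : G ⧸ N, β c = c ∧ y = c * (g⁻¹ * β g) := by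
      intro y
      obtain ⟨y, rfl⟩ := QuotientGroup.mk_surjective y
      obtain ⟨c, g, hc, hy⟩ := hccp y
      refine ⟨QuotientGroup.mk c, QuotientGroup.mk g, ?_, ?_⟩
      · rw [hβ, hc]
      · rw [hβ, hy]; simp
    obtain ⟨c, g, hc, hxc⟩ := hccp x
    refine ⟨c, hc, ?_⟩
    have hk : c⁻¹ * x = g⁻¹ * α g := by rw [hxc]; group
    rw [hk]
    have hfix : β ((QuotientGroup.mk g : G ⧸ N)⁻¹ * β (QuotientGroup.mk g)) =
        (QuotientGroup.mk g : G ⧸ N)⁻¹ * β (QuotientGroup.mk g) := by
      rw [hβ, ← QuotientGroup.mk_inv, ← QuotientGroup.mk_mul, hβ, ← hk]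
      rw [eq_comm, QuotientGroup.eq]
      have : (c⁻¹ * x)⁻¹ * α (c⁻¹ * x) = x⁻¹ * α x := by
        rw [map_mul, map_inv, hc]; group
      rw [this]; exact hx
    have h1 := fixed_comm_eq_one β hdec (QuotientGroup.mk g) hfix
    rw [hβ, ← QuotientGroup.mk_inv, ← QuotientGroup.mk_mul] at h1
    exact (QuotientGroup.eq_one_iff _).mp h1

end Cfsg.Agent.S4154
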