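import Cfsg.Statements.S4156
import Mathlib

set_option autoImplicit false
open Cfsg

namespace Cfsg.Agent.S4156

open Equiv

section
variable (n : ℕ) (F : Type*) [Field F]

/-- permutation representation on functions -/
def permRep : Perm (Fin (n + 1)) →* ((Fin (n + 1) → F) →ₗ[F] (Fin (n + 1) → F)) where
  toFun σ := LinearMap.funLeft F F (σ⁻¹ : Perm (Fin (n + 1)))
  map_one' := by ext; simp
  map_mul' σ τ := by
    ext v i
    simp [LinearMap.funLeft_apply, mul_inv_rev, Perm.mul_apply]

lemma permRep_apply (σ : Perm (Fin (n + 1))) (v : Fin (n + 1) → F) (i : Fin (n + 1)) :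
    permRep n F σ v i = v (σ⁻¹ i) := rfl

/-- the sum functional -/
def sumF : (Fin (n + 1) → F) →ₗ[F] F := ∑ i, LinearMap.proj i

lemma sumF_apply (v : Fin (n + 1) → F) : sumF n F v = ∑ i, v i := by
  simp [sumF, LinearMap.sum_apply]

lemma sumF_permRep (σ : Perm (Fin (n + 1))) (v : Fin (n + 1) → F) :
    sumF n F (permRep n F σ v) = sumF n F v := by
  rw [sumF_apply, sumF_apply]
  exact Equiv.sum_comp (σ⁻¹ : Perm (Fin (n + 1))) v

/-- the hyperplane of sum-zero vectors -/
abbrev W : Submodule F (Fin (n + 1) → F) := LinearMap.ker (sumF n F)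

lemma permRep_mem (σ : Perm (Fin (n + 1))) (v : Fin (n + 1) → F) (hv : v ∈ W n F) :
    permRep n F σ v ∈ W n F := by
  rw [LinearMap.mem_ker] at hv ⊢
  rw [sumF_permRep, hv]

/-- the representation on the hyperplane -/
def rhoW : Perm (Fin (n + 1)) →* ((W n F) →ₗ[F] (W n F)) where
  toFun σ := (permRep n F σ).restrict (permRep_mem n F σ)
  map_one' := by
    ext v
    simp [LinearMap.restrict_apply]
  map_mul' σ τ := by
    ext v
    simp [LinearMap.restrict_apply]

lemma rhoW_apply (σ : Perm (Fin (n + 1))) (v : W n F) (i : Fin (n + 1)) :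
    ((rhoW n F σ v : W n F) : Fin (n + 1) → F) i = (v : Fin (n + 1) → F) (σ⁻¹ i) := rfl

lemma finrank_W : Module.finrank F (W n F) = n := by
  have h1 := LinearMap.finrank_range_add_finrank_ker (sumF n F)
  have h2 : LinearMap.range (sumF n F) = ⊤ := by
    rw [LinearMap.range_eq_top]
    intro c
    refine ⟨Pi.single 0 c, ?_⟩
    rw [sumF_apply]
    simp
  rw [h2, finrank_top, Module.finrank_self, Module.finrank_fin_fun] at h1
  change Module.finrank F (LinearMap.ker (sumF n F)) = n
  omega

end

/-- Let n ≥ 5 and F a finite field. Then the projective special linear group PSL_n(F) contains a subgroup isomorphic to the alternating group of degree n + 1. -/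
theorem result (n : ℕ) (hn : 5 ≤ n) (F : Type*) [Field F] [Finite F] :
    ∃ f : alternatingGroup (Fin (n + 1)) →* Matrix.ProjectiveSpecialLinearGroup (Fin n) F, Function.Injective f := by
  classical
  have h5 : 5 ≤ Nat.card (Fin (n + 1)) := by rw [Nat.card_fin]; omega
  haveI : IsSimpleGroup (alternatingGroup (Fin (n + 1))) := alternatingGroup.isSimpleGroup h5
  -- basis of W
  let b : Module.Basis (Fin n) F (W n F) := Module.finBasisOfFinrankEq F (W n F) (finrank_W n F)
  -- matrices
  let μ : Perm (Fin (n + 1)) →* Matrix (Fin n) (Fin n) F :=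
    ((LinearMap.toMatrixAlgEquiv b).toAlgHom : _ →* _).comp (rhoW n F)
  -- determinant as a hom to units
  let ψ : alternatingGroup (Fin (n + 1)) →* Fˣ :=
    ((Matrix.detMonoidHom (n := Fin n) (R := F)).comp (μ.comp (alternatingGroup (Fin (n + 1))).subtype)).toHomUnits
  have hψ : ∀ g, ψ g = 1 := by
    intro g
    have h1 : commutator (alternatingGroup (Fin (n + 1))) ≤ ψ.ker :=
      Abelianization.commutator_subset_ker ψ
    rw [commutator_alternatingGroup_eq_top h5] at h1
    exact h1 (Subgroup.mem_top g)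
  have hdet : ∀ g : alternatingGroup (Fin (n + 1)), (μ g).det = 1 := by
    intro g
    have := congrArg Units.val (hψ g)
    simpa [ψ] using this
  let s : alternatingGroup (Fin (n + 1)) →* Matrix.SpecialLinearGroup (Fin n) F :=
    { toFun := fun g => (⟨μ g, hdet g⟩ : Matrix.SpecialLinearGroup (Fin n) F)
      map_one' := by
        apply Subtype.ext
        show μ ((1 : alternatingGroup (Fin (n + 1))) : Perm (Fin (n + 1))) = 1
        rw [Subgroup.coe_one, map_one]
      map_mul' := fun g h => by
        apply Subtype.ext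
        show μ ((g * h : alternatingGroup (Fin (n + 1))) : Perm (Fin (n + 1))) = μ g * μ h
        rw [Subgroup.coe_mul, map_mul] }
  let f : alternatingGroup (Fin (n + 1)) →* Matrix.ProjectiveSpecialLinearGroup (Fin n) F :=
    (QuotientGroup.mk' _).comp s
  refine ⟨f, ?_⟩
  rw [← MonoidHom.ker_eq_bot_iff]
  rcases (inferInstance : f.ker.Normal).eq_bot_or_eq_top with h | h
  · exact h
  · exfalso
    -- a 3-cycle
    have hlt : ∀ k, k < 4 → k < n + 1 := fun k hk => by omega
    let p0 : Fin (n + 1) := ⟨0, hlt 0 (by norm_num)⟩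
    let p1 : Fin (n + 1) := ⟨1, hlt 1 (by norm_num)⟩
    let p2 : Fin (n + 1) := ⟨2, hlt 2 (by norm_num)⟩
    let p3 : Fin (n + 1) := ⟨3, hlt 3 (by norm_num)⟩
    have h01 : p0 ≠ p1 := by simp [p0, p1]
    have h02 : p0 ≠ p2 := by simp [p0, p2]
    have h12 : p1 ≠ p2 := by simp [p1, p2]
    have h23 : p2 ≠ p3 := by simp [p2, p3]
    have h03 : p0 ≠ p3 := by simp [p0, p3]
    let g₀ : Perm (Fin (n + 1)) := swap p0 p1 * swap p0 p2
    have hg₀ : g₀ ∈ alternatingGroup (Fin (n + 1)) := by
      rw [Perm.mem_alternatingGroup]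
      simp [g₀, Perm.sign_swap h01, Perm.sign_swap h02]
    have hg₀0 : g₀ p0 = p2 := by
      simp only [g₀, Perm.mul_apply, swap_apply_left]
      exact swap_apply_of_ne_of_ne h02.symm h12.symm
    have hker : (⟨g₀, hg₀⟩ : alternatingGroup (Fin (n + 1))) ∈ f.ker := by rw [h]; trivial
    rw [MonoidHom.mem_ker] at hker
    have hcen : s ⟨g₀, hg₀⟩ ∈ Subgroup.center (Matrix.SpecialLinearGroup (Fin n) F) := by
      rw [← QuotientGroup.eq_one_iff]
      exact hker
    rw [Matrix.SpecialLinearGroup.mem_center_iff] at hcen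
    obtain ⟨r, _, hr⟩ := hcen
    have hr' : Matrix.scalar (Fin n) r = μ g₀ := hr
    -- so rhoW g₀ = r • id
    have hlin : rhoW n F g₀ = r • (1 : (W n F) →ₗ[F] (W n F)) := by
      apply (LinearMap.toMatrixAlgEquiv b).injective
      have : (LinearMap.toMatrixAlgEquiv b) (rhoW n F g₀) = μ g₀ := rfl
      rw [this, ← hr', map_smul, map_one]
      ext i j
      simp [Matrix.scalar_apply, Matrix.diagonal_apply, Matrix.one_apply]
    -- the vector e₀ - e₃
    let v : W n F := ⟨Pi.single p0 1 - Pi.single p3 1, by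
      rw [LinearMap.mem_ker, sumF_apply]
      simp [Finset.sum_sub_distrib]⟩
    have hv := congrArg (fun L : (W n F) →ₗ[F] (W n F) => ((L v : W n F) : Fin (n + 1) → F) p2) hlin
    simp only [LinearMap.smul_apply, Module.End.one_apply] at hv
    rw [rhoW_apply] at hv
    have e1 : (g₀⁻¹ : Perm (Fin (n + 1))) p2 = p0 := by
      rw [Perm.inv_eq_iff_eq, hg₀0]
    rw [e1] at hv
    simp only [v, Submodule.coe_smul, Pi.smul_apply, Pi.sub_apply, Pi.single_apply] at hv
    simp [h02, h02.symm, h03, h03.symm, h23, h23.symm] at hv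

end Cfsg.Agent.S4156
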