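import Mathlib
import Cfsg.Prelude.Def_Transfer
import Cfsg.Agent.Lib.L0.TransferPC
import Cfsg.Agent.Lib.H21.Wielandt
import Cfsg.Agent.Lib.H22.UniqueInvolution

set_option autoImplicit false
open Cfsg

namespace Cfsg.Agent.S4160

open Cfsg.Agent.Lib.L0 Cfsg.Agent.Lib.H21 Cfsg.Agent.Lib.H22

variable {G : Type*} [Group G] [Finite G]

/-- the union of the conjugates of `C_G(P)` -/
def cover (P : Subgroup G) : Set G :=
  {x | ∃ g : G, g⁻¹ * x * g ∈ Subgroup.centralizer (P : Set G)}

theorem one_mem_cover (P : Subgroup G) : (1 : G) ∈ cover P :=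
  ⟨1, by simp⟩

/-- elements whose class size is prime to `p` lie in the cover -/
theorem mem_cover_of_not_dvd {p : ℕ} [Fact p.Prime] (P : Sylow p G) (x : G)
    (hx : ¬ p ∣ (Subgroup.centralizer ({x} : Set G)).index) : x ∈ cover (P : Subgroup G) := by
  obtain ⟨g, hg⟩ := exists_cj_le_of_not_dvd_index (P : Subgroup G)
    (Subgroup.centralizer ({x} : Set G)) P.isPGroup' hx
  refine ⟨g, ?_⟩
  rw [Subgroup.mem_centralizer_iff]
  intro y hy
  have hmem : g * y * g⁻¹ ∈ cj g (P : Subgroup G) := ⟨y, hy, rfl⟩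
  have hc := Subgroup.mem_centralizer_singleton_iff.mp (hg hmem)
  -- hc : g * y * g⁻¹ * x = x * (g * y * g⁻¹)
  calc y * (g⁻¹ * x * g) = g⁻¹ * ((g * y * g⁻¹) * x) * g := by group
    _ = g⁻¹ * (x * (g * y * g⁻¹)) * g := by rw [hc]
    _ = g⁻¹ * x * g * y := by group

/-- the cover is small when `C_G(P) < N_G(P)` -/
theorem card_cover_le (P : Subgroup G) :
    (cover P).ncard ≤ (Subgroup.normalizer (P : Set G)).index *
      Nat.card (Subgroup.centralizer (P : Set G)) := by
  let N := Subgroup.normalizer (P : Set G)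
  let H := Subgroup.centralizer (P : Set G)
  let φ : (G ⧸ N) × H → G := fun th => th.1.out * (th.2 : G) * th.1.out⁻¹
  have hsub : cover P ⊆ φ '' Set.univ := by
    rintro x ⟨g, hg⟩
    -- `g = t.out * n`
    set t : G ⧸ N := (g : G ⧸ N) with ht
    have hn : t.out⁻¹ * g ∈ N := by
      rw [← QuotientGroup.eq]; exact QuotientGroup.out_eq' t
    set n := t.out⁻¹ * g with hn'
    -- `n h n⁻¹ ∈ H`
    have hH : n * (g⁻¹ * x * g) * n⁻¹ ∈ H := by
      rw [Subgroup.mem_centralizer_iff]
      intro y hy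
      have hy' : n⁻¹ * y * n ∈ P := by
        have := (Subgroup.mem_normalizer_iff.mp (N.inv_mem hn) y).mp hy
        rwa [inv_inv] at this
      have hc := (Subgroup.mem_centralizer_iff.mp hg) _ hy'
      calc y * (n * (g⁻¹ * x * g) * n⁻¹) = n * ((n⁻¹ * y * n) * (g⁻¹ * x * g)) * n⁻¹ := by group
        _ = n * ((g⁻¹ * x * g) * (n⁻¹ * y * n)) * n⁻¹ := by rw [hc]
        _ = n * (g⁻¹ * x * g) * n⁻¹ * y := by group
    refine ⟨(t, ⟨_, hH⟩), Set.mem_univ _, ?_⟩
    show t.out * (n * (g⁻¹ * x * g) * n⁻¹) * t.out⁻¹ = x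
    rw [hn']; group
  calc (cover P).ncard ≤ (φ '' Set.univ).ncard := Set.ncard_le_ncard hsub (Set.toFinite _)
    _ ≤ (Set.univ : Set ((G ⧸ N) × H)).ncard := Set.ncard_image_le (Set.toFinite _)
    _ = Nat.card ((G ⧸ N) × H) := Set.ncard_univ _
    _ = N.index * Nat.card H := by rw [Nat.card_prod, Subgroup.index_eq_card]

theorem two_mul_card_cover_le (P : Subgroup G)
    (h : ¬ Subgroup.normalizer (P : Set G) ≤ Subgroup.centralizer (P : Set G)) :
    2 * (cover P).ncard ≤ Nat.card G := by
  have hle : Subgroup.centralizer (P : Set G) ≤ Subgroup.normalizer (P : Set G) := by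
    intro c hc
    rw [Subgroup.mem_normalizer_iff]
    intro y
    have key : ∀ y ∈ P, c * y * c⁻¹ = y := by
      intro y hy
      have := (Subgroup.mem_centralizer_iff.mp hc) y hy
      calc c * y * c⁻¹ = (y * c) * c⁻¹ := by rw [this]
        _ = y := by group
    constructor
    · intro hy; rw [key y hy]; exact hy
    · intro hy
      have h1 := key _ hy
      have h2 : c * y * c⁻¹ = y := by
        have : c * (c * y * c⁻¹) * c⁻¹ = c * y * c⁻¹ := h1
        have h3 : c⁻¹ * (c * (c * y * c⁻¹) * c⁻¹) * c = c⁻¹ * (c * y * c⁻¹) * c := by rw [this]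
        have h4 : c⁻¹ * (c * (c * y * c⁻¹) * c⁻¹) * c = c * y * c⁻¹ := by group
        have h5 : c⁻¹ * (c * y * c⁻¹) * c = y := by group
        rw [h4, h5] at h3
        exact h3
      rw [← h2]; exact hy
  have hne : Subgroup.centralizer (P : Set G) ≠ Subgroup.normalizer (P : Set G) := by
    intro heq
    apply h
    rw [← heq]
  have h2 := two_mul_card_le_of_lt hle hne
  have h3 := card_cover_le P
  have h4 := Subgroup.card_mul_index (Subgroup.normalizer (P : Set G))
  calc 2 * (cover P).ncard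
      ≤ 2 * ((Subgroup.normalizer (P : Set G)).index *
        Nat.card (Subgroup.centralizer (P : Set G))) := Nat.mul_le_mul_left 2 h3
    _ = (Subgroup.normalizer (P : Set G)).index *
        (2 * Nat.card (Subgroup.centralizer (P : Set G))) := by ring
    _ ≤ (Subgroup.normalizer (P : Set G)).index *
        Nat.card (Subgroup.normalizer (P : Set G)) := Nat.mul_le_mul_left _ h2
    _ = Nat.card G := by rw [mul_comm]; exact h4

theorem result {G : Type*} [Group G] [Finite G] (p q : ℕ) (hp : p.Prime) (hq : q.Prime) (hpq : p ≠ q)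
    (hp' : ∃ x : G, p ∣ (Subgroup.centralizer ({x} : Set G)).index) (hq' : ∃ x : G, q ∣ (Subgroup.centralizer ({x} : Set G)).index) (h : ∀ x : G, ¬ p * q ∣ (Subgroup.centralizer ({x} : Set G)).index) :
    Cfsg.HasNormalPComplement p G ∨ Cfsg.HasNormalPComplement q G := by
  haveI : Fact p.Prime := ⟨hp⟩
  haveI : Fact q.Prime := ⟨hq⟩
  obtain ⟨P⟩ : Nonempty (Sylow p G) := inferInstance
  obtain ⟨Q⟩ : Nonempty (Sylow q G) := inferInstance
  by_cases hP : Subgroup.normalizer ((P : Subgroup G) : Set G) ≤ Subgroup.centralizer (P : Set G)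
  · exact Or.inl (hasNormalPComplement_of_normalizer_le_centralizer P hP)
  by_cases hQ : Subgroup.normalizer ((Q : Subgroup G) : Set G) ≤ Subgroup.centralizer (Q : Set G)
  · exact Or.inr (hasNormalPComplement_of_normalizer_le_centralizer Q hQ)
  exfalso
  have hA := two_mul_card_cover_le (P : Subgroup G) hP
  have hB := two_mul_card_cover_le (Q : Subgroup G) hQ
  have hcov : cover (P : Subgroup G) ∪ cover (Q : Subgroup G) = Set.univ := by
    rw [Set.eq_univ_iff_forall]
    intro x
    by_cases hx : p ∣ (Subgroup.centralizer ({x} : Set G)).index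
    · right
      apply mem_cover_of_not_dvd Q x
      intro hxq
      exact h x ((Nat.coprime_primes hp hq).mpr hpq |>.mul_dvd_of_dvd_of_dvd hx hxq)
    · left
      exact mem_cover_of_not_dvd P x hx
  have hunion := Set.ncard_union_add_ncard_inter (cover (P : Subgroup G)) (cover (Q : Subgroup G))
  rw [hcov, Set.ncard_univ] at hunion
  have hinter : 0 < (cover (P : Subgroup G) ∩ cover (Q : Subgroup G)).ncard := by
    rw [Set.ncard_pos (Set.toFinite _)]
    exact ⟨1, one_mem_cover _, one_mem_cover _⟩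
  omega

end Cfsg.Agent.S4160
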