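import Cfsg.Statements.S4163
import Mathlib
import Cfsg.Agent.Lib.H21.SmallClasses

set_option autoImplicit false
open Cfsg
open scoped commutatorElement

namespace Cfsg.Agent.S4163

open Cfsg.Agent.Lib.H21.SmallClasses in
/-- Let G be a finite group with a normal abelian subgroup A satisfying C_G(A) = A. Suppose some conjugacy class of G has size greater than 1, let m be the smallest such size, and let M be the subgroup generated by the elements whose class has size 1 or m. Then M is nilpotent of class at most 3. -/
theorem result {G : Type*} [Group G] [Finite G]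
    (A : Subgroup G) [A.Normal] (hA : IsMulCommutative A) (hCA : Subgroup.centralizer (A : Set G) = A)
    (m : ℕ) (hm1 : 1 < m) (hm : ∃ x : G, (Subgroup.centralizer ({x} : Set G)).index = m) (hmin : ∀ x : G, 1 < (Subgroup.centralizer ({x} : Set G)).index → m ≤ (Subgroup.centralizer ({x} : Set G)).index) :
    Subgroup.upperCentralSeries ↥(Subgroup.closure {x : G | (Subgroup.centralizer ({x} : Set G)).index = 1 ∨ (Subgroup.centralizer ({x} : Set G)).index = m}) 3 = ⊤ := by
  have hA' : ∀ a ∈ A, ∀ b ∈ A, a * b = b * a := by
    intro a ha b hb
    have := hA.is_comm.comm ⟨a, ha⟩ ⟨b, hb⟩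
    exact congrArg Subtype.val this
  apply upperCentralSeries_three_eq_top hCA.le
  rw [Subgroup.closure_le]
  intro x hx
  rw [SetLike.mem_coe, mem_T]
  intro a ha
  rcases hx with hx | hx
  · rw [Subgroup.index_eq_one] at hx
    have hxa : a ∈ Subgroup.centralizer ({x} : Set G) := hx ▸ Subgroup.mem_top a
    rw [Subgroup.mem_centralizer_singleton_iff] at hxa
    have : ⁅a, x⁆ = 1 := by
      rw [commutatorElement_eq_one_iff_mul_comm]; exact hxa
    rw [this]; exact (Subgroup.center G).one_mem
  · exact comm_mem_center_of_min A hA' x (fun y hy => by rw [hx]; exact hmin y hy) a ha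

end Cfsg.Agent.S4163
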