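import Cfsg.Statements.S4168

set_option autoImplicit false
open Cfsg

namespace Cfsg.Agent.S4168

/-- Let L be a finite quasisimple group (perfect with L/Z(L) simple). Then every prime dividing the order of the centre Z(L) also divides the order of L/Z(L). -/
theorem result {L : Type*} [Group L] [Finite L] (hL : Cfsg.IsQuasisimple L)
    (p : ℕ) (hp : p.Prime) (hdiv : p ∣ Nat.card (Subgroup.center L)) : p ∣ (Subgroup.center L).index := by
  by_contra hnd
  haveI : Fact p.Prime := ⟨hp⟩
  obtain ⟨P⟩ : Nonempty (Sylow p L) := inferInstance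
  -- P ≤ Z(L)
  have hPZ : (P : Subgroup L) ≤ Subgroup.center L := by
    have hpg : IsPGroup p ((P : Subgroup L).map (QuotientGroup.mk' (Subgroup.center L))) :=
      P.isPGroup'.map _
    rcases hpg.card_eq_or_dvd with h1 | h1
    · rw [Subgroup.card_eq_one, Subgroup.map_eq_bot_iff, QuotientGroup.ker_mk'] at h1
      exact h1
    · exfalso
      apply hnd
      rw [Subgroup.index_eq_card]
      exact h1.trans (Subgroup.card_subgroup_dvd_card _)
  have hcent : ∀ g : L, g ∈ Subgroup.centralizer ((P : Subgroup L) : Set L) := by
    intro g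
    rw [Subgroup.mem_centralizer_iff]
    intro h hh
    exact ((Subgroup.mem_center_iff.mp (hPZ hh)) g).symm
  have hP : Subgroup.normalizer (P : Set L) ≤ Subgroup.centralizer (P : Set L) :=
    fun g _ => hcent g
  have hcomp := MonoidHom.ker_transferSylow_isComplement' P hP
  have hcommP : ∀ a b : (P : Subgroup L), a * b = b * a := by
    intro a b
    apply Subtype.ext
    have := (Subgroup.mem_center_iff.mp (hPZ a.2)) b
    exact this.symm
  have hker : (MonoidHom.transferSylow P hP).ker = ⊤ := by
    rw [eq_top_iff, ← hL.1.commutator_eq_top, commutator_def, Subgroup.commutator_le]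
    intro a _ b _
    rw [MonoidHom.mem_ker, map_commutatorElement, commutatorElement_eq_one_iff_commute]
    exact hcommP _ _
  have hcard := hcomp.card_mul_card
  rw [hker, Subgroup.card_top] at hcard
  have hP1 : Nat.card (P : Subgroup L) = 1 := by
    have hpos : 0 < Nat.card L := Nat.card_pos
    have : Nat.card L * Nat.card (P : Subgroup L) = Nat.card L * 1 := by rw [hcard, mul_one]
    exact Nat.eq_of_mul_eq_mul_left hpos this
  have hdivL : p ∣ Nat.card L := hdiv.trans (Subgroup.card_subgroup_dvd_card _)
  exact P.ne_bot_of_dvd_card hdivL (Subgroup.card_eq_one.mp hP1)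

end Cfsg.Agent.S4168
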