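import Cfsg.Statements.S4169
import Mathlib
import Cfsg.Agent.Lib.H21.SmallClasses
import Cfsg.Agent.Lib.H8.PGroup

set_option autoImplicit false
open Cfsg
open scoped commutatorElement

namespace Cfsg.Agent.S4169

open Cfsg.Agent.Lib.H21.SmallClasses in
/-- Let P be a finite p-group whose conjugacy classes have exactly two sizes (1 and one other value). Then P has nilpotency class at most 3. -/
theorem result {P : Type*} [Group P] [Finite P] {p : ℕ} [Fact p.Prime] (hP : IsPGroup p P)
    (m : ℕ) (hm : 1 < m) (h : ∀ x : P, (Subgroup.centralizer ({x} : Set P)).index = 1 ∨ (Subgroup.centralizer ({x} : Set P)).index = m) :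
    upperCentralSeries P 3 = ⊤ := by
  haveI : IsMulCommutative (⊥ : Subgroup P) :=
    ⟨⟨fun a b => Subsingleton.elim _ _⟩⟩
  obtain ⟨A, -, hAn, hAc, hCA⟩ := Cfsg.Agent.Lib.H8.exists_normal_selfCentralizing hP ⊥
  have hA' : ∀ a ∈ A, ∀ b ∈ A, a * b = b * a := by
    intro a ha b hb
    have := hAc.is_comm.comm ⟨a, ha⟩ ⟨b, hb⟩
    exact congrArg Subtype.val this
  have hT : T A = ⊤ := by
    rw [eq_top_iff]
    intro x _
    rw [mem_T]
    intro a ha
    rcases h x with hx | hx
    · rw [Subgroup.index_eq_one] at hx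
      have hxa : a ∈ Subgroup.centralizer ({x} : Set P) := hx ▸ Subgroup.mem_top a
      rw [Subgroup.mem_centralizer_singleton_iff] at hxa
      have : ⁅a, x⁆ = 1 := by
        rw [commutatorElement_eq_one_iff_mul_comm]; exact hxa
      rw [this]; exact (Subgroup.center P).one_mem
    · refine comm_mem_center_of_min A hA' x (fun y hy => ?_) a ha
      rcases h y with hy' | hy'
      · omega
      · rw [hx, hy']
  show Subgroup.upperCentralSeries P 3 = ⊤
  rw [eq_top_iff]
  intro x _
  rw [Subgroup.mem_upperCentralSeries_succ_iff]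
  intro y
  rw [Subgroup.mem_upperCentralSeries_succ_iff]
  intro z
  rw [Subgroup.mem_upperCentralSeries_succ_iff]
  intro w
  rw [Subgroup.upperCentralSeries_zero, Subgroup.mem_bot]
  exact comm4_eq_one hCA.le (hT ▸ Subgroup.mem_top x) (hT ▸ Subgroup.mem_top y)
    (hT ▸ Subgroup.mem_top z)

end Cfsg.Agent.S4169
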