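import Cfsg.Statements.S4170
import Cfsg.Agent.Lib.H18.PermPStab

set_option autoImplicit false
open scoped Pointwise
open Cfsg

namespace Cfsg.Agent.S4170

/-- Let p be an odd prime and G a nontrivial group of permutations of a finite set Ω that is generated by its elements of p-power order. Then Ω has two disjoint nonempty subsets Δ₁ and Δ₂ such that the index in G of the subgroup of elements mapping Δ₁ onto Δ₁ and Δ₂ onto Δ₂ (and hence also the complement of their union onto itself) is divisible by p. -/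
theorem result {Ω : Type*} [Fintype Ω] (p : ℕ) [Fact p.Prime] (hp : p ≠ 2) (G : Subgroup (Equiv.Perm Ω)) (hG : G ≠ ⊥) (hgen : Subgroup.closure {g : G | ∃ k : ℕ, orderOf g = p ^ k} = ⊤) :
    ∃ Δ₁ Δ₂ : Set Ω, Δ₁.Nonempty ∧ Δ₂.Nonempty ∧ Disjoint Δ₁ Δ₂ ∧ p ∣ (MulAction.stabilizer G Δ₁ ⊓ MulAction.stabilizer G Δ₂).index := by
  classical
  have hdvd : p ∣ Nat.card G := by
    by_contra hnd
    apply hG
    have hsub : {g : G | ∃ k : ℕ, orderOf g = p ^ k} ⊆ ((⊥ : Subgroup G) : Set G) := by
      rintro g ⟨k, hk⟩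
      rcases Nat.eq_zero_or_pos k with h0 | hpos
      · rw [h0, pow_zero, orderOf_eq_one_iff] at hk
        simp [hk]
      · exfalso
        apply hnd
        have h1 : p ∣ orderOf g := by
          rw [hk]; exact dvd_pow_self p hpos.ne'
        exact h1.trans (orderOf_dvd_natCard g)
    have hbot : (⊤ : Subgroup G) = ⊥ := by
      rw [← hgen]
      exact le_bot_iff.mp ((Subgroup.closure_le _).mpr hsub)
    rw [Subgroup.eq_bot_iff_forall]
    intro x hx
    have : (⟨x, hx⟩ : G) ∈ (⊤ : Subgroup G) := Subgroup.mem_top _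
    rw [hbot, Subgroup.mem_bot] at this
    exact congrArg Subtype.val this
  exact Cfsg.Agent.Lib.H18.PermPStab.exists_pair (H := G) (Ω := Ω) p hdvd

end Cfsg.Agent.S4170
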