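import Cfsg.Statements.S4172
import Mathlib
import Cfsg.Agent.Lib.H21.TwoGenE

set_option autoImplicit false
open Cfsg

namespace Cfsg.Agent.S4172

open Cfsg.Agent.Lib.H21.TwoGen in
/-- Let p be a prime and G a finite group with a non-commutative Sylow p-subgroup P whose Frattini subgroup has index p² in P (P is generated by two elements). Suppose G has no nontrivial normal subgroup of order prime to p and the Frattini subgroup of P contains no nontrivial normal subgroup of G. Then the generalized Fitting subgroup F*(G) is the unique minimal normal subgroup of G, the image of P in G/F*(G) is cyclic, and if F*(G) is not commutative then P permutes the components of G transitively by conjugation. -/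
theorem result {G : Type*} [Group G] [Finite G] (p : ℕ) [Fact p.Prime] (P : Sylow p G) (hna : ¬ IsMulCommutative (P : Subgroup G)) (hgen : (frattini ↥(P : Subgroup G)).index = p ^ 2) (hcore : Cfsg.pPrimeCore p G = ⊥) (hfrat : ((frattini ↥(P : Subgroup G)).map (P : Subgroup G).subtype).normalCore = ⊥) [hFn : (Cfsg.generalizedFittingSubgroup G).Normal] :
    (Cfsg.generalizedFittingSubgroup G ≠ ⊥ ∧ ∀ K : Subgroup G, K.Normal → K ≠ ⊥ → Cfsg.generalizedFittingSubgroup G ≤ K) ∧
      IsCyclic ↥((P : Subgroup G).map (QuotientGroup.mk' (Cfsg.generalizedFittingSubgroup G))) ∧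
      (¬ IsMulCommutative (Cfsg.generalizedFittingSubgroup G) → ∀ K L : Subgroup G, Cfsg.IsComponent K → Cfsg.IsComponent L → ∃ x ∈ (P : Subgroup G), L = K.map (MulAut.conj x).toMonoidHom) := by
  have h : Hyp p P := ⟨hna, hgen, hcore, hfrat⟩
  obtain ⟨K₀, hK₀n, hK₀, hmin⟩ := h.exists_min
  obtain ⟨hF, hcase⟩ := h.fstar_eq hK₀n hK₀ hmin
  refine ⟨⟨hF ▸ hK₀, fun K hKn hK => hF ▸ hmin K hKn hK⟩, ?_, ?_⟩
  · -- cyclic image
    have h1 := h.not_inf_le hK₀n hK₀
    obtain ⟨y, hyP, hy⟩ := exists_sup_zpowers_eq_sub h.hgen (Q := K₀ ⊓ (P : Subgroup G))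
      inf_le_right h1
    have h2 : (P : Subgroup G).map (QuotientGroup.mk' (Cfsg.generalizedFittingSubgroup G))
        = Subgroup.zpowers (QuotientGroup.mk' (Cfsg.generalizedFittingSubgroup G) y) := by
      conv_lhs => rw [← hy]
      rw [Subgroup.map_sup, MonoidHom.map_zpowers]
      have h3 : (K₀ ⊓ (P : Subgroup G)).map
          (QuotientGroup.mk' (Cfsg.generalizedFittingSubgroup G)) = ⊥ := by
        rw [eq_bot_iff]
        rintro _ ⟨k, hk, rfl⟩
        rw [Subgroup.mem_bot, QuotientGroup.mk'_apply, QuotientGroup.eq_one_iff, hF]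
        exact (Subgroup.mem_inf.mp hk).1
      rw [h3, bot_sup_eq]
    rw [h2]
    infer_instance
  · intro hnc K L hK hL
    rcases hcase with ⟨hRbot, -⟩ | hc
    · exact h.components_conj hRbot hK hL
    · exfalso
      apply hnc
      refine ⟨⟨fun a b => ?_⟩⟩
      apply Subtype.ext
      rw [Subgroup.coe_mul, Subgroup.coe_mul]
      have ha : a.1 ∈ K₀ := hF ▸ a.2
      have hb : b.1 ∈ K₀ := hF ▸ b.2
      exact (Subgroup.mem_centralizer_iff.mp (hc hb) a.1 ha)

end Cfsg.Agent.S4172
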