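import Mathlib
import Cfsg.Prelude.Def_Local
import Cfsg.Agent.Lib.H10.PSolvable2
import Cfsg.Agent.Lib.H1.IndexBasic
import Cfsg.Agent.Lib.H1.Hall

set_option autoImplicit false

namespace Cfsg.Agent.S4176

open scoped Classical

section basics

variable {k V H : Type*} [Field k] [AddCommGroup V] [Module k V] [Group H]

/-- Stabilizer of a vector under a representation. -/
def stab (ρ : Representation k H V) (v : V) : Subgroup H where
  carrier := {h | ρ h v = v}
  one_mem' := by simp
  mul_mem' := by
    intro a b ha hb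
    simp only [Set.mem_setOf_eq] at *
    rw [map_mul, Module.End.mul_apply, hb, ha]
  inv_mem' := by
    intro a ha
    simp only [Set.mem_setOf_eq] at *
    have h1 : ρ a⁻¹ (ρ a v) = v := by
      rw [← Module.End.mul_apply, ← map_mul, inv_mul_cancel, map_one, Module.End.one_apply]
    rw [ha] at h1
    exact h1

theorem mem_stab (ρ : Representation k H V) (v : V) (h : H) : h ∈ stab ρ v ↔ ρ h v = v := Iff.rfl

theorem rho_inv_apply (ρ : Representation k H V) (h : H) (v : V) : ρ h⁻¹ (ρ h v) = v := by
  rw [← Module.End.mul_apply, ← map_mul, inv_mul_cancel, map_one, Module.End.one_apply]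

theorem rho_apply_inv (ρ : Representation k H V) (h : H) (v : V) : ρ h (ρ h⁻¹ v) = v := by
  rw [← Module.End.mul_apply, ← map_mul, mul_inv_cancel, map_one, Module.End.one_apply]

theorem rho_mul_apply (ρ : Representation k H V) (g h : H) (v : V) : ρ (g * h) v = ρ g (ρ h v) := by
  rw [map_mul, Module.End.mul_apply]

/-- Orbit-stabilizer for a representation. -/
theorem card_orb [Finite H] (ρ : Representation k H V) (v : V) :
    Nat.card {u : V | ∃ h : H, ρ h v = u} = (stab ρ v).index := by
  rw [Subgroup.index_eq_card]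
  symm
  let f : H ⧸ stab ρ v → {u : V | ∃ h : H, ρ h v = u} := fun q =>
    Quotient.liftOn' q (fun h => (⟨ρ h v, h, rfl⟩ : {u : V | ∃ h : H, ρ h v = u})) (by
      intro a b hab
      rw [QuotientGroup.leftRel_apply, mem_stab] at hab
      apply Subtype.ext
      show ρ a v = ρ b v
      have : ρ a (ρ (a⁻¹ * b) v) = ρ b v := by
        rw [← rho_mul_apply, mul_inv_cancel_left]
      rw [hab] at this
      exact this)
  apply Nat.card_congr (Equiv.ofBijective f ⟨?_, ?_⟩)
  · intro q1 q2
    induction q1 using Quotient.inductionOn' with | _ a => ?_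
    induction q2 using Quotient.inductionOn' with | _ b => ?_
    intro hab
    have hab' : ρ a v = ρ b v := congrArg Subtype.val hab
    apply Quotient.sound'
    rw [QuotientGroup.leftRel_apply, mem_stab, rho_mul_apply, ← hab', rho_inv_apply]
  · rintro ⟨u, h, rfl⟩
    exact ⟨QuotientGroup.mk h, rfl⟩

end basics

section core

variable {k V N : Type*} [Field k] [AddCommGroup V] [Module k V] [Group N] [Fintype N]

theorem cast_card_subgroup_ne_zero (K : Subgroup N) (hN : (Nat.card N : k) ≠ 0) :
    (Nat.card K : k) ≠ 0 := by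
  intro h0
  apply hN
  obtain ⟨m, hm⟩ := Subgroup.card_subgroup_dvd_card K
  rw [hm, Nat.cast_mul, h0, zero_mul]

/-- If `N = K L` with `L` fixing `w` and the full trace of `w` vanishes, then the `K`-trace of `w` vanishes. -/
theorem sum_subgroup_eq_zero (ρ : Representation k N V) (hN : (Nat.card N : k) ≠ 0)
    (K : Subgroup N) (w : V) (hw : ∑ n : N, ρ n w = 0)
    (hKL : ∀ n : N, ∃ x ∈ K, ∃ y ∈ stab ρ w, n = x * y) :
    ∑ x : K, ρ (x : N) w = 0 := by
  have h1 : ∀ g : N, ∑ x : K, ρ ((x : N) * g) w = ∑ x : K, ρ (x : N) w := by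
    intro g
    obtain ⟨x0, hx0, y0, hy0, rfl⟩ := hKL g
    rw [mem_stab] at hy0
    have : ∀ x : K, ρ ((x : N) * (x0 * y0)) w = ρ ((x * ⟨x0, hx0⟩ : K) : N) w := by
      intro x
      rw [← mul_assoc, rho_mul_apply, hy0]
      rfl
    simp_rw [this]
    exact Fintype.sum_equiv (Equiv.mulRight (⟨x0, hx0⟩ : K)) _ _ (fun x => rfl)
  have h2 : ∑ g : N, ∑ x : K, ρ ((x : N) * g) w = 0 := by
    rw [Finset.sum_comm]
    apply Finset.sum_eq_zero
    intro x _
    rw [← hw]
    exact Fintype.sum_equiv (Equiv.mulLeft (x : N)) _ _ (fun g => rfl)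
  simp_rw [h1] at h2
  rw [Finset.sum_const, Finset.card_univ, ← Nat.card_eq_fintype_card, ← Nat.cast_smul_eq_nsmul k] at h2
  rcases smul_eq_zero.mp h2 with h | h
  · exact absurd h hN
  · exact h

/-- Core lemma: an `N`-equivariant map sends `u` into `span (N w)` only trivially, when the stabilizers
of `u` and `w` factorize `N` and the trace of `w` vanishes. -/
theorem core_lemma (ρ : Representation k N V) (hN : (Nat.card N : k) ≠ 0)
    (u w : V) (hw : ∑ n : N, ρ n w = 0)
    (hKL : ∀ n : N, ∃ x ∈ stab ρ u, ∃ y ∈ stab ρ w, n = x * y)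
    (f : V →ₗ[k] V) (hf : ∀ (n : N) (v : V), f (ρ n v) = ρ n (f v))
    (hfu : f u ∈ Submodule.span k {z : V | ∃ n : N, ρ n w = z}) : f u = 0 := by
  set K := stab ρ u with hK
  have hTK := sum_subgroup_eq_zero ρ hN K w hw hKL
  let TK : V →ₗ[k] V := ∑ x : K, ρ (x : N)
  have hTK_apply : ∀ v, TK v = ∑ x : K, ρ (x : N) v := by
    intro v
    simp only [TK, LinearMap.sum_apply]
  have hle : Submodule.span k {z : V | ∃ n : N, ρ n w = z} ≤ LinearMap.ker TK := by
    rw [Submodule.span_le]
    rintro z ⟨n, rfl⟩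
    rw [SetLike.mem_coe, LinearMap.mem_ker, hTK_apply]
    obtain ⟨x0, hx0, y0, hy0, rfl⟩ := hKL n
    rw [mem_stab] at hy0
    have : ∀ x : K, ρ (x : N) (ρ (x0 * y0) w) = ρ ((x * ⟨x0, hx0⟩ : K) : N) w := by
      intro x
      rw [rho_mul_apply, hy0, ← rho_mul_apply]
      rfl
    simp_rw [this]
    rw [← hTK]
    exact Fintype.sum_equiv (Equiv.mulRight (⟨x0, hx0⟩ : K)) _ _ (fun x => rfl)
  have h0 : TK (f u) = 0 := LinearMap.mem_ker.mp (hle hfu)
  rw [hTK_apply] at h0
  have hfix : ∀ x : K, ρ (x : N) (f u) = f u := by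
    intro x
    rw [← hf]
    congr 1
    exact x.2
  simp_rw [hfix] at h0
  rw [Finset.sum_const, Finset.card_univ, ← Nat.card_eq_fintype_card, ← Nat.cast_smul_eq_nsmul k] at h0
  rcases smul_eq_zero.mp h0 with h | h
  · exact absurd h (cast_card_subgroup_ne_zero K hN)
  · exact h

end core

section avg

variable {k V H : Type*} [Field k] [AddCommGroup V] [Module k V] [Group H] [Fintype H]

/-- Trace over a subgroup. -/
noncomputable def tr (ρ : Representation k H V) (N : Subgroup H) : V →ₗ[k] V := ∑ n : N, ρ (n : H)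

theorem tr_apply (ρ : Representation k H V) (N : Subgroup H) (v : V) :
    tr ρ N v = ∑ n : N, ρ (n : H) v := by
  simp only [tr, LinearMap.sum_apply]

theorem rho_tr (ρ : Representation k H V) (N : Subgroup H) (n : H) (hn : n ∈ N) (v : V) :
    ρ n (tr ρ N v) = tr ρ N v := by
  rw [tr_apply, map_sum]
  have : ∀ m : N, ρ n (ρ (m : H) v) = ρ (((⟨n, hn⟩ : N) * m : N) : H) v := by
    intro m
    rw [← rho_mul_apply]
    rfl
  simp_rw [this]
  exact Fintype.sum_equiv (Equiv.mulLeft (⟨n, hn⟩ : N)) _ _ (fun x => rfl)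

theorem tr_rho_comm (ρ : Representation k H V) (N : Subgroup H) [N.Normal] (h : H) (v : V) :
    tr ρ N (ρ h v) = ρ h (tr ρ N v) := by
  rw [tr_apply, tr_apply, map_sum]
  have : ∀ m : N, ρ h (ρ ((MulAut.conjNormal h⁻¹ m : N) : H) v) = ρ (m : H) (ρ h v) := by
    intro m
    rw [← rho_mul_apply, ← rho_mul_apply, MulAut.conjNormal_apply]
    congr 2
    group
  rw [← Fintype.sum_equiv (MulAut.conjNormal h⁻¹ : N ≃* N).toEquiv
    (fun m => ρ h (ρ ((MulAut.conjNormal h⁻¹ m : N) : H) v)) (fun m => ρ h (ρ (m : H) v)) (fun m => rfl)]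
  exact Finset.sum_congr rfl (fun m _ => (this m).symm)

theorem tr_of_fixed (ρ : Representation k H V) (N : Subgroup H) (v : V)
    (hv : ∀ n ∈ N, ρ n v = v) : tr ρ N v = (Nat.card N : k) • v := by
  rw [tr_apply]
  have : ∀ m : N, ρ (m : H) v = v := fun m => hv m m.2
  simp_rw [this]
  rw [Finset.sum_const, Finset.card_univ, ← Nat.card_eq_fintype_card, Nat.cast_smul_eq_nsmul]

/-- Averaging projection onto the fixed points of `N`. -/
noncomputable def avg (ρ : Representation k H V) (N : Subgroup H) : V →ₗ[k] V :=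
  (Nat.card N : k)⁻¹ • tr ρ N

theorem avg_apply (ρ : Representation k H V) (N : Subgroup H) (v : V) :
    avg ρ N v = (Nat.card N : k)⁻¹ • tr ρ N v := rfl

theorem rho_avg (ρ : Representation k H V) (N : Subgroup H) (n : H) (hn : n ∈ N) (v : V) :
    ρ n (avg ρ N v) = avg ρ N v := by
  rw [avg_apply, map_smul, rho_tr ρ N n hn]

theorem avg_rho_comm (ρ : Representation k H V) (N : Subgroup H) [N.Normal] (h : H) (v : V) :
    avg ρ N (ρ h v) = ρ h (avg ρ N v) := by
  rw [avg_apply, avg_apply, map_smul, tr_rho_comm]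

theorem avg_of_fixed (ρ : Representation k H V) (N : Subgroup H) (hN : (Nat.card N : k) ≠ 0) (v : V)
    (hv : ∀ n ∈ N, ρ n v = v) : avg ρ N v = v := by
  rw [avg_apply, tr_of_fixed ρ N v hv, smul_smul, inv_mul_cancel₀ hN, one_smul]

theorem avg_avg (ρ : Representation k H V) (N : Subgroup H) (hN : (Nat.card N : k) ≠ 0) (v : V) :
    avg ρ N (avg ρ N v) = avg ρ N v :=
  avg_of_fixed ρ N hN _ (fun n hn => rho_avg ρ N n hn v)

end avg

section quot

variable {k V H : Type*} [Field k] [AddCommGroup V] [Module k V] [Group H]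

/-- Fixed points of a subgroup, as a submodule. -/
def fixN (ρ : Representation k H V) (N : Subgroup H) : Submodule k V where
  carrier := {v | ∀ n ∈ N, ρ n v = v}
  add_mem' := by
    intro a b ha hb n hn
    rw [map_add, ha n hn, hb n hn]
  zero_mem' := by
    intro n _
    exact map_zero _
  smul_mem' := by
    intro c v hv n hn
    rw [map_smul, hv n hn]

theorem mem_fixN (ρ : Representation k H V) (N : Subgroup H) (v : V) :
    v ∈ fixN ρ N ↔ ∀ n ∈ N, ρ n v = v := Iff.rfl

theorem fixN_inv (ρ : Representation k H V) (N : Subgroup H) [hN : N.Normal] (h : H) :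
    ∀ v ∈ fixN ρ N, ρ h v ∈ fixN ρ N := by
  intro v hv n hn
  have e1 : n * h = h * (h⁻¹ * n * h⁻¹⁻¹) := by group
  rw [← rho_mul_apply, e1, rho_mul_apply, hv _ (hN.conj_mem n hn h⁻¹)]

/-- The representation of `H` on the fixed points of a normal subgroup. -/
def subRep (ρ : Representation k H V) (N : Subgroup H) [N.Normal] : Representation k H (fixN ρ N) where
  toFun h := (ρ h).restrict (fixN_inv ρ N h)
  map_one' := by
    ext v
    simp
  map_mul' := by
    intro g h
    ext v
    simp [rho_mul_apply]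

theorem subRep_apply (ρ : Representation k H V) (N : Subgroup H) [N.Normal] (h : H) (v : fixN ρ N) :
    ((subRep ρ N h v : fixN ρ N) : V) = ρ h (v : V) := rfl

/-- The representation of `H ⧸ N` on the fixed points of `N`. -/
def quotRep (ρ : Representation k H V) (N : Subgroup H) [N.Normal] :
    Representation k (H ⧸ N) (fixN ρ N) :=
  QuotientGroup.lift N (subRep ρ N) (by
    intro n hn
    rw [MonoidHom.mem_ker]
    ext v
    rw [subRep_apply]
    exact v.2 n hn)

theorem quotRep_mk (ρ : Representation k H V) (N : Subgroup H) [N.Normal] (h : H) (v : fixN ρ N) :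
    ((quotRep ρ N (QuotientGroup.mk h) v : fixN ρ N) : V) = ρ h (v : V) := rfl

end quot

section reduce

variable {k V H : Type*} [Field k] [AddCommGroup V] [Module k V] [Group H] [Finite H]

theorem finite_of_span (ρ : Representation k H V) (a : V)
    (hspan : Submodule.span k {u : V | ∃ h : H, ρ h a = u} = ⊤) : Module.Finite k V := by
  rw [Module.finite_def, ← hspan]
  apply Submodule.fg_span
  have : {u : V | ∃ h : H, ρ h a = u} = Set.range (fun h : H => ρ h a) := by
    ext u
    simp
  rw [this]
  exact Set.finite_range _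

theorem reduce (p : ℕ) [Fact p.Prime] (ρ : Representation k H V) (N : Subgroup H) [N.Normal]
    (π : V →ₗ[k] V) (hπ1 : ∀ v, π v ∈ fixN ρ N) (hπ2 : ∀ h v, π (ρ h v) = ρ h (π v))
    (hπ3 : ∀ v ∈ fixN ρ N, π v = v)
    (a : V) (hfix : ∃ P : Sylow p H, ∀ x : H, x ∈ (P : Subgroup H) → ρ x a = a)
    (hspan : Submodule.span k {u : V | ∃ h : H, ρ h a = u} = ⊤)
    (IH : ∀ a0 : fixN ρ N,
      (∃ P : Sylow p (H ⧸ N), ∀ x : H ⧸ N, x ∈ (P : Subgroup (H ⧸ N)) → quotRep ρ N x a0 = a0) →
      Submodule.span k {u : fixN ρ N | ∃ q : H ⧸ N, quotRep ρ N q a0 = u} = ⊤ →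
      Module.finrank k (quotRep ρ N).invariants ≤ 1 ∧
      ∀ b0 : fixN ρ N, (Nat.card {u : fixN ρ N | ∃ q : H ⧸ N, quotRep ρ N q a0 = u}).Coprime
        (Nat.card {u : fixN ρ N | ∃ q : H ⧸ N, quotRep ρ N q b0 = u}) →
        ∀ q : H ⧸ N, quotRep ρ N q b0 = b0) :
    Module.finrank k ρ.invariants ≤ 1 ∧
    ∀ b : V, (Nat.card {u : V | ∃ h : H, ρ h a = u}).Coprime (Nat.card {u : V | ∃ h : H, ρ h b = u}) →
      ∀ h : H, ρ h (π b) = π b := by
  haveI := finite_of_span ρ a hspan
  let π' : V →ₗ[k] fixN ρ N := π.codRestrict (fixN ρ N) hπ1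
  have hπ'_apply : ∀ v, ((π' v : fixN ρ N) : V) = π v := fun v => rfl
  have hπ'_rho : ∀ h v, π' (ρ h v) = quotRep ρ N (QuotientGroup.mk h) (π' v) := by
    intro h v
    apply Subtype.ext
    rw [quotRep_mk, hπ'_apply, hπ'_apply, hπ2]
  -- index divisibility
  have hdvd : ∀ v : V, Nat.card {u : fixN ρ N | ∃ q : H ⧸ N, quotRep ρ N q (π' v) = u} ∣
      Nat.card {u : V | ∃ h : H, ρ h v = u} := by
    intro v
    rw [card_orb, card_orb,
      ← Subgroup.index_comap_of_surjective (stab (quotRep ρ N) (π' v)) (QuotientGroup.mk'_surjective N)]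
    apply Subgroup.index_dvd_of_le
    intro h hh
    rw [mem_stab] at hh
    rw [Subgroup.mem_comap, mem_stab, QuotientGroup.mk'_apply, ← hπ'_rho, hh]
  obtain ⟨P, hP⟩ := hfix
  have h1 : ∃ P : Sylow p (H ⧸ N), ∀ x : H ⧸ N, x ∈ (P : Subgroup (H ⧸ N)) →
      quotRep ρ N x (π' a) = π' a := by
    refine ⟨P.mapSurjective (QuotientGroup.mk'_surjective N), ?_⟩
    intro x hx
    rw [Sylow.coe_mapSurjective, Subgroup.mem_map] at hx
    obtain ⟨y, hy, rfl⟩ := hx
    rw [QuotientGroup.mk'_apply, ← hπ'_rho, hP y hy]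
  have h2 : Submodule.span k {u : fixN ρ N | ∃ q : H ⧸ N, quotRep ρ N q (π' a) = u} = ⊤ := by
    have hsurj : Function.Surjective π' := by
      intro v0
      refine ⟨(v0 : V), ?_⟩
      apply Subtype.ext
      rw [hπ'_apply, hπ3 _ v0.2]
    have e1 : Submodule.map π' (Submodule.span k {u : V | ∃ h : H, ρ h a = u}) = ⊤ := by
      rw [hspan, Submodule.map_top, LinearMap.range_eq_top]
      exact hsurj
    rw [Submodule.map_span] at e1
    rw [eq_top_iff, ← e1]
    apply Submodule.span_mono
    rintro _ ⟨u, ⟨h, rfl⟩, rfl⟩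
    exact ⟨QuotientGroup.mk h, (hπ'_rho h a).symm⟩
  obtain ⟨c1, c2⟩ := IH (π' a) h1 h2
  refine ⟨?_, ?_⟩
  · -- finrank
    have hinvN : ∀ v ∈ ρ.invariants, v ∈ fixN ρ N := by
      intro v hv n _
      exact (Representation.mem_invariants ρ v).mp hv n
    let g : ρ.invariants →ₗ[k] (quotRep ρ N).invariants :=
      { toFun := fun v => ⟨⟨(v : V), hinvN _ v.2⟩, by
          rw [Representation.mem_invariants]
          intro q
          induction q using QuotientGroup.induction_on with | _ h => ?_
          apply Subtype.ext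
          rw [quotRep_mk]
          exact (Representation.mem_invariants ρ _).mp v.2 h⟩
        map_add' := by
          intro x y
          rfl
        map_smul' := by
          intro c x
          rfl }
    have hg : Function.Injective g := by
      intro x y hxy
      apply Subtype.ext
      have := congrArg (fun z : (quotRep ρ N).invariants => ((z : fixN ρ N) : V)) hxy
      exact this
    exact le_trans (LinearMap.finrank_le_finrank_of_injective hg) c1
  · intro b hcop h
    have hc : (Nat.card {u : fixN ρ N | ∃ q : H ⧸ N, quotRep ρ N q (π' a) = u}).Coprime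
        (Nat.card {u : fixN ρ N | ∃ q : H ⧸ N, quotRep ρ N q (π' b) = u}) :=
      Nat.Coprime.coprime_dvd_left (hdvd a) (Nat.Coprime.coprime_dvd_right (hdvd b) hcop)
    have := c2 (π' b) hc (QuotientGroup.mk h)
    have := congrArg (fun z : fixN ρ N => (z : V)) this
    simpa [quotRep_mk, hπ'_apply] using this

end reduce

section main

universe u v w

/-- Equivariant projection onto an invariant subspace (Maschke by hand). -/
theorem exists_equivariant_proj {k : Type w} {V : Type v} {N : Type u} [Field k] [AddCommGroup V] [Module k V]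
    [Group N] [Fintype N] (ρ : Representation k N V) (hN : (Nat.card N : k) ≠ 0) (W : Submodule k V)
    (hW : ∀ (n : N) (w : V), w ∈ W → ρ n w ∈ W) :
    ∃ π : V →ₗ[k] V, (∀ (n : N) (v : V), π (ρ n v) = ρ n (π v)) ∧ (∀ v, π v ∈ W) ∧ (∀ w ∈ W, π w = w) := by
  obtain ⟨W', hW'⟩ := Submodule.exists_isCompl W
  let π0 : V →ₗ[k] V := W.projection W' hW'
  have hπ0_mem : ∀ v, π0 v ∈ W := fun v => Submodule.projection_apply_mem hW' v
  have hπ0_id : ∀ w ∈ W, π0 w = w := by
    intro w hw
    exact Submodule.projection_apply_left hW' ⟨w, hw⟩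
  let S : V →ₗ[k] V := ∑ n : N, (ρ n) ∘ₗ π0 ∘ₗ (ρ n⁻¹)
  have hS_apply : ∀ v, S v = ∑ n : N, ρ n (π0 (ρ n⁻¹ v)) := by
    intro v
    simp only [S, LinearMap.sum_apply, LinearMap.comp_apply]
  refine ⟨(Nat.card N : k)⁻¹ • S, ?_, ?_, ?_⟩
  · intro m v
    rw [LinearMap.smul_apply, LinearMap.smul_apply, map_smul, hS_apply, hS_apply, map_sum]
    congr 1
    have : ∀ n : N, ρ m (ρ n (π0 (ρ n⁻¹ v))) = ρ (m * n) (π0 (ρ (m * n)⁻¹ (ρ m v))) := by
      intro n
      rw [← rho_mul_apply, ← rho_mul_apply (ρ := ρ) ((m * n)⁻¹) m]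
      congr 4
      group
    simp_rw [this]
    exact (Fintype.sum_equiv (Equiv.mulLeft m) _ _ (fun n => rfl)).symm
  · intro v
    rw [LinearMap.smul_apply, hS_apply]
    apply Submodule.smul_mem
    apply Submodule.sum_mem
    intro n _
    exact hW n _ (hπ0_mem _)
  · intro w hw
    rw [LinearMap.smul_apply, hS_apply]
    have : ∀ n : N, ρ n (π0 (ρ n⁻¹ w)) = w := by
      intro n
      rw [hπ0_id _ (hW n⁻¹ w hw), rho_apply_inv]
    simp_rw [this]
    rw [Finset.sum_const, Finset.card_univ, ← Nat.card_eq_fintype_card, ← Nat.cast_smul_eq_nsmul k,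
      smul_smul, inv_mul_cancel₀ hN, one_smul]

theorem orb_rho_eq {k : Type w} {V : Type v} {H : Type u} [Field k] [AddCommGroup V] [Module k V] [Group H]
    (ρ : Representation k H V) (h : H) (v : V) :
    {u : V | ∃ g : H, ρ g (ρ h v) = u} = {u : V | ∃ g : H, ρ g v = u} := by
  ext u
  constructor
  · rintro ⟨g, rfl⟩
    exact ⟨g * h, rho_mul_apply ρ g h v⟩
  · rintro ⟨g, rfl⟩
    refine ⟨g * h⁻¹, ?_⟩
    rw [rho_mul_apply, rho_inv_apply]

theorem main (p : ℕ) [Fact p.Prime] {k : Type w} [Field k] [CharP k p] :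
    ∀ (n : ℕ) (H : Type u) [Group H] [Finite H] (V : Type v) [AddCommGroup V] [Module k V],
      Nat.card H = n → Cfsg.IsPSolvable p H → ∀ (ρ : Representation k H V) (a : V),
      (∃ P : Sylow p H, ∀ x : H, x ∈ (P : Subgroup H) → ρ x a = a) →
      Submodule.span k {u : V | ∃ h : H, ρ h a = u} = ⊤ →
      Module.finrank k ρ.invariants ≤ 1 ∧
      ∀ b : V, (Nat.card {u : V | ∃ h : H, ρ h a = u}).Coprime (Nat.card {u : V | ∃ h : H, ρ h b = u}) →
        ∀ h : H, ρ h b = b := by
  intro n
  induction n using Nat.strong_induction_on with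
  | _ n ih =>
  intro H _ _ V _ _ hn hsol ρ a hfix hspan
  by_cases hH : Subsingleton H
  · have h1 : ∀ h : H, h = 1 := fun h => Subsingleton.elim _ _
    refine ⟨?_, ?_⟩
    · have hV : Module.finrank k V ≤ 1 := by
        apply finrank_le_one a
        intro w
        have hw : w ∈ Submodule.span k {u : V | ∃ h : H, ρ h a = u} := by
          rw [hspan]
          trivial
        have hset : {u : V | ∃ h : H, ρ h a = u} = {a} := by
          ext u
          constructor
          · rintro ⟨h, rfl⟩
            rw [h1 h, map_one]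
            rfl
          · rintro rfl
            exact ⟨1, by simp⟩
        rw [hset, Submodule.mem_span_singleton] at hw
        exact hw
      haveI := finite_of_span ρ a hspan
      exact le_trans (Submodule.finrank_le _) hV
    · intro b _ h
      rw [h1 h, map_one]
      rfl
  · rw [not_subsingleton_iff_nontrivial] at hH
    obtain ⟨N, hNn, hNbot, hcase⟩ := Cfsg.Agent.Lib.H10.exists_normal_of_isPSolvable hsol
    haveI := hNn
    have hlt : Nat.card (H ⧸ N) < n := by
      rw [← hn, Subgroup.card_eq_card_quotient_mul_card_subgroup N]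
      have h1 : 1 < Nat.card N := (Subgroup.one_lt_card_iff_ne_bot N).mpr hNbot
      have h2 : 0 < Nat.card (H ⧸ N) := Nat.card_pos
      nlinarith
    have IH := fun (a0 : fixN ρ N) => ih (Nat.card (H ⧸ N)) hlt (H ⧸ N) (fixN ρ N) rfl
      (Cfsg.Agent.Lib.H10.isPSolvable_quotient hsol N) (quotRep ρ N) a0
    rcases hcase with hp | hp'
    · obtain ⟨P, hP⟩ := hfix
      have hNP : N ≤ (P : Subgroup H) :=
        Cfsg.Agent.Lib.H1.le_of_normal_isPGroup_of_not_dvd_index hp P.not_dvd_index
      have htriv : ∀ v : V, v ∈ fixN ρ N := by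
        intro v
        have hv : v ∈ Submodule.span k {u : V | ∃ h : H, ρ h a = u} := by
          rw [hspan]
          trivial
        refine (Submodule.span_le.mpr ?_) hv
        rintro _ ⟨h, rfl⟩
        exact fixN_inv ρ N h a (fun n hn => hP n (hNP hn))
      have key := reduce p ρ N LinearMap.id (fun v => htriv v) (fun h v => rfl) (fun v _ => rfl)
        a ⟨P, hP⟩ hspan IH
      exact ⟨key.1, fun b hb h => key.2 b hb h⟩
    · haveI : Fintype H := Fintype.ofFinite H
      have hNk : (Nat.card N : k) ≠ 0 := by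
        intro h0
        rw [CharP.cast_eq_zero_iff k p] at h0
        have h1 : p = 1 := Nat.Coprime.eq_one_of_dvd hp'.symm h0
        exact (Fact.out : p.Prime).one_lt.ne' h1
      have key := reduce p ρ N (avg ρ N) (fun v n hn => rho_avg ρ N n hn v)
        (fun h v => avg_rho_comm ρ N h v) (fun v hv => avg_of_fixed ρ N hNk v hv) a hfix hspan IH
      refine ⟨key.1, ?_⟩
      intro b hcop
      have hfixb := key.2 b hcop
      suffices hb1 : b - avg ρ N b = 0 by
        intro h
        have hb : b = avg ρ N b := sub_eq_zero.mp hb1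
        rw [hb]
        exact hfixb h
      have he_b1 : avg ρ N (b - avg ρ N b) = 0 := by
        rw [map_sub, avg_avg ρ N hNk, sub_self]
      have htr_b1 : tr ρ N (b - avg ρ N b) = 0 := by
        have h0 := he_b1
        rw [avg_apply] at h0
        rcases smul_eq_zero.mp h0 with h | h
        · exact absurd (inv_eq_zero.mp h) hNk
        · exact h
      let ρN : Representation k N V := ρ.comp N.subtype
      have hρN : ∀ (n : N) (v : V), ρN n v = ρ (n : H) v := fun n v => rfl
      have hsum : ∑ n : N, ρN n (b - avg ρ N b) = 0 := by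
        rw [← htr_b1, tr_apply]
        exact Finset.sum_congr rfl (fun n _ => hρN n _)
      let W : Submodule k V := Submodule.span k {z : V | ∃ n : N, ρN n (b - avg ρ N b) = z}
      have hW : ∀ (n : N) (w : V), w ∈ W → ρN n w ∈ W := by
        intro n w hw
        have hle : W ≤ Submodule.comap (ρN n) W := by
          apply Submodule.span_le.mpr
          rintro _ ⟨m, rfl⟩
          rw [SetLike.mem_coe, Submodule.mem_comap, ← rho_mul_apply]
          exact Submodule.subset_span ⟨n * m, rfl⟩
        exact hle hw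
      obtain ⟨π, hπ1, hπ2, hπ3⟩ := exists_equivariant_proj ρN hNk W hW
      have hb1W : b - avg ρ N b ∈ W := by
        apply Submodule.subset_span
        refine ⟨1, ?_⟩
        rw [map_one]
        rfl
      -- stabilizer inclusions
      have hst : ∀ (v : V), stab ρ v ≤ stab ρ (v - avg ρ N v) := by
        intro v g hg
        rw [mem_stab] at hg ⊢
        rw [map_sub, ← avg_rho_comm, hg]
      have hrel : ∀ (v : V), (stab ρN v).index ∣ (stab ρ v).index := by
        intro v
        have : stab ρN v = (stab ρ v).subgroupOf N := by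
          ext x
          rfl
        rw [this]
        exact Cfsg.Agent.Lib.H1.relIndex_dvd_index_of_normal_right (stab ρ v) N
      have hidx : ∀ h : H, (stab ρN (ρ h (a - avg ρ N a))).index.Coprime
          (stab ρN (b - avg ρ N b)).index := by
        intro h
        have e1 : (stab ρ (ρ h (a - avg ρ N a))).index = (stab ρ (a - avg ρ N a)).index := by
          rw [← card_orb, ← card_orb, orb_rho_eq]
        have d1 : (stab ρN (ρ h (a - avg ρ N a))).index ∣ Nat.card {u : V | ∃ h : H, ρ h a = u} := by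
          rw [card_orb]
          exact dvd_trans (hrel _) (e1 ▸ Subgroup.index_dvd_of_le (hst a))
        have d2 : (stab ρN (b - avg ρ N b)).index ∣ Nat.card {u : V | ∃ h : H, ρ h b = u} := by
          rw [card_orb]
          exact dvd_trans (hrel _) (Subgroup.index_dvd_of_le (hst b))
        exact Nat.Coprime.coprime_dvd_left d1 (Nat.Coprime.coprime_dvd_right d2 hcop)
      have hzero : ∀ h : H, π (ρ h (a - avg ρ N a)) = 0 := by
        intro h
        apply core_lemma ρN hNk (ρ h (a - avg ρ N a)) (b - avg ρ N b) hsum _ π hπ1 (hπ2 _)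
        intro n
        exact Cfsg.Agent.Lib.H1.exists_mul_of_coprime_index (hidx h) n
      have hb1span : b - avg ρ N b ∈ Submodule.span k {u : V | ∃ h : H, ρ h (a - avg ρ N a) = u} := by
        let φ : V →ₗ[k] V := LinearMap.id - avg ρ N
        have hφ : ∀ v, φ v = v - avg ρ N v := fun v => rfl
        have hb : b ∈ Submodule.span k {u : V | ∃ h : H, ρ h a = u} := by
          rw [hspan]
          trivial
        have h1 : φ b ∈ Submodule.map φ (Submodule.span k {u : V | ∃ h : H, ρ h a = u}) :=
          Submodule.mem_map_of_mem hb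
        rw [Submodule.map_span] at h1
        rw [← hφ b]
        refine (Submodule.span_mono ?_) h1
        rintro _ ⟨u, ⟨h, rfl⟩, rfl⟩
        refine ⟨h, ?_⟩
        rw [hφ, map_sub, avg_rho_comm]
      have hπb : π (b - avg ρ N b) = 0 := by
        have hle : Submodule.span k {u : V | ∃ h : H, ρ h (a - avg ρ N a) = u} ≤ LinearMap.ker π := by
          rw [Submodule.span_le]
          rintro _ ⟨h, rfl⟩
          exact hzero h
        exact hle hb1span
      rw [hπ3 _ hb1W] at hπb
      exact hπb

end main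

/-- Let k be a field of prime characteristic p, H a finite p-soluble group and ρ a k-linear representation of H on V. Let a be a vector that is fixed by some Sylow p-subgroup of H and whose H-orbit spans V. Then the space of H-fixed vectors has dimension at most 1, and every vector b whose H-orbit has size coprime to the size of the orbit of a is fixed by H. -/
theorem result {k V H : Type*} [Field k] (p : ℕ) [Fact p.Prime] [CharP k p] [AddCommGroup V] [Module k V]
    [Group H] [Finite H] (hsol : Cfsg.IsPSolvable p H) (ρ : Representation k H V) (a : V)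
    (hfix : ∃ P : Sylow p H, ∀ x : H, x ∈ (P : Subgroup H) → ρ x a = a)
    (hspan : Submodule.span k {u : V | ∃ h : H, ρ h a = u} = ⊤) :
    Module.finrank k ρ.invariants ≤ 1 ∧
    ∀ b : V, (Nat.card {u : V | ∃ h : H, ρ h a = u}).Coprime (Nat.card {u : V | ∃ h : H, ρ h b = u}) → ∀ h : H, ρ h b = b := by
  exact main p (Nat.card H) H V rfl hsol ρ a hfix hspan

end Cfsg.Agent.S4176
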