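import Cfsg.Statements.S4177
import Mathlib

set_option autoImplicit false
open Cfsg

namespace Cfsg.Agent.S4177

open MulAction

lemma exists_mem_stabilizer_smul_eq {H X : Type*} [Group H] [Finite H] [MulAction H X] (a b : X)
    (hcop : (orbit H a).ncard.Coprime (orbit H b).ncard) (h : H) :
    ∃ β ∈ stabilizer H b, h • a = β • a := by
  have hAi : (stabilizer H a).index = (orbit H a).ncard := index_stabilizer H a
  have hBi : (stabilizer H b).index = (orbit H b).ncard := index_stabilizer H b
  have h1 : (stabilizer H a ⊓ stabilizer H b).index =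
      (stabilizer H a).relIndex (stabilizer H b) * (stabilizer H b).index := by
    rw [← Subgroup.inf_relIndex_right, Subgroup.relIndex_mul_index inf_le_right]
  have h2 : (stabilizer H a).index ∣ (stabilizer H a ⊓ stabilizer H b).index :=
    Subgroup.index_dvd_of_le inf_le_left
  have h3 : (stabilizer H a).index ∣ (stabilizer H a).relIndex (stabilizer H b) := by
    rw [h1] at h2
    exact Nat.Coprime.dvd_of_dvd_mul_right (by rw [hAi, hBi]; exact hcop) h2
  have h4 : (stabilizer H a).relIndex (stabilizer H b) = (orbit (stabilizer H b) a).ncard := by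
    have key : (stabilizer H a).subgroupOf (stabilizer H b) = stabilizer (stabilizer H b) a := by
      ext; rfl
    rw [Subgroup.relIndex, key, index_stabilizer]
  have h5 : orbit (stabilizer H b) a = orbit H a := by
    apply Set.eq_of_subset_of_ncard_le
    · rintro _ ⟨β, rfl⟩; exact ⟨(β : H), rfl⟩
    · rw [← hAi, ← h4]
      exact Nat.le_of_dvd (Nat.pos_of_ne_zero Subgroup.index_ne_zero_of_finite) h3
    · exact Set.finite_range _
  have : h • a ∈ orbit (stabilizer H b) a := by rw [h5]; exact ⟨h, rfl⟩
  obtain ⟨β, hβ⟩ := this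
  exact ⟨β, β.2, hβ.symm⟩

section
variable {k V K : Type*} [Field k] [AddCommGroup V] [Module k V] [Group K] [Fintype K]

/-- the (unnormalised) trace operator `∑ g, σ g`. -/
noncomputable def tr (σ : Representation k K V) : V →ₗ[k] V := ∑ g : K, σ g

lemma tr_apply (σ : Representation k K V) (v : V) : tr σ v = ∑ g : K, σ g v := by
  simp [tr, LinearMap.sum_apply]

lemma smul_tr (σ : Representation k K V) (g : K) (v : V) : σ g (tr σ v) = tr σ v := by
  rw [tr_apply, map_sum]
  exact Fintype.sum_equiv (Equiv.mulLeft g) _ _ (fun κ => by simp [map_mul])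

lemma tr_smul (σ : Representation k K V) (g : K) (v : V) : tr σ (σ g v) = tr σ v := by
  rw [tr_apply, tr_apply]
  exact Fintype.sum_equiv (Equiv.mulRight g) _ _ (fun κ => by simp [map_mul])

lemma tr_of_invariant (σ : Representation k K V) (v : V) (hv : ∀ g, σ g v = v) :
    tr σ v = (Fintype.card K : k) • v := by
  rw [tr_apply, Finset.sum_congr rfl (fun g _ => hv g), Finset.sum_const, Finset.card_univ,
    Nat.cast_smul_eq_nsmul]

lemma tr_mem_span (σ : Representation k K V) (a : V)
    (hspan : Submodule.span k {u : V | ∃ g : K, σ g a = u} = ⊤) (v : V) :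
    tr σ v ∈ Submodule.span k {tr σ a} := by
  have h : Submodule.span k {u : V | ∃ g : K, σ g a = u} ≤
      (Submodule.span k {tr σ a}).comap (tr σ) := by
    rw [Submodule.span_le]
    rintro _ ⟨g, rfl⟩
    simp only [Submodule.comap_coe, Set.mem_preimage, SetLike.mem_coe, tr_smul]
    exact Submodule.mem_span_singleton_self _
  rw [hspan] at h
  exact h Submodule.mem_top

lemma invariant_mem_span (σ : Representation k K V) (a : V)
    (hspan : Submodule.span k {u : V | ∃ g : K, σ g a = u} = ⊤)
    (hK : (Fintype.card K : k) ≠ 0) (v : V) (hv : ∀ g, σ g v = v) :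
    v ∈ Submodule.span k {tr σ a} := by
  have h1 := tr_mem_span σ a hspan v
  rw [tr_of_invariant σ v hv] at h1
  have : v = (Fintype.card K : k)⁻¹ • ((Fintype.card K : k) • v) := by
    rw [smul_smul, inv_mul_cancel₀ hK, one_smul]
  rw [this]; exact Submodule.smul_mem _ _ h1

end

/-- Let k be a field whose characteristic does not divide the order of the finite group H (for instance a field of characteristic zero), and ρ a k-linear representation of H on V. Let a be a vector whose H-orbit spans V. Then the space of H-fixed vectors has dimension at most 1, and every vector b whose H-orbit has size coprime to the size of the orbit of a is fixed by H. -/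
theorem result {k V H : Type*} [Field k] [AddCommGroup V] [Module k V] [Group H] [Finite H]
    (hchar : ¬ ringChar k ∣ Nat.card H) (ρ : Representation k H V) (a : V)
    (hspan : Submodule.span k {u : V | ∃ h : H, ρ h a = u} = ⊤) :
    Module.finrank k ρ.invariants ≤ 1 ∧
    ∀ b : V, (Nat.card {u : V | ∃ h : H, ρ h a = u}).Coprime (Nat.card {u : V | ∃ h : H, ρ h b = u}) → ∀ h : H, ρ h b = b := by
  classical
  haveI : Fintype H := Fintype.ofFinite H
  have hH : (Fintype.card H : k) ≠ 0 := by
    intro h0
    apply hchar
    rw [Nat.card_eq_fintype_card]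
    exact (ringChar.spec k _).1 h0
  constructor
  · apply finrank_le_one (⟨tr ρ a, fun g => smul_tr ρ g a⟩ : ρ.invariants)
    rintro ⟨w, hw⟩
    obtain ⟨c, hc⟩ := Submodule.mem_span_singleton.1 (invariant_mem_span ρ a hspan hH w hw)
    exact ⟨c, Subtype.ext hc⟩
  · intro b hcop
    letI : MulAction H V := MulAction.compHom V (ρ : H →* Module.End k V)
    have hsm : ∀ (h : H) (v : V), h • v = ρ h v := fun _ _ => rfl
    have hcop' : (orbit H a).ncard.Coprime (orbit H b).ncard := by
      rw [← Nat.card_coe_set_eq, ← Nat.card_coe_set_eq]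
      exact hcop
    have K1 := exists_mem_stabilizer_smul_eq a b hcop'
    obtain ⟨B, hB⟩ : ∃ B : Subgroup H, B = stabilizer H b := ⟨_, rfl⟩
    have hBmem : ∀ β : B, ρ β b = b := by
      intro β
      have h1 : (β : H) ∈ stabilizer H b := hB ▸ β.2
      exact h1
    have K1' : ∀ h : H, ∃ β : B, ρ h a = ρ β a := by
      intro h
      obtain ⟨β, hβ, hh⟩ := K1 h
      exact ⟨⟨β, hB ▸ hβ⟩, hh⟩
    let σ : Representation k B V := ρ.comp B.subtype
    have hσ : ∀ (β : B) (v : V), σ β v = ρ β v := fun _ _ => rfl
    have hBk : (Fintype.card B : k) ≠ 0 := by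
      intro h0
      apply hchar
      have h1 : ringChar k ∣ Fintype.card B := (ringChar.spec k _).1 h0
      rw [← Nat.card_eq_fintype_card] at h1
      exact h1.trans (Subgroup.card_subgroup_dvd_card B)
    have hspanσ : Submodule.span k {u : V | ∃ β : B, σ β a = u} = ⊤ := by
      rw [← hspan]
      congr 1
      ext u
      constructor
      · rintro ⟨β, rfl⟩; exact ⟨(β : H), rfl⟩
      · rintro ⟨h, rfl⟩
        obtain ⟨β, hβ⟩ := K1' h
        exact ⟨β, hβ.symm⟩
    have hb := invariant_mem_span σ a hspanσ hBk b hBmem
    obtain ⟨c, hc⟩ := Submodule.mem_span_singleton.1 hb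
    -- key identity
    have e1 : tr σ (tr ρ a) = (Fintype.card B : k) • tr ρ a :=
      tr_of_invariant σ _ (fun β => smul_tr ρ β a)
    have e2 : tr σ (tr ρ a) = (Fintype.card H : k) • tr σ a := by
      rw [tr_apply ρ a, map_sum]
      have : ∀ h ∈ (Finset.univ : Finset H), tr σ (ρ h a) = tr σ a := by
        intro h _
        obtain ⟨β, hβ⟩ := K1' h
        rw [hβ, ← hσ, tr_smul]
      rw [Finset.sum_congr rfl this, Finset.sum_const, Finset.card_univ, Nat.cast_smul_eq_nsmul]
    have e3 : tr σ a = (Fintype.card H : k)⁻¹ • ((Fintype.card B : k) • tr ρ a) := by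
      rw [← e1, e2, smul_smul, inv_mul_cancel₀ hH, one_smul]
    intro h
    rw [← hc, e3, map_smul, map_smul, map_smul, smul_tr]

end Cfsg.Agent.S4177
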