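import Cfsg.Statements.S4178
import Mathlib

set_option autoImplicit false
open Cfsg

namespace Cfsg.Agent.S4178

variable {F V : Type*} [Field F] [AddCommGroup V] [Module F V]

/-- the subgroup generated by elements with a nonzero fixed vector -/
def Rsub (H : Subgroup (V ≃ₗ[F] V)) : Subgroup ↥H :=
  Subgroup.closure {h : ↥H | ∃ v : V, v ≠ 0 ∧ (h : V ≃ₗ[F] V) v = v}

lemma smul_eq (H : Subgroup (V ≃ₗ[F] V)) (h : ↥H) (v : V) : h • v = (h : V ≃ₗ[F] V) v := rfl

lemma stabilizer_le (H : Subgroup (V ≃ₗ[F] V)) (x : V) (hx : x ≠ 0) :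
    MulAction.stabilizer ↥H x ≤ Rsub H := by
  intro h hh
  apply Subgroup.subset_closure
  exact ⟨x, hx, by rw [← smul_eq]; exact MulAction.mem_stabilizer_iff.1 hh⟩

lemma key [Finite V] (H : Subgroup (V ≃ₗ[F] V)) (X : Set V) (hX0 : (0 : V) ∉ X)
    (hinv : ∀ h : ↥H, ∀ x ∈ X, (h : V ≃ₗ[F] V) x ∈ X) : (Rsub H).index ∣ X.ncard := by
  induction' hn : X.ncard using Nat.strong_induction_on with n ih generalizing X
  by_cases hne : X = ∅
  · subst hne; rw [← hn]; simp
  obtain ⟨x, hx⟩ := Set.nonempty_iff_ne_empty.2 hne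
  have hx0 : x ≠ 0 := fun h => hX0 (h ▸ hx)
  set O := MulAction.orbit ↥H x with hO
  have hOX : O ⊆ X := by
    rintro y ⟨h, rfl⟩
    exact hinv h x hx
  have hOcard : (Rsub H).index ∣ O.ncard := by
    rw [← MulAction.index_stabilizer]
    exact Subgroup.index_dvd_of_le (stabilizer_le H x hx0)
  have hsplit : (X \ O).ncard + O.ncard = X.ncard := Set.ncard_sdiff_add_ncard_of_subset hOX
  have hOpos : 0 < O.ncard := by
    rw [Set.ncard_pos]
    exact ⟨x, MulAction.mem_orbit_self x⟩
  have hlt : (X \ O).ncard < n := by omega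
  have h0' : (0 : V) ∉ X \ O := fun h => hX0 h.1
  have hinv' : ∀ h : ↥H, ∀ y ∈ X \ O, (h : V ≃ₗ[F] V) y ∈ X \ O := by
    intro h y hy
    refine ⟨hinv h y hy.1, fun hmem => hy.2 ?_⟩
    have : h • y ∈ MulAction.orbit ↥H x := hmem
    rw [MulAction.mem_orbit_iff] at this ⊢
    obtain ⟨g, hg⟩ := this
    refine ⟨h⁻¹ * g, ?_⟩
    rw [mul_smul, hg, inv_smul_smul]
  have := ih _ hlt (X \ O) h0' hinv' rfl
  rw [← hn, ← hsplit]
  exact dvd_add this hOcard

/-- Let F be a finite field with q elements, V a non-zero finite-dimensional F-space of dimension d, H a group of invertible linear maps of V, and R the subgroup of H generated by the elements of H that fix some non-zero vector (have eigenvalue 1). Then the index of R in H is at most q^d − 1; and if H leaves invariant some proper non-zero subspace, the index is at most q^(d/2) − 1. -/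
theorem result {F V : Type*} [Field F] [Fintype F] [AddCommGroup V] [Module F V] [FiniteDimensional F V] [Nontrivial V]
    (H : Subgroup (V ≃ₗ[F] V)) :
    (Subgroup.closure {h : ↥H | ∃ v : V, v ≠ 0 ∧ (h : V ≃ₗ[F] V) v = v}).index ≤ Fintype.card F ^ Module.finrank F V - 1 ∧
    ((∃ W : Submodule F V, W ≠ ⊥ ∧ W ≠ ⊤ ∧ ∀ h ∈ H, ∀ w ∈ W, h w ∈ W) →
      ((Subgroup.closure {h : ↥H | ∃ v : V, v ≠ 0 ∧ (h : V ≃ₗ[F] V) v = v}).index : ℝ) ≤ Real.sqrt ((Fintype.card F : ℝ) ^ Module.finrank F V) - 1) := by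
  classical
  haveI : Finite V := Module.finite_of_finite F
  haveI : Fintype V := Fintype.ofFinite V
  change (Rsub H).index ≤ _ ∧ (_ → ((Rsub H).index : ℝ) ≤ _)
  set k := (Rsub H).index with hk
  set q := Fintype.card F with hq
  set d := Module.finrank F V with hd
  have hq2 : 2 ≤ q := Fintype.one_lt_card
  have hcardV : Nat.card V = q ^ d := by
    rw [Nat.card_eq_fintype_card]; exact Module.card_eq_pow_finrank
  haveI : Finite (V ≃ₗ[F] V) := Finite.of_injective (fun e : V ≃ₗ[F] V => (e : V → V)) DFunLike.coe_injective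
  haveI : Finite ↥H := inferInstance
  have hkpos : 0 < k := Nat.pos_of_ne_zero Subgroup.index_ne_zero_of_finite
  have hdpos : 0 < d := Module.finrank_pos
  -- first part
  have h1 : k ∣ q ^ d - 1 := by
    have := key H ({0}ᶜ : Set V) (by simp) (by
      intro h x hx
      simp only [Set.mem_compl_iff, Set.mem_singleton_iff] at hx ⊢
      intro h0
      exact hx ((h : V ≃ₗ[F] V).map_eq_zero_iff.1 h0))
    rw [Set.ncard_compl, Set.ncard_singleton, hcardV] at this
    exact this
  have hqd : 2 ≤ q ^ d := by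
    calc 2 ≤ q := hq2
      _ = q ^ 1 := (pow_one q).symm
      _ ≤ q ^ d := Nat.pow_le_pow_right (by omega) hdpos
  refine ⟨Nat.le_of_dvd (by omega) h1, ?_⟩
  rintro ⟨W, hWbot, hWtop, hWinv⟩
  set w := Module.finrank F W with hw
  have hwpos : 0 < w := by
    rw [hw, Module.finrank_pos_iff]
    exact Submodule.nontrivial_iff_ne_bot.2 hWbot
  have hwlt : w < d := Submodule.finrank_lt hWtop
  have hcardW : (W : Set V).ncard = q ^ w := by
    rw [← Nat.card_coe_set_eq]
    haveI : Fintype W := Fintype.ofFinite W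
    rw [Nat.card_eq_fintype_card]
    exact Module.card_eq_pow_finrank
  -- k ∣ q^w - 1
  have h2 : k ∣ q ^ w - 1 := by
    have := key H ((W : Set V) \ {0}) (by simp) (by
      intro h x hx
      refine ⟨hWinv h h.2 x hx.1, ?_⟩
      have hx0 : x ≠ 0 := by simpa using hx.2
      simp only [Set.mem_singleton_iff]
      intro h0
      exact hx0 ((h : V ≃ₗ[F] V).map_eq_zero_iff.1 h0))
    rw [Set.ncard_sdiff (by simp), hcardW, Set.ncard_singleton] at this
    exact this
  -- k ∣ q^d - q^w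
  have h3 : k ∣ q ^ d - q ^ w := by
    have := key H ((W : Set V)ᶜ) (by simp) (by
      intro h x hx hmem
      apply hx
      have : ((h⁻¹ : ↥H) : V ≃ₗ[F] V) ((h : V ≃ₗ[F] V) x) ∈ W :=
        hWinv _ (h⁻¹).2 _ hmem
      simpa using this)
    rw [Set.ncard_compl, hcardW, hcardV] at this
    exact this
  have h4 : k ∣ q ^ (d - w) - 1 := by
    have e : q ^ d - q ^ w = q ^ w * (q ^ (d - w) - 1) := by
      rw [Nat.mul_sub, mul_one, ← pow_add]
      congr 2; omega
    rw [e] at h3
    have hcop : Nat.Coprime k (q ^ w) := by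
      have hqw : 1 ≤ q ^ w := Nat.one_le_pow _ _ (by omega)
      have : Nat.Coprime (q ^ w - 1) (q ^ w) := by
        have h' : Nat.Coprime (q ^ w - 1) (q ^ w - 1 + 1) := by simp
        rwa [Nat.sub_add_cancel hqw] at h'
      exact Nat.Coprime.coprime_dvd_left h2 this
    exact hcop.dvd_of_dvd_mul_left h3
  -- now bound
  have hqwpos : 2 ≤ q ^ w := by
    calc 2 ≤ q := hq2
      _ = q ^ 1 := (pow_one q).symm
      _ ≤ q ^ w := Nat.pow_le_pow_right (by omega) hwpos
  have hqdwpos : 2 ≤ q ^ (d - w) := by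
    calc 2 ≤ q := hq2
      _ = q ^ 1 := (pow_one q).symm
      _ ≤ q ^ (d - w) := Nat.pow_le_pow_right (by omega) (by omega)
  have b1 : k + 1 ≤ q ^ w := by
    have := Nat.le_of_dvd (by omega) h2; omega
  have b2 : k + 1 ≤ q ^ (d - w) := by
    have := Nat.le_of_dvd (by omega) h4; omega
  have hsq : (k + 1) ^ 2 ≤ q ^ d := by
    calc (k + 1) ^ 2 = (k + 1) * (k + 1) := by ring
      _ ≤ q ^ w * q ^ (d - w) := Nat.mul_le_mul b1 b2
      _ = q ^ d := by rw [← pow_add]; congr 1; omega
  have hreal : ((k : ℝ) + 1) ^ 2 ≤ (q : ℝ) ^ d := by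
    exact_mod_cast hsq
  have : (k : ℝ) + 1 ≤ Real.sqrt ((q : ℝ) ^ d) := by
    apply Real.le_sqrt_of_sq_le
    exact hreal
  linarith

end Cfsg.Agent.S4178
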