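import Cfsg.Statements.S4182
import Mathlib

set_option autoImplicit false
open Cfsg

namespace Cfsg.Agent.S4182

open scoped Pointwise

/-- A finite `p`-group is not the union of at most `p` proper subgroups. -/
lemma pgroup_cover {G : Type*} [Group G] [Finite G] (p : ℕ) [Fact p.Prime] (hG : IsPGroup p G)
    {ι : Type*} [Fintype ι] (K : ι → Subgroup G) (hK : ∀ i, K i ≠ ⊤)
    (hcov : ∀ g : G, ∃ i, g ∈ K i) : p + 1 ≤ Fintype.card ι := by
  classical
  by_contra hcon
  have hr : Fintype.card ι ≤ p := by omega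
  haveI : Fintype G := Fintype.ofFinite G
  have hp := (Fact.out : p.Prime)
  set n := Fintype.card G with hn
  -- each K i has p * card ≤ n
  have hKi : ∀ i, p * Nat.card (K i) ≤ n := by
    intro i
    obtain ⟨e, he⟩ := hG.index (K i)
    have hne : (K i).index ≠ 1 := fun h => hK i (Subgroup.index_eq_one.1 h)
    have he0 : e ≠ 0 := by rintro rfl; exact hne (by simpa using he)
    have hdvd : p ∣ (K i).index := by rw [he]; exact dvd_pow_self p he0
    have hmul := Subgroup.card_mul_index (K i)
    rw [Nat.card_eq_fintype_card (α := G)] at hmul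
    obtain ⟨c, hc⟩ := hdvd
    have hcpos : 0 < c := by
      rcases Nat.eq_zero_or_pos c with h0 | h0
      · rw [h0, mul_zero] at hc
        exact absurd hc Subgroup.index_ne_zero_of_finite
      · exact h0
    calc p * Nat.card (K i) ≤ p * Nat.card (K i) * c := Nat.le_mul_of_pos_right _ hcpos
      _ = Nat.card (K i) * (K i).index := by rw [hc]; ring
      _ = n := hmul
  have hcov' : (Finset.univ : Finset G) ⊆
      {1} ∪ Finset.univ.biUnion (fun i => ((K i : Set G).toFinset.erase 1)) := by
    intro g _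
    by_cases hg : g = 1
    · simp [hg]
    · obtain ⟨i, hi⟩ := hcov g
      simp only [Finset.mem_union, Finset.mem_singleton, Finset.mem_biUnion, Finset.mem_univ,
        true_and, Finset.mem_erase, Set.mem_toFinset, SetLike.mem_coe]
      exact Or.inr ⟨i, hg, hi⟩
  have h1 := Finset.card_le_card hcov'
  have h2 := Finset.card_union_le ({1} : Finset G)
    (Finset.univ.biUnion (fun i => ((K i : Set G).toFinset.erase 1)))
  have h3 := Finset.card_biUnion_le (s := (Finset.univ : Finset ι))
    (t := fun i => ((K i : Set G).toFinset.erase 1))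
  have h4 : ∀ i, ((K i : Set G).toFinset.erase 1).card = Nat.card (K i) - 1 := by
    intro i
    rw [Finset.card_erase_of_mem (by simp [(K i).one_mem])]
    congr 1
    rw [Set.toFinset_card, Nat.card_eq_fintype_card]
    rfl
  simp only [h4] at h3
  rw [Finset.card_univ] at h1
  rw [Finset.card_singleton] at h2
  -- obtain some i
  obtain ⟨i0, _⟩ := hcov 1
  have hnp : p ≤ n := by
    have := hKi i0
    have h1' : 1 ≤ Nat.card (K i0) := Nat.card_pos
    nlinarith
  have h5 : ∀ i, p * (Nat.card (K i) - 1) ≤ n - p := by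
    intro i
    have := hKi i
    have h1' : 1 ≤ Nat.card (K i) := Nat.card_pos
    rw [Nat.mul_sub, mul_one]
    omega
  have h6 : p * ∑ i : ι, (Nat.card (K i) - 1) ≤ p * (n - p) := by
    rw [Finset.mul_sum]
    calc ∑ i : ι, p * (Nat.card (K i) - 1) ≤ ∑ _i : ι, (n - p) := Finset.sum_le_sum (fun i _ => h5 i)
      _ = Fintype.card ι * (n - p) := by simp
      _ ≤ p * (n - p) := Nat.mul_le_mul_right _ hr
  have h7 : ∑ i : ι, (Nat.card (K i) - 1) ≤ n - p := Nat.le_of_mul_le_mul_left h6 hp.pos
  have := hp.two_le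
  omega


section main

variable {G : Type*} [Group G]

/-- `p`-element -/
def pel (p : ℕ) (g : G) : Prop := ∃ k : ℕ, orderOf g = p ^ k

/-- generated by its `p`-elements -/
def pgen (p : ℕ) (M : Subgroup G) : Prop := Subgroup.closure {g : G | g ∈ M ∧ pel p g} = M

lemma pel_equiv (p : ℕ) (φ : G ≃* G) {g : G} (h : pel p g) : pel p (φ g) := by
  obtain ⟨k, hk⟩ := h
  exact ⟨k, by rw [MulEquiv.orderOf_eq, hk]⟩

lemma pgen_smul (p : ℕ) (y : G) {M : Subgroup G} (h : pgen p M) : pgen p (MulAut.conj y • M) := by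
  unfold pgen at h ⊢
  conv_rhs => rw [← h, Subgroup.smul_closure]
  congr 1
  ext g
  simp only [Set.mem_setOf_eq, Set.mem_smul_set_iff_inv_smul_mem,
    Subgroup.mem_pointwise_smul_iff_inv_smul_mem]
  constructor
  · rintro ⟨h1, h2⟩
    refine ⟨h1, ?_⟩
    have := pel_equiv p ((MulAut.conj y)⁻¹) h2
    exact this
  · rintro ⟨h1, h2⟩
    refine ⟨h1, ?_⟩
    have := pel_equiv p (MulAut.conj y) h2
    have e : (MulAut.conj y) ((MulAut.conj y)⁻¹ • g) = g := by
      show (MulAut.conj y) ((MulAut.conj y)⁻¹ g) = g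
      exact MulEquiv.apply_symm_apply _ _
    rwa [e] at this

lemma smul_ne_top (y : G) {M : Subgroup G} (h : M ≠ ⊤) : MulAut.conj y • M ≠ ⊤ := by
  intro e
  apply h
  rw [eq_top_iff]
  intro g _
  have : MulAut.conj y • g ∈ MulAut.conj y • M := by rw [e]; trivial
  rwa [Subgroup.smul_mem_pointwise_smul_iff] at this

lemma pgen_of_pgroup (p : ℕ) [Fact p.Prime] (Q : Subgroup G) (hQ : IsPGroup p Q) : pgen p Q := by
  unfold pgen
  have : {g : G | g ∈ Q ∧ pel p g} = (Q : Set G) := by
    ext g
    simp only [Set.mem_setOf_eq, SetLike.mem_coe, and_iff_left_iff_imp]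
    intro hg
    obtain ⟨k, hk⟩ := (IsPGroup.iff_orderOf.1 hQ) ⟨g, hg⟩
    exact ⟨k, by rw [← hk, Subgroup.orderOf_mk]⟩
  rw [this, Subgroup.closure_eq]


/-- transfer of generation by `p`-elements to the subgroup type -/
lemma closure_pel_subtype (p : ℕ) (M : Subgroup G) (hM : pgen p M) :
    Subgroup.closure {g : ↥M | pel p g} = ⊤ := by
  apply Subgroup.map_injective M.subtype_injective
  rw [MonoidHom.map_closure, ← MonoidHom.range_eq_map, Subgroup.range_subtype]
  have : (M.subtype '' {g : ↥M | pel p g}) = {g : G | g ∈ M ∧ pel p g} := by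
    ext g
    constructor
    · rintro ⟨⟨x, hx⟩, hp, rfl⟩
      obtain ⟨k, hk⟩ := hp
      exact ⟨hx, k, by rw [← hk, Subgroup.orderOf_mk]; rfl⟩
    · rintro ⟨hg, k, hk⟩
      exact ⟨⟨g, hg⟩, ⟨k, by rw [← hk, Subgroup.orderOf_mk]⟩, rfl⟩
  rw [this]
  exact hM

lemma conj_stable_closure (M : Subgroup G) (S : Set G)
    (h : ∀ x ∈ S, MulAut.conj x • M = M) : ∀ g ∈ Subgroup.closure S, MulAut.conj g • M = M := by
  intro g hg
  induction hg using Subgroup.closure_induction with
  | mem x hx => exact h x hx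
  | one => rw [map_one, one_smul]
  | mul a b _ _ iha ihb => rw [map_mul, mul_smul, ihb, iha]
  | inv a _ iha => rw [map_inv, inv_smul_eq_iff, iha]


theorem main_thm (p : ℕ) [Fact p.Prime] {ι : Type*} [Fintype ι] :
    ∀ (n : ℕ) (G : Type*) [Group G] [Finite G], Nat.card G = n →
    Subgroup.closure {g : G | pel p g} = ⊤ →
    ∀ (K : ι → Subgroup G), (∀ i, K i ≠ ⊤) → (∀ g : G, pel p g → ∃ i, g ∈ K i) →
    p + 1 ≤ Fintype.card ι := by
  intro n
  induction' n using Nat.strong_induction_on with n ih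
  intro G _ _ hn hgen K hK hcov
  classical
  by_contra hcon
  have hr : Fintype.card ι ≤ p := by omega
  have hp := (Fact.out : p.Prime)
  by_cases hGp : IsPGroup p G
  · exact hcon (pgroup_cover p hGp K hK (fun g => hcov g (IsPGroup.iff_orderOf.1 hGp g)))
  -- (∗)
  have star : ∀ M : Subgroup G, M ≠ ⊤ → pgen p M → ∃ i, M ≤ K i := by
    intro M hMtop hMgen
    by_contra hno
    push Not at hno
    have hlt : Nat.card M < n := by
      rw [← hn]
      refine lt_of_le_of_ne (Subgroup.card_le_card_group M) ?_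
      intro e
      exact hMtop (Subgroup.eq_top_of_card_eq M e)
    apply hcon
    apply ih (Nat.card M) hlt ↥M rfl (closure_pel_subtype p M hMgen)
      (fun i => (K i).subgroupOf M)
    · intro i e
      exact hno i (Subgroup.subgroupOf_eq_top.1 e)
    · rintro ⟨g, hg⟩ ⟨k, hk⟩
      obtain ⟨i, hi⟩ := hcov g ⟨k, by rw [← hk, Subgroup.orderOf_mk]⟩
      exact ⟨i, Subgroup.mem_subgroupOf.2 hi⟩
  -- the family 𝒜 and its maximal members
  let A : Set (Subgroup G) := {M | M ≠ ⊤ ∧ pgen p M}
  let Mx : Set (Subgroup G) := {M | Maximal (· ∈ A) M}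
  have hconjA : ∀ (y : G) (M : Subgroup G), M ∈ A → MulAut.conj y • M ∈ A :=
    fun y M hM => ⟨smul_ne_top y hM.1, pgen_smul p y hM.2⟩
  have hconjMx : ∀ (y : G) (M : Subgroup G), M ∈ Mx → MulAut.conj y • M ∈ Mx := by
    intro y M hM
    refine ⟨hconjA y M hM.1, ?_⟩
    intro M'' hM'' hle
    have h1 : M ≤ (MulAut.conj y)⁻¹ • M'' := Subgroup.pointwise_smul_subset_iff.1 hle
    have h2 : (MulAut.conj y)⁻¹ • M'' ∈ A := by
      rw [← map_inv]; exact hconjA y⁻¹ M'' hM''
    have h3 := hM.2 h2 h1
    exact Subgroup.subset_pointwise_smul_iff.2 h3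
  -- |Mx| ≤ |ι|
  have hMxι : ∀ M : Mx, ∃ i, (M : Subgroup G) ≤ K i := fun M => star M M.2.1.1 M.2.1.2
  choose f hf using hMxι
  have hfinj : Function.Injective f := by
    have key : ∀ M : Mx, (M : Subgroup G) = Subgroup.closure {g : G | g ∈ K (f M) ∧ pel p g} := by
      intro M
      set L := Subgroup.closure {g : G | g ∈ K (f M) ∧ pel p g} with hL
      have hLK : L ≤ K (f M) := by
        rw [hL, Subgroup.closure_le]; exact fun g hg => hg.1
      have hLA : L ∈ A := by
        refine ⟨fun e => hK (f M) (top_le_iff.1 (e ▸ hLK)), ?_⟩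
        unfold pgen
        apply le_antisymm
        · rw [Subgroup.closure_le]; exact fun g hg => hg.1
        · rw [hL]
          apply Subgroup.closure_mono
          intro g hg
          exact ⟨Subgroup.subset_closure hg, hg.2⟩
      have hML : (M : Subgroup G) ≤ L := by
        have := M.2.1.2
        unfold pgen at this
        rw [← this, hL]
        apply Subgroup.closure_mono
        intro g hg
        exact ⟨hf M hg.1, hg.2⟩
      exact le_antisymm hML (M.2.2 hLA hML)
    intro M M' e
    apply Subtype.ext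
    rw [key M, key M', e]
  have hcardMx : Nat.card Mx ≤ p := by
    have := Nat.card_le_card_of_injective f hfinj
    rw [Nat.card_eq_fintype_card (α := ι)] at this
    omega
  have hAfin : A.Finite := Set.toFinite A
  -- Sylow subgroups are in A
  have hSylA : ∀ Q : Sylow p G, (Q : Subgroup G) ∈ A := by
    intro Q
    refine ⟨?_, pgen_of_pgroup p _ Q.isPGroup'⟩
    intro e
    apply hGp
    intro g
    obtain ⟨k, hk⟩ := Q.isPGroup' ⟨g, by rw [e]; trivial⟩
    exact ⟨k, by simpa using congrArg Subtype.val hk⟩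
  -- every p-element normalizes every member of Mx
  have hnorm : ∀ x : G, pel p x → ∀ M ∈ Mx, MulAut.conj x • M = M := by
    intro x hx M hM
    obtain ⟨k, hk⟩ := hx
    have hZx : IsPGroup p (Subgroup.zpowers x) := by
      apply IsPGroup.of_card (n := k)
      rw [Nat.card_zpowers, hk]
    obtain ⟨Q, hQ⟩ := hZx.exists_le_sylow
    obtain ⟨M₀, hQM₀, hM₀⟩ := hAfin.exists_le_maximal (hSylA Q)
    have hxM₀ : x ∈ M₀ := hQM₀ (hQ (Subgroup.mem_zpowers x))
    by_contra hne
    have hMM₀ : M ≠ M₀ := by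
      rintro rfl
      exact hne (Subgroup.conj_smul_eq_self_of_mem hxM₀)
    let Z : Subgroup (MulAut G) := Subgroup.zpowers (MulAut.conj x)
    have hZ : IsPGroup p Z := by
      have hd : orderOf (MulAut.conj x) ∣ p ^ k := hk ▸ orderOf_map_dvd MulAut.conj x
      obtain ⟨j, _, hj⟩ := (Nat.dvd_prime_pow hp).1 hd
      apply IsPGroup.of_card (n := j)
      rw [Nat.card_zpowers, hj]
    have hZmem : ∀ z : Z, ∃ y : G, y ∈ M₀ ∧ (z : MulAut G) = MulAut.conj y := by
      rintro ⟨z, hz⟩
      obtain ⟨j, rfl⟩ := Subgroup.mem_zpowers_iff.1 hz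
      exact ⟨x ^ j, M₀.zpow_mem hxM₀ j, (map_zpow MulAut.conj x j).symm⟩
    have hsub : MulAction.orbit Z M ⊆ Mx \ {M₀} := by
      rintro _ ⟨z, rfl⟩
      obtain ⟨y, hy, hzy⟩ := hZmem z
      have e1 : z • M = MulAut.conj y • M := by
        show (z : MulAut G) • M = _
        rw [hzy]
      show z • M ∈ Mx \ {M₀}
      refine ⟨by rw [e1]; exact hconjMx y M hM, ?_⟩
      simp only [Set.mem_singleton_iff]
      intro e2
      apply hMM₀
      rw [e1] at e2
      have : M = (MulAut.conj y)⁻¹ • M₀ := by rw [← e2, inv_smul_smul]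
      rw [this, ← map_inv]
      exact Subgroup.conj_smul_eq_self_of_mem (M₀.inv_mem hy)
    obtain ⟨e, he⟩ := hZ.card_orbit M
    have hle : Nat.card (MulAction.orbit Z M) ≤ p - 1 := by
      rw [Nat.card_coe_set_eq]
      calc (MulAction.orbit Z M).ncard ≤ (Mx \ {M₀}).ncard :=
            Set.ncard_le_ncard hsub (Set.toFinite _)
        _ = Mx.ncard - 1 := Set.ncard_sdiff_singleton_of_mem hM₀
        _ ≤ p - 1 := by
            rw [← Nat.card_coe_set_eq]; omega
    have he0 : e = 0 := by
      by_contra h0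
      have : p ≤ p ^ e := by
        calc p = p ^ 1 := (pow_one p).symm
          _ ≤ p ^ e := Nat.pow_le_pow_right hp.pos (by omega)
      have := hp.two_le
      omega
    rw [he0, pow_zero] at he
    have hsubs : (MulAction.orbit Z M).Subsingleton := by
      rw [← Set.ncard_le_one_iff_subsingleton, ← Nat.card_coe_set_eq, he]
    have h1 : (⟨MulAut.conj x, Subgroup.mem_zpowers _⟩ : Z) • M ∈ MulAction.orbit Z M :=
      MulAction.mem_orbit _ _
    have h2 : M ∈ MulAction.orbit Z M := MulAction.mem_orbit_self _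
    exact hne (hsubs h1 h2)
  -- conclusion
  obtain ⟨P⟩ : Nonempty (Sylow p G) := inferInstance
  obtain ⟨M₁, hPM₁, hM₁⟩ := hAfin.exists_le_maximal (hSylA P)
  have hstab : ∀ g : G, MulAut.conj g • M₁ = M₁ := by
    intro g
    apply conj_stable_closure M₁ {g : G | pel p g} (fun x hx => hnorm x hx M₁ hM₁)
    rw [hgen]; trivial
  apply hM₁.1.1
  rw [eq_top_iff, ← hgen, Subgroup.closure_le]
  rintro x ⟨k, hk⟩
  have hZx : IsPGroup p (Subgroup.zpowers x) := by
    apply IsPGroup.of_card (n := k)
    rw [Nat.card_zpowers, hk]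
  obtain ⟨Q, hQ⟩ := hZx.exists_le_sylow
  obtain ⟨g, hg⟩ := MulAction.exists_smul_eq G P Q
  have hQM : (Q : Subgroup G) ≤ M₁ := by
    rw [← hg, Sylow.coe_subgroup_smul, ← hstab g]
    exact Subgroup.pointwise_smul_le_pointwise_smul_iff.2 hPM₁
  exact hQM (hQ (Subgroup.mem_zpowers x))

end main

/-- Let p be a prime and G a finite group generated by its p-elements. If a finite family of proper subgroups of G covers the set of p-elements of G (every element of p-power order lies in one of them), then the family has at least p + 1 members. -/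
theorem result {G : Type*} [Group G] [Finite G] (p : ℕ) [Fact p.Prime] (hgen : Subgroup.closure {g : G | ∃ k : ℕ, orderOf g = p ^ k} = ⊤)
    {ι : Type*} [Fintype ι] (K : ι → Subgroup G) (hK : ∀ i, K i ≠ ⊤)
    (hcov : ∀ g : G, (∃ k : ℕ, orderOf g = p ^ k) → ∃ i, g ∈ K i) :
    p + 1 ≤ Fintype.card ι :=
  main_thm p _ G rfl hgen K hK hcov

end Cfsg.Agent.S4182
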