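import Cfsg.Statements.S4186

set_option autoImplicit false
open Cfsg

namespace Cfsg.Agent.S4186

/-- Let T and X be subgroups of a group with T a finite 2-group normalizing X but not centralizing it. Then some element of T inverts some non-identity element of X under conjugation. -/
theorem result {G : Type*} [Group G] (T X : Subgroup G) [Finite ↥T] (hT : IsPGroup 2 ↥T) (hTN : T ≤ Subgroup.normalizer (X : Set G)) (hTC : ¬ T ≤ Subgroup.centralizer (X : Set G)) : ∃ t ∈ T, ∃ x ∈ X, x ≠ 1 ∧ t * x * t⁻¹ = x⁻¹ := by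
  classical
  obtain ⟨t0, ht0T, ht0C⟩ := SetLike.not_le_iff_exists.mp hTC
  obtain ⟨k, hk⟩ := hT ⟨t0, ht0T⟩
  have hk' : t0 ^ 2 ^ k = 1 := by
    have := congrArg Subtype.val hk
    simpa using this
  have hex : ∃ i, t0 ^ 2 ^ i ∈ Subgroup.centralizer (X : Set G) := ⟨k, by rw [hk']; exact one_mem _⟩
  set i := Nat.find hex with hi
  have hiP : t0 ^ 2 ^ i ∈ Subgroup.centralizer (X : Set G) := Nat.find_spec hex
  have hi0 : i ≠ 0 := by
    intro h0
    rw [h0] at hiP
    simp at hiP
    exact ht0C hiP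
  obtain ⟨j, hj⟩ := Nat.exists_eq_succ_of_ne_zero hi0
  have hjlt : j < i := by omega
  have hjP : t0 ^ 2 ^ j ∉ Subgroup.centralizer (X : Set G) := Nat.find_min hex hjlt
  set t := t0 ^ 2 ^ j with ht
  have htT : t ∈ T := T.pow_mem ht0T _
  have ht2 : t * t ∈ Subgroup.centralizer (X : Set G) := by
    have : t * t = t0 ^ 2 ^ i := by
      rw [ht, hj, ← pow_add, pow_succ]
      ring_nf
    rw [this]; exact hiP
  -- find x ∈ X not commuting with t
  have : ∃ x ∈ X, x * t ≠ t * x := by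
    by_contra hcon
    push Not at hcon
    exact hjP (Subgroup.mem_centralizer_iff.mpr fun x hx => hcon x hx)
  obtain ⟨x, hxX, hxt⟩ := this
  have htN := hTN htT
  rw [Subgroup.mem_normalizer_iff] at htN
  have hconj : t * x * t⁻¹ ∈ X := (htN x).mp hxX
  refine ⟨t, htT, x⁻¹ * (t * x * t⁻¹), X.mul_mem (X.inv_mem hxX) hconj, ?_, ?_⟩
  · intro h1
    apply hxt
    have : t * x * t⁻¹ = x := by
      have := congrArg (fun z => x * z) h1
      simpa [mul_assoc] using this
    calc x * t = (t * x * t⁻¹) * t := by rw [this]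
      _ = t * x := by group
  · have hc := Subgroup.mem_centralizer_iff.mp ht2 x hxX
    -- hc : x * (t*t) = (t*t) * x
    have h2 : t * t * x * t⁻¹ * t⁻¹ = x := by
      rw [← hc]; group
    calc t * (x⁻¹ * (t * x * t⁻¹)) * t⁻¹ = (t * x⁻¹ * t⁻¹) * (t * t * x * t⁻¹ * t⁻¹) := by group
      _ = (t * x⁻¹ * t⁻¹) * x := by rw [h2]
      _ = (x⁻¹ * (t * x * t⁻¹))⁻¹ := by group

end Cfsg.Agent.S4186
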