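import Cfsg.Statements.S4188
import Cfsg.Agent.Lib.H26.FratBdG

set_option autoImplicit false
open Cfsg

namespace Cfsg.Agent.S4188

/-- Let G be a finite group that is the semidirect product of a normal abelian subgroup N of odd order by a 2-subgroup P, and suppose N is the unique minimal normal subgroup of G. Then the index of the Frattini subgroup of P in P is at most #N − 1. -/
theorem result {G : Type*} [Group G] [Finite G] (N P : Subgroup G) (hN : N.Normal) (hNab : IsMulCommutative ↥N) (hNodd : Odd (Nat.card ↥N)) (hP : IsPGroup 2 ↥P) (hdisj : N ⊓ P = ⊥) (hprod : N ⊔ P = ⊤) (hmin : N ≠ ⊥ ∧ ∀ M : Subgroup G, M.Normal → M ≠ ⊥ → N ≤ M) : (frattini ↥P).index ≤ Nat.card ↥N - 1 := by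
  classical
  open Cfsg.Agent.Lib.H26.FratBd in
  letI : CommGroup ↥N := { (inferInstance : Group ↥N) with mul_comm := hNab.is_comm.comm }
  obtain ⟨hN1, hNmin⟩ := hmin
  have hcardN1 : Nat.card N ≠ 1 := fun h => hN1 (Subgroup.card_eq_one.mp h)
  obtain ⟨q, hq, hqdvd⟩ := Nat.exists_prime_and_dvd hcardN1
  have hqF : Fact q.Prime := ⟨hq⟩
  have hqodd : Odd q := Odd.of_dvd_nat hNodd hqdvd
  -- the elements of `N` of order dividing `q`
  let Ω : Subgroup G :=
    { carrier := {x | x ∈ N ∧ x ^ q = 1}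
      one_mem' := ⟨N.one_mem, one_pow q⟩
      mul_mem' := by
        rintro x y ⟨hx, hxq⟩ ⟨hy, hyq⟩
        refine ⟨N.mul_mem hx hy, ?_⟩
        have hc : Commute x y := by
          have := hNab.is_comm.comm (⟨x, hx⟩ : N) ⟨y, hy⟩
          exact congrArg Subtype.val this
        rw [hc.mul_pow, hxq, hyq, one_mul]
      inv_mem' := by
        rintro x ⟨hx, hxq⟩
        exact ⟨N.inv_mem hx, by rw [inv_pow, hxq, inv_one]⟩ }
  have hΩn : Ω.Normal := by
    constructor
    rintro x ⟨hx, hxq⟩ g
    refine ⟨hN.conj_mem x hx g, ?_⟩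
    rw [conj_pow, hxq, mul_one, mul_inv_cancel]
  have hΩ1 : Ω ≠ ⊥ := by
    obtain ⟨x, hx⟩ := exists_prime_orderOf_dvd_card' (G := N) q hqdvd
    intro h
    have hmem : (x : G) ∈ Ω := by
      refine ⟨x.2, ?_⟩
      have : x ^ q = 1 := by rw [← hx]; exact pow_orderOf_eq_one x
      simpa using congrArg Subtype.val this
    rw [h, Subgroup.mem_bot] at hmem
    have hx1 : x = 1 := Subtype.ext hmem
    rw [hx1, orderOf_one] at hx
    exact hq.one_lt.ne hx
  have hNΩ : N ≤ Ω := hNmin Ω hΩn hΩ1
  have hexp : ∀ v : N, v ^ q = 1 := fun v => Subtype.ext (by simpa using (hNΩ v.2).2)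
  have hNp : IsPGroup q N := fun v => ⟨1, by rw [pow_one]; exact hexp v⟩
  obtain ⟨n, hn⟩ := IsPGroup.iff_card.mp hNp
  have hn1 : 1 ≤ n := by
    rcases Nat.eq_zero_or_pos n with h | h
    · rw [h, pow_zero] at hn
      exact absurd hn hcardN1
    · exact h
  -- the conjugation action of `P` on `N` is faithful
  let φ : P →* MulAut N := (MulAut.conjNormal (H := N)).comp P.subtype
  have hφ : Function.Injective φ := by
    rw [injective_iff_map_eq_one]
    intro p hp
    let C : Subgroup G := P ⊓ Subgroup.centralizer (N : Set G)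
    have hcentN : (Subgroup.centralizer (N : Set G)).Normal := Subgroup.normal_centralizer
    have hCn : C.Normal := by
      constructor
      intro c hc g
      have hg : g ∈ N ⊔ P := by rw [hprod]; exact Subgroup.mem_top g
      rw [Subgroup.mem_sup_of_normal_left] at hg
      obtain ⟨x, hx, y, hy, rfl⟩ := hg
      have hc' : y * c * y⁻¹ ∈ C :=
        ⟨P.mul_mem (P.mul_mem hy hc.1) (P.inv_mem hy), hcentN.conj_mem c hc.2 y⟩
      have hcomm : x * (y * c * y⁻¹) = (y * c * y⁻¹) * x :=
        Subgroup.mem_centralizer_iff.mp hc'.2 x hx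
      have : x * y * c * (x * y)⁻¹ = y * c * y⁻¹ := by
        calc x * y * c * (x * y)⁻¹ = (x * (y * c * y⁻¹)) * x⁻¹ := by group
          _ = (y * c * y⁻¹) * x * x⁻¹ := by rw [hcomm]
          _ = y * c * y⁻¹ := by group
      rw [this]
      exact hc'
    have hpC : (p : G) ∈ C := by
      refine ⟨p.2, ?_⟩
      show (p : G) ∈ Subgroup.centralizer (N : Set G)
      rw [Subgroup.mem_centralizer_iff]
      intro x hx
      have h1 : φ p ⟨x, hx⟩ = ⟨x, hx⟩ := by rw [hp]; rfl
      have h2 : (p : G) * x * (p : G)⁻¹ = x := by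
        have := congrArg Subtype.val h1
        simpa [φ, MulAut.conjNormal_apply] using this
      calc x * (p : G) = ((p : G) * x * (p : G)⁻¹) * (p : G) := by rw [h2]
        _ = (p : G) * x := by group
    by_contra hp1
    have hC1 : C ≠ ⊥ := by
      intro h
      rw [h, Subgroup.mem_bot] at hpC
      exact hp1 (Subtype.ext hpC)
    have hNC : N ≤ C := hNmin C hCn hC1
    have hNP : N ≤ N ⊓ P := le_inf le_rfl (hNC.trans inf_le_left)
    rw [hdisj] at hNP
    exact hN1 (le_bot_iff.mp hNP)
  exact fr_le_card_sub_one hq hqodd hexp hn1 hn hP φ hφ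


end Cfsg.Agent.S4188
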