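import Cfsg.Statements.S4189
import Mathlib
import Cfsg.Agent.Lib.H1.PGroupBasic
import Cfsg.Agent.Lib.H1.BurnsideBasis

set_option autoImplicit false
open Cfsg

namespace Cfsg.Agent.S4189

/-- Recognition of the quaternion group of order 8. -/
theorem nonempty_mulEquiv_quaternion {P : Type*} [Group P] (hcard : Nat.card P = 8) (x y : P)
    (hx4 : x ^ 4 = 1) (hx2 : x ^ 2 ≠ 1) (hyx : y ^ 2 = x ^ 2) (hconj : y * x * y⁻¹ = x⁻¹)
    (hy : y ∉ Subgroup.zpowers x) : Nonempty (P ≃* QuaternionGroup 2) := by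
  haveI : Finite P := Nat.finite_of_card_ne_zero (by rw [hcard]; norm_num)
  -- the power map `ZMod 4 → P`
  have hf0 : (zmultiplesHom (Additive P) (Additive.ofMul x)) ((4 : ℕ) : ℤ) = 0 := by
    rw [zmultiplesHom_apply, natCast_zsmul, ← ofMul_pow, hx4, ofMul_one]
  obtain ⟨L, hL⟩ : ∃ L : ZMod (2 * 2) →+ Additive P,
      L = ZMod.lift (2 * 2) ⟨zmultiplesHom (Additive P) (Additive.ofMul x), hf0⟩ := ⟨_, rfl⟩
  obtain ⟨pw, hpw⟩ : ∃ pw : ZMod (2 * 2) → P, pw = fun i => Additive.toMul (L i) := ⟨_, rfl⟩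
  have pw_add : ∀ i j, pw (i + j) = pw i * pw j := by
    intro i j
    rw [hpw]
    simp only [map_add, toMul_add]
  have pw_int : ∀ k : ℤ, pw (k : ZMod (2 * 2)) = x ^ k := by
    intro k
    rw [hpw, hL]
    simp only [ZMod.lift_coe, zmultiplesHom_apply]
    rfl
  have pw_zero : pw 0 = 1 := by
    have := pw_int 0
    simpa using this
  have pw_neg : ∀ i, pw (-i) = (pw i)⁻¹ := by
    intro i
    rw [eq_inv_iff_mul_eq_one, ← pw_add, neg_add_cancel, pw_zero]
  have pw_sub : ∀ i j, pw (i - j) = pw i * (pw j)⁻¹ := by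
    intro i j
    rw [sub_eq_add_neg, pw_add, pw_neg]
  have pw_one : pw 1 = x := by
    have := pw_int 1
    simpa using this
  have pw_two : pw ((2 : ℕ) : ZMod (2 * 2)) = x ^ 2 := by
    have := pw_int 2
    simpa using this
  have hyp : ∀ i, y * pw i = (pw i)⁻¹ * y := by
    intro i
    obtain ⟨k, rfl⟩ := ZMod.intCast_surjective i
    rw [pw_int, ← inv_zpow, ← hconj, conj_zpow]
    group
  have hpy : ∀ i, pw i * y = y * (pw i)⁻¹ := by
    intro i
    have := hyp (-i)
    rw [pw_neg, inv_inv] at this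
    exact this.symm
  -- the homomorphism
  obtain ⟨f, hf⟩ : ∃ f : QuaternionGroup 2 → P,
      f = fun q => match q with
        | QuaternionGroup.a i => pw i
        | QuaternionGroup.xa i => y * pw i := ⟨_, rfl⟩
  have hfa : ∀ i, f (QuaternionGroup.a i) = pw i := fun i => by rw [hf]
  have hfxa : ∀ i, f (QuaternionGroup.xa i) = y * pw i := fun i => by rw [hf]
  have hcomm : ∀ i j, pw j * (pw i)⁻¹ = (pw i)⁻¹ * pw j := by
    intro i j
    rw [← pw_neg, ← pw_add, ← pw_add, add_comm]
  have hmul : ∀ q₁ q₂, f (q₁ * q₂) = f q₁ * f q₂ := by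
    rintro (i | i) (j | j)
    · rw [QuaternionGroup.a_mul_a, hfa, hfa, hfa, pw_add]
    · rw [QuaternionGroup.a_mul_xa, hfa, hfxa, hfxa, pw_sub]
      calc y * (pw j * (pw i)⁻¹) = y * ((pw i)⁻¹ * pw j) := by rw [hcomm]
        _ = (y * (pw i)⁻¹) * pw j := by rw [mul_assoc]
        _ = (pw i * y) * pw j := by rw [hpy]
        _ = pw i * (y * pw j) := by rw [mul_assoc]
    · rw [QuaternionGroup.xa_mul_a, hfxa, hfxa, hfa, pw_add, mul_assoc]
    · rw [QuaternionGroup.xa_mul_xa, hfa, hfxa, hfxa, pw_sub, pw_add, pw_two]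
      calc x ^ 2 * pw j * (pw i)⁻¹ = y ^ 2 * (pw j * (pw i)⁻¹) := by rw [hyx, mul_assoc]
        _ = y ^ 2 * ((pw i)⁻¹ * pw j) := by rw [hcomm]
        _ = y * (y * (pw i)⁻¹) * pw j := by rw [sq, mul_assoc, mul_assoc, mul_assoc]
        _ = y * (pw i * y) * pw j := by rw [hpy]
        _ = y * pw i * (y * pw j) := by rw [mul_assoc, mul_assoc, mul_assoc]
  obtain ⟨F, hF⟩ : ∃ F : QuaternionGroup 2 →* P, ⇑F = f := ⟨MonoidHom.mk' f hmul, rfl⟩
  have hxr : x ∈ F.range := ⟨QuaternionGroup.a 1, by rw [hF, hfa, pw_one]⟩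
  have hyr : y ∈ F.range := ⟨QuaternionGroup.xa 0, by rw [hF, hfxa, pw_zero, mul_one]⟩
  have hox : orderOf x = 2 ^ (1 + 1) := orderOf_eq_prime_pow (by simpa using hx2) (by simpa using hx4)
  have hlt : Subgroup.zpowers x < F.range := by
    refine lt_of_le_of_ne (Subgroup.zpowers_le.2 hxr) ?_
    intro h
    exact hy (h ▸ hyr)
  have hrange : F.range = ⊤ := by
    rw [← Subgroup.card_eq_iff_eq_top, hcard]
    have h1 : Nat.card (Subgroup.zpowers x) < Nat.card F.range := by
      by_contra hc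
      push Not at hc
      exact hlt.ne (Subgroup.eq_of_le_of_card_ge hlt.le hc)
    rw [Nat.card_zpowers, hox] at h1
    have h2 : Nat.card F.range ∣ 8 := hcard ▸ Subgroup.card_subgroup_dvd_card _
    have h3 : Nat.card F.range ≤ 8 := Nat.le_of_dvd (by norm_num) h2
    interval_cases (Nat.card F.range) <;> omega
  have hsurj : Function.Surjective F := MonoidHom.range_eq_top.1 hrange
  have hcardQ : Nat.card (QuaternionGroup 2) = 8 := by
    rw [Nat.card_eq_fintype_card, QuaternionGroup.card]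
  have hbij : Function.Bijective F :=
    hsurj.bijective_of_nat_card_le (by rw [hcard, hcardQ])
  exact ⟨(MulEquiv.ofBijective F hbij).symm⟩

open scoped commutatorElement

section aux

variable {P : Type*} [Group P]

/-- In a nilpotent group, a subgroup contained in its own commutator with the whole group is
trivial. -/
theorem eq_bot_of_le_commutator_top [Group.IsNilpotent P] (H : Subgroup P)
    (h : H ≤ ⁅H, (⊤ : Subgroup P)⁆) : H = ⊥ := by
  have key : ∀ n : ℕ, H ≤ (⊤ : Subgroup P).lowerCentralSeries n := by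
    intro n
    induction n with
    | zero => exact le_top
    | succ n ih =>
      rw [Subgroup.lowerCentralSeries_succ]
      exact h.trans (Subgroup.commutator_mono ih le_rfl)
  obtain ⟨n, hn⟩ := Subgroup.nilpotent_iff_lowerCentralSeries.1 (inferInstance : Group.IsNilpotent P)
  rw [eq_bot_iff, ← hn]
  exact key n

/-- If all squares lie in a normal subgroup `E`, all commutators do. -/
theorem commutator_mem_of_sq_mem (E : Subgroup P) [E.Normal] (h : ∀ x : P, x ^ 2 ∈ E) (x y : P) :
    ⁅x, y⁆ ∈ E := by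
  have e : ⁅x, y⁆ = (x * y) ^ 2 * (y⁻¹ * (x⁻¹) ^ 2 * y⁻¹⁻¹) * (y⁻¹) ^ 2 := by
    rw [commutatorElement_def]
    simp only [sq]
    group
  rw [e]
  exact E.mul_mem (E.mul_mem (h _) (Subgroup.Normal.conj_mem inferInstance _ (h _) _)) (h _)

/-- If `P/P'` has order 4 in a non-abelian 2-group then `P/P'` has exponent 2. -/
theorem sq_mem_commutator [Finite P] (hP : IsPGroup 2 P) (hna : ¬ IsMulCommutative P)
    (h4 : (commutator P).index = 4) (v : P) : v ^ 2 ∈ commutator P := by
  by_contra hv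
  haveI : Fact (Nat.Prime 2) := ⟨Nat.prime_two⟩
  have hcardQ : Nat.card (P ⧸ commutator P) = 4 := by rw [← Subgroup.index_eq_card, h4]
  have hq2 : (QuotientGroup.mk' (commutator P) v) ^ 2 ≠ 1 := by
    rw [← map_pow, Ne, QuotientGroup.mk'_apply, QuotientGroup.eq_one_iff]
    exact hv
  have hord : orderOf (QuotientGroup.mk' (commutator P) v) = 4 := by
    have h1 : orderOf (QuotientGroup.mk' (commutator P) v) ∣ 4 := by
      rw [← hcardQ]; exact orderOf_dvd_natCard _
    have h2 : ¬ orderOf (QuotientGroup.mk' (commutator P) v) ∣ 2 := by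
      intro h
      exact hq2 (orderOf_dvd_iff_pow_eq_one.1 h)
    have h3 : orderOf (QuotientGroup.mk' (commutator P) v) ≤ 4 := Nat.le_of_dvd (by norm_num) h1
    have h4' : 0 < orderOf (QuotientGroup.mk' (commutator P) v) := orderOf_pos _
    interval_cases (orderOf (QuotientGroup.mk' (commutator P) v)) <;> simp_all
  have htop : Subgroup.zpowers (QuotientGroup.mk' (commutator P) v) = ⊤ := by
    rw [← Subgroup.card_eq_iff_eq_top, Nat.card_zpowers, hord, hcardQ]
  have hsup : Subgroup.zpowers v ⊔ frattini P = ⊤ := by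
    rw [eq_top_iff]
    intro x _
    have hx : QuotientGroup.mk' (commutator P) x ∈
        Subgroup.zpowers (QuotientGroup.mk' (commutator P) v) := by rw [htop]; trivial
    obtain ⟨k, hk⟩ := Subgroup.mem_zpowers_iff.1 hx
    rw [← map_zpow] at hk
    have h1 : (v ^ k)⁻¹ * x ∈ commutator P := by
      rw [← QuotientGroup.eq]
      exact hk
    have h2 : x = v ^ k * ((v ^ k)⁻¹ * x) := by group
    rw [h2]
    exact Subgroup.mul_mem_sup (Subgroup.zpow_mem_zpowers v k)
      (Cfsg.Agent.Lib.H1.isPGroup_commutator_le_frattini hP h1)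
  have hz := frattini_nongenerating hsup
  apply hna
  refine ⟨⟨fun x y => ?_⟩⟩
  have hx : x ∈ Subgroup.zpowers v := by rw [hz]; trivial
  have hy : y ∈ Subgroup.zpowers v := by rw [hz]; trivial
  obtain ⟨i, rfl⟩ := Subgroup.mem_zpowers_iff.1 hx
  obtain ⟨j, rfl⟩ := Subgroup.mem_zpowers_iff.1 hy
  rw [← zpow_add, ← zpow_add, add_comm]

/-- Two elements in distinct non-trivial cosets of `P'` generate `P`. -/
theorem closure_pair_eq_top [Finite P] (hP : IsPGroup 2 P) (h4 : (commutator P).index = 4)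
    {a b : P} (ha : a ∉ commutator P) (hb : b ∉ commutator P) (hab : a⁻¹ * b ∉ commutator P) :
    Subgroup.closure ({a, b} : Set P) = ⊤ := by
  haveI : Fact (Nat.Prime 2) := ⟨Nat.prime_two⟩
  have hcardQ : Nat.card (P ⧸ commutator P) = 4 := by rw [← Subgroup.index_eq_card, h4]
  obtain ⟨K, hK⟩ : ∃ K : Subgroup (P ⧸ commutator P),
      K = (Subgroup.closure ({a, b} : Set P)).map (QuotientGroup.mk' (commutator P)) := ⟨_, rfl⟩
  have haK : QuotientGroup.mk' (commutator P) a ∈ K := by
    rw [hK]; exact Subgroup.mem_map_of_mem _ (Subgroup.subset_closure (by simp))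
  have hbK : QuotientGroup.mk' (commutator P) b ∈ K := by
    rw [hK]; exact Subgroup.mem_map_of_mem _ (Subgroup.subset_closure (by simp))
  have ha1 : QuotientGroup.mk' (commutator P) a ≠ 1 := by
    rw [Ne, QuotientGroup.mk'_apply, QuotientGroup.eq_one_iff]; exact ha
  have hb1 : QuotientGroup.mk' (commutator P) b ≠ 1 := by
    rw [Ne, QuotientGroup.mk'_apply, QuotientGroup.eq_one_iff]; exact hb
  have hab1 : QuotientGroup.mk' (commutator P) a ≠ QuotientGroup.mk' (commutator P) b := by
    rw [Ne, QuotientGroup.mk'_apply, QuotientGroup.mk'_apply, QuotientGroup.eq]; exact hab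
  have h3 : 3 ≤ Nat.card K := by
    have hinj : Function.Injective
        (![⟨1, K.one_mem⟩, ⟨_, haK⟩, ⟨_, hbK⟩] : Fin 3 → K) := by
      intro i j hij
      fin_cases i <;> fin_cases j <;> simp_all [Subtype.ext_iff, eq_comm]
    have := Nat.card_le_card_of_injective _ hinj
    simpa using this
  have hKtop : K = ⊤ := by
    rw [← Subgroup.card_eq_iff_eq_top, hcardQ]
    have h1 : Nat.card K ∣ 4 := hcardQ ▸ Subgroup.card_subgroup_dvd_card K
    have h2 : Nat.card K ≤ 4 := Nat.le_of_dvd (by norm_num) h1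
    interval_cases (Nat.card K) <;> omega
  have hsup : Subgroup.closure ({a, b} : Set P) ⊔ frattini P = ⊤ := by
    rw [eq_top_iff]
    intro x _
    have hx : QuotientGroup.mk' (commutator P) x ∈ K := by rw [hKtop]; trivial
    rw [hK] at hx
    obtain ⟨y, hy, hyx⟩ := hx
    have h1 : y⁻¹ * x ∈ commutator P := by
      rw [← QuotientGroup.eq]
      exact hyx
    have h2 : x = y * (y⁻¹ * x) := by group
    rw [h2]
    exact Subgroup.mul_mem_sup hy (Cfsg.Agent.Lib.H1.isPGroup_commutator_le_frattini hP h1)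
  exact frattini_nongenerating hsup

theorem commutator_char (z : MulAut P) {x : P} (hx : x ∈ commutator P) : z x ∈ commutator P := by
  have hchar : (commutator P).Characteristic := by
    rw [commutator_def]; infer_instance
  have := Subgroup.characteristic_iff_map_eq.1 hchar z
  rw [← this]
  exact ⟨x, hx, rfl⟩

theorem commutator_char_iff (z : MulAut P) {x : P} : z x ∈ commutator P ↔ x ∈ commutator P := by
  refine ⟨fun h => ?_, commutator_char z⟩
  have := commutator_char z⁻¹ h
  simpa using this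

/-- There are two elements in distinct non-trivial cosets of `P'`. -/
theorem exists_pair [Finite P] (hP : IsPGroup 2 P) (hna : ¬ IsMulCommutative P)
    (h4 : (commutator P).index = 4) :
    ∃ a b : P, a ∉ commutator P ∧ b ∉ commutator P ∧ a⁻¹ * b ∉ commutator P := by
  have hne : commutator P ≠ ⊤ := by
    intro h
    rw [h, Subgroup.index_top] at h4
    omega
  obtain ⟨a, ha⟩ : ∃ a : P, a ∉ commutator P := by
    by_contra hc
    push Not at hc
    exact hne (eq_top_iff.2 fun x _ => hc x)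
  have hrel := Cfsg.Agent.Lib.H1.relIndex_sup_zpowers_eq_prime (H := commutator P) Nat.prime_two ha
    (sq_mem_commutator hP hna h4 a)
  have hidx := Subgroup.relIndex_mul_index
    (le_sup_left : commutator P ≤ commutator P ⊔ Subgroup.zpowers a)
  rw [hrel, h4] at hidx
  have hMne : commutator P ⊔ Subgroup.zpowers a ≠ ⊤ := by
    intro h
    rw [h, Subgroup.index_top] at hidx
    omega
  obtain ⟨b, hb⟩ : ∃ b : P, b ∉ commutator P ⊔ Subgroup.zpowers a := by
    by_contra hc
    push Not at hc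
    exact hMne (eq_top_iff.2 fun x _ => hc x)
  refine ⟨a, b, ha, fun h => hb (Subgroup.mem_sup_left h), fun h => hb ?_⟩
  have : b = a * (a⁻¹ * b) := by group
  rw [this]
  exact Subgroup.mul_mem _ (Subgroup.mem_sup_right (Subgroup.mem_zpowers a)) (Subgroup.mem_sup_left h)

/-- The automorphisms fixing the coset `a P'`. -/
def cosetStab (a : P) : Subgroup (MulAut P) where
  carrier := {z | a⁻¹ * z a ∈ commutator P}
  one_mem' := by
    change a⁻¹ * a ∈ commutator P
    rw [inv_mul_cancel]; exact Subgroup.one_mem _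
  mul_mem' := by
    intro z₁ z₂ h₁ h₂
    change a⁻¹ * z₁ (z₂ a) ∈ commutator P
    have h₁' : a⁻¹ * z₁ a ∈ commutator P := h₁
    have h₂' : a⁻¹ * z₂ a ∈ commutator P := h₂
    have e : a⁻¹ * z₁ (z₂ a) = (a⁻¹ * z₁ a) * z₁ (a⁻¹ * z₂ a) := by
      rw [map_mul, map_inv]; group
    rw [e]
    exact Subgroup.mul_mem _ h₁' (commutator_char z₁ h₂')
  inv_mem' := by
    intro z h
    change a⁻¹ * z⁻¹ a ∈ commutator P
    have h' : a⁻¹ * z a ∈ commutator P := h
    have e : a⁻¹ * z⁻¹ a = z⁻¹ ((a⁻¹ * z a)⁻¹) := by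
      rw [map_inv, map_mul, map_inv]
      simp
    rw [e]
    exact commutator_char _ (Subgroup.inv_mem _ h')

theorem mem_cosetStab (a : P) (z : MulAut P) : z ∈ cosetStab a ↔ a⁻¹ * z a ∈ commutator P := Iff.rfl

/-- An automorphism of odd prime order fixing every coset of `P'` has a fixed point in every
coset. -/
theorem exists_fixed_in_coset [Finite P] (hP : IsPGroup 2 P) (β : MulAut P) {r : ℕ} (hr : r.Prime)
    (hr2 : r ≠ 2) (hβ : orderOf β = r) (h : ∀ w : P, w⁻¹ * β w ∈ commutator P) (v : P) :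
    ∃ x : P, v⁻¹ * x ∈ commutator P ∧ β x = x := by
  haveI : Fact r.Prime := ⟨hr⟩
  have hZ : ∀ z ∈ Subgroup.zpowers β, ∀ w : P, w⁻¹ * z w ∈ commutator P := by
    intro z hz w
    have : Subgroup.zpowers β ≤ cosetStab w := by
      rw [Subgroup.zpowers_le, mem_cosetStab]; exact h w
    exact this hz
  letI : MulAction (Subgroup.zpowers β) {x : P // v⁻¹ * x ∈ commutator P} :=
    { smul := fun z x => ⟨(z : MulAut P) x.1, by
        have e : v⁻¹ * (z : MulAut P) x.1 = (v⁻¹ * x.1) * (x.1⁻¹ * (z : MulAut P) x.1) := by group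
        rw [e]
        exact Subgroup.mul_mem _ x.2 (hZ z z.2 x.1)⟩
      one_smul := fun x => Subtype.ext rfl
      mul_smul := fun z₁ z₂ x => Subtype.ext rfl }
  have hsmul : ∀ (z : Subgroup.zpowers β) (x : {x : P // v⁻¹ * x ∈ commutator P}),
      ((z • x : {x : P // v⁻¹ * x ∈ commutator P}) : P) = (z : MulAut P) x.1 := fun _ _ => rfl
  have hZp : IsPGroup r (Subgroup.zpowers β) := by
    apply IsPGroup.of_card (n := 1)
    rw [Nat.card_zpowers, hβ, pow_one]
  have hcard : Nat.card {x : P // v⁻¹ * x ∈ commutator P} = Nat.card (commutator P) := by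
    apply Nat.card_congr
    exact
      { toFun := fun x => ⟨v⁻¹ * x.1, x.2⟩
        invFun := fun d => ⟨v * d.1, by rw [inv_mul_cancel_left]; exact d.2⟩
        left_inv := fun x => Subtype.ext (by simp)
        right_inv := fun d => Subtype.ext (by simp) }
  have hmod := hZp.card_modEq_card_fixedPoints {x : P // v⁻¹ * x ∈ commutator P}
  obtain ⟨k, hk⟩ := IsPGroup.iff_card.1 (hP.to_subgroup (commutator P))
  rw [hcard, hk] at hmod
  have hne : Nat.card (MulAction.fixedPoints (Subgroup.zpowers β)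
      {x : P // v⁻¹ * x ∈ commutator P}) ≠ 0 := by
    intro h0
    rw [h0] at hmod
    have hdvd : r ∣ 2 ^ k := (Nat.modEq_zero_iff_dvd).1 hmod
    have := (Nat.prime_dvd_prime_iff_eq hr Nat.prime_two).1 (hr.dvd_of_dvd_pow hdvd)
    exact hr2 this
  obtain ⟨⟨x, hx⟩⟩ : Nonempty (MulAction.fixedPoints (Subgroup.zpowers β)
      {x : P // v⁻¹ * x ∈ commutator P}) := by
    by_contra hc
    rw [not_nonempty_iff] at hc
    exact hne Nat.card_of_isEmpty
  refine ⟨x.1, x.2, ?_⟩
  have := hx ⟨β, Subgroup.mem_zpowers β⟩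
  have h2 := congrArg Subtype.val this
  rw [hsmul] at h2
  exact h2

/-- An automorphism of odd prime order moves some coset of `P'`. -/
theorem exists_moved [Finite P] (hP : IsPGroup 2 P) (hna : ¬ IsMulCommutative P)
    (h4 : (commutator P).index = 4) (β : MulAut P) {r : ℕ} (hr : r.Prime)
    (hr2 : r ≠ 2) (hβ : orderOf β = r) : ∃ v : P, v⁻¹ * β v ∉ commutator P := by
  by_contra hc
  push Not at hc
  obtain ⟨a, b, ha, hb, hab⟩ := exists_pair hP hna h4
  obtain ⟨a', ha', hfa⟩ := exists_fixed_in_coset hP β hr hr2 hβ hc a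
  obtain ⟨b', hb', hfb⟩ := exists_fixed_in_coset hP β hr hr2 hβ hc b
  have h1 : a' ∉ commutator P := by
    intro h
    apply ha
    have : a = a' * (a⁻¹ * a')⁻¹ := by group
    rw [this]
    exact Subgroup.mul_mem _ h (Subgroup.inv_mem _ ha')
  have h2 : b' ∉ commutator P := by
    intro h
    apply hb
    have : b = b' * (b⁻¹ * b')⁻¹ := by group
    rw [this]
    exact Subgroup.mul_mem _ h (Subgroup.inv_mem _ hb')
  have h3 : a'⁻¹ * b' ∉ commutator P := by
    intro h
    apply hab
    have : a⁻¹ * b = (a⁻¹ * a') * (a'⁻¹ * b') * (b⁻¹ * b')⁻¹ := by group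
    rw [this]
    exact Subgroup.mul_mem _ (Subgroup.mul_mem _ ha' h) (Subgroup.inv_mem _ hb')
  have hcl := closure_pair_eq_top hP h4 h1 h2 h3
  have heq : β.toMonoidHom = MonoidHom.id P := by
    apply MonoidHom.eq_of_eqOn_dense hcl
    intro x hx
    rcases hx with rfl | hx
    · exact hfa
    · rw [Set.mem_singleton_iff] at hx
      rw [hx]
      exact hfb
  have hβ1 : β = 1 := by
    ext x
    exact DFunLike.congr_fun heq x
  rw [hβ1, orderOf_one] at hβ
  exact hr.one_lt.ne hβ

/-- An automorphism of odd prime order permutes the three non-trivial cosets of `P'` cyclically. -/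
theorem exists_three_cycle [Finite P] (hP : IsPGroup 2 P) (hna : ¬ IsMulCommutative P)
    (h4 : (commutator P).index = 4) (β : MulAut P) {r : ℕ} (hr : r.Prime)
    (hr2 : r ≠ 2) (hβ : orderOf β = r) :
    ∃ a : P, a ∉ commutator P ∧ β a ∉ commutator P ∧ β (β a) ∉ commutator P ∧
      a⁻¹ * β a ∉ commutator P ∧ (β a)⁻¹ * β (β a) ∉ commutator P ∧
      a⁻¹ * β (β a) ∉ commutator P := by
  obtain ⟨a, ha⟩ := exists_moved hP hna h4 β hr hr2 hβ
  have h1 : a ∉ commutator P := by
    intro h
    exact ha (Subgroup.mul_mem _ (Subgroup.inv_mem _ h) (commutator_char β h))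
  have h2 : β a ∉ commutator P := fun h => h1 ((commutator_char_iff β).1 h)
  have h3 : β (β a) ∉ commutator P := fun h => h2 ((commutator_char_iff β).1 h)
  refine ⟨a, h1, h2, h3, ha, ?_, ?_⟩
  · intro h
    apply ha
    rw [← map_inv, ← map_mul] at h
    exact (commutator_char_iff β).1 h
  · intro h
    apply ha
    have hmem : β ^ 2 ∈ cosetStab a := by
      rw [mem_cosetStab, sq]
      exact h
    have hodd : ∃ m, r = 2 * m + 1 := by
      rcases hr.eq_two_or_odd with h | h
      · exact absurd h hr2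
      · exact ⟨r / 2, by omega⟩
    obtain ⟨m, hm⟩ := hodd
    have hpow : (β ^ 2) ^ (m + 1) = β := by
      rw [← pow_mul, show 2 * (m + 1) = r + 1 by omega, pow_succ, ← hβ, pow_orderOf_eq_one, one_mul]
    have := Subgroup.pow_mem _ hmem (m + 1)
    rw [hpow, mem_cosetStab] at this
    exact this

instance E_normal : (⁅commutator P, (⊤ : Subgroup P)⁆).Normal := by
  haveI hchar : (commutator P).Characteristic := by
    rw [commutator_def]; infer_instance
  infer_instance

theorem E_char_iff (z : MulAut P) {x : P} :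
    z x ∈ ⁅commutator P, (⊤ : Subgroup P)⁆ ↔ x ∈ ⁅commutator P, (⊤ : Subgroup P)⁆ := by
  haveI hchar : (commutator P).Characteristic := by
    rw [commutator_def]; infer_instance
  have hE : (⁅commutator P, (⊤ : Subgroup P)⁆).Characteristic := inferInstance
  have key : ∀ (w : MulAut P) {y : P}, y ∈ ⁅commutator P, (⊤ : Subgroup P)⁆ →
      w y ∈ ⁅commutator P, (⊤ : Subgroup P)⁆ := by
    intro w y hy
    have := Subgroup.characteristic_iff_map_eq.1 hE w
    rw [← this]
    exact ⟨y, hy, rfl⟩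
  refine ⟨fun h => ?_, key z⟩
  have := key z⁻¹ h
  simpa using this

theorem comm_mem_E_left {d x : P} (hd : d ∈ commutator P) :
    ⁅d, x⁆ ∈ ⁅commutator P, (⊤ : Subgroup P)⁆ :=
  Subgroup.commutator_mem_commutator hd (Subgroup.mem_top x)

theorem comm_mem_E_right {d x : P} (hd : d ∈ commutator P) :
    ⁅x, d⁆ ∈ ⁅commutator P, (⊤ : Subgroup P)⁆ := by
  rw [Subgroup.commutator_comm]
  exact Subgroup.commutator_mem_commutator (Subgroup.mem_top x) hd

theorem comm_mem_commutator (x y : P) : ⁅x, y⁆ ∈ commutator P := by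
  rw [commutator_def]
  exact Subgroup.commutator_mem_commutator (Subgroup.mem_top x) (Subgroup.mem_top y)

/-- Squares of commutators lie in `γ₃`. -/
theorem comm_sq_mem_E [Finite P] (hP : IsPGroup 2 P) (hna : ¬ IsMulCommutative P)
    (h4 : (commutator P).index = 4) (x y : P) :
    ⁅x, y⁆ ^ 2 ∈ ⁅commutator P, (⊤ : Subgroup P)⁆ := by
  have e : ⁅x, y⁆ ^ 2 = ⁅x, ⁅x, y⁆⁆⁻¹ * ⁅x ^ 2, y⁆ := by
    simp only [commutatorElement_def, sq]
    group
  rw [e]
  exact Subgroup.mul_mem _ (Subgroup.inv_mem _ (comm_mem_E_right (comm_mem_commutator x y)))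
    (comm_mem_E_left (sq_mem_commutator hP hna h4 x))

/-- Squares of elements of `P'` lie in `γ₃`. -/
theorem sq_mem_E_of_mem [Finite P] (hP : IsPGroup 2 P) (hna : ¬ IsMulCommutative P)
    (h4 : (commutator P).index = 4) {d : P} (hd : d ∈ commutator P) :
    d ^ 2 ∈ ⁅commutator P, (⊤ : Subgroup P)⁆ := by
  rw [commutator_eq_closure] at hd
  induction hd using Subgroup.closure_induction with
  | mem x hx =>
    obtain ⟨g₁, g₂, rfl⟩ := hx
    exact comm_sq_mem_E hP hna h4 g₁ g₂
  | one => rw [one_pow]; exact Subgroup.one_mem _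
  | mul x y hx hy ihx ihy =>
    have e : (x * y) ^ 2 = x ^ 2 * ⁅x⁻¹, y⁆ * y ^ 2 := by
      simp only [commutatorElement_def, sq]
      group
    rw [e]
    rw [← commutator_eq_closure] at hx
    exact Subgroup.mul_mem _ (Subgroup.mul_mem _ ihx (comm_mem_E_left (Subgroup.inv_mem _ hx))) ihy
  | inv x hx ih =>
    rw [inv_pow]
    exact Subgroup.inv_mem _ ih

/-- `v ↦ (v² ∈ γ₃)` is constant on cosets of `P'`. -/
theorem sq_mul_mem_E [Finite P] (hP : IsPGroup 2 P) (hna : ¬ IsMulCommutative P)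
    (h4 : (commutator P).index = 4) {v d : P} (hd : d ∈ commutator P)
    (hv : v ^ 2 ∈ ⁅commutator P, (⊤ : Subgroup P)⁆) :
    (v * d) ^ 2 ∈ ⁅commutator P, (⊤ : Subgroup P)⁆ := by
  have e : (v * d) ^ 2 = v ^ 2 * ⁅v⁻¹, d⁆ * d ^ 2 := by
    simp only [commutatorElement_def, sq]
    group
  rw [e]
  exact Subgroup.mul_mem _ (Subgroup.mul_mem _ hv (comm_mem_E_right hd))
    (sq_mem_E_of_mem hP hna h4 hd)

theorem sq_mem_E_coset_iff [Finite P] (hP : IsPGroup 2 P) (hna : ¬ IsMulCommutative P)
    (h4 : (commutator P).index = 4) {x w : P} (h : x⁻¹ * w ∈ commutator P) :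
    w ^ 2 ∈ ⁅commutator P, (⊤ : Subgroup P)⁆ ↔ x ^ 2 ∈ ⁅commutator P, (⊤ : Subgroup P)⁆ := by
  constructor
  · intro hw
    have e : x = w * (x⁻¹ * w)⁻¹ := by group
    rw [e]
    exact sq_mul_mem_E hP hna h4 (Subgroup.inv_mem _ h) hw
  · intro hx
    have e : w = x * (x⁻¹ * w) := by group
    rw [e]
    exact sq_mul_mem_E hP hna h4 h hx

/-- Outside `P'`, the property `v² ∈ γ₃` holds for all elements or for none. -/
theorem sq_mem_E_iff [Finite P] (hP : IsPGroup 2 P) (hna : ¬ IsMulCommutative P)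
    (h4 : (commutator P).index = 4) (β : MulAut P) {r : ℕ} (hr : r.Prime)
    (hr2 : r ≠ 2) (hβ : orderOf β = r) {v w : P} (hv : v ∉ commutator P)
    (hw : w ∉ commutator P) :
    v ^ 2 ∈ ⁅commutator P, (⊤ : Subgroup P)⁆ ↔ w ^ 2 ∈ ⁅commutator P, (⊤ : Subgroup P)⁆ := by
  obtain ⟨a, h1, h2, h3, h12, h23, h13⟩ := exists_three_cycle hP hna h4 β hr hr2 hβ
  have hcardQ : Nat.card (P ⧸ commutator P) = 4 := by rw [← Subgroup.index_eq_card, h4]
  have hinj : Function.Injective
      (![1, QuotientGroup.mk' (commutator P) a, QuotientGroup.mk' (commutator P) (β a),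
        QuotientGroup.mk' (commutator P) (β (β a))] : Fin 4 → P ⧸ commutator P) := by
    have e1 : QuotientGroup.mk' (commutator P) a ≠ 1 := by
      rw [Ne, QuotientGroup.mk'_apply, QuotientGroup.eq_one_iff]; exact h1
    have e2 : QuotientGroup.mk' (commutator P) (β a) ≠ 1 := by
      rw [Ne, QuotientGroup.mk'_apply, QuotientGroup.eq_one_iff]; exact h2
    have e3 : QuotientGroup.mk' (commutator P) (β (β a)) ≠ 1 := by
      rw [Ne, QuotientGroup.mk'_apply, QuotientGroup.eq_one_iff]; exact h3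
    have e12 : QuotientGroup.mk' (commutator P) a ≠ QuotientGroup.mk' (commutator P) (β a) := by
      rw [Ne, QuotientGroup.mk'_apply, QuotientGroup.mk'_apply, QuotientGroup.eq]; exact h12
    have e23 : QuotientGroup.mk' (commutator P) (β a) ≠
        QuotientGroup.mk' (commutator P) (β (β a)) := by
      rw [Ne, QuotientGroup.mk'_apply, QuotientGroup.mk'_apply, QuotientGroup.eq]; exact h23
    have e13 : QuotientGroup.mk' (commutator P) a ≠
        QuotientGroup.mk' (commutator P) (β (β a)) := by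
      rw [Ne, QuotientGroup.mk'_apply, QuotientGroup.mk'_apply, QuotientGroup.eq]; exact h13
    intro i j hij
    fin_cases i <;> fin_cases j <;> simp_all [eq_comm]
  have hbij : Function.Bijective
      (![1, QuotientGroup.mk' (commutator P) a, QuotientGroup.mk' (commutator P) (β a),
        QuotientGroup.mk' (commutator P) (β (β a))] : Fin 4 → P ⧸ commutator P) :=
    hinj.bijective_of_nat_card_le (by rw [hcardQ]; simp)
  have hβE : ∀ x : P, (β x) ^ 2 ∈ ⁅commutator P, (⊤ : Subgroup P)⁆ ↔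
      x ^ 2 ∈ ⁅commutator P, (⊤ : Subgroup P)⁆ := by
    intro x
    rw [← map_pow, E_char_iff]
  have key : ∀ u : P, u ∉ commutator P →
      (u ^ 2 ∈ ⁅commutator P, (⊤ : Subgroup P)⁆ ↔ a ^ 2 ∈ ⁅commutator P, (⊤ : Subgroup P)⁆) := by
    intro u hu
    obtain ⟨i, hi⟩ := hbij.2 (QuotientGroup.mk' (commutator P) u)
    fin_cases i
    · exfalso
      apply hu
      have : QuotientGroup.mk' (commutator P) u = 1 := by rw [← hi]; rfl
      rwa [QuotientGroup.mk'_apply, QuotientGroup.eq_one_iff] at this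
    · have : QuotientGroup.mk' (commutator P) a = QuotientGroup.mk' (commutator P) u := hi
      rw [QuotientGroup.mk'_apply, QuotientGroup.mk'_apply, QuotientGroup.eq] at this
      exact sq_mem_E_coset_iff hP hna h4 this
    · have : QuotientGroup.mk' (commutator P) (β a) = QuotientGroup.mk' (commutator P) u := hi
      rw [QuotientGroup.mk'_apply, QuotientGroup.mk'_apply, QuotientGroup.eq] at this
      rw [sq_mem_E_coset_iff hP hna h4 this, hβE]
    · have : QuotientGroup.mk' (commutator P) (β (β a)) = QuotientGroup.mk' (commutator P) u := hi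
      rw [QuotientGroup.mk'_apply, QuotientGroup.mk'_apply, QuotientGroup.eq] at this
      rw [sq_mem_E_coset_iff hP hna h4 this, hβE, hβE]
  rw [key v hv, key w hw]

/-- For a generating pair `a, b`, `P' = ⟨[a,b]⟩ γ₃`. -/
theorem commutator_le_of_closure_pair {a b : P} (hcl : Subgroup.closure ({a, b} : Set P) = ⊤) :
    commutator P ≤ Subgroup.zpowers ⁅a, b⁆ ⊔ ⁅commutator P, (⊤ : Subgroup P)⁆ := by
  haveI hDn : (commutator P).Normal := by rw [commutator_def]; infer_instance
  have hED : ⁅commutator P, (⊤ : Subgroup P)⁆ ≤ commutator P := Subgroup.commutator_le_left _ _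
  have hKD : Subgroup.zpowers ⁅a, b⁆ ⊔ ⁅commutator P, (⊤ : Subgroup P)⁆ ≤ commutator P := by
    rw [sup_le_iff, Subgroup.zpowers_le]
    exact ⟨comm_mem_commutator a b, hED⟩
  haveI hKn : (Subgroup.zpowers ⁅a, b⁆ ⊔ ⁅commutator P, (⊤ : Subgroup P)⁆).Normal := by
    refine ⟨fun k hk g => ?_⟩
    have e : g * k * g⁻¹ = ⁅g, k⁆ * k := by
      rw [commutatorElement_def]; group
    rw [e]
    exact Subgroup.mul_mem _ (Subgroup.mem_sup_right (comm_mem_E_right (hKD hk))) hk
  obtain ⟨K, hK⟩ : ∃ K : Subgroup P,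
      K = Subgroup.zpowers ⁅a, b⁆ ⊔ ⁅commutator P, (⊤ : Subgroup P)⁆ := ⟨_, rfl⟩
  rw [← hK] at hKn ⊢
  have hcK : ⁅a, b⁆ ∈ K := by
    rw [hK]; exact Subgroup.mem_sup_left (Subgroup.mem_zpowers _)
  have hab : QuotientGroup.mk' K a * QuotientGroup.mk' K b =
      QuotientGroup.mk' K b * QuotientGroup.mk' K a := by
    have : QuotientGroup.mk' K ⁅a, b⁆ = 1 := by
      rw [QuotientGroup.mk'_apply, QuotientGroup.eq_one_iff]; exact hcK
    rw [commutatorElement_def, map_mul, map_mul, map_mul, map_inv, map_inv] at this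
    rw [← mul_inv_eq_one, mul_inv_rev, ← mul_assoc]
    exact this
  -- `mk a` and `mk b` are central
  have hcen : ∀ x ∈ ({a, b} : Set P), QuotientGroup.mk' K x ∈ Subgroup.center (P ⧸ K) := by
    intro x hx
    have hle : Subgroup.closure ({a, b} : Set P) ≤
        (Subgroup.centralizer ({QuotientGroup.mk' K x} : Set (P ⧸ K))).comap
          (QuotientGroup.mk' K) := by
      rw [Subgroup.closure_le]
      intro y hy
      rw [SetLike.mem_coe, Subgroup.mem_comap, Subgroup.mem_centralizer_iff]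
      intro z hz
      rw [Set.mem_singleton_iff.1 hz]
      rcases hx with rfl | hx <;> rcases hy with rfl | hy
      · rfl
      · rw [Set.mem_singleton_iff.1 hy]; exact hab
      · rw [Set.mem_singleton_iff.1 hx]; exact hab.symm
      · rw [Set.mem_singleton_iff.1 hx, Set.mem_singleton_iff.1 hy]
    rw [hcl] at hle
    rw [Subgroup.mem_center_iff]
    intro q
    obtain ⟨y, rfl⟩ := QuotientGroup.mk'_surjective K q
    have := hle (Subgroup.mem_top y)
    rw [Subgroup.mem_comap, Subgroup.mem_centralizer_iff] at this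
    exact (this _ rfl).symm
  have hcentop : Subgroup.closure ({a, b} : Set P) ≤
      (Subgroup.center (P ⧸ K)).comap (QuotientGroup.mk' K) := by
    rw [Subgroup.closure_le]
    intro x hx
    exact hcen x hx
  rw [hcl] at hcentop
  -- hence all commutators lie in `K`
  rw [commutator_eq_closure, Subgroup.closure_le]
  rintro _ ⟨x, y, rfl⟩
  rw [SetLike.mem_coe, ← QuotientGroup.eq_one_iff, ← QuotientGroup.mk'_apply,
    commutatorElement_def, map_mul, map_mul, map_mul, map_inv, map_inv]
  have hx := hcentop (Subgroup.mem_top x)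
  rw [Subgroup.mem_comap, Subgroup.mem_center_iff] at hx
  rw [← hx, mul_inv_cancel_right, mul_inv_cancel]

theorem comm_mul_right (d y z : P) : ⁅d, y * z⁆ = ⁅d, y⁆ * (y * ⁅d, z⁆ * y⁻¹) := by
  simp only [commutatorElement_def]
  group

theorem comm_inv_right (d y : P) : ⁅d, y⁻¹⁆ = y⁻¹ * ⁅d, y⁆⁻¹ * y⁻¹⁻¹ := by
  simp only [commutatorElement_def]
  group

/-- Powers of an element whose square lies in a subgroup. -/
theorem zpow_mem_or {E : Subgroup P} {c : P} (hc : c ^ 2 ∈ E) (i : ℤ) :
    c ^ i ∈ E ∨ c⁻¹ * c ^ i ∈ E := by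
  rcases Int.even_or_odd' i with ⟨k, rfl | rfl⟩
  · left
    rw [zpow_mul]
    exact Subgroup.zpow_mem _ (by simpa using hc) k
  · right
    rw [zpow_add, zpow_one, zpow_mul, ← mul_assoc]
    have : c⁻¹ * (c ^ (2 : ℤ)) ^ k * c = (c ^ (2 : ℤ)) ^ k := by
      have hcomm : Commute c ((c ^ (2 : ℤ)) ^ k) := ((Commute.refl c).zpow_right 2).zpow_right k
      rw [mul_assoc, ← hcomm.eq, inv_mul_cancel_left]
    rw [this]
    exact Subgroup.zpow_mem _ (by simpa using hc) k

end aux

/-- Let P be a finite non-abelian 2-group whose commutator subgroup has index 4 and whose automorphism group is not a 2-group (some automorphism has order that is not a power of 2). Then P is isomorphic to the quaternion group of order 8. -/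
theorem result {P : Type*} [Group P] [Finite P] (hP : IsPGroup 2 P) (hna : ¬ IsMulCommutative P) (h4 : (commutator P).index = 4) (haut : ¬ IsPGroup 2 (MulAut P)) : Nonempty (P ≃* QuaternionGroup 2) := by
  haveI : Fact (Nat.Prime 2) := ⟨Nat.prime_two⟩
  haveI : Group.IsNilpotent P := hP.isNilpotent
  -- an automorphism of odd prime order
  obtain ⟨β, r, hr, hr2, hβ⟩ : ∃ (β : MulAut P) (r : ℕ), r.Prime ∧ r ≠ 2 ∧ orderOf β = r := by
    by_contra hc
    push Not at hc
    apply haut
    have hpow := Nat.eq_prime_pow_of_unique_prime_dvd (n := Nat.card (MulAut P)) (p := 2)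
      Nat.card_pos.ne' (by
        intro d hd hdvd
        by_contra hd2
        haveI : Fact d.Prime := ⟨hd⟩
        obtain ⟨β, hβ⟩ := exists_prime_orderOf_dvd_card' (G := MulAut P) d hdvd
        exact hc β d hd hd2 hβ)
    exact IsPGroup.of_card hpow
  obtain ⟨a, b, ha, hb, hab⟩ := exists_pair hP hna h4
  have hcl := closure_pair_eq_top hP h4 ha hb hab
  have hDK := commutator_le_of_closure_pair hcl
  have hc2 := comm_sq_mem_E hP hna h4 a b
  haveI hDn : (commutator P).Normal := by rw [commutator_def]; infer_instance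
  -- no element outside `P'` has its square in `γ₃`
  have hnone : ∀ v : P, v ∉ commutator P → v ^ 2 ∉ ⁅commutator P, (⊤ : Subgroup P)⁆ := by
    intro v hv hv2
    have hall : ∀ x : P, x ^ 2 ∈ ⁅commutator P, (⊤ : Subgroup P)⁆ := by
      intro x
      by_cases hx : x ∈ commutator P
      · exact sq_mem_E_of_mem hP hna h4 hx
      · exact (sq_mem_E_iff hP hna h4 β hr hr2 hβ hv hx).1 hv2
    have hDE : commutator P ≤ ⁅commutator P, (⊤ : Subgroup P)⁆ := by
      intro d hd
      rw [commutator_eq_closure] at hd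
      refine (Subgroup.closure_le _).2 ?_ hd
      rintro _ ⟨x, y, rfl⟩
      exact commutator_mem_of_sq_mem _ hall x y
    have hD := eq_bot_of_le_commutator_top _ hDE
    apply hna
    refine ⟨⟨fun x y => ?_⟩⟩
    have := comm_mem_commutator x y
    rw [hD, Subgroup.mem_bot] at this
    exact commutatorElement_eq_one_iff_mul_comm.1 this
  -- `P'/γ₃` has order two
  have hdich : ∀ d ∈ commutator P, d ∈ ⁅commutator P, (⊤ : Subgroup P)⁆ ∨
      ⁅a, b⁆⁻¹ * d ∈ ⁅commutator P, (⊤ : Subgroup P)⁆ := by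
    intro d hd
    have := hDK hd
    rw [Subgroup.mem_sup_of_normal_right] at this
    obtain ⟨y, hy, z, hz, rfl⟩ := this
    obtain ⟨i, rfl⟩ := Subgroup.mem_zpowers_iff.1 hy
    rcases zpow_mem_or hc2 i with h | h
    · exact Or.inl (Subgroup.mul_mem _ h hz)
    · right
      rw [← mul_assoc]
      exact Subgroup.mul_mem _ h hz
  -- `γ₃ ≤ γ₄`
  have hF : ∀ v : P, v ∉ commutator P → ∀ d ∈ commutator P,
      ⁅d, v⁆ ∈ ⁅⁅commutator P, (⊤ : Subgroup P)⁆, (⊤ : Subgroup P)⁆ := by
    intro v hv d hd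
    have hv2D := sq_mem_commutator hP hna h4 v
    have hv2 := (hdich _ hv2D).resolve_left (hnone v hv)
    rcases hdich d hd with h | h
    · exact Subgroup.commutator_mem_commutator h (Subgroup.mem_top v)
    · have he : (v ^ 2)⁻¹ * d ∈ ⁅commutator P, (⊤ : Subgroup P)⁆ := by
        have : (v ^ 2)⁻¹ * d = (⁅a, b⁆⁻¹ * v ^ 2)⁻¹ * (⁅a, b⁆⁻¹ * d) := by group
        rw [this]
        exact Subgroup.mul_mem _ (Subgroup.inv_mem _ hv2) h
      have e : ⁅d, v⁆ = v ^ 2 * ⁅(v ^ 2)⁻¹ * d, v⁆ * (v ^ 2)⁻¹ := by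
        simp only [commutatorElement_def, sq]
        group
      rw [e]
      exact Subgroup.Normal.conj_mem inferInstance _
        (Subgroup.commutator_mem_commutator he (Subgroup.mem_top v)) _
  have hFall : ∀ d ∈ commutator P, ∀ x : P,
      ⁅d, x⁆ ∈ ⁅⁅commutator P, (⊤ : Subgroup P)⁆, (⊤ : Subgroup P)⁆ := by
    intro d hd x
    by_cases hx : x ∈ commutator P
    · have hax : a * x ∉ commutator P := by
        intro h
        apply ha
        have := Subgroup.mul_mem _ h (Subgroup.inv_mem _ hx)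
        rwa [mul_inv_cancel_right] at this
      have e1 : ⁅d, a⁻¹ * (a * x)⁆ = ⁅d, a⁻¹⁆ * (a⁻¹ * ⁅d, a * x⁆ * a⁻¹⁻¹) := comm_mul_right d _ _
      have e2 : ⁅d, a⁻¹⁆ = a⁻¹ * ⁅d, a⁆⁻¹ * a⁻¹⁻¹ := comm_inv_right d a
      have e : ⁅d, x⁆ = (a⁻¹ * ⁅d, a⁆⁻¹ * a⁻¹⁻¹) * (a⁻¹ * ⁅d, a * x⁆ * a⁻¹⁻¹) := by
        rw [← e2, ← e1, inv_mul_cancel_left]
      rw [e]
      exact Subgroup.mul_mem _
        (Subgroup.Normal.conj_mem inferInstance _ (Subgroup.inv_mem _ (hF a ha d hd)) _)
        (Subgroup.Normal.conj_mem inferInstance _ (hF (a * x) hax d hd) _)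
    · exact hF x hx d hd
  have hE : ⁅commutator P, (⊤ : Subgroup P)⁆ = ⊥ := by
    apply eq_bot_of_le_commutator_top
    rw [Subgroup.commutator_le]
    intro d hd x _
    exact hFall d hd x
  -- now `P' = {1, c}`
  rw [hE] at hdich hnone hc2
  simp only [Subgroup.mem_bot] at hdich hnone hc2
  obtain ⟨c, hc⟩ : ∃ c : P, c = ⁅a, b⁆ := ⟨_, rfl⟩
  rw [← hc] at hdich hc2
  have hsq : ∀ v : P, v ∉ commutator P → v ^ 2 = c := by
    intro v hv
    have h1 := sq_mem_commutator hP hna h4 v
    rcases hdich _ h1 with h | h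
    · exact absurd h (hnone v hv)
    · exact (inv_mul_eq_one.1 h).symm
  have hcD : c ∈ commutator P := by rw [hc]; exact comm_mem_commutator a b
  have hc1 : c ≠ 1 := by
    intro h
    have := hsq a ha
    rw [h] at this
    exact hnone a ha this
  have hDz : commutator P = Subgroup.zpowers c := by
    apply le_antisymm
    · intro d hd
      rcases hdich d hd with h | h
      · rw [h]; exact Subgroup.one_mem _
      · rw [← inv_mul_eq_one.1 h]; exact Subgroup.mem_zpowers c
    · rw [Subgroup.zpowers_le]; exact hcD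
  have hcardD : Nat.card (commutator P) = 2 := by
    rw [hDz, Nat.card_zpowers]
    exact orderOf_eq_prime hc2 hc1
  have hcardP : Nat.card P = 8 := by
    rw [← Subgroup.card_mul_index (commutator P), hcardD, h4]
  have habD : a * b ∉ commutator P := by
    intro h
    apply hab
    have h2 := Subgroup.mul_mem _ (Subgroup.inv_mem _ (sq_mem_commutator hP hna h4 a)) h
    have : (a ^ 2)⁻¹ * (a * b) = a⁻¹ * b := by rw [sq]; group
    rwa [this] at h2
  have ha2 := hsq a ha
  have hb2 := hsq b hb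
  have hab2 := hsq (a * b) habD
  have ha4 : a ^ 4 = 1 := by
    rw [show 4 = 2 * 2 from rfl, pow_mul, ha2, hc2]
  apply nonempty_mulEquiv_quaternion hcardP a b ha4 (by rw [ha2]; exact hc1) (by rw [ha2, hb2])
  · -- `b a b⁻¹ = a⁻¹`
    have h1 : b * a * b = a := by
      have : a * b * (a * b) = a * a := by rw [← sq, ← sq, hab2, ha2]
      have h2 : a * (b * a * b) = a * a := by rw [← this]; group
      exact mul_left_cancel h2
    calc b * a * b⁻¹ = (b * a * b) * (b ^ 2)⁻¹ := by rw [sq]; group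
      _ = a * (a ^ 2)⁻¹ := by rw [h1, hb2, ← ha2]
      _ = a⁻¹ := by rw [sq]; group
  · intro h
    obtain ⟨i, hi⟩ := Subgroup.mem_zpowers_iff.1 h
    rcases zpow_mem_or (E := commutator P) (c := a) (sq_mem_commutator hP hna h4 a) i with h' | h'
    · rw [hi] at h'
      exact hb h'
    · rw [hi] at h'
      exact hab h'

end Cfsg.Agent.S4189
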