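import Cfsg.Statements.S4194
import Cfsg.Agent.Lib.H18.CaminaHerzogGroup

set_option autoImplicit false
open Cfsg

namespace Cfsg.Agent.S4194

open Cfsg.Agent.Lib.H18

/-- A finite group G has commutative Sylow 2-subgroups if and only if every 2-element of G (element of order a power of 2) is 2-central, that is, its centralizer contains a Sylow 2-subgroup of G. -/
theorem result {G : Type*} [Group G] [Finite G] (P : Sylow 2 G) :
    IsMulCommutative (P : Subgroup G) ↔ ∀ x : G, (∃ k : ℕ, orderOf x = 2 ^ k) → (∃ Q : Sylow 2 G, (Q : Subgroup G) ≤ Subgroup.centralizer ({x} : Set G)) := by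
  haveI : Fact (Nat.Prime 2) := ⟨Nat.prime_two⟩
  constructor
  · intro hcomm x hx
    obtain ⟨k, hk⟩ := hx
    have hzx : IsPGroup 2 (Subgroup.zpowers x) := by
      apply IsPGroup.of_card (n := k)
      rw [Nat.card_zpowers, hk]
    obtain ⟨Q, hQ⟩ := hzx.exists_le_sylow
    obtain ⟨g, hg⟩ := MulAction.exists_smul_eq G P Q
    refine ⟨Q, ?_⟩
    intro y hy
    rw [Subgroup.mem_centralizer_iff]
    intro z hz
    have hz' : z = x := hz
    subst hz'
    have hxQ : z ∈ (Q : Subgroup G) := hQ (Subgroup.mem_zpowers z)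
    rw [← hg, mem_smul_sylow_iff] at hxQ hy
    obtain ⟨a, ha, rfl⟩ := hxQ
    obtain ⟨b, hb, rfl⟩ := hy
    have hab : a * b = b * a := by
      have := hcomm.is_comm.comm (⟨a, ha⟩ : (P : Subgroup G)) ⟨b, hb⟩
      exact congrArg Subtype.val this
    calc g * a * g⁻¹ * (g * b * g⁻¹) = g * (a * b) * g⁻¹ := by group
      _ = g * (b * a) * g⁻¹ := by rw [hab]
      _ = g * b * g⁻¹ * (g * a * g⁻¹) := by group
  · intro h
    have hc := sylow_two_comm_of_central P h
    exact ⟨⟨fun a b => Subtype.ext (hc a a.2 b b.2)⟩⟩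

end Cfsg.Agent.S4194
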