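import Cfsg.Statements.S4195

set_option autoImplicit false
open Cfsg

namespace Cfsg.Agent.S4195

/-- an element of `N(P)` of `p`-power order lies in `P` -/
theorem mem_sylow_of_mem_normalizer {G : Type*} [Group G] {p : ℕ} [Fact p.Prime] (P : Sylow p G)
    (h : G) (hN : h ∈ Subgroup.normalizer ((P : Subgroup G) : Set G)) (hh : ∃ k : ℕ, orderOf h = p ^ k) :
    h ∈ (P : Subgroup G) := by
  obtain ⟨k, hk⟩ := hh
  have hZ : IsPGroup p (Subgroup.zpowers h) := by
    apply IsPGroup.of_card (n := k)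
    rw [Nat.card_zpowers, hk]
  have hle : Subgroup.zpowers h ≤ Subgroup.normalizer ((P : Subgroup G) : Set G) := by
    rw [Subgroup.zpowers_le]; exact hN
  have hsup : IsPGroup p (Subgroup.zpowers h ⊔ (P : Subgroup G) : Subgroup G) :=
    IsPGroup.to_sup_of_normal_right' hZ P.isPGroup' hle
  have := P.is_maximal' hsup le_sup_right
  have h2 : Subgroup.zpowers h ≤ (P : Subgroup G) := by
    rw [← this]; exact le_sup_left
  exact h2 (Subgroup.mem_zpowers h)

/-- if `n` inverts `x` then so does every odd power of `n` -/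
theorem odd_pow_inverts {G : Type*} [Group G] (n x : G) (h : n * x * n⁻¹ = x⁻¹) (m : ℕ) (hm : Odd m) :
    n ^ m * x * (n ^ m)⁻¹ = x⁻¹ := by
  obtain ⟨j, rfl⟩ := hm
  have h1 : SemiconjBy n x x⁻¹ := by
    unfold SemiconjBy
    rw [← h]; group
  have h2 : SemiconjBy n x⁻¹ x := by
    have := h1.inv_right
    simpa using this
  have h3 : Commute (n * n) x := h2.mul_left h1
  have h4 : Commute ((n * n) ^ j) x := h3.pow_left j
  have h4' : SemiconjBy ((n * n) ^ j) x⁻¹ x⁻¹ := h4.inv_right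
  have h5 : SemiconjBy ((n * n) ^ j * n) x x⁻¹ := SemiconjBy.mul_left h4' h1
  have e : n ^ (2 * j + 1) = (n * n) ^ j * n := by
    rw [pow_succ, pow_mul, pow_two]
  rw [e]
  have := h5.eq
  rw [this]; group

/-- Let x be a non-identity element of a finite group G whose centralizer contains a Sylow 2-subgroup of G. If x is conjugate to its inverse, then x has order 2. -/
theorem result {G : Type*} [Group G] [Finite G] (x : G) (hx : x ≠ 1) (P : Sylow 2 G) (hP : (P : Subgroup G) ≤ Subgroup.centralizer ({x} : Set G)) (hreal : IsConj x x⁻¹) : orderOf x = 2 := by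
  obtain ⟨g, hg⟩ := isConj_iff.mp hreal
  -- x centralizes P
  have hxC : x ∈ Subgroup.centralizer ((P : Subgroup G) : Set G) := by
    rw [Subgroup.mem_centralizer_iff]
    intro y hy
    have := Subgroup.mem_centralizer_iff.mp (hP hy) x (Set.mem_singleton x)
    exact this.symm
  have hxinvC : x⁻¹ ∈ Subgroup.centralizer ((P : Subgroup G) : Set G) := Subgroup.inv_mem _ hxC
  have hy : g⁻¹⁻¹ * x * g⁻¹ ∈ Subgroup.centralizer ((P : Subgroup G) : Set G) := by
    rw [inv_inv, hg]; exact hxinvC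
  obtain ⟨n, hnN, hn⟩ := P.conj_eq_normalizer_conj_of_mem_centralizer x g⁻¹ hxC hy
  rw [inv_inv, hg] at hn
  -- n⁻¹ inverts x
  have hninv : n⁻¹ * x * n⁻¹⁻¹ = x⁻¹ := by rw [inv_inv]; exact hn.symm
  have hnN' : n⁻¹ ∈ Subgroup.normalizer ((P : Subgroup G) : Set G) := Subgroup.inv_mem _ hnN
  -- odd part
  have hord : orderOf n⁻¹ ≠ 0 := (orderOf_pos _).ne'
  obtain ⟨k, m, hm, hkm⟩ := Nat.exists_eq_two_pow_mul_odd hord
  set h := n⁻¹ ^ m with hh
  have hhN : h ∈ Subgroup.normalizer ((P : Subgroup G) : Set G) := Subgroup.pow_mem _ hnN' m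
  have hh2 : ∃ k : ℕ, orderOf h = 2 ^ k := by
    refine ⟨k, ?_⟩
    rw [hh, orderOf_pow, hkm]
    have : Nat.gcd (2 ^ k * m) m = m := Nat.gcd_eq_right (Dvd.intro_left _ rfl)
    rw [this]
    exact Nat.mul_div_cancel _ hm.pos
  have hhP : h ∈ (P : Subgroup G) := mem_sylow_of_mem_normalizer P h hhN hh2
  have hinv : h * x * h⁻¹ = x⁻¹ := odd_pow_inverts n⁻¹ x hninv m hm
  have hcomm := Subgroup.mem_centralizer_iff.mp (hP hhP) x (Set.mem_singleton x)
  -- hcomm : x * h = h * x
  have hxx : x = x⁻¹ := by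
    rw [← hinv, ← hcomm]; group
  have hx2 : x ^ 2 = 1 := by
    rw [pow_two]
    nth_rewrite 2 [hxx]
    exact mul_inv_cancel x
  exact orderOf_eq_prime hx2 hx

end Cfsg.Agent.S4195
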