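import Cfsg.Statements.S4196
import Cfsg.Agent.S4195

set_option autoImplicit false
open Cfsg

namespace Cfsg.Agent.S4196

open scoped Pointwise

theorem comm_sub_iff {G : Type*} [Group G] (H : Subgroup G) :
    IsMulCommutative H ↔ ∀ a ∈ H, ∀ b ∈ H, a * b = b * a := by
  rw [isMulCommutative_iff]
  constructor
  · intro h a ha b hb
    have := h ⟨a, ha⟩ ⟨b, hb⟩
    exact congrArg Subtype.val this
  · intro h a b
    exact Subtype.ext (h a a.2 b b.2)

theorem two_elt_of_mem {G : Type*} [Group G] [Finite G] (P : Sylow 2 G) (x : G) (hx : x ∈ (P : Subgroup G)) :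
    ∃ k : ℕ, orderOf x = 2 ^ k := by
  obtain ⟨k, hk⟩ := P.isPGroup' ⟨x, hx⟩
  have hk' : x ^ 2 ^ k = 1 := by
    have := congrArg Subtype.val hk
    simpa using this
  have := orderOf_dvd_of_pow_eq_one hk'
  obtain ⟨j, -, hj⟩ := (Nat.dvd_prime_pow Nat.prime_two).mp this
  exact ⟨j, hj⟩

theorem pElt_mem_sylow {G : Type*} [Group G] [Finite G] {p : ℕ} [Fact p.Prime] (x : G)
    (hx : ∃ k : ℕ, orderOf x = p ^ k) : ∃ P : Sylow p G, x ∈ (P : Subgroup G) := by
  obtain ⟨k, hk⟩ := hx
  have hP : IsPGroup p (Subgroup.zpowers x) := by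
    apply IsPGroup.of_card (n := k)
    rw [Nat.card_zpowers, hk]
  obtain ⟨Q, hQ⟩ := hP.exists_le_sylow
  exact ⟨Q, hQ (Subgroup.mem_zpowers x)⟩

/-- A finite group G has elementary abelian Sylow 2-subgroups (commutative with every element squaring to the identity) if and only if every 2-element of G has a Sylow 2-subgroup in its centralizer and is conjugate to its inverse. -/
theorem result {G : Type*} [Group G] [Finite G] (P : Sylow 2 G) :
    (IsMulCommutative (P : Subgroup G) ∧ ∀ x ∈ (P : Subgroup G), x ^ 2 = 1) ↔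
      ∀ x : G, (∃ k : ℕ, orderOf x = 2 ^ k) → (∃ Q : Sylow 2 G, (Q : Subgroup G) ≤ Subgroup.centralizer ({x} : Set G)) ∧ IsConj x x⁻¹ := by
  constructor
  · rintro ⟨hcomm, hexp⟩ x hx
    rw [comm_sub_iff] at hcomm
    obtain ⟨Q, hxQ⟩ := pElt_mem_sylow x hx
    obtain ⟨g, hg⟩ := MulAction.exists_smul_eq G P Q
    have hmem : ∀ y : G, y ∈ (Q : Subgroup G) ↔ g⁻¹ * y * g ∈ (P : Subgroup G) := by
      intro y
      rw [← hg]
      show y ∈ MulAut.conj g • (P : Subgroup G) ↔ _
      rw [Subgroup.mem_pointwise_smul_iff_inv_smul_mem]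
      simp [MulAut.smul_def, mul_assoc]
    have hxP := (hmem x).mp hxQ
    refine ⟨⟨Q, ?_⟩, ?_⟩
    · intro y hy
      rw [Subgroup.mem_centralizer_iff]
      intro z hz
      rw [Set.mem_singleton_iff] at hz
      subst hz
      have hyP := (hmem y).mp hy
      have := hcomm _ hxP _ hyP
      -- g⁻¹ z g * (g⁻¹ y g) = g⁻¹ y g * (g⁻¹ z g)
      have h2 : g * (g⁻¹ * z * g * (g⁻¹ * y * g)) * g⁻¹ = g * (g⁻¹ * y * g * (g⁻¹ * z * g)) * g⁻¹ := by
        rw [this]
      simpa [mul_assoc] using h2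
    · have h2 := hexp _ hxP
      have hx2 : x ^ 2 = 1 := by
        have e : (g⁻¹ * x * g) ^ 2 = g⁻¹ * x ^ 2 * g := by
          rw [pow_two, pow_two]; group
        rw [e] at h2
        have := congrArg (fun z => g * z * g⁻¹) h2
        simpa [mul_assoc] using this
      have : x⁻¹ = x := by
        rw [inv_eq_iff_mul_eq_one, ← pow_two]; exact hx2
      rw [this]
  · intro h
    have hexp : ∀ x ∈ (P : Subgroup G), x ^ 2 = 1 := by
      intro x hxP
      by_cases hx1 : x = 1
      · rw [hx1]; simp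
      · obtain ⟨⟨Q, hQ⟩, hreal⟩ := h x (two_elt_of_mem P x hxP)
        have := Cfsg.Agent.S4195.result x hx1 Q hQ hreal
        rw [← this]; exact pow_orderOf_eq_one x
    refine ⟨?_, hexp⟩
    rw [comm_sub_iff]
    intro a ha b hb
    have hab := hexp (a * b) (Subgroup.mul_mem _ ha hb)
    have ha2 := hexp a ha
    have hb2 := hexp b hb
    rw [pow_two] at hab ha2 hb2
    have hainv : a⁻¹ = a := inv_eq_of_mul_eq_one_right ha2
    have hbinv : b⁻¹ = b := inv_eq_of_mul_eq_one_right hb2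
    have : (a * b)⁻¹ = a * b := inv_eq_of_mul_eq_one_right hab
    rw [mul_inv_rev, hainv, hbinv] at this
    exact this.symm

end Cfsg.Agent.S4196
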