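import Cfsg.Statements.S4200
import Mathlib

set_option autoImplicit false
open Cfsg

namespace Cfsg.Agent.S4200

variable {X : Type*} [Group X]

open Classical in
/-- an element of the left coset `γ` of `Y` commuting with `a`, if there is one. -/
noncomputable def pick (Y : Subgroup X) (a : X) (γ : X ⧸ Y) : X :=
  if h : ∃ w : X, Commute a w ∧ (w : X ⧸ Y) = γ then h.choose else 1

lemma pick_spec (Y : Subgroup X) (a w : X) (h : Commute a w) :
    Commute a (pick Y a (w : X ⧸ Y)) ∧ ((pick Y a (w : X ⧸ Y) : X) : X ⧸ Y) = (w : X ⧸ Y) := by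
  have hex : ∃ w' : X, Commute a w' ∧ (w' : X ⧸ Y) = (w : X ⧸ Y) := ⟨w, h, rfl⟩
  unfold pick
  rw [dif_pos hex]
  exact hex.choose_spec

/-- the reduced coordinate -/
noncomputable def red (Y : Subgroup X) (u v : X) : X :=
  (pick Y u (v : X ⧸ Y))⁻¹ * v

lemma red_mem (Y : Subgroup X) (u v : X) (h : Commute u v) : red Y u v ∈ Y := by
  have := (pick_spec Y u v h).2
  exact (QuotientGroup.eq).1 this

lemma red_comm (Y : Subgroup X) (u v : X) (h : Commute u v) :
    Commute u (red Y u v) := by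
  have := (pick_spec Y u v h).1
  exact (Commute.inv_right this).mul_right h

lemma v_eq (Y : Subgroup X) (u v : X) :
    v = pick Y u (v : X ⧸ Y) * red Y u v := by
  unfold red; group

/-- first injection: commuting pairs of `X` into cosets times mixed commuting pairs. -/
noncomputable def emb1 (Y : Subgroup X) (p : { p : X × X // Commute p.1 p.2 }) :
    (X ⧸ Y) × { q : X × Y // Commute q.1 (q.2 : X) } :=
  ((p.1.2 : X ⧸ Y), ⟨(p.1.1, ⟨red Y p.1.1 p.1.2, red_mem Y _ _ p.2⟩), red_comm Y _ _ p.2⟩)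

lemma emb1_injective (Y : Subgroup X) : Function.Injective (emb1 Y) := by
  rintro ⟨⟨u, v⟩, huv⟩ ⟨⟨u', v'⟩, huv'⟩ h
  simp only [emb1, Prod.mk.injEq, Subtype.mk.injEq] at h
  obtain ⟨hv, hu, h1⟩ := h
  subst hu
  have e2 : v = v' := by
    rw [v_eq Y u v, v_eq Y u v', h1, hv]
  subst e2
  rfl

/-- second injection: mixed commuting pairs into cosets times commuting pairs of `Y`. -/
noncomputable def emb2 (Y : Subgroup X) (p : { q : X × Y // Commute q.1 (q.2 : X) }) :
    (X ⧸ Y) × { r : Y × Y // Commute r.1 r.2 } :=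
  ((p.1.1 : X ⧸ Y), ⟨(⟨red Y (p.1.2 : X) p.1.1, red_mem Y _ _ p.2.symm⟩, p.1.2), by
      have := red_comm Y _ _ p.2.symm
      show (⟨red Y (p.1.2 : X) p.1.1, red_mem Y _ _ p.2.symm⟩ : Y) * p.1.2
        = p.1.2 * ⟨red Y (p.1.2 : X) p.1.1, red_mem Y _ _ p.2.symm⟩
      exact Subtype.ext this.eq.symm⟩)

lemma emb2_injective (Y : Subgroup X) : Function.Injective (emb2 Y) := by
  rintro ⟨⟨u, w⟩, huw⟩ ⟨⟨u', w'⟩, huw'⟩ h
  simp only [emb2, Prod.mk.injEq, Subtype.mk.injEq] at h
  obtain ⟨hu, h1, hw⟩ := h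
  subst hw
  have e2 : u = u' := by
    rw [v_eq Y (w : X) u, v_eq Y (w : X) u', h1, hu]
  subst e2
  rfl

lemma emb2_not_surjective (Y : Subgroup X) (hY : ¬ Y.Normal) :
    ∃ b, b ∉ Set.range (emb2 Y) := by
  have : ∃ y ∈ Y, ∃ g : X, g * y * g⁻¹ ∉ Y := by
    by_contra hcon
    push Not at hcon
    exact hY ⟨fun y hy g => hcon y hy g⟩
  obtain ⟨y, hy, g, hg⟩ := this
  refine ⟨(((g⁻¹ : X) : X ⧸ Y), ⟨((1 : Y), ⟨y, hy⟩), Commute.one_left _⟩), ?_⟩
  rintro ⟨⟨⟨u, w⟩, huw⟩, h⟩
  simp only [emb2, Prod.mk.injEq, Subtype.mk.injEq] at h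
  obtain ⟨hu, h1, hw⟩ := h
  subst hw
  -- u commutes with y and u ∈ g⁻¹Y
  have hmem : u⁻¹ * g⁻¹ ∈ Y := (QuotientGroup.eq).1 hu
  apply hg
  have hc : Commute u y := huw
  have h2 : u * y * u⁻¹ = y := by rw [hc.eq]; group
  have : g * y * g⁻¹ = (u⁻¹ * g⁻¹)⁻¹ * y * (u⁻¹ * g⁻¹) := by
    calc g * y * g⁻¹ = g * (u * y * u⁻¹) * g⁻¹ := by rw [h2]
      _ = (u⁻¹ * g⁻¹)⁻¹ * y * (u⁻¹ * g⁻¹) := by group
  rw [this]
  exact Y.mul_mem (Y.mul_mem (Y.inv_mem hmem) hy) hmem

lemma natCard_lt_of_injective_of_notMem {α β : Type*} [Finite β] (f : α → β)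
    (hf : Function.Injective f) {b : β} (hb : b ∉ Set.range f) : Nat.card α < Nat.card β := by
  haveI := Finite.of_injective f hf
  haveI := Fintype.ofFinite α
  haveI := Fintype.ofFinite β
  rw [Nat.card_eq_fintype_card, Nat.card_eq_fintype_card]
  exact Fintype.card_lt_of_injective_of_notMem f hf hb

/-- inclusion of commuting pairs of `Y` into those of `X`. -/
def emb0 (Y : Subgroup X) (p : { r : Y × Y // Commute r.1 r.2 }) :
    { p : X × X // Commute p.1 p.2 } :=
  ⟨((p.1.1 : X), (p.1.2 : X)), by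
    have := p.2
    show (p.1.1 : X) * (p.1.2 : X) = (p.1.2 : X) * (p.1.1 : X)
    have h := congrArg (Subtype.val) this.eq
    simpa using h⟩

lemma emb0_injective (Y : Subgroup X) : Function.Injective (emb0 Y) := by
  rintro ⟨⟨u, w⟩, huw⟩ ⟨⟨u', w'⟩, huw'⟩ h
  simp only [emb0, Subtype.mk.injEq, Prod.mk.injEq] at h
  obtain ⟨h1, h2⟩ := h
  have e1 : u = u' := Subtype.ext h1
  have e2 : w = w' := Subtype.ext h2
  subst e1; subst e2; rfl

/-- Let Y be a subgroup of the finite group X, of index m. Then the numbers of conjugacy classes satisfy k(Y) ≤ m·k(X) and k(X) ≤ m·k(Y), and the second inequality is strict unless Y is normal in X. -/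
theorem result {X : Type*} [Group X] [Finite X] (Y : Subgroup X) : Nat.card (ConjClasses Y) ≤ Y.index * Nat.card (ConjClasses X) ∧ Nat.card (ConjClasses X) ≤ Y.index * Nat.card (ConjClasses Y) ∧ (¬ Y.Normal → Nat.card (ConjClasses X) < Y.index * Nat.card (ConjClasses Y)) := by
  classical
  have hXY : Y.index * Nat.card Y = Nat.card X := Subgroup.index_mul_card Y
  have hYpos : 0 < Nat.card Y := Nat.card_pos
  have hmpos : 0 < Y.index := Nat.pos_of_ne_zero Subgroup.index_ne_zero_of_finite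
  have hA := card_comm_eq_card_conjClasses_mul_card X
  have hC := card_comm_eq_card_conjClasses_mul_card Y
  have h0 := Nat.card_le_card_of_injective _ (emb0_injective Y)
  have h1 := Nat.card_le_card_of_injective _ (emb1_injective Y)
  have h2 := Nat.card_le_card_of_injective _ (emb2_injective Y)
  rw [Nat.card_prod] at h1 h2
  rw [hA] at h0 h1
  rw [hC] at h0 h2
  have hidx : Nat.card (X ⧸ Y) = Y.index := rfl
  rw [hidx] at h1 h2
  set B := Nat.card { q : X × Y // Commute q.1 (q.2 : X) } with hB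
  set kX := Nat.card (ConjClasses X) with hkX
  set kY := Nat.card (ConjClasses Y) with hkY
  set m := Y.index with hm
  set y := Nat.card Y with hy
  rw [← hXY] at h0 h1
  refine ⟨?_, ?_, ?_⟩
  · -- kY * y ≤ kX * (m * y)
    have : kY * y ≤ (m * kX) * y := by
      calc kY * y ≤ kX * (m * y) := h0
        _ = (m * kX) * y := by ring
    exact Nat.le_of_mul_le_mul_right this hYpos
  · have : kX * (m * y) ≤ (m * kY) * (m * y) := by
      calc kX * (m * y) ≤ m * B := h1
        _ ≤ m * (m * (kY * y)) := Nat.mul_le_mul_left _ h2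
        _ = (m * kY) * (m * y) := by ring
    exact Nat.le_of_mul_le_mul_right this (Nat.mul_pos hmpos hYpos)
  · intro hn
    obtain ⟨b, hb⟩ := emb2_not_surjective Y hn
    have h2' : B < m * (kY * y) := by
      have := natCard_lt_of_injective_of_notMem (emb2 Y) (emb2_injective Y) hb
      rw [Nat.card_prod, hC] at this
      exact this
    have : kX * (m * y) < (m * kY) * (m * y) := by
      calc kX * (m * y) ≤ m * B := h1
        _ < m * (m * (kY * y)) := Nat.mul_lt_mul_of_pos_left h2' hmpos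
        _ = (m * kY) * (m * y) := by ring
    exact Nat.lt_of_mul_lt_mul_right this

end Cfsg.Agent.S4200
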