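import Cfsg.Statements.S4201
import Mathlib

set_option autoImplicit false
open Cfsg

namespace Cfsg.Agent.S4201

variable {X : Type*} [Group X]

open Classical in
/-- an element of the coset `γ` commuting with `a`, if there is one. -/
noncomputable def pick (N : Subgroup X) [N.Normal] (a : X) (γ : X ⧸ N) : X :=
  if h : ∃ w : X, Commute a w ∧ (w : X ⧸ N) = γ then h.choose else 1

lemma pick_spec (N : Subgroup X) [N.Normal] (a w : X) (h : Commute a w) :
    Commute a (pick N a (w : X ⧸ N)) ∧ ((pick N a (w : X ⧸ N) : X) : X ⧸ N) = (w : X ⧸ N) := by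
  have hex : ∃ w' : X, Commute a w' ∧ (w' : X ⧸ N) = (w : X ⧸ N) := ⟨w, h, rfl⟩
  unfold pick
  rw [dif_pos hex]
  exact hex.choose_spec

/-- the first `N`-coordinate -/
noncomputable def n1 (N : Subgroup X) [N.Normal] (u v : X) : X :=
  (pick N u (v : X ⧸ N))⁻¹ * v

/-- the second `N`-coordinate -/
noncomputable def n2 (N : Subgroup X) [N.Normal] (u v : X) : X :=
  (pick N (n1 N u v) (u : X ⧸ N))⁻¹ * u

lemma n1_mem (N : Subgroup X) [N.Normal] (u v : X) (h : Commute u v) : n1 N u v ∈ N := by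
  have := (pick_spec N u v h).2
  exact (QuotientGroup.eq).1 this

lemma n1_comm (N : Subgroup X) [N.Normal] (u v : X) (h : Commute u v) :
    Commute u (n1 N u v) := by
  have := (pick_spec N u v h).1
  exact (Commute.inv_right this).mul_right h

lemma n2_mem (N : Subgroup X) [N.Normal] (u v : X) (h : Commute u v) : n2 N u v ∈ N := by
  have := (pick_spec N (n1 N u v) u (n1_comm N u v h).symm).2
  exact (QuotientGroup.eq).1 this

lemma n2_comm (N : Subgroup X) [N.Normal] (u v : X) (h : Commute u v) :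
    Commute (n1 N u v) (n2 N u v) := by
  have := (pick_spec N (n1 N u v) u (n1_comm N u v h).symm).1
  exact (Commute.inv_right this).mul_right (n1_comm N u v h).symm

lemma u_eq (N : Subgroup X) [N.Normal] (u v : X) :
    u = pick N (n1 N u v) (u : X ⧸ N) * n2 N u v := by
  unfold n2; group

lemma v_eq (N : Subgroup X) [N.Normal] (u v : X) :
    v = pick N u (v : X ⧸ N) * n1 N u v := by
  unfold n1; group

/-- the injection of commuting pairs -/
noncomputable def emb (N : Subgroup X) [N.Normal] (p : { p : X × X // Commute p.1 p.2 }) :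
    { q : (X ⧸ N) × (X ⧸ N) // Commute q.1 q.2 } × { r : N × N // Commute r.1 r.2 } :=
  (⟨((p.1.1 : X ⧸ N), (p.1.2 : X ⧸ N)), by
      have := p.2
      show ((p.1.1 : X ⧸ N)) * (p.1.2 : X ⧸ N) = (p.1.2 : X ⧸ N) * (p.1.1 : X ⧸ N)
      rw [← QuotientGroup.mk_mul, ← QuotientGroup.mk_mul, this.eq]⟩,
   ⟨(⟨n1 N p.1.1 p.1.2, n1_mem N _ _ p.2⟩, ⟨n2 N p.1.1 p.1.2, n2_mem N _ _ p.2⟩), by
      have := n2_comm N _ _ p.2
      show (⟨n1 N p.1.1 p.1.2, n1_mem N _ _ p.2⟩ : N) * ⟨n2 N p.1.1 p.1.2, n2_mem N _ _ p.2⟩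
        = ⟨n2 N p.1.1 p.1.2, n2_mem N _ _ p.2⟩ * ⟨n1 N p.1.1 p.1.2, n1_mem N _ _ p.2⟩
      exact Subtype.ext this.eq⟩)

lemma emb_injective (N : Subgroup X) [N.Normal] : Function.Injective (emb N) := by
  rintro ⟨⟨u, v⟩, huv⟩ ⟨⟨u', v'⟩, huv'⟩ h
  simp only [emb, Prod.mk.injEq, Subtype.mk.injEq] at h
  obtain ⟨⟨hu, hv⟩, h1, h2⟩ := h
  have e1 : u = u' := by
    rw [u_eq N u v, u_eq N u' v', h1, h2, hu]
  subst e1
  have e2 : v = v' := by
    rw [v_eq N u v, v_eq N u v', h1, hv]
  subst e2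
  rfl

/-- If N is a normal subgroup of the finite group X then k(X) ≤ k(N)·k(X ⧸ N), where k denotes the number of conjugacy classes. -/
theorem result {X : Type*} [Group X] [Finite X] (N : Subgroup X) [N.Normal] : Nat.card (ConjClasses X) ≤ Nat.card (ConjClasses N) * Nat.card (ConjClasses (X ⧸ N)) := by
  have h1 := Nat.card_le_card_of_injective _ (emb_injective N)
  rw [Nat.card_prod, card_comm_eq_card_conjClasses_mul_card, card_comm_eq_card_conjClasses_mul_card,
    card_comm_eq_card_conjClasses_mul_card] at h1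
  have h2 := Subgroup.card_eq_card_quotient_mul_card_subgroup N
  have hpos : 0 < Nat.card X := Nat.card_pos
  have h3 : Nat.card (ConjClasses X) * Nat.card X ≤
      (Nat.card (ConjClasses N) * Nat.card (ConjClasses (X ⧸ N))) * Nat.card X := by
    calc Nat.card (ConjClasses X) * Nat.card X
        ≤ Nat.card (ConjClasses (X ⧸ N)) * Nat.card (X ⧸ N) *
          (Nat.card (ConjClasses N) * Nat.card N) := h1
      _ = (Nat.card (ConjClasses N) * Nat.card (ConjClasses (X ⧸ N))) * Nat.card X := by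
          rw [h2]; ring
  exact Nat.le_of_mul_le_mul_right h3 hpos

end Cfsg.Agent.S4201
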