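import Cfsg.Statements.S4203
import Mathlib
import Cfsg.Agent.Lib.H23.BurnsidePQ

set_option autoImplicit false
open Cfsg

namespace Cfsg.Agent.S4203

/-- a number all of whose prime factors are `≤ 3` is `2^a * 3^b`. -/
lemma eq_two_pow_mul_three_pow (n : ℕ) (hn : n ≠ 0) (h : ∀ q : ℕ, q.Prime → q ∣ n → q ≤ 3) :
    ∃ a b : ℕ, n = 2 ^ a * 3 ^ b := by
  obtain ⟨a, m, hm2, rfl⟩ := Nat.exists_eq_pow_mul_and_not_dvd hn 2 (by norm_num)
  have hm0 : m ≠ 0 := by rintro rfl; simp at hn
  obtain ⟨b, m', hm3, rfl⟩ := Nat.exists_eq_pow_mul_and_not_dvd hm0 3 (by norm_num)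
  have hm'1 : m' = 1 := by
    by_contra hne
    have hp := Nat.minFac_prime hne
    have hd : m'.minFac ∣ m' := Nat.minFac_dvd m'
    have hle : m'.minFac ≤ 3 := h _ hp (Dvd.dvd.mul_left (Dvd.dvd.mul_left hd _) _)
    have h2 := hp.two_le
    have : m'.minFac = 2 ∨ m'.minFac = 3 := by omega
    rcases this with e | e
    · apply hm2; rw [← e]; exact Dvd.dvd.mul_left hd _
    · apply hm3; rw [← e]; exact hd
  subst hm'1
  exact ⟨a, b, by ring⟩

/-- comap of a coatom under the quotient map is a coatom -/
lemma isCoatom_comap {G : Type*} [Group G] (N : Subgroup G) [N.Normal] (M : Subgroup (G ⧸ N))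
    (hM : IsCoatom M) : IsCoatom (M.comap (QuotientGroup.mk' N)) := by
  have hsurj : Function.Surjective (QuotientGroup.mk' N) := QuotientGroup.mk'_surjective N
  refine ⟨?_, ?_⟩
  · intro h
    apply hM.1
    rw [← Subgroup.map_comap_eq_self_of_surjective hsurj M, h]
    exact Subgroup.map_top_of_surjective _ hsurj
  · intro K hK
    have hker : (QuotientGroup.mk' N).ker ≤ K := by
      refine le_trans ?_ hK.le
      exact Subgroup.ker_le_comap _ _
    have h1 : M ≤ K.map (QuotientGroup.mk' N) := by
      rw [← Subgroup.map_comap_eq_self_of_surjective hsurj M]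
      exact Subgroup.map_mono hK.le
    have h2 : M ≠ K.map (QuotientGroup.mk' N) := by
      intro e
      have : K ≤ M.comap (QuotientGroup.mk' N) := by
        rw [e]; exact Subgroup.le_comap_map _ _
      exact (lt_irrefl _ (lt_of_lt_of_le hK this))
    have h3 : K.map (QuotientGroup.mk' N) = ⊤ := hM.2 _ (lt_of_le_of_ne h1 h2)
    have h4 : K = (K.map (QuotientGroup.mk' N)).comap (QuotientGroup.mk' N) := by
      rw [Subgroup.comap_map_eq_self hker]
    rw [h4, h3, Subgroup.comap_top]

/-- if `N_G(P) ≤ M` for a Sylow `p`-subgroup `P` then `|G : M| ≡ 1 mod p` -/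
lemma index_modEq_one {G : Type*} [Group G] [Finite G] (p : ℕ) [Fact p.Prime] (P : Sylow p G)
    (M : Subgroup G) (hM : Subgroup.normalizer ((P : Subgroup G) : Set G) ≤ M) :
    M.index ≡ 1 [MOD p] := by
  have hPM : (P : Subgroup G) ≤ M := le_trans Subgroup.le_normalizer hM
  let P' : Sylow p M := P.subtype hPM
  have h1 : Nat.card (Sylow p G) ≡ 1 [MOD p] := card_sylow_modEq_one p G
  have h2 : Nat.card (Sylow p M) ≡ 1 [MOD p] := card_sylow_modEq_one p M
  have e1 : Nat.card (Sylow p G) = (Subgroup.normalizer ((P : Subgroup G) : Set G)).index :=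
    Sylow.card_eq_index_normalizer P
  have e2 : Nat.card (Sylow p M) = (Subgroup.normalizer ((P' : Subgroup M) : Set M)).index :=
    Sylow.card_eq_index_normalizer P'
  have e3 : Subgroup.normalizer ((P' : Subgroup M) : Set M)
      = (Subgroup.normalizer ((P : Subgroup G) : Set G)).subgroupOf M := by
    have : (P' : Subgroup M) = (P : Subgroup G).subgroupOf M := rfl
    rw [this, Subgroup.subgroupOf_normalizer_eq hPM]
  have e4 : (Subgroup.normalizer ((P : Subgroup G) : Set G)).relIndex M * M.index
      = (Subgroup.normalizer ((P : Subgroup G) : Set G)).index :=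
    Subgroup.relIndex_mul_index hM
  rw [e3] at e2
  change Nat.card (Sylow p M) = (Subgroup.normalizer ((P : Subgroup G) : Set G)).relIndex M at e2
  rw [← e2, ← e1] at e4
  -- n_M * idx = n_G
  have : Nat.card (Sylow p M) * M.index ≡ 1 * M.index [MOD p] := Nat.ModEq.mul_right _ h2
  rw [e4, one_mul] at this
  exact (this.symm.trans h1)

theorem main : ∀ (n : ℕ) (G : Type*) [Group G] [Finite G], Nat.card G = n →
    (∀ M : Subgroup G, IsCoatom M → ∃ p : ℕ, p.Prime ∧ (M.index = p ∨ M.index = p ^ 2)) →
    Group.IsSolvable G := by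
  intro n
  induction' n using Nat.strong_induction_on with n ih
  intro G _ _ hn h
  by_cases h1 : Nat.card G = 1
  · haveI : Subsingleton G := (Nat.card_eq_one_iff_unique.1 h1).1
    infer_instance
  have hpos : 0 < Nat.card G := Nat.card_pos
  have hne : (Nat.card G).primeFactors.Nonempty := by
    rw [Nat.nonempty_primeFactors]; omega
  set p := (Nat.card G).primeFactors.max' hne with hp
  have hpmem : p ∈ (Nat.card G).primeFactors := Finset.max'_mem _ _
  have hpprime : p.Prime := Nat.prime_of_mem_primeFactors hpmem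
  have hpdvd : p ∣ Nat.card G := Nat.dvd_of_mem_primeFactors hpmem
  have hpmax : ∀ q : ℕ, q.Prime → q ∣ Nat.card G → q ≤ p := by
    intro q hq hqd
    exact Finset.le_max' _ _ (Nat.mem_primeFactors.2 ⟨hq, hqd, by omega⟩)
  haveI : Fact p.Prime := ⟨hpprime⟩
  obtain ⟨P⟩ : Nonempty (Sylow p G) := inferInstance
  by_cases hPn : (P : Subgroup G).Normal
  · -- quotient
    haveI := hPn
    have hPsolv : Group.IsSolvable (P : Subgroup G) := by
      haveI : Group.IsNilpotent (P : Subgroup G) := P.isPGroup'.isNilpotent
      infer_instance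
    have hPcard : p ∣ Nat.card (P : Subgroup G) := by
      rw [Sylow.card_eq_multiplicity]
      apply dvd_pow_self
      have : 0 < (Nat.card G).factorization p :=
        hpprime.factorization_pos_of_dvd (by omega) hpdvd
      omega
    have hlt : Nat.card (G ⧸ (P : Subgroup G)) < n := by
      have := Subgroup.card_eq_card_quotient_mul_card_subgroup (P : Subgroup G)
      have h2 : 2 ≤ Nat.card (P : Subgroup G) :=
        le_trans hpprime.two_le (Nat.le_of_dvd Nat.card_pos hPcard)
      have hq : 0 < Nat.card (G ⧸ (P : Subgroup G)) := Nat.card_pos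
      rw [← hn, this]
      nlinarith
    have hQ : Group.IsSolvable (G ⧸ (P : Subgroup G)) := by
      apply ih _ hlt (G ⧸ (P : Subgroup G)) rfl
      intro M hM
      obtain ⟨q, hq, hq'⟩ := h _ (isCoatom_comap (P : Subgroup G) M hM)
      rw [Subgroup.index_comap_of_surjective _ (QuotientGroup.mk'_surjective _)] at hq'
      exact ⟨q, hq, hq'⟩
    refine Group.isSolvable_of_ker_le_range (P : Subgroup G).subtype
      (QuotientGroup.mk' (P : Subgroup G)) ?_
    rw [QuotientGroup.ker_mk', Subgroup.range_subtype]
  · -- P not normal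
    have hN : Subgroup.normalizer ((P : Subgroup G) : Set G) ≠ ⊤ := by
      intro e
      exact hPn (Subgroup.normalizer_eq_top_iff.1 e)
    obtain ⟨M, hM, hNM⟩ := (eq_top_or_exists_le_coatom _).resolve_left hN
    have hmod := index_modEq_one p P M hNM
    obtain ⟨q, hq, hq'⟩ := h M hM
    have hidx_dvd : M.index ∣ Nat.card G := Subgroup.index_dvd_card M
    have hqdvd : q ∣ Nat.card G := by
      rcases hq' with e | e
      · rw [← e]; exact hidx_dvd
      · exact dvd_trans (dvd_pow_self q (by norm_num)) (e ▸ hidx_dvd)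
    have hqle : q ≤ p := hpmax q hq hqdvd
    have hqne : q ≠ p := by
      intro hqp
      have : M.index ≡ 0 [MOD p] := by
        rcases hq' with e | e
        · rw [e, hqp]; exact (Nat.modEq_zero_iff_dvd).2 dvd_rfl
        · rw [e, hqp]; exact (Nat.modEq_zero_iff_dvd).2 (dvd_pow_self p (by norm_num))
      have : (0 : ℕ) ≡ 1 [MOD p] := this.symm.trans hmod
      have := (Nat.modEq_zero_iff_dvd).1 this.symm
      exact hpprime.one_lt.ne' (Nat.dvd_one.1 this)
    have hqlt : q < p := lt_of_le_of_ne hqle hqne
    have hq2 := hq.two_le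
    rcases hq' with e | e
    · exfalso
      rw [e] at hmod
      have := Nat.ModEq.eq_of_lt_of_lt hmod hqlt (by omega)
      omega
    · rw [e] at hmod
      -- p ∣ q^2 - 1
      have hd : p ∣ q ^ 2 - 1 := (Nat.modEq_iff_dvd' (by nlinarith)).1 hmod.symm
      have hfac : q ^ 2 - 1 = (q - 1) * (q + 1) := by
        zify [show 1 ≤ q ^ 2 by nlinarith, show 1 ≤ q by omega]; ring
      rw [hfac] at hd
      have hp3 : p = q + 1 := by
        rcases (Nat.Prime.dvd_mul hpprime).1 hd with h' | h'
        · exfalso
          have := Nat.le_of_dvd (by omega) h'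
          omega
        · have := Nat.le_of_dvd (by omega) h'
          omega
      have hq2' : q = 2 := by
        rcases hq.eq_two_or_odd' with h2 | hodd
        · exact h2
        · exfalso
          have heven : Even p := by rw [hp3]; exact hodd.add_one
          have := hpprime.even_iff.1 heven
          omega
      have hp3' : p = 3 := by omega
      obtain ⟨a, b, hab⟩ := eq_two_pow_mul_three_pow (Nat.card G) (by omega)
        (fun r hr hrd => hp3' ▸ hpmax r hr hrd)
      exact Cfsg.Agent.Lib.H23.isSolvable_of_card_eq_prime_pow_mul_prime_pow 2 3 a b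
        Nat.prime_two Nat.prime_three hab

/-- A finite group in which every maximal subgroup has index a prime or the square of a prime is solvable. -/
theorem result {G : Type*} [Group G] [Finite G] (h : ∀ M : Subgroup G, IsCoatom M → ∃ p : ℕ, p.Prime ∧ (M.index = p ∨ M.index = p ^ 2)) : Group.IsSolvable G :=
  main _ G rfl h

end Cfsg.Agent.S4203
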