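import Cfsg.Statements.S4204

set_option autoImplicit false
open Cfsg

namespace Cfsg.Agent.S4204

open scoped commutatorElement

/-- for `R` normal, the set of `x` with `⁅x, L⁆ ⊆ R` is a subgroup -/
def commSub {G : Type*} [Group G] (R L : Subgroup G) [R.Normal] : Subgroup G where
  carrier := {x | ∀ l ∈ L, ⁅x, l⁆ ∈ R}
  mul_mem' := by
    intro x y hx hy l hl
    rw [commutatorElement_mul_left_eq_conj_mul]
    exact R.mul_mem (‹R.Normal›.conj_mem _ (hy l hl) x) (hx l hl)
  one_mem' := by
    intro l _
    rw [commutatorElement_one_left]; exact R.one_mem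
  inv_mem' := by
    intro x hx l hl
    rw [commutatorElement_inv_left]
    have h1 : ⁅l, x⁆ ∈ R := by
      rw [← commutatorElement_inv]; exact R.inv_mem (hx l hl)
    have := ‹R.Normal›.conj_mem _ h1 x⁻¹
    simpa using this

theorem commutator_le_iff_le_commSub {G : Type*} [Group G] (R L X : Subgroup G) [R.Normal] :
    ⁅X, L⁆ ≤ R ↔ X ≤ commSub R L := by
  rw [Subgroup.commutator_le]
  constructor
  · intro h x hx l hl; exact h x hx l hl
  · intro h x hx l hl; exact h hx l hl

theorem iSup_commutator_le {G : Type*} [Group G] {ι : Sort*} (X : ι → Subgroup G) (L R : Subgroup G)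
    [R.Normal] (h : ∀ i, ⁅X i, L⁆ ≤ R) : ⁅⨆ i, X i, L⁆ ≤ R := by
  rw [commutator_le_iff_le_commSub]
  apply iSup_le
  intro i
  rw [← commutator_le_iff_le_commSub]
  exact h i

theorem commutator_sup_right_le {G : Type*} [Group G] (X H K R : Subgroup G) [R.Normal]
    (h1 : ⁅X, H⁆ ≤ R) (h2 : ⁅X, K⁆ ≤ R) : ⁅X, H ⊔ K⁆ ≤ R := by
  rw [Subgroup.commutator_comm, commutator_le_iff_le_commSub]
  apply sup_le
  · rw [← commutator_le_iff_le_commSub, Subgroup.commutator_comm]; exact h1
  · rw [← commutator_le_iff_le_commSub, Subgroup.commutator_comm]; exact h2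

/-- shifted lower central series: index 0 is the whole group -/
def lcs' {G : Type*} [Group G] (H : Subgroup G) : ℕ → Subgroup G
  | 0 => ⊤
  | i + 1 => H.lowerCentralSeries i

theorem lcs_normal {G : Type*} [Group G] (H : Subgroup G) [H.Normal] (i : ℕ) :
    (H.lowerCentralSeries i).Normal := by
  induction i with
  | zero => simpa using ‹H.Normal›
  | succ i ih =>
    rw [Subgroup.lowerCentralSeries_succ]
    haveI := ih
    infer_instance

theorem lcs'_normal {G : Type*} [Group G] (H : Subgroup G) [H.Normal] (i : ℕ) :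
    (lcs' H i).Normal := by
  cases i with
  | zero => exact Subgroup.normal_top
  | succ i => exact lcs_normal H i

theorem lcs'_comm_self {G : Type*} [Group G] (H : Subgroup G) [H.Normal] (i : ℕ) :
    ⁅lcs' H i, H⁆ ≤ lcs' H (i + 1) := by
  cases i with
  | zero => exact Subgroup.commutator_le_right (H₁ := ⊤) (H₂ := H)
  | succ i => exact le_rfl

theorem lcs'_comm_other {G : Type*} [Group G] (H K : Subgroup G) [H.Normal] (i : ℕ) :
    ⁅lcs' H i, K⁆ ≤ lcs' H i := by
  haveI := lcs'_normal H i
  exact Subgroup.commutator_le_left (H₁ := lcs' H i) (H₂ := K)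

def term {G : Type*} [Group G] (H K : Subgroup G) (n : ℕ) (i : Fin (n + 2)) : Subgroup G :=
  lcs' H i ⊓ lcs' K (n + 1 - i)

theorem term_normal {G : Type*} [Group G] (H K : Subgroup G) [H.Normal] [K.Normal] (n : ℕ)
    (i : Fin (n + 2)) : (term H K n i).Normal := by
  haveI := lcs'_normal H i
  haveI := lcs'_normal K (n + 1 - i)
  unfold term
  infer_instance

theorem iSup_term_normal {G : Type*} [Group G] (H K : Subgroup G) [H.Normal] [K.Normal] (n : ℕ) :
    (⨆ i : Fin (n + 2), term H K n i).Normal := by
  rw [iSup]
  apply Subgroup.sSup_normal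
  rintro _ ⟨i, rfl⟩
  exact term_normal H K n i

theorem main {G : Type*} [Group G] (H K : Subgroup G) [H.Normal] [K.Normal] (n : ℕ) :
    (H ⊔ K).lowerCentralSeries n ≤ ⨆ i : Fin (n + 2), term H K n i := by
  induction n with
  | zero =>
    rw [Subgroup.lowerCentralSeries_zero]
    apply sup_le
    · refine le_trans ?_ (le_iSup _ (1 : Fin 2))
      simp [term, lcs']
    · refine le_trans ?_ (le_iSup _ (0 : Fin 2))
      simp [term, lcs']
  | succ n ih =>
    rw [Subgroup.lowerCentralSeries_succ]
    haveI := iSup_term_normal H K (n + 1)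
    refine le_trans (Subgroup.commutator_mono ih le_rfl) ?_
    apply iSup_commutator_le
    intro i
    apply commutator_sup_right_le
    · -- commutator with H goes to index i+1
      refine le_trans ?_ (le_iSup _ (⟨i.1 + 1, by omega⟩ : Fin (n + 1 + 2)))
      unfold term
      apply le_inf
      · exact le_trans (Subgroup.commutator_mono inf_le_left le_rfl) (lcs'_comm_self H i)
      · refine le_trans (Subgroup.commutator_mono inf_le_right le_rfl) ?_
        have e : n + 1 + 1 - (i.1 + 1) = n + 1 - i.1 := by omega
        simp only [e]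
        exact lcs'_comm_other K H _
    · refine le_trans ?_ (le_iSup _ (⟨i.1, by omega⟩ : Fin (n + 1 + 2)))
      unfold term
      apply le_inf
      · exact le_trans (Subgroup.commutator_mono inf_le_left le_rfl) (lcs'_comm_other H K _)
      · refine le_trans (Subgroup.commutator_mono inf_le_right le_rfl) ?_
        have hi := i.2
        have e : n + 1 + 1 - i.1 = (n + 1 - i.1) + 1 := by omega
        simp only [e]
        exact lcs'_comm_self K _

/-- If `H` and `K` are normal subgroups of a finite group with `H` nilpotent of class at most `c` and `K` nilpotent of class at most `d` (the terms with index `c`, respectively `d`, of their lower central series are trivial, indices starting at `0`), then `HK` is nilpotent of class at most `c + d`. -/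
theorem result {G : Type*} [Group G] [Finite G] (H K : Subgroup G) [H.Normal] [K.Normal] (c d : ℕ) (hH : H.lowerCentralSeries c = ⊥) (hK : K.lowerCentralSeries d = ⊥) : (H ⊔ K).lowerCentralSeries (c + d) = ⊥ := by
  rw [eq_bot_iff]
  refine le_trans (main H K (c + d)) ?_
  apply iSup_le
  intro i
  unfold term
  by_cases hi : c + 1 ≤ i.1
  · refine le_trans inf_le_left ?_
    obtain ⟨j, hj⟩ : ∃ j, i.1 = j + 1 := ⟨i.1 - 1, by omega⟩
    rw [hj]
    show H.lowerCentralSeries j ≤ ⊥
    rw [← hH]
    exact Subgroup.lowerCentralSeries_antitone H (by omega)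
  · refine le_trans inf_le_right ?_
    obtain ⟨j, hj⟩ : ∃ j, c + d + 1 - i.1 = j + 1 := ⟨c + d - i.1, by omega⟩
    rw [hj]
    show K.lowerCentralSeries j ≤ ⊥
    rw [← hK]
    exact Subgroup.lowerCentralSeries_antitone K (by omega)

end Cfsg.Agent.S4204
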