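import Cfsg.Statements.S4207
import Mathlib
import Cfsg.Agent.Lib.H21.OrbitCount

set_option autoImplicit false
open Cfsg

namespace Cfsg.Agent.S4207

open Cfsg.Agent.Lib.H21

variable {P : Type*} [Group P]

/-- tuples congruent to `x` modulo the Frattini subgroup -/
def Om (r : ℕ) (x : Fin r → P) : Set (Fin r → P) :=
  {y | ∀ i, y i * (x i)⁻¹ ∈ frattini P}

/-- `Om r x` is in bijection with `r`-tuples of elements of the Frattini subgroup -/
def omEquiv (r : ℕ) (x : Fin r → P) : Om r x ≃ (Fin r → frattini P) where
  toFun y := fun i => ⟨y.1 i * (x i)⁻¹, y.2 i⟩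
  invFun f := ⟨fun i => (f i : P) * x i, fun i => by
    show (f i : P) * x i * (x i)⁻¹ ∈ frattini P
    rw [mul_inv_cancel_right]; exact (f i).2⟩
  left_inv y := by
    apply Subtype.ext
    funext i
    simp
  right_inv f := by
    funext i
    apply Subtype.ext
    simp

lemma closure_eq_top_of_mem_Om [Finite P] (r : ℕ) (x : Fin r → P)
    (hx : Subgroup.closure (Set.range fun i => (QuotientGroup.mk (x i) : P ⧸ frattini P)) = ⊤)
    (y : Fin r → P) (hy : y ∈ Om r x) : Subgroup.closure (Set.range y) = ⊤ := by
  apply frattini_nongenerating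
  have hmk : ∀ i, (QuotientGroup.mk (y i) : P ⧸ frattini P) = QuotientGroup.mk (x i) := by
    intro i
    rw [QuotientGroup.eq]
    have := (frattini P).inv_mem (hy i)
    have h2 : (y i * (x i)⁻¹)⁻¹ = x i * (y i)⁻¹ := by group
    rw [h2] at this
    -- conjugate into the right shape
    have hn : (frattini P).Normal := inferInstance
    have := hn.conj_mem _ this (y i)⁻¹
    simpa [mul_assoc] using this
  have h1 : (Subgroup.closure (Set.range y)).map (QuotientGroup.mk' (frattini P)) = ⊤ := by
    rw [MonoidHom.map_closure, ← hx]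
    congr 1
    ext q
    constructor
    · rintro ⟨_, ⟨i, rfl⟩, rfl⟩
      exact ⟨i, (hmk i).symm⟩
    · rintro ⟨i, rfl⟩
      exact ⟨y i, ⟨i, rfl⟩, hmk i⟩
  have h2 := Subgroup.comap_map_eq (QuotientGroup.mk' (frattini P)) (Subgroup.closure (Set.range y))
  rw [h1, Subgroup.comap_top, QuotientGroup.ker_mk'] at h2
  exact h2.symm

/-- Let `P` be a group of order `p^n` whose Frattini subgroup has index `p^r`. Then any group of automorphisms of `P` each of which induces the identity on the Frattini quotient has order dividing `p^(r(n-r))`; in particular it is a `p`-group. -/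
theorem result {P : Type*} [Group P] [Finite P] {p n r : ℕ} [Fact p.Prime] (hP : Nat.card P = p ^ n) (hr : (frattini P).index = p ^ r) (A : Subgroup (MulAut P)) (hA : ∀ α ∈ A, ∀ x : P, α x * x⁻¹ ∈ frattini P) : Nat.card A ∣ p ^ (r * (n - r)) := by
  classical
  have hp := (Fact.out : p.Prime)
  -- order of the Frattini subgroup
  have hΦ : Nat.card (frattini P) = p ^ (n - r) := by
    have h1 := Subgroup.card_mul_index (frattini P)
    rw [hr, hP] at h1
    have hrn : r ≤ n := by
      have : p ^ r ∣ p ^ n := ⟨_, by rw [← h1]; ring⟩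
      exact (Nat.pow_dvd_pow_iff_le_right hp.one_lt).1 this
    have h2 : p ^ n = p ^ (n - r) * p ^ r := by rw [← pow_add]; congr 1; omega
    rw [h2] at h1
    exact Nat.eq_of_mul_eq_mul_right (pow_pos hp.pos r) h1
  -- generators of the quotient
  have hQ : Nat.card (P ⧸ frattini P) = p ^ r := hr
  obtain ⟨q, hq⟩ := exists_generators_of_card_eq_prime_pow p r hQ
  choose x hx using fun i => QuotientGroup.mk_surjective (q i)
  have hxgen : Subgroup.closure (Set.range fun i => (QuotientGroup.mk (x i) : P ⧸ frattini P)) = ⊤ := by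
    rw [← hq]; congr 2; funext i; exact hx i
  -- the invariant set
  have hfin : (Om r x).Finite := Set.toFinite _
  have hinv : ∀ α : A, ∀ y ∈ Om r x, α • y ∈ Om r x := by
    intro α y hy i
    show (α : MulAut P) (y i) * (x i)⁻¹ ∈ frattini P
    have h1 := hA α α.2 (y i)
    have h2 := hy i
    have : (α : MulAut P) (y i) * (x i)⁻¹ = ((α : MulAut P) (y i) * (y i)⁻¹) * (y i * (x i)⁻¹) := by
      group
    rw [this]
    exact (frattini P).mul_mem h1 h2
  have hfree : ∀ y ∈ Om r x, MulAction.stabilizer A y = ⊥ := by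
    intro y hy
    rw [eq_bot_iff]
    intro α hα
    rw [Subgroup.mem_bot]
    have hα' : α • y = y := MulAction.mem_stabilizer_iff.1 hα
    have hgen := closure_eq_top_of_mem_Om r x hxgen y hy
    apply Subtype.ext
    show (α : MulAut P) = 1
    have hEq : ((α : MulAut P).toMonoidHom) = MonoidHom.id P := by
      apply MonoidHom.eq_of_eqOn_dense hgen
      rintro _ ⟨i, rfl⟩
      exact congrFun hα' i
    ext z
    exact DFunLike.congr_fun hEq z
  have hdvd := card_dvd_ncard_of_free (G := A) (Om r x) hfin hinv hfree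
  have hcard : (Om r x).ncard = p ^ (r * (n - r)) := by
    rw [← Nat.card_coe_set_eq, Nat.card_congr (omEquiv r x), Nat.card_fun, hΦ, Nat.card_eq_fintype_card,
      Fintype.card_fin, ← pow_mul, mul_comm]
  rw [hcard] at hdvd
  exact hdvd

end Cfsg.Agent.S4207
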