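import Cfsg.Statements.S4208
import Mathlib
import Cfsg.Agent.Lib.H21.OrbitCount
import Cfsg.Agent.Lib.H21.GenTuples
import Cfsg.Agent.Lib.H1.PGroupBasic

set_option autoImplicit false
open Cfsg

namespace Cfsg.Agent.S4208

open Cfsg.Agent.Lib.H21
open scoped commutatorElement

variable {P : Type*} [Group P]

/-- a tuple generates `P` iff its image generates the Frattini quotient -/
lemma gen_iff [Finite P] (r : ℕ) (y : Fin r → P) :
    Subgroup.closure (Set.range y) = ⊤ ↔
      Subgroup.closure (Set.range fun i => (QuotientGroup.mk (y i) : P ⧸ frattini P)) = ⊤ := by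
  have hmap : (Subgroup.closure (Set.range y)).map (QuotientGroup.mk' (frattini P)) =
      Subgroup.closure (Set.range fun i => (QuotientGroup.mk (y i) : P ⧸ frattini P)) := by
    rw [MonoidHom.map_closure]
    congr 1
    ext q
    constructor
    · rintro ⟨_, ⟨i, rfl⟩, rfl⟩
      exact ⟨i, rfl⟩
    · rintro ⟨i, rfl⟩
      exact ⟨y i, ⟨i, rfl⟩, rfl⟩
  constructor
  · intro h
    rw [← hmap, h]
    exact Subgroup.map_top_of_surjective _ (QuotientGroup.mk'_surjective _)
  · intro h
    apply frattini_nongenerating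
    have h2 := Subgroup.comap_map_eq (QuotientGroup.mk' (frattini P)) (Subgroup.closure (Set.range y))
    rw [hmap, h, Subgroup.comap_top, QuotientGroup.ker_mk'] at h2
    exact h2.symm

/-- generating tuples of `P` versus generating tuples of the Frattini quotient -/
noncomputable def genEquiv [Finite P] (r : ℕ) :
    {y : Fin r → P // Subgroup.closure (Set.range y) = ⊤} ≃
      {z : Fin r → P ⧸ frattini P // Subgroup.closure (Set.range z) = ⊤} × (Fin r → frattini P) where
  toFun y := (⟨fun i => (QuotientGroup.mk (y.1 i) : P ⧸ frattini P), (gen_iff r y.1).1 y.2⟩,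
    fun i => ⟨(Quotient.out (QuotientGroup.mk (y.1 i) : P ⧸ frattini P))⁻¹ * y.1 i, by
      rw [← QuotientGroup.eq]
      exact QuotientGroup.out_eq' _⟩)
  invFun zf := ⟨fun i => Quotient.out (zf.1.1 i) * (zf.2 i : P), by
    rw [gen_iff]
    have : (fun i => (QuotientGroup.mk (Quotient.out (zf.1.1 i) * (zf.2 i : P)) : P ⧸ frattini P))
        = zf.1.1 := by
      funext i
      rw [QuotientGroup.mk_mul_of_mem _ (zf.2 i).2]
      exact QuotientGroup.out_eq' _
    rw [this]
    exact zf.1.2⟩
  left_inv y := by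
    apply Subtype.ext
    funext i
    simp
  right_inv zf := by
    obtain ⟨⟨z, hz⟩, f⟩ := zf
    have h1 : ∀ i, (QuotientGroup.mk (Quotient.out (z i) * (f i : P)) : P ⧸ frattini P) = z i := by
      intro i
      rw [QuotientGroup.mk_mul_of_mem _ (f i).2]
      exact QuotientGroup.out_eq' _
    apply Prod.ext
    · apply Subtype.ext
      funext i
      exact h1 i
    · funext i
      apply Subtype.ext
      show (Quotient.out (QuotientGroup.mk (Quotient.out (z i) * (f i : P)) : P ⧸ frattini P))⁻¹ *
        (Quotient.out (z i) * (f i : P)) = f i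
      rw [h1 i]
      group

/-- Let `P` be a group of order `p^n` whose Frattini subgroup has index `p^r`. Then the order of the automorphism group of `P` divides `p^(r(n-r)) · (p^r - 1)(p^r - p) ⋯ (p^r - p^(r-1))`. -/
theorem result {P : Type*} [Group P] [Finite P] {p n r : ℕ} [Fact p.Prime] (hP : Nat.card P = p ^ n) (hr : (frattini P).index = p ^ r) : Nat.card (MulAut P) ∣ p ^ (r * (n - r)) * ∏ i ∈ Finset.range r, (p ^ r - p ^ i) := by
  classical
  have hp := (Fact.out : p.Prime)
  have hPG : IsPGroup p P := IsPGroup.of_card hP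
  -- order of the Frattini subgroup
  have hΦ : Nat.card (frattini P) = p ^ (n - r) := by
    have h1 := Subgroup.card_mul_index (frattini P)
    rw [hr, hP] at h1
    have hrn : r ≤ n := by
      have : p ^ r ∣ p ^ n := ⟨_, by rw [← h1]; ring⟩
      exact (Nat.pow_dvd_pow_iff_le_right hp.one_lt).1 this
    have h2 : p ^ n = p ^ (n - r) * p ^ r := by rw [← pow_add]; congr 1; omega
    rw [h2] at h1
    exact Nat.eq_of_mul_eq_mul_right (pow_pos hp.pos r) h1
  have hQ : Nat.card (P ⧸ frattini P) = p ^ r := hr
  -- the quotient is elementary abelian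
  have hcomm : ∀ a b : P ⧸ frattini P, a * b = b * a := by
    intro a b
    obtain ⟨a, rfl⟩ := QuotientGroup.mk_surjective a
    obtain ⟨b, rfl⟩ := QuotientGroup.mk_surjective b
    rw [← QuotientGroup.mk_mul, ← QuotientGroup.mk_mul, QuotientGroup.eq]
    have h1 : ⁅b⁻¹, a⁻¹⁆ ∈ commutator P :=
      Subgroup.commutator_mem_commutator (Subgroup.mem_top _) (Subgroup.mem_top _)
    have h2 := Cfsg.Agent.Lib.H1.isPGroup_commutator_le_frattini hPG h1
    have e : (a * b)⁻¹ * (b * a) = ⁅b⁻¹, a⁻¹⁆ := by
      rw [commutatorElement_def]; group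
    rw [e]
    exact h2
  have hexp : ∀ a : P ⧸ frattini P, a ^ p = 1 := by
    intro a
    obtain ⟨a, rfl⟩ := QuotientGroup.mk_surjective a
    rw [← QuotientGroup.mk_pow, QuotientGroup.eq_one_iff]
    exact Cfsg.Agent.Lib.H1.isPGroup_pow_mem_frattini hPG a
  have hgenQ := card_generating_tuples hcomm hexp hQ
  -- the invariant set of generating tuples
  let X : Set (Fin r → P) := {y | Subgroup.closure (Set.range y) = ⊤}
  have hfin : X.Finite := Set.toFinite _
  have hinv : ∀ α : MulAut P, ∀ y ∈ X, α • y ∈ X := by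
    intro α y hy
    show Subgroup.closure (Set.range (fun i => α (y i))) = ⊤
    have : Set.range (fun i => α (y i)) = α.toMonoidHom '' Set.range y := by
      ext q; constructor
      · rintro ⟨i, rfl⟩; exact ⟨y i, ⟨i, rfl⟩, rfl⟩
      · rintro ⟨_, ⟨i, rfl⟩, rfl⟩; exact ⟨i, rfl⟩
    rw [this, ← MonoidHom.map_closure, hy]
    exact Subgroup.map_top_of_surjective _ α.surjective
  have hfree : ∀ y ∈ X, MulAction.stabilizer (MulAut P) y = ⊥ := by
    intro y hy
    rw [eq_bot_iff]
    intro α hα
    rw [Subgroup.mem_bot]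
    have hα' : α • y = y := MulAction.mem_stabilizer_iff.1 hα
    have hEq : (α.toMonoidHom) = MonoidHom.id P := by
      apply MonoidHom.eq_of_eqOn_dense hy
      rintro _ ⟨i, rfl⟩
      exact congrFun hα' i
    ext z
    exact DFunLike.congr_fun hEq z
  have hdvd := card_dvd_ncard_of_free (G := MulAut P) X hfin hinv hfree
  have hcard : X.ncard = p ^ (r * (n - r)) * ∏ i ∈ Finset.range r, (p ^ r - p ^ i) := by
    rw [← Nat.card_coe_set_eq]
    show Nat.card {y : Fin r → P // Subgroup.closure (Set.range y) = ⊤} = _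
    rw [Nat.card_congr (genEquiv r), Nat.card_prod, hgenQ, Nat.card_fun, hΦ,
      Nat.card_eq_fintype_card, Fintype.card_fin, ← pow_mul, mul_comm, mul_comm (n - r) r]
  rw [hcard] at hdvd
  exact hdvd

end Cfsg.Agent.S4208
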