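import Cfsg.Statements.S4211
import Cfsg.Agent.Lib.H22.Hamiltonian

set_option autoImplicit false
open Cfsg

namespace Cfsg.Agent.S4211

open Cfsg.Agent.Lib.H22

/-- A finite non-abelian group in which every subgroup is normal is the internal direct product of a subgroup isomorphic to the quaternion group of order `8`, an elementary abelian `2`-subgroup and an abelian subgroup of odd order. -/
theorem result {G : Type*} [Group G] [Finite G] (hna : ¬ IsMulCommutative G) (hn : ∀ H : Subgroup G, H.Normal) : ∃ Q E A : Subgroup G, Nonempty (Q ≃* QuaternionGroup 2) ∧ Cfsg.IsElementaryAbelian 2 E ∧ IsMulCommutative A ∧ Odd (Nat.card A) ∧ E ⊓ A = ⊥ ∧ Q ⊓ (E ⊔ A) = ⊥ ∧ Q ⊔ (E ⊔ A) = ⊤ := by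
  have hnz : ∀ u : G, (Subgroup.zpowers u).Normal := fun u => hn _
  have hna' : ∃ a b : G, ¬ Commute a b := by
    by_contra hcon
    push Not at hcon
    exact hna ⟨⟨fun a b => (hcon a b).eq⟩⟩
  obtain ⟨x, y, hx4, hx2, hyy, hyx⟩ := exists_quaternion_gens_of_dedekind hnz hna'
  obtain ⟨Q, hQ, hxQ, hyQ, hQle, hQc⟩ := q8_exists_subgroup hx4 hx2 hyy hyx
  -- the centralizer of `Q`
  obtain ⟨C, hCmem⟩ : ∃ C : Subgroup G, ∀ g, g ∈ C ↔ g * x = x * g ∧ g * y = y * g := by
    refine ⟨Subgroup.centralizer {x, y}, fun g => ?_⟩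
    rw [Subgroup.mem_centralizer_iff]
    constructor
    · intro h
      exact ⟨(h x (by simp)).symm, (h y (by simp)).symm⟩
    · rintro ⟨h1, h2⟩ z hz
      rcases hz with rfl | rfl
      · exact h1.symm
      · exact h2.symm
  have hno4 : ∀ g ∈ C, g ^ 4 = 1 → g ^ 2 = 1 := fun g hg h4 =>
    q8_centralizer_no_order_four hnz hx4 hx2 hyy hyx ((hCmem g).mp hg).1 ((hCmem g).mp hg).2 h4
  have hCab : ∀ u ∈ C, ∀ v ∈ C, u * v = v * u := by
    by_contra hcon
    push Not at hcon
    obtain ⟨u, hu, v, hv, huv⟩ := hcon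
    have hnC : ∀ w : C, (Subgroup.zpowers w).Normal := by
      intro w
      constructor
      intro n hn' g
      have h1 : ((Subgroup.zpowers w).map C.subtype).Normal := hn _
      have h2 : (g : G) * (n : G) * (g : G)⁻¹ ∈ (Subgroup.zpowers w).map C.subtype :=
        h1.conj_mem _ (Subgroup.mem_map_of_mem _ hn') g
      obtain ⟨k, hk, hk'⟩ := Subgroup.mem_map.mp h2
      have : k = g * n * g⁻¹ := Subtype.ext (by simpa using hk')
      rw [← this]; exact hk
    obtain ⟨x', y', hx'4, hx'2, -, -⟩ := exists_quaternion_gens_of_dedekind hnC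
      ⟨⟨u, hu⟩, ⟨v, hv⟩, fun h => huv (by simpa using congrArg Subtype.val h.eq)⟩
    apply hx'2
    have := hno4 (x' : G) x'.2 (by simpa using congrArg Subtype.val hx'4)
    exact Subtype.ext (by simpa using this)
  -- the central involution
  have hcC : x ^ 2 ∈ C := by
    rw [hCmem]
    refine ⟨by group, ?_⟩
    rw [← hyy]; group
  have hc2 : (x ^ 2) ^ 2 = 1 := by rw [← pow_mul]; exact hx4
  obtain ⟨E, A, hEC, hAC, hE2, hAodd, hcE, hCle⟩ :=
    exists_split_of_no_order_four hn C hCab hno4 hcC hx2 hc2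
  have hodd_sq : ∀ a : G, Odd (orderOf a) → a ^ 2 = 1 → a = 1 := by
    intro a ha ha2
    have h1 : orderOf a ∣ 2 := orderOf_dvd_of_pow_eq_one ha2
    have h2 : orderOf a = 1 := by
      rcases (Nat.dvd_prime Nat.prime_two).mp h1 with h | h
      · exact h
      · rw [h] at ha; exact absurd ha (by decide)
    exact orderOf_eq_one_iff.mp h2
  have hEAC : E ⊔ A ≤ C := sup_le hEC hAC
  refine ⟨Q, E, A, hQ, ?_, ?_, ?_, ?_, ?_, ?_⟩
  · exact ⟨⟨⟨fun a b => Subtype.ext (hCab a.1 (hEC a.2) b.1 (hEC b.2))⟩⟩, hE2⟩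
  · exact ⟨⟨fun a b => Subtype.ext (hCab a.1 (hAC a.2) b.1 (hAC b.2))⟩⟩
  · by_contra hcon
    rw [Nat.not_odd_iff_even] at hcon
    have h2 : 2 ∣ Nat.card A := hcon.two_dvd
    have : Fact (Nat.Prime 2) := ⟨Nat.prime_two⟩
    obtain ⟨g, hg⟩ := exists_prime_orderOf_dvd_card' 2 h2
    have h3 : orderOf (g : G) = 2 := by rw [Subgroup.orderOf_coe]; exact hg
    have h4 := hAodd g.1 g.2
    rw [h3] at h4
    exact absurd h4 (by decide)
  · rw [eq_bot_iff]
    rintro g ⟨hgE, hgA⟩
    rw [Subgroup.mem_bot]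
    exact hodd_sq g (hAodd g hgA) (hE2 g hgE)
  · rw [eq_bot_iff]
    rintro g ⟨hgQ, hgEA⟩
    rw [Subgroup.mem_bot]
    have hgC := (hCmem g).mp (hEAC hgEA)
    rcases hQc g hgQ hgC.1 hgC.2 with h | h
    · exact h
    · exfalso
      have := hn A
      obtain ⟨e, he, a, ha, hea⟩ := Subgroup.mem_sup_of_normal_right.mp hgEA
      have ha1 : a = 1 := by
        apply hodd_sq a (hAodd a ha)
        have : a = e⁻¹ * x ^ 2 := by rw [← h, ← hea]; group
        have hcomm : Commute e⁻¹ (x ^ 2) := hCab _ (C.inv_mem (hEC he)) _ hcC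
        rw [this, hcomm.mul_pow, hc2, inv_pow, hE2 e he, inv_one, one_mul]
      apply hcE
      rw [← h, ← hea, ha1, mul_one]; exact he
  · rw [eq_top_iff]
    intro g _
    obtain ⟨q, hq, hq1, hq2⟩ := q8_exists_mul_centralizer (hnz x) (hnz y) hx4 hx2 hyy hyx g
    have hqQ : q ∈ Q := by
      have : Subgroup.closure ({x, y} : Set G) ≤ Q := by
        rw [Subgroup.closure_le]
        rintro z (rfl | rfl)
        · exact hxQ
        · exact hyQ
      exact this hq
    have hg'C : q⁻¹ * g ∈ C := (hCmem _).mpr ⟨hq1, hq2⟩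
    have hle : C ≤ Q ⊔ (E ⊔ A) := by
      refine hCle.trans ?_
      refine sup_le (sup_le ?_ ?_) ?_
      · exact le_sup_left.trans le_sup_right
      · rw [Subgroup.zpowers_le]
        exact Subgroup.mem_sup_left (Q.pow_mem hxQ 2)
      · exact le_sup_right.trans le_sup_right
    have : g = q * (q⁻¹ * g) := by group
    rw [this]
    exact Subgroup.mul_mem _ (Subgroup.mem_sup_left hqQ) (hle hg'C)

end Cfsg.Agent.S4211
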