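import Cfsg.Statements.S4212
import Mathlib
import Cfsg.Agent.Lib.H20.FrobeniusDiv

set_option autoImplicit false
open Cfsg

namespace Cfsg.Agent.S4212

open Finset Cfsg.Agent.Lib.H20

universe u

/-- number of `n`-th roots of `c` -/
noncomputable def A {G : Type*} [Group G] (n : ℕ) (c : G) : ℕ := Nat.card {x : G // x ^ n = c}

theorem A_conj {G : Type*} [Group G] (n : ℕ) (g c : G) : A n (g * c * g⁻¹) = A n c := by
  unfold A
  apply Nat.card_congr
  refine (Equiv.subtypeEquiv (MulAut.conj g).toEquiv (fun x => ?_)).symm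
  simp only [MulEquiv.toEquiv_eq_coe, MulEquiv.coe_toEquiv, MulAut.conj_apply, conj_pow]
  constructor
  · intro h; rw [h]
  · intro h; simpa using h

theorem card_pow_mem {G : Type*} [Group G] [Fintype G] [DecidableEq G] (n : ℕ) (Q : G → Prop)
    [DecidablePred Q] :
    Nat.card {x : G // Q (x ^ n)} = ∑ y ∈ univ.filter Q, A n y := by
  rw [card_subtype_eq_card_filter]
  rw [Finset.card_eq_sum_card_fiberwise (f := fun x : G => x ^ n) (t := univ.filter Q)]
  · apply Finset.sum_congr rfl
    intro y hy
    unfold A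
    rw [card_subtype_eq_card_filter]
    congr 1
    ext x
    simp only [mem_filter, mem_univ, true_and, and_iff_right_iff_imp]
    intro h
    rw [h]
    simpa using hy
  · intro x hx
    simpa using hx

/-- passing to the centralizer -/
theorem A_centralizer {G : Type*} [Group G] (n : ℕ) (y : G)
    (hy : y ∈ Subgroup.centralizer ({y} : Set G)) :
    A (G := Subgroup.centralizer ({y} : Set G)) n ⟨y, hy⟩ = A n y := by
  unfold A
  apply Nat.card_congr
  refine ⟨fun x => ⟨x.1.1, ?_⟩, fun x => ⟨⟨x.1, ?_⟩, ?_⟩, ?_, ?_⟩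
  · have := x.2
    have h2 := congrArg Subtype.val this
    simpa using h2
  · rw [Subgroup.mem_centralizer_iff]
    intro z hz
    rw [Set.mem_singleton_iff] at hz
    subst hz
    have hx : x.1 ^ n = z := x.2
    have h2 : x.1 ^ n * x.1 = x.1 * x.1 ^ n := by rw [← pow_succ, ← pow_succ']
    rwa [hx] at h2
  · apply Subtype.ext
    simpa using x.2
  · intro x; rfl
  · intro x; rfl

theorem dvd_A_of_orderOf {G : Type*} [Group G] [Finite G] (k : ℕ) (c : G)
    (h : ∀ x : G, x ^ k = c → orderOf x = k * orderOf c) : k ∣ A k c := by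
  classical
  haveI := Fintype.ofFinite G
  unfold A
  rw [card_subtype_eq_card_filter, Finset.card_eq_sum_card_image (fun x : G => Subgroup.zpowers x)]
  apply Finset.dvd_sum
  intro Z hZ
  obtain ⟨x₀, hx₀, rfl⟩ := Finset.mem_image.mp hZ
  have hx₀' : x₀ ^ k = c := by simpa using hx₀
  have hcpos : 0 < orderOf c := orderOf_pos c
  suffices hs : ((univ.filter (fun x : G => x ^ k = c)).filter
      (fun x => Subgroup.zpowers x = Subgroup.zpowers x₀)).card = k by rw [hs]
  letI : CommGroup (Subgroup.zpowers x₀) := IsCyclic.commGroup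
  have hker := IsCyclic.card_powMonoidHom_ker (Subgroup.zpowers x₀) k
  rw [Nat.card_zpowers, h x₀ hx₀', Nat.gcd_mul_right_left] at hker
  rw [Finset.filter_filter, ← card_subtype_eq_card_filter]
  conv_rhs => rw [← hker]
  symm
  have hmem : ∀ z : (powMonoidHom k : Subgroup.zpowers x₀ →* Subgroup.zpowers x₀).ker,
      (x₀ * ((z : Subgroup.zpowers x₀) : G)) ^ k = c ∧
        Subgroup.zpowers (x₀ * ((z : Subgroup.zpowers x₀) : G)) = Subgroup.zpowers x₀ := by
    intro z
    have hz : (z : Subgroup.zpowers x₀) ^ k = 1 := by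
      have := z.2
      rwa [MonoidHom.mem_ker, powMonoidHom_apply] at this
    have hz' : ((z : Subgroup.zpowers x₀) : G) ^ k = 1 := by
      have := congrArg Subtype.val hz
      simpa using this
    have hzm : ((z : Subgroup.zpowers x₀) : G) ∈ Subgroup.zpowers x₀ := (z : Subgroup.zpowers x₀).2
    have hcomm : Commute x₀ ((z : Subgroup.zpowers x₀) : G) := by
      obtain ⟨j, hj⟩ := Subgroup.mem_zpowers_iff.mp hzm
      rw [← hj]
      exact (Commute.refl x₀).zpow_right j
    have h1 : (x₀ * ((z : Subgroup.zpowers x₀) : G)) ^ k = c := by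
      rw [hcomm.mul_pow, hz', mul_one, hx₀']
    refine ⟨h1, ?_⟩
    have hle : Subgroup.zpowers (x₀ * ((z : Subgroup.zpowers x₀) : G)) ≤ Subgroup.zpowers x₀ := by
      rw [Subgroup.zpowers_le]
      exact Subgroup.mul_mem _ (Subgroup.mem_zpowers x₀) hzm
    apply Subgroup.eq_of_le_of_card_ge hle
    rw [Nat.card_zpowers, Nat.card_zpowers, h _ h1, h x₀ hx₀']
  apply Nat.card_congr
  refine Equiv.ofBijective (fun z => ⟨x₀ * ((z : Subgroup.zpowers x₀) : G), hmem z⟩) ⟨?_, ?_⟩
  · intro z w hzw
    have := congrArg Subtype.val hzw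
    simp only [mul_right_inj] at this
    exact Subtype.ext (Subtype.ext this)
  · rintro ⟨y, hy1, hy2⟩
    have hyZ : y ∈ Subgroup.zpowers x₀ := hy2 ▸ Subgroup.mem_zpowers y
    have hzm : x₀⁻¹ * y ∈ Subgroup.zpowers x₀ :=
      Subgroup.mul_mem _ (Subgroup.inv_mem _ (Subgroup.mem_zpowers x₀)) hyZ
    have hcomm : Commute x₀⁻¹ y := by
      obtain ⟨j, hj⟩ := Subgroup.mem_zpowers_iff.mp hyZ
      rw [← hj]
      exact ((Commute.refl x₀).zpow_right j).inv_left
    have hpow : (x₀⁻¹ * y) ^ k = 1 := by
      rw [hcomm.mul_pow, inv_pow, hx₀', hy1, inv_mul_cancel]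
    refine ⟨⟨⟨x₀⁻¹ * y, hzm⟩, ?_⟩, ?_⟩
    · rw [MonoidHom.mem_ker, powMonoidHom_apply]
      apply Subtype.ext
      simpa using hpow
    · apply Subtype.ext
      simp

/-- order of a root when `p ∣ orderOf c` -/
theorem orderOf_root {G : Type*} [Group G] [Finite G] {p a : ℕ} (hp : p.Prime) (c x : G)
    (hpc : p ∣ orderOf c) (hx : x ^ (p ^ a) = c) : orderOf x = p ^ a * orderOf c := by
  have hxpos : 0 < orderOf x := orderOf_pos x
  have h1 : orderOf c = orderOf x / Nat.gcd (orderOf x) (p ^ a) := by
    rw [← hx, orderOf_pow]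
  obtain ⟨j, hj, hd⟩ := (Nat.dvd_prime_pow hp).mp (Nat.gcd_dvd_right (orderOf x) (p ^ a))
  have h2 : orderOf x = Nat.gcd (orderOf x) (p ^ a) * orderOf c := by
    rw [h1, Nat.mul_div_cancel' (Nat.gcd_dvd_left _ _)]
  rcases hj.lt_or_eq with hlt | heq
  · exfalso
    have h3 : p ^ (j + 1) ∣ orderOf x := by
      rw [h2, hd, pow_succ]
      exact Nat.mul_dvd_mul_left _ hpc
    have h4 : p ^ (j + 1) ∣ p ^ a := pow_dvd_pow p hlt
    have h5 : p ^ (j + 1) ∣ p ^ j := hd ▸ Nat.dvd_gcd h3 h4
    have h6 := Nat.le_of_dvd (pow_pos hp.pos j) h5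
    have h7 : p ^ j < p ^ (j + 1) := Nat.pow_lt_pow_right hp.one_lt (Nat.lt_succ_self j)
    omega
  · rw [h2, hd, heq]

/-- `A n c = A n 1` when `n` is coprime to the order of the central element `c`. -/
theorem A_eq_A_one {G : Type*} [Group G] [Finite G] (n : ℕ) (c : G)
    (hc : c ∈ Subgroup.center G) (hcop : (orderOf c).Coprime n) : A n c = A n (1 : G) := by
  have hcop' : (Nat.card (Subgroup.zpowers c)).Coprime n := by rwa [Nat.card_zpowers]
  set d' : Subgroup.zpowers c := (powCoprime hcop').symm ⟨c, Subgroup.mem_zpowers c⟩ with hd'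
  have hd1 : d' ^ n = ⟨c, Subgroup.mem_zpowers c⟩ := by
    have := (powCoprime hcop').apply_symm_apply ⟨c, Subgroup.mem_zpowers c⟩
    rwa [powCoprime_apply] at this
  have hd2 : (d' : G) ^ n = c := by
    have := congrArg Subtype.val hd1
    simpa using this
  have hdc : ∀ x : G, Commute x (d' : G) := by
    intro x
    obtain ⟨j, hj⟩ := Subgroup.mem_zpowers_iff.mp d'.2
    rw [← hj]
    apply Commute.zpow_right
    exact (Subgroup.mem_center_iff.mp hc x)
  unfold A
  apply Nat.card_congr
  refine Equiv.subtypeEquiv (Equiv.mulRight (d' : G)⁻¹) (fun x => ?_)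
  simp only [Equiv.coe_mulRight]
  rw [((hdc x).inv_right).mul_pow, inv_pow, hd2, mul_inv_eq_one]

theorem key : ∀ (N : ℕ) (G : Type u) [Group G] [Finite G], Nat.card G = N → ∀ (n : ℕ) (c : G),
    c ∈ Subgroup.center G → Nat.gcd n (Nat.card G) ∣ A n c := by
  intro N
  induction N using Nat.strong_induction_on with
  | _ N ihN =>
  intro G _ _ hN n
  induction n using Nat.strong_induction_on with
  | _ n ihn =>
  intro c hc
  classical
  haveI := Fintype.ofFinite G
  -- general-element version for smaller exponents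
  have gen : ∀ n₁ < n, ∀ y : G,
      Nat.gcd n₁ (Nat.card (Subgroup.centralizer ({y} : Set G))) ∣ A n₁ y := by
    intro n₁ hn₁ y
    by_cases hy : y ∈ Subgroup.center G
    · have htop : Subgroup.centralizer ({y} : Set G) = ⊤ := by
        rw [Subgroup.centralizer_eq_top_iff_subset]
        intro z hz
        rw [Set.mem_singleton_iff] at hz
        rw [hz]; exact hy
      rw [htop, Subgroup.card_top]
      exact ihn n₁ hn₁ y hy
    · have hne : Subgroup.centralizer ({y} : Set G) ≠ ⊤ := by
        intro htop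
        apply hy
        rw [Subgroup.centralizer_eq_top_iff_subset] at htop
        exact htop (Set.mem_singleton y)
      have hlt : Nat.card (Subgroup.centralizer ({y} : Set G)) < N := by
        rw [← hN]
        by_contra hcon
        rw [not_lt] at hcon
        exact hne (Subgroup.eq_top_of_le_card _ hcon)
      have hymem : y ∈ Subgroup.centralizer ({y} : Set G) := by
        rw [Subgroup.mem_centralizer_iff]
        intro z hz
        rw [Set.mem_singleton_iff] at hz
        rw [hz]
      have hcen : (⟨y, hymem⟩ : Subgroup.centralizer ({y} : Set G)) ∈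
          Subgroup.center (Subgroup.centralizer ({y} : Set G)) := by
        rw [Subgroup.mem_center_iff]
        intro z
        apply Subtype.ext
        have := z.2
        rw [Subgroup.mem_centralizer_iff] at this
        simpa using (this y (Set.mem_singleton y)).symm
      have := ihN _ hlt (Subgroup.centralizer ({y} : Set G)) rfl n₁ ⟨y, hymem⟩ hcen
      rwa [A_centralizer] at this
  have hcconj : ∀ g : G, g * c * g⁻¹ = c := by
    intro g
    rw [Subgroup.mem_center_iff] at hc
    rw [hc g, mul_inv_cancel_right]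
  have factor : ∀ n₁ n₂ : ℕ, n = n₁ * n₂ → 1 < n₂ → 0 < n₁ →
      Nat.gcd n₁ (Nat.card G) ∣ A n c := by
    intro n₁ n₂ hn h2 h1
    have hlt : n₁ < n := by nlinarith
    have e1 : A n c = ∑ y ∈ univ.filter (fun y : G => y ^ n₂ = c), A n₁ y := by
      rw [← card_pow_mem]
      unfold A
      simp_rw [hn, pow_mul]
    rw [e1]
    apply dvd_sum_of_conj_invariant
    · intro g y hy
      rw [conj_pow, hy, hcconj]
    · intro g y _
      exact A_conj _ _ _
    · intro y _
      have hy := gen n₁ hlt y
      have hk : Nat.gcd n₁ (Nat.card G) ∣ (Subgroup.centralizer ({y} : Set G)).index *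
          Nat.card (Subgroup.centralizer ({y} : Set G)) := by
        rw [mul_comm, Subgroup.card_mul_index]
        exact Nat.gcd_dvd_right _ _
      refine (dvd_mul_gcd_of_dvd_mul' hk).trans (Nat.mul_dvd_mul_left _ ?_)
      exact (Nat.gcd_dvd_gcd_of_dvd_left _ (Nat.gcd_dvd_left _ _)).trans hy
  rcases Nat.lt_or_ge n 2 with hn2 | hn2
  · interval_cases n
    · -- n = 0
      rw [Nat.gcd_zero_left]
      unfold A
      by_cases hc1 : c = 1
      · subst hc1
        simp
      · have : IsEmpty {x : G // x ^ 0 = c} := by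
          constructor
          rintro ⟨x, hx⟩
          rw [pow_zero] at hx
          exact hc1 hx.symm
        have h0 : Nat.card {x : G // x ^ 0 = c} = 0 := Nat.card_of_isEmpty
        rw [h0]
        exact dvd_zero _
    · rw [Nat.gcd_one_left]; exact one_dvd _
  · -- n ≥ 2
    have hn0 : n ≠ 0 := by omega
    set p := n.minFac with hp
    have hpp : p.Prime := Nat.minFac_prime (by omega)
    obtain ⟨e, m, hpm, hnm⟩ := Nat.exists_eq_pow_mul_and_not_dvd hn0 p hpp.ne_one
    have he : e ≠ 0 := by
      rintro rfl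
      rw [pow_zero, one_mul] at hnm
      exact hpm (hnm ▸ Nat.minFac_dvd n)
    have hm0 : 0 < m := by
      rcases Nat.eq_zero_or_pos m with h | h
      · rw [h, mul_zero] at hnm; omega
      · exact h
    have hpe1 : 1 < p ^ e := Nat.one_lt_pow he hpp.one_lt
    rcases Nat.eq_or_lt_of_le hm0 with hm1 | hm1
    · -- prime power
      have hnpe : n = p ^ e := by rw [hnm, ← hm1]; simp
      by_cases hpc : p ∣ orderOf c
      · have h1 : p ^ e ∣ A (p ^ e) c :=
          dvd_A_of_orderOf (p ^ e) c (fun x hx => orderOf_root hpp c x hpc hx)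
        rw [hnpe]
        exact (Nat.gcd_dvd_left _ _).trans h1
      · have hcop : (orderOf c).Coprime n := by
          rw [hnpe]
          exact (Nat.Coprime.pow_left e ((Nat.Prime.coprime_iff_not_dvd hpp).mpr hpc)).symm
        rw [A_eq_A_one n c hc hcop]
        exact frobenius_gcd _ G rfl n
    · -- coprime factorization
      have hcop : Nat.Coprime (p ^ e) m :=
        Nat.Coprime.pow_left e ((Nat.Prime.coprime_iff_not_dvd hpp).mpr hpm)
      have f1 := factor (p ^ e) m hnm hm1 (by omega)
      have f2 := factor m (p ^ e) (by rw [hnm, mul_comm]) hpe1 hm0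
      have hg : Nat.gcd n (Nat.card G) = Nat.gcd (p ^ e) (Nat.card G) * Nat.gcd m (Nat.card G) := by
        rw [hnm, Nat.gcd_comm, Nat.Coprime.gcd_mul _ hcop, Nat.gcd_comm, Nat.gcd_comm (Nat.card G) m]
      rw [hg]
      apply Nat.Coprime.mul_dvd_of_dvd_of_dvd _ f1 f2
      exact Nat.Coprime.coprime_dvd_left (Nat.gcd_dvd_left _ _)
        (Nat.Coprime.coprime_dvd_right (Nat.gcd_dvd_left _ _) hcop)

/-- general-element version -/
theorem key' {G : Type u} [Group G] [Finite G] (n : ℕ) (y : G) :
    Nat.gcd n (Nat.card (Subgroup.centralizer ({y} : Set G))) ∣ A n y := by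
  have hymem : y ∈ Subgroup.centralizer ({y} : Set G) := by
    rw [Subgroup.mem_centralizer_iff]
    intro z hz
    rw [Set.mem_singleton_iff] at hz
    rw [hz]
  have hcen : (⟨y, hymem⟩ : Subgroup.centralizer ({y} : Set G)) ∈
      Subgroup.center (Subgroup.centralizer ({y} : Set G)) := by
    rw [Subgroup.mem_center_iff]
    intro z
    apply Subtype.ext
    have := z.2
    rw [Subgroup.mem_centralizer_iff] at this
    simpa using (this y (Set.mem_singleton y)).symm
  have := key _ (Subgroup.centralizer ({y} : Set G)) rfl n ⟨y, hymem⟩ hcen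
  rwa [A_centralizer] at this

/-- Let `G` be a finite group of order `g`, `c` an element whose conjugacy class has `h` elements, and `n` a natural number. Then the number of elements `x` of `G` with `x^n` conjugate to `c` is a multiple of `gcd(hn, g)`. -/
theorem result {G : Type*} [Group G] [Finite G] (c : G) (n : ℕ) : Nat.gcd (Nat.card {y : G // IsConj c y} * n) (Nat.card G) ∣ Nat.card {x : G // IsConj c (x ^ n)} := by
  classical
  haveI := Fintype.ofFinite G
  rw [card_pow_mem n (fun y => IsConj c y)]
  apply dvd_sum_of_conj_invariant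
  · intro g y hy
    exact hy.trans (isConj_iff.mpr ⟨g, rfl⟩)
  · intro g y _
    exact A_conj _ _ _
  · intro y hy
    have hidx : (Subgroup.centralizer ({y} : Set G)).index = Nat.card {z : G // IsConj c z} := by
      rw [index_centralizer_eq_ncard_conj]
      have : {z : G | IsConj y z} = {z : G | IsConj c z} := by
        ext z
        exact ⟨fun h => hy.trans h, fun h => hy.symm.trans h⟩
      rw [this]
      rfl
    rw [← hidx, ← Subgroup.card_mul_index (Subgroup.centralizer ({y} : Set G)),
      mul_comm (Nat.card _) (Subgroup.index _), Nat.gcd_mul_left]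
    exact Nat.mul_dvd_mul_left _ (key' n y)

end Cfsg.Agent.S4212
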