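import Cfsg.Statements.S4213
import Mathlib
import Cfsg.Agent.S4261
import Cfsg.Agent.Lib.H20.FrobeniusDiv

set_option autoImplicit false
open Cfsg

namespace Cfsg.Agent.S4213

universe u

/-- A nontrivial finite solvable group has a nontrivial normal `p`-subgroup of exponent `p`. -/
theorem exists_normal_exponent_p {G : Type*} [Group G] [Finite G] [Nontrivial G]
    (hG : Group.IsSolvable G) :
    ∃ (p : ℕ) (_ : p.Prime) (K : Subgroup G), K.Normal ∧ K ≠ ⊥ ∧ IsPGroup p K ∧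
      ∀ a ∈ K, a ^ p = 1 := by
  obtain ⟨p, hp, A, hAn, hA1, hAp, hAc⟩ := Cfsg.Agent.S4261.exists_normal_abelian_pgroup hG
  haveI : Fact p.Prime := ⟨hp⟩
  let K : Subgroup G :=
    { carrier := {b | b ∈ A ∧ b ^ p = 1}
      one_mem' := ⟨Subgroup.one_mem _, one_pow _⟩
      mul_mem' := by
        rintro a b ⟨ha, ha1⟩ ⟨hb, hb1⟩
        refine ⟨Subgroup.mul_mem _ ha hb, ?_⟩
        have hc : Commute a b := hAc a ha b hb
        rw [hc.mul_pow, ha1, hb1, one_mul]
      inv_mem' := by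
        rintro a ⟨ha, ha1⟩
        exact ⟨Subgroup.inv_mem _ ha, by rw [inv_pow, ha1, inv_one]⟩ }
  have hKA : K ≤ A := fun x hx => hx.1
  refine ⟨p, hp, K, ?_, ?_, hAp.to_le hKA, fun a ha => ha.2⟩
  · refine ⟨fun n hn g => ?_⟩
    obtain ⟨hn1, hn2⟩ := hn
    refine ⟨hAn.conj_mem n hn1 g, ?_⟩
    rw [conj_pow, hn2, mul_one, mul_inv_cancel]
  · intro hK
    have hcard : Nat.card A ≠ 1 := fun h => hA1 (Subgroup.card_eq_one.1 h)
    obtain ⟨k, hk⟩ := IsPGroup.iff_card.1 hAp
    have hk0 : k ≠ 0 := by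
      rintro rfl
      exact hcard (by rw [hk, pow_zero])
    have hpd : p ∣ Nat.card A := by rw [hk]; exact dvd_pow_self p hk0
    obtain ⟨x, hx⟩ := exists_prime_orderOf_dvd_card' p hpd
    have hxK : (x : G) ∈ K := by
      refine ⟨x.2, ?_⟩
      have : x ^ p = 1 := by rw [← hx]; exact pow_orderOf_eq_one x
      have h2 := congrArg Subtype.val this
      simpa using h2
    rw [hK, Subgroup.mem_bot] at hxK
    have hx1 : x = 1 := Subtype.ext hxK
    rw [hx1, orderOf_one] at hx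
    exact hp.one_lt.ne hx

/-- The number of elements of a preimage under the quotient map. -/
theorem card_preimage {G : Type*} [Group G] (K : Subgroup G) [K.Normal] (S : Set (G ⧸ K)) :
    Nat.card {x : G // (QuotientGroup.mk' K x) ∈ S} = Nat.card K * Nat.card S :=
  QuotientGroup.card_preimage_mk K S

theorem set_eq_of_subset_of_card {α : Type*} [Finite α] (s t : Set α) (h : s ⊆ t)
    (hc : Nat.card t ≤ Nat.card s) : s = t := by
  apply Set.eq_of_subset_of_ncard_le h _ (Set.toFinite t)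
  rw [← Nat.card_coe_set_eq, ← Nat.card_coe_set_eq]
  exact hc

theorem case_dvd {G : Type u} [Group G] [Finite G] (K : Subgroup G) [K.Normal] {p : ℕ}
    (hp : p.Prime) (hKp : p ∣ Nat.card K) (hexp : ∀ a ∈ K, a ^ p = 1) (n : ℕ)
    (hn : n ∣ Nat.card G) (hpn : p ∣ n) (hcount : Nat.card {x : G // x ^ n = 1} = n)
    (IH : ∀ n₁ : ℕ, n₁ ∣ Nat.card (G ⧸ K) → Nat.card {y : G ⧸ K // y ^ n₁ = 1} = n₁ →
      ∃ H : Subgroup (G ⧸ K), H.Normal ∧ (H : Set (G ⧸ K)) = {y | y ^ n₁ = 1}) :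
    ∃ H : Subgroup G, H.Normal ∧ (H : Set G) = {x : G | x ^ n = 1} := by
  have hGpos : 0 < Nat.card G := Nat.card_pos
  have hn0 : 0 < n := Nat.pos_of_dvd_of_pos hn hGpos
  have hKpos : 0 < Nat.card K := Nat.card_pos
  obtain ⟨d, hd⟩ : ∃ d, d = Nat.gcd n (Nat.card K) := ⟨_, rfl⟩
  have hdpos : 0 < d := by rw [hd]; exact Nat.gcd_pos_of_pos_left _ hn0
  have hdn : d ∣ n := by rw [hd]; exact Nat.gcd_dvd_left _ _
  have hdK : d ∣ Nat.card K := by rw [hd]; exact Nat.gcd_dvd_right _ _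
  have hpd : p ∣ d := by rw [hd]; exact Nat.dvd_gcd hpn hKp
  obtain ⟨n₁, hn₁⟩ : ∃ n₁, n = n₁ * d := ⟨n / d, (Nat.div_mul_cancel hdn).symm⟩
  obtain ⟨k', hk'⟩ : ∃ k', Nat.card K = k' * d := ⟨Nat.card K / d, (Nat.div_mul_cancel hdK).symm⟩
  have hn₁pos : 0 < n₁ := by
    rcases Nat.eq_zero_or_pos n₁ with h | h
    · rw [h, zero_mul] at hn₁; omega
    · exact h
  have hcop : Nat.Coprime n₁ k' := by
    have h := Nat.coprime_div_gcd_div_gcd (m := n) (n := Nat.card K) (by rw [← hd]; exact hdpos)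
    rw [← hd] at h
    have e1 : n / d = n₁ := by rw [hn₁]; exact Nat.mul_div_cancel _ hdpos
    have e2 : Nat.card K / d = k' := by rw [hk']; exact Nat.mul_div_cancel _ hdpos
    rwa [e1, e2] at h
  have hcardG : Nat.card G = Nat.card (G ⧸ K) * Nat.card K :=
    Subgroup.card_eq_card_quotient_mul_card_subgroup K
  have hn₁Q : n₁ ∣ Nat.card (G ⧸ K) := by
    have h1 : n₁ * d ∣ Nat.card (G ⧸ K) * k' * d := by
      rw [← hn₁, mul_assoc, ← hk', ← hcardG]; exact hn
    have h2 : n₁ ∣ Nat.card (G ⧸ K) * k' := Nat.dvd_of_mul_dvd_mul_right hdpos h1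
    exact hcop.dvd_of_dvd_mul_right h2
  have hsub : ∀ x : G, (QuotientGroup.mk' K x) ^ n₁ = 1 → x ^ n = 1 := by
    intro x hx
    rw [← map_pow, QuotientGroup.mk'_apply, QuotientGroup.eq_one_iff] at hx
    have h1 := hexp _ hx
    obtain ⟨d', hd'⟩ := hpd
    rw [hn₁, hd', ← mul_assoc, pow_mul, pow_mul, h1, one_pow]
  -- counting
  have hcard1 : Nat.card {x : G // (QuotientGroup.mk' K x) ∈ {y : G ⧸ K | y ^ n₁ = 1}} =
      Nat.card K * Nat.card {y : G ⧸ K // y ^ n₁ = 1} :=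
    card_preimage K {y : G ⧸ K | y ^ n₁ = 1}
  have hle : Nat.card {x : G // (QuotientGroup.mk' K x) ∈ {y : G ⧸ K | y ^ n₁ = 1}} ≤ n := by
    rw [← hcount]
    exact Nat.card_le_card_of_injective
      (fun x : {x : G // (QuotientGroup.mk' K x) ∈ {y : G ⧸ K | y ^ n₁ = 1}} =>
        (⟨x.1, hsub x.1 x.2⟩ : {x : G // x ^ n = 1}))
      (by
        intro x y h
        apply Subtype.ext
        have h' := congrArg Subtype.val h
        exact h')
  have hfrob : n₁ ∣ Nat.card {y : G ⧸ K // y ^ n₁ = 1} :=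
    Cfsg.Agent.Lib.H20.frobenius_dvd n₁ hn₁Q
  have hSpos : 0 < Nat.card {y : G ⧸ K // y ^ n₁ = 1} := by
    have : Nonempty {y : G ⧸ K // y ^ n₁ = 1} := ⟨⟨1, one_pow _⟩⟩
    exact Nat.card_pos
  obtain ⟨k, hk⟩ := hfrob
  have hkpos : 0 < k := by
    rcases Nat.eq_zero_or_pos k with h | h
    · rw [h, mul_zero] at hk; omega
    · exact h
  have hdle : d ≤ Nat.card K := Nat.le_of_dvd hKpos hdK
  have hineq : Nat.card K * (n₁ * k) ≤ n₁ * d := by
    rw [← hk, ← hcard1, ← hn₁]; exact hle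
  have hk1 : k = 1 := by
    have h1 : n₁ * Nat.card K * k ≤ n₁ * Nat.card K * 1 := by
      calc n₁ * Nat.card K * k = Nat.card K * (n₁ * k) := by ring
        _ ≤ n₁ * d := hineq
        _ ≤ n₁ * Nat.card K * 1 := by
          rw [mul_one]; exact Nat.mul_le_mul_left _ hdle
    have h2 := Nat.le_of_mul_le_mul_left h1 (Nat.mul_pos hn₁pos hKpos)
    omega
  have hdeq : d = Nat.card K := by
    rw [hk1, mul_one] at hineq
    have h1 : n₁ * Nat.card K ≤ n₁ * d := by rw [mul_comm]; exact hineq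
    have h2 := Nat.le_of_mul_le_mul_left h1 hn₁pos
    omega
  rw [hk1, mul_one] at hk
  obtain ⟨Hb, hHbn, hHb⟩ := IH n₁ hn₁Q hk
  refine ⟨Hb.comap (QuotientGroup.mk' K), hHbn.comap _, ?_⟩
  have hcoe : ((Hb.comap (QuotientGroup.mk' K) : Subgroup G) : Set G) =
      {x : G | (QuotientGroup.mk' K x) ∈ {y : G ⧸ K | y ^ n₁ = 1}} := by
    ext x
    rw [SetLike.mem_coe, Subgroup.mem_comap, ← SetLike.mem_coe, hHb]
    rfl
  rw [hcoe]
  apply set_eq_of_subset_of_card
  · intro x hx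
    exact hsub x hx
  · have e1 : Nat.card ↥{x : G | (QuotientGroup.mk' K x) ∈ {y : G ⧸ K | y ^ n₁ = 1}} =
        Nat.card K * n₁ := hcard1.trans (by rw [hk])
    have e2 : Nat.card ↥{x : G | x ^ n = 1} = n := hcount
    rw [e1, e2, hn₁, hdeq, mul_comm]

theorem case_not_dvd {G : Type u} [Group G] [Finite G] (K : Subgroup G) [K.Normal] {p : ℕ}
    [Fact p.Prime] (hKp : IsPGroup p K) (n : ℕ)
    (hn : n ∣ Nat.card G) (hpn : ¬ p ∣ n) (hcount : Nat.card {x : G // x ^ n = 1} = n)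
    (IH : n ∣ Nat.card (G ⧸ K) → Nat.card {y : G ⧸ K // y ^ n = 1} = n →
      ∃ H : Subgroup (G ⧸ K), H.Normal ∧ (H : Set (G ⧸ K)) = {y | y ^ n = 1}) :
    ∃ H : Subgroup G, H.Normal ∧ (H : Set G) = {x : G | x ^ n = 1} := by
  have hp := (Fact.out : p.Prime)
  have hGpos : 0 < Nat.card G := Nat.card_pos
  have hn0 : 0 < n := Nat.pos_of_dvd_of_pos hn hGpos
  obtain ⟨i, hi⟩ := IsPGroup.iff_card.1 hKp
  have hcop : Nat.Coprime n (p ^ i) :=
    Nat.Coprime.pow_right i ((Nat.Prime.coprime_iff_not_dvd hp).2 hpn).symm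
  have hcardG : Nat.card G = Nat.card (G ⧸ K) * Nat.card K :=
    Subgroup.card_eq_card_quotient_mul_card_subgroup K
  have hnQ : n ∣ Nat.card (G ⧸ K) := by
    rw [hcardG, hi] at hn
    exact hcop.dvd_of_dvd_mul_right hn
  -- surjection
  have hmem : ∀ x : {x : G // x ^ n = 1}, (QuotientGroup.mk' K x.1) ^ n = 1 := by
    intro x
    rw [← map_pow, x.2, map_one]
  have hsurj : Function.Surjective
      (fun x : {x : G // x ^ n = 1} =>
        (⟨QuotientGroup.mk' K x.1, hmem x⟩ : {y : G ⧸ K // y ^ n = 1})) := by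
    rintro ⟨y, hy⟩
    obtain ⟨g, rfl⟩ := QuotientGroup.mk'_surjective K y
    have hgK : g ^ n ∈ K := by
      rw [← map_pow, QuotientGroup.mk'_apply, QuotientGroup.eq_one_iff] at hy
      exact hy
    have hgp : (g ^ n) ^ (p ^ i) = 1 := by
      have h1 : (⟨g ^ n, hgK⟩ : K) ^ Nat.card K = 1 := pow_card_eq_one'
      rw [hi] at h1
      have h2 := congrArg Subtype.val h1
      simpa using h2
    obtain ⟨e, he1, he2⟩ := Nat.chineseRemainder hcop 1 0
    have hpe : p ^ i ∣ e := (Nat.modEq_zero_iff_dvd).1 he2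
    have hxn : (g ^ e) ^ n = 1 := by
      obtain ⟨e', he'⟩ := hpe
      rw [← pow_mul, he', mul_comm, ← mul_assoc, pow_mul, pow_mul, hgp, one_pow]
    refine ⟨⟨g ^ e, hxn⟩, ?_⟩
    apply Subtype.ext
    change QuotientGroup.mk' K (g ^ e) = QuotientGroup.mk' K g
    rw [map_pow]
    have h3 : e ≡ 1 [MOD orderOf (QuotientGroup.mk' K g)] :=
      he1.of_dvd (orderOf_dvd_of_pow_eq_one hy)
    have h4 := (pow_eq_pow_iff_modEq).2 h3
    rw [pow_one] at h4
    exact h4
  have hle : Nat.card {y : G ⧸ K // y ^ n = 1} ≤ n := by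
    have h := Nat.card_le_card_of_surjective _ hsurj
    rw [hcount] at h
    exact h
  have hfrob : n ∣ Nat.card {y : G ⧸ K // y ^ n = 1} :=
    Cfsg.Agent.Lib.H20.frobenius_dvd n hnQ
  have hSpos : 0 < Nat.card {y : G ⧸ K // y ^ n = 1} := by
    have : Nonempty {y : G ⧸ K // y ^ n = 1} := ⟨⟨1, one_pow _⟩⟩
    exact Nat.card_pos
  have hScard : Nat.card {y : G ⧸ K // y ^ n = 1} = n :=
    le_antisymm hle (Nat.le_of_dvd hSpos hfrob)
  obtain ⟨Hb, hHbn, hHb⟩ := IH hnQ hScard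
  have hHbcard : Nat.card Hb = n := by
    have e : Nat.card Hb = Nat.card ↥(Hb : Set (G ⧸ K)) := rfl
    rw [e, hHb]
    exact hScard
  -- the preimage
  obtain ⟨H, hH⟩ : ∃ H : Subgroup G, H = Hb.comap (QuotientGroup.mk' K) := ⟨_, rfl⟩
  have hHn : H.Normal := by rw [hH]; exact hHbn.comap _
  have hKH : K ≤ H := by
    intro x hx
    rw [hH, Subgroup.mem_comap, QuotientGroup.mk'_apply, (QuotientGroup.eq_one_iff x).2 hx]
    exact one_mem _
  have hHcard : Nat.card H = Nat.card K * n := by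
    rw [hH, ← hHbcard]
    exact QuotientGroup.card_preimage_mk K (Hb : Set (G ⧸ K))
  have hLH : ∀ x : G, x ^ n = 1 → x ∈ H := by
    intro x hx
    rw [hH, Subgroup.mem_comap, ← SetLike.mem_coe, hHb]
    change (QuotientGroup.mk' K x) ^ n = 1
    rw [← map_pow, hx, map_one]
  -- Schur–Zassenhaus inside `H`
  have hK'card : Nat.card (K.subgroupOf H) = Nat.card K :=
    Nat.card_congr (Subgroup.subgroupOfEquivOfLe hKH).toEquiv
  have hidx : (K.subgroupOf H).index = n := by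
    have h1 := Subgroup.card_mul_index (K.subgroupOf H)
    rw [hK'card, hHcard] at h1
    exact Nat.eq_of_mul_eq_mul_left Nat.card_pos h1
  have hcop' : Nat.Coprime (Nat.card (K.subgroupOf H)) (K.subgroupOf H).index := by
    rw [hK'card, hidx, hi]
    exact hcop.symm
  obtain ⟨C', hC'⟩ := Subgroup.exists_right_complement'_of_coprime hcop'
  have hC'card : Nat.card C' = n := by
    have h1 := hC'.card_mul_card
    rw [hK'card, hHcard] at h1
    exact Nat.eq_of_mul_eq_mul_left Nat.card_pos h1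
  obtain ⟨C, hC⟩ : ∃ C : Subgroup G, C = C'.map H.subtype := ⟨_, rfl⟩
  have hCcard : Nat.card C = n := by
    rw [hC, Subgroup.card_map_of_injective H.subtype_injective, hC'card]
  have hCsub : (C : Set G) ⊆ {x : G | x ^ n = 1} := by
    intro c hc
    rw [SetLike.mem_coe, hC] at hc
    obtain ⟨c', hc', rfl⟩ := Subgroup.mem_map.1 hc
    have h1 : (⟨c', hc'⟩ : C') ^ Nat.card C' = 1 := pow_card_eq_one'
    rw [hC'card] at h1
    have h2 := congrArg Subtype.val h1
    have h3 : c' ^ n = 1 := by simpa using h2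
    have h4 := congrArg Subtype.val h3
    simpa using h4
  have hCeq : (C : Set G) = {x : G | x ^ n = 1} := by
    apply set_eq_of_subset_of_card _ _ hCsub
    have e2 : Nat.card ↥{x : G | x ^ n = 1} = n := hcount
    have e1 : Nat.card ↥(C : Set G) = n := hCcard
    rw [e1, e2]
  refine ⟨C, ?_, hCeq⟩
  constructor
  intro c hc g
  have hc' : c ∈ (C : Set G) := hc
  rw [hCeq] at hc'
  have h1 : c ^ n = 1 := hc'
  have h2 : g * c * g⁻¹ ∈ (C : Set G) := by
    rw [hCeq]
    change (g * c * g⁻¹) ^ n = 1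
    rw [conj_pow, h1, mul_one, mul_inv_cancel]
  exact h2

theorem main : ∀ (k : ℕ) (G : Type u) [Group G] [Finite G] [Group.IsSolvable G], Nat.card G = k →
    ∀ n : ℕ, n ∣ Nat.card G → Nat.card {x : G // x ^ n = 1} = n →
      ∃ H : Subgroup G, H.Normal ∧ (H : Set G) = {x : G | x ^ n = 1} := by
  intro k
  induction k using Nat.strong_induction_on with
  | _ k ih =>
  intro G _ _ _ hk n hn hcount
  rcases subsingleton_or_nontrivial G with hs | hnt
  · refine ⟨⊤, inferInstance, ?_⟩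
    ext x
    simp only [Subgroup.coe_top, Set.mem_univ, Set.mem_ofPred_eq, true_iff]
    rw [Subsingleton.elim x 1, one_pow]
  · obtain ⟨p, hp, K, hKn, hK1, hKp, hKe⟩ :=
      exists_normal_exponent_p (inferInstance : Group.IsSolvable G)
    haveI := hKn
    haveI : Fact p.Prime := ⟨hp⟩
    have hK1' : 1 < Nat.card K := (Subgroup.one_lt_card_iff_ne_bot K).2 hK1
    have hlt : Nat.card (G ⧸ K) < k := by
      rw [← hk, Subgroup.card_eq_card_quotient_mul_card_subgroup K]
      have hQ : 0 < Nat.card (G ⧸ K) := Nat.card_pos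
      nlinarith
    have IH := fun n₁ h1 h2 => ih (Nat.card (G ⧸ K)) hlt (G ⧸ K) rfl n₁ h1 h2
    by_cases hpn : p ∣ n
    · have hpK : p ∣ Nat.card K := by
        obtain ⟨i, hi⟩ := IsPGroup.iff_card.1 hKp
        have hi0 : i ≠ 0 := by
          rintro rfl
          rw [pow_zero] at hi
          omega
        rw [hi]
        exact dvd_pow_self p hi0
      exact case_dvd K hp hpK hKe n hn hpn hcount IH
    · exact case_not_dvd K hKp n hn hpn hcount (IH n)

/-- If `G` is a finite solvable group and `n` divides the order of `G` and exactly `n` elements `x` of `G` satisfy `x^n = 1`, then these elements form a normal subgroup. -/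
theorem result {G : Type*} [Group G] [Finite G] [Group.IsSolvable G] (n : ℕ) (hn : n ∣ Nat.card G) (hcount : Nat.card {x : G // x ^ n = 1} = n) : ∃ H : Subgroup G, H.Normal ∧ (H : Set G) = {x : G | x ^ n = 1} :=
  main _ G rfl n hn hcount

end Cfsg.Agent.S4213
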