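import Cfsg.Statements.S4303
import Mathlib
import Cfsg.Agent.Lib.H1.IndexBasic
import Cfsg.Agent.Lib.H1.PCore
import Cfsg.Agent.Lib.H1.CoprimeSylow
import Cfsg.Agent.Lib.H1.FpfAction
import Cfsg.Agent.Lib.H7.CoprimeQuot

set_option autoImplicit false
universe u
open Cfsg

namespace Cfsg.Agent.S4303

/-- A "good" factor: a prime power `≡ 1 (mod p)` or a Sylow number of a simple group. -/
def Good (p m : ℕ) : Prop :=
  (IsPrimePow m ∧ m % p = 1) ∨
    ∃ (S : Type u) (_ : Group S) (_ : Finite S), IsSimpleGroup S ∧ m = Nat.card (Sylow p S)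

/-- A product of good factors. -/
def Phi (p m : ℕ) : Prop := ∃ l : List ℕ, l.prod = m ∧ ∀ x ∈ l, Good.{u} p x

theorem Phi.one (p : ℕ) : Phi.{u} p 1 := ⟨[], rfl, fun x hx => by simp at hx⟩

theorem Phi.mul {p a b : ℕ} (ha : Phi.{u} p a) (hb : Phi.{u} p b) : Phi.{u} p (a * b) := by
  obtain ⟨l₁, h1, h1'⟩ := ha
  obtain ⟨l₂, h2, h2'⟩ := hb
  refine ⟨l₁ ++ l₂, by rw [List.prod_append, h1, h2], ?_⟩
  intro x hx
  rcases List.mem_append.1 hx with h | h
  · exact h1' x h
  · exact h2' x h

theorem Phi.single {p m : ℕ} (h : Good.{u} p m) : Phi.{u} p m :=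
  ⟨[m], by simp, fun x hx => by rw [List.mem_singleton.1 hx]; exact h⟩

section

variable {G : Type u} [Group G] [Finite G] {p : ℕ} [Fact p.Prime]

/-- `|HK : H| = |K : H ∩ K|` for `K` normal. -/
theorem relIndex_sup_of_normal (H K : Subgroup G) [K.Normal] :
    H.relIndex (H ⊔ K) = H.relIndex K := by
  have e1 := Cfsg.Agent.Lib.H1.card_sup_mul_card_inf H K
  have e3 := Cfsg.Agent.Lib.H1.card_mul_relIndex_of_le (le_sup_left : H ≤ H ⊔ K)
  have e4 := Cfsg.Agent.Lib.H1.card_mul_relIndex_of_le (inf_le_left : K ⊓ H ≤ K)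
  rw [Subgroup.inf_relIndex_left] at e4
  have hpos : 0 < Nat.card H * Nat.card (K ⊓ H : Subgroup G) :=
    Nat.mul_pos Nat.card_pos Nat.card_pos
  apply Nat.eq_of_mul_eq_mul_left hpos
  calc Nat.card H * Nat.card (K ⊓ H : Subgroup G) * H.relIndex (H ⊔ K)
      = Nat.card H * H.relIndex (H ⊔ K) * Nat.card (K ⊓ H : Subgroup G) := by ring
    _ = Nat.card (H ⊔ K : Subgroup G) * Nat.card (K ⊓ H : Subgroup G) := by rw [e3]
    _ = Nat.card H * Nat.card K := e1
    _ = Nat.card H * (Nat.card (K ⊓ H : Subgroup G) * H.relIndex K) := by rw [e4]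
    _ = Nat.card H * Nat.card (K ⊓ H : Subgroup G) * H.relIndex K := by ring

/-- Sylow number of a subgroup `Y` computed with a Sylow `Q ≤ Y` of `Y`. -/
theorem card_sylow_subgroup (Y Q : Subgroup G) (hQY : Q ≤ Y) (hQ : IsPGroup p Q)
    (hidx : ¬ p ∣ Q.relIndex Y) :
    Nat.card (Sylow p Y) = (Subgroup.normalizer (Q : Set G)).relIndex Y := by
  have hQ' : IsPGroup p (Q.subgroupOf Y) :=
    hQ.comap_of_injective Y.subtype Y.subtype_injective
  have hidx' : ¬ p ∣ (Q.subgroupOf Y).index := hidx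
  have h1 := Sylow.card_eq_index_normalizer (hQ'.toSylow hidx')
  have h2 : Subgroup.normalizer ((hQ'.toSylow hidx' : Sylow p Y) : Set Y) =
      Subgroup.normalizer ((Q.subgroupOf Y : Subgroup Y) : Set Y) := rfl
  rw [h1, h2, ← Subgroup.subgroupOf_normalizer_eq hQY]
  rfl

/-- Sylow number of a quotient. -/
theorem card_sylow_quotient (P : Sylow p G) (K : Subgroup G) [K.Normal] :
    Nat.card (Sylow p (G ⧸ K)) =
      (Subgroup.normalizer (((P : Subgroup G) ⊔ K : Subgroup G) : Set G)).index := by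
  have hsurj := QuotientGroup.mk'_surjective K
  have h1 := Sylow.card_eq_index_normalizer (P.mapSurjective hsurj)
  have h2 : Subgroup.normalizer ((P.mapSurjective hsurj : Sylow p (G ⧸ K)) : Set (G ⧸ K)) =
      Subgroup.normalizer
        (((P : Subgroup G).map (QuotientGroup.mk' K) : Subgroup (G ⧸ K)) : Set (G ⧸ K)) := rfl
  rw [h1, h2, ← Subgroup.index_comap_of_surjective _ hsurj,
    Subgroup.comap_normalizer_eq_of_surjective _ hsurj, Subgroup.comap_map_eq,
    QuotientGroup.ker_mk']

/-- Factoring out a normal `p`-subgroup does not change the Sylow number. -/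
theorem card_sylow_quotient_pgroup (Q₀ : Subgroup G) [hn : Q₀.Normal] (hQ₀ : IsPGroup p Q₀) :
    Nat.card (Sylow p (G ⧸ Q₀)) = Nat.card (Sylow p G) := by
  obtain ⟨P⟩ : Nonempty (Sylow p G) := inferInstance
  have hle : Q₀ ≤ P :=
    (Cfsg.Agent.Lib.H1.le_pCore hn hQ₀).trans (Cfsg.Agent.Lib.H1.pCore_le_sylow P)
  have hcard : Nat.card (Sylow p G) = (Subgroup.normalizer ((P : Subgroup G) : Set G)).index :=
    Sylow.card_eq_index_normalizer P
  rw [card_sylow_quotient P Q₀, sup_eq_left.2 hle, hcard]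

omit [Finite G] in
theorem normalizer_le_normalizer_inf_normal (H K : Subgroup G) [hK : K.Normal] :
    Subgroup.normalizer (H : Set G) ≤ Subgroup.normalizer ((H ⊓ K : Subgroup G) : Set G) := by
  intro x hx
  rw [Subgroup.mem_normalizer_iff] at hx ⊢
  intro h
  rw [Subgroup.mem_inf, Subgroup.mem_inf, ← hx h]
  constructor
  · rintro ⟨h1, h2⟩
    exact ⟨h1, hK.conj_mem h h2 x⟩
  · rintro ⟨h1, h2⟩
    refine ⟨h1, ?_⟩
    have := hK.conj_mem _ h2 x⁻¹
    have e : x⁻¹ * (x * h * x⁻¹) * x⁻¹⁻¹ = h := by group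
    rwa [e] at this

/-- `n_p(G) = n_p(K) · n_p(N_G(P ∩ K))` for `K` normal. -/
theorem card_sylow_eq_mul (P : Sylow p G) (K : Subgroup G) [K.Normal] :
    Nat.card (Sylow p G) = Nat.card (Sylow p K) *
      Nat.card (Sylow p (Subgroup.normalizer (((P : Subgroup G) ⊓ K : Subgroup G) : Set G))) := by
  obtain ⟨Q, hQ⟩ : ∃ Q : Subgroup G, Q = (P : Subgroup G) ⊓ K := ⟨_, rfl⟩
  rw [← hQ]
  obtain ⟨M, hM⟩ : ∃ M : Subgroup G, M = Subgroup.normalizer (Q : Set G) := ⟨_, rfl⟩
  rw [← hM]
  have hQK : Q ≤ K := by rw [hQ]; exact inf_le_right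
  have hQp : IsPGroup p Q := by rw [hQ]; exact P.2.to_le inf_le_left
  have hQidx : ¬ p ∣ Q.relIndex K := by
    rw [hQ, Subgroup.inf_relIndex_right, ← relIndex_sup_of_normal]
    intro h
    exact P.not_dvd_index (h.trans (Subgroup.relIndex_dvd_index_of_le le_sup_left))
  have h1 := card_sylow_subgroup K Q hQK hQp hQidx
  rw [← hM] at h1
  have hNM : Subgroup.normalizer ((P : Subgroup G) : Set G) ≤ M := by
    rw [hM, hQ]
    exact normalizer_le_normalizer_inf_normal _ K
  have hPM : (P : Subgroup G) ≤ M := Subgroup.le_normalizer.trans hNM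
  have hPidx : ¬ p ∣ (P : Subgroup G).relIndex M := fun h =>
    P.not_dvd_index (h.trans (Subgroup.relIndex_dvd_index_of_le hPM))
  have h2 := card_sylow_subgroup M P hPM P.2 hPidx
  have hF : M ⊔ K = ⊤ := by
    have hQ' : IsPGroup p (Q.subgroupOf K) :=
      hQp.comap_of_injective K.subtype K.subtype_injective
    have hidx' : ¬ p ∣ (Q.subgroupOf K).index := hQidx
    have := Sylow.normalizer_sup_eq_top (hQ'.toSylow hidx')
    have e : (((hQ'.toSylow hidx' : Sylow p K) : Subgroup K).map K.subtype) = Q := by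
      rw [IsPGroup.toSylow_coe, Subgroup.subgroupOf_map_subtype, inf_eq_left.2 hQK]
    rw [e] at this
    rw [hM]
    exact this
  have h3 : M.index = M.relIndex K := by
    rw [← relIndex_sup_of_normal, hF, Subgroup.relIndex_top_right]
  have hcard : Nat.card (Sylow p G) = (Subgroup.normalizer ((P : Subgroup G) : Set G)).index :=
    Sylow.card_eq_index_normalizer P
  rw [hcard, ← Subgroup.relIndex_mul_index hNM, h3, h1, h2, mul_comm]

omit [Finite G] in
theorem normalizer_le_normalizer_sup_normal (H K : Subgroup G) [hK : K.Normal] :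
    Subgroup.normalizer (H : Set G) ≤ Subgroup.normalizer ((H ⊔ K : Subgroup G) : Set G) := by
  intro x hx
  have hx' : ∀ h ∈ H, x * h * x⁻¹ ∈ H := fun h hh => (Subgroup.mem_normalizer_iff.1 hx h).1 hh
  have hxinv : ∀ h ∈ H, x⁻¹ * h * x⁻¹⁻¹ ∈ H := by
    intro h hh
    have := (Subgroup.mem_normalizer_iff.1 hx (x⁻¹ * h * x⁻¹⁻¹)).2
    apply this
    have e : x * (x⁻¹ * h * x⁻¹⁻¹) * x⁻¹ = h := by group
    rw [e]; exact hh
  have key : ∀ y : G, (∀ h ∈ H, y * h * y⁻¹ ∈ H) → ∀ z ∈ H ⊔ K, y * z * y⁻¹ ∈ H ⊔ K := by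
    intro y hy z hz
    rw [Subgroup.mem_sup_of_normal_right] at hz
    obtain ⟨a, ha, b, hb, rfl⟩ := hz
    have e : y * (a * b) * y⁻¹ = (y * a * y⁻¹) * (y * b * y⁻¹) := by group
    rw [e]
    exact Subgroup.mul_mem_sup (hy a ha) (hK.conj_mem b hb y)
  rw [Subgroup.mem_normalizer_iff]
  intro z
  constructor
  · exact key x hx' z
  · intro hz
    have := key x⁻¹ hxinv _ hz
    have e : x⁻¹ * (x * z * x⁻¹) * x⁻¹⁻¹ = z := by group
    rwa [e] at this

/-- `n_p(G) = n_p(G/K) · |K : C_K(P)|` for a normal `p'`-subgroup `K`. -/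
theorem card_sylow_eq_mul_quotient (P : Sylow p G) (K : Subgroup G) [hKn : K.Normal]
    (hK : (Nat.card K).Coprime p) :
    Nat.card (Sylow p G) = Nat.card (Sylow p (G ⧸ K)) *
      (K ⊓ Subgroup.centralizer ((P : Subgroup G) : Set G)).relIndex K := by
  have hcard : Nat.card (Sylow p G) = (Subgroup.normalizer ((P : Subgroup G) : Set G)).index :=
    Sylow.card_eq_index_normalizer P
  have hle := normalizer_le_normalizer_sup_normal (P : Subgroup G) K
  have hPK : (P : Subgroup G) ⊓ K = ⊥ := by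
    apply (Subgroup.disjoint_of_coprime_natCard _).eq_bot
    obtain ⟨n, hn⟩ := IsPGroup.iff_card.1 P.2
    rw [hn]
    exact (Nat.Coprime.pow_right n hK).symm
  -- Frattini
  have hF : Subgroup.normalizer (((P : Subgroup G) ⊔ K : Subgroup G) : Set G) =
      Subgroup.normalizer ((P : Subgroup G) : Set G) ⊔ K := by
    apply le_antisymm
    · intro g hg
      have hR : (P : Subgroup G).map (MulAut.conj g).toMonoidHom ≤ (P : Subgroup G) ⊔ K := by
        rintro _ ⟨x, hx, rfl⟩
        have : (MulAut.conj g).toMonoidHom x = g * x * g⁻¹ := rfl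
        rw [this]
        exact (Subgroup.mem_normalizer_iff.1 hg x).1 (Subgroup.mem_sup_left hx)
      obtain ⟨n, hn, hRn⟩ := Cfsg.Agent.Lib.H7.exists_conj_eq_of_le_sup p hK P.2
        (P.2.map (MulAut.conj g).toMonoidHom)
        (Subgroup.card_map_of_injective (MulAut.conj g).injective) hR
      have hng : n⁻¹ * g ∈ Subgroup.normalizer ((P : Subgroup G) : Set G) := by
        apply Subgroup.mem_normalizer_fintype
        intro x hx
        have h1 : g * x * g⁻¹ ∈ (P : Subgroup G).map (MulAut.conj g).toMonoidHom :=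
          ⟨x, hx, rfl⟩
        rw [hRn] at h1
        obtain ⟨y, hy, hy'⟩ := h1
        have hy'' : n * y * n⁻¹ = g * x * g⁻¹ := hy'
        have e : n⁻¹ * g * x * (n⁻¹ * g)⁻¹ = n⁻¹ * (g * x * g⁻¹) * n := by group
        rw [e, ← hy'']
        have e2 : n⁻¹ * (n * y * n⁻¹) * n = y := by group
        rw [e2]
        exact hy
      have e : g = n * (n⁻¹ * g) := by group
      rw [e]
      exact Subgroup.mul_mem _ (Subgroup.mem_sup_right hn) (Subgroup.mem_sup_left hng)
    · apply sup_le hle
      exact (le_sup_right : K ≤ (P : Subgroup G) ⊔ K).trans Subgroup.le_normalizer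
  have h1 : (Subgroup.normalizer ((P : Subgroup G) : Set G)).relIndex
      (Subgroup.normalizer (((P : Subgroup G) ⊔ K : Subgroup G) : Set G)) =
      (K ⊓ Subgroup.centralizer ((P : Subgroup G) : Set G)).relIndex K := by
    rw [hF, relIndex_sup_of_normal, ← Subgroup.inf_relIndex_right]
    congr 1
    apply le_antisymm
    · rintro k ⟨hkN', hkK'⟩
      have hkN : k ∈ Subgroup.normalizer ((P : Subgroup G) : Set G) := hkN'
      have hkK : k ∈ K := hkK'
      refine ⟨hkK, ?_⟩
      change k ∈ Subgroup.centralizer ((P : Subgroup G) : Set G)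
      rw [Subgroup.mem_centralizer_iff]
      intro x hx
      have h2 : k * x * k⁻¹ * x⁻¹ ∈ (P : Subgroup G) ⊓ K := by
        refine ⟨?_, ?_⟩
        · exact Subgroup.mul_mem _ ((Subgroup.mem_normalizer_iff.1 hkN x).1 hx)
            (Subgroup.inv_mem _ hx)
        · have h3 := hKn.conj_mem _ (Subgroup.inv_mem _ hkK) x
          have e : k * x * k⁻¹ * x⁻¹ = k * (x * k⁻¹ * x⁻¹) := by group
          rw [e]
          exact Subgroup.mul_mem _ hkK h3
      rw [hPK, Subgroup.mem_bot] at h2
      have e : x * k = (k * x * k⁻¹ * x⁻¹)⁻¹ * (k * x) := by group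
      rw [e, h2, inv_one, one_mul]
    · rintro k ⟨hkK, hkC⟩
      exact ⟨Subgroup.centralizer_le_normalizer _ hkC, hkK⟩
  rw [hcard, ← Subgroup.relIndex_mul_index hle, h1, card_sylow_quotient P K, mul_comm]

/-- Fixed point congruence for a `p`-group acting by conjugation on a subgroup. -/
theorem card_modEq_card_inf_centralizer (P V : Subgroup G) (hP : IsPGroup p P)
    (hPV : P ≤ Subgroup.normalizer (V : Set G)) :
    Nat.card V ≡ Nat.card (V ⊓ Subgroup.centralizer (P : Set G) : Subgroup G) [MOD p] := by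
  letI : MulAction P V := MulAction.compHom V (Cfsg.Agent.Lib.H1.conjAutHom hPV)
  have hsmul : ∀ (a : P) (v : V), ((a • v : V) : G) = (a : G) * v * (a : G)⁻¹ := fun a v => rfl
  have h := hP.card_modEq_card_fixedPoints V
  have e : Nat.card (MulAction.fixedPoints P V) =
      Nat.card (V ⊓ Subgroup.centralizer (P : Set G) : Subgroup G) := by
    apply Nat.card_congr
    refine
      { toFun := fun v => ⟨v.1.1, v.1.2, ?_⟩
        invFun := fun w => ⟨⟨w.1, w.2.1⟩, ?_⟩
        left_inv := fun v => rfl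
        right_inv := fun w => rfl }
    · change (v.1 : G) ∈ Subgroup.centralizer (P : Set G)
      rw [Subgroup.mem_centralizer_iff]
      intro a ha
      have h1 := v.2 ⟨a, ha⟩
      have h2 := congrArg Subtype.val h1
      rw [hsmul] at h2
      have h3 : a * (v.1 : G) * a⁻¹ = (v.1 : G) := h2
      calc a * (v.1 : G) = a * (v.1 : G) * a⁻¹ * a := by group
        _ = (v.1 : G) * a := by rw [h3]
    · intro a
      apply Subtype.ext
      rw [hsmul]
      have hw : (w : G) ∈ Subgroup.centralizer (P : Set G) := w.2.2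
      rw [Subgroup.mem_centralizer_iff] at hw
      have h1 := hw a a.2
      change (a : G) * (w : G) * (a : G)⁻¹ = (w : G)
      rw [h1]
      group
  rw [e] at h
  exact h

/-- Coprime action: `|K : C_K(P)|` is a product of prime powers each `≡ 1 (mod p)`. -/
theorem phi_relIndex_centralizer (P K : Subgroup G) (hP : IsPGroup p P)
    (hK : (Nat.card K).Coprime p) (hPK : P ≤ Subgroup.normalizer (K : Set G)) :
    Phi.{u} p ((K ⊓ Subgroup.centralizer (P : Set G)).relIndex K) := by
  have hp := (Fact.out : p.Prime)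
  obtain ⟨C, hC⟩ : ∃ C : Subgroup G, C = K ⊓ Subgroup.centralizer (P : Set G) := ⟨_, rfl⟩
  rw [← hC]
  have hCK : C ≤ K := by rw [hC]; exact inf_le_left
  have hCcent : C ≤ Subgroup.centralizer (P : Set G) := by rw [hC]; exact inf_le_right
  obtain ⟨r, hr⟩ : ∃ r, r = C.relIndex K := ⟨_, rfl⟩
  rw [← hr]
  have hmul : Nat.card C * r = Nat.card K := by
    rw [hr]; exact Cfsg.Agent.Lib.H1.card_mul_relIndex_of_le hCK
  have hKpos : 0 < Nat.card K := Nat.card_pos
  have hr0 : r ≠ 0 := by
    rintro rfl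
    rw [mul_zero] at hmul
    omega
  have hC0 : Nat.card C ≠ 0 := Nat.card_pos.ne'
  have hact : Cfsg.Agent.Lib.H1.CoprimeAction P K := by
    refine ⟨hPK, ?_, Or.inl ?_⟩
    · obtain ⟨n, hn⟩ := IsPGroup.iff_card.1 hP
      rw [hn]
      exact (Nat.Coprime.pow_right n hK).symm
    · haveI : Group.IsNilpotent P := hP.isNilpotent
      infer_instance
  refine ⟨(r.primeFactors.toList).map (fun q => q ^ r.factorization q), ?_, ?_⟩
  · rw [Finset.prod_map_toList]
    exact Nat.factorization_prod_pow_eq_self hr0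
  · intro x hx
    obtain ⟨q, hq, rfl⟩ := List.mem_map.1 hx
    rw [Finset.mem_toList] at hq
    have hqp : q.Prime := Nat.prime_of_mem_primeFactors hq
    have hqr : q ∣ r := Nat.dvd_of_mem_primeFactors hq
    haveI : Fact q.Prime := ⟨hqp⟩
    left
    refine ⟨⟨q, r.factorization q, hqp.prime, hqp.factorization_pos_of_dvd hr0 hqr, rfl⟩, ?_⟩
    -- exponents
    have hfac : (Nat.card C).factorization q + r.factorization q = (Nat.card K).factorization q := by
      rw [← hmul, Nat.factorization_mul hC0 hr0]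
      rfl
    have hqK : q ∣ Nat.card K := by rw [← hmul]; exact Dvd.dvd.mul_left hqr _
    have hqp' : q ≠ p := by
      rintro rfl
      exact (Nat.Prime.coprime_iff_not_dvd hqp).1 hK.symm hqK
    -- a Sylow `q`-subgroup of `C`
    obtain ⟨R, hR⟩ := Cfsg.Agent.Lib.H1.exists_isSylowOf q C
    have hRC : R ≤ C := hR.le
    have hPR : P ≤ Subgroup.normalizer (R : Set G) := by
      intro x hx
      apply Subgroup.centralizer_le_normalizer
      rw [Subgroup.mem_centralizer_iff]
      intro y hy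
      have hy' := hCcent (hRC hy)
      rw [Subgroup.mem_centralizer_iff] at hy'
      exact (hy' x hx).symm
    obtain ⟨Kq, hKq, hRKq, hPKq⟩ :=
      Cfsg.Agent.Lib.H1.coprime_invariant_psubgroup_le_sylow hact (hRC.trans hCK) hR.isPGroup hPR
    obtain ⟨F, hF⟩ : ∃ F : Subgroup G, F = Kq ⊓ Subgroup.centralizer (P : Set G) := ⟨_, rfl⟩
    have hRF : R ≤ F := by
      rw [hF]; exact le_inf hRKq (hRC.trans hCcent)
    have hFC : F ≤ C := by
      rw [hF, hC]; exact inf_le_inf_right _ hKq.le
    have hFq : IsPGroup q F := hKq.isPGroup.to_le (by rw [hF]; exact inf_le_left)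
    obtain ⟨j, hj⟩ := IsPGroup.iff_card.1 hFq
    have hj1 : (Nat.card C).factorization q ≤ j := by
      have := Subgroup.card_dvd_of_le hRF
      rw [hR.card_eq, hj] at this
      exact (Nat.pow_dvd_pow_iff_le_right hqp.one_lt).1 this
    have hj2 : j ≤ (Nat.card C).factorization q := by
      have := Subgroup.card_dvd_of_le hFC
      rw [hj] at this
      exact (hqp.pow_dvd_iff_le_factorization hC0).1 this
    have hcong := card_modEq_card_inf_centralizer P Kq hP hPKq
    rw [← hF, hKq.card_eq, hj, ← hfac, pow_add] at hcong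
    have hjc : j = (Nat.card C).factorization q := le_antisymm hj2 hj1
    rw [hjc] at hcong
    have hcop : Nat.gcd p (q ^ (Nat.card C).factorization q) = 1 :=
      Nat.Coprime.pow_right _ ((Nat.coprime_primes hp hqp).2 hqp'.symm)
    have h1 : q ^ (Nat.card C).factorization q * q ^ r.factorization q ≡
        q ^ (Nat.card C).factorization q * 1 [MOD p] := by
      rw [mul_one]; exact hcong
    have h2 := Nat.ModEq.cancel_left_of_coprime hcop h1
    have h3 : q ^ r.factorization q % p = 1 % p := h2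
    rw [h3, Nat.mod_eq_of_lt hp.one_lt]

theorem not_dvd_relIndex_inf (P : Sylow p G) (K : Subgroup G) [K.Normal] :
    ¬ p ∣ ((P : Subgroup G) ⊓ K).relIndex K := by
  rw [Subgroup.inf_relIndex_right, ← relIndex_sup_of_normal]
  intro h
  exact P.not_dvd_index (h.trans (Subgroup.relIndex_dvd_index_of_le le_sup_left))

end

theorem main (p : ℕ) [Fact p.Prime] : ∀ (k : ℕ) (G : Type u) [Group G] [Finite G],
    Nat.card G = k → Phi.{u} p (Nat.card (Sylow p G)) := by
  have hp := (Fact.out : p.Prime)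
  intro k
  induction k using Nat.strong_induction_on with
  | _ k ih =>
  intro G _ _ hk
  by_cases hsimple : IsSimpleGroup G
  · exact Phi.single (Or.inr ⟨G, inferInstance, inferInstance, hsimple, rfl⟩)
  obtain ⟨P⟩ : Nonempty (Sylow p G) := inferInstance
  have hcard : Nat.card (Sylow p G) = (Subgroup.normalizer ((P : Subgroup G) : Set G)).index :=
    Sylow.card_eq_index_normalizer P
  rcases subsingleton_or_nontrivial G with hs | hnt
  · have h1 : Nat.card G = 1 := Nat.card_of_subsingleton 1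
    have h2 := Subgroup.index_dvd_card (Subgroup.normalizer ((P : Subgroup G) : Set G))
    rw [h1, Nat.dvd_one] at h2
    rw [hcard, h2]
    exact Phi.one p
  obtain ⟨K, hKn, hK1, hK2⟩ : ∃ K : Subgroup G, K.Normal ∧ K ≠ ⊥ ∧ K ≠ ⊤ := by
    by_contra hcon
    push Not at hcon
    apply hsimple
    refine @IsSimpleGroup.mk _ _ hnt (fun H hH => ?_)
    by_cases h : H = ⊥
    · exact Or.inl h
    · exact Or.inr (hcon H hH h)
  haveI := hKn
  have hKlt : Nat.card K < k := by
    rw [← hk]
    exact lt_of_le_of_ne (Subgroup.card_le_card_group K)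
      (fun h => hK2 ((Subgroup.card_eq_iff_eq_top K).1 h))
  have hquot : ∀ N : Subgroup G, [N.Normal] → N ≠ ⊥ → Nat.card (G ⧸ N) < k := by
    intro N _ hN
    rw [← hk, Subgroup.card_eq_card_quotient_mul_card_subgroup N]
    have h1 : 1 < Nat.card N := (Subgroup.one_lt_card_iff_ne_bot N).2 hN
    have h2 : 0 < Nat.card (G ⧸ N) := Nat.card_pos
    nlinarith
  by_cases hM : Subgroup.normalizer (((P : Subgroup G) ⊓ K : Subgroup G) : Set G) = ⊤
  · by_cases hQ1 : (P : Subgroup G) ⊓ K = ⊥
    · have hKcop : (Nat.card K).Coprime p := by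
        have h1 := not_dvd_relIndex_inf P K
        rw [hQ1, Subgroup.relIndex_bot_left] at h1
        exact ((Nat.Prime.coprime_iff_not_dvd hp).2 h1).symm
      rw [card_sylow_eq_mul_quotient P K hKcop]
      refine Phi.mul (ih _ (hquot K hK1) (G ⧸ K) rfl)
        (phi_relIndex_centralizer (P : Subgroup G) K P.2 hKcop ?_)
      rw [Subgroup.normalizer_eq_top]
      exact le_top
    · haveI hQn : ((P : Subgroup G) ⊓ K).Normal := Subgroup.normalizer_eq_top_iff.1 hM
      rw [← card_sylow_quotient_pgroup ((P : Subgroup G) ⊓ K) (P.2.to_le inf_le_left)]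
      exact ih _ (hquot _ hQ1) (G ⧸ ((P : Subgroup G) ⊓ K)) rfl
  · rw [card_sylow_eq_mul P K]
    refine Phi.mul (ih _ hKlt K rfl) (ih _ ?_ _ rfl)
    rw [← hk]
    exact lt_of_le_of_ne (Subgroup.card_le_card_group _)
      (fun h => hM ((Subgroup.card_eq_iff_eq_top _).1 h))

/-- For a finite group `G` and a prime `p`, the number of Sylow `p`-subgroups of `G` is a product of natural numbers each of which is either a prime power congruent to 1 modulo `p` or the number of Sylow `p`-subgroups of some finite simple group. -/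
theorem result {G : Type u} [Group G] [Finite G]
    (p : ℕ) [Fact p.Prime] :
    ∃ l : List ℕ, l.prod = Nat.card (Sylow p G) ∧
      ∀ m ∈ l, (IsPrimePow m ∧ m % p = 1) ∨
        ∃ (S : Type u) (_ : Group S) (_ : Finite S), IsSimpleGroup S ∧ m = Nat.card (Sylow p S) :=
  main p _ G rfl

end Cfsg.Agent.S4303
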