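import Cfsg.Statements.S4214
import Mathlib
import Cfsg.Agent.S4303
import Cfsg.Agent.Lib.H1.Hall
import Cfsg.Agent.Lib.H1.SchurZassenhaus
import Cfsg.Agent.Lib.H1.Complement
import Cfsg.Agent.Lib.H3.Schmidt2
import Cfsg.Agent.Lib.H3.PrimSolv
import Cfsg.Agent.Lib.H18.MinNormal

set_option autoImplicit false
open Cfsg

namespace Cfsg.Agent.S4214

universe u

open scoped Pointwise

open Cfsg.Agent.Lib.H1 in
/-- If the subgroups of order `m` are all conjugate, their number is the index of a normalizer. -/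
theorem card_eq_index_normalizer_of_conj {G : Type*} [Group G] [Finite G] (m : ℕ)
    (H₀ : Subgroup G) (hH₀ : Nat.card H₀ = m)
    (hconj : ∀ H : Subgroup G, Nat.card H = m → ∃ g : G, MulAut.conj g • H₀ = H) :
    Nat.card {H : Subgroup G // Nat.card H = m} = (Subgroup.normalizer (H₀ : Set G)).index := by
  letI : MulAction G (Subgroup G) :=
    MulAction.compHom (Subgroup G) (MulAut.conj : G →* MulAut G)
  have hsmul : ∀ (g : G) (H : Subgroup G), g • H = MulAut.conj g • H := fun _ _ => rfl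
  have hstab : MulAction.stabilizer G H₀ = Subgroup.normalizer (H₀ : Set G) := by
    ext g
    rw [MulAction.mem_stabilizer_iff, hsmul, conj_smul_eq_self_iff_mem_normalizer]
  have horb : MulAction.orbit G H₀ = {H : Subgroup G | Nat.card H = m} := by
    ext H
    constructor
    · rintro ⟨g, rfl⟩
      change Nat.card ↥(g • H₀) = m
      rw [hsmul, card_conj_smul, hH₀]
    · intro hH
      obtain ⟨g, hg⟩ := hconj H hH
      exact ⟨g, hg⟩
  rw [← hstab, MulAction.index_stabilizer, horb, ← Nat.card_coe_set_eq]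
  rfl

open Cfsg.Agent.Lib.H1 Cfsg.Agent.S4303 in
/-- `|G : N(H)| = |G : N(HV)| · |V : C_V(H)|` for `V` normal of order coprime to `|H|`. -/
theorem index_normalizer_eq_mul {G : Type u} [Group G] [Finite G] (H V : Subgroup G)
    [hVn : V.Normal] (hcop : (Nat.card V).Coprime (Nat.card H))
    (hsolv : Group.IsSolvable V ∨ Group.IsSolvable H) :
    (Subgroup.normalizer (H : Set G)).index =
      (Subgroup.normalizer ((H ⊔ V : Subgroup G) : Set G)).index *
        (V ⊓ Subgroup.centralizer (H : Set G)).relIndex V := by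
  have hle := normalizer_le_normalizer_sup_normal H V
  have hHV : H ⊓ V = ⊥ := (Subgroup.disjoint_of_coprime_natCard hcop.symm).eq_bot
  have hVtop : ∀ K : Subgroup G, K ≤ Subgroup.normalizer (V : Set G) := fun K => by
    rw [Subgroup.normalizer_eq_top]; exact le_top
  have hF : Subgroup.normalizer ((H ⊔ V : Subgroup G) : Set G) =
      Subgroup.normalizer (H : Set G) ⊔ V := by
    apply le_antisymm
    · intro g hg
      have hK'le : MulAut.conj g • H ≤ H ⊔ V := by
        rw [conj_smul_le_iff]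
        intro h hh
        exact (Subgroup.mem_normalizer_iff.1 hg h).1 (Subgroup.mem_sup_left hh)
      have hK'card : Nat.card (MulAut.conj g • H : Subgroup G) = Nat.card H := card_conj_smul H g
      have hdK : Disjoint V (MulAut.conj g • H) :=
        Subgroup.disjoint_of_coprime_natCard (by rw [hK'card]; exact hcop)
      have hsup : V ⊔ H = V ⊔ MulAut.conj g • H := by
        symm
        apply Subgroup.eq_of_le_of_card_ge
        · rw [sup_comm V H]
          exact sup_le le_sup_right hK'le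
        · have e1 := card_sup_mul_card_inf (MulAut.conj g • H) V
          rw [hdK.eq_bot, Subgroup.card_bot, mul_one, hK'card] at e1
          have e2 := card_sup_mul_card_inf H V
          rw [inf_comm, hHV, Subgroup.card_bot, mul_one] at e2
          rw [sup_comm V H, sup_comm V (MulAut.conj g • H), e1, e2]
      obtain ⟨v, hv, hvH⟩ := sz_conj_internal (hVtop H) (hVtop _) hcop
        (Subgroup.disjoint_of_coprime_natCard hcop) hdK hsup hsolv
      have hng : v⁻¹ * g ∈ Subgroup.normalizer (H : Set G) := by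
        rw [← conj_smul_eq_self_iff_mem_normalizer, ← conj_smul_conj_smul, ← hvH,
          conj_smul_conj_smul, inv_mul_cancel, map_one, one_smul]
      have e : g = v * (v⁻¹ * g) := by group
      rw [e]
      exact Subgroup.mul_mem _ (Subgroup.mem_sup_right hv) (Subgroup.mem_sup_left hng)
    · apply sup_le hle
      exact (le_sup_right : V ≤ H ⊔ V).trans Subgroup.le_normalizer
  have h1 : (Subgroup.normalizer (H : Set G)).relIndex
      (Subgroup.normalizer ((H ⊔ V : Subgroup G) : Set G)) =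
      (V ⊓ Subgroup.centralizer (H : Set G)).relIndex V := by
    rw [hF, relIndex_sup_of_normal, ← Subgroup.inf_relIndex_right]
    congr 1
    apply le_antisymm
    · rintro k ⟨hkN', hkK'⟩
      have hkN : k ∈ Subgroup.normalizer (H : Set G) := hkN'
      have hkK : k ∈ V := hkK'
      refine ⟨hkK, ?_⟩
      change k ∈ Subgroup.centralizer (H : Set G)
      rw [Subgroup.mem_centralizer_iff]
      intro x hx
      have h2 : k * x * k⁻¹ * x⁻¹ ∈ H ⊓ V := by
        refine ⟨?_, ?_⟩
        · exact Subgroup.mul_mem _ ((Subgroup.mem_normalizer_iff.1 hkN x).1 hx)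
            (Subgroup.inv_mem _ hx)
        · have h3 := hVn.conj_mem _ (Subgroup.inv_mem _ hkK) x
          have e : k * x * k⁻¹ * x⁻¹ = k * (x * k⁻¹ * x⁻¹) := by group
          rw [e]
          exact Subgroup.mul_mem _ hkK h3
      rw [hHV, Subgroup.mem_bot] at h2
      have e : x * k = (k * x * k⁻¹ * x⁻¹)⁻¹ * (k * x) := by group
      rw [e, h2, inv_one, one_mul]
    · rintro k ⟨hkK, hkC⟩
      exact ⟨Subgroup.centralizer_le_normalizer _ hkC, hkK⟩
  rw [← Subgroup.relIndex_mul_index hle, h1, mul_comm]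

/-- The factor condition of the sub-lemma. -/
def NiceV (q m c y : ℕ) : Prop :=
  (∃ e : ℕ, y = q ^ e) ∧ y ∣ c ∧ ∃ r : ℕ, r.Prime ∧ r ∣ m ∧ y ≡ 1 [MOD r]

theorem centralizer_bot_eq_top {G : Type*} [Group G] :
    Subgroup.centralizer (((⊥ : Subgroup G) : Subgroup G) : Set G) = ⊤ := by
  rw [eq_top_iff]
  intro g _
  rw [Subgroup.mem_centralizer_iff]
  intro h hh
  have : h = 1 := Subgroup.mem_bot.1 hh
  rw [this, one_mul, mul_one]

open Cfsg.Agent.Lib.H1 Cfsg.Agent.S4303 in
/-- Coprime solvable action on a `q`-group: the index of the fixed points factors into powers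
of `q`, each congruent to `1` modulo a prime divisor of `m`. -/
theorem subD {G : Type u} [Group G] [Finite G] [Group.IsSolvable G] {q : ℕ} (hq : q.Prime)
    (m : ℕ) (hqm : ¬ q ∣ m) (V : Subgroup G) (d : ℕ) (hV : Nat.card V = q ^ d) :
    ∀ (k : ℕ) (H U : Subgroup G), Nat.card H = k → Nat.card H ∣ m → U ≤ V →
      H ≤ Subgroup.normalizer (U : Set G) →
      ∃ l : List ℕ, l.prod = (U ⊓ Subgroup.centralizer (H : Set G)).relIndex U ∧
        ∀ y ∈ l, NiceV q m (q ^ d) y := by
  intro k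
  induction k using Nat.strong_induction_on with
  | _ k ih =>
  intro H U hk hHm hUV hHU
  by_cases hH1 : H = ⊥
  · refine ⟨[], ?_, fun y hy => by simp at hy⟩
    rw [hH1, centralizer_bot_eq_top, inf_top_eq, Subgroup.relIndex_self, List.prod_nil]
  haveI : Nontrivial H := (Subgroup.nontrivial_iff_ne_bot H).2 hH1
  obtain ⟨M, hMn, hMr⟩ := Cfsg.Agent.Lib.H3.exists_normal_prime_index (G := H)
  obtain ⟨r, hr⟩ : ∃ r, r = M.index := ⟨_, rfl⟩
  rw [← hr] at hMr
  haveI : Fact r.Prime := ⟨hMr⟩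
  obtain ⟨N₀, hN₀⟩ : ∃ N₀ : Subgroup G, N₀ = M.map H.subtype := ⟨_, rfl⟩
  have hN₀H : N₀ ≤ H := by rw [hN₀]; exact Subgroup.map_subtype_le M
  have hN₀card : Nat.card N₀ * r = Nat.card H := by
    rw [hN₀, Subgroup.card_map_of_injective H.subtype_injective, hr]
    exact Subgroup.card_mul_index M
  have hrH : r ∣ Nat.card H := Dvd.intro_left _ hN₀card
  have hrm : r ∣ m := hrH.trans hHm
  have hqr : q ≠ r := by
    rintro rfl
    exact hqm hrm
  have hN₀lt : Nat.card N₀ < k := by
    rw [← hk, ← hN₀card]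
    have h1 : 0 < Nat.card N₀ := Nat.card_pos
    have h2 := hMr.two_le
    nlinarith
  have hHN₀ : H ≤ Subgroup.normalizer (N₀ : Set G) := by
    intro h hh
    apply Subgroup.mem_normalizer_fintype
    intro n hn
    have hn' : n ∈ N₀ := hn
    rw [hN₀] at hn'
    obtain ⟨n', hn'M, rfl⟩ := Subgroup.mem_map.1 hn'
    change h * (H.subtype n') * h⁻¹ ∈ N₀
    rw [hN₀]
    refine Subgroup.mem_map.2 ⟨⟨h, hh⟩ * n' * ⟨h, hh⟩⁻¹, hMn.conj_mem n' hn'M ⟨h, hh⟩, ?_⟩
    simp
  obtain ⟨U₁, hU₁⟩ : ∃ U₁ : Subgroup G, U₁ = U ⊓ Subgroup.centralizer (N₀ : Set G) := ⟨_, rfl⟩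
  have hU₁U : U₁ ≤ U := by rw [hU₁]; exact inf_le_left
  have hHU₁ : H ≤ Subgroup.normalizer (U₁ : Set G) := by
    intro h hh
    apply Subgroup.mem_normalizer_fintype
    intro x hx
    have hx' : x ∈ U₁ := hx
    rw [hU₁] at hx'
    change h * x * h⁻¹ ∈ U₁
    rw [hU₁]
    refine ⟨(Subgroup.mem_normalizer_iff.1 (hHU hh) x).1 hx'.1, ?_⟩
    change h * x * h⁻¹ ∈ Subgroup.centralizer (N₀ : Set G)
    rw [Subgroup.mem_centralizer_iff]
    intro n hn
    have hn2 : h⁻¹ * n * h⁻¹⁻¹ ∈ N₀ :=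
      (Subgroup.mem_normalizer_iff.1 (Subgroup.inv_mem _ (hHN₀ hh)) n).1 hn
    have hxc : x ∈ Subgroup.centralizer (N₀ : Set G) := hx'.2
    rw [Subgroup.mem_centralizer_iff] at hxc
    have h3 := hxc _ hn2
    calc n * (h * x * h⁻¹) = h * ((h⁻¹ * n * h⁻¹⁻¹) * x) * h⁻¹ := by group
      _ = h * (x * (h⁻¹ * n * h⁻¹⁻¹)) * h⁻¹ := by rw [h3]
      _ = h * x * h⁻¹ * n := by group
  -- induction hypothesis for `N₀`
  obtain ⟨l₁, hl₁, hl₁'⟩ := ih (Nat.card N₀) hN₀lt N₀ U rfl
    ((Dvd.intro _ hN₀card).trans hHm) hUV (hN₀H.trans hHU)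
  rw [← hU₁] at hl₁
  -- a Sylow `r`-subgroup
  obtain ⟨R, hR⟩ := exists_isSylowOf r H
  have hRH : R ≤ H := hR.le
  have hRN₀ : ¬ R ≤ N₀ := by
    intro hle
    have h1 := Subgroup.card_dvd_of_le hle
    rw [hR.card_eq] at h1
    have h2 : r ^ ((Nat.card H).factorization r + 1) ∣ Nat.card H := by
      rw [pow_succ]
      calc r ^ (Nat.card H).factorization r * r ∣ Nat.card N₀ * r := Nat.mul_dvd_mul_right h1 r
        _ = Nat.card H := hN₀card
    exact Nat.pow_succ_factorization_not_dvd Nat.card_pos.ne' hMr h2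
  have hsup : N₀ ⊔ R = H := by
    apply le_antisymm (sup_le hN₀H hRH)
    have h1 := Subgroup.relIndex_mul_relIndex N₀ (N₀ ⊔ R) H le_sup_left (sup_le hN₀H hRH)
    have h2 : N₀.relIndex H = r := by
      have := card_mul_relIndex_of_le hN₀H
      rw [← hN₀card] at this
      exact Nat.eq_of_mul_eq_mul_left Nat.card_pos this
    rw [h2] at h1
    have h3 : N₀.relIndex (N₀ ⊔ R) ∣ r := Dvd.intro _ h1
    rcases (Nat.dvd_prime hMr).1 h3 with h4 | h4
    · exfalso
      apply hRN₀
      exact le_sup_right.trans (Subgroup.relIndex_eq_one.1 h4)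
    · rw [h4] at h1
      have h5 : (N₀ ⊔ R).relIndex H = 1 := by
        have := hMr.pos
        nlinarith
      exact Subgroup.relIndex_eq_one.1 h5
  have hcent : U ⊓ Subgroup.centralizer (H : Set G) = U₁ ⊓ Subgroup.centralizer (R : Set G) := by
    apply le_antisymm
    · rintro x ⟨hxU, hxC⟩
      have hxC' : x ∈ Subgroup.centralizer (H : Set G) := hxC
      refine ⟨?_, Subgroup.centralizer_le (show (R : Set G) ⊆ H from hRH) hxC'⟩
      change x ∈ U₁
      rw [hU₁]
      exact ⟨hxU, Subgroup.centralizer_le (show (N₀ : Set G) ⊆ H from hN₀H) hxC'⟩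
    · rintro x ⟨hxU₁, hxR⟩
      have hxU₁' : x ∈ U₁ := hxU₁
      have hxR' : x ∈ Subgroup.centralizer (R : Set G) := hxR
      rw [hU₁] at hxU₁'
      refine ⟨hxU₁'.1, ?_⟩
      change x ∈ Subgroup.centralizer (H : Set G)
      rw [Subgroup.mem_centralizer_iff]
      intro h hh
      have hsub : N₀ ⊔ R ≤ Subgroup.centralizer ({x} : Set G) := by
        apply sup_le
        · intro n hn
          rw [Subgroup.mem_centralizer_singleton_iff]
          have this : x ∈ Subgroup.centralizer (N₀ : Set G) := hxU₁'.2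
          rw [Subgroup.mem_centralizer_iff] at this
          exact this n hn
        · intro n hn
          rw [Subgroup.mem_centralizer_singleton_iff]
          rw [Subgroup.mem_centralizer_iff] at hxR'
          exact hxR' n hn
      rw [hsup] at hsub
      exact Subgroup.mem_centralizer_singleton_iff.1 (hsub hh)
  obtain ⟨y, hy⟩ : ∃ y, y = (U₁ ⊓ Subgroup.centralizer (R : Set G)).relIndex U₁ := ⟨_, rfl⟩
  have hprod : y * U₁.relIndex U = (U ⊓ Subgroup.centralizer (H : Set G)).relIndex U := by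
    rw [hy, hcent]
    exact Subgroup.relIndex_mul_relIndex _ _ _ inf_le_left hU₁U
  have hc1 := card_mul_relIndex_of_le
    (inf_le_left : U₁ ⊓ Subgroup.centralizer (R : Set G) ≤ U₁)
  rw [← hy] at hc1
  have hU₁V : Nat.card U₁ ∣ q ^ d := by
    rw [← hV]; exact Subgroup.card_dvd_of_le (hU₁U.trans hUV)
  have hyV : y ∣ q ^ d := (Dvd.intro_left _ hc1).trans hU₁V
  have hcV : Nat.card (U₁ ⊓ Subgroup.centralizer (R : Set G) : Subgroup G) ∣ q ^ d :=
    (Dvd.intro _ hc1).trans hU₁V
  have hnice : NiceV q m (q ^ d) y := by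
    refine ⟨?_, hyV, r, hMr, hrm, ?_⟩
    · obtain ⟨e, -, he⟩ := (Nat.dvd_prime_pow hq).1 hyV
      exact ⟨e, he⟩
    · have hcong := card_modEq_card_inf_centralizer R U₁ hR.isPGroup (hRH.trans hHU₁)
      rw [← hc1] at hcong
      obtain ⟨e, -, he⟩ := (Nat.dvd_prime_pow hq).1 hcV
      have hcop : Nat.gcd r (Nat.card (U₁ ⊓ Subgroup.centralizer (R : Set G) : Subgroup G)) = 1 := by
        rw [he]
        exact Nat.Coprime.pow_right _ ((Nat.coprime_primes hMr hq).2 hqr.symm)
      have h1 : Nat.card (U₁ ⊓ Subgroup.centralizer (R : Set G) : Subgroup G) * y ≡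
          Nat.card (U₁ ⊓ Subgroup.centralizer (R : Set G) : Subgroup G) * 1 [MOD r] := by
        rw [mul_one]; exact hcong
      exact Nat.ModEq.cancel_left_of_coprime hcop h1
  refine ⟨y :: l₁, ?_, ?_⟩
  · rw [List.prod_cons, hl₁, hprod]
  · intro z hz
    rcases List.mem_cons.1 hz with h | h
    · rw [h]; exact hnice
    · exact hl₁' z h

/-- The condition on the factors in the statement. -/
def Nice (G : Type*) [Group G] (m y : ℕ) : Prop :=
  (∃ q e : ℕ, q.Prime ∧ y = q ^ e) ∧
    (∃ K L : Subgroup G, K.Normal ∧ L.Normal ∧ K < L ∧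
      (∀ M : Subgroup G, M.Normal → K ≤ M → M ≤ L → M = K ∨ M = L) ∧ y ∣ K.relIndex L) ∧
    (∃ q : ℕ, q.Prime ∧ q ∣ m ∧ y ≡ 1 [MOD q])

theorem nice_of_quotient {G : Type*} [Group G] (V : Subgroup G) [V.Normal] {m' m y : ℕ}
    (hmm : m' ∣ m) (h : Nice (G ⧸ V) m' y) : Nice G m y := by
  obtain ⟨h1, ⟨Kb, Lb, hKn, hLn, hKL, hmin, hdvd⟩, ⟨r, hr, hrm, hyr⟩⟩ := h
  have hsurj := QuotientGroup.mk'_surjective V
  refine ⟨h1, ⟨Kb.comap (QuotientGroup.mk' V), Lb.comap (QuotientGroup.mk' V), hKn.comap _,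
    hLn.comap _, (Subgroup.comap_lt_comap_of_surjective hsurj).2 hKL, ?_, ?_⟩,
    ⟨r, hr, hrm.trans hmm, hyr⟩⟩
  · intro M hMn hKM hML
    have hMbn : (M.map (QuotientGroup.mk' V)).Normal := hMn.map _ hsurj
    have h2 : Kb ≤ M.map (QuotientGroup.mk' V) := by
      rw [← Subgroup.map_comap_eq_self_of_surjective hsurj Kb]
      exact Subgroup.map_mono hKM
    have h3 : M.map (QuotientGroup.mk' V) ≤ Lb := by
      rw [← Subgroup.map_comap_eq_self_of_surjective hsurj Lb]
      exact Subgroup.map_mono hML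
    have hker : (QuotientGroup.mk' V).ker ≤ M := by
      refine le_trans ?_ hKM
      intro x hx
      rw [Subgroup.mem_comap, (MonoidHom.mem_ker).1 hx]
      exact one_mem _
    have h4 : (M.map (QuotientGroup.mk' V)).comap (QuotientGroup.mk' V) = M :=
      Subgroup.comap_map_eq_self hker
    rcases hmin _ hMbn h2 h3 with h5 | h5
    · left; rw [← h4, h5]
    · right; rw [← h4, h5]
  · rw [Subgroup.relIndex_comap, Subgroup.map_comap_eq_self_of_surjective hsurj]
    exact hdvd

/-- Index of the normalizer of the image in a quotient. -/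
theorem index_normalizer_map {G : Type*} [Group G] (H V : Subgroup G) [V.Normal] :
    (Subgroup.normalizer ((H.map (QuotientGroup.mk' V) : Subgroup (G ⧸ V)) : Set (G ⧸ V))).index =
      (Subgroup.normalizer ((H ⊔ V : Subgroup G) : Set G)).index := by
  have hsurj := QuotientGroup.mk'_surjective V
  rw [← Subgroup.index_comap_of_surjective _ hsurj,
    Subgroup.comap_normalizer_eq_of_surjective _ hsurj, Subgroup.comap_map_eq,
    QuotientGroup.ker_mk']

theorem card_map_mk_mul {G : Type*} [Group G] (H V : Subgroup G) [V.Normal] :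
    Nat.card V * Nat.card (H.map (QuotientGroup.mk' V)) = Nat.card (H ⊔ V : Subgroup G) := by
  have h := QuotientGroup.card_preimage_mk V ((H.map (QuotientGroup.mk' V) : Subgroup (G ⧸ V)) :
    Set (G ⧸ V))
  have e : Nat.card ↥((H.map (QuotientGroup.mk' V)).comap (QuotientGroup.mk' V)) =
      Nat.card V * Nat.card (H.map (QuotientGroup.mk' V)) := h
  rw [← e, Subgroup.comap_map_eq, QuotientGroup.ker_mk']

open Cfsg.Agent.Lib.H1 in
theorem main : ∀ (N : ℕ) (G : Type u) [Group G] [Finite G] [Group.IsSolvable G],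
    Nat.card G = N → ∀ m n : ℕ, Nat.card G = m * n → m.Coprime n →
    ∃ l : List ℕ, l.prod = Nat.card {H : Subgroup G // Nat.card H = m} ∧
      ∀ y ∈ l, Nice G m y := by
  intro N
  induction N using Nat.strong_induction_on with
  | _ N ih =>
  intro G _ _ _ hN m n hG hmn
  rcases subsingleton_or_nontrivial G with hs | hnt
  · refine ⟨[], ?_, fun y hy => by simp at hy⟩
    have h1 : Nat.card G = 1 := Nat.card_of_subsingleton 1
    have hm1 : m = 1 := by
      rw [h1] at hG
      exact Nat.eq_one_of_mul_eq_one_right hG.symm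
    rw [List.prod_nil, hm1]
    symm
    rw [Nat.card_eq_one_iff_unique]
    refine ⟨⟨fun a b => Subtype.ext ?_⟩, ⟨⟨⊥, Subgroup.card_bot⟩⟩⟩
    rw [Subgroup.card_eq_one.1 a.2, Subgroup.card_eq_one.1 b.2]
  obtain ⟨V, hVn, hV1, hVmin⟩ := Cfsg.Agent.Lib.H18.exists_minimal_normal (N := G)
  haveI := hVn
  have hVcomm := Cfsg.Agent.Lib.H3.minNormal_comm_of_isSolvable V hV1 hVmin
  obtain ⟨q, d, hq, hd, hVcard, -⟩ :=
    Cfsg.Agent.Lib.H3.minNormal_exists_prime_pow V hV1 hVmin hVcomm
  haveI : Fact q.Prime := ⟨hq⟩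
  obtain ⟨H₀, hH₀⟩ := hall_exists hG hmn
  have hconj : ∀ H : Subgroup G, Nat.card H = m → ∃ g : G, MulAut.conj g • H₀ = H :=
    fun H hH => hall_conj hG hmn H₀ H hH₀ hH
  have hcount := card_eq_index_normalizer_of_conj m H₀ hH₀ hconj
  have hGV : Nat.card (G ⧸ V) * q ^ d = m * n := by
    rw [← hVcard, ← hG]
    exact (Subgroup.card_eq_card_quotient_mul_card_subgroup V).symm
  have hQlt : Nat.card (G ⧸ V) < N := by
    rw [← hN, Subgroup.card_eq_card_quotient_mul_card_subgroup V]
    have h1 : 1 < Nat.card V := (Subgroup.one_lt_card_iff_ne_bot V).2 hV1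
    have h2 : 0 < Nat.card (G ⧸ V) := Nat.card_pos
    nlinarith
  have hm0 : m ≠ 0 := by
    rintro rfl
    rw [zero_mul] at hG
    exact Nat.card_pos.ne' hG
  have hn0 : n ≠ 0 := by
    rintro rfl
    rw [mul_zero] at hG
    exact Nat.card_pos.ne' hG
  have hH₀idx : H₀.index = n := by
    have h1 := Subgroup.card_mul_index H₀
    rw [hH₀, hG] at h1
    exact Nat.eq_of_mul_eq_mul_left (Nat.pos_of_ne_zero hm0) h1
  by_cases hqm : q ∣ m
  · -- `V` lies in every Hall subgroup
    have hqn : ¬ q ∣ n := fun h => by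
      have := Nat.eq_one_of_dvd_coprimes hmn hqm h
      exact hq.one_lt.ne' this
    have hVH₀ : V ≤ H₀ :=
      le_of_normal_isPGroup_of_not_dvd_index (IsPGroup.of_card hVcard) (by rw [hH₀idx]; exact hqn)
    have hcopn : (q ^ d).Coprime n := Nat.Coprime.pow_left d ((Nat.Prime.coprime_iff_not_dvd hq).2 hqn)
    have hqdm : q ^ d ∣ m := hcopn.dvd_of_dvd_mul_right (Dvd.intro_left _ hGV)
    obtain ⟨m', hm'⟩ := hqdm
    have hGV' : Nat.card (G ⧸ V) = m' * n := by
      have h1 : Nat.card (G ⧸ V) * q ^ d = (m' * n) * q ^ d := by rw [hGV, hm']; ring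
      exact Nat.eq_of_mul_eq_mul_right (pow_pos hq.pos d) h1
    have hm'n : m'.Coprime n := Nat.Coprime.coprime_dvd_left (Dvd.intro_left _ hm'.symm) hmn
    obtain ⟨l, hl, hl'⟩ := ih _ hQlt (G ⧸ V) rfl m' n hGV' hm'n
    refine ⟨l, ?_, fun y hy => nice_of_quotient V (Dvd.intro_left _ hm'.symm) (hl' y hy)⟩
    have hHb : Nat.card (H₀.map (QuotientGroup.mk' V)) = m' := by
      have h1 := card_map_mk_mul H₀ V
      rw [sup_eq_left.2 hVH₀, hH₀, hVcard, hm'] at h1
      exact Nat.eq_of_mul_eq_mul_left (pow_pos hq.pos d) h1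
    have hconj' : ∀ H : Subgroup (G ⧸ V), Nat.card H = m' →
        ∃ g : G ⧸ V, MulAut.conj g • H₀.map (QuotientGroup.mk' V) = H :=
      fun H hH => hall_conj hGV' hm'n _ H hHb hH
    rw [hl, card_eq_index_normalizer_of_conj m' _ hHb hconj', hcount, index_normalizer_map,
      sup_eq_left.2 hVH₀]
  · -- `V` is a `π'`-group
    have hcopm : (q ^ d).Coprime m := Nat.Coprime.pow_left d ((Nat.Prime.coprime_iff_not_dvd hq).2 hqm)
    have hqdn : q ^ d ∣ n := hcopm.dvd_of_dvd_mul_left (Dvd.intro_left _ hGV)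
    obtain ⟨n', hn'⟩ := hqdn
    have hGV' : Nat.card (G ⧸ V) = m * n' := by
      have h1 : Nat.card (G ⧸ V) * q ^ d = (m * n') * q ^ d := by rw [hGV, hn']; ring
      exact Nat.eq_of_mul_eq_mul_right (pow_pos hq.pos d) h1
    have hmn' : m.Coprime n' := Nat.Coprime.coprime_dvd_right (Dvd.intro_left _ hn'.symm) hmn
    obtain ⟨l₁, hl₁, hl₁'⟩ := ih _ hQlt (G ⧸ V) rfl m n' hGV' hmn'
    have hcopVH : (Nat.card V).Coprime (Nat.card H₀) := by rw [hVcard, hH₀]; exact hcopm
    have hdisj : V ⊓ H₀ = ⊥ := (Subgroup.disjoint_of_coprime_natCard hcopVH).eq_bot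
    have hHb : Nat.card (H₀.map (QuotientGroup.mk' V)) = m := by
      have h1 := card_map_mk_mul H₀ V
      have h2 := card_sup_mul_card_inf H₀ V
      rw [hdisj, Subgroup.card_bot, mul_one] at h2
      rw [h2, hH₀, mul_comm] at h1
      exact Nat.eq_of_mul_eq_mul_right Nat.card_pos h1
    have hconj' : ∀ H : Subgroup (G ⧸ V), Nat.card H = m →
        ∃ g : G ⧸ V, MulAut.conj g • H₀.map (QuotientGroup.mk' V) = H :=
      fun H hH => hall_conj hGV' hmn' _ H hHb hH
    have hidx := index_normalizer_eq_mul H₀ V hcopVH (Or.inl inferInstance)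
    obtain ⟨l₂, hl₂, hl₂'⟩ := subD hq m hqm V d hVcard (Nat.card H₀) H₀ V rfl
      (by rw [hH₀]) le_rfl (by rw [Subgroup.normalizer_eq_top]; exact le_top)
    refine ⟨l₁ ++ l₂, ?_, ?_⟩
    · rw [List.prod_append, hl₁, hl₂, card_eq_index_normalizer_of_conj m _ hHb hconj', hcount,
        index_normalizer_map, hidx]
    · intro y hy
      rcases List.mem_append.1 hy with h | h
      · exact nice_of_quotient V dvd_rfl (hl₁' y h)
      · obtain ⟨⟨e, he⟩, hyd, hr⟩ := hl₂' y h
        refine ⟨⟨q, e, hq, he⟩, ⟨⊥, V, inferInstance, hVn, bot_lt_iff_ne_bot.2 hV1, ?_, ?_⟩, hr⟩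
        · intro M hMn _ hMV
          exact hVmin M hMn hMV
        · rw [Subgroup.relIndex_bot_left, hVcard]
          exact hyd

/-- Let `G` be a finite solvable group of order `mn` with `gcd(m, n) = 1`. Then the number of subgroups of order `m` is a product of natural numbers each of which is a power of a prime, divides the order of some chief factor of `G` (a quotient `L/K` of normal subgroups `K < L` of `G` with no normal subgroup of `G` strictly between them), and is congruent to `1` modulo some prime divisor of `m`. -/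
theorem result {G : Type*} [Group G] [Finite G] [Group.IsSolvable G] (m n : ℕ) (hG : Nat.card G = m * n) (hmn : Nat.Coprime m n) : ∃ (k : ℕ) (f : Fin k → ℕ), Nat.card {H : Subgroup G // Nat.card H = m} = ∏ i, f i ∧ ∀ i, (∃ q e : ℕ, q.Prime ∧ f i = q ^ e) ∧ (∃ K L : Subgroup G, K.Normal ∧ L.Normal ∧ K < L ∧ (∀ M : Subgroup G, M.Normal → K ≤ M → M ≤ L → M = K ∨ M = L) ∧ f i ∣ K.relIndex L) ∧ (∃ q : ℕ, q.Prime ∧ q ∣ m ∧ f i ≡ 1 [MOD q]) := by
  obtain ⟨l, hl, hl'⟩ := main _ G rfl m n hG hmn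
  refine ⟨l.length, fun i => l.get i, ?_, fun i => hl' _ (List.get_mem l i)⟩
  rw [← hl, ← List.prod_ofFn, List.ofFn_get]

end Cfsg.Agent.S4214
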