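import Cfsg.Statements.S4216
import Mathlib

set_option autoImplicit false
open Cfsg

namespace Cfsg.Agent.S4216

open scoped commutatorElement
open MulAction

/-- Grouping a product of an invariant function by orbits. -/
theorem prod_eq_prod_orbits {R Ω A : Type*} [Group R] [MulAction R Ω] [Fintype Ω] [CommMonoid A]
    (c : Ω → A) (hc : ∀ (r : R) (f : Ω), c (r • f) = c f)
    [Fintype (Quotient (MulAction.orbitRel R Ω))] :
    ∏ f, c f = ∏ q : Quotient (MulAction.orbitRel R Ω),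
      c q.out ^ Nat.card (MulAction.orbit R q.out) := by
  classical
  haveI : ∀ q : Quotient (MulAction.orbitRel R Ω), Fintype (MulAction.orbit R q.out) :=
    fun q => Fintype.ofFinite _
  rw [← Equiv.prod_comp (MulAction.selfEquivSigmaOrbits R Ω).symm c]
  rw [Fintype.prod_sigma]
  apply Finset.prod_congr rfl
  intro q _
  have key : ∀ f : MulAction.orbit R q.out,
      c ((MulAction.selfEquivSigmaOrbits R Ω).symm ⟨q, f⟩) = c q.out := by
    intro f
    have h1 : (MulAction.selfEquivSigmaOrbits R Ω).symm ⟨q, f⟩ = f.1 := rfl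
    rw [h1]
    obtain ⟨r, hr⟩ := f.2
    rw [← hr]
    exact hc r _
  rw [Finset.prod_congr rfl (fun f _ => key f), Finset.prod_const, Finset.card_univ,
    Nat.card_eq_fintype_card]

theorem conj_pow' {G : Type*} [Group G] (x u : G) (n : ℕ) :
    (x⁻¹ * u * x) ^ n = x⁻¹ * u ^ n * x := by
  have := conj_pow (a := x⁻¹) (b := u) (i := n)
  rw [inv_inv] at this
  exact this

section
variable {G : Type*} [Group G] (H : Subgroup G) {A : Type*} [CommGroup A] (ϕ : H →* A) (u : G)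

open Classical in
/-- `θ(x) = ϕ(x⁻¹ u x)` when `x⁻¹ u x ∈ H`. -/
noncomputable def theta (x : G) : A :=
  if h : x⁻¹ * u * x ∈ H then ϕ ⟨x⁻¹ * u * x, h⟩ else 1

theorem theta_of_mem (x : G) (h : x⁻¹ * u * x ∈ H) :
    theta H ϕ u x = ϕ ⟨x⁻¹ * u * x, h⟩ := dif_pos h

open Classical in
noncomputable def gam (S : Set (G ⧸ H)) : A :=
  if h : ∃ x : G, (x : G ⧸ H) ∈ S ∧ x⁻¹ * u * x ∈ H then theta H ϕ u (Classical.choose h) else 1

noncomputable def ctil (f : G ⧸ H) : A := gam H ϕ u (MulAction.orbit H f)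

theorem ctil_smul (y : H) (f : G ⧸ H) : ctil H ϕ u (y • f) = ctil H ϕ u f := by
  unfold ctil
  rw [MulAction.orbit_smul]

theorem theta_key (hu : u ∈ H)
    (hz : ∀ (z : G) (c : H), c ∈ commutator H → ∀ hc : z⁻¹ * c * z ∈ H,
      ϕ ⟨z⁻¹ * c * z, hc⟩ = 1)
    (x y h : G) (hy : y ∈ H) (hh : h ∈ H) (hx : x⁻¹ * u * x ∈ H)
    (hx' : (y * x * h)⁻¹ * u * (y * x * h) ∈ H) :
    theta H ϕ u (y * x * h) = theta H ϕ u x := by
  rw [theta_of_mem _ _ _ _ hx', theta_of_mem _ _ _ _ hx]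
  have hw : x⁻¹ * (y⁻¹ * u * y) * x ∈ H := by
    have := H.mul_mem (H.mul_mem hh hx') (H.inv_mem hh)
    have e : h * ((y * x * h)⁻¹ * u * (y * x * h)) * h⁻¹ = x⁻¹ * (y⁻¹ * u * y) * x := by group
    rwa [e] at this
  have e1 : (⟨(y * x * h)⁻¹ * u * (y * x * h), hx'⟩ : H) =
      (⟨h, hh⟩ : H)⁻¹ * ⟨x⁻¹ * (y⁻¹ * u * y) * x, hw⟩ * ⟨h, hh⟩ := by
    apply Subtype.ext
    simp only [Subgroup.coe_mul, Subgroup.coe_inv]
    group
  rw [e1, map_mul, map_mul, map_inv, mul_comm, ← mul_assoc, mul_inv_cancel, one_mul]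
  -- the commutator
  have hc : (⁅(⟨y⁻¹, H.inv_mem hy⟩ : H), ⟨u, hu⟩⁆ : H) ∈ commutator H :=
    Subgroup.commutator_mem_commutator (Subgroup.mem_top _) (Subgroup.mem_top _)
  have hcv : ((⁅(⟨y⁻¹, H.inv_mem hy⟩ : H), ⟨u, hu⟩⁆ : H) : G) = y⁻¹ * u * y * u⁻¹ := by
    rw [commutatorElement_def]
    simp only [Subgroup.coe_mul, Subgroup.coe_inv, inv_inv]
  have hcm : x⁻¹ * ((⁅(⟨y⁻¹, H.inv_mem hy⟩ : H), ⟨u, hu⟩⁆ : H) : G) * x ∈ H := by
    have := H.mul_mem hw (H.inv_mem hx)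
    have e : x⁻¹ * (y⁻¹ * u * y) * x * (x⁻¹ * u * x)⁻¹ = x⁻¹ * (y⁻¹ * u * y * u⁻¹) * x := by group
    rw [e, ← hcv] at this
    exact this
  have h1 := hz x _ hc hcm
  have e2 : (⟨x⁻¹ * (y⁻¹ * u * y) * x, hw⟩ : H) =
      ⟨x⁻¹ * ((⁅(⟨y⁻¹, H.inv_mem hy⟩ : H), ⟨u, hu⟩⁆ : H) : G) * x, hcm⟩ *
        ⟨x⁻¹ * u * x, hx⟩ := by
    apply Subtype.ext
    simp only [Subgroup.coe_mul, hcv]
    group
  rw [e2, map_mul, h1, one_mul]

theorem ctil_eq_theta (hu : u ∈ H)
    (hz : ∀ (z : G) (c : H), c ∈ commutator H → ∀ hc : z⁻¹ * c * z ∈ H,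
      ϕ ⟨z⁻¹ * c * z, hc⟩ = 1)
    (x : G) (hx : x⁻¹ * u * x ∈ H) : ctil H ϕ u (x : G ⧸ H) = theta H ϕ u x := by
  unfold ctil gam
  have hex : ∃ x' : G, (x' : G ⧸ H) ∈ MulAction.orbit H (x : G ⧸ H) ∧ x'⁻¹ * u * x' ∈ H :=
    ⟨x, MulAction.mem_orbit_self _, hx⟩
  rw [dif_pos hex]
  obtain ⟨h1, h2⟩ := Classical.choose_spec hex
  obtain ⟨y, hy⟩ := h1
  have hy' : (((y : G) * x : G) : G ⧸ H) = ((Classical.choose hex : G) : G ⧸ H) := hy
  have hh : ((y : G) * x)⁻¹ * Classical.choose hex ∈ H := QuotientGroup.eq.1 hy'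
  have e : Classical.choose hex = (y : G) * x * (((y : G) * x)⁻¹ * Classical.choose hex) := by
    group
  have h2' := h2
  rw [e] at h2'
  have := theta_key H ϕ u hu hz x y _ y.2 hh hx h2'
  rw [← e] at this
  exact this

theorem theta_pow (p : ℕ) (hsmall : ∀ (x : G) (hx : x⁻¹ * u ^ p * x ∈ H), ϕ ⟨_, hx⟩ = 1) (x : G) :
    theta H ϕ u x ^ p = 1 := by
  by_cases h : x⁻¹ * u * x ∈ H
  · rw [theta_of_mem _ _ _ _ h, ← map_pow]
    have hm : x⁻¹ * u ^ p * x ∈ H := by
      rw [← conj_pow']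
      exact H.pow_mem h p
    have e : (⟨x⁻¹ * u * x, h⟩ : H) ^ p = ⟨x⁻¹ * u ^ p * x, hm⟩ := by
      apply Subtype.ext
      rw [Subgroup.coe_pow]
      exact conj_pow' x u p
    rw [e]
    exact hsmall x hm
  · unfold theta
    rw [dif_neg h, one_pow]

theorem ctil_pow (p : ℕ) (hsmall : ∀ (x : G) (hx : x⁻¹ * u ^ p * x ∈ H), ϕ ⟨_, hx⟩ = 1)
    (f : G ⧸ H) : ctil H ϕ u f ^ p = 1 := by
  unfold ctil gam
  split_ifs with h
  · exact theta_pow H ϕ u p hsmall _
  · exact one_pow _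

end

/-- Abstract form of Grün's transfer argument. -/
theorem transfer_kill {G : Type*} [Group G] [Finite G] {p : ℕ} [Fact p.Prime] (H : Subgroup G)
    (hHp : IsPGroup p H) (hidx : ¬ p ∣ H.index) {A : Type*} [CommGroup A] (ϕ : H →* A)
    (hN : ∀ x ∈ Subgroup.normalizer (H : Set G), ∀ v : H, ∀ hv : x⁻¹ * v * x ∈ H,
      ϕ ⟨x⁻¹ * v * x, hv⟩ = ϕ v)
    (hz : ∀ (z : G) (c : H), c ∈ commutator H → ∀ hc : z⁻¹ * c * z ∈ H,
      ϕ ⟨z⁻¹ * c * z, hc⟩ = 1) :
    ∀ (n : ℕ) (u : H), orderOf (u : G) = n → (u : G) ∈ commutator G → ϕ u = 1 := by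
  classical
  have hp := (Fact.out : p.Prime)
  intro n
  induction n using Nat.strong_induction_on with
  | _ n ih =>
  intro u hn huG
  by_cases hu1 : u = 1
  · rw [hu1, map_one]
  obtain ⟨j, hj⟩ : ∃ j, orderOf (u : G) = p ^ j := by
    obtain ⟨k, hk⟩ := hHp u
    have hk' : (u : G) ^ (p ^ k) = 1 := by
      have := congrArg Subtype.val hk
      simpa using this
    obtain ⟨j, -, hj⟩ := (Nat.dvd_prime_pow hp).1 (orderOf_dvd_of_pow_eq_one hk')
    exact ⟨j, hj⟩
  have hj0 : j ≠ 0 := by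
    intro h
    rw [h, pow_zero, orderOf_eq_one_iff] at hj
    exact hu1 (Subtype.ext hj)
  have small : ∀ (x : G) (k : ℕ), p ∣ k → ∀ hx : x⁻¹ * (u : G) ^ k * x ∈ H,
      ϕ ⟨x⁻¹ * (u : G) ^ k * x, hx⟩ = 1 := by
    intro x k hpk hx
    apply ih (orderOf (x⁻¹ * (u : G) ^ k * x)) ?_ ⟨_, hx⟩ rfl ?_
    · rw [← hn, hj]
      obtain ⟨k', rfl⟩ := hpk
      have h1 : (x⁻¹ * (u : G) ^ (p * k') * x) ^ (p ^ (j - 1)) = 1 := by
        rw [conj_pow', ← pow_mul]
        have e : p * k' * p ^ (j - 1) = p ^ j * k' := by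
          have : p ^ j = p ^ (j - 1) * p := by
            rw [← pow_succ]; congr 1; omega
          rw [this]; ring
        rw [e, pow_mul, ← hj, pow_orderOf_eq_one, one_pow]
        group
      have h2 := Nat.le_of_dvd (pow_pos hp.pos _) (orderOf_dvd_of_pow_eq_one h1)
      have h3 : p ^ (j - 1) < p ^ j := Nat.pow_lt_pow_right hp.one_lt (by omega)
      omega
    · have hnorm : (commutator G).Normal := inferInstance
      have := hnorm.conj_mem _ (Subgroup.pow_mem _ huG k) x⁻¹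
      rwa [inv_inv] at this
  have small_p : ∀ (x : G) (hx : x⁻¹ * (u : G) ^ p * x ∈ H), ϕ ⟨_, hx⟩ = 1 :=
    fun x hx => small x p dvd_rfl hx
  have hϕp : ϕ u ^ p = 1 := by
    rw [← map_pow]
    have hm : (1 : G)⁻¹ * (u : G) ^ p * 1 ∈ H := by
      rw [inv_one, one_mul, mul_one]
      exact H.pow_mem u.2 p
    have h := small_p 1 hm
    have e : u ^ p = ⟨(1 : G)⁻¹ * (u : G) ^ p * 1, hm⟩ := by
      apply Subtype.ext
      rw [Subgroup.coe_pow]
      simp
    rw [e]
    exact h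
  have hV : MonoidHom.transfer ϕ (u : G) = 1 := by
    have h := Abelianization.commutator_subset_ker (MonoidHom.transfer ϕ)
    exact h huG
  haveI : Fintype (G ⧸ H) := Fintype.ofFinite _
  haveI : Fintype (Quotient (MulAction.orbitRel (Subgroup.zpowers (u : G)) (G ⧸ H))) :=
    Fintype.ofFinite _
  haveI : Fintype (Quotient (MulAction.orbitRel H (G ⧸ H))) := Fintype.ofFinite _
  have h1 : MonoidHom.transfer ϕ (u : G) =
      ∏ q : Quotient (MulAction.orbitRel (Subgroup.zpowers (u : G)) (G ⧸ H)),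
        ctil H ϕ u q.out ^ Nat.card (MulAction.orbit (Subgroup.zpowers (u : G)) q.out) := by
    rw [MonoidHom.transfer_eq_prod_quotient_orbitRel_zpowers_quot]
    apply Finset.prod_congr rfl
    intro q _
    have hcard : Nat.card (MulAction.orbit (Subgroup.zpowers (u : G)) q.out) =
        Function.minimalPeriod ((u : G) • ·) q.out := by
      rw [MulAction.minimalPeriod_eq_card]
      exact Nat.card_eq_fintype_card
    rw [hcard]
    by_cases hk : Function.minimalPeriod ((u : G) • ·) q.out = 1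
    · have hm : q.out.out⁻¹ * (u : G) * q.out.out ∈ H := by
        have := QuotientGroup.out_conj_pow_minimalPeriod_mem H (u : G) q.out
        rwa [hk, pow_one] at this
      have e : (⟨q.out.out⁻¹ * (u : G) ^ Function.minimalPeriod ((u : G) • ·) q.out * q.out.out,
            QuotientGroup.out_conj_pow_minimalPeriod_mem H (u : G) q.out⟩ : H) =
          ⟨q.out.out⁻¹ * (u : G) * q.out.out, hm⟩ := by
        apply Subtype.ext
        simp only
        rw [hk, pow_one]
      rw [e, hk, pow_one, ← theta_of_mem H ϕ (u : G) _ hm,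
        ← ctil_eq_theta H ϕ (u : G) u.2 hz _ hm, QuotientGroup.out_eq']
    · have hpk : p ∣ Function.minimalPeriod ((u : G) • ·) q.out := by
        obtain ⟨i, hi⟩ := (hHp.to_le (Subgroup.zpowers_le.2 u.2)).card_orbit (q.out)
        rw [hcard] at hi
        rw [hi] at hk ⊢
        have : i ≠ 0 := by
          rintro rfl
          exact hk (pow_zero p)
        exact dvd_pow_self p this
      rw [small _ _ hpk]
      obtain ⟨k', hk'⟩ := hpk
      rw [hk', pow_mul, ctil_pow H ϕ (u : G) p small_p, one_pow]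
  have h2 : ∏ q : Quotient (MulAction.orbitRel (Subgroup.zpowers (u : G)) (G ⧸ H)),
      ctil H ϕ u q.out ^ Nat.card (MulAction.orbit (Subgroup.zpowers (u : G)) q.out) =
      ∏ f : G ⧸ H, ctil H ϕ u f := by
    symm
    apply prod_eq_prod_orbits
    intro r f
    exact ctil_smul H ϕ u ⟨r.1, Subgroup.zpowers_le.2 u.2 r.2⟩ f
  have h3 : ∏ f : G ⧸ H, ctil H ϕ u f =
      ∏ ω : Quotient (MulAction.orbitRel H (G ⧸ H)),
        ctil H ϕ u ω.out ^ Nat.card (MulAction.orbit H ω.out) :=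
    prod_eq_prod_orbits _ (fun r f => ctil_smul H ϕ u r f)
  have h4 : ∀ ω : Quotient (MulAction.orbitRel H (G ⧸ H)),
      ctil H ϕ u ω.out ^ Nat.card (MulAction.orbit H ω.out) =
        ϕ u ^ Nat.card (MulAction.orbit H ω.out) := by
    intro ω
    obtain ⟨i, hi⟩ := hHp.card_orbit ω.out
    by_cases hi0 : i = 0
    · have hfix : ∀ y : H, y • ω.out = ω.out := by
        rw [hi0, pow_zero] at hi
        intro y
        have : Subsingleton (MulAction.orbit H ω.out) := (Nat.card_eq_one_iff_unique.1 hi).1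
        have := Subsingleton.elim
          (⟨y • ω.out, MulAction.mem_orbit _ y⟩ : MulAction.orbit H ω.out)
          ⟨ω.out, MulAction.mem_orbit_self _⟩
        exact congrArg Subtype.val this
      rw [hi, hi0, pow_zero, pow_one, pow_one]
      obtain ⟨x, hx⟩ : ∃ x : G, (x : G ⧸ H) = ω.out := ⟨ω.out.out, QuotientGroup.out_eq' _⟩
      have hxinv : x⁻¹ ∈ Subgroup.normalizer (H : Set G) := by
        apply Subgroup.mem_normalizer_fintype
        intro y hy
        rw [inv_inv]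
        have h5 := hfix ⟨y, hy⟩
        rw [← hx] at h5
        have h6 : (((y * x : G)) : G ⧸ H) = (x : G ⧸ H) := h5
        have h7 := QuotientGroup.eq.1 h6
        have h8 := H.inv_mem h7
        have e : ((y * x)⁻¹ * x)⁻¹ = x⁻¹ * y * x := by group
        rwa [e] at h8
      have hxN : x ∈ Subgroup.normalizer (H : Set G) := by
        have := Subgroup.inv_mem _ hxinv
        rwa [inv_inv] at this
      have hm : x⁻¹ * (u : G) * x ∈ H := by
        have := (Subgroup.mem_normalizer_iff.1 hxinv (u : G)).1 u.2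
        rwa [inv_inv] at this
      rw [← hx, ctil_eq_theta H ϕ (u : G) u.2 hz x hm, theta_of_mem _ _ _ _ hm]
      exact hN x hxN u hm
    · obtain ⟨i', rfl⟩ := Nat.exists_eq_succ_of_ne_zero hi0
      rw [hi, pow_succ', pow_mul, pow_mul, ctil_pow H ϕ (u : G) p small_p, hϕp]
  have h5 : ∏ ω : Quotient (MulAction.orbitRel H (G ⧸ H)),
      ϕ u ^ Nat.card (MulAction.orbit H ω.out) = ∏ _f : G ⧸ H, ϕ u :=
    (prod_eq_prod_orbits (R := H) (fun _ : G ⧸ H => ϕ u) (fun _ _ => rfl)).symm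
  have h6 : ϕ u ^ H.index = 1 := by
    rw [← hV, h1, h2, h3, Finset.prod_congr rfl (fun ω _ => h4 ω), h5, Finset.prod_const,
      Finset.card_univ, Subgroup.index_eq_card, Nat.card_eq_fintype_card]
  have hcop : Nat.Coprime H.index p := ((Nat.Prime.coprime_iff_not_dvd hp).2 hidx).symm
  have hd : orderOf (ϕ u) ∣ Nat.gcd H.index p :=
    Nat.dvd_gcd (orderOf_dvd_of_pow_eq_one h6) (orderOf_dvd_of_pow_eq_one hϕp)
  rw [hcop] at hd
  exact orderOf_eq_one_iff.1 (Nat.dvd_one.1 hd)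

open scoped IsMulCommutative in
/-- Grün's first Theorem: if `P` is a Sylow `p`-subgroup of the finite group `G`, then `P ∩ G'` is the subgroup generated by `P ∩ N_G(P)'` together with the subgroups `P ∩ z P' z⁻¹` for all `z ∈ G`, where `'` denotes the derived subgroup and `N_G(P)` the normalizer of `P`. -/
theorem result {G : Type*} [Group G] [Finite G] {p : ℕ} [Fact p.Prime] (P : Sylow p G) : (P : Subgroup G) ⊓ commutator G = ((P : Subgroup G) ⊓ ⁅Subgroup.normalizer ((P : Subgroup G) : Set G), Subgroup.normalizer ((P : Subgroup G) : Set G)⁆) ⊔ ⨆ z : G, (P : Subgroup G) ⊓ (⁅(P : Subgroup G), (P : Subgroup G)⁆).map (MulAut.conj z).toMonoidHom := by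
  obtain ⟨H, hH⟩ : ∃ H : Subgroup G, H = (P : Subgroup G) := ⟨_, rfl⟩
  rw [← hH]
  have hHp : IsPGroup p H := by rw [hH]; exact P.2
  have hidx : ¬ p ∣ H.index := by rw [hH]; exact P.not_dvd_index
  obtain ⟨D, hD⟩ : ∃ D : Subgroup G, D = (H ⊓ ⁅Subgroup.normalizer (H : Set G),
      Subgroup.normalizer (H : Set G)⁆) ⊔
      ⨆ z : G, H ⊓ (⁅H, H⁆).map (MulAut.conj z).toMonoidHom := ⟨_, rfl⟩
  rw [← hD]
  have hGn : (commutator G).Normal := inferInstance
  have hDle : D ≤ H ⊓ commutator G := by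
    rw [hD]
    apply sup_le
    · apply inf_le_inf_left
      rw [commutator_def]
      exact Subgroup.commutator_mono le_top le_top
    · apply iSup_le
      intro z
      apply inf_le_inf_left
      rw [Subgroup.map_le_iff_le_comap]
      intro c hc
      rw [Subgroup.mem_comap]
      have hc' : c ∈ commutator G := by
        rw [commutator_def]
        exact Subgroup.commutator_mono le_top le_top hc
      exact hGn.conj_mem c hc' z
  have hN1 : H ⊓ ⁅Subgroup.normalizer (H : Set G), Subgroup.normalizer (H : Set G)⁆ ≤ D := by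
    rw [hD]; exact le_sup_left
  have hz1 : ∀ z : G, H ⊓ (⁅H, H⁆).map (MulAut.conj z).toMonoidHom ≤ D := by
    intro z
    rw [hD]
    exact le_trans (le_iSup (fun z : G => H ⊓ (⁅H, H⁆).map (MulAut.conj z).toMonoidHom) z)
      le_sup_right
  have hHHD : ⁅H, H⁆ ≤ D := by
    intro c hc
    apply hz1 1
    refine ⟨Subgroup.commutator_le_self H hc, ?_⟩
    refine Subgroup.mem_map.2 ⟨c, hc, ?_⟩
    simp
  have hcomm : commutator H ≤ D.subgroupOf H := by
    intro c hc
    rw [Subgroup.mem_subgroupOf]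
    apply hHHD
    rw [← Subgroup.map_subtype_commutator]
    exact Subgroup.mem_map_of_mem _ hc
  have hDn : (D.subgroupOf H).Normal := Subgroup.Normal.of_commutator_le (h := hcomm)
  have : IsMulCommutative (↥H ⧸ D.subgroupOf H) :=
    Subgroup.Normal.quotient_commutative_iff_commutator_le.2 hcomm
  apply le_antisymm _ hDle
  rintro u ⟨huH, huG⟩
  have key := transfer_kill H hHp hidx (QuotientGroup.mk' (D.subgroupOf H)) ?_ ?_
    (orderOf u) ⟨u, huH⟩ rfl huG
  · rw [QuotientGroup.mk'_apply, QuotientGroup.eq_one_iff, Subgroup.mem_subgroupOf] at key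
    exact key
  · intro x hx v hv
    rw [QuotientGroup.mk'_apply, QuotientGroup.mk'_apply, QuotientGroup.eq,
      Subgroup.mem_subgroupOf]
    apply hN1
    have hmem : (((⟨x⁻¹ * v * x, hv⟩ : H)⁻¹ * v : H) : G) ∈ H := SetLike.coe_mem _
    refine ⟨hmem, ?_⟩
    have e : (((⟨x⁻¹ * v * x, hv⟩ : H)⁻¹ * v : H) : G) = ⁅x⁻¹, (v : G)⁻¹⁆ := by
      rw [commutatorElement_def]
      simp only [Subgroup.coe_mul, Subgroup.coe_inv]
      group
    rw [e]
    apply Subgroup.commutator_mem_commutator (Subgroup.inv_mem _ hx)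
    exact Subgroup.le_normalizer (H.inv_mem v.2)
  · intro z c hc hcz
    rw [QuotientGroup.mk'_apply, QuotientGroup.eq_one_iff, Subgroup.mem_subgroupOf]
    apply hz1 z⁻¹
    refine ⟨hcz, ?_⟩
    refine Subgroup.mem_map.2 ⟨(c : G), ?_, ?_⟩
    · rw [← Subgroup.map_subtype_commutator]
      exact Subgroup.mem_map_of_mem _ hc
    · simp

end Cfsg.Agent.S4216
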