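import Cfsg.Statements.S4217
import Mathlib
import Cfsg.Agent.Lib.H1.Gaschutz

set_option autoImplicit false
open Cfsg

namespace Cfsg.Agent.S4217

open Cfsg.Agent.Lib.H1
open scoped IsMulCommutative

variable {G : Type*} [Group G]

/-- The exponents `m` such that some crossed homomorphism `G → A` restricts to `a ↦ a^m` on `A`
form a subgroup of `ℤ`. -/
def expSubgroup (A : Subgroup G) [A.Normal] [IsMulCommutative A] : AddSubgroup ℤ where
  carrier := {m | ∃ Φ : G → A, IsCrossedOn A ⊤ Φ ∧ ∀ a : A, Φ (a : G) = a ^ m}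
  zero_mem' := by
    refine ⟨fun _ => 1, ?_, ?_⟩
    · intro g _ h _
      rw [map_one, mul_one]
    · intro a
      rw [zpow_zero]
  add_mem' := by
    rintro m n ⟨Φ, hΦ, hΦm⟩ ⟨Ψ, hΨ, hΨn⟩
    refine ⟨fun g => Φ g * Ψ g, ?_, ?_⟩
    · intro g hg h hh
      simp only
      rw [hΦ g hg h hh, hΨ g hg h hh, map_mul]
      exact mul_mul_mul_comm _ _ _ _
    · intro a
      simp only
      rw [hΦm, hΨn, zpow_add]
  neg_mem' := by
    rintro m ⟨Φ, hΦ, hΦm⟩
    refine ⟨fun g => (Φ g)⁻¹, ?_, ?_⟩
    · intro g hg h hh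
      simp only
      rw [hΦ g hg h hh, map_inv, mul_inv_rev]
      exact mul_comm _ _
    · intro a
      simp only
      rw [hΦm, zpow_neg]

theorem mem_expSubgroup (A : Subgroup G) [A.Normal] [IsMulCommutative A] (m : ℤ) :
    m ∈ expSubgroup A ↔ ∃ Φ : G → A, IsCrossedOn A ⊤ Φ ∧ ∀ a : A, Φ (a : G) = a ^ m := Iff.rfl

/-- If `A` is complemented in `U ≥ A`, then the index of `U` is an admissible exponent. -/
theorem index_mem_expSubgroup [Finite G] (A : Subgroup G) [A.Normal] [IsMulCommutative A]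
    (U K : Subgroup G) (hKA : K ⊓ A = ⊥) (hU : A ⊔ K = U) :
    (U.index : ℤ) ∈ expSubgroup A := by
  classical
  letI : Fintype (G ⧸ U) := Fintype.ofFinite _
  have hAU : A ≤ U := by rw [← hU]; exact le_sup_left
  have h1 : IsCrossedOn A U (projK A K) := hU ▸ projK_crossed hKA
  have h2 := cores_mul U h1
  have h3 := cores_of_mem U hAU (φ := projK A K) (projK_of_mem hKA)
  have hidx : Fintype.card (G ⧸ U) = U.index := by
    rw [Subgroup.index_eq_card, Nat.card_eq_fintype_card]
  rw [hidx] at h3
  refine ⟨_, h2, ?_⟩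
  intro a
  rw [h3, zpow_natCast]

/-- Let `A` be an abelian normal subgroup of the finite group `G`. Then `A` has a complement in `G` if and only if, for every prime `p` dividing the index of `A`, there are a Sylow `p`-subgroup `S` of `G/A` and a subgroup `K` of `G` with `K ∩ A = 1` and `KA` equal to the preimage of `S` (that is, `A` has a complement in the preimage of a Sylow `p`-subgroup of `G/A`). -/
theorem result {G : Type*} [Group G] [Finite G] (A : Subgroup G) [A.Normal] (hA : IsMulCommutative A) : (∃ K : Subgroup G, K.IsComplement' A) ↔ ∀ p : ℕ, p.Prime → p ∣ A.index → ∃ (S : Sylow p (G ⧸ A)) (K : Subgroup G), K ⊓ A = ⊥ ∧ K ⊔ A = (S : Subgroup (G ⧸ A)).comap (QuotientGroup.mk' A) := by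
  constructor
  · rintro ⟨K, hK⟩ p hp _
    haveI : Fact p.Prime := ⟨hp⟩
    have hKA : K ⊓ A = ⊥ := disjoint_iff.1 hK.disjoint
    obtain ⟨P⟩ : Nonempty (Sylow p K) := inferInstance
    obtain ⟨Q, hQ⟩ : ∃ Q : Subgroup G, Q = (P : Subgroup K).map K.subtype := ⟨_, rfl⟩
    have hQK : Q ≤ K := by
      rw [hQ]; exact Subgroup.map_subtype_le _
    have hQA : Q ⊓ A = ⊥ := by
      rw [eq_bot_iff, ← hKA]
      exact inf_le_inf_right A hQK
    have hcardQ : Nat.card Q = Nat.card (P : Subgroup K) := by
      rw [hQ]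
      exact Subgroup.card_map_of_injective K.subtype_injective
    have hcardK : Nat.card K = Nat.card (G ⧸ A) := by
      have h1 := hK.card_mul_card
      have h2 := A.card_mul_index
      rw [← Subgroup.index_eq_card]
      have hpos : 0 < Nat.card A := Nat.card_pos
      have : Nat.card A * Nat.card K = Nat.card A * A.index := by rw [h2, mul_comm, h1]
      exact Nat.eq_of_mul_eq_mul_left hpos this
    have hinj : Function.Injective ((QuotientGroup.mk' A).comp Q.subtype) := by
      rw [← MonoidHom.ker_eq_bot_iff, eq_bot_iff]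
      intro x hx
      rw [MonoidHom.mem_ker, MonoidHom.comp_apply, ← MonoidHom.mem_ker, QuotientGroup.ker_mk'] at hx
      have : (x : G) ∈ Q ⊓ A := ⟨x.2, hx⟩
      rw [hQA, Subgroup.mem_bot] at this
      rw [Subgroup.mem_bot]
      exact Subtype.ext this
    have hcardS : Nat.card (Q.map (QuotientGroup.mk' A)) =
        p ^ (Nat.card (G ⧸ A)).factorization p := by
      have h1 : Q.map (QuotientGroup.mk' A) = ((QuotientGroup.mk' A).comp Q.subtype).range := by
        rw [MonoidHom.range_comp, Subgroup.range_subtype]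
      rw [h1, ← Nat.card_congr (MonoidHom.ofInjective hinj).toEquiv, hcardQ,
        P.card_eq_multiplicity, hcardK]
    refine ⟨Sylow.ofCard _ hcardS, Q, hQA, ?_⟩
    change Q ⊔ A = (Q.map (QuotientGroup.mk' A)).comap (QuotientGroup.mk' A)
    rw [Subgroup.comap_map_eq, QuotientGroup.ker_mk']
  · intro hyp
    haveI := hA
    -- the admissible exponents
    obtain ⟨d, hd⟩ := Int.subgroup_cyclic (expSubgroup A)
    rw [← AddSubgroup.zmultiples_eq_closure] at hd
    have hidx : (A.index : ℤ) ∈ expSubgroup A :=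
      index_mem_expSubgroup A A ⊥ (bot_inf_eq A) (sup_bot_eq A)
    have hd1 : d.natAbs = 1 := by
      by_contra hne
      obtain ⟨r, hr, hrd⟩ := Nat.exists_prime_and_dvd hne
      have hrd' : (r : ℤ) ∣ d := Int.natCast_dvd.2 hrd
      rw [hd, Int.mem_zmultiples_iff] at hidx
      have hrA : r ∣ A.index := Int.natCast_dvd_natCast.1 (hrd'.trans hidx)
      obtain ⟨S, K, hKA, hKS⟩ := hyp r hr hrA
      haveI : Fact r.Prime := ⟨hr⟩
      have hmem := index_mem_expSubgroup A _ K hKA (sup_comm A K)
      rw [hd, Int.mem_zmultiples_iff, hKS, Subgroup.index_comap_of_surjective _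
        (QuotientGroup.mk'_surjective A)] at hmem
      exact S.not_dvd_index (Int.natCast_dvd_natCast.1 (hrd'.trans hmem))
    have h1 : (1 : ℤ) ∈ expSubgroup A := by
      rw [hd, Int.mem_zmultiples_iff]
      exact Int.natAbs_dvd_natAbs.1 (by rw [hd1]; exact one_dvd _)
    obtain ⟨Φ, hΦ, hΦA⟩ := h1
    have := isComplement'_crossedKer hΦ 1 (Nat.coprime_one_right _)
      (fun k => by rw [hΦA, zpow_one, pow_one])
    exact ⟨_, this.symm⟩

end Cfsg.Agent.S4217
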