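import Cfsg.Statements.S4218
import Mathlib
import Cfsg.Agent.Lib.H1.PCore
import Cfsg.Agent.Lib.H1.PGroupBasic
import Cfsg.Agent.Lib.H9.FrattiniAction
import Cfsg.Agent.Lib.H9.PPrimeCore
import Cfsg.Agent.Lib.H10.PSolvable
import Cfsg.Agent.Lib.H10.PSolvable2

set_option autoImplicit false
open Cfsg

namespace Cfsg.Agent.S4218

open scoped commutatorElement

/-- Core statement in a group with `O_{p'} = 1`: an element acting trivially on
`O_p(H)/Φ(O_p(H))` lies in `O_p(H)`. -/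
theorem core {H : Type*} [Group H] [Finite H] {p : ℕ} [Fact p.Prime] (hH : IsPSolvable p H)
    (hO : pPrimeCore p H = ⊥) (h : H)
    (hh : ∀ y ∈ pCore p H,
      h * y * h⁻¹ * y⁻¹ ∈ (frattini ↥(pCore p H)).map (pCore p H).subtype) :
    h ∈ pCore p H := by
  have hp := (Fact.out : p.Prime)
  obtain ⟨Q, hQ⟩ : ∃ Q : Subgroup H, Q = pCore p H := ⟨_, rfl⟩
  rw [← hQ] at hh ⊢
  haveI hQn : Q.Normal := by rw [hQ]; infer_instance
  have hQp : IsPGroup p Q := by rw [hQ]; exact Cfsg.Agent.Lib.H1.pCore_isPGroup p H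
  obtain ⟨Φ, hΦ⟩ : ∃ Φ : Subgroup H, Φ = (frattini ↥Q).map Q.subtype := ⟨_, rfl⟩
  rw [← hΦ] at hh
  haveI hΦn : Φ.Normal := by rw [hΦ]; infer_instance
  -- the subgroup of elements acting trivially mod Φ
  let C : Subgroup H :=
    { carrier := {k | ∀ y ∈ Q, k * y * k⁻¹ * y⁻¹ ∈ Φ}
      one_mem' := by
        intro y _
        simp only [one_mul, inv_one, mul_one, mul_inv_cancel]
        exact one_mem _
      mul_mem' := by
        intro a b ha hb y hy
        have h1 := hΦn.conj_mem _ (hb y hy) a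
        have h2 := ha y hy
        have : a * b * y * (a * b)⁻¹ * y⁻¹ = a * (b * y * b⁻¹ * y⁻¹) * a⁻¹ * (a * y * a⁻¹ * y⁻¹) := by
          group
        rw [this]
        exact mul_mem h1 h2
      inv_mem' := by
        intro a ha y hy
        have h1 := hΦn.conj_mem _ (inv_mem (ha y hy)) a⁻¹
        have : a⁻¹ * y * a⁻¹⁻¹ * y⁻¹ = a⁻¹ * (a * y * a⁻¹ * y⁻¹)⁻¹ * a⁻¹⁻¹ := by group
        rw [this]
        exact h1 }
  have hCmem : ∀ k, k ∈ C ↔ ∀ y ∈ Q, k * y * k⁻¹ * y⁻¹ ∈ Φ := fun k => Iff.rfl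
  have hCn : C.Normal := by
    constructor
    intro a ha k
    rw [hCmem] at ha ⊢
    intro y hy
    have hy' : k⁻¹ * y * k ∈ Q := by
      have := hQn.conj_mem y hy k⁻¹
      rwa [inv_inv] at this
    have h1 := hΦn.conj_mem _ (ha _ hy') k
    have : k * a * k⁻¹ * y * (k * a * k⁻¹)⁻¹ * y⁻¹ =
        k * (a * (k⁻¹ * y * k) * a⁻¹ * (k⁻¹ * y * k)⁻¹) * k⁻¹ := by group
    rw [this]
    exact h1
  have hCp : IsPGroup p C := by
    intro g
    obtain ⟨a, m, hm, hn⟩ := Nat.exists_eq_pow_mul_and_not_dvd (orderOf_pos (g : H)).ne' p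
      hp.ne_one
    refine ⟨a, ?_⟩
    have hmcop : m.Coprime p := (Nat.Coprime.symm ((Nat.Prime.coprime_iff_not_dvd hp).2 hm))
    obtain ⟨y, hy⟩ : ∃ y : H, y = (g : H) ^ (p ^ a) := ⟨_, rfl⟩
    have hyC : y ∈ C := by rw [hy]; exact pow_mem g.2 _
    have hym : y ^ m = 1 := by
      rw [hy, ← pow_mul, ← hn]
      exact pow_orderOf_eq_one _
    have hycop : (orderOf y).Coprime p :=
      Nat.Coprime.coprime_dvd_left (orderOf_dvd_of_pow_eq_one hym) hmcop
    have hcomm : ∀ q ∈ Q, y * q = q * y := by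
      apply Cfsg.Agent.Lib.H9.commute_of_commutator_mem_frattini hQp
        (by rw [Subgroup.normalizer_eq_top]; trivial) hycop
      intro b hb q hq
      have hbC : b ∈ C := (Subgroup.zpowers_le.2 hyC) hb
      have := (hCmem b).1 hbC q hq
      rw [hΦ] at this
      exact this
    have hycent : y ∈ Subgroup.centralizer (Q : Set H) := by
      rw [Subgroup.mem_centralizer_iff]
      intro q hq
      exact (hcomm q hq).symm
    have hyQ : y ∈ Q := by
      have := Cfsg.Agent.Lib.H10.centralizer_pCore_le_of_isPSolvable p hH hO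
      rw [← hQ] at this
      exact this hycent
    obtain ⟨k, hk⟩ := hQp ⟨y, hyQ⟩
    have hk' : y ^ (p ^ k) = 1 := by
      have := congrArg Subtype.val hk
      simpa using this
    have h1 : orderOf y ∣ p ^ k := orderOf_dvd_of_pow_eq_one hk'
    have h2 : orderOf y = 1 :=
      Nat.Coprime.eq_one_of_dvd (Nat.Coprime.pow_right k hycop) h1
    have h3 : y = 1 := orderOf_eq_one_iff.1 h2
    apply Subtype.ext
    rw [Subgroup.coe_pow, ← hy, h3]
    rfl
  have hCle : C ≤ Q := by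
    rw [hQ]
    exact Cfsg.Agent.Lib.H1.le_pCore hCn hCp
  exact hCle ((hCmem h).2 hh)

/-- Let `G` be a finite `p`-solvable group, `N₀ = O_{p'}(G)`, `P₁ = O_{p',p}(G)`, and let `F ≤ P₁` be the preimage of the Frattini subgroup of `P₁/N₀`. Then an element `g` of `G` induces the identity on `P₁/F` by conjugation (that is, `g x g⁻¹ x⁻¹ ∈ F` for all `x ∈ P₁`) if and only if `g ∈ P₁`: the group `G/P₁` acts faithfully on `P₁/F`. -/
theorem result {G : Type*} [Group G] [Finite G] {p : ℕ} [Fact p.Prime] (hG : Cfsg.IsPSolvable p G) (g : G) : (∀ x ∈ Cfsg.pPrimePCore p G, g * x * g⁻¹ * x⁻¹ ∈ ((frattini (↥(Cfsg.pPrimePCore p G) ⧸ (Cfsg.pPrimeCore p G).subgroupOf (Cfsg.pPrimePCore p G))).comap (QuotientGroup.mk' ((Cfsg.pPrimeCore p G).subgroupOf (Cfsg.pPrimePCore p G)))).map (Cfsg.pPrimePCore p G).subtype) ↔ g ∈ Cfsg.pPrimePCore p G := by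
  have hp := (Fact.out : p.Prime)
  obtain ⟨N₀, hN₀⟩ : ∃ N₀ : Subgroup G, N₀ = pPrimeCore p G := ⟨_, rfl⟩
  have hO : pPrimeCore p (G ⧸ pPrimeCore p G) = ⊥ := Cfsg.Agent.Lib.H9.pPrimeCore_quotient_eq_bot p
  have hHs : IsPSolvable p (G ⧸ pPrimeCore p G) :=
    Cfsg.Agent.Lib.H10.isPSolvable_quotient hG (pPrimeCore p G)
  have hQp : IsPGroup p (pCore p (G ⧸ pPrimeCore p G)) :=
    Cfsg.Agent.Lib.H1.pCore_isPGroup p _
  have hP₁ : pPrimePCore p G =
      (pCore p (G ⧸ pPrimeCore p G)).comap (QuotientGroup.mk' (pPrimeCore p G)) := rfl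
  -- the homomorphism `P₁ → Q`
  obtain ⟨φ, hφ⟩ : ∃ φ : ↥(pPrimePCore p G) →* ↥(pCore p (G ⧸ pPrimeCore p G)),
      ∀ x, (φ x : G ⧸ pPrimeCore p G) = QuotientGroup.mk' (pPrimeCore p G) (x : G) :=
    ⟨(QuotientGroup.mk' (pPrimeCore p G)).subgroupComap (pCore p (G ⧸ pPrimeCore p G)),
      fun x => rfl⟩
  have hφsurj : Function.Surjective φ := by
    intro y
    obtain ⟨x, hx⟩ := QuotientGroup.mk'_surjective (pPrimeCore p G) (y : G ⧸ pPrimeCore p G)
    have hx' : x ∈ pPrimePCore p G := by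
      rw [hP₁, Subgroup.mem_comap, hx]
      exact y.2
    refine ⟨⟨x, hx'⟩, ?_⟩
    apply Subtype.ext
    rw [hφ]
    exact hx
  have hker : (pPrimeCore p G).subgroupOf (pPrimePCore p G) ≤ φ.ker := by
    intro x hx
    rw [Subgroup.mem_subgroupOf] at hx
    rw [MonoidHom.mem_ker]
    apply Subtype.ext
    rw [hφ, Subgroup.coe_one, QuotientGroup.mk'_apply, QuotientGroup.eq_one_iff]
    exact hx
  obtain ⟨ψ, hψ⟩ : ∃ ψ : (↥(pPrimePCore p G) ⧸ (pPrimeCore p G).subgroupOf (pPrimePCore p G)) →*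
      ↥(pCore p (G ⧸ pPrimeCore p G)),
      ∀ x, ψ (QuotientGroup.mk' _ x) = φ x :=
    ⟨QuotientGroup.lift _ φ hker, fun x => rfl⟩
  have hψsurj : Function.Surjective ψ := by
    intro y
    obtain ⟨x, hx⟩ := hφsurj y
    exact ⟨QuotientGroup.mk' _ x, by rw [hψ, hx]⟩
  have hfr := frattini_le_comap_frattini_of_surjective hψsurj
  constructor
  · intro hg
    rw [hP₁, Subgroup.mem_comap]
    apply core hHs hO
    intro y hy
    obtain ⟨x, hx⟩ := hφsurj ⟨y, hy⟩
    have hxy : QuotientGroup.mk' (pPrimeCore p G) (x : G) = y := by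
      rw [← hφ, hx]
    have h1 := hg x x.2
    obtain ⟨z, hz, hzeq⟩ := Subgroup.mem_map.1 h1
    rw [Subgroup.mem_comap] at hz
    have h2 := hfr hz
    rw [Subgroup.mem_comap, hψ] at h2
    refine Subgroup.mem_map.2 ⟨φ z, h2, ?_⟩
    rw [Subgroup.coe_subtype, hφ]
    have hz' : (z : G) = g * x * g⁻¹ * (x : G)⁻¹ := hzeq
    rw [hz', map_mul, map_mul, map_mul, map_inv, map_inv, hxy]
  · intro hg x hx
    have hQuotP : IsPGroup p
        (↥(pPrimePCore p G) ⧸ (pPrimeCore p G).subgroupOf (pPrimePCore p G)) := by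
      intro q
      obtain ⟨x, rfl⟩ := QuotientGroup.mk'_surjective _ q
      obtain ⟨k, hk⟩ := hQp (φ x)
      refine ⟨k, ?_⟩
      rw [← map_pow, QuotientGroup.mk'_apply, QuotientGroup.eq_one_iff, Subgroup.mem_subgroupOf]
      have h1 : ((φ x ^ p ^ k : ↥(pCore p (G ⧸ pPrimeCore p G))) : G ⧸ pPrimeCore p G) = 1 := by
        rw [hk]; rfl
      rw [Subgroup.coe_pow, hφ, ← map_pow, QuotientGroup.mk'_apply,
        QuotientGroup.eq_one_iff] at h1
      rw [Subgroup.coe_pow]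
      exact h1
    have hcomm := Cfsg.Agent.Lib.H1.isPGroup_commutator_le_frattini hQuotP
    refine Subgroup.mem_map.2 ⟨⁅(⟨g, hg⟩ : ↥(pPrimePCore p G)), ⟨x, hx⟩⁆, ?_, ?_⟩
    · rw [Subgroup.mem_comap]
      apply hcomm
      rw [map_commutatorElement]
      exact Subgroup.commutator_mem_commutator (Subgroup.mem_top _) (Subgroup.mem_top _)
    · rw [commutatorElement_def]
      rfl

end Cfsg.Agent.S4218
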