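import Cfsg.Statements.S4219
import Mathlib

set_option autoImplicit false
open Cfsg

namespace Cfsg.Agent.S4219

open scoped Pointwise
open MulAction

variable {G : Type*} [Group G] [Finite G] {α : Type*} [MulAction G α]

/-- Key step: if the image `Q` of a Sylow subgroup `P` of the stabilizer `H` of `x` fixes the
tuple `a = u • x`, then some `n ∈ N_G(Q)` maps `x` to `a`. -/
lemma exists_normalizer_smul {t : ℕ} (x : Fin t ↪ α) {p : ℕ} [Fact p.Prime]
    (H : Subgroup G) (hH : H = stabilizer G x)
    (P : Sylow p H) (a : Fin t ↪ α) (u : G) (hu : u • x = a)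
    (ha : ∀ q ∈ (P : Subgroup H).map H.subtype, q • a = a) :
    ∃ g ∈ Subgroup.normalizer
      ((((P : Subgroup H).map H.subtype) : Subgroup G) : Set G),
      g • x = a := by
  obtain ⟨Q, hQ⟩ : ∃ Q : Subgroup G, Q = (P : Subgroup H).map H.subtype :=
    ⟨_, rfl⟩
  rw [← hQ] at ha ⊢
  -- the conjugate u⁻¹ Q u lies in H
  have hQH : Q ≤ H := by rw [hQ]; exact Subgroup.map_subtype_le _
  have hconjH : MulAut.conj u⁻¹ • Q ≤ H := by
    rintro _ ⟨q, hq, rfl⟩
    rw [hH, mem_stabilizer_iff]
    show (u⁻¹ * q * u⁻¹⁻¹) • x = x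
    rw [inv_inv, mul_smul, mul_smul, hu, ha q hq, ← hu, inv_smul_smul]
  -- as a subgroup of H
  set R : Subgroup H := (MulAut.conj u⁻¹ • Q).subgroupOf H with hR
  have hRp : IsPGroup p R := by
    have h1 : IsPGroup p Q := by rw [hQ]; exact P.isPGroup'.map _
    have h2 : IsPGroup p (MulAut.conj u⁻¹ • Q : Subgroup G) := by
      rw [Subgroup.pointwise_smul_def]; exact h1.map _
    exact h2.comap_of_injective H.subtype (Subgroup.subtype_injective H)
  obtain ⟨P', hRP'⟩ := hRp.exists_le_sylow
  obtain ⟨h, hh⟩ := exists_smul_eq H P P'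
  -- cardinalities
  have hcardR : Nat.card R = Nat.card (P : Subgroup H) := by
    have e1 : Nat.card R = Nat.card (MulAut.conj u⁻¹ • Q : Subgroup G) :=
      Nat.card_congr (Subgroup.subgroupOfEquivOfLe hconjH).toEquiv
    have e2 : Nat.card (MulAut.conj u⁻¹ • Q : Subgroup G) = Nat.card Q :=
      Nat.card_congr (Subgroup.equivSMul (MulAut.conj u⁻¹) Q).symm.toEquiv
    have e3 : Nat.card Q = Nat.card (P : Subgroup H) := by
      rw [hQ]
      exact Nat.card_congr (Subgroup.equivMapOfInjective _ _ (Subgroup.subtype_injective H)).symm.toEquiv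
    rw [e1, e2, e3]
  have hcardP' : Nat.card (P' : Subgroup H) = Nat.card (P : Subgroup H) := by
    rw [Sylow.card_eq_multiplicity, Sylow.card_eq_multiplicity]
  have hRP'eq : R = (P' : Subgroup H) := by
    apply Subgroup.eq_of_le_of_card_ge hRP'
    rw [hcardR, hcardP']
  -- so conj u⁻¹ • Q = conj h • Q in G
  have hkey : MulAut.conj u⁻¹ • Q = MulAut.conj (h : G) • Q := by
    have h1 : R.map H.subtype = MulAut.conj u⁻¹ • Q := by
      rw [hR, Subgroup.subgroupOf_map_subtype, inf_of_le_left hconjH]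
    have h2 : (P' : Subgroup H).map H.subtype = MulAut.conj (h : G) • Q := by
      rw [← hh, Sylow.coe_subgroup_smul, hQ]
      ext z
      constructor
      · rintro ⟨w, ⟨v, hv, rfl⟩, rfl⟩
        exact ⟨(v : G), ⟨v, hv, rfl⟩, rfl⟩
      · rintro ⟨_, ⟨v, hv, rfl⟩, rfl⟩
        exact ⟨MulAut.conj h • v, ⟨v, hv, rfl⟩, rfl⟩
    rw [← h1, hRP'eq, h2]
  refine ⟨u * h, ?_, ?_⟩
  · -- u h normalizes Q
    have hfix : MulAut.conj (u * (h : G)) • Q = Q := by
      rw [map_mul, mul_smul, ← hkey, ← mul_smul, ← map_mul, mul_inv_cancel, map_one, one_smul]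
    rw [Subgroup.mem_normalizer_iff]
    intro z
    constructor
    · intro hz
      have : MulAut.conj (u * (h : G)) • z ∈ MulAut.conj (u * (h : G)) • Q :=
        Subgroup.smul_mem_pointwise_smul _ _ _ hz
      rw [hfix] at this
      exact this
    · intro hz
      have hz' : MulAut.conj (u * (h : G)) • z ∈ MulAut.conj (u * (h : G)) • Q := by
        rw [hfix]; exact hz
      exact (Subgroup.smul_mem_pointwise_smul_iff).1 hz'
  · rw [mul_smul]
    have : (h : G) • x = x := by
      have h2 : (h : G) ∈ H := h.2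
      have h3 : (h : G) ∈ stabilizer G x := hH ▸ h2
      exact mem_stabilizer_iff.1 h3
    rw [this, hu]

/-- Let a finite group `G` act `t`-fold transitively on a finite set, let `H` be the stabilizer of `t` distinct points and `P` a Sylow `p`-subgroup of `H`. Then the normalizer of `P` in `G` is `t`-fold transitive on the fixed points of `P`: any `t` distinct fixed points of `P` can be carried to any other `t` distinct fixed points of `P` by an element normalizing `P`. -/
theorem result {G : Type*} [Group G] [Finite G] {α : Type*} [Fintype α] [MulAction G α] {t : ℕ} (hG : MulAction.IsMultiplyPretransitive G α t) (x : Fin t ↪ α) {p : ℕ} [Fact p.Prime] (P : Sylow p (MulAction.stabilizer G x)) (a b : Fin t ↪ α) (ha : ∀ i, a i ∈ MulAction.fixedPoints ((P : Subgroup (MulAction.stabilizer G x)).map (MulAction.stabilizer G x).subtype) α) (hb : ∀ i, b i ∈ MulAction.fixedPoints ((P : Subgroup (MulAction.stabilizer G x)).map (MulAction.stabilizer G x).subtype) α) : ∃ g ∈ Subgroup.normalizer ((((P :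 Subgroup (MulAction.stabilizer G x)).map (MulAction.stabilizer G x).subtype) : Subgroup G) : Set G), g • a = b := by
  haveI : IsPretransitive G (Fin t ↪ α) := hG
  obtain ⟨u, hu⟩ := exists_smul_eq G x a
  obtain ⟨v, hv⟩ := exists_smul_eq G x b
  have ha' : ∀ q ∈ (P : Subgroup (stabilizer G x)).map (stabilizer G x).subtype, q • a = a := by
    intro q hq
    ext i
    exact ha i ⟨q, hq⟩
  have hb' : ∀ q ∈ (P : Subgroup (stabilizer G x)).map (stabilizer G x).subtype, q • b = b := by
    intro q hq
    ext i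
    exact hb i ⟨q, hq⟩
  obtain ⟨n₁, hn₁, hn₁x⟩ := exists_normalizer_smul x _ rfl P a u hu ha'
  obtain ⟨n₂, hn₂, hn₂x⟩ := exists_normalizer_smul x _ rfl P b v hv hb'
  refine ⟨n₂ * n₁⁻¹, Subgroup.mul_mem _ hn₂ (Subgroup.inv_mem _ hn₁), ?_⟩
  rw [mul_smul, ← hn₁x, inv_smul_smul, hn₂x]

end Cfsg.Agent.S4219
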