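import Cfsg.Statements.S4220
import Cfsg.Agent.Lib.H18.Miller7

set_option autoImplicit false
open Cfsg

namespace Cfsg.Agent.S4220

open Cfsg.Agent.Lib.H18.Miller MulAction Equiv

/-- Let `n = kp + r` with `p` prime, `1 ≤ k < p` and `r > k`, excluding the case `k = 1, r = 2`. Then a permutation group of degree `n` that is `(r + 1)`-fold transitive contains the alternating group. -/
theorem result {α : Type*} [Fintype α] [DecidableEq α] (G : Subgroup (Equiv.Perm α)) {k p r : ℕ} (hp : p.Prime) (hn : Fintype.card α = k * p + r) (hk : 1 ≤ k) (hpk : k < p) (hrk : k < r) (hex : ¬ (k = 1 ∧ r = 2)) (hG : MulAction.IsMultiplyPretransitive G α (r + 1)) : alternatingGroup α ≤ G := by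
  have hp2 := hp.two_le
  have hkp : k * p ≥ p := Nat.le_mul_of_pos_left p hk
  have hkp2 : k * p ≥ 2 * k := by nlinarith
  -- the special case of degree 9
  by_cases h9 : p = 3 ∧ r = 3 ∧ k = 2
  · obtain ⟨rfl, rfl, rfl⟩ := h9
    exact alt_le_of_card_nine G (by rw [hn]) hG
  -- choose `Δ`
  obtain ⟨Δ, -, hΔ⟩ := Finset.exists_subset_card_eq (s := (Finset.univ : Finset α)) (n := r)
    (by rw [Finset.card_univ, hn]; omega)
  obtain ⟨D⟩ := exists_sylData G Δ hp hΔ hn hk hpk hG
  have h2 : IsMultiplyPretransitive G α 2 :=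
    isMultiplyPretransitive_of_le (n := r + 1) (by omega)
      (by rw [Nat.card_eq_fintype_card, hn]; exact_mod_cast (by omega : r + 1 ≤ k * p + r))
  have hprim : IsPreprimitive G α := isPreprimitive_of_is_two_pretransitive h2
  by_cases hcyc : ∃ t ∈ D.P, t.IsCycle
  · -- Jordan's theorem
    obtain ⟨t, ht, htc⟩ := hcyc
    have hord : orderOf t = p := by
      have h1 : orderOf t ∣ p := orderOf_dvd_of_pow_eq_one (D.exp t ht)
      rcases (Nat.dvd_prime hp).mp h1 with h | h
      · exact absurd (orderOf_eq_one_iff.mp h) htc.ne_one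
      · exact h
    have hcard : t.support.card = p := by rw [← htc.orderOf, hord]
    have hr3 : k = 1 → 3 ≤ r := by
      intro h1
      by_contra hlt
      exact hex ⟨h1, by omega⟩
    have hbound : p + 3 ≤ Fintype.card α := by
      rw [hn]
      rcases Nat.eq_or_lt_of_le hk with h1 | h1
      · have := hr3 h1.symm
        rw [← h1]; omega
      · have : 2 * p ≤ k * p := Nat.mul_le_mul_right p h1
        omega
    exact Cfsg.Agent.S0713.result G hprim hp (by omega) hbound htc hcard (D.le ht)
  · push_neg at hcyc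
    -- there is a point outside `Δ`
    obtain ⟨ω, hω⟩ : ∃ ω, ω ∉ Δ := by
      by_contra hcon
      push_neg at hcon
      have : Δ = Finset.univ := Finset.eq_univ_iff_forall.mpr hcon
      rw [this, Finset.card_univ, hn] at hΔ
      omega
    -- `k ≥ 2`
    have hk2 : 2 ≤ k := by
      by_contra hlt
      have hk1 : k = 1 := by omega
      obtain ⟨y0, hy0, hne⟩ := D.exists_moves hp hω
      have hone : Nat.card D.orbSub = 1 := by rw [D.card_orbSub hΔ hn hp, hk1]
      have hy1 : y0 = 1 := by
        apply D.eq_one_of_single_orbit hp hcyc hy0 hω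
        intro x hxΔ hx
        exfalso
        apply hx
        have hsub : Subsingleton D.orbSub := (Nat.card_eq_one_iff_unique.mp hone).1
        have := congrArg Subtype.val
          (Subsingleton.elim (⟨orb D.P x, x, hxΔ, rfl⟩ : D.orbSub) ⟨orb D.P ω, ω, hω, rfl⟩)
        simp only at this
        rw [← this]
        exact self_mem_orb _ _
      rw [hy1] at hne
      exact hne rfl
    have h93 : ¬ (p = 3 ∧ r = 3) := by
      rintro ⟨rfl, rfl⟩
      exact h9 ⟨rfl, rfl, by omega⟩
    obtain ⟨u, huker, hucent, huρ⟩ := D.exists_central_elt hΔ hn hp hk2 hpk hrk hcyc h93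
    have huK : u.1 ∈ D.KGrp := D.mem_KGrp.mpr ⟨u.2, D.mem_ker_phi.mp huker⟩
    have hwG : u.1 ^ p ∈ G := G.pow_mem u.2.1 p
    have hw1 : u.1 ^ p ≠ 1 := by
      intro h
      apply huρ
      rw [← map_pow]
      have : u ^ p = 1 := by
        ext1
        simpa using h
      rw [this, map_one]
    have hwsupp : (u.1 ^ p).support ⊆ Δ := by
      intro x hx
      by_contra hxΔ
      exact (Perm.mem_support.mp hx) (D.pow_apply_eq_of_centralizes huK hucent hxΔ)
    exact alt_le_of_small_support G (t := r + 1) (by omega) (by rw [hn]; omega) hG hwG hw1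
      ((Finset.card_le_card hwsupp).trans (by rw [hΔ]; omega))

end Cfsg.Agent.S4220
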