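import Mathlib
import Cfsg.Statements.S4227
import Cfsg.Agent.Lib.H1.PCore
import Cfsg.Agent.Lib.H9.PPrimeCore
import Cfsg.Agent.Lib.H22.PPrimeCore
import Cfsg.Agent.Lib.H1.PGroupBasic
import Cfsg.Agent.Lib.H9.FrattiniAction
import Cfsg.Agent.Lib.H16.SolvableCore
import Cfsg.Agent.Lib.H20.AutPrimeOrder
import Cfsg.Agent.Lib.H23.BurnsidePQ
import Cfsg.Agent.S0634

set_option autoImplicit false
open Cfsg

namespace Cfsg.Agent.S4227

/-! ### The `A₄`-computation in a ring -/

lemma ring_core {R : Type*} [Ring R] (X A B : R) (h3 : (3 : R) = 0)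
    (hA2 : A * A = 1) (hB2 : B * B = 1) (hAB : A * B = B * A)
    (hXA : X * A = B * X) (hXB : X * B = A * B * X)
    (hNX : 1 + X + X * X = 0)
    (hNA : 1 + A * X + (A * X) * (A * X) = 0)
    (hNB : 1 + B * X + (B * X) * (B * X) = 0)
    (hNAB : 1 + A * B * X + (A * B * X) * (A * B * X) = 0) : A = 1 := by
  have e1 : (A * X) * (A * X) = A * B * (X * X) := by
    calc (A * X) * (A * X) = A * (X * A) * X := by noncomm_ring
      _ = A * (B * X) * X := by rw [hXA]
      _ = A * B * (X * X) := by noncomm_ring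
  have e2 : (B * X) * (B * X) = A * (X * X) := by
    calc (B * X) * (B * X) = B * (X * B) * X := by noncomm_ring
      _ = B * (A * B * X) * X := by rw [hXB]
      _ = (B * A) * B * (X * X) := by noncomm_ring
      _ = (A * B) * B * (X * X) := by rw [hAB]
      _ = A * (B * B) * (X * X) := by noncomm_ring
      _ = A * (X * X) := by rw [hB2, mul_one]
  have e3 : (A * B * X) * (A * B * X) = B * (X * X) := by
    calc (A * B * X) * (A * B * X) = A * B * (X * A) * B * X := by noncomm_ring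
      _ = A * B * (B * X) * B * X := by rw [hXA]
      _ = A * (B * B) * (X * B) * X := by noncomm_ring
      _ = A * (X * B) * X := by rw [hB2, mul_one]
      _ = A * (A * B * X) * X := by rw [hXB]
      _ = (A * A) * B * (X * X) := by noncomm_ring
      _ = B * (X * X) := by rw [hA2, one_mul]
  rw [e1] at hNA
  rw [e2] at hNB
  rw [e3] at hNAB
  -- sum of the four relations
  have hsum : (1 + 1 + 1 + 1 : R) + (1 + A + B + A * B) * X + (1 + A + B + A * B) * (X * X) = 0 := by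
    have : (1 + 1 + 1 + 1 : R) + (1 + A + B + A * B) * X + (1 + A + B + A * B) * (X * X) =
        (1 + X + X * X) + (1 + A * X + A * B * (X * X)) + (1 + B * X + A * (X * X)) +
          (1 + A * B * X + B * (X * X)) := by noncomm_ring
    rw [this, hNX, hNA, hNB, hNAB]; simp
  have hσ : (1 + A + B + A * B) * (1 + X + X * X) = 0 := by rw [hNX, mul_zero]
  have h4 : (1 + 1 + 1 + 1 : R) = 1 := by
    have : (1 + 1 + 1 + 1 : R) = 3 + 1 := by norm_num
    rw [this, h3, zero_add]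
  have hσ1 : (1 + A + B + A * B) = 1 := by
    have : (1 + A + B + A * B) = (1 + 1 + 1 + 1 : R) - ((1 + 1 + 1 + 1 : R) + (1 + A + B + A * B) * X +
        (1 + A + B + A * B) * (X * X)) + (1 + A + B + A * B) * (1 + X + X * X) := by noncomm_ring
    rw [this, hsum, hσ, h4]; simp
  have h5 : A + B + A * B = 0 := by
    have : A + B + A * B = (1 + A + B + A * B) - 1 := by noncomm_ring
    rw [this, hσ1, sub_self]
  have h6 : 1 + A * B + B = 0 := by
    have : 1 + A * B + B = A * A + A * B + (A * A) * B := by rw [hA2, one_mul]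
    rw [this]
    have : A * A + A * B + (A * A) * B = A * (A + B + A * B) := by noncomm_ring
    rw [this, h5, mul_zero]
  have : A - 1 = (A + B + A * B) - (1 + A * B + B) := by noncomm_ring
  rw [h5, h6, sub_zero] at this
  exact sub_eq_zero.mp this

/-- Automorphisms of a commutative group as elements of the endomorphism ring. -/
def toEnd (W : Type*) [CommGroup W] : MulAut W →* AddMonoid.End (Additive W) where
  toFun α := MonoidHom.toAdditive α.toMonoidHom
  map_one' := rfl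
  map_mul' _ _ := rfl

lemma toEnd_apply {W : Type*} [CommGroup W] (α : MulAut W) (w : W) :
    toEnd W α (Additive.ofMul w) = Additive.ofMul (α w) := rfl

lemma toEnd_injective (W : Type*) [CommGroup W] : Function.Injective (toEnd W) := by
  intro α β h
  ext w
  have := congrArg (fun f => f (Additive.ofMul w)) h
  simpa [toEnd_apply] using this

lemma norm_rel {W : Type*} [CommGroup W] (Y : MulAut W) (h : ∀ w, w * Y w * Y (Y w) = 1) :
    1 + toEnd W Y + toEnd W Y * toEnd W Y = 0 := by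
  apply DFunLike.ext
  intro a
  obtain ⟨w, rfl⟩ := Additive.ofMul.surjective a
  show Additive.ofMul w + toEnd W Y (Additive.ofMul w) +
    toEnd W Y (toEnd W Y (Additive.ofMul w)) = 0
  rw [toEnd_apply, toEnd_apply, ← ofMul_mul, ← ofMul_mul, h w]
  rfl

lemma aut_core {W : Type*} [CommGroup W] (h3 : ∀ w : W, w ^ 3 = 1) (X A B : MulAut W)
    (hA2 : A * A = 1) (hB2 : B * B = 1) (hAB : A * B = B * A) (hXA : X * A = B * X)
    (hXB : X * B = A * B * X)
    (hNX : ∀ w, w * X w * X (X w) = 1)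
    (hNA : ∀ w, w * (A * X) w * (A * X) ((A * X) w) = 1)
    (hNB : ∀ w, w * (B * X) w * (B * X) ((B * X) w) = 1)
    (hNAB : ∀ w, w * (A * B * X) w * (A * B * X) ((A * B * X) w) = 1) : A = 1 := by
  apply toEnd_injective W
  rw [map_one]
  have h3' : (3 : AddMonoid.End (Additive W)) = 0 := by
    apply DFunLike.ext
    intro a
    obtain ⟨w, rfl⟩ := Additive.ofMul.surjective a
    have : ((3 : ℕ) : AddMonoid.End (Additive W)) (Additive.ofMul w) = 3 • Additive.ofMul w :=
      AddMonoid.End.natCast_apply 3 _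
    rw [Nat.cast_ofNat] at this
    rw [this, ← ofMul_pow, h3 w]
    rfl
  refine ring_core (toEnd W X) (toEnd W A) (toEnd W B) h3' ?_ ?_ ?_ ?_ ?_ (norm_rel X hNX) ?_ ?_ ?_
  · rw [← map_mul, hA2, map_one]
  · rw [← map_mul, hB2, map_one]
  · rw [← map_mul, hAB, map_mul]
  · rw [← map_mul, hXA, map_mul]
  · rw [← map_mul, hXB, map_mul, map_mul]
  · have := norm_rel (A * X) hNA
    rwa [map_mul] at this
  · have := norm_rel (B * X) hNB
    rwa [map_mul] at this
  · have := norm_rel (A * B * X) hNAB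
    rwa [map_mul, map_mul] at this

/-! ### Groups of exponent dividing 6 -/

section exp6
variable {H : Type*} [Group H] [Finite H]

lemma card_eq_of_exp6 (h : ∀ x : H, x ^ 6 = 1) : ∃ a b, Nat.card H = 2 ^ a * 3 ^ b := by
  have hn : Nat.card H ≠ 0 := Nat.card_pos.ne'
  obtain ⟨a, m, hm2, hnm⟩ := Nat.exists_eq_pow_mul_and_not_dvd hn 2 (by norm_num)
  have hm0 : m ≠ 0 := by
    rintro rfl
    rw [mul_zero] at hnm
    exact hn hnm
  obtain ⟨b, m', hm3, hmm⟩ := Nat.exists_eq_pow_mul_and_not_dvd hm0 3 (by norm_num)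
  have hm1 : m' = 1 := by
    rw [Nat.eq_one_iff_not_exists_prime_dvd]
    intro q hq hqm
    have hqn : q ∣ Nat.card H := by
      rw [hnm, hmm]
      exact dvd_mul_of_dvd_right (dvd_mul_of_dvd_right hqm _) _
    haveI := Fact.mk hq
    obtain ⟨x, hx⟩ := exists_prime_orderOf_dvd_card' q hqn
    have h6 : q ∣ 2 * 3 := by
      rw [← hx]
      exact orderOf_dvd_of_pow_eq_one (h x)
    rcases (Nat.Prime.dvd_mul hq).mp h6 with h2 | h3
    · have := (Nat.prime_dvd_prime_iff_eq hq Nat.prime_two).mp h2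
      subst this
      exact hm2 (hmm ▸ dvd_mul_of_dvd_right hqm _)
    · have := (Nat.prime_dvd_prime_iff_eq hq Nat.prime_three).mp h3
      subst this
      exact hm3 hqm
  exact ⟨a, b, by rw [hnm, hmm, hm1, mul_one]⟩

lemma isSolvable_of_exp6 (h : ∀ x : H, x ^ 6 = 1) : Group.IsSolvable H := by
  obtain ⟨a, b, hab⟩ := card_eq_of_exp6 h
  exact Cfsg.Agent.Lib.H23.isSolvable_of_card_eq_prime_pow_mul_prime_pow 2 3 a b
    Nat.prime_two Nat.prime_three hab

lemma sq_eq_one_of_two_group (h : ∀ x : H, x ^ 6 = 1) {P : Subgroup H} (hP : IsPGroup 2 P)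
    {x : H} (hx : x ∈ P) : x ^ 2 = 1 := by
  obtain ⟨k, hk⟩ := hP ⟨x, hx⟩
  have hk' : x ^ 2 ^ k = 1 := by
    have := congrArg Subtype.val hk
    simpa using this
  have h1 : orderOf x ∣ 2 ^ k := orderOf_dvd_of_pow_eq_one hk'
  have h2 : orderOf x ∣ 6 := orderOf_dvd_of_pow_eq_one (h x)
  have hc : (orderOf x).Coprime 3 :=
    Nat.Coprime.coprime_dvd_left h1 (Nat.Coprime.pow_left k (by norm_num))
  have h3 : orderOf x ∣ 2 := hc.dvd_of_dvd_mul_right (by
    rw [show 2 * 3 = 6 from rfl]; exact h2)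
  exact orderOf_dvd_iff_pow_eq_one.mp h3

lemma cube_eq_one_of_three_group (h : ∀ x : H, x ^ 6 = 1) {P : Subgroup H} (hP : IsPGroup 3 P)
    {x : H} (hx : x ∈ P) : x ^ 3 = 1 := by
  obtain ⟨k, hk⟩ := hP ⟨x, hx⟩
  have hk' : x ^ 3 ^ k = 1 := by
    have := congrArg Subtype.val hk
    simpa using this
  have h1 : orderOf x ∣ 3 ^ k := orderOf_dvd_of_pow_eq_one hk'
  have h2 : orderOf x ∣ 6 := orderOf_dvd_of_pow_eq_one (h x)
  have hc : (orderOf x).Coprime 2 :=
    Nat.Coprime.coprime_dvd_left h1 (Nat.Coprime.pow_left k (by norm_num))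
  have h3 : orderOf x ∣ 3 := hc.dvd_of_dvd_mul_right (by
    rw [show 3 * 2 = 6 from rfl]; exact h2)
  exact orderOf_dvd_iff_pow_eq_one.mp h3

/-- The case `p = 2`: the Sylow `2`-subgroups are abelian. -/
lemma not_dvd_index_pCore_two (h : ∀ x : H, x ^ 6 = 1) (hO : pPrimeCore 2 H = ⊥) :
    ¬ 2 ∣ (pCore 2 H).index := by
  haveI : Fact (Nat.Prime 2) := ⟨Nat.prime_two⟩
  have hs := isSolvable_of_exp6 h
  have hC := Cfsg.Agent.Lib.H16.centralizer_pCore_le_of_isSolvable 2 hs hO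
  obtain ⟨P⟩ : Nonempty (Sylow 2 H) := inferInstance
  have hle : pCore 2 H ≤ P := Cfsg.Agent.Lib.H1.pCore_le_sylow P
  have hPle : (P : Subgroup H) ≤ pCore 2 H := by
    intro x hx
    apply hC
    refine Subgroup.mem_centralizer_iff.mpr ?_
    intro y hy
    have hyP : y ∈ (P : Subgroup H) := hle hy
    have h1 := sq_eq_one_of_two_group h P.2 hx
    have h2 := sq_eq_one_of_two_group h P.2 hyP
    have h3 := sq_eq_one_of_two_group h P.2 (Subgroup.mul_mem _ hyP hx)
    -- (y x)^2 = 1, x^2 = y^2 = 1 ⇒ y x = x y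
    have e1 : y * x * (y * x) = 1 := by rw [← sq]; exact h3
    have e2 : x * x = 1 := by rw [← sq]; exact h1
    have e3 : y * y = 1 := by rw [← sq]; exact h2
    have hx' : x⁻¹ = x := inv_eq_of_mul_eq_one_right e2
    have hy' : y⁻¹ = y := inv_eq_of_mul_eq_one_right e3
    have hyx : (y * x)⁻¹ = y * x := inv_eq_of_mul_eq_one_right e1
    calc y * x = (y * x)⁻¹ := hyx.symm
      _ = x⁻¹ * y⁻¹ := mul_inv_rev y x
      _ = x * y := by rw [hx', hy']
  have heq : pCore 2 H = P := le_antisymm hle hPle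
  rw [heq]
  exact P.not_dvd_index

end exp6

/-! ### Reduction of `PLengthLE p 1` to an index condition -/

section reduction
variable {G : Type*} [Group G] [Finite G]

lemma pPrimeCore_eq_top_of_not_dvd (p : ℕ) [hp : Fact p.Prime] (M : Subgroup G) [M.Normal]
    (hM : ¬ p ∣ M.index) : pPrimeCore p (G ⧸ M) = ⊤ := by
  rw [eq_top_iff]
  apply le_sSup
  refine ⟨inferInstance, ?_⟩
  rw [Subgroup.card_top, ← Subgroup.index_eq_card]
  exact ((Nat.Prime.coprime_iff_not_dvd hp.out).mpr hM).symm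

lemma pLengthLE_one_of (p : ℕ) [Fact p.Prime]
    (h : ∀ (N : Subgroup G) [N.Normal], pPrimeCore p (G ⧸ N) = ⊥ →
      ¬ p ∣ (pCore p (G ⧸ N)).index) :
    PLengthLE p 1 G := by
  unfold PLengthLE
  have h1 := S0634.upperPSeries_odd (G := G) p 0
  have h2 := S0634.upperPSeries_even (G := G) p 0
  have h3 := S0634.upperPSeries_odd (G := G) p 1
  have hO : pPrimeCore p (G ⧸ (upperPSeries p G (2 * 0 + 1)).1) = ⊥ :=
    S0634.pPrimeCore_quotient_eq_bot_of_eq p _ _ h1
  have hidx := h _ hO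
  have hidx2 : ¬ p ∣ (upperPSeries p G (2 * 1)).1.index := by
    have : (upperPSeries p G (2 * 1)).1 = _ := h2
    rw [this, Subgroup.index_comap_of_surjective _ (QuotientGroup.mk'_surjective _)]
    exact hidx
  rw [h3, pPrimeCore_eq_top_of_not_dvd p _ hidx2, Subgroup.comap_top]

end reduction

/-! ### The case `p = 3` -/

section three
variable {H : Type*} [Group H] [Finite H]

lemma pCore_quotient_pCore (p : ℕ) [Fact p.Prime] :
    haveI : (pCore p H).Normal := Cfsg.Agent.Lib.H1.pCore_normal p H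
    pCore p (H ⧸ pCore p H) = ⊥ := by
  haveI : (pCore p H).Normal := Cfsg.Agent.Lib.H1.pCore_normal p H
  set O := pCore p H with hO
  haveI : (pCore p (H ⧸ O)).Normal := Cfsg.Agent.Lib.H1.pCore_normal p _
  have h1 : IsPGroup p ((pCore p (H ⧸ O)).comap (QuotientGroup.mk' O)) := by
    apply IsPGroup.comap_of_ker_isPGroup (Cfsg.Agent.Lib.H1.pCore_isPGroup p _)
    rw [QuotientGroup.ker_mk']
    exact Cfsg.Agent.Lib.H1.pCore_isPGroup p H
  have h2 : (pCore p (H ⧸ O)).comap (QuotientGroup.mk' O) ≤ O :=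
    Cfsg.Agent.Lib.H1.le_pCore inferInstance h1
  rw [eq_bot_iff]
  intro q hq
  obtain ⟨g, rfl⟩ := QuotientGroup.mk'_surjective O q
  have : g ∈ O := h2 hq
  rw [Subgroup.mem_bot, QuotientGroup.mk'_apply, QuotientGroup.eq_one_iff]
  exact this

lemma pPrimeCore_two_eq_bot {L : Type*} [Group L] [Finite L] (h : ∀ x : L, x ^ 6 = 1)
    (h3 : pCore 3 L = ⊥) : pPrimeCore 2 L = ⊥ := by
  haveI : Fact (Nat.Prime 3) := ⟨Nat.prime_three⟩
  rw [eq_bot_iff, ← h3]
  apply Cfsg.Agent.Lib.H1.le_pCore (Cfsg.Agent.Lib.H22.pPrimeCore_normal 2)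
  obtain ⟨a, b, hab⟩ := card_eq_of_exp6 h
  have h1 : Nat.card (pPrimeCore 2 L) ∣ 2 ^ a * 3 ^ b := hab ▸ Subgroup.card_subgroup_dvd_card _
  have h2 : (Nat.card (pPrimeCore 2 L)).Coprime (2 ^ a) :=
    Nat.Coprime.pow_right a (Cfsg.Agent.Lib.H22.card_pPrimeCore_coprime 2)
  have h4 : Nat.card (pPrimeCore 2 L) ∣ 3 ^ b := h2.dvd_of_dvd_mul_left h1
  obtain ⟨c, _, hc⟩ := (Nat.dvd_prime_pow Nat.prime_three).mp h4
  exact IsPGroup.of_card hc

lemma commute_of_two_group {L : Type*} [Group L] [Finite L] (h : ∀ x : L, x ^ 6 = 1)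
    {P : Subgroup L} (hP : IsPGroup 2 P) {x y : L} (hx : x ∈ P) (hy : y ∈ P) : x * y = y * x := by
  have h1 := sq_eq_one_of_two_group h hP hx
  have h2 := sq_eq_one_of_two_group h hP hy
  have h3 := sq_eq_one_of_two_group h hP (Subgroup.mul_mem _ hx hy)
  have e1 : x * y * (x * y) = 1 := by rw [← sq]; exact h3
  have e2 : x * x = 1 := by rw [← sq]; exact h1
  have e3 : y * y = 1 := by rw [← sq]; exact h2
  have hx' : x⁻¹ = x := inv_eq_of_mul_eq_one_right e2
  have hy' : y⁻¹ = y := inv_eq_of_mul_eq_one_right e3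
  have hxy : (x * y)⁻¹ = x * y := inv_eq_of_mul_eq_one_right e1
  calc x * y = (x * y)⁻¹ := hxy.symm
    _ = y⁻¹ * x⁻¹ := mul_inv_rev x y
    _ = y * x := by rw [hx', hy']

/-- The `A₄`-configuration in a group of exponent 6 with `O_3 = 1` and order divisible by 3. -/
lemma exists_config {L : Type*} [Group L] [Finite L] (h : ∀ x : L, x ^ 6 = 1)
    (h3 : pCore 3 L = ⊥) (hdvd : 3 ∣ Nat.card L) :
    ∃ x a : L, x ^ 3 = 1 ∧ a ≠ 1 ∧ a * a = 1 ∧ (x * a * x⁻¹) * (x * a * x⁻¹) = 1 ∧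
      a * (x * a * x⁻¹) = (x * a * x⁻¹) * a ∧
      x * (x * a * x⁻¹) * x⁻¹ = a * (x * a * x⁻¹) ∧
      (a * x) ^ 3 = 1 ∧ ((x * a * x⁻¹) * x) ^ 3 = 1 ∧ (a * (x * a * x⁻¹) * x) ^ 3 = 1 := by
  haveI : Fact (Nat.Prime 2) := ⟨Nat.prime_two⟩
  haveI : Fact (Nat.Prime 3) := ⟨Nat.prime_three⟩
  have hs := isSolvable_of_exp6 h
  have hO := pPrimeCore_two_eq_bot h h3
  have hC := Cfsg.Agent.Lib.H16.centralizer_pCore_le_of_isSolvable 2 hs hO
  have hTn : (pCore 2 L).Normal := Cfsg.Agent.Lib.H1.pCore_normal 2 L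
  have hTp : IsPGroup 2 (pCore 2 L) := Cfsg.Agent.Lib.H1.pCore_isPGroup 2 L
  obtain ⟨x, hx⟩ := exists_prime_orderOf_dvd_card' 3 hdvd
  have hx3 : x ^ 3 = 1 := by rw [← hx]; exact pow_orderOf_eq_one x
  have hx1 : x ≠ 1 := by
    rintro rfl
    rw [orderOf_one] at hx
    norm_num at hx
  have hxT : x ∉ pCore 2 L := by
    intro hxT
    have h2 := sq_eq_one_of_two_group h hTp hxT
    apply hx1
    calc x = x ^ 3 * (x ^ 2)⁻¹ := by group
      _ = 1 := by rw [hx3, h2]; simp
  have hxC : x ∉ Subgroup.centralizer (pCore 2 L : Set L) := fun hc => hxT (hC hc)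
  obtain ⟨t, htT, htx⟩ : ∃ t ∈ pCore 2 L, t * x ≠ x * t := by
    by_contra hcon
    push Not at hcon
    exact hxC (Subgroup.mem_centralizer_iff.mpr hcon)
  -- the three conjugates of t
  have ht1T : x * t * x⁻¹ ∈ pCore 2 L := hTn.conj_mem t htT x
  have ht2T : x * (x * t * x⁻¹) * x⁻¹ ∈ pCore 2 L := hTn.conj_mem _ ht1T x
  have hx3' : x * x * x = 1 := by rw [← hx3, pow_succ, pow_succ, pow_one]
  have hxinv : x⁻¹ = x * x := by
    rw [inv_eq_iff_mul_eq_one, ← mul_assoc]; exact hx3'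
  have ht3 : x * (x * (x * t * x⁻¹) * x⁻¹) * x⁻¹ = t := by
    have : x * (x * (x * t * x⁻¹) * x⁻¹) * x⁻¹ = (x * x * x) * t * (x * x * x)⁻¹ := by group
    rw [this, hx3']; group
  set t1 := x * t * x⁻¹ with ht1
  set t2 := x * t1 * x⁻¹ with ht2
  have sq0 : t * t = 1 := by rw [← sq]; exact sq_eq_one_of_two_group h hTp htT
  have sq1 : t1 * t1 = 1 := by rw [← sq]; exact sq_eq_one_of_two_group h hTp ht1T
  have sq2 : t2 * t2 = 1 := by rw [← sq]; exact sq_eq_one_of_two_group h hTp ht2T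
  have c01 : t * t1 = t1 * t := commute_of_two_group h hTp htT ht1T
  have c02 : t * t2 = t2 * t := commute_of_two_group h hTp htT ht2T
  have c12 : t1 * t2 = t2 * t1 := commute_of_two_group h hTp ht1T ht2T
  -- a = t * t1, b = t1 * t2
  have hb : x * (t * t1) * x⁻¹ = t1 * t2 := by
    have : x * (t * t1) * x⁻¹ = (x * t * x⁻¹) * (x * t1 * x⁻¹) := by group
    exact this
  have hxb : x * (t1 * t2) * x⁻¹ = t2 * t := by
    have : x * (t1 * t2) * x⁻¹ = (x * t1 * x⁻¹) * (x * t2 * x⁻¹) := by group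
    rw [this, ← ht2, ht3]
  refine ⟨x, t * t1, hx3, ?_, ?_, ?_, ?_, ?_, ?_, ?_, ?_⟩
  · intro hone
    apply htx
    have : t1 = t := by
      have h1 : t1 = t⁻¹ := eq_inv_of_mul_eq_one_right hone
      rw [h1]; exact inv_eq_of_mul_eq_one_right sq0
    rw [ht1] at this
    calc t * x = (x * t * x⁻¹) * x := by rw [this]
      _ = x * t := by group
  · calc t * t1 * (t * t1) = t * (t1 * t) * t1 := by group
      _ = t * (t * t1) * t1 := by rw [c01]
      _ = (t * t) * (t1 * t1) := by group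
      _ = 1 := by rw [sq0, sq1, one_mul]
  · rw [hb]
    calc t1 * t2 * (t1 * t2) = t1 * (t2 * t1) * t2 := by group
      _ = t1 * (t1 * t2) * t2 := by rw [c12]
      _ = (t1 * t1) * (t2 * t2) := by group
      _ = 1 := by rw [sq1, sq2, one_mul]
  · rw [hb]
    calc t * t1 * (t1 * t2) = t * (t1 * t1) * t2 := by group
      _ = t * t2 := by rw [sq1, mul_one]
      _ = t2 * t := c02
      _ = t2 * (t1 * t1) * t := by rw [sq1, mul_one]
      _ = (t2 * t1) * (t1 * t) := by group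
      _ = (t1 * t2) * (t * t1) := by rw [c12, c01]
  · rw [hb, hxb]
    calc t2 * t = t * t2 := c02.symm
      _ = t * (t1 * t1) * t2 := by rw [sq1, mul_one]
      _ = t * t1 * (t1 * t2) := by group
  · -- (a x)^3 = a * b * (x b x⁻¹) * x^3
    have : (t * t1 * x) ^ 3 = (t * t1) * (x * (t * t1) * x⁻¹) *
        (x * (x * (t * t1) * x⁻¹) * x⁻¹) * (x * x * x) := by
      rw [pow_succ, pow_succ, pow_one]; group
    rw [this, hb, hxb, hx3', mul_one]
    calc t * t1 * (t1 * t2) * (t2 * t) = t * (t1 * t1) * (t2 * t2) * t := by group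
      _ = 1 := by rw [sq1, sq2, mul_one, mul_one, sq0]
  · rw [hb]
    have : (t1 * t2 * x) ^ 3 = (t1 * t2) * (x * (t1 * t2) * x⁻¹) *
        (x * (x * (t1 * t2) * x⁻¹) * x⁻¹) * (x * x * x) := by
      rw [pow_succ, pow_succ, pow_one]; group
    have hxc : x * (t2 * t) * x⁻¹ = t * t1 := by
      have : x * (t2 * t) * x⁻¹ = (x * t2 * x⁻¹) * (x * t * x⁻¹) := by group
      rw [this, ht3]
    rw [this, hxb, hxc, hx3', mul_one]
    calc t1 * t2 * (t2 * t) * (t * t1) = t1 * (t2 * t2) * (t * t) * t1 := by group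
      _ = 1 := by rw [sq2, sq0, mul_one, mul_one, sq1]
  · rw [hb]
    have hab : t * t1 * (t1 * t2) = t * t2 := by
      calc t * t1 * (t1 * t2) = t * (t1 * t1) * t2 := by group
        _ = t * t2 := by rw [sq1, mul_one]
    rw [hab]
    have : (t * t2 * x) ^ 3 = (t * t2) * (x * (t * t2) * x⁻¹) *
        (x * (x * (t * t2) * x⁻¹) * x⁻¹) * (x * x * x) := by
      rw [pow_succ, pow_succ, pow_one]; group
    have hxc : x * (t * t2) * x⁻¹ = t1 * t := by
      have : x * (t * t2) * x⁻¹ = (x * t * x⁻¹) * (x * t2 * x⁻¹) := by group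
      rw [this, ht3]
    have hxd : x * (t1 * t) * x⁻¹ = t2 * t1 := by
      have : x * (t1 * t) * x⁻¹ = (x * t1 * x⁻¹) * (x * t * x⁻¹) := by group
      rw [this]
    rw [this, hxc, hxd, hx3', mul_one]
    calc t * t2 * (t1 * t) * (t2 * t1) = t * (t2 * t1) * (t * t2) * t1 := by group
      _ = t * (t1 * t2) * (t2 * t) * t1 := by rw [c12, c02]
      _ = t * t1 * (t2 * t2) * t * t1 := by group
      _ = t * (t1 * t) * t1 := by rw [sq2, mul_one]; group
      _ = t * (t * t1) * t1 := by rw [c01]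
      _ = (t * t) * (t1 * t1) := by group
      _ = 1 := by rw [sq0, sq1, one_mul]

lemma of_surjective (Q : Type*) [Group Q] : Function.Surjective (Abelianization.of (G := Q)) :=
  fun w => by
    induction w using QuotientGroup.induction_on with
    | H x => exact ⟨x, rfl⟩

/-- The action of `H` on `Q / Q'` for a normal subgroup `Q`. -/
noncomputable def phi (Q : Subgroup H) [Q.Normal] : H →* MulAut (Abelianization Q) where
  toFun g := (MulAut.conjNormal g : MulAut Q).abelianizationCongr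
  map_one' := by
    ext w
    obtain ⟨v, rfl⟩ := of_surjective Q w
    rw [abelianizationCongr_of, map_one]
    rfl
  map_mul' g h := by
    ext w
    obtain ⟨v, rfl⟩ := of_surjective Q w
    rw [abelianizationCongr_of, map_mul, MulAut.mul_apply, MulAut.mul_apply,
      abelianizationCongr_of, abelianizationCongr_of]

lemma phi_of (Q : Subgroup H) [Q.Normal] (g : H) (v : Q) :
    phi Q g (Abelianization.of v) = Abelianization.of (MulAut.conjNormal g v) :=
  abelianizationCongr_of _ _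

lemma phi_eq_one_of_mem (Q : Subgroup H) [Q.Normal] {g : H} (hg : g ∈ Q) : phi Q g = 1 := by
  ext w
  obtain ⟨v, rfl⟩ := of_surjective Q w
  rw [phi_of, MulAut.one_apply]
  have : MulAut.conjNormal g v = ⟨g, hg⟩ * v * ⟨g, hg⟩⁻¹ := by
    apply Subtype.ext
    simp [MulAut.conjNormal_apply]
  rw [this, map_mul, map_mul, map_inv, mul_comm, inv_mul_cancel_left]

lemma phi_eq_of_mk_eq (Q : Subgroup H) [Q.Normal] {g g' : H}
    (hgg : (g : H ⧸ Q) = (g' : H ⧸ Q)) : phi Q g = phi Q g' := by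
  have h1 : g⁻¹ * g' ∈ Q := QuotientGroup.eq.mp hgg
  have h2 : g' = g * (g⁻¹ * g') := by group
  rw [h2, map_mul, phi_eq_one_of_mem Q h1, mul_one]

lemma cube_eq_one_of_mk (h : ∀ x : H, x ^ 6 = 1) (Q : Subgroup H) [Q.Normal] (hQ : IsPGroup 3 Q)
    {y : H} (hy : ((y : H ⧸ Q)) ^ 3 = 1) : y ^ 3 = 1 := by
  have h1 : y ^ 3 ∈ Q := by
    rw [← QuotientGroup.eq_one_iff, QuotientGroup.mk_pow]
    exact hy
  have h2 : (y ^ 3) ^ 3 = 1 := cube_eq_one_of_three_group h hQ h1
  have h3 : (y ^ 3) ^ 2 = 1 := by rw [← pow_mul]; exact h y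
  calc y ^ 3 = (y ^ 3) ^ 3 * ((y ^ 3) ^ 2)⁻¹ := by group
    _ = 1 := by rw [h2, h3]; simp

lemma norm_cond (h : ∀ x : H, x ^ 6 = 1) (Q : Subgroup H) [Q.Normal] (hQ : IsPGroup 3 Q) {y : H}
    (hy : ((y : H ⧸ Q)) ^ 3 = 1) (w : Abelianization Q) :
    w * phi Q y w * phi Q y (phi Q y w) = 1 := by
  obtain ⟨v, rfl⟩ := of_surjective Q w
  rw [phi_of, phi_of, ← map_mul, ← map_mul]
  have hy3 : y ^ 3 = 1 := cube_eq_one_of_mk h Q hQ hy
  have hvy : ((((v : H) * y : H) : H ⧸ Q)) ^ 3 = 1 := by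
    rw [QuotientGroup.mk_mul, (QuotientGroup.eq_one_iff (v : H)).mpr v.2, one_mul]
    exact hy
  have hvy3 : ((v : H) * y) ^ 3 = 1 := cube_eq_one_of_mk h Q hQ hvy
  have key : (v : H) * (y * v * y⁻¹) * (y * (y * v * y⁻¹) * y⁻¹) = 1 := by
    have e : ((v : H) * y) ^ 3 = (v : H) * (y * v * y⁻¹) * (y * (y * v * y⁻¹) * y⁻¹) * y ^ 3 := by
      rw [pow_succ, pow_succ, pow_one, pow_succ, pow_succ, pow_one]; group
    rw [hvy3, hy3, mul_one] at e
    exact e.symm
  have : v * MulAut.conjNormal y v * MulAut.conjNormal y (MulAut.conjNormal y v) = 1 := by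
    apply Subtype.ext
    simp only [Subgroup.coe_mul, MulAut.conjNormal_apply, Subgroup.coe_one]
    exact key
  rw [this, map_one]

/-- The case `p = 3`. -/
lemma not_dvd_index_pCore_three (h : ∀ x : H, x ^ 6 = 1) (hO : pPrimeCore 3 H = ⊥) :
    ¬ 3 ∣ (pCore 3 H).index := by
  haveI : Fact (Nat.Prime 3) := ⟨Nat.prime_three⟩
  haveI hQn : (pCore 3 H).Normal := Cfsg.Agent.Lib.H1.pCore_normal 3 H
  have hQ : IsPGroup 3 (pCore 3 H) := Cfsg.Agent.Lib.H1.pCore_isPGroup 3 H
  have hs := isSolvable_of_exp6 h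
  have hC := Cfsg.Agent.Lib.H16.centralizer_pCore_le_of_isSolvable 3 hs hO
  intro hdvd
  have hL6 : ∀ x : H ⧸ pCore 3 H, x ^ 6 = 1 := by
    intro x
    obtain ⟨g, rfl⟩ := QuotientGroup.mk_surjective x
    rw [← QuotientGroup.mk_pow, h g]
    rfl
  have hL3 : pCore 3 (H ⧸ pCore 3 H) = ⊥ := pCore_quotient_pCore 3
  have hLd : 3 ∣ Nat.card (H ⧸ pCore 3 H) := by
    rw [← Subgroup.index_eq_card]; exact hdvd
  obtain ⟨xb, ab, hx3, ha1, haa, hbb, hab, hxb, hN1, hN2, hN3⟩ := exists_config hL6 hL3 hLd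
  obtain ⟨x, rfl⟩ := QuotientGroup.mk_surjective xb
  obtain ⟨a, rfl⟩ := QuotientGroup.mk_surjective ab
  have hW3 : ∀ w : Abelianization (pCore 3 H), w ^ 3 = 1 := by
    intro w
    obtain ⟨v, rfl⟩ := of_surjective _ w
    rw [← map_pow]
    have : v ^ 3 = 1 := by
      apply Subtype.ext
      rw [Subgroup.coe_pow, Subgroup.coe_one]
      exact cube_eq_one_of_three_group h hQ v.2
    rw [this, map_one]
  have hA1 : phi (pCore 3 H) a = 1 := by
    refine aut_core hW3 (phi _ x) (phi _ a) (phi _ (x * a * x⁻¹)) ?_ ?_ ?_ ?_ ?_ ?_ ?_ ?_ ?_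
    · rw [← map_mul, ← map_one (phi (pCore 3 H))]
      apply phi_eq_of_mk_eq
      exact_mod_cast haa
    · rw [← map_mul, ← map_one (phi (pCore 3 H))]
      apply phi_eq_of_mk_eq
      exact_mod_cast hbb
    · rw [← map_mul, ← map_mul]
      apply phi_eq_of_mk_eq
      exact_mod_cast hab
    · rw [← map_mul, ← map_mul]
      congr 1
      group
    · rw [← map_mul, ← map_mul, ← map_mul]
      apply phi_eq_of_mk_eq
      have : ((x : H ⧸ pCore 3 H)) * ((x : H ⧸ pCore 3 H) * a * (x : H ⧸ pCore 3 H)⁻¹) =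
          (a : H ⧸ pCore 3 H) * ((x : H ⧸ pCore 3 H) * a * (x : H ⧸ pCore 3 H)⁻¹) * x := by
        rw [← hxb]; group
      exact_mod_cast this
    · exact norm_cond h _ hQ hx3
    · intro w
      rw [← map_mul]
      exact norm_cond h _ hQ (y := a * x) (by exact_mod_cast hN1) w
    · intro w
      rw [← map_mul]
      exact norm_cond h _ hQ (y := x * a * x⁻¹ * x) (by exact_mod_cast hN2) w
    · intro w
      rw [← map_mul, ← map_mul]
      exact norm_cond h _ hQ (y := a * (x * a * x⁻¹) * x) (by exact_mod_cast hN3) w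
  -- a' = a ^ 3 is a 2-element acting trivially on Q / Q'
  have hphi : ∀ c ∈ Subgroup.zpowers (a ^ 3), phi (pCore 3 H) c = 1 := by
    rintro c ⟨n, rfl⟩
    rw [map_zpow, map_pow, hA1, one_pow, one_zpow]
  have hcent : ∀ q ∈ pCore 3 H, a ^ 3 * q = q * a ^ 3 := by
    apply Cfsg.Agent.Lib.H9.commute_of_commutator_mem_frattini hQ
    · rw [Subgroup.normalizer_eq_top]; exact Subgroup.mem_top _
    · have h2 : (a ^ 3) ^ 2 = 1 := by rw [← pow_mul]; exact h a
      have : orderOf (a ^ 3) ∣ 2 := orderOf_dvd_of_pow_eq_one h2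
      exact Nat.Coprime.coprime_dvd_left this (by norm_num)
    · intro c hc q hq
      have h1 := hphi c hc
      have h2 : phi (pCore 3 H) c (Abelianization.of ⟨q, hq⟩) = Abelianization.of ⟨q, hq⟩ := by
        rw [h1]; rfl
      rw [phi_of] at h2
      have h3 : (MulAut.conjNormal c (⟨q, hq⟩ : pCore 3 H)) * (⟨q, hq⟩ : pCore 3 H)⁻¹ ∈
          commutator (pCore 3 H) := by
        rw [← Abelianization.ker_of, MonoidHom.mem_ker, map_mul, map_inv, h2, mul_inv_cancel]
      have h4 := Cfsg.Agent.Lib.H1.isPGroup_commutator_le_frattini hQ h3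
      refine ⟨_, h4, ?_⟩
      simp [MulAut.conjNormal_apply]
  have haQ : a ^ 3 ∈ pCore 3 H := by
    apply hC
    refine Subgroup.mem_centralizer_iff.mpr ?_
    intro q hq
    exact (hcent q hq).symm
  have h5 : ((a : H ⧸ pCore 3 H)) ^ 3 = 1 := by
    rw [← QuotientGroup.mk_pow]
    exact (QuotientGroup.eq_one_iff _).mpr haQ
  apply ha1
  calc (a : H ⧸ pCore 3 H) = (a : H ⧸ pCore 3 H) ^ 3 * ((a : H ⧸ pCore 3 H) * a)⁻¹ := by group
    _ = 1 := by rw [h5, haa]; simp

end three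

/-- A finite group in which every element has order dividing `6` has `2`-length at most `1` and `3`-length at most `1`. -/
theorem result {G : Type*} [Group G] [Finite G] (h : ∀ x : G, x ^ 6 = 1) : Cfsg.PLengthLE 2 1 G ∧ Cfsg.PLengthLE 3 1 G := by
  haveI : Fact (Nat.Prime 2) := ⟨Nat.prime_two⟩
  haveI : Fact (Nat.Prime 3) := ⟨Nat.prime_three⟩
  have hq : ∀ (N : Subgroup G) [N.Normal], ∀ x : G ⧸ N, x ^ 6 = 1 := by
    intro N _ x
    obtain ⟨g, rfl⟩ := QuotientGroup.mk_surjective x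
    rw [← QuotientGroup.mk_pow, h g]
    rfl
  constructor
  · apply pLengthLE_one_of 2
    intro N _ hO
    exact not_dvd_index_pCore_two (hq N) hO
  · apply pLengthLE_one_of 3
    intro N _ hO
    exact not_dvd_index_pCore_three (hq N) hO

end Cfsg.Agent.S4227
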