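import Cfsg.Statements.S4230

set_option autoImplicit false
open Cfsg

namespace Cfsg.Agent.S4230

open Polynomial

theorem dvd_iff_isRoot (p q f : ℕ) [Fact p.Prime] :
    ((p : ℤ) ∣ (cyclotomic f ℤ).eval (q : ℤ)) ↔ IsRoot (cyclotomic f (ZMod p)) (q : ZMod p) := by
  rw [← ZMod.intCast_zmod_eq_zero_iff_dvd, IsRoot.def]
  have := cyclotomic.eval_apply (q : ℤ) f (Int.castRingHom (ZMod p))
  simp only [eq_intCast, Int.cast_natCast] at this
  rw [this]

theorem key (p q : ℕ) [Fact p.Prime] (m j : ℕ) (hm : ¬ p ∣ m) :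
    ((p : ℤ) ∣ (cyclotomic (p ^ j * m) ℤ).eval (q : ℤ)) ↔ orderOf (q : ZMod p) = m := by
  rw [dvd_iff_isRoot]
  haveI : NeZero ((m : ℕ) : ZMod p) := ⟨by
    intro h
    rw [ZMod.natCast_eq_zero_iff] at h
    exact hm h⟩
  have h0 : IsRoot (cyclotomic m (ZMod p)) (q : ZMod p) ↔ orderOf (q : ZMod p) = m := by
    rw [isRoot_cyclotomic_iff, IsPrimitiveRoot.iff_orderOf]
  rcases Nat.eq_zero_or_pos j with hj | hj
  · subst hj
    simpa using h0
  · rw [cyclotomic_mul_prime_pow_eq (ZMod p) hm hj, ← h0, IsRoot.def, IsRoot.def, eval_pow]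
    have hpos : p ^ j - p ^ (j - 1) ≠ 0 := by
      have : p ^ (j - 1) < p ^ j :=
        Nat.pow_lt_pow_right (Fact.out : p.Prime).one_lt (by omega)
      omega
    exact pow_eq_zero_iff hpos

/-- Let p be an odd prime, q a natural number not divisible by p, and e the multiplicative order of q modulo p. For a natural number f, p divides the value at q of the f-th cyclotomic polynomial if and only if f = e·p^j for some j ≥ 0. -/
theorem result (p q f : ℕ) (hp : p.Prime) (hp2 : p ≠ 2) (hpq : ¬ p ∣ q) :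
    ((p : ℤ) ∣ (Polynomial.cyclotomic f ℤ).eval (q : ℤ)) ↔ ∃ j : ℕ, f = orderOf (q : ZMod p) * p ^ j := by
  haveI : Fact p.Prime := ⟨hp⟩
  have hq0 : (q : ZMod p) ≠ 0 := by
    intro h
    rw [ZMod.natCast_eq_zero_iff] at h
    exact hpq h
  have hpow : (q : ZMod p) ^ (p - 1) = 1 := ZMod.pow_card_sub_one_eq_one hq0
  have hedvd : orderOf (q : ZMod p) ∣ p - 1 := orderOf_dvd_of_pow_eq_one hpow
  have hp1 : 0 < p - 1 := by have := hp.two_le; omega
  have hepos : 0 < orderOf (q : ZMod p) := Nat.pos_of_dvd_of_pos hedvd hp1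
  have hele : orderOf (q : ZMod p) ≤ p - 1 := Nat.le_of_dvd hp1 hedvd
  have hpe : ¬ p ∣ orderOf (q : ZMod p) := by
    intro h
    have := Nat.le_of_dvd hepos h
    omega
  constructor
  · intro h
    rcases Nat.eq_zero_or_pos f with hf | hf
    · subst hf
      simp only [cyclotomic_zero, eval_one] at h
      exfalso
      have := Int.natAbs_dvd_natAbs.mpr h
      simp at this
      exact hp.one_lt.ne' this
    · obtain ⟨j, m, hm, hfm⟩ := Nat.exists_eq_pow_mul_and_not_dvd hf.ne' p hp.ne_one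
      rw [hfm, key p q m j hm] at h
      exact ⟨j, by rw [hfm, h, mul_comm]⟩
  · rintro ⟨j, hj⟩
    rw [hj, mul_comm, key p q _ j hpe]

end Cfsg.Agent.S4230
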