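import Cfsg.Statements.S4231
import Cfsg.Agent.Lib.H20.AltPQ2

set_option autoImplicit false
open Cfsg

namespace Cfsg.Agent.S4231

open Cfsg.Agent.Lib.H20.AltPQ in
theorem aux (n : ℕ) (hn : 5 ≤ n) (G : Subgroup (MulAut (alternatingGroup (Fin n))))
    (hG : (MulAut.conj : alternatingGroup (Fin n) →* MulAut (alternatingGroup (Fin n))).range ≤ G)
    (p q : ℕ) (hp : p.Prime) (hq : q.Prime) (hlt : p < q) [Fact q.Prime] (Q : Sylow q G)
    (hQ : ¬ IsMulCommutative (Q : Subgroup G)) : ∃ g : G, orderOf g = p * q := by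
  have hq3 : 3 ≤ q := by have := hp.two_le; omega
  have hq2 : q ≠ 2 := by omega
  -- `q ^ 2 ≤ n`
  have hqn : q ^ 2 ≤ n := by
    by_contra hcon
    push Not at hcon
    apply hQ
    have hQ0 : IsPGroup q ((Q : Subgroup G).map G.subtype) := Q.isPGroup'.map _
    refine ⟨⟨fun a b => ?_⟩⟩
    apply Subtype.ext
    apply Subtype.ext
    have ha : ((a : G) : MulAut (alternatingGroup (Fin n))) ∈ (Q : Subgroup G).map G.subtype :=
      ⟨(a : G), a.2, rfl⟩
    have hb : ((b : G) : MulAut (alternatingGroup (Fin n))) ∈ (Q : Subgroup G).map G.subtype :=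
      ⟨(b : G), b.2, rfl⟩
    exact aut_pgroup_comm hn hq hcon (fun _ => hq2) _ hQ0 _ _ ha hb
  have hq9 : 3 * q ≤ q ^ 2 := by rw [pow_two]; exact Nat.mul_le_mul_right q hq3
  -- an even permutation of order `p * q`
  obtain ⟨g, hgA, hgo⟩ : ∃ g : Equiv.Perm (Fin n), g ∈ alternatingGroup (Fin n) ∧
      orderOf g = p * q := by
    by_cases hp2 : p = 2
    · subst hp2
      exact exists_orderOf_eq_two_mul hq hq2 (by omega)
    · exact exists_orderOf_eq_mul_of_odd hp hq (by omega) hp2 hq2 (by omega)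
  let x : alternatingGroup (Fin n) := ⟨g, hgA⟩
  have hxG : MulAut.conj x ∈ G := hG ⟨x, rfl⟩
  refine ⟨⟨MulAut.conj x, hxG⟩, ?_⟩
  rw [Subgroup.orderOf_mk, orderOf_injective _ (conj_alternating_injective (by omega)) x,
    Subgroup.orderOf_mk, hgo]

/-- Let n ≥ 5 and let G be a group of automorphisms of the alternating group of degree n containing all inner automorphisms. If p ≠ q are primes and G has no element of order pq, then every Sylow p-subgroup of G is abelian or every Sylow q-subgroup of G is abelian. -/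
theorem result (n : ℕ) (hn : 5 ≤ n) (G : Subgroup (MulAut (alternatingGroup (Fin n))))
    (hG : (MulAut.conj : alternatingGroup (Fin n) →* MulAut (alternatingGroup (Fin n))).range ≤ G)
    (p q : ℕ) [Fact p.Prime] [Fact q.Prime] (hpq : p ≠ q) (h : ∀ g : G, orderOf g ≠ p * q) :
    (∀ P : Sylow p G, IsMulCommutative (P : Subgroup G)) ∨ (∀ Q : Sylow q G, IsMulCommutative (Q : Subgroup G)) := by
  by_contra hcon
  rw [not_or] at hcon
  obtain ⟨hP, hQ⟩ := hcon
  push Not at hP hQ
  obtain ⟨P, hP⟩ := hP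
  obtain ⟨Q, hQ⟩ := hQ
  rcases lt_or_gt_of_ne hpq with hlt | hlt
  · obtain ⟨g, hg⟩ := aux n hn G hG p q (Fact.out) (Fact.out) hlt Q hQ
    exact h g hg
  · obtain ⟨g, hg⟩ := aux n hn G hG q p (Fact.out) (Fact.out) hlt P hP
    exact h g (by rw [hg, mul_comm])

end Cfsg.Agent.S4231
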