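import Cfsg.Statements.S4234
import Mathlib
import Cfsg.Agent.Lib.H21.NormMax
import Cfsg.Agent.Lib.H21.NormMaxProd
import Cfsg.Agent.Lib.H21.NormMaxSL2
import Cfsg.Agent.Lib.H21.PSL13

set_option autoImplicit false
open Cfsg

namespace Cfsg.Agent.S4234

open Cfsg.Agent.Lib.H21.NormMax Cfsg.Agent.Lib.H21.PSL13

/-- Let K be isomorphic to PSL(2, 13) or to SL(2, 13) and let S be a finite abelian group of order coprime to the order of K. Then in the direct product K × S every subgroup that is not normal has a normalizer that is a maximal subgroup. -/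
theorem result {K S : Type*} [Group K] [CommGroup S] [Finite K] [Finite S]
    (hK : Nonempty (K ≃* Matrix.ProjectiveSpecialLinearGroup (Fin 2) (ZMod 13)) ∨
      Nonempty (K ≃* Matrix.SpecialLinearGroup (Fin 2) (ZMod 13)))
    (hKS : (Nat.card K).Coprime (Nat.card S)) (H : Subgroup (K × S)) (hH : ¬ H.Normal) :
    IsCoatom (Subgroup.normalizer (H : Set (K × S))) := by
  haveI : Fact (Nat.Prime 13) := ⟨by norm_num⟩
  have hF : Fintype.card (ZMod 13) = 13 := ZMod.card 13
  have hP : NormMax (Matrix.ProjectiveSpecialLinearGroup (Fin 2) (ZMod 13)) :=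
    normMax_psl13 (F := ZMod 13) hF
  have h2 : (2 : ZMod 13) ≠ 0 := by
    intro h
    have := (ZMod.natCast_eq_zero_iff 2 13).mp (by exact_mod_cast h)
    norm_num at this
  have hS : NormMax (Matrix.SpecialLinearGroup (Fin 2) (ZMod 13)) := normMax_sl2 h2 hP
  have hKn : NormMax K := by
    rcases hK with ⟨⟨e⟩⟩ | ⟨⟨e⟩⟩
    · exact normMax_of_mulEquiv e hP
    · exact normMax_of_mulEquiv e hS
  exact (normMax_prod hKS hKn).isCoatom_normalizer H hH

end Cfsg.Agent.S4234
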