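import Cfsg.Statements.S4236
import Mathlib
import Cfsg.Agent.Lib.H21.TwoP1d

set_option autoImplicit false
open Cfsg

namespace Cfsg.Agent.S4236

open Cfsg.Agent.Lib.H21.TwoP1

universe u

instance fact17 : Fact (Nat.Prime 17) := ⟨by norm_num⟩
instance fact5 : Fact (Nat.Prime 5) := ⟨by norm_num⟩

/-- There is no minimal group with exactly `35` Sylow `17`-subgroups. -/
theorem no_minCE {G : Type u} [Group G] [Finite G] (h : MinCE 17 G) : False := by
  obtain ⟨e, he, hcard⟩ := h.exists_card (by norm_num)
  have hodd := h.odd_card (by norm_num)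
  have he16 : e ∣ 16 := he
  have hle : e ≤ 16 := Nat.le_of_dvd (by norm_num) he16
  obtain ⟨L⟩ : Nonempty (Sylow 5 G) := inferInstance
  have key : ∀ (h5 : 5 ∣ Nat.card G) (h25 : ¬ 5 ^ 2 ∣ Nat.card G)
      (hcop : Nat.Coprime (5 - 1) (Nat.card G)), False := by
    intro h5 h25 hcop
    have hL := sylow_card_eq_prime L h5 h25
    obtain ⟨M, hMn, hMi⟩ := exists_normal_index_of_sylow_prime_card L hL hcop
    haveI := hMn
    apply h.false_of_normal M
    · intro htop
      rw [htop, Subgroup.index_top] at hMi
      omega
    · rw [hMi]; norm_num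
  rw [hcard] at hodd key
  have he1 : e = 1 := by
    rcases Nat.even_or_odd e with hev | hod
    · exfalso
      rw [← Nat.not_even_iff_odd] at hodd
      apply hodd
      exact (hev.mul_left 17).mul_left _
    · interval_cases e <;> first | rfl | (exfalso; revert hod; decide) | (exfalso; revert he16; decide)
  subst he1
  exact key (by norm_num) (by norm_num) (by norm_num)

/-- No finite group has exactly 35 Sylow 17-subgroups. -/
theorem result {G : Type*} [Group G] [Finite G] : Nat.card (Sylow 17 G) ≠ 35 := by
  have := card_sylow_ne_of_no_minCE 17 (fun G _ _ h => no_minCE h) (Nat.card G) G rfl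
  exact this

end Cfsg.Agent.S4236
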