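import Cfsg.Statements.S4237
import Cfsg.Agent.Lib.H26.KulHall
import Cfsg.Agent.Lib.H26.KulOdd

set_option autoImplicit false
open Cfsg

namespace Cfsg.Agent.S4237

/-- Let G be a finite group, p a prime and a a natural number such that p^(a+1) divides the order of G. Then the number of subgroups of G of order p^a is congruent to 1 or to 1 + p modulo p². -/
theorem result {G : Type*} [Group G] [Finite G] (p a : ℕ) (hp : p.Prime) (hdvd : p ^ (a + 1) ∣ Nat.card G) :
    Nat.card {H : Subgroup G // Nat.card H = p ^ a} ≡ 1 [MOD p ^ 2] ∨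
      Nat.card {H : Subgroup G // Nat.card H = p ^ a} ≡ 1 + p [MOD p ^ 2] := by
  haveI : Fact p.Prime := ⟨hp⟩
  by_cases hp2 : p = 2
  · -- Frobenius: the number is odd
    subst hp2
    have h1 := Cfsg.Agent.Lib.H17.Wielandt.card_subgroups_modEq_one (G := G) 2 a
      (dvd_trans (pow_dvd_pow 2 (Nat.le_succ a)) hdvd)
    unfold Nat.ModEq at h1 ⊢
    have h2 : Nat.card {H : Subgroup G // Nat.card H = 2 ^ a} % 4 = 1 ∨
        Nat.card {H : Subgroup G // Nat.card H = 2 ^ a} % 4 = 3 := by omega
    rcases h2 with h2 | h2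
    · left; show _ % 2 ^ 2 = 1 % 2 ^ 2; norm_num; exact h2
    · right; show _ % 2 ^ 2 = (1 + 2) % 2 ^ 2; norm_num; exact h2
  · obtain ⟨P⟩ : Nonempty (Sylow p G) := inferInstance
    have h1 := Cfsg.Agent.Lib.H26.Kul.card_subN_modEq_sylow p P a hdvd
    have hPcard : Nat.card (P : Subgroup G) = p ^ ((Nat.card G).factorization p) :=
      P.card_eq_multiplicity
    have han : a + 1 ≤ (Nat.card G).factorization p :=
      (hp.pow_dvd_iff_le_factorization Nat.card_pos.ne').mp hdvd
    by_cases hcyc : IsCyclic (P : Subgroup G)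
    · left
      refine h1.trans ?_
      rw [Cfsg.Agent.Lib.H26.Kul.card_sk_of_isCyclic p a
        (by rw [hPcard]; exact pow_dvd_pow p (by omega))]
    · rcases Nat.eq_zero_or_pos a with ha | ha
      · left
        refine h1.trans ?_
        subst ha
        have : Nat.card {K : Subgroup (P : Subgroup G) // Nat.card K = p ^ 0} = 1 := by
          rw [Nat.card_eq_one_iff_unique]
          refine ⟨⟨fun K₁ K₂ => ?_⟩, ⟨⟨⊥, by simp⟩⟩⟩
          apply Subtype.ext
          have h₁ : Nat.card K₁.1 = 1 := K₁.2.trans (pow_zero p)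
          have h₂ : Nat.card K₂.1 = 1 := K₂.2.trans (pow_zero p)
          rw [Subgroup.card_eq_one] at h₁ h₂
          rw [h₁, h₂]
        rw [this]
      · right
        refine h1.trans ?_
        exact Cfsg.Agent.Lib.H26.Kul.kulakoff_odd p hp2 _ (P : Subgroup G) hPcard hcyc a ha
          (by omega)

end Cfsg.Agent.S4237
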