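import Cfsg.Statements.S4238
import Cfsg.Agent.Lib.L0.FrobeniusPC
import Cfsg.Agent.Lib.L0.TransferPC
import Cfsg.Agent.Lib.H22.PPrimeCore
import Cfsg.Agent.Lib.H1.CoprimeAction
import Cfsg.Agent.Lib.H1.CoprimeAbelian
import Cfsg.Agent.Lib.H15.NormComm
import Cfsg.Agent.Lib.H19.HallPi
-- import your own Cfsg.Agent.* helpers here

set_option autoImplicit false
open Cfsg

namespace Cfsg.Agent.S4238

open Cfsg.Agent.Lib
open scoped commutatorElement

section
variable {K : Type*} [Group K] [Finite K]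

/-- A group `V ⋊ C_q` with fixed-point-free action has trivial `p'`-core and no element whose
order is the exponent. -/
theorem lemmaA {p q : ℕ} [hp : Fact p.Prime] [hq : Fact q.Prime] (hpq : p ≠ q)
    (V : Subgroup K) [hVn : V.Normal] (hVc : ∀ a ∈ V, ∀ b ∈ V, a * b = b * a) (hVp : IsPGroup p V)
    (hV1 : V ≠ ⊥) (t : K) (htq : t ^ q = 1) (hsup : V ⊔ Subgroup.zpowers t = ⊤)
    (hfix : ∀ v ∈ V, t * v = v * t → v = 1) :
    Cfsg.pPrimeCore p K = ⊥ ∧ ∀ k : K, orderOf k ≠ Monoid.exponent K := by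
  classical
  obtain ⟨v₀, hv₀V, hv₀1⟩ := (Subgroup.ne_bot_iff_exists_ne_one.mp hV1 |> fun ⟨x, hx⟩ =>
    (⟨(x : K), x.2, fun h => hx (Subtype.ext h)⟩ : ∃ v : K, v ∈ V ∧ v ≠ 1))
  have htV : t ∉ V := fun h => hv₀1 (hfix v₀ hv₀V (hVc t h v₀ hv₀V))
  set φ := QuotientGroup.mk' V with hφ
  have hφsurj : Function.Surjective φ := QuotientGroup.mk'_surjective V
  have hφker : ∀ x : K, φ x = 1 ↔ x ∈ V := fun x => QuotientGroup.eq_one_iff x
  have hgen : Subgroup.zpowers (φ t) = ⊤ := by
    have h1 := congrArg (Subgroup.map φ) hsup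
    rw [Subgroup.map_sup, Subgroup.map_top_of_surjective φ hφsurj, MonoidHom.map_zpowers] at h1
    have h2 : V.map φ = ⊥ := by
      rw [eq_bot_iff]
      rintro _ ⟨x, hx, rfl⟩
      rw [Subgroup.mem_bot]; exact (hφker x).mpr hx
    rw [h2, bot_sup_eq] at h1
    exact h1
  have hφt1 : φ t ≠ 1 := fun h => htV ((hφker t).mp h)
  have hφtq : (φ t) ^ q = 1 := by rw [← map_pow, htq, map_one]
  have hordφt : orderOf (φ t) = q := orderOf_eq_prime hφtq hφt1
  have hcardQ : Nat.card (K ⧸ V) = q := by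
    rw [← hordφt, ← Nat.card_zpowers, hgen, Subgroup.card_top]
  -- key fact
  have F : ∀ w : K, w ∉ V → ∀ v ∈ V, w * v = v * w → v = 1 := by
    intro w hw v hv hwv
    have hφw : φ w ≠ 1 := fun h => hw ((hφker w).mp h)
    have htop : Subgroup.zpowers (φ w) = ⊤ := zpowers_eq_top_of_prime_card hcardQ hφw
    have hmem : φ t ∈ Subgroup.zpowers (φ w) := by rw [htop]; trivial
    obtain ⟨j, hj⟩ := Subgroup.mem_zpowers_iff.mp hmem
    have h1 : φ ((w ^ j)⁻¹ * t) = 1 := by
      rw [map_mul, map_inv, map_zpow, hj, inv_mul_cancel]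
    have h2 : (w ^ j)⁻¹ * t ∈ V := (hφker _).mp h1
    set v' := (w ^ j)⁻¹ * t with hv'
    have ht : t = w ^ j * v' := by rw [hv']; group
    apply hfix v hv
    have c1 : Commute (w ^ j) v := (show Commute w v from hwv).zpow_left j
    have c2 : Commute v' v := hVc v' h2 v hv
    rw [ht]
    exact (c1.mul_left c2).eq
  constructor
  · -- the p'-core is trivial
    by_contra hM
    set M := Cfsg.pPrimeCore p K with hMdef
    have hMn : M.Normal := H22.pPrimeCore_normal p
    have hMc : (Nat.card M).Coprime p := H22.card_pPrimeCore_coprime p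
    obtain ⟨n, hn⟩ := IsPGroup.iff_card.mp hVp
    have hdisj : Disjoint M V := by
      apply Subgroup.disjoint_of_coprime_natCard
      rw [hn]; exact Nat.Coprime.pow_right n hMc
    obtain ⟨w, hw⟩ := Subgroup.ne_bot_iff_exists_ne_one.mp hM
    have hwV : (w : K) ∉ V := by
      intro h
      have : (w : K) ∈ M ⊓ V := ⟨w.2, h⟩
      rw [hdisj.eq_bot, Subgroup.mem_bot] at this
      exact hw (Subtype.ext this)
    apply hv₀1
    apply F (w : K) hwV v₀ hv₀V
    have hc : (w : K) * v₀ * (w : K)⁻¹ * v₀⁻¹ ∈ M ⊓ V := by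
      constructor
      · have := hMn.conj_mem _ (M.inv_mem w.2) v₀
        have h2 := M.mul_mem w.2 this
        have e : (w : K) * v₀ * (w : K)⁻¹ * v₀⁻¹ = (w : K) * (v₀ * (w : K)⁻¹ * v₀⁻¹) := by group
        rw [e]; exact h2
      · have := hVn.conj_mem v₀ hv₀V (w : K)
        exact V.mul_mem this (V.inv_mem hv₀V)
    rw [hdisj.eq_bot, Subgroup.mem_bot] at hc
    calc (w : K) * v₀ = ((w : K) * v₀ * (w : K)⁻¹ * v₀⁻¹) * v₀ * (w : K) := by group
      _ = v₀ * (w : K) := by rw [hc, one_mul]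
  · intro k hk
    set e := Monoid.exponent K with he
    have hqe : q ∣ e := by
      have := Monoid.order_dvd_exponent t
      have hot : orderOf t = q := by
        apply orderOf_eq_prime htq
        intro h; exact htV (h ▸ V.one_mem)
      rwa [hot] at this
    have hpe : p ∣ e := by
      have h1 := Monoid.order_dvd_exponent v₀
      obtain ⟨j, hj⟩ := hVp ⟨v₀, hv₀V⟩
      have h2 : v₀ ^ p ^ j = 1 := by
        have := congrArg Subtype.val hj
        simpa using this
      obtain ⟨i, hi, hi'⟩ := (Nat.dvd_prime_pow hp.out).mp (orderOf_dvd_of_pow_eq_one h2)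
      have hi0 : i ≠ 0 := by
        intro h0
        rw [h0, pow_zero, orderOf_eq_one_iff] at hi'
        exact hv₀1 hi'
      have : p ∣ orderOf v₀ := by rw [hi']; exact dvd_pow_self p hi0
      exact this.trans h1
    have he0 : e ≠ 0 := by
      rw [← hk]
      exact (orderOf_pos k).ne'
    -- u of order p, w of order q
    obtain ⟨a, ha⟩ := hpe
    obtain ⟨b, hb⟩ := hqe
    have ha0 : a ≠ 0 := by rintro rfl; rw [mul_zero] at ha; exact he0 ha
    have hb0 : b ≠ 0 := by rintro rfl; rw [mul_zero] at hb; exact he0 hb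
    have hou : orderOf (k ^ a) = p := by
      rw [orderOf_pow_of_dvd ha0 (by rw [hk, ha]; exact Dvd.intro_left p rfl), hk, ha]
      exact Nat.mul_div_cancel _ (Nat.pos_of_ne_zero ha0)
    have how : orderOf (k ^ b) = q := by
      rw [orderOf_pow_of_dvd hb0 (by rw [hk, hb]; exact Dvd.intro_left q rfl), hk, hb]
      exact Nat.mul_div_cancel _ (Nat.pos_of_ne_zero hb0)
    have huV : k ^ a ∈ V := by
      rw [← hφker]
      have h1 : orderOf (φ (k ^ a)) ∣ p := by
        rw [← hou]; exact orderOf_map_dvd φ (k ^ a)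
      have h2 : orderOf (φ (k ^ a)) ∣ q := by
        rw [← hcardQ]; exact orderOf_dvd_natCard _
      have h3 : orderOf (φ (k ^ a)) ∣ Nat.gcd p q := Nat.dvd_gcd h1 h2
      rw [(Nat.coprime_primes hp.out hq.out).mpr hpq, Nat.dvd_one, orderOf_eq_one_iff] at h3
      exact h3
    have hwV : k ^ b ∉ V := by
      intro h
      obtain ⟨j, hj⟩ := hVp ⟨k ^ b, h⟩
      have h2 : (k ^ b) ^ p ^ j = 1 := by
        have := congrArg Subtype.val hj
        simpa using this
      have h3 : q ∣ p ^ j := by rw [← how]; exact orderOf_dvd_of_pow_eq_one h2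
      have h4 : q ∣ p := hq.out.dvd_of_dvd_pow h3
      exact hpq ((Nat.prime_dvd_prime_iff_eq hq.out hp.out).mp h4).symm
    have hcomm : k ^ b * k ^ a = k ^ a * k ^ b := ((Commute.refl k).pow_pow b a).eq
    have := F (k ^ b) hwV (k ^ a) huV hcomm
    rw [this, orderOf_one] at hou
    exact hp.out.one_lt.ne hou

end

section
variable {G : Type*} [Group G] [Finite G]

theorem bad_section {p q : ℕ} [hp : Fact p.Prime] [hq : Fact q.Prime] (hpq : p ≠ q)
    (Q : Subgroup G) (hQ : IsPGroup p Q) (hQ1 : Q ≠ ⊥) (g : G)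
    (hgq : g ^ q ∈ Subgroup.centralizer (Q : Set G)) (hcop : (orderOf g).Coprime p)
    (hcomm : ⁅Q, Subgroup.zpowers g⁆ = Q) :
    ∃ (H : Subgroup G) (N : Subgroup H) (_ : N.Normal), Cfsg.pPrimeCore p (H ⧸ N) = ⊥ ∧
      ∀ k : H ⧸ N, orderOf k ≠ Monoid.exponent (H ⧸ N) := by
  classical
  set A := Subgroup.zpowers g with hA
  have hAQ : A ≤ Subgroup.normalizer (Q : Set G) :=
    Subgroup.le_normalizer_iff_commutator_le_left.mpr (le_of_eq hcomm)
  set H := Q ⊔ A with hH
  have hQH : Q ≤ H := le_sup_left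
  have hAH : A ≤ H := le_sup_right
  have hgA : g ∈ A := Subgroup.mem_zpowers g
  have hgH : g ∈ H := hAH hgA
  set D := ⁅Q, Q⁆ with hD
  have hQnQ : Q ≤ Subgroup.normalizer (Q : Set G) := Subgroup.le_normalizer
  have hDQ : D ≤ Q := Subgroup.le_normalizer_iff_commutator_le_left.mp hQnQ
  set B := Subgroup.zpowers (g ^ q) with hB
  have hBA : B ≤ A := by
    rw [hB, Subgroup.zpowers_le]; exact A.pow_mem hgA q
  have hBcent : B ≤ Subgroup.centralizer (Q : Set G) := by
    rw [hB, Subgroup.zpowers_le]; exact hgq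
  set N₀ := D ⊔ B with hN₀
  have hN₀H : N₀ ≤ H := sup_le (hDQ.trans hQH) (hBA.trans hAH)
  -- H normalizes N₀
  have hQnD : Q ≤ Subgroup.normalizer (D : Set G) := H15.le_normalizer_commutator hQnQ hQnQ
  have hAnD : A ≤ Subgroup.normalizer (D : Set G) := H15.le_normalizer_commutator hAQ hAQ
  have hQnB : Q ≤ Subgroup.normalizer (B : Set G) := by
    intro x hx
    have : x ∈ Subgroup.centralizer (B : Set G) := by
      rw [Subgroup.mem_centralizer_iff]
      intro b hb
      exact ((Subgroup.mem_centralizer_iff.mp (hBcent hb)) x hx).symm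
    exact Subgroup.centralizer_le_normalizer (B : Set G) this
  have hAnB : A ≤ Subgroup.normalizer (B : Set G) := by
    intro x hx
    have : x ∈ Subgroup.centralizer (B : Set G) := by
      rw [Subgroup.mem_centralizer_iff]
      intro b hb
      obtain ⟨i, rfl⟩ := Subgroup.mem_zpowers_iff.mp hx
      obtain ⟨j, rfl⟩ := Subgroup.mem_zpowers_iff.mp (hBA hb)
      exact ((Commute.refl g).zpow_zpow j i).eq
    exact Subgroup.centralizer_le_normalizer (B : Set G) this
  have hHnN₀ : H ≤ Subgroup.normalizer (N₀ : Set G) :=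
    sup_le (H15.le_normalizer_sup hQnD hQnB) (H15.le_normalizer_sup hAnD hAnB)
  have hNn : (N₀.subgroupOf H).Normal :=
    (Subgroup.normal_subgroupOf_iff_le_normalizer hN₀H).2 hHnN₀
  refine ⟨H, N₀.subgroupOf H, hNn, ?_⟩
  set N := N₀.subgroupOf H with hN
  set π := QuotientGroup.mk' N with hπ
  have hπsurj : Function.Surjective π := QuotientGroup.mk'_surjective N
  have hπker : ∀ x : ↥H, π x = 1 ↔ (x : G) ∈ N₀ := fun x => by
    rw [hπ, QuotientGroup.mk'_apply, QuotientGroup.eq_one_iff, hN, Subgroup.mem_subgroupOf]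
  -- the subgroups of H
  set Q' := Q.subgroupOf H with hQ'
  have hQ'n : Q'.Normal :=
    (Subgroup.normal_subgroupOf_iff_le_normalizer hQH).2 (sup_le hQnQ hAQ)
  set V := Q'.map π with hV
  have hVn : V.Normal := hQ'n.map π hπsurj
  set t := π ⟨g, hgH⟩ with ht
  have hQ'p : IsPGroup p Q' := hQ.comap_subtype
  have hVp : IsPGroup p V := hQ'p.map π
  have hVc : ∀ a ∈ V, ∀ b ∈ V, a * b = b * a := by
    rintro _ ⟨x, hx, rfl⟩ _ ⟨y, hy, rfl⟩
    rw [← map_mul, ← map_mul]
    have h1 : π ((y * x)⁻¹ * (x * y)) = 1 := by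
      rw [hπker]
      have hxQ : (x : G) ∈ Q := Subgroup.mem_subgroupOf.mp hx
      have hyQ : (y : G) ∈ Q := Subgroup.mem_subgroupOf.mp hy
      have : (((y * x)⁻¹ * (x * y) : ↥H) : G) = ⁅(x : G)⁻¹, (y : G)⁻¹⁆ := by
        simp only [Subgroup.coe_mul, Subgroup.coe_inv, commutatorElement_def]
        group
      rw [this]
      exact Subgroup.mem_sup_left (Subgroup.commutator_mem_commutator (Q.inv_mem hxQ) (Q.inv_mem hyQ))
    rw [map_mul, map_inv, inv_mul_eq_one] at h1
    exact h1.symm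
  have htq : t ^ q = 1 := by
    rw [ht, ← map_pow, hπker]
    exact Subgroup.mem_sup_right (Subgroup.mem_zpowers (g ^ q))
  obtain ⟨n, hn⟩ := IsPGroup.iff_card.mp hQ
  have hcardA : Nat.card A = orderOf g := Nat.card_zpowers g
  have hBcop : (Nat.card B).Coprime p :=
    Nat.Coprime.coprime_dvd_left (Subgroup.card_dvd_of_le hBA) (hcardA ▸ hcop)
  have hV1 : V ≠ ⊥ := by
    intro hbot
    have hQN₀ : Q ≤ N₀ := by
      intro x hx
      have h1 : π ⟨x, hQH hx⟩ ∈ V := ⟨⟨x, hQH hx⟩, Subgroup.mem_subgroupOf.mpr hx, rfl⟩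
      rw [hbot, Subgroup.mem_bot, hπker] at h1
      exact h1
    have hDnB : D ≤ Subgroup.normalizer (B : Set G) := hDQ.trans hQnB
    have h1 : Nat.card N₀ ∣ Nat.card D * Nat.card B := H19.card_sup_dvd_mul_of_le_normalizer hDnB
    have h2 : Nat.card Q ∣ Nat.card D * Nat.card B := (Subgroup.card_dvd_of_le hQN₀).trans h1
    have h3 : Nat.card Q ∣ Nat.card D := by
      have hc : (Nat.card Q).Coprime (Nat.card B) := by
        rw [hn]; exact Nat.Coprime.pow_left n hBcop.symm
      exact hc.dvd_of_dvd_mul_right h2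
    have h4 : D = Q := Subgroup.eq_of_le_of_card_ge hDQ (Nat.le_of_dvd Nat.card_pos h3)
    have hnil : Group.IsNilpotent ↥Q := hQ.isNilpotent
    exact hQ1 (H15.eq_bot_of_le_commutator hnil le_rfl (le_of_eq h4.symm))
  have hsup : V ⊔ Subgroup.zpowers t = ⊤ := by
    rw [eq_top_iff]
    intro k _
    obtain ⟨h, rfl⟩ := hπsurj k
    set W := ((V ⊔ Subgroup.zpowers t).comap π).map H.subtype with hW
    have hQW : Q ≤ W := by
      intro x hx
      refine ⟨⟨x, hQH hx⟩, ?_, rfl⟩
      show π ⟨x, hQH hx⟩ ∈ V ⊔ Subgroup.zpowers t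
      exact Subgroup.mem_sup_left ⟨⟨x, hQH hx⟩, Subgroup.mem_subgroupOf.mpr hx, rfl⟩
    have hAW : A ≤ W := by
      rw [hA, Subgroup.zpowers_le]
      refine ⟨⟨g, hgH⟩, ?_, rfl⟩
      show π ⟨g, hgH⟩ ∈ V ⊔ Subgroup.zpowers t
      exact Subgroup.mem_sup_right (Subgroup.mem_zpowers t)
    have hHW : H ≤ W := sup_le hQW hAW
    obtain ⟨h', hh', hh'eq⟩ := hHW h.2
    have : h' = h := Subtype.ext hh'eq
    rw [← this]
    exact hh'
  have hVcomm : IsMulCommutative V := ⟨⟨fun a b => Subtype.ext (hVc a a.2 b b.2)⟩⟩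
  have hfix : ∀ v ∈ V, t * v = v * t → v = 1 := by
    intro v hv hvt
    set A' := Subgroup.zpowers t with hA'
    have hA'V : A' ≤ Subgroup.normalizer (V : Set (↥H ⧸ N)) := by
      rw [Subgroup.normalizer_eq_top_iff.mpr hVn]; exact le_top
    have hcop' : (Nat.card A').Coprime (Nat.card V) := by
      obtain ⟨m, hm⟩ := IsPGroup.iff_card.mp hVp
      rw [hm, hA', Nat.card_zpowers]
      have hd : orderOf t ∣ q := orderOf_dvd_of_pow_eq_one htq
      apply Nat.Coprime.pow_right
      exact Nat.Coprime.coprime_dvd_left hd ((Nat.coprime_primes hq.out hp.out).mpr hpq.symm)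
    have key := H1.coprime_abelian_centralizer_inf_commutator hA'V hcop'
    have hcm : ⁅V, A'⁆ = V := by
      have e1 : A' = (Subgroup.zpowers (⟨g, hgH⟩ : ↥H)).map π := by
        rw [MonoidHom.map_zpowers]
      have e2 : ⁅Q', Subgroup.zpowers (⟨g, hgH⟩ : ↥H)⁆ = Q' := by
        apply Subgroup.map_injective H.subtype_injective
        rw [Subgroup.map_commutator, MonoidHom.map_zpowers, hQ',
          Subgroup.map_subgroupOf_eq_of_le hQH]
        exact hcomm
      rw [e1, hV, ← Subgroup.map_commutator, e2]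
    have hmem : v ∈ (V ⊓ Subgroup.centralizer (A' : Set (↥H ⧸ N))) ⊓ ⁅V, A'⁆ := by
      refine ⟨⟨hv, ?_⟩, by rw [hcm]; exact hv⟩
      show v ∈ Subgroup.centralizer (A' : Set (↥H ⧸ N))
      rw [Subgroup.mem_centralizer_iff]
      intro a ha
      obtain ⟨i, rfl⟩ := Subgroup.mem_zpowers_iff.mp ha
      exact ((show Commute t v from hvt).zpow_left i).eq
    rw [key, Subgroup.mem_bot] at hmem
    exact hmem
  exact lemmaA hpq V hVc hVp hV1 t htq hsup hfix

end

section
variable {G : Type*} [Group G] [Finite G]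

theorem quotient_hasNPC {p : ℕ} [hp : Fact p.Prime] (h : Cfsg.HasNormalPComplement p G)
    (M : Subgroup G) [M.Normal] : Cfsg.HasNormalPComplement p (G ⧸ M) := by
  obtain ⟨N, hNn, hpN, k, hk⟩ := L0.HasNormalPComplement.exists_normal h
  have hsurj : Function.Surjective (QuotientGroup.mk' M) := QuotientGroup.mk'_surjective M
  have hN'n : (N.map (QuotientGroup.mk' M)).Normal := hNn.map _ hsurj
  apply L0.hasNormalPComplement_of_normal (N.map (QuotientGroup.mk' M))
  · intro hd
    exact hpN (hd.trans (Subgroup.card_map_dvd (H := N) (QuotientGroup.mk' M)))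
  · have hd : (N.map (QuotientGroup.mk' M)).index ∣ p ^ k := by
      rw [← hk]; exact Subgroup.index_map_dvd N hsurj
    obtain ⟨j, _, hj⟩ := (Nat.dvd_prime_pow hp.out).mp hd
    exact ⟨j, hj⟩

theorem exists_orderOf_eq_exponent_of_npc {p : ℕ} [hp : Fact p.Prime]
    (h : Cfsg.HasNormalPComplement p G) (hO : Cfsg.pPrimeCore p G = ⊥) :
    ∃ k : G, orderOf k = Monoid.exponent G := by
  obtain ⟨N, hNn, hpN, k, hk⟩ := L0.HasNormalPComplement.exists_normal h
  have hcop : (Nat.card N).Coprime p := ((Nat.Prime.coprime_iff_not_dvd hp.out).mpr hpN).symm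
  have hN : N = ⊥ := by
    rw [eq_bot_iff, ← hO]; exact H22.le_pPrimeCore p N hNn hcop
  rw [hN, Subgroup.index_bot] at hk
  have hexp : Monoid.exponent G ∣ p ^ k := by
    rw [← hk]; exact Group.exponent_dvd_nat_card
  obtain ⟨j, _, hj⟩ := (Nat.dvd_prime_pow hp.out).mp hexp
  obtain ⟨g, hg⟩ := hp.out.exists_orderOf_eq_pow_factorization_exponent G
  refine ⟨g, ?_⟩
  rw [hg, hj, hp.out.factorization_pow]
  simp

end


/-- Let G be a finite group and p a prime. Then G has a normal p-complement if and only if every section K = H/N of G (N a normal subgroup of a subgroup H) whose largest normal subgroup of order prime to p is trivial contains an element whose order equals the exponent of K. -/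
theorem result {G : Type*} [Group G] [Finite G] (p : ℕ) [Fact p.Prime] :
    Cfsg.HasNormalPComplement p G ↔
      ∀ (H : Subgroup G) (N : Subgroup H) [N.Normal], Cfsg.pPrimeCore p (H ⧸ N) = ⊥ →
        ∃ k : H ⧸ N, orderOf k = Monoid.exponent (H ⧸ N) := by
  classical
  have hp : Nat.Prime p := Fact.out
  constructor
  · intro h H N _ hO
    have h1 := L0.HasNormalPComplement.subgroup h H
    have h2 := quotient_hasNPC h1 N
    exact exists_orderOf_eq_exponent_of_npc h2 hO
  · intro hsec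
    apply L0.hasNormalPComplement_of_frobHyp
    by_contra hF
    unfold L0.FrobHyp at hF
    push Not at hF
    obtain ⟨Q, hQ, g₀, hg₀N, hg₀c, hg₀C⟩ := hF
    have hex : ∃ n : ℕ, ∃ g : G, g ∈ Subgroup.normalizer (Q : Set G) ∧ (orderOf g).Coprime p ∧
        g ∉ Subgroup.centralizer (Q : Set G) ∧ orderOf g = n := ⟨_, g₀, hg₀N, hg₀c, hg₀C, rfl⟩
    obtain ⟨g, hgN, hgc, hgC, hgo⟩ := Nat.find_spec hex
    have hmin : ∀ g' : G, g' ∈ Subgroup.normalizer (Q : Set G) → (orderOf g').Coprime p →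
        orderOf g' < orderOf g → g' ∈ Subgroup.centralizer (Q : Set G) := by
      intro g' h1 h2 h3
      by_contra h4
      exact Nat.find_min hex (hgo ▸ h3) ⟨g', h1, h2, h4, rfl⟩
    have hg1 : orderOf g ≠ 1 := by
      intro h
      rw [orderOf_eq_one_iff] at h
      exact hgC (h ▸ Subgroup.one_mem _)
    set q := (orderOf g).minFac with hq
    have hqp : q.Prime := Nat.minFac_prime hg1
    have hqd : q ∣ orderOf g := Nat.minFac_dvd _
    have hqF : Fact q.Prime := ⟨hqp⟩
    have hpq : p ≠ q := by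
      intro h
      have h1 : p ∣ orderOf g := h ▸ hqd
      have h2 : p ∣ Nat.gcd (orderOf g) p := Nat.dvd_gcd h1 dvd_rfl
      rw [hgc] at h2
      exact hp.one_lt.ne' (Nat.dvd_one.mp h2)
    have hgq : g ^ q ∈ Subgroup.centralizer (Q : Set G) := by
      apply hmin
      · exact Subgroup.pow_mem _ hgN q
      · exact Nat.Coprime.coprime_dvd_left (orderOf_pow_dvd q) hgc
      · rw [orderOf_pow_of_dvd hqp.ne_zero hqd]
        exact Nat.div_lt_self (orderOf_pos g) hqp.one_lt
    set A := Subgroup.zpowers g with hA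
    have hAQ : A ≤ Subgroup.normalizer (Q : Set G) := by
      rw [hA, Subgroup.zpowers_le]; exact hgN
    obtain ⟨n, hn⟩ := IsPGroup.iff_card.mp hQ
    have hact : H1.CoprimeAction A Q :=
      ⟨hAQ, by rw [hA, Nat.card_zpowers, hn]; exact Nat.Coprime.pow_right n hgc,
        Or.inr (by
          have : Group.IsNilpotent ↥Q := hQ.isNilpotent
          infer_instance)⟩
    set Q₁ := ⁅Q, A⁆ with hQ₁
    have hQ₁Q : Q₁ ≤ Q := hact.commutator_le
    have hQ₁p : IsPGroup p Q₁ := hQ.to_le hQ₁Q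
    have hcomm : ⁅Q₁, Subgroup.zpowers g⁆ = Q₁ := H1.coprime_commutator_commutator hact
    have hQ₁1 : Q₁ ≠ ⊥ := by
      intro h
      rw [hQ₁, Subgroup.commutator_eq_bot_iff_le_centralizer] at h
      apply hgC
      rw [Subgroup.mem_centralizer_iff]
      intro x hx
      have := (Subgroup.mem_centralizer_iff.mp (h hx)) g (Subgroup.mem_zpowers g)
      exact this.symm
    have hgq₁ : g ^ q ∈ Subgroup.centralizer (Q₁ : Set G) :=
      Subgroup.centralizer_le (by exact_mod_cast hQ₁Q) hgq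
    obtain ⟨H, N, hNn, hO, hno⟩ := bad_section hpq Q₁ hQ₁p hQ₁1 g hgq₁ hgc hcomm
    obtain ⟨k, hk⟩ := hsec H N hO
    exact hno k hk


end Cfsg.Agent.S4238
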