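import Cfsg.Statements.S4242
import Cfsg.Agent.Lib.L0.FrobeniusPC
import Cfsg.Agent.Lib.H8.Nilpotent
import Cfsg.Agent.Lib.H1.CoprimeSylow
import Cfsg.Agent.Lib.H1.IndexBasic
import Cfsg.Agent.Lib.H3.Supersolvable2

set_option autoImplicit false
set_option linter.style.haveILetI false
open Cfsg

namespace Cfsg.Agent.S4242

open Cfsg.Agent.Lib.H1 Cfsg.Agent.Lib.H8

variable {G : Type*} [Group G]

theorem nilpotent_of_le {H K : Subgroup G} (h : H ≤ K) (hK : Group.IsNilpotent K) :
    Group.IsNilpotent H := by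
  haveI := hK
  exact Subgroup.isNilpotent_of_ker_le_center (Subgroup.inclusion h)
    (by rw [(MonoidHom.ker_eq_bot_iff _).2 (Subgroup.inclusion_injective h)]; exact bot_le)

theorem key [Finite G] {p : ℕ}
    (H : ∀ M : Subgroup G, IsCoatom M → p ∣ Nat.card M → Group.IsNilpotent M)
    (L : Subgroup G) (hL : L ≠ ⊤) (hpL : p ∣ Nat.card L) : Group.IsNilpotent L := by
  obtain ⟨M, hM, hLM⟩ := (eq_top_or_exists_le_coatom L).resolve_left hL
  exact nilpotent_of_le hLM (H M hM (hpL.trans (Subgroup.card_dvd_of_le hLM)))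

theorem dvd_card_of_ne_bot {p : ℕ} [Fact p.Prime] {R : Subgroup G} (hR : IsPGroup p R) (hR1 : R ≠ ⊥) :
    p ∣ Nat.card R :=
  hR.card_eq_or_dvd.resolve_left (fun h => hR1 (Subgroup.eq_bot_of_card_eq _ h))

theorem step2 [Finite G] {p : ℕ} [hp : Fact p.Prime]
    (KL : ∀ L : Subgroup G, L ≠ ⊤ → p ∣ Nat.card L → Group.IsNilpotent L)
    (M : Subgroup G) (hM : IsCoatom M) (hMn : ¬ Group.IsNilpotent M) (hpM : ¬ p ∣ Nat.card M)
    (R : Subgroup G) [hRn : R.Normal] (hR : IsPGroup p R) (hR1 : R ≠ ⊥) :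
    ∃ Z K : Subgroup G, Z.Normal ∧ K.Normal ∧ Z ⊓ K = ⊥ ∧ Z ⊔ K = ⊤ ∧ Nat.card Z = p ∧
          Cfsg.IsMinimalNonNilpotent K ∧ ¬ p ∣ Nat.card K := by
  have hpR : p ∣ Nat.card R := dvd_card_of_ne_bot hR hR1
  have hcop : (Nat.card R).Coprime (Nat.card M) := by
    obtain ⟨n, hn⟩ := IsPGroup.iff_card.1 hR
    rw [hn]
    exact Nat.Coprime.pow_left n ((Nat.Prime.coprime_iff_not_dvd hp.out).2 hpM)
  have hRM : R ⊓ M = ⊥ := (Subgroup.disjoint_of_coprime_natCard hcop).eq_bot
  have hRleM : ¬ R ≤ M := fun h => hR1 (by rw [← hRM]; exact (inf_eq_left.2 h).symm)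
  have hsup : R ⊔ M = ⊤ := by
    apply hM.2
    refine lt_of_le_of_ne le_sup_right (fun h => hRleM ?_)
    rw [h]; exact le_sup_left
  have hcardG : Nat.card G = Nat.card M * Nat.card R := by
    have := card_sup_mul_card_inf M R
    rw [sup_comm, hsup, hRM, Subgroup.card_top, Subgroup.card_bot, mul_one] at this
    exact this
  -- proper subgroups of M
  have hb : ∀ M₁ : Subgroup G, M₁ ≤ M → M₁ ≠ M → Group.IsNilpotent (R ⊔ M₁ : Subgroup G) := by
    intro M₁ hle hne
    apply KL
    · intro htop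
      have h1 := card_sup_mul_card_inf M₁ R
      have h2 : R ⊓ M₁ = ⊥ := le_bot_iff.1 (hRM ▸ inf_le_inf_left R hle)
      rw [sup_comm, htop, h2, Subgroup.card_top, Subgroup.card_bot, mul_one, hcardG] at h1
      have h3 : Nat.card M = Nat.card M₁ :=
        Nat.eq_of_mul_eq_mul_right Nat.card_pos h1
      exact hne (Subgroup.eq_of_le_of_card_ge hle h3.le)
    · exact hpR.trans (Subgroup.card_dvd_of_le le_sup_left)
  have hcomm : ∀ M₁ : Subgroup G, M₁ ≤ M → M₁ ≠ M → ∀ r ∈ R, ∀ m ∈ M₁, r * m = m * r := by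
    intro M₁ hle hne r hr m hm
    apply mul_comm_of_coprime_of_mem_nilpotent _ (hb M₁ hle hne)
      (Subgroup.mem_sup_left hr) (Subgroup.mem_sup_right hm)
    exact Nat.Coprime.coprime_dvd_left (Subgroup.orderOf_dvd_natCard _ hr)
      (Nat.Coprime.coprime_dvd_right (Subgroup.orderOf_dvd_natCard _ (hle hm)) hcop)
  -- M minimal non-nilpotent
  have hc : Cfsg.IsMinimalNonNilpotent M := by
    refine ⟨hMn, fun H hH => ?_⟩
    have hle : H.map M.subtype ≤ M := Subgroup.map_subtype_le H
    have hne : H.map M.subtype ≠ M := by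
      intro h
      apply hH
      rw [eq_top_iff]
      intro x _
      have : (x : G) ∈ H.map M.subtype := by rw [h]; exact x.2
      obtain ⟨y, hy, hyx⟩ := this
      have : y = x := Subtype.ext hyx
      rwa [← this]
    haveI := nilpotent_of_le (le_sup_right : H.map M.subtype ≤ R ⊔ H.map M.subtype) (hb _ hle hne)
    exact Group.nilpotent_of_mulEquiv (H.equivMapOfInjective M.subtype M.subtype_injective).symm
  -- M centralizes R
  have hd : ∀ r ∈ R, ∀ m ∈ M, r * m = m * r := by
    intro r hr m hm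
    have hle : Subgroup.zpowers m ≤ M := by
      rw [Subgroup.zpowers_le]; exact hm
    by_cases heq : Subgroup.zpowers m = M
    · exfalso
      apply hMn
      rw [← heq]
      haveI : IsCyclic (Subgroup.zpowers m) := inferInstance
      letI : CommGroup (Subgroup.zpowers m) := IsCyclic.commGroup
      exact CommGroup.isNilpotent
    · exact hcomm _ hle heq r hr m (Subgroup.mem_zpowers m)
  -- M normal
  have he : M.Normal := by
    constructor
    intro n hn g
    have hg : g ∈ (↑(R ⊔ M) : Set G) := by rw [hsup]; trivial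
    rw [Subgroup.normal_mul] at hg
    obtain ⟨r, hr, m, hm, rfl⟩ := Set.mem_mul.1 hg
    have h1 : m * n * m⁻¹ ∈ M := M.mul_mem (M.mul_mem hm hn) (M.inv_mem hm)
    have h2 := hd r hr _ h1
    have : r * m * n * (r * m)⁻¹ = m * n * m⁻¹ := by
      rw [mul_inv_rev]
      calc r * m * n * (m⁻¹ * r⁻¹) = r * (m * n * m⁻¹) * r⁻¹ := by group
        _ = m * n * m⁻¹ := by rw [h2]; group
    rw [this]; exact h1
  -- |R| = p
  have hf : Nat.card R = p := by
    obtain ⟨x, hx⟩ := exists_prime_orderOf_dvd_card' p hpR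
    have hxo : orderOf (x : G) = p := by rw [Subgroup.orderOf_coe]; exact hx
    have hZle : Subgroup.zpowers (x : G) ≤ R := by
      rw [Subgroup.zpowers_le]; exact x.2
    have hZcard : Nat.card (Subgroup.zpowers (x : G)) = p := by rw [Nat.card_zpowers, hxo]
    by_contra hne
    have hZne : Subgroup.zpowers (x : G) ≠ R := fun h => hne (by rw [← h, hZcard])
    apply hMn
    have hnil : Group.IsNilpotent (Subgroup.zpowers (x : G) ⊔ M : Subgroup G) := by
      apply KL
      · intro htop
        have h1 := card_sup_mul_card_inf (Subgroup.zpowers (x : G)) M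
        rw [htop, Subgroup.card_top, hcardG, hZcard, mul_comm (Nat.card M), mul_assoc] at h1
        have h2 : Nat.card R ∣ p * Nat.card M := Dvd.intro _ h1
        have h3 : Nat.card R ∣ p := Nat.Coprime.dvd_of_dvd_mul_right hcop h2
        apply hZne
        apply Subgroup.eq_of_le_of_card_ge hZle
        rw [hZcard]
        exact Nat.le_of_dvd hp.out.pos h3
      · rw [← hZcard]
        exact Subgroup.card_dvd_of_le le_sup_left
    exact nilpotent_of_le le_sup_right hnil
  exact ⟨R, M, hRn, he, hRM, hsup, hf, hc, hpM⟩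


theorem step1 [Finite G] {p : ℕ} [hp : Fact p.Prime] (hpG : p ∣ Nat.card G)
    (KL : ∀ L : Subgroup G, L ≠ ⊤ → p ∣ Nat.card L → Group.IsNilpotent L)
    (M : Subgroup G) (hM : IsCoatom M) (hMn : ¬ Group.IsNilpotent M) (hpM : ¬ p ∣ Nat.card M) :
    ∃ R : Subgroup G, R.Normal ∧ IsPGroup p R ∧ R ≠ ⊥ := by
  by_contra hno
  push Not at hno
  have hF : Cfsg.Agent.Lib.L0.FrobHyp p G := by
    intro Q hQ g hg hcop
    rw [Subgroup.mem_centralizer_iff]
    intro h hh
    by_cases hQ1 : Q = ⊥
    · subst hQ1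
      have : h = 1 := by simpa using hh
      subst this
      simp
    · have hN : Subgroup.normalizer (Q : Set G) ≠ ⊤ := fun htop =>
        hQ1 (hno Q (Subgroup.normalizer_eq_top_iff.1 htop) hQ)
      have hpQ : p ∣ Nat.card Q := dvd_card_of_ne_bot hQ hQ1
      have hnil := KL _ hN (hpQ.trans (Subgroup.card_dvd_of_le Subgroup.le_normalizer))
      apply mul_comm_of_coprime_of_mem_nilpotent _ hnil (Subgroup.le_normalizer hh) hg
      obtain ⟨k, hk⟩ := hQ ⟨h, hh⟩
      have hk' : h ^ p ^ k = 1 := by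
        have := congrArg Subtype.val hk
        simpa using this
      exact Nat.Coprime.coprime_dvd_left (orderOf_dvd_of_pow_eq_one hk')
        (Nat.Coprime.pow_left k hcop.symm)
  obtain ⟨P, K, hKn, hKP⟩ := Cfsg.Agent.Lib.L0.hasNormalPComplement_of_frobHyp hF
  haveI := hKn
  have hcardG : Nat.card K * Nat.card P = Nat.card G := hKP.card_mul
  have hpP : p ∣ Nat.card P := by
    have := P.card_eq_multiplicity
    rw [this]
    exact dvd_pow_self p (Nat.Prime.factorization_pos_of_dvd hp.out Nat.card_pos.ne' hpG).ne'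
  have hidx : (P : Subgroup G).index = Nat.card K := by
    have h1 := (P : Subgroup G).card_mul_index
    rw [← hcardG, mul_comm] at h1
    exact Nat.eq_of_mul_eq_mul_right Nat.card_pos h1
  have hpK : ¬ p ∣ Nat.card K := by
    rw [← hidx]; exact P.not_dvd_index
  -- K ≤ M
  have hKM : K ≤ M := by
    by_contra hKM
    have htop : M ⊔ K = ⊤ := by
      apply hM.2
      refine lt_of_le_of_ne le_sup_left (fun h => hKM ?_)
      rw [h]; exact le_sup_right
    have h1 := card_sup_mul_card_inf M K
    rw [htop, Subgroup.card_top] at h1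
    have h2 : p ∣ Nat.card M * Nat.card K := by
      rw [← h1]; exact hpG.trans (Dvd.intro _ rfl)
    rcases (Nat.Prime.dvd_mul hp.out).1 h2 with h | h
    · exact hpM h
    · exact hpK h
  have hcopMP : (Nat.card M).Coprime (Nat.card P) := by
    obtain ⟨n, hn⟩ := IsPGroup.iff_card.1 P.2
    rw [hn]
    exact Nat.Coprime.pow_right n ((Nat.Prime.coprime_iff_not_dvd hp.out).2 hpM).symm
  have hMK : K = M := by
    apply Subgroup.eq_of_le_of_card_ge hKM
    apply Nat.le_of_dvd Nat.card_pos
    apply Nat.Coprime.dvd_of_dvd_mul_right hcopMP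
    rw [hcardG]
    exact Subgroup.card_subgroup_dvd_card M
  subst hMK
  -- |P| = p
  have hcardP : Nat.card P = p := by
    have hprime := Cfsg.Agent.Lib.H3.index_prime_of_normal_isCoatom hM
    have h1 := (K : Subgroup G).card_mul_index
    rw [← hcardG] at h1
    have h2 : K.index = Nat.card P := Nat.eq_of_mul_eq_mul_left Nat.card_pos h1
    rw [h2] at hprime
    exact ((Nat.prime_dvd_prime_iff_eq hp.out hprime).1 hpP).symm
  have hcopPK : (Nat.card P).Coprime (Nat.card K) := by
    rw [hcardP]; exact (Nat.Prime.coprime_iff_not_dvd hp.out).2 hpK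
  have hact : CoprimeAction (P : Subgroup G) K := by
    refine ⟨?_, hcopPK, Or.inl ?_⟩
    · rw [Subgroup.normalizer_eq_top_iff.2 hKn]; exact le_top
    · haveI : Group.IsNilpotent (P : Subgroup G) := P.2.isNilpotent
      infer_instance
  -- K centralizes P
  have hcent : K ≤ Subgroup.centralizer ((P : Subgroup G) : Set G) := by
    have hdvd : Nat.card K ∣ Nat.card (Subgroup.centralizer ((P : Subgroup G) : Set G) ⊓ K :
        Subgroup G) := by
      rw [Nat.dvd_iff_prime_pow_dvd_dvd]
      intro q k hq hqk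
      haveI : Fact q.Prime := ⟨hq⟩
      obtain ⟨Q, hQ, hPQ⟩ := coprime_exists_invariant_sylow hact q
      have hQle : Q ≤ Subgroup.centralizer ((P : Subgroup G) : Set G) ⊓ K := by
        refine le_inf ?_ hQ.le
        have hnil : Group.IsNilpotent ((P : Subgroup G) ⊔ Q : Subgroup G) := by
          apply KL
          · intro htop
            have hQn : Q.Normal := by
              rw [← Subgroup.normalizer_eq_top_iff, eq_top_iff, ← htop]
              exact sup_le hPQ Subgroup.le_normalizer
            have h1 := card_sup_mul_card_inf (P : Subgroup G) Q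
            rw [htop, Subgroup.card_top, ← hcardG] at h1
            have h2 : Nat.card K ∣ Nat.card Q := by
              apply Nat.Coprime.dvd_of_dvd_mul_left hcopPK.symm
              rw [← h1, mul_assoc]
              exact Dvd.intro _ rfl
            have h3 : Q = K := Subgroup.eq_of_le_of_card_ge hQ.le (Nat.le_of_dvd Nat.card_pos h2)
            apply hMn
            rw [← h3]
            exact hQ.isPGroup.isNilpotent
          · exact hpP.trans (Subgroup.card_dvd_of_le le_sup_left)
        intro y hy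
        rw [Subgroup.mem_centralizer_iff]
        intro x hx
        apply mul_comm_of_coprime_of_mem_nilpotent _ hnil (Subgroup.mem_sup_left hx)
          (Subgroup.mem_sup_right hy)
        exact Nat.Coprime.coprime_dvd_left (Subgroup.orderOf_dvd_natCard _ hx)
          (Nat.Coprime.coprime_dvd_right (Subgroup.orderOf_dvd_natCard _ (hQ.le hy)) hcopPK)
      have h1 : q ^ k ∣ Nat.card Q := by
        rw [hQ.card_eq]
        exact pow_dvd_pow q ((Nat.Prime.pow_dvd_iff_le_factorization hq Nat.card_pos.ne').1 hqk)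
      exact h1.trans (Subgroup.card_dvd_of_le hQle)
    have : Subgroup.centralizer ((P : Subgroup G) : Set G) ⊓ K = K :=
      Subgroup.eq_of_le_of_card_ge inf_le_right (Nat.le_of_dvd Nat.card_pos hdvd)
    rw [← this]; exact inf_le_left
  -- P normal
  have hPn : (P : Subgroup G).Normal := by
    rw [← Subgroup.normalizer_eq_top_iff, eq_top_iff, ← hKP.sup_eq_top]
    refine sup_le (fun k hk => ?_) Subgroup.le_normalizer
    have hk' := hcent hk
    rw [Subgroup.mem_centralizer_iff] at hk'
    rw [Subgroup.mem_normalizer_iff]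
    intro x
    constructor
    · intro hx
      have : k * x * k⁻¹ = x := by rw [← hk' x hx]; group
      rw [this]; exact hx
    · intro hx
      have h1 := hk' _ hx
      have : x = k * x * k⁻¹ := by
        calc x = k⁻¹ * ((k * x * k⁻¹) * k) := by group
          _ = k⁻¹ * (k * (k * x * k⁻¹)) := by rw [h1]
          _ = k * x * k⁻¹ := by group
      rw [this]; exact hx
  have := hno P hPn P.2
  rw [this, Subgroup.card_bot] at hpP
  exact hp.out.one_lt.ne' (Nat.dvd_one.1 hpP)

theorem forward [Finite G] (p : ℕ) (hp : p.Prime) (hpG : p ∣ Nat.card G)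
    (H : ∀ M : Subgroup G, IsCoatom M → p ∣ Nat.card M → Group.IsNilpotent M) :
    (Group.IsNilpotent G ∨ Cfsg.IsMinimalNonNilpotent G ∨
        ∃ Z K : Subgroup G, Z.Normal ∧ K.Normal ∧ Z ⊓ K = ⊥ ∧ Z ⊔ K = ⊤ ∧ Nat.card Z = p ∧
          Cfsg.IsMinimalNonNilpotent K ∧ ¬ p ∣ Nat.card K) := by
  by_cases hnil : Group.IsNilpotent G
  · exact Or.inl hnil
  by_cases hmin : Cfsg.IsMinimalNonNilpotent G
  · exact Or.inr (Or.inl hmin)
  right; right
  have KL := key H
  have : ∃ L : Subgroup G, L ≠ ⊤ ∧ ¬ Group.IsNilpotent L := by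
    by_contra h
    push Not at h
    exact hmin ⟨hnil, h⟩
  obtain ⟨L, hL, hLn⟩ := this
  obtain ⟨M, hM, hLM⟩ := (eq_top_or_exists_le_coatom L).resolve_left hL
  have hMn : ¬ Group.IsNilpotent M := fun h => hLn (nilpotent_of_le hLM h)
  have hpM : ¬ p ∣ Nat.card M := fun h => hMn (H M hM h)
  haveI : Fact p.Prime := ⟨hp⟩
  obtain ⟨R, hRn, hR, hR1⟩ := step1 hpG KL M hM hMn hpM
  haveI := hRn
  exact step2 KL M hM hMn hpM R hR hR1


theorem backward3 [Finite G] (p : ℕ) [hp : Fact p.Prime]
    (Z K : Subgroup G) (hZn : Z.Normal) (hKn : K.Normal) (hZK : Z ⊓ K = ⊥) (hsup : Z ⊔ K = ⊤)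
    (hZ : Nat.card Z = p) (hK : Cfsg.IsMinimalNonNilpotent K) (hpK : ¬ p ∣ Nat.card K)
    (M : Subgroup G) (hM : IsCoatom M) (hpM : p ∣ Nat.card M) : Group.IsNilpotent M := by
  haveI := hZn
  haveI := hKn
  have hcardG : Nat.card G = Nat.card K * Nat.card Z := by
    have := card_sup_mul_card_inf K Z
    rw [sup_comm, hsup, hZK, Subgroup.card_top, Subgroup.card_bot, mul_one] at this
    exact this
  have hidx : Z.index = Nat.card K := by
    have h1 := Z.card_mul_index
    rw [hcardG, mul_comm] at h1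
    exact Nat.eq_of_mul_eq_mul_right Nat.card_pos h1
  -- Z ≤ M
  obtain ⟨x, hx⟩ := exists_prime_orderOf_dvd_card' p hpM
  have hxo : orderOf (x : G) = p := by rw [Subgroup.orderOf_coe]; exact hx
  have hxZ : (x : G) ∈ Z := by
    rw [← QuotientGroup.eq_one_iff, ← orderOf_eq_one_iff]
    have h1 : orderOf ((x : G) : G ⧸ Z) ∣ p := by
      apply orderOf_dvd_of_pow_eq_one
      rw [← QuotientGroup.mk_pow, ← hxo, pow_orderOf_eq_one]; rfl
    have h2 : orderOf ((x : G) : G ⧸ Z) ∣ Nat.card K := by
      rw [← hidx, Subgroup.index_eq_card]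
      exact orderOf_dvd_natCard _
    exact Nat.eq_one_of_dvd_coprimes ((Nat.Prime.coprime_iff_not_dvd hp.out).2 hpK) h1 h2
  have hZM : Z ≤ M := by
    have h1 : Subgroup.zpowers (x : G) ≤ Z := by rw [Subgroup.zpowers_le]; exact hxZ
    have h2 : Subgroup.zpowers (x : G) = Z := by
      apply Subgroup.eq_of_le_of_card_ge h1
      rw [Nat.card_zpowers, hxo, hZ]
    rw [← h2, Subgroup.zpowers_le]
    exact x.2
  -- M = Z ⊔ (M ⊓ K)
  have hMeq : M = Z ⊔ (M ⊓ K) := by
    apply le_antisymm
    · intro m hm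
      have hg : m ∈ (↑(Z ⊔ K) : Set G) := by rw [hsup]; trivial
      rw [Subgroup.normal_mul] at hg
      obtain ⟨z, hz, k, hk, rfl⟩ := Set.mem_mul.1 hg
      have hkM : k ∈ M := by
        have : k = z⁻¹ * (z * k) := by group
        rw [this]; exact M.mul_mem (M.inv_mem (hZM hz)) hm
      exact Subgroup.mul_mem_sup hz ⟨hkM, hk⟩
    · exact sup_le hZM inf_le_left
  -- M ⊓ K nilpotent
  have hL : Group.IsNilpotent (M ⊓ K : Subgroup G) := by
    have hne : (M ⊓ K).subgroupOf K ≠ ⊤ := by
      intro h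
      rw [Subgroup.subgroupOf_eq_top] at h
      have hKM : K ≤ M := h.trans inf_le_left
      apply hM.1
      rw [eq_top_iff, ← hsup]
      exact sup_le hZM hKM
    haveI := hK.2 _ hne
    exact Group.nilpotent_of_mulEquiv (Subgroup.subgroupOfEquivOfLe (inf_le_right : M ⊓ K ≤ K))
  haveI := hL
  -- Z nilpotent
  haveI hZnil : Group.IsNilpotent Z := by
    have : IsPGroup p Z := IsPGroup.of_card (n := 1) (by rw [hZ, pow_one])
    exact this.isNilpotent
  -- the product map
  have hcomm : ∀ (z : Z) (l : (M ⊓ K : Subgroup G)), Commute (Z.subtype z) ((M ⊓ K).subtype l) := by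
    intro z l
    exact Subgroup.commute_of_normal_of_disjoint Z K hZn hKn (disjoint_iff.2 hZK) _ _ z.2 l.2.2
  let f := MonoidHom.noncommCoprod Z.subtype (M ⊓ K).subtype hcomm
  have hrange : f.range = M := by
    rw [MonoidHom.noncommCoprod_range, Subgroup.range_subtype, Subgroup.range_subtype, ← hMeq]
  have : Group.IsNilpotent f.range :=
    Group.nilpotent_of_surjective f.rangeRestrict f.rangeRestrict_surjective
  rw [hrange] at this
  exact this

theorem backward [Finite G] (p : ℕ) (hp : p.Prime)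
    (h : Group.IsNilpotent G ∨ Cfsg.IsMinimalNonNilpotent G ∨
        ∃ Z K : Subgroup G, Z.Normal ∧ K.Normal ∧ Z ⊓ K = ⊥ ∧ Z ⊔ K = ⊤ ∧ Nat.card Z = p ∧
          Cfsg.IsMinimalNonNilpotent K ∧ ¬ p ∣ Nat.card K)
    (M : Subgroup G) (hM : IsCoatom M) (hpM : p ∣ Nat.card M) : Group.IsNilpotent M := by
  rcases h with h | h | ⟨Z, K, hZn, hKn, hZK, hsup, hZ, hK, hpK⟩
  · haveI := h
    infer_instance
  · exact h.2 M hM.1
  · haveI : Fact p.Prime := ⟨hp⟩
    exact backward3 p Z K hZn hKn hZK hsup hZ hK hpK M hM hpM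

/-- Let G be a finite group and p a prime dividing its order. Every maximal subgroup of G of order divisible by p is nilpotent if and only if G is nilpotent, or G is a minimal non-nilpotent group, or G is the internal direct product of a normal subgroup of order p and a normal minimal non-nilpotent subgroup of order prime to p. -/
theorem result {G : Type*} [Group G] [Finite G] (p : ℕ) (hp : p.Prime) (hpG : p ∣ Nat.card G) :
    (∀ M : Subgroup G, IsCoatom M → p ∣ Nat.card M → Group.IsNilpotent M) ↔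
      (Group.IsNilpotent G ∨ Cfsg.IsMinimalNonNilpotent G ∨
        ∃ Z K : Subgroup G, Z.Normal ∧ K.Normal ∧ Z ⊓ K = ⊥ ∧ Z ⊔ K = ⊤ ∧ Nat.card Z = p ∧
          Cfsg.IsMinimalNonNilpotent K ∧ ¬ p ∣ Nat.card K) :=
  ⟨forward p hp hpG, fun h M hM hpM => backward p hp h M hM hpM⟩

end Cfsg.Agent.S4242
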