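import Cfsg.Statements.S4244

set_option autoImplicit false
open Cfsg

namespace Cfsg.Agent.S4244

theorem card_mul_relIndex {G : Type*} [Group G] {A B : Subgroup G} (h : A ≤ B) :
    Nat.card A * A.relIndex B = Nat.card B := by
  have h1 := Subgroup.card_mul_index (A.subgroupOf B)
  have h2 : Nat.card (A.subgroupOf B) = Nat.card A :=
    Nat.card_congr (Subgroup.subgroupOfEquivOfLe h).toEquiv
  rw [h2] at h1
  exact h1

/-- for `H` normal, `|H : H ∩ K|` divides `|G : K|` -/
theorem relIndex_dvd_index_of_normal' {G : Type*} [Group G] [Finite G] (H K : Subgroup G) [H.Normal] :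
    K.relIndex H ∣ K.index := by
  have e1 := card_mul_relIndex (le_sup_right : H ≤ K ⊔ H)
  rw [Subgroup.relIndex_sup_right] at e1
  have e2 := card_mul_relIndex (inf_le_right : H ⊓ K ≤ K)
  rw [Subgroup.inf_relIndex_right] at e2
  have e3 := card_mul_relIndex (le_sup_left : K ≤ K ⊔ H)
  have e4 := card_mul_relIndex (inf_le_left : H ⊓ K ≤ H)
  rw [Subgroup.inf_relIndex_left] at e4
  have hpos : 0 < Nat.card (H ⊓ K : Subgroup G) * H.relIndex K := by
    rw [e2]; exact Nat.card_pos
  have key : K.relIndex H = K.relIndex (K ⊔ H) := by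
    have : Nat.card (H ⊓ K : Subgroup G) * H.relIndex K * K.relIndex H
        = Nat.card (H ⊓ K : Subgroup G) * H.relIndex K * K.relIndex (K ⊔ H) := by
      calc Nat.card (H ⊓ K : Subgroup G) * H.relIndex K * K.relIndex H
          = (Nat.card (H ⊓ K : Subgroup G) * K.relIndex H) * H.relIndex K := by ring
        _ = Nat.card H * H.relIndex K := by rw [e4]
        _ = Nat.card (K ⊔ H : Subgroup G) := e1
        _ = Nat.card K * K.relIndex (K ⊔ H) := e3.symm
        _ = Nat.card (H ⊓ K : Subgroup G) * H.relIndex K * K.relIndex (K ⊔ H) := by rw [e2]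
    exact Nat.eq_of_mul_eq_mul_left hpos this
  rw [key]
  exact Subgroup.relIndex_dvd_index_of_le le_sup_left

/-- Let H be a subnormal subgroup of a finite group G. Then for every subgroup K of G the index of H ∩ K in H divides the index of K in G. -/
theorem result {G : Type*} [Group G] [Finite G] (H : Subgroup G) (hH : H.IsSubnormal) (K : Subgroup G) :
    (H ⊓ K).relIndex H ∣ K.index := by
  rw [Subgroup.inf_relIndex_left]
  induction hH with
  | top => rw [Subgroup.relIndex_top_right]
  | step H L hle hsub hnorm ih =>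
    refine dvd_trans ?_ ih
    have := relIndex_dvd_index_of_normal' (H.subgroupOf L) (K.subgroupOf L)
    rw [Subgroup.relIndex_subgroupOf hle] at this
    exact this

end Cfsg.Agent.S4244
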