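import Cfsg.Statements.S4249
import Mathlib
import Cfsg.Agent.Lib.H21.Kegel

set_option autoImplicit false
open Cfsg

namespace Cfsg.Agent.S4249

open Cfsg.Agent.Lib.H21

theorem hpHyp_hughes {G : Type*} [Group G] (p : ℕ) :
    HpHyp p (Subgroup.closure {g : G | g ^ p ≠ 1}) := by
  refine ⟨⟨fun h hh g => ?_⟩, ?_⟩
  · have h1 : g * h * g⁻¹ ∈ (Subgroup.closure {g : G | g ^ p ≠ 1}).map
        (MulAut.conj g).toMonoidHom := ⟨h, hh, by simp⟩
    rw [MonoidHom.map_closure] at h1
    refine (Subgroup.closure_mono ?_) h1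
    rintro _ ⟨y, hy, rfl⟩
    show ((MulAut.conj g) y) ^ p ≠ 1
    rw [← map_pow]
    intro h2
    apply hy
    have : (MulAut.conj g) (y ^ p) = (MulAut.conj g) 1 := by rw [h2, map_one]
    exact (MulAut.conj g).injective this
  · intro g hg
    by_contra hne
    exact hg (Subgroup.subset_closure hne)

/-- Let G be a finite group and p a prime such that G is not a p-group, and suppose the Hughes subgroup H_p(G), generated by all elements g with g^p ≠ 1, is a proper subgroup. Then H_p(G) is nilpotent and has index p in G. -/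
theorem result {G : Type*} [Group G] [Finite G] (p : ℕ) (hp : p.Prime) (hG : ¬ IsPGroup p G)
    (hH : Subgroup.closure {g : G | g ^ p ≠ 1} ≠ ⊤) :
    Group.IsNilpotent (Subgroup.closure {g : G | g ^ p ≠ 1}) ∧ (Subgroup.closure {g : G | g ^ p ≠ 1}).index = p := by
  haveI : Fact p.Prime := ⟨hp⟩
  have hHp := hpHyp_hughes (G := G) p
  haveI := hHp.normal
  -- a second prime
  obtain ⟨q, hq, hqp, hqG⟩ : ∃ q : ℕ, q.Prime ∧ q ≠ p ∧ q ∣ Nat.card G := by
    by_contra hcon
    push Not at hcon
    apply hG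
    have hcard : Nat.card G = p ^ (Nat.card G).primeFactorsList.length := by
      apply Nat.eq_prime_pow_of_unique_prime_dvd Nat.card_pos.ne'
      intro d hd hdvd
      by_contra hne
      exact hcon d hd hne hdvd
    exact IsPGroup.of_card hcard
  have hqH : q ∣ Nat.card (Subgroup.closure {g : G | g ^ p ≠ 1}) := by
    have h1 := Subgroup.card_mul_index (Subgroup.closure {g : G | g ^ p ≠ 1})
    obtain ⟨n, hn⟩ := IsPGroup.iff_card.mp hHp.isPGroup_quotient
    rw [Subgroup.index_eq_card, hn] at h1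
    rw [← h1] at hqG
    exact (Nat.Coprime.dvd_of_dvd_mul_right
      (Nat.Coprime.pow_right n ((Nat.coprime_primes hq hp).mpr hqp)) hqG)
  have hidx := hHp.index_eq hH q hq hqp hqH
  exact ⟨kegel _ G rfl _ hHp hidx, hidx⟩

end Cfsg.Agent.S4249
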