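import Cfsg.Statements.S4251
import Cfsg.Agent.Lib.H9.AlperinTame
import Cfsg.Agent.Lib.L0.FrobeniusPC
-- import your own Cfsg.Agent.* helpers here

set_option autoImplicit false
open Cfsg

namespace Cfsg.Agent.S4251

open Cfsg.Agent.Lib.H10 Cfsg.Agent.Lib.H9 Cfsg.Agent.Lib.L0

variable {G : Type*} [Group G]

/-- If `N/C` is a `p`-group and `R` is "Sylow in `N`", then `N = R C`. -/
theorem factor_of_quotient_isPGroup [Finite G] {p : ℕ} [Fact p.Prime] {R N C : Subgroup G}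
    (hRp : IsPGroup p R) (hRN : R ≤ N) (hRi : ¬ p ∣ R.relIndex N) (hCN : C ≤ N)
    [hCn : (C.subgroupOf N).Normal] (hQ : IsPGroup p (N ⧸ C.subgroupOf N)) :
    ∀ n ∈ N, ∃ r ∈ R, ∃ c ∈ C, n = r * c := by
  intro n hn
  have hP' : IsPGroup p (R.subgroupOf N) := hRp.comap_subtype
  let PS : Sylow p N := hP'.toSylow hRi
  have hPS : (PS : Subgroup N) = R.subgroupOf N := hP'.toSylow_coe hRi
  have hsurj : Function.Surjective (QuotientGroup.mk' (C.subgroupOf N)) :=
    QuotientGroup.mk'_surjective _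
  have htop : (⊤ : Subgroup (N ⧸ C.subgroupOf N)) = (PS.mapSurjective hsurj : Sylow p _) :=
    (PS.mapSurjective hsurj).is_maximal' (hQ.to_subgroup ⊤) le_top
  have hmem : QuotientGroup.mk' (C.subgroupOf N) ⟨n, hn⟩ ∈
      ((PS.mapSurjective hsurj : Sylow p _) : Subgroup (N ⧸ C.subgroupOf N)) := by
    rw [← htop]; trivial
  rw [Sylow.coe_mapSurjective] at hmem
  obtain ⟨t, ht, hte⟩ := hmem
  have ht' : (t : G) ∈ R := by
    have : t ∈ (PS : Subgroup N) := ht
    rw [hPS, Subgroup.mem_subgroupOf] at this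
    exact this
  have hc : t⁻¹ * ⟨n, hn⟩ ∈ C.subgroupOf N := by
    rw [← QuotientGroup.eq]
    exact hte
  rw [Subgroup.mem_subgroupOf] at hc
  refine ⟨t, ht', _, hc, ?_⟩
  simp

/-- Under the hypothesis of the statement, `P` controls strong fusion in itself. -/
theorem self_control [Finite G] {p : ℕ} [Fact p.Prime] (P : Sylow p G)
    (h : ∀ Q : Sylow p G, (P : Subgroup G) ⊓ (Q : Subgroup G) ≠ ⊥ →
      IsTame p (P : Subgroup G) (Q : Subgroup G) →
      IsPGroup p (Subgroup.normalizer (((P : Subgroup G) ⊓ (Q : Subgroup G) : Subgroup G) : Set G) ⧸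
        (Subgroup.centralizer (((P : Subgroup G) ⊓ (Q : Subgroup G) : Subgroup G) : Set G)).subgroupOf
          (Subgroup.normalizer (((P : Subgroup G) ⊓ (Q : Subgroup G) : Subgroup G) : Set G))))
    {A : Set G} {g : G} (hr : TReach p P A g) :
    ∃ u ∈ (P : Subgroup G), ∀ a ∈ A, g⁻¹ * a * g = u⁻¹ * a * u := by
  induction hr with
  | nil A => exact ⟨1, Subgroup.one_mem _, fun a _ => by simp⟩
  | cons A T x g' hT hA _ ih =>
    obtain ⟨u', hu', hu'a⟩ := ih
    obtain ⟨Q, hTQ, htame, hx, _⟩ := hT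
    -- local factorization
    have hloc : ∃ r ∈ (P : Subgroup G), ∀ a ∈ T, x⁻¹ * a * x = r⁻¹ * a * r := by
      by_cases hT1 : T = ⊥
      · refine ⟨1, Subgroup.one_mem _, ?_⟩
        intro a ha
        rw [hT1, Subgroup.mem_bot] at ha
        subst ha
        simp
      · have hQ := h Q (hTQ ▸ hT1) htame
        rw [← hTQ] at hQ
        have h1 := htame.1
        rw [← hTQ] at h1
        obtain ⟨r, hr, c, hc, hxrc⟩ := factor_of_quotient_isPGroup
          (R := (P : Subgroup G) ⊓ Subgroup.normalizer (T : Set G))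
          (N := Subgroup.normalizer (T : Set G)) (C := Subgroup.centralizer (T : Set G))
          (P.2.to_le inf_le_left) inf_le_right h1 (Subgroup.centralizer_le_normalizer _) hQ x hx
        refine ⟨r, hr.1, ?_⟩
        intro a ha
        have hra : r⁻¹ * a * r⁻¹⁻¹ ∈ T :=
          (Subgroup.mem_normalizer_iff.mp (inv_mem hr.2) a).mp ha
        rw [Subgroup.mem_centralizer_iff] at hc
        have hcomm := hc _ hra
        rw [hxrc]
        calc (r * c)⁻¹ * a * (r * c) = c⁻¹ * ((r⁻¹ * a * r⁻¹⁻¹) * c) := by group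
          _ = c⁻¹ * (c * (r⁻¹ * a * r⁻¹⁻¹)) := by rw [hcomm]
          _ = r⁻¹ * a * r := by group
    obtain ⟨r, hr, hra⟩ := hloc
    refine ⟨r * u', Subgroup.mul_mem _ hr hu', ?_⟩
    intro a ha
    have h2 := hu'a (x⁻¹ * a * x) ⟨a, ha, rfl⟩
    calc (x * g')⁻¹ * a * (x * g') = g'⁻¹ * (x⁻¹ * a * x) * g' := by group
      _ = u'⁻¹ * (x⁻¹ * a * x) * u' := h2
      _ = u'⁻¹ * (r⁻¹ * a * r) * u' := by rw [hra a (hA ha)]
      _ = (r * u')⁻¹ * a * (r * u') := by group


/-- Let P be a Sylow p-subgroup of a finite group G. Call an intersection H = P ∩ Q with a Sylow p-subgroup Q tame when N_P(H) and N_Q(H) are Sylow p-subgroups of N_G(H). If N_G(H)/C_G(H) is a p-group for every nontrivial tame intersection H = P ∩ Q, then G has a normal p-complement. -/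
theorem result {G : Type*} [Group G] [Finite G] (p : ℕ) [Fact p.Prime] (P : Sylow p G)
    (h : ∀ Q : Sylow p G, (P : Subgroup G) ⊓ (Q : Subgroup G) ≠ ⊥ → (¬ p ∣ ((P : Subgroup G) ⊓ Subgroup.normalizer (((P : Subgroup G) ⊓ (Q : Subgroup G) : Subgroup G) : Set G)).relIndex (Subgroup.normalizer (((P : Subgroup G) ⊓ (Q : Subgroup G) : Subgroup G) : Set G)) ∧ ¬ p ∣ ((Q : Subgroup G) ⊓ Subgroup.normalizer (((P : Subgroup G) ⊓ (Q : Subgroup G) : Subgroup G) : Set G)).relIndex (Subgroup.normalizer (((P : Subgroup G) ⊓ (Q : Subgroup G) : Subgroup G) : Set G))) →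
      IsPGroup p (Subgroup.normalizer (((P : Subgroup G) ⊓ (Q : Subgroup G) : Subgroup G) : Set G) ⧸
        (Subgroup.centralizer (((P : Subgroup G) ⊓ (Q : Subgroup G) : Subgroup G) : Set G)).subgroupOf
          (Subgroup.normalizer (((P : Subgroup G) ⊓ (Q : Subgroup G) : Subgroup G) : Set G)))) :
    Cfsg.HasNormalPComplement p G := by
  apply hasNormalPComplement_of_frobHyp
  -- reduce to `Q₀ ≤ P`
  have key : ∀ Q₀ : Subgroup G, Q₀ ≤ (P : Subgroup G) → ∀ g ∈ Subgroup.normalizer (Q₀ : Set G),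
      Nat.Coprime (orderOf g) p → g ∈ Subgroup.centralizer (Q₀ : Set G) := by
    intro Q₀ hQ₀ g hg hgp
    have hgQ : Q₀.map (MulAut.conj g⁻¹).toMonoidHom ≤ (P : Subgroup G) := by
      rw [mem_normalizer_iff_map_conj.mp (inv_mem hg)]; exact hQ₀
    obtain ⟨u, hu, hua⟩ := self_control P h (treach_subgroup P Q₀ hQ₀ g hgQ)
    -- powers
    have hpow : ∀ j : ℕ, ∀ a ∈ Q₀, (g ^ j)⁻¹ * a * g ^ j = (u ^ j)⁻¹ * a * u ^ j ∧
        (g ^ j)⁻¹ * a * g ^ j ∈ Q₀ := by
      intro j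
      induction j with
      | zero => intro a ha; simpa using ha
      | succ j ih =>
        intro a ha
        obtain ⟨h1, h2⟩ := ih a ha
        have h3 := hua _ h2
        have h4 : g⁻¹ * ((g ^ j)⁻¹ * a * g ^ j) * g⁻¹⁻¹ ∈ Q₀ :=
          (Subgroup.mem_normalizer_iff.mp (inv_mem hg) _).mp h2
        constructor
        · calc (g ^ (j + 1))⁻¹ * a * g ^ (j + 1) = g⁻¹ * ((g ^ j)⁻¹ * a * g ^ j) * g := by
                rw [pow_succ]; group
            _ = u⁻¹ * ((g ^ j)⁻¹ * a * g ^ j) * u := h3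
            _ = u⁻¹ * ((u ^ j)⁻¹ * a * u ^ j) * u := by rw [h1]
            _ = (u ^ (j + 1))⁻¹ * a * u ^ (j + 1) := by rw [pow_succ]; group
        · have : (g ^ (j + 1))⁻¹ * a * g ^ (j + 1) = g⁻¹ * ((g ^ j)⁻¹ * a * g ^ j) * g⁻¹⁻¹ := by
            rw [pow_succ]; group
          rw [this]; exact h4
    obtain ⟨k, hk⟩ := (IsPGroup.iff_orderOf.mp P.2) ⟨u, hu⟩
    have huk : u ^ (p ^ k) = 1 := by
      have : orderOf u = p ^ k := by rw [← hk, Subgroup.orderOf_mk]
      rw [← this]; exact pow_orderOf_eq_one u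
    have hgk : g ^ (p ^ k) ∈ Subgroup.centralizer (Q₀ : Set G) := by
      rw [Subgroup.mem_centralizer_iff]
      intro a ha
      have := (hpow (p ^ k) a ha).1
      rw [huk] at this
      simp only [inv_one, one_mul, mul_one] at this
      calc a * g ^ (p ^ k) = g ^ (p ^ k) * ((g ^ (p ^ k))⁻¹ * a * g ^ (p ^ k)) := by group
        _ = g ^ (p ^ k) * a := by rw [this]
    have hcop : (p ^ k).Coprime (orderOf g) := (Nat.Coprime.pow_right k hgp).symm
    obtain ⟨m, hm⟩ := exists_pow_eq_self_of_coprime hcop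
    rw [← hm]
    exact Subgroup.pow_mem _ hgk m
  intro Q₀ hQ₀ g hg hgp
  obtain ⟨c, hc⟩ := exists_map_conj_le_sylow P hQ₀
  have hg1 := conj_mem_normalizer_map_conj c hg
  have hord : orderOf (c * g * c⁻¹) = orderOf g :=
    orderOf_injective (MulAut.conj c).toMonoidHom (MulAut.conj c).injective g
  have h1 := key _ hc _ hg1 (hord ▸ hgp)
  rw [Subgroup.mem_centralizer_iff] at h1 ⊢
  intro a ha
  have h2 := h1 (c * a * c⁻¹) ⟨a, ha, rfl⟩
  have h3 : c⁻¹ * (c * a * c⁻¹ * (c * g * c⁻¹)) * c = a * g := by group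
  have h4 : c⁻¹ * (c * g * c⁻¹ * (c * a * c⁻¹)) * c = g * a := by group
  rw [← h3, ← h4, h2]


end Cfsg.Agent.S4251
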