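import Mathlib
import Cfsg.Prelude.Def_Solvable
import Cfsg.Agent.Lib.H20.BHM5

set_option autoImplicit false
open Cfsg

namespace Cfsg.Agent.S4255

open Cfsg.Agent.Lib.H20.BHM

/-- Let G be a finite group. Call a prime a vertex if it divides some conjugacy class size of G, and two distinct vertices adjacent if their product divides some class size. Suppose this graph is disconnected: the vertices split into two nonempty parts with no vertex of one part adjacent to a vertex of the other. Then G/Z(G) is a Frobenius group with abelian Frobenius complement and with a Frobenius kernel all of whose elements commute. -/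
theorem result {G : Type*} [Group G] [Finite G] (S : Set ℕ) (hS : ∃ p ∈ S, (p.Prime ∧ ∃ g : G, p ∣ (Subgroup.centralizer ({g} : Set G)).index)) (hS' : ∃ q ∉ S, (q.Prime ∧ ∃ g : G, q ∣ (Subgroup.centralizer ({g} : Set G)).index))
    (hdisc : ∀ p q : ℕ, (p.Prime ∧ ∃ g : G, p ∣ (Subgroup.centralizer ({g} : Set G)).index) → (q.Prime ∧ ∃ g : G, q ∣ (Subgroup.centralizer ({g} : Set G)).index) → p ∈ S → q ∉ S → ¬ (∃ g : G, p * q ∣ (Subgroup.centralizer ({g} : Set G)).index)) :
    ∃ H : Subgroup (G ⧸ Subgroup.center G), Cfsg.IsFrobeniusComplement H ∧ IsMulCommutative H ∧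
      ∀ x ∈ Cfsg.frobeniusKernel H, ∀ y ∈ Cfsg.frobeniusKernel H, x * y = y * x := by
  have hsplit : Split S G := by
    intro g
    by_cases h : ∀ p : ℕ, p.Prime → p ∣ cs g → p ∈ S
    · exact Or.inl h
    · right
      push Not at h
      obtain ⟨q, hq, hqd, hqS⟩ := h
      intro p hp hpd hpS
      apply hdisc p q ⟨hp, g, hpd⟩ ⟨hq, g, hqd⟩ hpS hqS
      refine ⟨g, ?_⟩
      have hne : p ≠ q := fun h => hqS (h ▸ hpS)
      exact Nat.Coprime.mul_dvd_of_dvd_of_dvd ((Nat.coprime_primes hp hq).mpr hne) hpd hqd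
  obtain ⟨p, hpS, hp, a0, hpa0⟩ := hS
  obtain ⟨q, hqS, hq, b1, hqb1⟩ := hS'
  have ha0 : IsX S a0 := by
    have h1 : cs a0 ≠ 1 := by
      intro h
      rw [show (Subgroup.centralizer ({a0} : Set G)).index = cs a0 from rfl, h, Nat.dvd_one] at hpa0
      exact hp.ne_one hpa0
    rcases isX_or_isY hsplit h1 with h | h
    · exact h
    · exact (h.2 p hp hpa0 hpS).elim
  have hb1 : IsY S b1 := by
    have h1 : cs b1 ≠ 1 := by
      intro h
      rw [show (Subgroup.centralizer ({b1} : Set G)).index = cs b1 from rfl, h, Nat.dvd_one] at hqb1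
      exact hq.ne_one hqb1
    rcases isX_or_isY hsplit h1 with h | h
    · exact (hqS (h.2 q hq hqb1)).elim
    · exact h
  obtain ⟨g0, hg0⟩ := Finite.exists_max (fun g : G => cs g)
  have hg01 : cs g0 ≠ 1 := by
    intro h
    have h1 : cs a0 ≤ cs g0 := hg0 a0
    rw [h] at h1
    have h2 : cs a0 ≠ 0 := cs_ne_zero a0
    exact ha0.1 (by omega)
  rcases isX_or_isY hsplit hg01 with h | h
  · -- `g0` is of `X`-type: swap the roles
    have hYc : IsY Sᶜ g0 := ⟨h.1, fun p hp hpd hc => hc (h.2 p hp hpd)⟩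
    have St : Setup Sᶜ g0 := ⟨split_compl hsplit, hg0, hYc⟩
    exact St.main ((isY_iff_isX_compl b1).mp hb1)
  · have St : Setup S g0 := ⟨hsplit, hg0, h⟩
    exact St.main ha0

end Cfsg.Agent.S4255
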