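import Cfsg.Statements.S4257
import Cfsg.Agent.Lib.H4.CG.ClassGraphC

set_option autoImplicit false
open Cfsg

namespace Cfsg.Agent.S4257

open Cfsg.Agent.Lib.H20.BHM Cfsg.Agent.Lib.H4.CG

/-- The closed neighbourhood of `p` in the class-size prime graph. -/
def Nbr (G : Type*) [Group G] (p : ℕ) : Set ℕ := {a | a.Prime ∧ ∃ x : G, p ∣ cs x ∧ a ∣ cs x}

theorem mul_dvd_of_ne {a b n : ℕ} (ha : a.Prime) (hb : b.Prime) (hab : a ≠ b) (h1 : a ∣ n)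
    (h2 : b ∣ n) : a * b ∣ n :=
  Nat.Coprime.mul_dvd_of_dvd_of_dvd ((Nat.coprime_primes ha hb).mpr hab) h1 h2

theorem half {G : Type*} [Group G] [Finite G]
    (hconn : ∀ S : Set ℕ, (∃ p ∈ S, (p.Prime ∧ ∃ g : G, p ∣ (Subgroup.centralizer ({g} : Set G)).index)) → (∃ q ∉ S, (q.Prime ∧ ∃ g : G, q ∣ (Subgroup.centralizer ({g} : Set G)).index)) →
      ∃ p q : ℕ, (p.Prime ∧ ∃ g : G, p ∣ (Subgroup.centralizer ({g} : Set G)).index) ∧ (q.Prime ∧ ∃ g : G, q ∣ (Subgroup.centralizer ({g} : Set G)).index) ∧ p ∈ S ∧ q ∉ S ∧ (∃ g : G, p * q ∣ (Subgroup.centralizer ({g} : Set G)).index))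
    (p q : ℕ) (hp : p.Prime ∧ ∃ g : G, p ∣ cs g) (hq : q.Prime ∧ ∃ g : G, q ∣ cs g)
    (hno : ¬ ∃ g : G, p ∣ cs g ∧ q ∣ cs g)
    (disj : ∀ z : ℕ, z ∈ Nbr G p → z ∈ Nbr G q → False)
    (noedge : ∀ (g : G) (a b : ℕ), a ∈ Nbr G p → b ∈ Nbr G q → a ∣ cs g → b ∣ cs g → False)
    (x0 : G) (hx0 : p ∣ cs x0) (hmax : ∀ y : G, q ∣ cs y → cs y ≤ cs x0) : False := by
  obtain ⟨xp, hxp⟩ := hp.2
  obtain ⟨yq, hyq⟩ := hq.2
  have hqB : q ∈ Nbr G q := ⟨hq.1, yq, hyq, hyq⟩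
  have hpA : p ∈ Nbr G p := ⟨hp.1, xp, hxp, hxp⟩
  have S : Ctx (Nbr G p) (Nbr G q) q x0 :=
    { hq := hq.1
      hqB := hqB
      disj := disj
      noedge := noedge
      x0A := fun r hr hd => ⟨hr, x0, hx0, hd⟩
      yB := fun y hy r hr hd => ⟨hr, y, hy, hd⟩
      ylt := fun y hy => lt_of_le_of_ne (hmax y hy) (fun heq => hno ⟨y, heq ▸ hx0, hy⟩)
      exy := hq.2 }
  obtain ⟨p', q', hp', hq', hp'S, hq'S, g, hg⟩ :=
    hconn (Nbr G q) ⟨q, hqB, hq⟩ ⟨p, fun h => disj p hpA h, hp⟩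
  have h1 : q ∣ cs g := S.core g p' hp'S (dvd_of_mul_right_dvd hg)
  exact hq'S ⟨hq'.1, g, h1, dvd_of_mul_left_dvd hg⟩

/-- Let G be a finite group. Call a prime a vertex if it divides some conjugacy class size of G, and two distinct vertices adjacent if their product divides some class size. If this graph is connected, then its diameter is at most 3: any two distinct vertices p and q are adjacent, or joined through one or two intermediate vertices. -/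
theorem result {G : Type*} [Group G] [Finite G]
    (hconn : ∀ S : Set ℕ, (∃ p ∈ S, (p.Prime ∧ ∃ g : G, p ∣ (Subgroup.centralizer ({g} : Set G)).index)) → (∃ q ∉ S, (q.Prime ∧ ∃ g : G, q ∣ (Subgroup.centralizer ({g} : Set G)).index)) →
      ∃ p q : ℕ, (p.Prime ∧ ∃ g : G, p ∣ (Subgroup.centralizer ({g} : Set G)).index) ∧ (q.Prime ∧ ∃ g : G, q ∣ (Subgroup.centralizer ({g} : Set G)).index) ∧ p ∈ S ∧ q ∉ S ∧ (∃ g : G, p * q ∣ (Subgroup.centralizer ({g} : Set G)).index))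
    (p q : ℕ) (hp : (p.Prime ∧ ∃ g : G, p ∣ (Subgroup.centralizer ({g} : Set G)).index)) (hq : (q.Prime ∧ ∃ g : G, q ∣ (Subgroup.centralizer ({g} : Set G)).index)) (hpq : p ≠ q) :
    (∃ g : G, p * q ∣ (Subgroup.centralizer ({g} : Set G)).index) ∨ (∃ r : ℕ, (r.Prime ∧ ∃ g : G, r ∣ (Subgroup.centralizer ({g} : Set G)).index) ∧ r ≠ p ∧ r ≠ q ∧ (∃ g : G, p * r ∣ (Subgroup.centralizer ({g} : Set G)).index) ∧ (∃ g : G, r * q ∣ (Subgroup.centralizer ({g} : Set G)).index)) ∨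
      (∃ r s : ℕ, (r.Prime ∧ ∃ g : G, r ∣ (Subgroup.centralizer ({g} : Set G)).index) ∧ (s.Prime ∧ ∃ g : G, s ∣ (Subgroup.centralizer ({g} : Set G)).index) ∧ r ≠ p ∧ s ≠ q ∧ r ≠ s ∧ r ≠ q ∧ s ≠ p ∧
        (∃ g : G, p * r ∣ (Subgroup.centralizer ({g} : Set G)).index) ∧ (∃ g : G, r * s ∣ (Subgroup.centralizer ({g} : Set G)).index) ∧ (∃ g : G, s * q ∣ (Subgroup.centralizer ({g} : Set G)).index)) := by
  by_contra hcon
  rw [not_or, not_or] at hcon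
  obtain ⟨n1, n2, n3⟩ := hcon
  obtain ⟨xp, hxp⟩ := hp.2
  obtain ⟨yq, hyq⟩ := hq.2
  have hno : ¬ ∃ g : G, p ∣ cs g ∧ q ∣ cs g := fun ⟨g, h1, h2⟩ =>
    n1 ⟨g, mul_dvd_of_ne hp.1 hq.1 hpq h1 h2⟩
  have disj : ∀ z : ℕ, z ∈ Nbr G p → z ∈ Nbr G q → False := by
    rintro z ⟨hz, x, hpx, hzx⟩ ⟨_, y, hqy, hzy⟩
    by_cases hzp : z = p
    · rw [hzp] at hzy
      exact hno ⟨y, hzy, hqy⟩
    by_cases hzq : z = q
    · rw [hzq] at hzx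
      exact hno ⟨x, hpx, hzx⟩
    exact n2 ⟨z, ⟨hz, x, hzx⟩, hzp, hzq, ⟨x, mul_dvd_of_ne hp.1 hz (Ne.symm hzp) hpx hzx⟩,
      ⟨y, mul_dvd_of_ne hz hq.1 hzq hzy hqy⟩⟩
  have noedge : ∀ (g : G) (a b : ℕ), a ∈ Nbr G p → b ∈ Nbr G q → a ∣ cs g → b ∣ cs g → False := by
    rintro g a b ⟨ha, x, hpx, hax⟩ ⟨hb, y, hqy, hby⟩ hag hbg
    have haA : a ∈ Nbr G p := ⟨ha, x, hpx, hax⟩
    have hbB : b ∈ Nbr G q := ⟨hb, y, hqy, hby⟩
    have hab : a ≠ b := fun h => disj a haA (by rw [h]; exact hbB)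
    by_cases hap : a = p
    · by_cases hbq : b = q
      · rw [hap] at hag
        rw [hbq] at hbg
        exact hno ⟨g, hag, hbg⟩
      · rw [hap] at hag hab
        exact n2 ⟨b, ⟨hb, g, hbg⟩, (Ne.symm hab), hbq, ⟨g, mul_dvd_of_ne hp.1 hb hab hag hbg⟩,
          ⟨y, mul_dvd_of_ne hb hq.1 hbq hby hqy⟩⟩
    · by_cases hbq : b = q
      · rw [hbq] at hbg hab
        exact n2 ⟨a, ⟨ha, g, hag⟩, hap, hab, ⟨x, mul_dvd_of_ne hp.1 ha (Ne.symm hap) hpx hax⟩,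
          ⟨g, mul_dvd_of_ne ha hq.1 hab hag hbg⟩⟩
      · have haq : a ≠ q := fun h => disj a haA (by rw [h]; exact ⟨hq.1, yq, hyq, hyq⟩)
        have hbp : b ≠ p := fun h => disj b (by rw [h]; exact ⟨hp.1, xp, hxp, hxp⟩) hbB
        exact n3 ⟨a, b, ⟨ha, g, hag⟩, ⟨hb, g, hbg⟩, hap, hbq, hab, haq, hbp,
          ⟨x, mul_dvd_of_ne hp.1 ha (Ne.symm hap) hpx hax⟩,
          ⟨g, mul_dvd_of_ne ha hb hab hag hbg⟩,
          ⟨y, mul_dvd_of_ne hb hq.1 hbq hby hqy⟩⟩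
  haveI : Nonempty {x : G // p ∣ cs x ∨ q ∣ cs x} := ⟨⟨xp, Or.inl hxp⟩⟩
  obtain ⟨⟨x0, hx0⟩, hmax⟩ := Finite.exists_max (fun x : {x : G // p ∣ cs x ∨ q ∣ cs x} => cs x.1)
  rcases hx0 with h | h
  · exact half hconn p q hp hq hno disj noedge x0 h (fun y hy => hmax ⟨y, Or.inr hy⟩)
  · exact half hconn q p hq hp (fun ⟨g, h1, h2⟩ => hno ⟨g, h2, h1⟩) (fun z h1 h2 => disj z h2 h1)
      (fun g a b ha hb h1 h2 => noedge g b a hb ha h2 h1) x0 h (fun y hy => hmax ⟨y, Or.inl hy⟩)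

end Cfsg.Agent.S4257
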