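import Cfsg.Statements.S4263
import Mathlib
import Cfsg.Agent.Lib.H1.Fitting
import Cfsg.Agent.S4303

set_option autoImplicit false
open Cfsg

namespace Cfsg.Agent.S4263

open Cfsg.Agent.Lib.H1

/-- In a finite nilpotent group, `x ^ [F : K] ∈ K` for every subgroup `K`. -/
theorem pow_index_mem_of_isNilpotent {F : Type*} [Group F] [Finite F] [Group.IsNilpotent F] :
    ∀ (n : ℕ) (K : Subgroup F), K.index = n → ∀ x : F, x ^ K.index ∈ K := by
  intro n
  induction n using Nat.strong_induction_on with
  | _ n ih =>
  intro K hK x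
  by_cases htop : K = ⊤
  · rw [htop]; exact Subgroup.mem_top _
  have hlt : K < Subgroup.normalizer (K : Set F) :=
    Group.normalizerCondition_of_isNilpotent K (lt_top_iff_ne_top.mpr htop)
  set N := Subgroup.normalizer (K : Set F) with hN
  have hmul : K.relIndex N * N.index = K.index := Subgroup.relIndex_mul_index hlt.le
  have hrel : 1 < K.relIndex N := by
    have h1 : K.relIndex N ≠ 0 := by
      intro h0
      have := hmul
      rw [h0, zero_mul] at this
      exact Subgroup.index_ne_zero_of_finite this.symm
    have h2 : K.relIndex N ≠ 1 := by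
      intro h
      rw [Subgroup.relIndex_eq_one] at h
      exact (not_le_of_gt hlt) h
    omega
  have hNpos : 0 < N.index := Nat.pos_of_ne_zero Subgroup.index_ne_zero_of_finite
  have hNlt : N.index < n := by
    rw [← hK, ← hmul]
    nlinarith
  have h1 : x ^ N.index ∈ N := ih N.index hNlt N rfl x
  haveI : (K.subgroupOf N).Normal := Subgroup.normal_in_normalizer
  have h2 := Subgroup.pow_index_mem (K.subgroupOf N) (⟨x ^ N.index, h1⟩ : N)
  rw [Subgroup.mem_subgroupOf] at h2
  have h3 : (x ^ N.index) ^ K.relIndex N ∈ K := by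
    simpa [Subgroup.relIndex] using h2
  rw [← hmul, mul_comm, pow_mul]
  exact h3

/-- Let G be a finite group. An element x lies in the Fitting subgroup F(G) if and only if, for every subgroup H of G, the power x^[G : H] lies in H. -/
theorem result {G : Type*} [Group G] [Finite G] (x : G) :
    x ∈ Cfsg.fittingSubgroup G ↔ ∀ H : Subgroup G, x ^ H.index ∈ H := by
  haveI hFn : (Cfsg.fittingSubgroup G).Normal := fittingSubgroup_normal G
  constructor
  · intro hx H
    haveI : Group.IsNilpotent (Cfsg.fittingSubgroup G) := fittingSubgroup_isNilpotent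
    have h1 := pow_index_mem_of_isNilpotent (F := Cfsg.fittingSubgroup G) _
      (H.subgroupOf (Cfsg.fittingSubgroup G)) rfl ⟨x, hx⟩
    rw [Subgroup.mem_subgroupOf] at h1
    have h2 : x ^ H.relIndex (Cfsg.fittingSubgroup G) ∈ H := by
      simpa [Subgroup.relIndex] using h1
    have hdvd : H.relIndex (Cfsg.fittingSubgroup G) ∣ H.index := by
      rw [← Cfsg.Agent.S4303.relIndex_sup_of_normal H (Cfsg.fittingSubgroup G)]
      exact Subgroup.relIndex_dvd_index_of_le le_sup_left
    obtain ⟨k, hk⟩ := hdvd
    rw [hk, pow_mul]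
    exact Subgroup.pow_mem _ h2 k
  · intro h
    -- order of the image of x in G ⧸ F
    rw [← QuotientGroup.eq_one_iff, ← orderOf_eq_one_iff]
    by_contra hne
    obtain ⟨q, hq, hqd⟩ := Nat.exists_prime_and_dvd hne
    haveI : Fact q.Prime := ⟨hq⟩
    obtain ⟨P⟩ : Nonempty (Sylow q G) := inferInstance
    -- x ^ (index of a Sylow q-subgroup) lies in the q-core
    have hcore : x ^ (P : Subgroup G).index ∈ Cfsg.pCore q G := by
      rw [pCore_eq_iInf_sylow, Subgroup.mem_iInf]
      intro Q
      have hidx : (Q : Subgroup G).index = (P : Subgroup G).index := by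
        have h1 := Subgroup.card_mul_index (Q : Subgroup G)
        have h2 := Subgroup.card_mul_index (P : Subgroup G)
        have h3 : Nat.card (Q : Subgroup G) = Nat.card (P : Subgroup G) := by
          rw [Sylow.card_eq_multiplicity, Sylow.card_eq_multiplicity]
        rw [h3] at h1
        exact Nat.eq_of_mul_eq_mul_left Nat.card_pos (h1.trans h2.symm)
      rw [← hidx]
      exact h Q
    have hF : x ^ (P : Subgroup G).index ∈ Cfsg.fittingSubgroup G := by
      rw [fittingSubgroup_eq_iSup_pCore]
      exact (le_iSup (fun p : Nat.Primes => Cfsg.pCore (p : ℕ) G) ⟨q, hq⟩) hcore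
    have h1 : ((x : G ⧸ Cfsg.fittingSubgroup G)) ^ (P : Subgroup G).index = 1 := by
      rw [← QuotientGroup.mk_pow, QuotientGroup.eq_one_iff]
      exact hF
    have h2 : q ∣ (P : Subgroup G).index := hqd.trans (orderOf_dvd_of_pow_eq_one h1)
    exact P.not_dvd_index h2

end Cfsg.Agent.S4263
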