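import Cfsg.Statements.S4269
-- import your own Cfsg.Agent.* helpers here
import Mathlib
import Cfsg.Agent.Lib.H16.ConjSub
import Cfsg.Agent.Lib.H1.Complement

set_option autoImplicit false
open Cfsg

namespace Cfsg.Agent.S4269

open Cfsg.Agent.Lib.H16 in
open scoped commutatorElement in
theorem forward {G : Type*} [Group G] (H : Subgroup G) (hpro : Cfsg.IsPronormal H)
    (U : Subgroup G) (hinv : ∀ h ∈ H, U.map (MulAut.conj h).toMonoidHom = U) :
    U = (U ⊓ Subgroup.normalizer (H : Set G)) ⊔ ⁅H, U⁆ := by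
  have hHU : H ≤ Subgroup.normalizer (U : Set G) :=
    fun h hh => (mem_normalizer_iff_cj_eq h U).mpr (hinv h hh)
  have hcomm_le : ⁅H, U⁆ ≤ U := Subgroup.le_normalizer_iff_commutator_le_right.mp hHU
  apply le_antisymm
  · intro u hu
    obtain ⟨x, hx, hxe⟩ := hpro u
    have hJ : H ⊔ cj u H ≤ ⁅H, U⁆ ⊔ H := by
      apply sup_le le_sup_right
      rintro _ ⟨h, hh, rfl⟩
      have e : u * h * u⁻¹ = ⁅u, h⁆ * h := by simp [commutatorElement_def]
      change u * h * u⁻¹ ∈ _
      rw [e]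
      apply Subgroup.mul_mem_sup _ hh
      rw [Subgroup.commutator_comm]
      exact Subgroup.commutator_mem_commutator hu hh
    obtain ⟨w, hw, h, hh, rfl⟩ := Cfsg.Agent.Lib.H1.mem_sup_of_le_normalizer
      (Subgroup.normalizer_commutator_ge_left H U) (hJ hx)
    have h1 : cj (w * h) H = cj w H := by
      rw [cj_mul, (mem_normalizer_iff_cj_eq h H).mp (Subgroup.le_normalizer hh)]
    have hxe' : cj u H = cj w H := hxe.trans h1
    have hn : w⁻¹ * u ∈ Subgroup.normalizer (H : Set G) := by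
      rw [mem_normalizer_iff_cj_eq, cj_mul, hxe', cj_inv_cj]
    have e : u = w * (w⁻¹ * u) := by group
    rw [e, sup_comm]
    exact Subgroup.mul_mem_sup hw ⟨U.mul_mem (U.inv_mem (hcomm_le hw)) hu, hn⟩
  · exact sup_le inf_le_left hcomm_le

open Cfsg.Agent.Lib.H16 in
open scoped commutatorElement in
theorem backward {G : Type*} [Group G] [Finite G]
    (V : Subgroup G) [V.Normal] (hV : IsMulCommutative ↥V) (H : Subgroup G) (hHV : H ⊔ V = ⊤)
    (hcond : ∀ U : Subgroup G, U ≤ V → (∀ h ∈ H, U.map (MulAut.conj h).toMonoidHom = U) →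
        U = (U ⊓ Subgroup.normalizer (H : Set G)) ⊔ ⁅H, U⁆) :
    Cfsg.IsPronormal H := by
  intro g
  have hVn : V.Normal := inferInstance
  have hVc : ∀ x ∈ V, ∀ y ∈ V, x * y = y * x := fun x hx y hy =>
    congrArg Subtype.val (hV.is_comm.comm ⟨x, hx⟩ ⟨y, hy⟩)
  have hg : g ∈ V ⊔ H := by rw [sup_comm, hHV]; trivial
  obtain ⟨v, hv, h, hh, rfl⟩ := Subgroup.mem_sup_of_normal_left.mp hg
  have h0 : cj (v * h) H = cj v H := by
    rw [cj_mul, (mem_normalizer_iff_cj_eq h H).mp (Subgroup.le_normalizer hh)]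
  change ∃ x ∈ H ⊔ cj (v * h) H, cj (v * h) H = cj x H
  rw [h0]
  set J := H ⊔ cj v H with hJdef
  -- the `H`-invariant subgroup generated by `v`
  set S : Set G := {y | ∃ h' ∈ H, y = h' * v * h'⁻¹} with hS
  set U := Subgroup.closure S with hU
  have hSV : S ⊆ V := by
    rintro _ ⟨h', _, rfl⟩
    exact hVn.conj_mem v hv h'
  have hUV : U ≤ V := (Subgroup.closure_le V).mpr hSV
  have hvU : v ∈ U := Subgroup.subset_closure ⟨1, H.one_mem, by simp⟩
  have hUinv : ∀ h' ∈ H, U.map (MulAut.conj h').toMonoidHom = U := by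
    intro h' hh'
    apply cj_eq_of_le
    change Subgroup.map _ U ≤ U
    rw [Subgroup.map_le_iff_le_comap, hU, Subgroup.closure_le]
    rintro _ ⟨h'', hh'', rfl⟩
    change h' * (h'' * v * h''⁻¹) * h'⁻¹ ∈ Subgroup.closure S
    apply Subgroup.subset_closure
    exact ⟨h' * h'', H.mul_mem hh' hh'', by group⟩
  have hdecomp := hcond U hUV hUinv
  -- commutators `⁅h', u⁆`, `u ∈ U`, lie in `J`
  have hcommV : ∀ h' : G, ∀ u ∈ V, ⁅h', u⁆ ∈ V := by
    intro h' u hu
    have : ⁅h', u⁆ = (h' * u * h'⁻¹) * u⁻¹ := by simp [commutatorElement_def]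
    rw [this]
    exact V.mul_mem (hVn.conj_mem u hu h') (V.inv_mem hu)
  have hbase : ∀ h' ∈ H, ⁅h', v⁆ ∈ J := by
    intro h' hh'
    have : ⁅h', v⁆ = h' * (v * h'⁻¹ * v⁻¹) := by simp [commutatorElement_def, mul_assoc]
    rw [this]
    exact Subgroup.mul_mem_sup hh' (conj_mem_cj v H _ (H.inv_mem hh'))
  let T : Subgroup G :=
    { carrier := {u | u ∈ V ∧ ∀ h' ∈ H, ⁅h', u⁆ ∈ J}
      one_mem' := ⟨V.one_mem, fun h' _ => by rw [commutatorElement_one_right]; exact J.one_mem⟩
      mul_mem' := by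
        rintro a b ⟨haV, ha⟩ ⟨hbV, hb⟩
        refine ⟨V.mul_mem haV hbV, fun h' hh' => ?_⟩
        rw [commutatorElement_mul_right_eq_mul_conj]
        have e : ⁅h', a⁆ * a * ⁅h', b⁆ * a⁻¹ = ⁅h', a⁆ * ⁅h', b⁆ := by
          rw [mul_assoc ⁅h', a⁆ a, hVc a haV _ (hcommV h' b hbV)]; group
        rw [e]
        exact J.mul_mem (ha h' hh') (hb h' hh')
      inv_mem' := by
        rintro a ⟨haV, ha⟩
        refine ⟨V.inv_mem haV, fun h' hh' => ?_⟩
        rw [commutatorElement_inv_right]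
        have e : a⁻¹ * ⁅a, h'⁆ * a = ⁅a, h'⁆ := by
          have hc : ⁅a, h'⁆ ∈ V := by
            rw [← commutatorElement_inv]; exact V.inv_mem (hcommV h' a haV)
          rw [mul_assoc, hVc _ hc a haV]; group
        rw [e, ← commutatorElement_inv]
        exact J.inv_mem (ha h' hh') }
  have hST : S ⊆ T := by
    rintro _ ⟨h'', hh'', rfl⟩
    refine ⟨hVn.conj_mem v hv h'', fun h' hh' => ?_⟩
    have e : ⁅h', h'' * v * h''⁻¹⁆ = ⁅h' * h'', v⁆ * ⁅h'', v⁆⁻¹ := by
      simp [commutatorElement_def, mul_assoc]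
    rw [e]
    exact J.mul_mem (hbase _ (H.mul_mem hh' hh'')) (J.inv_mem (hbase _ hh''))
  have hUT : U ≤ T := (Subgroup.closure_le T).mpr hST
  have hcommJ : ⁅H, U⁆ ≤ J := by
    rw [Subgroup.commutator_le]
    intro h' hh' u hu
    exact (hUT hu).2 h' hh'
  -- decompose `v`
  have hcomm_le : ⁅H, U⁆ ≤ U := Subgroup.le_normalizer_iff_commutator_le_right.mp
    (fun h' hh' => (mem_normalizer_iff_cj_eq h' U).mpr (hUinv h' hh'))
  have hnorm : ⁅H, U⁆ ≤ Subgroup.normalizer
      ((U ⊓ Subgroup.normalizer (H : Set G) : Subgroup G) : Set G) := by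
    refine le_trans ?_ (Subgroup.centralizer_le_normalizer _)
    intro y hy
    rw [Subgroup.mem_centralizer_iff]
    intro x hx
    exact hVc x (hUV hx.1) y (hUV (hcomm_le hy))
  have hv' : v ∈ (U ⊓ Subgroup.normalizer (H : Set G)) ⊔ ⁅H, U⁆ := hdecomp ▸ hvU
  obtain ⟨n, hn, w, hw, hvnw⟩ := Cfsg.Agent.Lib.H1.mem_sup_of_le_normalizer hnorm hv'
  refine ⟨w, hcommJ hw, ?_⟩
  have hnw : n * w = w * n := hVc n (hUV hn.1) w (hUV (hcomm_le hw))
  rw [hvnw, hnw, cj_mul, (mem_normalizer_iff_cj_eq n H).mp hn.2]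

/-- Let G be a finite group, V an abelian normal subgroup and H a subgroup with HV = G. Then H is pronormal in G (H and gHg⁻¹ are conjugate inside the subgroup they generate, for every g) if and only if every H-invariant subgroup U of V satisfies U = N_U(H)·[H, U], that is, U is the join of U ∩ N_G(H) and the commutator subgroup [H, U]. -/
theorem result {G : Type*} [Group G] [Finite G]
    (V : Subgroup G) [V.Normal] (hV : IsMulCommutative ↥V) (H : Subgroup G) (hHV : H ⊔ V = ⊤) :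
    Cfsg.IsPronormal H ↔
      ∀ U : Subgroup G, U ≤ V → (∀ h ∈ H, U.map (MulAut.conj h).toMonoidHom = U) →
        U = (U ⊓ Subgroup.normalizer (H : Set G)) ⊔ ⁅H, U⁆ := by
  constructor
  · intro hpro U _ hinv
    exact forward H hpro U hinv
  · intro hcond
    exact backward V hV H hHV hcond

end Cfsg.Agent.S4269
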