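import Cfsg.Statements.S4271
import Mathlib
import Cfsg.Agent.Lib.H21.Pronormal

set_option autoImplicit false
open Cfsg

namespace Cfsg.Agent.S4271

open Cfsg.Agent.Lib.H21

/-- If a Sylow `p`-subgroup `P ≤ K` is self-normalizing and `j g` normalizes `P` … : overgroups of
self-normalizing Sylow subgroups are self-normalizing. -/
lemma normalizer_eq_of_sylow_selfNormalizing {X : Type*} [Group X] [Finite X] {p : ℕ}
    [Fact p.Prime] (P : Sylow p X)
    (hP : Subgroup.normalizer ((P : Subgroup X) : Set X) = P) (K : Subgroup X)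
    (hPK : (P : Subgroup X) ≤ K) : Subgroup.normalizer (K : Set X) = K := by
  apply le_antisymm _ Subgroup.le_normalizer
  intro g hg
  have h1 : cj g (P : Subgroup X) ≤ K := by
    have := cj_mono g hPK
    rwa [cj_eq_self_of_mem_normalizer hg] at this
  have hrel : ¬ p ∣ (P : Subgroup X).relIndex K := fun h =>
    P.not_dvd_index (h.trans (Subgroup.relIndex_dvd_index_of_le hPK))
  obtain ⟨k, hk, hkP⟩ := exists_mem_cj_le_of_not_dvd_relIndex K (cj g (P : Subgroup X)) P h1
    (P.2.map _) hrel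
  rw [← cj_mul] at hkP
  have h2 : k * g ∈ Subgroup.normalizer ((P : Subgroup X) : Set X) :=
    mem_normalizer_of_cj_eq (cj_eq_of_le hkP)
  rw [hP] at h2
  have h3 : k * g ∈ K := hPK h2
  have := K.mul_mem (K.inv_mem hk) h3
  simpa using this

/-- Overgroups of self-normalizing Sylow subgroups are pronormal. -/
lemma prn_of_sylow_selfNormalizing {X : Type*} [Group X] [Finite X] {p : ℕ}
    [Fact p.Prime] (P : Sylow p X)
    (hP : Subgroup.normalizer ((P : Subgroup X) : Set X) = P) (K : Subgroup X)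
    (hPK : (P : Subgroup X) ≤ K) : Cfsg.IsPronormal K := by
  rw [isPronormal_iff]
  intro g
  have hPJ : (P : Subgroup X) ≤ K ⊔ cj g K := hPK.trans le_sup_left
  have h1 : cj g (P : Subgroup X) ≤ K ⊔ cj g K := (cj_mono g hPK).trans le_sup_right
  have hrel : ¬ p ∣ (P : Subgroup X).relIndex (K ⊔ cj g K) := fun h =>
    P.not_dvd_index (h.trans (Subgroup.relIndex_dvd_index_of_le hPJ))
  obtain ⟨j, hj, hjP⟩ := exists_mem_cj_le_of_not_dvd_relIndex (K ⊔ cj g K)
    (cj g (P : Subgroup X)) P h1 (P.2.map _) hrel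
  rw [← cj_mul] at hjP
  have h2 : j * g ∈ Subgroup.normalizer ((P : Subgroup X) : Set X) :=
    mem_normalizer_of_cj_eq (cj_eq_of_le hjP)
  rw [hP] at h2
  have h3 : j * g ∈ K := hPK h2
  refine ⟨j⁻¹, inv_mem hj, ?_⟩
  have h4 : cj (j * g) K = K := cj_eq_self_of_mem h3
  rw [cj_mul] at h4
  rw [← h4, cj_inv_cj, h4]

theorem result {G : Type*} [Group G] [Finite G] {p : ℕ} [Fact p.Prime]
    (A : Subgroup G) [A.Normal] (hA : (∀ K : Subgroup ↥A, (∃ P : Sylow p ↥A, (P : Subgroup ↥A) ≤ K) → Cfsg.IsPronormal K))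
    (hQ : ∀ P : Sylow p (G ⧸ A), Subgroup.normalizer ((P : Subgroup (G ⧸ A)) : Set (G ⧸ A)) = P)
    (T : Subgroup G) (hT : ∃ P : Sylow p ↥A, (P : Subgroup ↥A).map A.subtype = T) [(T.subgroupOf (Subgroup.normalizer (T : Set G))).Normal] :
    (∀ K : Subgroup G, (∃ P : Sylow p G, (P : Subgroup G) ≤ K) → Cfsg.IsPronormal K) ↔ (∀ K : Subgroup (↥(Subgroup.normalizer (T : Set G)) ⧸ T.subgroupOf (Subgroup.normalizer (T : Set G))), (∃ P : Sylow p (↥(Subgroup.normalizer (T : Set G)) ⧸ T.subgroupOf (Subgroup.normalizer (T : Set G))), (P : Subgroup (↥(Subgroup.normalizer (T : Set G)) ⧸ T.subgroupOf (Subgroup.normalizer (T : Set G)))) ≤ K) → Cfsg.IsPronormal K) := by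
  constructor
  · intro h
    exact Wp.normalizer_quotient (A := A) h hT
  · intro h1
    have hQ' : Wp p (G ⧸ A) := by
      rintro K ⟨P, hP⟩
      exact prn_of_sylow_selfNormalizing P (hQ P) K hP
    apply Wp_of_extension hT hA hQ' h1
    rintro K ⟨S, hS⟩
    have hsurj : Function.Surjective (QuotientGroup.mk' A) := QuotientGroup.mk'_surjective A
    apply le_antisymm (Subgroup.le_normalizer_map _)
    have h2 := normalizer_eq_of_sylow_selfNormalizing (S.mapSurjective hsurj)
      (hQ _) (K.map (QuotientGroup.mk' A)) (Subgroup.map_mono hS)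
    rw [h2]
    exact Subgroup.map_mono Subgroup.le_normalizer

end Cfsg.Agent.S4271
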