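import Cfsg.Statements.S4274
import Cfsg.Agent.Lib.H28.J1OrdRed
import Cfsg.Agent.Lib.H2.J1OrdO15960
import Cfsg.Agent.Lib.H2.J1OrdO17556
import Cfsg.Agent.Lib.H27.J1OrdO35112
import Cfsg.Agent.Lib.H27.J1OrdO87780
import Cfsg.Agent.Lib.H28.J1OrdO7980
import Cfsg.Agent.Lib.H28.J1OrdO58520
import Cfsg.Agent.Lib.H4.J1OrdSIEVE

set_option autoImplicit false
open Cfsg

namespace Cfsg.Agent.S4274

/-- there is no non-abelian simple group of order `19 d`, `d` a proper divisor of `9240` -/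
theorem no_simple {K : Type*} [Group K] [Finite K] [IsSimpleGroup K] (hnc : ¬ IsMulCommutative K)
    (d : ℕ) (hd : d ∣ 9240) (hlt : d ≠ 9240) : Nat.card K ≠ 19 * d := by
  by_cases h1 : d = 420
  · subst h1
    show Nat.card K ≠ 7980
    exact Cfsg.Agent.Lib.H28.J1Ord.ne_7980
  by_cases h2 : d = 840
  · subst h2
    show Nat.card K ≠ 15960
    exact Cfsg.Agent.Lib.H2.J1Ord.ne_15960
  by_cases h3 : d = 924
  · subst h3
    show Nat.card K ≠ 17556
    exact Cfsg.Agent.Lib.H2.J1Ord.ne_17556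
  by_cases h4 : d = 1848
  · subst h4
    show Nat.card K ≠ 35112
    exact Cfsg.Agent.Lib.H27.J1Ord.ne_35112
  by_cases h5 : d = 3080
  · subst h5
    show Nat.card K ≠ 58520
    exact Cfsg.Agent.Lib.H28.J1Ord.ne_58520
  by_cases h6 : d = 4620
  · subst h6
    show Nat.card K ≠ 87780
    exact Cfsg.Agent.Lib.H27.J1Ord.ne_87780
  exact Cfsg.Agent.Lib.H4.J1Ord.sieve hnc hd hlt ⟨h1, h2, h3, h4, h5, h6⟩

/-- A finite group of order 175560 = 2³·3·5·7·11·19 is either simple or has a normal Sylow 19-subgroup. -/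
theorem result {G : Type*} [Group G] [Finite G] (hG : Nat.card G = 175560) : IsSimpleGroup G ∨ ∀ P : Sylow 19 G, (P : Subgroup G).Normal := by
  have : Fact (Nat.Prime 19) := ⟨by norm_num⟩
  rcases Cfsg.Agent.Lib.H28.J1Ord.reduction
    (fun K _ _ _ hnc d hd hlt => no_simple hnc d hd hlt) 175560 G hG dvd_rfl with h | h
  · exact Or.inl h.2
  · exact Or.inr h

end Cfsg.Agent.S4274
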