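import Cfsg.Statements.S4275
import Mathlib

set_option autoImplicit false
open Cfsg

namespace Cfsg.Agent.S4275

open MulAction

/-- transport of base points along an automorphism. -/
lemma exists_map {Ω : Type*} (G : Subgroup (Equiv.Perm Ω)) [IsPretransitive G Ω]
    (α : G ≃* G) (o ω : Ω) (h : ∀ g : G, g • o = o → α g • ω = ω) :
    ∃ f : Ω → Ω, ∀ g : G, f (g • o) = α g • ω := by
  choose γ hγ using fun x : Ω => exists_smul_eq G o x
  refine ⟨fun x => α (γ x) • ω, fun g => ?_⟩
  have h1 : (g⁻¹ * γ (g • o)) • o = o := by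
    rw [mul_smul, hγ, inv_smul_smul]
  have h2 := h _ h1
  rw [map_mul, map_inv, mul_smul, inv_smul_eq_iff] at h2
  exact h2

/-- Let G be a transitive group of permutations of a finite set Ω, let o ∈ Ω, and let α be an automorphism of G. Then α is induced by conjugation by a permutation of Ω normalizing G if and only if the image under α of the stabilizer of o fixes some point of Ω. -/
theorem result {Ω : Type*} [Fintype Ω] (G : Subgroup (Equiv.Perm Ω)) (htr : MulAction.IsPretransitive G Ω) (o : Ω) (α : G ≃* G) : (∃ σ : Equiv.Perm Ω, σ ∈ Subgroup.normalizer (G : Set (Equiv.Perm Ω)) ∧ ∀ g : G, ((α g : G) : Equiv.Perm Ω) = σ * (g : Equiv.Perm Ω) * σ⁻¹) ↔ ∃ ω : Ω, ∀ g ∈ (MulAction.stabilizer G o).map α.toMonoidHom, g • ω = ω := by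
  classical
  constructor
  · rintro ⟨σ, _, hσ⟩
    refine ⟨σ o, ?_⟩
    rintro _ ⟨g₀, hg₀, rfl⟩
    have h1 : (g₀ : Equiv.Perm Ω) o = o := hg₀
    show ((α g₀ : G) : Equiv.Perm Ω) (σ o) = σ o
    rw [hσ g₀]
    simp [h1]
  · rintro ⟨ω, hω⟩
    haveI : Finite G := inferInstance
    -- α (G_o) = G_ω
    have hle : (stabilizer G o).map α.toMonoidHom ≤ stabilizer G ω := by
      intro g hg
      exact hω g hg
    have hidx : (stabilizer G o).index = (stabilizer G ω).index := by
      rw [index_stabilizer_of_transitive, index_stabilizer_of_transitive]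
    have hcard : Nat.card (stabilizer G ω) ≤ Nat.card ((stabilizer G o).map α.toMonoidHom) := by
      rw [Subgroup.card_map_of_injective (f := α.toMonoidHom) α.injective]
      have h1 := (stabilizer G o).card_mul_index
      have h2 := (stabilizer G ω).card_mul_index
      rw [hidx] at h1
      have hpos : 0 < (stabilizer G ω).index := Nat.pos_of_ne_zero Subgroup.index_ne_zero_of_finite
      have : Nat.card (stabilizer G o) * (stabilizer G ω).index =
          Nat.card (stabilizer G ω) * (stabilizer G ω).index := by rw [h1, h2]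
      exact le_of_eq (Nat.eq_of_mul_eq_mul_right hpos this).symm
    have heq : (stabilizer G o).map α.toMonoidHom = stabilizer G ω :=
      Subgroup.eq_of_le_of_card_ge hle hcard
    have h1 : ∀ g : G, g • o = o → α g • ω = ω := by
      intro g hg
      exact hω (α g) ⟨g, hg, rfl⟩
    have h2 : ∀ g : G, g • ω = ω → α.symm g • o = o := by
      intro g hg
      have : g ∈ (stabilizer G o).map α.toMonoidHom := by rw [heq]; exact hg
      obtain ⟨g₀, hg₀, rfl⟩ := this
      have : α.symm (α.toMonoidHom g₀) = g₀ := α.symm_apply_apply g₀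
      rw [this]
      exact hg₀
    obtain ⟨f, hf⟩ := exists_map G α o ω h1
    obtain ⟨f', hf'⟩ := exists_map G α.symm ω o h2
    have hl : Function.LeftInverse f' f := by
      intro x
      obtain ⟨g, rfl⟩ := exists_smul_eq G o x
      rw [hf, hf', α.symm_apply_apply]
    have hr : Function.RightInverse f' f := by
      intro x
      obtain ⟨g, rfl⟩ := exists_smul_eq G ω x
      rw [hf', hf, α.apply_symm_apply]
    let σ : Equiv.Perm Ω := ⟨f, f', hl, hr⟩
    have hσ : ∀ g : G, ((α g : G) : Equiv.Perm Ω) = σ * (g : Equiv.Perm Ω) * σ⁻¹ := by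
      intro g
      ext y
      obtain ⟨x, rfl⟩ := σ.surjective y
      obtain ⟨g', rfl⟩ := exists_smul_eq G o x
      simp only [Equiv.Perm.coe_mul, Function.comp_apply, Equiv.Perm.coe_inv, Equiv.symm_apply_apply]
      show ((α g : G) : Equiv.Perm Ω) (f (g' • o)) = f ((g : Equiv.Perm Ω) (g' • o))
      have e1 : (g : Equiv.Perm Ω) (g' • o) = (g * g') • o := by
        rw [mul_smul]; rfl
      rw [e1, hf, hf, map_mul, mul_smul]
      rfl
    refine ⟨σ, ?_, hσ⟩
    rw [Subgroup.mem_normalizer_iff]
    intro h
    constructor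
    · intro hh
      have := hσ ⟨h, hh⟩
      simp only at this
      rw [← this]
      exact (α ⟨h, hh⟩).2
    · intro hh
      obtain ⟨g, hg⟩ := α.surjective ⟨σ * h * σ⁻¹, hh⟩
      have h3 := hσ g
      rw [hg] at h3
      simp only at h3
      have h4 : h = (g : Equiv.Perm Ω) := by
        have := congrArg (fun t => σ⁻¹ * t * σ) h3
        simpa [mul_assoc] using this
      rw [h4]
      exact g.2

end Cfsg.Agent.S4275
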