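import Cfsg.Statements.S4277
import Cfsg.Agent.Lib.H4.AutPerm.PrimeIndex

set_option autoImplicit false
open Cfsg

namespace Cfsg.Agent.S4277

open Cfsg.Agent.Lib.H4.AutPerm in
/-- A case of the Schreier conjecture: if a finite simple group G has a subgroup of prime index, then the outer automorphism group of G is solvable. -/
theorem result {G : Type*} [Group G] [Finite G] [IsSimpleGroup G] (H : Subgroup G) (hH : H.index.Prime) : Group.IsSolvable (Cfsg.Out G) := by
  by_cases hs : Group.IsSolvable G
  · have hcomm := IsSimpleGroup.comm_iff_isSolvable.2 hs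
    exact out_solvable_of_comm hcomm (Cfsg.Inn G)
  · exact main_nonsolvable hs H hH (Cfsg.Inn G) le_rfl

end Cfsg.Agent.S4277
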