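import Cfsg.Statements.S4278
import Cfsg.Agent.Lib.H29.G2InvM

set_option autoImplicit false
open Cfsg

namespace Cfsg.Agent.S4278

open Cfsg.Agent.Lib.H29.G2Inv Cfsg.Agent.Lib.H29.Chev in
theorem inv_conj_aux {F : Type*} [Field F] [Fintype F] (hF : Odd (Fintype.card F)) (s : ↥(Cfsg.Lie.chevG2.group F))
    (hs : orderOf s = 2) : ∃ g : ↥(Cfsg.Lie.chevG2.group F), ((g * s * g⁻¹ : ↥(Cfsg.Lie.chevG2.group F)) :
      GL Cfsg.Lie.chevG2.Idx F) = zG F := by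
  have h1 : s ^ 2 = 1 := by rw [← hs]; exact pow_orderOf_eq_one s
  have h2 : s ≠ 1 := by
    intro h
    rw [h, orderOf_one] at hs
    omega
  have h1' : (s : GL Cfsg.Lie.chevG2.Idx F) * (s : GL Cfsg.Lie.chevG2.Idx F) = 1 := by
    have := congrArg (fun g : ↥(Cfsg.Lie.chevG2.group F) => (g : GL Cfsg.Lie.chevG2.Idx F)) h1
    simpa [pow_two] using this
  have h2' : (s : GL Cfsg.Lie.chevG2.Idx F) ≠ 1 := by
    intro h
    apply h2
    exact Subtype.ext h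
  obtain ⟨g, hg, hgs⟩ := conjG_zG_of_inv hF (s : GL Cfsg.Lie.chevG2.Idx F) s.2 h1' h2'
  exact ⟨⟨g, hg⟩, by simpa using hgs⟩

/-- In the Chevalley group of type G₂ over a finite field of odd order, any two involutions are conjugate. -/
theorem result {F : Type*} [Field F] [Fintype F] (hF : Odd (Fintype.card F)) (s t : ↥(Cfsg.Lie.chevG2.group F)) (hs : orderOf s = 2) (ht : orderOf t = 2) : IsConj s t := by
  obtain ⟨g₁, h₁⟩ := inv_conj_aux hF s hs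
  obtain ⟨g₂, h₂⟩ := inv_conj_aux hF t ht
  rw [isConj_iff]
  refine ⟨g₂⁻¹ * g₁, ?_⟩
  have e : g₁ * s * g₁⁻¹ = g₂ * t * g₂⁻¹ := Subtype.ext (h₁.trans h₂.symm)
  calc g₂⁻¹ * g₁ * s * (g₂⁻¹ * g₁)⁻¹ = g₂⁻¹ * (g₁ * s * g₁⁻¹) * g₂ := by group
    _ = t := by rw [e]; group

end Cfsg.Agent.S4278
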