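import Cfsg.Statements.S4279
import Cfsg.Agent.Lib.H29.G2InvO
import Cfsg.Agent.Lib.H29.G2InvP

set_option autoImplicit false
open Cfsg

namespace Cfsg.Agent.S4279

open Cfsg.Agent.Lib.H29.G2Inv Cfsg.Agent.Lib.H29.Chev in
theorem inv_conj_zS {F : Type*} [Field F] [Fintype F] (hF : Odd (Fintype.card F)) (s : ↥(Cfsg.Lie.chevG2.group F))
    (hs : orderOf s = 2) : ∃ g : ↥(Cfsg.Lie.chevG2.group F), g * zS F * g⁻¹ = s := by
  have h1 : s ^ 2 = 1 := by rw [← hs]; exact pow_orderOf_eq_one s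
  have h2 : s ≠ 1 := by
    intro h
    rw [h, orderOf_one] at hs
    omega
  have h1' : (s : GL Cfsg.Lie.chevG2.Idx F) * (s : GL Cfsg.Lie.chevG2.Idx F) = 1 := by
    have := congrArg (fun g : ↥(Cfsg.Lie.chevG2.group F) => (g : GL Cfsg.Lie.chevG2.Idx F)) h1
    simpa [pow_two] using this
  have h2' : (s : GL Cfsg.Lie.chevG2.Idx F) ≠ 1 := by
    intro h
    apply h2
    exact Subtype.ext h
  obtain ⟨g, hg, hgs⟩ := conjG_zG_of_inv hF (s : GL Cfsg.Lie.chevG2.Idx F) s.2 h1' h2'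
  refine ⟨⟨g, hg⟩⁻¹, ?_⟩
  apply Subtype.ext
  show (⟨g, hg⟩ : ↥(Cfsg.Lie.chevG2.group F))⁻¹.1 * zG F * ((⟨g, hg⟩ : ↥(Cfsg.Lie.chevG2.group F))⁻¹)⁻¹.1 = s.1
  rw [inv_inv, ← hgs]
  show g⁻¹ * (g * s.1 * g⁻¹) * g = s.1
  group

/-- In the Chevalley group G of type G₂ over a finite field F of odd order q, the centralizer of an involution t has order q²(q² − 1)² and contains two elementwise commuting subgroups, each isomorphic to SL(2, F), which meet exactly in the subgroup generated by t and whose join has index 2 in the centralizer. -/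
theorem result {F : Type*} [Field F] [Fintype F] (hF : Odd (Fintype.card F)) (t : ↥(Cfsg.Lie.chevG2.group F)) (ht : orderOf t = 2) : Nat.card (Subgroup.centralizer ({t} : Set ↥(Cfsg.Lie.chevG2.group F))) = Fintype.card F ^ 2 * (Fintype.card F ^ 2 - 1) ^ 2 ∧ ∃ L₁ L₂ : Subgroup ↥(Cfsg.Lie.chevG2.group F), Nonempty (L₁ ≃* Matrix.SpecialLinearGroup (Fin 2) F) ∧ Nonempty (L₂ ≃* Matrix.SpecialLinearGroup (Fin 2) F) ∧ (∀ x ∈ L₁, ∀ y ∈ L₂, x * y = y * x) ∧ L₁ ⊓ L₂ = Subgroup.zpowers t ∧ L₁ ⊔ L₂ ≤ Subgroup.centralizer ({t} : Set ↥(Cfsg.Lie.chevG2.group F)) ∧ (L₁ ⊔ L₂).relIndex (Subgroup.centralizer ({t} : Set ↥(Cfsg.Lie.chevG2.group F))) = 2 := by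
  obtain ⟨g, hg⟩ := inv_conj_zS hF t ht
  have key := Cfsg.Agent.Lib.H29.G2Inv.cent_struct_transport (Cfsg.Agent.Lib.H29.G2Inv.zS F) _
    (Cfsg.Agent.Lib.H29.G2Inv.cent_zS_struct hF) (MulAut.conj g)
  rw [MulAut.conj_apply, hg] at key
  exact key

end Cfsg.Agent.S4279
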