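import Cfsg.Statements.S4282
import Cfsg.Agent.Lib.H19.HHCrit
import Cfsg.Agent.Lib.H19.HHQPow

set_option autoImplicit false
open Cfsg

namespace Cfsg.Agent.S4282

open Cfsg.Agent.Lib.H19.ModRep Cfsg.Agent.Lib.H19.HH

/-- A critical case behind the Hall–Higman theorem. Let p ≠ q be primes and G a finite group generated by a normal q-subgroup Q and a cyclic p-subgroup generated by x, such that the centralizer of every non-identity element of that cyclic subgroup is its product with the centre of G. Let K be an algebraically closed field of characteristic p and ρ a faithful representation of G on a nonzero finite-dimensional K-space whose restriction to Q is irreducible. If s is the least exponent with (ρ(x) − 1)^s = 0, then |⟨x⟩| − 1 ≤ s ≤ |⟨x⟩|; and if s = |⟨x⟩| − 1 then |⟨x⟩| − 1 is a power of q and Q is non-abelian. -/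
theorem result {G : Type*} [Group G] [Finite G] (p q : ℕ) [Fact p.Prime] [Fact q.Prime] (hpq : p ≠ q) (Q : Subgroup G) [Q.Normal] (hQ : IsPGroup q Q) (x : G) (hx : IsPGroup p (Subgroup.zpowers x)) (hgen : Q ⊔ Subgroup.zpowers x = ⊤) (hC : ∀ y ∈ Subgroup.zpowers x, y ≠ 1 → Subgroup.centralizer ({y} : Set G) = Subgroup.zpowers x ⊔ Subgroup.center G) {K : Type*} [Field K] [IsAlgClosed K] [CharP K p] {V : Type*} [AddCommGroup V] [Module K V] [FiniteDimensional K V] [Nontrivial V] (ρ : Representation K G V) (hfaith : Function.Injective ρ) (hirr : ∀ W : Submodule K V, (∀ g ∈ Q, Submodule.map (ρ g) W ≤ W) → W = ⊥ ∨ W = ⊤) (s : ℕ) (hs : (ρ x - 1) ^ s = 0) (hmin : ∀ k < s, (ρ x - 1) ^ k ≠ 0) : Nat.card (Subgroup.zpowers x) - 1 ≤ s ∧ s ≤ Nat.card (Subgroup.zpowers x) ∧ (s = Nat.card (Subgroup.zpowers x) - 1 → (∃ b : ℕ, Nat.card (Subgroup.zpowers x) - 1 = q ^ b) ∧ ¬ IsMulCommutative Q) := by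
  classical
  have hp : p.Prime := Fact.out
  have hq : q.Prime := Fact.out
  -- irreducibility
  have hirr' : IrrOn ρ Q := by
    refine ⟨inferInstance, ?_⟩
    intro U hU
    apply hirr U
    rintro g hg _ ⟨u, hu, rfl⟩
    exact hU g hg u hu
  -- `|Q| ≠ 0` in `K`
  have hqK : (q : K) ≠ 0 := by
    intro h0
    have := (CharP.cast_eq_zero_iff K p q).1 h0
    exact hpq ((Nat.prime_dvd_prime_iff_eq hp hq).1 this)
  have hQk : (Nat.card Q : K) ≠ 0 := by
    obtain ⟨a, ha⟩ := IsPGroup.iff_card.1 hQ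
    rw [ha, Nat.cast_pow]
    exact pow_ne_zero _ hqK
  -- the order of `x`
  obtain ⟨m, hm⟩ := IsPGroup.iff_card.1 hx
  have hord : orderOf x = p ^ m := by rw [← Nat.card_zpowers, hm]
  have hxf : ρ x = 1 → x = 1 := by
    intro h
    apply hfaith
    rw [h, map_one]
  -- central elements act as scalars
  have hcen : ∀ z ∈ Subgroup.center G, ∃ c : K, ρ z = c • (1 : Module.End K V) := by
    intro z hz
    apply schur_on hirr'
    intro n _
    rw [← map_mul, ← map_mul, (Subgroup.mem_center_iff.1 hz n)]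
  have hfree : ∀ u ∈ Q, ∀ y ∈ Subgroup.zpowers x, y ≠ 1 → y * u * y⁻¹ = u →
      ∃ c : K, ρ u = c • (1 : Module.End K V) := by
    intro u hu y hy hy1 hyu
    apply hcen
    have hucent : u ∈ Subgroup.centralizer ({y} : Set G) := by
      rw [Subgroup.mem_centralizer_iff]
      intro h hh
      rw [Set.mem_singleton_iff] at hh
      subst hh
      calc h * u = (h * u * h⁻¹) * h := by group
        _ = u * h := by rw [hyu]
    rw [hC y hy hy1] at hucent
    obtain ⟨z₁, hz₁, z, hz, hzu⟩ := Subgroup.mem_sup_of_normal_right.1 hucent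
    -- `z₁` is central
    suffices hz₁c : z₁ ∈ Subgroup.center G by
      rw [← hzu]
      exact Subgroup.mul_mem _ hz₁c hz
    have hcomm : Commute z₁ z := (Subgroup.mem_center_iff.1 hz z₁)
    set n := Nat.card Q with hn
    have hun : u ^ n = 1 := by
      have : (⟨u, hu⟩ : Q) ^ n = 1 := pow_card_eq_one'
      exact congrArg Subtype.val this
    have hz₁n : z₁ ^ n ∈ Subgroup.center G := by
      have h1 : z₁ ^ n * z ^ n = 1 := by rw [← hcomm.mul_pow, hzu, hun]
      have h2 : z₁ ^ n = (z ^ n)⁻¹ := eq_inv_of_mul_eq_one_left h1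
      rw [h2]
      exact Subgroup.inv_mem _ (Subgroup.pow_mem _ hz n)
    -- `z₁` has `p`-power order, coprime to `n`
    have hcop : (orderOf z₁).Coprime n := by
      obtain ⟨a, ha⟩ := IsPGroup.iff_card.1 hQ
      have h1 : orderOf z₁ ∣ p ^ m := by
        rw [← hm]
        have := orderOf_dvd_natCard (⟨z₁, hz₁⟩ : Subgroup.zpowers x)
        rwa [Subgroup.orderOf_mk] at this
      obtain ⟨b, -, hb⟩ := (Nat.dvd_prime_pow hp).1 h1
      rw [hb, hn, ha]
      exact Nat.Coprime.pow _ _ ((Nat.coprime_primes hp hq).2 hpq)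
    obtain ⟨t, ht⟩ := exists_pow_eq_self_of_coprime hcop.symm
    rw [← ht]
    exact Subgroup.pow_mem _ hz₁n t
  have hcore := core p ρ Q hQk hirr' x m hord hxf hfree s hs hmin
  rw [hm]
  refine ⟨hcore.1, hcore.2.1, fun hseq => ?_⟩
  have hdim := hcore.2.2 hseq
  constructor
  · obtain ⟨b, hb⟩ := finrank_eq_prime_pow q ρ Q hQ hirr'
    exact ⟨b, by rw [← hdim, hb]⟩
  · intro hcommQ
    -- all elements of `Q` act as scalars
    have hsc : ∀ g ∈ Q, ∃ c : K, ρ g = c • (1 : Module.End K V) := by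
      intro g hg
      apply schur_on hirr'
      intro n hn
      have : (⟨g, hg⟩ : Q) * ⟨n, hn⟩ = ⟨n, hn⟩ * ⟨g, hg⟩ := hcommQ.is_comm.comm _ _
      have h2 : g * n = n * g := congrArg Subtype.val this
      rw [← map_mul, ← map_mul, h2]
    have hd1 : Module.finrank K V = 1 := finrank_eq_one_of_scalar hirr' hsc
    -- then `s = 1`, so `x = 1`
    have hs1 : s = 1 := by rw [hseq, ← hdim, hd1]
    have hx1 : x = 1 := by
      apply hxf
      rw [hs1, pow_one] at hs
      exact sub_eq_zero.1 hs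
    rw [hx1, orderOf_one] at hord
    omega

end Cfsg.Agent.S4282
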