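import Cfsg.Statements.S4283
import Mathlib
import Cfsg.Agent.Lib.H1.Frobenius
import Cfsg.Agent.Lib.H20.TI

set_option autoImplicit false
open Cfsg

namespace Cfsg.Agent.S4283

open scoped Pointwise
open Cfsg.Agent.Lib.H1 Cfsg.Agent.Lib.H20

/-- In a Frobenius group the centraliser of a nonidentity element of a conjugate of the complement
lies in that conjugate. -/
lemma frob_centralizer {Q : Type*} [Group Q] {H : Subgroup Q} (hH : Cfsg.IsFrobeniusComplement H)
    (g y c : Q) (hy : y ∈ MulAut.conj g • H) (hy1 : y ≠ 1) (hc : c * y = y * c) :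
    c ∈ MulAut.conj g • H := by
  rw [Cfsg.Agent.Lib.H1.mem_conj_smul_iff] at hy ⊢
  have hy1' : g⁻¹ * y * g ≠ 1 := by
    intro h
    apply hy1
    have : y = g * (g⁻¹ * y * g) * g⁻¹ := by group
    rw [this, h]; group
  apply frob_mem_of_conj_mem hH hy hy1'
  have e : g⁻¹ * c * g * (g⁻¹ * y * g) * (g⁻¹ * c * g)⁻¹ = g⁻¹ * (c * y) * c⁻¹ * g := by group
  rw [e, hc]
  have e2 : g⁻¹ * (y * c) * c⁻¹ * g = g⁻¹ * y * g := by group
  rw [e2]
  exact hy

/-- Let G be a finite group with centre Z and let K, H be abelian subgroups of G containing Z such that G/Z is a Frobenius group with complement H/Z and kernel K/Z. Then the conjugacy class sizes of G are exactly 1, [G : K] and [G : H], and these two indices are coprime. (This is the converse half of the characterization of finite groups whose conjugacy class sizes are exactly 1, m and n with m and n coprime.) -/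
theorem result {G : Type*} [Group G] [Finite G] (K H : Subgroup G) (hZK : Subgroup.center G ≤ K) (hZH : Subgroup.center G ≤ H) (hK : IsMulCommutative K) (hH : IsMulCommutative H) (hFrob : Cfsg.IsFrobeniusComplement (H.map (QuotientGroup.mk' (Subgroup.center G)))) (hker : Cfsg.frobeniusKernel (H.map (QuotientGroup.mk' (Subgroup.center G))) = (K.map (QuotientGroup.mk' (Subgroup.center G)) : Set (G ⧸ Subgroup.center G))) : Set.range (fun x : G => (Subgroup.centralizer ({x} : Set G)).index) = ({1, K.index, H.index} : Set ℕ) ∧ K.index.Coprime H.index := by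
  obtain ⟨π, hπ⟩ : ∃ π : G →* G ⧸ Subgroup.center G, π = QuotientGroup.mk' (Subgroup.center G) :=
    ⟨_, rfl⟩
  rw [← hπ] at hFrob hker
  have hπker : π.ker = Subgroup.center G := by rw [hπ, QuotientGroup.ker_mk']
  have hπsurj : Function.Surjective π := by rw [hπ]; exact QuotientGroup.mk'_surjective _
  have hπ1 : ∀ x : G, π x = 1 ↔ x ∈ Subgroup.center G := by
    intro x
    rw [hπ]
    exact QuotientGroup.eq_one_iff x
  -- preimages
  have hpre : ∀ (S : Subgroup G), Subgroup.center G ≤ S → ∀ x : G, π x ∈ S.map π ↔ x ∈ S := by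
    intro S hS x
    constructor
    · rintro ⟨s, hs, hsx⟩
      have h1 : π (s⁻¹ * x) = 1 := by rw [map_mul, map_inv, hsx, inv_mul_cancel]
      have h2 : s⁻¹ * x ∈ S := hS ((hπ1 _).1 h1)
      have : x = s * (s⁻¹ * x) := by group
      rw [this]
      exact S.mul_mem hs h2
    · intro hx
      exact ⟨x, hx, rfl⟩
  have hKc : ∀ a ∈ K, ∀ b ∈ K, a * b = b * a := by
    intro a ha b hb
    have := (isMulCommutative_iff.1 hK) ⟨a, ha⟩ ⟨b, hb⟩
    exact congrArg Subtype.val this
  have hHc : ∀ a ∈ H, ∀ b ∈ H, a * b = b * a := by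
    intro a ha b hb
    have := (isMulCommutative_iff.1 hH) ⟨a, ha⟩ ⟨b, hb⟩
    exact congrArg Subtype.val this
  -- membership in the kernel
  have hkermem : ∀ x : G, π x ∈ Cfsg.frobeniusKernel (H.map π) ↔ x ∈ K := by
    intro x
    rw [hker]
    exact hpre K hZK x
  -- conjugates
  have hconj : ∀ g x : G, π x ∈ MulAut.conj (π g) • (H.map π) ↔ g⁻¹ * x * g ∈ H := by
    intro g x
    rw [Cfsg.Agent.Lib.H1.mem_conj_smul_iff, ← hpre H hZH]
    simp only [map_mul, map_inv]
  -- case 2: x ∈ K \ Z
  have case2 : ∀ x ∈ K, x ∉ Subgroup.center G → Subgroup.centralizer ({x} : Set G) = K := by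
    intro x hxK hxZ
    apply le_antisymm
    · intro c hc
      rw [Subgroup.mem_centralizer_singleton_iff] at hc
      by_contra hcK
      have h1 : π c ∉ Cfsg.frobeniusKernel (H.map π) := fun h => hcK ((hkermem c).1 h)
      rw [not_mem_frobeniusKernel_iff] at h1
      obtain ⟨hc1, g, hg⟩ := h1
      have h2 : π x * π c = π c * π x := by rw [← map_mul, ← map_mul, hc]
      have h3 := frob_centralizer hFrob g (π c) (π x) hg hc1 h2
      have h4 : π x ∈ Cfsg.frobeniusKernel (H.map π) := (hkermem x).2 hxK
      rcases h4 with h4 | h4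
      · exact hxZ ((hπ1 x).1 h4)
      · exact h4 g h3
    · intro c hc
      rw [Subgroup.mem_centralizer_singleton_iff]
      exact hKc c hc x hxK
  -- case 3: x ∉ K
  have case3 : ∀ x : G, x ∉ K → (Subgroup.centralizer ({x} : Set G)).index = H.index := by
    intro x hxK
    have h1 : π x ∉ Cfsg.frobeniusKernel (H.map π) := fun h => hxK ((hkermem x).1 h)
    rw [not_mem_frobeniusKernel_iff] at h1
    obtain ⟨hx1, gb, hg⟩ := h1
    obtain ⟨g, rfl⟩ := hπsurj gb
    have hxg : g⁻¹ * x * g ∈ H := (hconj g x).1 hg
    have heq : Subgroup.centralizer ({x} : Set G) = H.map (MulAut.conj g).toMonoidHom := by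
      ext c
      rw [mem_map_conj_iff, Subgroup.mem_centralizer_singleton_iff]
      constructor
      · intro hc
        have h2 : π c * π x = π x * π c := by rw [← map_mul, ← map_mul, hc]
        have h3 := frob_centralizer hFrob (π g) (π x) (π c) hg hx1 h2
        exact (hconj g c).1 h3
      · intro hc
        have h2 := hHc _ hc _ hxg
        have e1 : c * x = g * ((g⁻¹ * c * g) * (g⁻¹ * x * g)) * g⁻¹ := by group
        have e2 : x * c = g * ((g⁻¹ * x * g) * (g⁻¹ * c * g)) * g⁻¹ := by group
        rw [e1, e2, h2]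
    rw [heq]
    exact Subgroup.index_map_equiv (H := H) (MulAut.conj g)
  -- counting
  have hcardK : Nat.card (K.map π) = (H.map π).index := by
    rw [← frob_card_kernel hFrob, hker]
    rfl
  have hHidx : (H.map π).index = H.index :=
    Subgroup.index_map_eq H hπsurj (by rw [hπker]; exact hZH)
  have hKidx : (K.map π).index = K.index :=
    Subgroup.index_map_eq K hπsurj (by rw [hπker]; exact hZK)
  have hpos : 0 < (H.map π).index := Nat.pos_of_ne_zero Subgroup.index_ne_zero_of_finite
  have hKidx2 : (K.map π).index = Nat.card (H.map π) := by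
    have h1 := (K.map π).card_mul_index
    have h2 := (H.map π).card_mul_index
    rw [hcardK] at h1
    have : (H.map π).index * (K.map π).index = (H.map π).index * Nat.card (H.map π) := by
      rw [h1, mul_comm, h2]
    exact Nat.eq_of_mul_eq_mul_left hpos this
  have hcop : K.index.Coprime H.index := by
    rw [← hKidx, ← hHidx, hKidx2]
    have hmod := frob_index_mod hFrob
    have : Nat.gcd (H.map π).index (Nat.card (H.map π)) = Nat.gcd 1 (Nat.card (H.map π)) :=
      Nat.ModEq.gcd_eq hmod
    rw [Nat.Coprime, Nat.gcd_comm, this, Nat.gcd_one_left]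
  refine ⟨?_, hcop⟩
  apply Set.eq_of_subset_of_subset
  · rintro _ ⟨x, rfl⟩
    simp only [Set.mem_insert_iff, Set.mem_singleton_iff]
    by_cases hxK : x ∈ K
    · by_cases hxZ : x ∈ Subgroup.center G
      · left
        rw [Subgroup.index_eq_one, eq_top_iff]
        intro c _
        rw [Subgroup.mem_centralizer_singleton_iff]
        exact (Subgroup.mem_center_iff.1 hxZ) c
      · right; left
        rw [case2 x hxK hxZ]
    · right; right
      exact case3 x hxK
  · intro n hn
    simp only [Set.mem_insert_iff, Set.mem_singleton_iff] at hn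
    rcases hn with rfl | rfl | rfl
    · refine ⟨1, ?_⟩
      simp only
      rw [Subgroup.index_eq_one, eq_top_iff]
      intro c _
      rw [Subgroup.mem_centralizer_singleton_iff]
      simp
    · -- an element of K \ Z
      have h1 : K.map π ≠ ⊥ := by
        intro h
        have h2 : Nat.card (K.map π) = 1 := by rw [h]; exact Subgroup.card_bot
        rw [hcardK, Subgroup.index_eq_one] at h2
        exact hFrob.2.1 h2
      obtain ⟨⟨kb, hkb⟩, hkb1⟩ := (Subgroup.ne_bot_iff_exists_ne_one.1 h1)
      obtain ⟨k, hk, rfl⟩ := hkb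
      refine ⟨k, ?_⟩
      simp only
      rw [case2 k hk]
      intro hkZ
      apply hkb1
      apply Subtype.ext
      exact (hπ1 k).2 hkZ
    · -- an element of H \ K
      obtain ⟨⟨hb, hhb⟩, hhb1⟩ := (Subgroup.ne_bot_iff_exists_ne_one.1 hFrob.1)
      obtain ⟨h, hh, rfl⟩ := hhb
      refine ⟨h, ?_⟩
      simp only
      apply case3
      intro hhK
      have h4 : π h ∈ Cfsg.frobeniusKernel (H.map π) := (hkermem h).2 hhK
      rcases h4 with h4 | h4
      · apply hhb1
        exact Subtype.ext h4
      · apply h4 1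
        rw [map_one, one_smul]
        exact ⟨h, hh, rfl⟩

end Cfsg.Agent.S4283
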