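import Cfsg.Statements.S4292
import Mathlib
import Cfsg.Agent.Lib.H1.LiftF
import Cfsg.Agent.Lib.H1.LiftG
import Cfsg.Agent.Lib.H1.LiftH
import Cfsg.Agent.Lib.L0.CharOps

set_option autoImplicit false
open Cfsg

namespace Cfsg.Agent.S4292


open Cfsg.Agent.Lib.H1.Lift

/-- a fixed-point-free irreducible character gives a fixed-point-free representation. -/
theorem exists_fpfRep_of_fpfChar {G : Type*} [Group G] [Finite G] (χ : IrrCharacter G)
    (hχ : FpfChar (χ : G → ℂ)) :
    ∃ (n : ℕ) (ρ : Representation ℂ G (Fin n → ℂ)), 0 < n ∧ ρ.character = (χ : G → ℂ) ∧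
      ∀ g : G, g ≠ 1 → ∀ w : Fin n → ℂ, ρ g w = w → w = 0 := by
  obtain ⟨n, ρ, hirr, hchar⟩ := Cfsg.Agent.Lib.H24.irr_exists_rep χ
  refine ⟨n, ρ, Cfsg.Agent.Lib.H24.irreducible_dim_pos ρ hirr, hchar, ?_⟩
  intro g hg w hw
  refine fixed_eq_zero_of_sum_character ρ g (isOfFinOrder_of_finite g) ?_ w hw
  rw [hchar]
  exact hχ g hg

/-- the forward direction, for one factor. -/
theorem frobComp_of_injective {G : Type*} [Group G] [Finite G] {A : Type*} [Group A] [Finite A]
    [Nontrivial A] (f : A →* G) (hf : Function.Injective f)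
    (hG : ∃ (L : Type) (_ : Group L) (_ : Finite L) (H : Subgroup L),
      Cfsg.IsFrobeniusComplement H ∧ Nonempty (G ≃* H)) :
    ∃ (L : Type) (_ : Group L) (_ : Finite L) (H : Subgroup L),
      Cfsg.IsFrobeniusComplement H ∧ Nonempty (A ≃* H) := by
  classical
  obtain ⟨L, _, _, H, hH, ⟨e⟩⟩ := hG
  have : Fintype G := Fintype.ofFinite G
  obtain ⟨χ, hχ⟩ := exists_fpf_irr_of_frobComp hH e
  obtain ⟨n, ρ, hn, -, hfpf⟩ := exists_fpfRep_of_fpfChar χ hχ
  refine exists_frobenius_of_fpf_rep (ρ.comp f) ⟨fun _ => 1, ?_⟩ ?_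
  · intro h
    have := congrFun h ⟨0, hn⟩
    simp at this
  · intro a ha w hw
    refine hfpf (f a) ?_ w hw
    intro h1
    apply ha
    apply hf
    rw [h1, map_one]

/-- coprimality of the orders of the factors of a Frobenius complement. -/
theorem coprime_of_frobComp_prod {A B : Type*} [Group A] [Finite A] [Group B] [Finite B]
    {L : Type*} [Group L] [Finite L] {H : Subgroup L} (hH : Cfsg.IsFrobeniusComplement H)
    (e : (A × B) ≃* H) : (Nat.card A).Coprime (Nat.card B) := by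
  classical
  by_contra hcop
  obtain ⟨r, hr, hrA, hrB⟩ := Nat.Prime.not_coprime_iff_dvd.1 hcop
  have : Fact r.Prime := ⟨hr⟩
  obtain ⟨a, ha⟩ := exists_prime_orderOf_dvd_card' r hrA
  obtain ⟨b, hb⟩ := exists_prime_orderOf_dvd_card' r hrB
  set N := Cfsg.Agent.Lib.H18.frobKer H hH with hNdef
  have hN : frobeniusKernel H = (N : Set L) := (Cfsg.Agent.Lib.H18.coe_frobKer H hH).symm
  set f : (Subgroup.zpowers a × Subgroup.zpowers b) →* L :=
    (H.subtype.comp e.toMonoidHom).comp
      (MonoidHom.prodMap (Subgroup.zpowers a).subtype (Subgroup.zpowers b).subtype) with hf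
  have hfinj : Function.Injective f := by
    rw [hf]
    intro x y hxy
    have h1 : e (((x.1 : A), (x.2 : B))) = e (((y.1 : A), (y.2 : B))) := by
      apply Subtype.ext
      exact hxy
    have h2 := e.injective h1
    rw [Prod.mk.injEq] at h2
    exact Prod.ext (Subtype.ext h2.1) (Subtype.ext h2.2)
  have hrange : f.range ≤ H := by
    rintro _ ⟨x, rfl⟩
    exact (e _).2
  have hcomm : ∀ u ∈ f.range, ∀ v ∈ f.range, u * v = v * u := by
    rintro _ ⟨x, rfl⟩ _ ⟨y, rfl⟩
    have hxy : x * y = y * x := by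
      apply Prod.ext
      · exact (isMulCommutative_iff.1 (Subgroup.zpowers_isMulCommutative a)) x.1 y.1
      · exact (isMulCommutative_iff.1 (Subgroup.zpowers_isMulCommutative b)) x.2 y.2
    rw [← map_mul, ← map_mul, hxy]
  have hcyc : IsCyclic f.range :=
    Cfsg.Agent.Lib.H20.FG.isCyclic_of_comm hH hN f.range hrange hcomm
  have hcyc2 : IsCyclic (Subgroup.zpowers a × Subgroup.zpowers b) :=
    (MonoidHom.ofInjective hfinj).isCyclic.2 hcyc
  have h3 := (Group.isCyclic_prod_iff.1 hcyc2).2.2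
  rw [Nat.card_zpowers, Nat.card_zpowers, ha, hb, Nat.coprime_self] at h3
  exact hr.one_lt.ne' h3

/-- the backward direction. -/
theorem frobComp_prod {A B : Type*} [Group A] [Finite A] [Nontrivial A] [Group B] [Finite B]
    [Nontrivial B]
    (hA : ∃ (L : Type) (_ : Group L) (_ : Finite L) (H : Subgroup L),
      Cfsg.IsFrobeniusComplement H ∧ Nonempty (A ≃* H))
    (hB : ∃ (L : Type) (_ : Group L) (_ : Finite L) (H : Subgroup L),
      Cfsg.IsFrobeniusComplement H ∧ Nonempty (B ≃* H))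
    (hcop : (Nat.card A).Coprime (Nat.card B)) :
    ∃ (L : Type) (_ : Group L) (_ : Finite L) (H : Subgroup L),
      Cfsg.IsFrobeniusComplement H ∧ Nonempty ((A × B) ≃* H) := by
  classical
  obtain ⟨LA, _, _, HA, hHA, ⟨eA⟩⟩ := hA
  obtain ⟨LB, _, _, HB, hHB, ⟨eB⟩⟩ := hB
  have : Fintype A := Fintype.ofFinite A
  have : Fintype B := Fintype.ofFinite B
  obtain ⟨χA, hχA⟩ := exists_fpf_irr_of_frobComp hHA eA
  obtain ⟨χB, hχB⟩ := exists_fpf_irr_of_frobComp hHB eB
  have hcA : IsCharacter A (χA : A → ℂ) := by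
    obtain ⟨n, ρ, -, h⟩ := χA.2
    exact ⟨n, ρ, h⟩
  have hcB : IsCharacter B (χB : B → ℂ) := by
    obtain ⟨n, ρ, -, h⟩ := χB.2
    exact ⟨n, ρ, h⟩
  have hchar : IsCharacter (A × B)
      (((χA : A → ℂ) ∘ (MonoidHom.fst A B)) * ((χB : B → ℂ) ∘ (MonoidHom.snd A B))) :=
    Cfsg.Agent.Lib.L0.isCharacter_mul (Cfsg.Agent.Lib.L0.isCharacter_comp (MonoidHom.fst A B) hcA)
      (Cfsg.Agent.Lib.L0.isCharacter_comp (MonoidHom.snd A B) hcB)
  obtain ⟨n, σ, hσ⟩ := hchar
  have hσapp : ∀ (a : A) (b : B), σ.character (a, b) = (χA : A → ℂ) a * (χB : B → ℂ) b := by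
    intro a b
    rw [hσ]
    rfl
  have hA1 : (χA : A → ℂ) 1 ≠ 0 := Cfsg.Agent.Lib.H24.irr_one_ne_zero χA
  have hB1 : (χB : B → ℂ) 1 ≠ 0 := Cfsg.Agent.Lib.H24.irr_one_ne_zero χB
  have hn : 0 < n := by
    rcases Nat.eq_zero_or_pos n with h0 | h0
    · exfalso
      have h1 := hσapp 1 1
      rw [← Prod.one_eq_mk, Representation.char_one] at h1
      subst h0
      simp at h1
      rcases h1 with h1 | h1
      · exact hA1 h1
      · exact hB1 h1
    · exact h0
  -- elements of the form (a, 1) and (1, b)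
  have hfixA : ∀ a : A, a ≠ 1 → ∀ w : Fin n → ℂ, σ (a, 1) w = w → w = 0 := by
    intro a ha w hw
    refine fixed_eq_zero_of_sum_character σ (a, 1) (isOfFinOrder_of_finite _) ?_ w hw
    have ho : orderOf ((a, 1) : A × B) = orderOf a := by
      rw [Prod.orderOf_mk, orderOf_one, Nat.lcm_one_right]
    rw [ho]
    have h1 : ∀ i : ℕ, σ.character (((a, 1) : A × B) ^ i) =
        (χA : A → ℂ) (a ^ i) * (χB : B → ℂ) 1 := by
      intro i
      rw [Prod.pow_mk, one_pow, hσapp]
    rw [Finset.sum_congr rfl (fun i _ => h1 i), ← Finset.sum_mul, hχA a ha, zero_mul]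
  have hfixB : ∀ b : B, b ≠ 1 → ∀ w : Fin n → ℂ, σ (1, b) w = w → w = 0 := by
    intro b hb w hw
    refine fixed_eq_zero_of_sum_character σ (1, b) (isOfFinOrder_of_finite _) ?_ w hw
    have ho : orderOf ((1, b) : A × B) = orderOf b := by
      rw [Prod.orderOf_mk, orderOf_one, Nat.lcm_one_left]
    rw [ho]
    have h1 : ∀ i : ℕ, σ.character (((1, b) : A × B) ^ i) =
        (χA : A → ℂ) 1 * (χB : B → ℂ) (b ^ i) := by
      intro i
      rw [Prod.pow_mk, one_pow, hσapp]
    rw [Finset.sum_congr rfl (fun i _ => h1 i), ← Finset.mul_sum, hχB b hb, mul_zero]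
  have hpowfix : ∀ (g : A × B) (w : Fin n → ℂ), σ g w = w → ∀ i : ℕ, σ (g ^ i) w = w := by
    intro g w hw i
    induction i with
    | zero => rw [pow_zero, map_one]; rfl
    | succ i ih => rw [pow_succ, map_mul, Module.End.mul_apply, hw, ih]
  refine exists_frobenius_of_fpf_rep σ ⟨fun _ => 1, ?_⟩ ?_
  · intro h
    have := congrFun h ⟨0, hn⟩
    simp at this
  · rintro ⟨a, b⟩ hg w hw
    by_cases ha : a = 1
    · subst ha
      have hb : b ≠ 1 := by
        intro hb
        apply hg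
        rw [hb]
        rfl
      exact hfixB b hb w hw
    · -- raise to the power `|B|`
      have h1 := hpowfix (a, b) w hw (Nat.card B)
      rw [Prod.pow_mk, pow_card_eq_one'] at h1
      refine hfixA (a ^ Nat.card B) ?_ w h1
      intro h2
      apply ha
      have h3 : orderOf a ∣ Nat.card B := orderOf_dvd_of_pow_eq_one h2
      have h4 : orderOf a ∣ Nat.card A := orderOf_dvd_natCard a
      have h5 : orderOf a ∣ Nat.gcd (Nat.card A) (Nat.card B) := Nat.dvd_gcd h4 h3
      rw [hcop, Nat.dvd_one] at h5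
      exact orderOf_eq_one_iff.1 h5

/-- Let A and B be nontrivial finite groups. Then the direct product A × B occurs as a Frobenius complement if and only if A and B both occur as Frobenius complements and the orders of A and B are coprime. -/
theorem result {A B : Type*} [Group A] [Finite A] [Nontrivial A] [Group B] [Finite B] [Nontrivial B] :
    (∃ (L : Type) (_ : Group L) (_ : Finite L) (H : Subgroup L), Cfsg.IsFrobeniusComplement H ∧ Nonempty ((A × B) ≃* H)) ↔
    ((∃ (L : Type) (_ : Group L) (_ : Finite L) (H : Subgroup L), Cfsg.IsFrobeniusComplement H ∧ Nonempty (A ≃* H)) ∧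
     (∃ (L : Type) (_ : Group L) (_ : Finite L) (H : Subgroup L), Cfsg.IsFrobeniusComplement H ∧ Nonempty (B ≃* H)) ∧
     (Nat.card A).Coprime (Nat.card B)) := by
  constructor
  · intro h
    refine ⟨frobComp_of_injective (MonoidHom.inl A B) (fun x y h => (Prod.mk.inj h).1) h,
      frobComp_of_injective (MonoidHom.inr A B) (fun x y h => (Prod.mk.inj h).2) h, ?_⟩
    obtain ⟨L, _, _, H, hH, ⟨e⟩⟩ := h
    exact coprime_of_frobComp_prod hH e
  · rintro ⟨hA, hB, hcop⟩
    exact frobComp_prod hA hB hcop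

end Cfsg.Agent.S4292
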