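import Cfsg.Statements.S4293
import Mathlib
import Cfsg.Agent.Lib.H21.FrobShrink

set_option autoImplicit false
open Cfsg

namespace Cfsg.Agent.S4293

universe u v

/-- Core construction: a finite group `H` mapping into a ring `R` which is finitely generated as
an abelian group; `ℓ` a positive integer which is not invertible in `R`, coprime to `m`, and all
nontrivial `h` have `∑_{j<m} (ι h)^j = 0`. Then `H` acts fixed-point-freely on `R/ℓR`. -/
theorem frob_of_ring {R : Type u} [Ring R] [Module.Finite ℤ R] {H : Type v} [Group H] [Finite H]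
    [Nontrivial H] (ι : H →* R) (ℓ m : ℕ) (hℓ : 0 < ℓ) (hcop : Nat.Coprime m ℓ)
    (h1 : (1 : R) ∉ Ideal.span {(ℓ : R)})
    (hsum : ∀ h : H, h ≠ 1 → ∑ j ∈ Finset.range m, (ι h) ^ j = 0) :
    ∃ (L : Type) (_ : Group L) (_ : Finite L) (C : Subgroup L),
      Cfsg.IsFrobeniusComplement C ∧ Nonempty (H ≃* C) := by
  obtain ⟨I, hI⟩ : ∃ I : Ideal R, I = Ideal.span {(ℓ : R)} := ⟨_, rfl⟩
  rw [← hI] at h1
  -- every element of `R ⧸ I` is killed by `ℓ`
  have hkill : ∀ v : R ⧸ I, ℓ • v = 0 := by
    intro v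
    obtain ⟨x, rfl⟩ := Submodule.Quotient.mk_surjective I v
    rw [← Submodule.Quotient.mk_smul, Submodule.Quotient.mk_eq_zero, hI, nsmul_eq_mul,
      Nat.cast_comm]
    exact Ideal.mem_span_singleton'.2 ⟨x, rfl⟩
  haveI : Nontrivial (R ⧸ I) := by
    refine ⟨⟨Submodule.Quotient.mk 1, 0, ?_⟩⟩
    rw [Ne, Submodule.Quotient.mk_eq_zero]
    exact h1
  haveI : AddGroup.FG (R ⧸ I) := by
    rw [← Module.Finite.iff_addGroup_fg]
    exact Module.Finite.of_surjective (I.mkQ.toAddMonoidHom.toIntLinearMap)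
      (Submodule.Quotient.mk_surjective I)
  haveI : Finite (R ⧸ I) := by
    apply AddCommGroup.finite_of_fg_isAddTorsion
    intro v
    rw [isOfFinAddOrder_iff_nsmul_eq_zero]
    exact ⟨ℓ, hℓ, hkill v⟩
  letI : DistribMulAction H (R ⧸ I) := DistribMulAction.compHom (R ⧸ I) ι
  have hsmul : ∀ (h : H) (v : R ⧸ I), h • v = ι h • v := fun _ _ => rfl
  apply Cfsg.Agent.Lib.H21.exists_frobenius_of_fpf_distribMulAction' (V := R ⧸ I) (G := H)
  intro h hh v hv
  rw [hsmul] at hv
  have hpow : ∀ j : ℕ, (ι h) ^ j • v = v := by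
    intro j
    induction j with
    | zero => rw [pow_zero, one_smul]
    | succ j ih => rw [pow_succ, mul_smul, hv, ih]
  have hm : m • v = 0 := by
    have h2 : (∑ j ∈ Finset.range m, (ι h) ^ j) • v = m • v := by
      rw [Finset.sum_smul, Finset.sum_congr rfl (fun j _ => hpow j), Finset.sum_const,
        Finset.card_range]
    rw [← h2, hsum h hh, zero_smul]
  have hd : addOrderOf v ∣ Nat.gcd m ℓ :=
    Nat.dvd_gcd (addOrderOf_dvd_of_nsmul_eq_zero hm) (addOrderOf_dvd_of_nsmul_eq_zero (hkill v))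
  rw [hcop.gcd_eq_one, Nat.dvd_one] at hd
  exact AddMonoid.addOrderOf_eq_one_iff.1 hd

/-- A nontrivial finite group embedded in the units of a domain which is a finitely generated
abelian group is a Frobenius complement. -/
theorem frob_of_domain {R : Type u} [Ring R] [NoZeroDivisors R] [Nontrivial R] [Module.Finite ℤ R]
    {H : Type v} [Group H] [Finite H] [Nontrivial H] (ι : H →* R) (hι : Function.Injective ι) :
    ∃ (L : Type) (_ : Group L) (_ : Finite L) (C : Subgroup L),
      Cfsg.IsFrobeniusComplement C ∧ Nonempty (H ≃* C) := by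
  have hm0 : 0 < Nat.card H := Nat.card_pos
  have hsum : ∀ h : H, h ≠ 1 → ∑ j ∈ Finset.range (Nat.card H), (ι h) ^ j = 0 := by
    intro h hh
    have h1 := geom_sum_mul (ι h) (Nat.card H)
    rw [← map_pow, pow_card_eq_one', map_one, sub_self, mul_eq_zero] at h1
    rcases h1 with h1 | h1
    · exact h1
    · exfalso
      apply hh
      apply hι
      rw [map_one]
      exact sub_eq_zero.1 h1
  obtain ⟨p, hp⟩ := CharP.exists R
  rcases CharP.char_is_prime_or_zero R p with hpp | hp0
  · -- characteristic `p`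
    haveI : Fact p.Prime := ⟨hpp⟩
    apply frob_of_ring ι p (Nat.card H) hpp.pos _ _ hsum
    · rw [Nat.coprime_comm, hpp.coprime_iff_not_dvd]
      intro hdvd
      obtain ⟨x, hx⟩ := exists_prime_orderOf_dvd_card' (G := H) p hdvd
      have h2 : (ι x - 1) ^ p = 0 := by
        rw [sub_pow_char_of_commute p (Commute.one_right _), one_pow, ← map_pow, ← hx,
          pow_orderOf_eq_one, map_one, sub_self]
      have h3 : ι x = ι 1 := by
        rw [map_one]
        exact sub_eq_zero.1 (pow_eq_zero_iff hpp.ne_zero |>.1 h2)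
      have h4 := hι h3
      rw [h4, orderOf_one] at hx
      exact hpp.one_lt.ne hx
    · rw [CharP.cast_eq_zero R p, Ideal.mem_span_singleton']
      rintro ⟨a, ha⟩
      rw [mul_zero] at ha
      exact zero_ne_one ha
  · -- characteristic zero
    subst hp0
    haveI : CharZero R := CharP.charP_to_charZero R
    obtain ⟨ℓ, hℓ1, hℓ⟩ := Nat.exists_infinite_primes (Nat.card H + 1)
    apply frob_of_ring ι ℓ (Nat.card H) hℓ.pos _ _ hsum
    · rw [Nat.coprime_comm, hℓ.coprime_iff_not_dvd]
      intro hdvd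
      have := Nat.le_of_dvd hm0 hdvd
      omega
    · rw [Ideal.mem_span_singleton']
      rintro ⟨a, ha⟩
      -- Nakayama
      have hle : (⊤ : Submodule ℤ R) ≤ (Ideal.span {(ℓ : ℤ)}) • (⊤ : Submodule ℤ R) := by
        intro x _
        have hx : x = (ℓ : ℤ) • (a * x) := by
          rw [zsmul_eq_mul, Int.cast_natCast, ← mul_assoc, Nat.cast_comm, ha, one_mul]
        rw [hx]
        exact Submodule.smul_mem_smul (Ideal.mem_span_singleton_self _) trivial
      obtain ⟨r, hr1, hr2⟩ := Submodule.exists_sub_one_mem_and_smul_eq_zero_of_fg_of_le_smul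
        (Ideal.span {(ℓ : ℤ)}) (⊤ : Submodule ℤ R) Module.Finite.fg_top hle
      have hr0 := hr2 1 trivial
      rw [zsmul_eq_mul, mul_one, Int.cast_eq_zero] at hr0
      rw [hr0, zero_sub, Ideal.mem_span_singleton, dvd_neg] at hr1
      have : (ℓ : ℤ) ∣ 1 := hr1
      have h5 := Int.natCast_dvd_natCast.1 (by simpa using this : ((ℓ : ℕ) : ℤ) ∣ ((1 : ℕ) : ℤ))
      exact hℓ.one_lt.ne' (Nat.dvd_one.1 h5)

/-- A nontrivial finite subgroup of the multiplicative group of a division ring occurs as a Frobenius complement of some finite Frobenius group. -/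
theorem result {D : Type*} [DivisionRing D] (H : Subgroup Dˣ) [Finite H] (hH : H ≠ ⊥) :
    ∃ (L : Type) (_ : Group L) (_ : Finite L) (C : Subgroup L), Cfsg.IsFrobeniusComplement C ∧ Nonempty (H ≃* C) := by
  haveI : Nontrivial H := (Subgroup.nontrivial_iff_ne_bot H).2 hH
  obtain ⟨π, hπ⟩ : ∃ π : MonoidAlgebra ℤ H →ₐ[ℤ] D,
      π = MonoidAlgebra.lift ℤ D H ((Units.coeHom D).comp H.subtype) := ⟨_, rfl⟩
  haveI : Module.Finite ℤ π.range :=
    Module.Finite.of_surjective π.rangeRestrict.toLinearMap π.rangeRestrict_surjective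
  have hπof : ∀ h : H, π (MonoidAlgebra.of ℤ H h) = ((h : Dˣ) : D) := by
    intro h
    rw [hπ, MonoidAlgebra.lift_of]
    rfl
  apply frob_of_domain (R := π.range)
    ((π.rangeRestrict : MonoidAlgebra ℤ H →* π.range).comp (MonoidAlgebra.of ℤ H))
  intro a b hab
  have h1 : ((π.rangeRestrict (MonoidAlgebra.of ℤ H a) : π.range) : D)
      = ((π.rangeRestrict (MonoidAlgebra.of ℤ H b) : π.range) : D) := congrArg Subtype.val hab
  change π (MonoidAlgebra.of ℤ H a) = π (MonoidAlgebra.of ℤ H b) at h1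
  rw [hπof, hπof] at h1
  exact Subtype.ext (Units.ext h1)

end Cfsg.Agent.S4293
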