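import Cfsg.Statements.S4295
import Cfsg.Agent.S4296
import Cfsg.Agent.Lib.H2.SL2Quat
import Cfsg.Agent.Lib.H22.DihQuatRecog
import Cfsg.Agent.Lib.H21.FrobSemidirect
import Cfsg.Agent.Lib.H1.Frobenius

set_option autoImplicit false
open Cfsg

namespace Cfsg.Agent.S4295

open Cfsg.Agent.Lib.H2.SL2Quat Cfsg.Agent.Lib.H22 in
/-- For an odd prime `q`, the quaternion group acts on `𝔽_q²` with the central involution acting as
`-1`. -/
theorem exists_module_prime (q : ℕ) [hq : Fact q.Prime] :
    ∃ (V : Type) (_ : AddCommGroup V) (_ : Finite V) (_ : DistribMulAction (QuaternionGroup 2) V),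
      Nat.card V = q * q ∧ ∀ v : V, (QuaternionGroup.a 2 : QuaternionGroup 2) • v = -v := by
  obtain ⟨a, b, hab⟩ := ZMod.sq_add_sq q (-1)
  let lift : QuaternionGroup 2 →* Matrix.SpecialLinearGroup (Fin 2) (ZMod q) :=
    quaternionLift 2 wSL (sSL a b hab) wSL_pow_four (by rw [sSL_sq, pow_two]) (sSL_conj a b hab)
  let ψ : QuaternionGroup 2 →* ((Fin 2 → ZMod q) ≃ₗ[ZMod q] (Fin 2 → ZMod q)) :=
    Matrix.SpecialLinearGroup.toLin'.comp lift
  letI inst : DistribMulAction (QuaternionGroup 2) (Fin 2 → ZMod q) :=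
    DistribMulAction.compHom _ ψ
  refine ⟨Fin 2 → ZMod q, inferInstance, inferInstance, inst, ?_, ?_⟩
  · rw [Nat.card_eq_fintype_card, Fintype.card_fun, ZMod.card, Fintype.card_fin, pow_two]
  · intro v
    show ψ (QuaternionGroup.a 2) v = -v
    show Matrix.SpecialLinearGroup.toLin' (lift (QuaternionGroup.a 2)) v = -v
    have h1 : lift (QuaternionGroup.a 2) = nSL := by
      show quaternionLift 2 wSL (sSL a b hab) _ _ _ (QuaternionGroup.a 2) = nSL
      rw [quaternionLift_a]
      have : ((2 : ZMod (2 * 2))).val = 2 := rfl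
      rw [this, pow_two, wSL_sq]
    rw [h1, Matrix.SpecialLinearGroup.toLin'_apply, nSL_val]
    simp

/-- For every odd `r` there is a finite abelian group of order `r²` on which the quaternion group
acts with the central involution acting as `-1`. -/
theorem exists_module (r : ℕ) : Odd r →
    ∃ (V : Type) (_ : AddCommGroup V) (_ : Finite V) (_ : DistribMulAction (QuaternionGroup 2) V),
      Nat.card V = r * r ∧ ∀ v : V, (QuaternionGroup.a 2 : QuaternionGroup 2) • v = -v := by
  induction r using Nat.recOnMul with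
  | zero => intro h; exact absurd h (by decide)
  | one =>
    intro _
    letI inst : DistribMulAction (QuaternionGroup 2) PUnit :=
      { smul := fun _ _ => PUnit.unit
        one_smul := fun _ => rfl
        mul_smul := fun _ _ _ => rfl
        smul_zero := fun _ => rfl
        smul_add := fun _ _ _ => rfl }
    exact ⟨PUnit, inferInstance, inferInstance, inst, by simp, fun _ => rfl⟩
  | prime p hp =>
    intro _
    haveI : Fact p.Prime := ⟨hp⟩
    exact exists_module_prime p
  | mul a b iha ihb =>
    intro hab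
    obtain ⟨ha, hb⟩ := Nat.odd_mul.1 hab
    obtain ⟨V, iV1, iV2, iV3, hV, hVz⟩ := iha ha
    obtain ⟨W, iW1, iW2, iW3, hW, hWz⟩ := ihb hb
    refine ⟨V × W, inferInstance, inferInstance, inferInstance, ?_, ?_⟩
    · rw [Nat.card_prod, hV, hW]; ring
    · rintro ⟨v, w⟩
      rw [Prod.smul_mk, hVz, hWz]
      rfl


open SemidirectProduct in
/-- A fixed-point-free action on `V` gives a Frobenius group with kernel of order `|V|`. -/
theorem exists_frobenius_with_kernel_card {V G : Type} [AddGroup V] [Group G] [Finite V]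
    [Finite G] [Nontrivial V] [Nontrivial G] [DistribMulAction G V]
    (hfpf : ∀ g : G, g ≠ 1 → ∀ v : V, g • v = v → v = 0) :
    ∃ (L : Type) (_ : Group L) (_ : Finite L) (H : Subgroup L),
      Cfsg.IsFrobeniusComplement H ∧ Nonempty (H ≃* G) ∧
        Nat.card (Cfsg.frobeniusKernel H) = Nat.card V := by
  let φ : G →* MulAut (Multiplicative V) :=
    (MulAutMultiplicative V).symm.toMonoidHom.comp (DistribMulAction.toAddAut G V)
  have hφ : ∀ (g : G) (v : Multiplicative V),
      φ g v = Multiplicative.ofAdd (g • Multiplicative.toAdd v) := fun _ _ => rfl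
  haveI : Finite (Multiplicative V ⋊[φ] G) :=
    Finite.of_equiv _ (SemidirectProduct.equivProd (φ := φ)).symm
  have hF : Cfsg.IsFrobeniusComplement (inr : G →* Multiplicative V ⋊[φ] G).range := by
    apply Cfsg.Agent.Lib.H21.isFrobeniusComplement_range_inr
    intro g hg n hn
    rw [hφ] at hn
    have := hfpf g hg (Multiplicative.toAdd n) (by
      have := congrArg Multiplicative.toAdd hn
      simpa using this)
    exact Multiplicative.toAdd.injective this
  have e : G ≃* (inr : G →* Multiplicative V ⋊[φ] G).range := MonoidHom.ofInjective inr_injective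
  refine ⟨Multiplicative V ⋊[φ] G, inferInstance, inferInstance,
    (inr : G →* Multiplicative V ⋊[φ] G).range, hF, ⟨e.symm⟩, ?_⟩
  rw [Cfsg.Agent.Lib.H1.frob_card_kernel hF]
  have h1 := (inr : G →* Multiplicative V ⋊[φ] G).range.card_mul_index
  have h2 : Nat.card (inr : G →* Multiplicative V ⋊[φ] G).range = Nat.card G :=
    (Nat.card_congr e.toEquiv).symm
  have h3 : Nat.card (Multiplicative V ⋊[φ] G) = Nat.card V * Nat.card G := by
    rw [Nat.card_congr (SemidirectProduct.equivProd (φ := φ)), Nat.card_prod]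
    rfl
  rw [h2, h3, mul_comm] at h1
  exact Nat.eq_of_mul_eq_mul_right Nat.card_pos h1

theorem quat_sq (g : QuaternionGroup 2) : g ≠ 1 →
    g = QuaternionGroup.a 2 ∨ g * g = QuaternionGroup.a 2 := by
  revert g
  decide

theorem backward (m : ℕ) (hodd : Odd m) (hsq : IsSquare m) (h1 : 1 < m) :
    ∃ (L : Type) (_ : Group L) (_ : Finite L) (H : Subgroup L), Cfsg.IsFrobeniusComplement H ∧
        Nonempty (H ≃* QuaternionGroup 2) ∧ Nat.card (Cfsg.frobeniusKernel H) = m := by
  obtain ⟨r, rfl⟩ := hsq
  have hr : Odd r := (Nat.odd_mul.1 hodd).1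
  obtain ⟨V, iV1, iV2, iV3, hV, hVz⟩ := exists_module r hr
  haveI : Nontrivial V := by
    rw [← Finite.one_lt_card_iff_nontrivial, hV]; exact h1
  haveI : Nontrivial (QuaternionGroup 2) := ⟨⟨QuaternionGroup.a 2, 1, by decide⟩⟩
  have hfpf : ∀ g : QuaternionGroup 2, g ≠ 1 → ∀ v : V, g • v = v → v = 0 := by
    intro g hg v hv
    have hz : (QuaternionGroup.a 2 : QuaternionGroup 2) • v = v := by
      rcases quat_sq g hg with h | h
      · rw [← h]; exact hv
      · rw [← h, mul_smul, hv, hv]
    rw [hVz] at hz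
    have h2 : (2 : ℕ) • v = 0 := by
      rw [two_nsmul]
      nth_rewrite 1 [← hz]
      exact neg_add_cancel v
    have h3 : addOrderOf v ∣ 2 := addOrderOf_dvd_of_nsmul_eq_zero h2
    have h4 : addOrderOf v ∣ r * r := by
      rw [← hV]; exact addOrderOf_dvd_natCard v
    have h5 : addOrderOf v = 1 := by
      have hcop : Nat.Coprime 2 (r * r) := (Nat.coprime_two_left).2 hodd
      exact Nat.eq_one_of_dvd_coprimes hcop h3 h4
    exact AddMonoid.addOrderOf_eq_one_iff.1 h5
  obtain ⟨L, iL1, iL2, H, hH, hHQ, hcard⟩ := exists_frobenius_with_kernel_card hfpf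
  exact ⟨L, iL1, iL2, H, hH, hHQ, by rw [hcard, hV]⟩

theorem forward (m : ℕ) (L : Type) [Group L] [Finite L] (H : Subgroup L)
    (hH : Cfsg.IsFrobeniusComplement H) (e : H ≃* QuaternionGroup 2)
    (hm : Nat.card (Cfsg.frobeniusKernel H) = m) : Odd m ∧ IsSquare m ∧ 1 < m := by
  haveI : Fact (Nat.Prime 2) := ⟨Nat.prime_two⟩
  have hcardH : Nat.card H = 8 := by
    rw [Nat.card_congr e.toEquiv, Nat.card_eq_fintype_card, QuaternionGroup.card]
  obtain ⟨P⟩ : Nonempty (Sylow 2 H) := inferInstance
  have hPtop : (P : Subgroup H) = ⊤ := by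
    apply Subgroup.eq_top_of_card_eq
    rw [P.card_eq_multiplicity, hcardH]
    have : (8 : ℕ) = 2 ^ 3 := by norm_num
    rw [this, Nat.Prime.factorization_pow Nat.prime_two]
    simp
  have hnc : ¬ IsCyclic P := by
    intro hc
    letI := IsCyclic.commGroup (α := P)
    have hcomm : ∀ x y : H, x * y = y * x := by
      intro x y
      have hx : x ∈ (P : Subgroup H) := by rw [hPtop]; trivial
      have hy : y ∈ (P : Subgroup H) := by rw [hPtop]; trivial
      have := mul_comm (⟨x, hx⟩ : P) ⟨y, hy⟩
      exact congrArg Subtype.val this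
    have := hcomm (e.symm (QuaternionGroup.a 1)) (e.symm (QuaternionGroup.xa 0))
    rw [← map_mul, ← map_mul] at this
    have h2 := e.symm.injective this
    revert h2
    decide
  have hres := Cfsg.Agent.S4296.result H hH ⟨2, inferInstance, P, hnc⟩
  rw [hm] at hres
  refine ⟨hres.1, hres.2, ?_⟩
  have h1 : m ≠ 1 := by
    intro h
    rw [← hm, Cfsg.Agent.Lib.H1.frob_card_kernel hH] at h
    exact hH.2.1 (Subgroup.index_eq_one.1 h)
  have h0 : m ≠ 0 := by
    intro h
    rw [h] at hres
    exact absurd hres.1 (by decide)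
  omega

/-- For a natural number m the following are equivalent: (a) some finite group has a Frobenius complement isomorphic to the quaternion group of order 8 whose Frobenius kernel (the identity together with the elements lying in no conjugate of the complement) has exactly m elements; (b) m is an odd perfect square greater than 1. -/
theorem result (m : ℕ) :
    (∃ (L : Type) (_ : Group L) (_ : Finite L) (H : Subgroup L), Cfsg.IsFrobeniusComplement H ∧
        Nonempty (H ≃* QuaternionGroup 2) ∧ Nat.card (Cfsg.frobeniusKernel H) = m) ↔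
    (Odd m ∧ IsSquare m ∧ 1 < m) := by
  constructor
  · rintro ⟨L, iL1, iL2, H, hH, ⟨e⟩, hm⟩
    exact forward m L H hH e hm
  · rintro ⟨h1, h2, h3⟩
    exact backward m h1 h2 h3

end Cfsg.Agent.S4295
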