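import Cfsg.Statements.S4297
import Mathlib
import Cfsg.Agent.Lib.H21.FrobSemidirect

set_option autoImplicit false
open Cfsg

namespace Cfsg.Agent.S4297

/-- there is a prime `p > 2` such that `(ZMod p)ˣ` has an element of order `m`. -/
lemma exists_prime_unit_orderOf (m : ℕ) (hm : m ≠ 0) :
    ∃ p : ℕ, p.Prime ∧ 2 < p ∧ ∃ ζ : (ZMod p)ˣ, orderOf ζ = m := by
  obtain ⟨p, hp, hp2, hmod⟩ := Nat.exists_prime_gt_modEq_one (k := m) 2 hm
  haveI : Fact p.Prime := ⟨hp⟩
  have hdvd : m ∣ p - 1 := (Nat.modEq_iff_dvd' hp.one_lt.le).1 hmod.symm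
  have hcardU : Nat.card (ZMod p)ˣ = p - 1 := by
    rw [Nat.card_eq_fintype_card, ZMod.card_units_eq_totient, Nat.totient_prime hp]
  obtain ⟨g, hg⟩ := IsCyclic.exists_generator (α := (ZMod p)ˣ)
  have hog : orderOf g = p - 1 := by
    rw [orderOf_eq_card_of_forall_mem_zpowers hg, hcardU]
  have hp1 : 0 < p - 1 := Nat.sub_pos_of_lt hp.one_lt
  have hm0 : (p - 1) / m ≠ 0 := by
    have : 0 < (p - 1) / m := Nat.div_pos (Nat.le_of_dvd hp1 hdvd) (Nat.pos_of_ne_zero hm)
    omega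
  have hmd : (p - 1) / m ∣ orderOf g := by
    rw [hog]; exact Nat.div_dvd_of_dvd hdvd
  refine ⟨p, hp, hp2, g ^ ((p - 1) / m), ?_⟩
  rw [orderOf_pow_of_dvd hm0 hmd, hog, Nat.div_div_self hdvd (by omega)]

section
variable {n p : ℕ} [NeZero n] [Fact p.Prime] (ζ : (ZMod p)ˣ)

/-- `ζ ^ i` for `i : ZMod (2n)`. -/
def pw (i : ZMod (2 * n)) : ZMod p := ((ζ ^ i.val : (ZMod p)ˣ) : ZMod p)

lemma pw_zero : pw (n := n) ζ 0 = 1 := by simp [pw]

variable (hζ : orderOf ζ = 2 * n)
include hζ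

lemma pw_add (i j : ZMod (2 * n)) : pw ζ (i + j) = pw ζ i * pw ζ j := by
  unfold pw
  have h : ζ ^ ((i.val + j.val) % (2 * n)) = ζ ^ (i.val + j.val) := by
    have := pow_mod_orderOf ζ (i.val + j.val)
    rwa [hζ] at this
  rw [← Units.val_mul, ← pow_add, ZMod.val_add, h]

lemma pw_eq_one {i : ZMod (2 * n)} (h : pw ζ i = 1) : i = 0 := by
  unfold pw at h
  have h1 : ζ ^ i.val = 1 := Units.ext (by simpa using h)
  have h2 := orderOf_dvd_of_pow_eq_one h1
  rw [hζ] at h2
  have h3 : i.val < 2 * n := ZMod.val_lt i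
  have h4 : i.val = 0 := Nat.eq_zero_of_dvd_of_lt h2 h3
  exact (ZMod.val_eq_zero i).1 h4

omit hζ in
lemma n_ne_zero : ((n : ℕ) : ZMod (2 * n)) ≠ 0 := by
  intro h
  rw [ZMod.natCast_eq_zero_iff] at h
  have hn : 0 < n := Nat.pos_of_ne_zero (NeZero.ne n)
  have := Nat.le_of_dvd hn h
  omega

lemma pw_n : pw ζ ((n : ℕ) : ZMod (2 * n)) = -1 := by
  have h1 : pw ζ ((n : ℕ) : ZMod (2 * n)) * pw ζ ((n : ℕ) : ZMod (2 * n)) = 1 := by
    rw [← pw_add ζ hζ]
    have : ((n : ℕ) : ZMod (2 * n)) + (n : ℕ) = 0 := by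
      rw [← Nat.cast_add, ← two_mul]; exact ZMod.natCast_self _
    rw [this, pw_zero]
  rcases mul_self_eq_one_iff.1 h1 with h | h
  · exact absurd (pw_eq_one ζ hζ h) (n_ne_zero (n := n))
  · exact h

lemma pw_neg_n : pw ζ (-((n : ℕ) : ZMod (2 * n))) = -1 := by
  have h1 : pw ζ (-((n : ℕ) : ZMod (2 * n))) * pw ζ ((n : ℕ) : ZMod (2 * n)) = 1 := by
    rw [← pw_add ζ hζ, neg_add_cancel, pw_zero]
  rw [pw_n ζ hζ] at h1
  linear_combination -h1

lemma pw_mul_neg (i : ZMod (2 * n)) : pw ζ i * pw ζ (-i) = 1 := by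
  rw [← pw_add ζ hζ, add_neg_cancel, pw_zero]

lemma one_ne_neg_one : (1 : ZMod p) ≠ -1 := by
  intro h
  have := pw_n ζ hζ
  rw [← h] at this
  exact n_ne_zero (n := n) (pw_eq_one ζ hζ this)

omit hζ in
/-- the action of the dicyclic group on `F_p²`. -/
def act : QuaternionGroup n → ZMod p × ZMod p → ZMod p × ZMod p
  | .a i, v => (pw ζ i * v.1, pw ζ (-i) * v.2)
  | .xa i, v => (pw ζ (-i) * v.2, -(pw ζ i * v.1))

/-- the action as a `DistribMulAction`. -/
def qAction : DistribMulAction (QuaternionGroup n) (ZMod p × ZMod p) where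
  smul := act ζ
  one_smul := by
    rintro ⟨v₁, v₂⟩
    show act ζ (QuaternionGroup.a 0) (v₁, v₂) = (v₁, v₂)
    simp [act, pw_zero]
  mul_smul := by
    rintro (i | i) (j | j) ⟨v₁, v₂⟩
    · show act ζ (QuaternionGroup.a (i + j)) _ = act ζ (QuaternionGroup.a i) (act ζ (QuaternionGroup.a j) _)
      simp only [act, neg_add, pw_add ζ hζ]
      ext <;> simp only <;> ring
    · show act ζ (QuaternionGroup.xa (j - i)) _ = act ζ (QuaternionGroup.a i) (act ζ (QuaternionGroup.xa j) _)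
      simp only [act, sub_eq_add_neg, neg_add, neg_neg, pw_add ζ hζ]
      ext <;> simp only <;> ring
    · show act ζ (QuaternionGroup.xa (i + j)) _ = act ζ (QuaternionGroup.xa i) (act ζ (QuaternionGroup.a j) _)
      simp only [act, neg_add, pw_add ζ hζ]
      ext <;> simp only <;> ring
    · show act ζ (QuaternionGroup.a ((n : ZMod (2 * n)) + j - i)) _ =
        act ζ (QuaternionGroup.xa i) (act ζ (QuaternionGroup.xa j) _)
      simp only [act, sub_eq_add_neg, neg_add, neg_neg, pw_add ζ hζ, pw_n ζ hζ, pw_neg_n ζ hζ]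
      ext <;> simp only <;> ring
  smul_zero := by
    rintro (i | i)
    · show act ζ (QuaternionGroup.a i) 0 = 0
      simp [act]
    · show act ζ (QuaternionGroup.xa i) 0 = 0
      simp [act]
  smul_add := by
    rintro (i | i) ⟨v₁, v₂⟩ ⟨w₁, w₂⟩
    · show act ζ (QuaternionGroup.a i) _ = act ζ (QuaternionGroup.a i) _ + act ζ (QuaternionGroup.a i) _
      simp only [act, Prod.mk_add_mk]
      ext <;> simp only <;> ring
    · show act ζ (QuaternionGroup.xa i) _ = act ζ (QuaternionGroup.xa i) _ + act ζ (QuaternionGroup.xa i) _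
      simp only [act, Prod.mk_add_mk]
      ext <;> simp only <;> ring

lemma act_fpf (g : QuaternionGroup n) (hg : g ≠ 1) (v : ZMod p × ZMod p) (hv : act ζ g v = v) :
    v = 0 := by
  obtain ⟨v₁, v₂⟩ := v
  rcases g with i | i
  · have hi : i ≠ 0 := by
      rintro rfl
      exact hg rfl
    simp only [act, Prod.mk.injEq] at hv
    obtain ⟨h1, h2⟩ := hv
    have e1 : (pw ζ i - 1) * v₁ = 0 := by rw [sub_mul, h1, one_mul, sub_self]
    have e2 : (pw ζ (-i) - 1) * v₂ = 0 := by rw [sub_mul, h2, one_mul, sub_self]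
    have hv1 : v₁ = 0 := by
      rcases mul_eq_zero.1 e1 with h | h
      · exact absurd (pw_eq_one ζ hζ (sub_eq_zero.1 h)) hi
      · exact h
    have hv2 : v₂ = 0 := by
      rcases mul_eq_zero.1 e2 with h | h
      · exact absurd (neg_eq_zero.1 (pw_eq_one ζ hζ (sub_eq_zero.1 h))) hi
      · exact h
    rw [hv1, hv2]; rfl
  · simp only [act, Prod.mk.injEq] at hv
    obtain ⟨h1, h2⟩ := hv
    have e : (1 + 1) * v₂ = 0 := by
      have h3 := pw_mul_neg ζ hζ i
      linear_combination (-1 : ZMod p) * h2 + (pw ζ i) * h1 + (-v₂) * h3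
    have hv2 : v₂ = 0 := by
      rcases mul_eq_zero.1 e with h | h
      · exfalso
        apply one_ne_neg_one ζ hζ
        linear_combination h
      · exact h
    have hv1 : v₁ = 0 := by rw [← h1, hv2, mul_zero]
    rw [hv1, hv2]; rfl

end

/-- For every n ≥ 2 the dicyclic group of order 4n (generated by an element a of order 2n and an element x with x² = aⁿ and x a x⁻¹ = a⁻¹) occurs as a Frobenius complement of some finite Frobenius group. -/
theorem result (n : ℕ) (hn : 2 ≤ n) :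
    ∃ (L : Type) (_ : Group L) (_ : Finite L) (H : Subgroup L), Cfsg.IsFrobeniusComplement H ∧ Nonempty (H ≃* QuaternionGroup n) := by
  haveI : NeZero n := ⟨by omega⟩
  obtain ⟨p, hp, _, ζ, hζ⟩ := exists_prime_unit_orderOf (2 * n) (by omega)
  haveI : Fact p.Prime := ⟨hp⟩
  letI := qAction ζ hζ
  exact Cfsg.Agent.Lib.H21.exists_frobenius_of_fpf_distribMulAction
    (V := ZMod p × ZMod p) (G := QuaternionGroup n)
    (fun g hg v hv => act_fpf ζ hζ g hg v hv)

end Cfsg.Agent.S4297
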