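import Cfsg.Statements.S4298
import Mathlib
import Cfsg.Agent.Lib.H21.FrobSemidirect

set_option autoImplicit false
open Cfsg

namespace Cfsg.Agent.S4298

open Quaternion

/-- lift `ZMod 3 → ZMod 5` with `2 ↦ -1`. -/
def lam (t : ZMod 3) : ZMod 5 := if t = 0 then 0 else if t = 1 then 1 else -1

/-- The image in the quaternions over `F_5` of the Hurwitz unit corresponding to the matrix
`!![a, b; c, d]` of `SL(2,3)`. -/
def F (a b c d : ZMod 3) : ℍ[ZMod 5] :=
  let x0 := 2 * (a + d)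
  let x1 := b - c
  let x2 := a + b + c - d
  let x3 := b + c + d - a
  let cc : ZMod 5 := if x0 = 0 ∨ x1 = 0 ∨ x2 = 0 ∨ x3 = 0 then 1 else 2
  ⟨cc * lam x0, cc * lam x1, cc * lam x2, cc * lam x3⟩

instance decEqH : DecidableEq ℍ[ZMod 5] := fun a b =>
  decidable_of_iff (a.re = b.re ∧ a.imI = b.imI ∧ a.imJ = b.imJ ∧ a.imK = b.imK)
    Quaternion.ext_iff.symm

set_option maxRecDepth 100000 in
theorem F_mul : ∀ a b c d e f g h : ZMod 3, a * d - b * c = 1 → e * h - f * g = 1 →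
    F (a * e + b * g) (a * f + b * h) (c * e + d * g) (c * f + d * h) = F a b c d * F e f g h := by
  decide +kernel

theorem F_one : F 1 0 0 1 = 1 := by decide +kernel

set_option maxRecDepth 100000 in
theorem F_fpf : ∀ a b c d : ZMod 3, a * d - b * c = 1 → ¬ (a = 1 ∧ b = 0 ∧ c = 0 ∧ d = 1) →
    normSq (F a b c d - 1) ≠ 0 := by
  decide +kernel

instance fact5 : Fact (Nat.Prime 5) := ⟨by norm_num⟩

/-- the embedding of `SL(2,3)` into the quaternions over `F_5`. -/
noncomputable def fhom : Matrix.SpecialLinearGroup (Fin 2) (ZMod 3) →* ℍ[ZMod 5] where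
  toFun M := F (M.1 0 0) (M.1 0 1) (M.1 1 0) (M.1 1 1)
  map_one' := by simp [F_one]
  map_mul' M N := by
    have hM : M.1 0 0 * M.1 1 1 - M.1 0 1 * M.1 1 0 = 1 := by
      rw [← Matrix.det_fin_two]; exact M.2
    have hN : N.1 0 0 * N.1 1 1 - N.1 0 1 * N.1 1 0 = 1 := by
      rw [← Matrix.det_fin_two]; exact N.2
    have := F_mul _ _ _ _ _ _ _ _ hM hN
    simp only [Matrix.SpecialLinearGroup.coe_mul, Matrix.mul_apply, Fin.sum_univ_two]
    exact this

theorem fhom_fpf (g : Matrix.SpecialLinearGroup (Fin 2) (ZMod 3)) (hg : g ≠ 1) (v : ℍ[ZMod 5])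
    (hv : fhom g * v = v) : v = 0 := by
  have hM : g.1 0 0 * g.1 1 1 - g.1 0 1 * g.1 1 0 = 1 := by
    rw [← Matrix.det_fin_two]; exact g.2
  have hne : ¬ (g.1 0 0 = 1 ∧ g.1 0 1 = 0 ∧ g.1 1 0 = 0 ∧ g.1 1 1 = 1) := by
    rintro ⟨h1, h2, h3, h4⟩
    apply hg
    ext i j
    fin_cases i <;> fin_cases j <;> simp [h1, h2, h3, h4]
  have hn := F_fpf _ _ _ _ hM hne
  have hw : (fhom g - 1) * v = 0 := by rw [sub_mul, hv, one_mul, sub_self]
  have h2 : star (fhom g - 1) * ((fhom g - 1) * v) = 0 := by rw [hw, mul_zero]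
  rw [← mul_assoc, star_mul_self, coe_mul_eq_smul] at h2
  rcases smul_eq_zero.1 h2 with h | h
  · exact absurd h hn
  · exact h

/-- The group SL(2,3) of order 24 (the binary tetrahedral group) occurs as a Frobenius complement of some finite Frobenius group. -/
theorem result :
    ∃ (L : Type) (_ : Group L) (_ : Finite L) (H : Subgroup L), Cfsg.IsFrobeniusComplement H ∧ Nonempty (H ≃* Matrix.SpecialLinearGroup (Fin 2) (ZMod 3)) := by
  letI : DistribMulAction (Matrix.SpecialLinearGroup (Fin 2) (ZMod 3)) ℍ[ZMod 5] :=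
    DistribMulAction.compHom _ fhom
  haveI : Finite ℍ[ZMod 5] := Finite.of_equiv _ (QuaternionAlgebra.equivTuple _ _ _).symm
  haveI : Nontrivial (Matrix.SpecialLinearGroup (Fin 2) (ZMod 3)) := by
    refine ⟨⟨1, ⟨!![0, -1; 1, 0], by decide⟩, ?_⟩⟩
    intro h
    have := congrArg (fun M : Matrix.SpecialLinearGroup (Fin 2) (ZMod 3) => M.1 0 0) h
    simp at this
  exact Cfsg.Agent.Lib.H21.exists_frobenius_of_fpf_distribMulAction
    (V := ℍ[ZMod 5]) (G := Matrix.SpecialLinearGroup (Fin 2) (ZMod 3))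
    (fun g hg v hv => fhom_fpf g hg v hv)

end Cfsg.Agent.S4298
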