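import Cfsg.Statements.S4299
import Mathlib
import Cfsg.Agent.Lib.H21.FrobSemidirect

set_option autoImplicit false
open Cfsg

namespace Cfsg.Agent.S4299

/-- Every nontrivial finite cyclic group occurs as a Frobenius complement of some finite Frobenius group. -/
theorem result {C : Type*} [Group C] [Finite C] [IsCyclic C] [Nontrivial C] :
    ∃ (L : Type) (_ : Group L) (_ : Finite L) (H : Subgroup L), Cfsg.IsFrobeniusComplement H ∧ Nonempty (C ≃* H) := by
  have hn2 : 1 < Nat.card C := Finite.one_lt_card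
  obtain ⟨p, hp, _, hmod⟩ := Nat.exists_prime_gt_modEq_one (k := Nat.card C) 2 (by omega)
  haveI : Fact p.Prime := ⟨hp⟩
  have hdvd : Nat.card C ∣ p - 1 := (Nat.modEq_iff_dvd' hp.one_lt.le).1 hmod.symm
  have hcardU : Nat.card (ZMod p)ˣ = p - 1 := by
    rw [Nat.card_eq_fintype_card, ZMod.card_units_eq_totient, Nat.totient_prime hp]
  obtain ⟨g, hg⟩ := IsCyclic.exists_generator (α := (ZMod p)ˣ)
  have hog : orderOf g = p - 1 := by
    rw [orderOf_eq_card_of_forall_mem_zpowers hg, hcardU]
  have hp1 : 0 < p - 1 := Nat.sub_pos_of_lt hp.one_lt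
  set m := (p - 1) / Nat.card C with hm
  have hm0 : m ≠ 0 := by
    have : 0 < m := Nat.div_pos (Nat.le_of_dvd hp1 hdvd) (by omega)
    omega
  have hmd : m ∣ orderOf g := by
    rw [hog]; exact Nat.div_dvd_of_dvd hdvd
  have hou : orderOf (g ^ m) = Nat.card C := by
    rw [orderOf_pow_of_dvd hm0 hmd, hog, hm, Nat.div_div_self hdvd (by omega)]
  have hcard : Nat.card (Subgroup.zpowers (g ^ m)) = Nat.card C := by
    rw [Nat.card_zpowers, hou]
  haveI : Nontrivial (Subgroup.zpowers (g ^ m)) := by
    rw [← Finite.one_lt_card_iff_nontrivial, hcard]; exact hn2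
  haveI : Nontrivial (ZMod p) := inferInstance
  obtain ⟨L, iL, fL, H, hH, ⟨e⟩⟩ :=
    Cfsg.Agent.Lib.H21.exists_frobenius_of_fpf_distribMulAction
      (V := ZMod p) (G := Subgroup.zpowers (g ^ m)) (by
        intro w hw v hv
        have h1 : ((w : (ZMod p)ˣ) : ZMod p) * v = v := hv
        have h2 : (((w : (ZMod p)ˣ) : ZMod p) - 1) * v = 0 := by rw [sub_mul, h1, one_mul, sub_self]
        rcases mul_eq_zero.1 h2 with h3 | h3
        · exfalso
          apply hw
          apply Subtype.ext
          apply Units.ext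
          rw [sub_eq_zero] at h3
          simpa using h3
        · exact h3)
  refine ⟨L, iL, fL, H, hH, ⟨?_⟩⟩
  exact (mulEquivOfCyclicCardEq hcard.symm).trans e.symm

end Cfsg.Agent.S4299
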