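import Cfsg.Statements.S4300

set_option autoImplicit false
open Cfsg

namespace Cfsg.Agent.S4300

/-- Let G act faithfully and primitively on a set X, and suppose the stabilizer of some point is a simple group. Then either G is simple, or G has a normal subgroup, neither trivial nor the whole group, that acts regularly on X (transitively with trivial point stabilizers). -/
theorem result {G : Type*} [Group G] {X : Type*} [MulAction G X] [FaithfulSMul G X]
    (hprim : MulAction.IsPreprimitive G X) (x : X) (hsimple : IsSimpleGroup (MulAction.stabilizer G x)) :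
    IsSimpleGroup G ∨ ∃ N : Subgroup G, N.Normal ∧ N ≠ ⊥ ∧ N ≠ ⊤ ∧
      MulAction.IsPretransitive N X ∧ ∀ y : X, MulAction.stabilizer N y = ⊥ := by
  classical
  by_cases hG : IsSimpleGroup G
  · exact Or.inl hG
  right
  -- stabilizer is nontrivial
  have hSnt : Nontrivial (MulAction.stabilizer G x) := hsimple.toNontrivial
  obtain ⟨⟨s, hs⟩, hs1⟩ := exists_ne (1 : MulAction.stabilizer G x)
  have hs1' : s ≠ 1 := fun h => hs1 (Subtype.ext h)
  haveI : Nontrivial G := ⟨⟨s, 1, hs1'⟩⟩
  -- X is nontrivial
  haveI hXnt : Nontrivial X := by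
    by_contra hX
    rw [not_nontrivial_iff_subsingleton] at hX
    apply hs1'
    apply FaithfulSMul.eq_of_smul_eq_smul (α := X)
    intro a
    exact Subsingleton.elim _ _
  -- a proper nontrivial normal subgroup
  have hN : ∃ N : Subgroup G, N.Normal ∧ N ≠ ⊥ ∧ N ≠ ⊤ := by
    by_contra hcon
    apply hG
    refine ⟨fun H hH => ?_⟩
    by_contra h2
    push Not at h2
    exact hcon ⟨H, hH, h2.1, h2.2⟩
  obtain ⟨N, hNn, hNb, hNt⟩ := hN
  haveI := hNn
  -- N is transitive
  have hNtr : MulAction.IsPretransitive N X := by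
    apply MulAction.IsQuasiPreprimitive.isPretransitive_of_normal (G := G)
    intro hfix
    apply hNb
    rw [eq_bot_iff]
    intro n hn
    rw [Subgroup.mem_bot]
    apply FaithfulSMul.eq_of_smul_eq_smul (α := X)
    intro a
    have : a ∈ MulAction.fixedPoints N X := by rw [hfix]; trivial
    have := this ⟨n, hn⟩
    simpa using this
  refine ⟨N, hNn, hNb, hNt, hNtr, ?_⟩
  -- N ∩ G_x is normal in G_x
  have hnorm : (N.subgroupOf (MulAction.stabilizer G x)).Normal := inferInstance
  have key : N ⊓ MulAction.stabilizer G x = ⊥ := by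
    rcases hnorm.eq_bot_or_eq_top with hb | ht
    · rw [Subgroup.subgroupOf_eq_bot] at hb
      exact disjoint_iff.mp hb
    · exfalso
      rw [Subgroup.subgroupOf_eq_top] at ht
      -- G_x ≤ N, contradiction with transitivity of N
      obtain ⟨y, hy⟩ := exists_ne x
      have hcoatom := MulAction.IsPreprimitive.isCoatom_stabilizer_of_isPreprimitive (G := G) x
      rcases hcoatom.le_iff.mp ht with h | h
      · exact hNt h
      · obtain ⟨⟨n, hn⟩, hnx⟩ := hNtr.exists_smul_eq x y
        have : n ∈ MulAction.stabilizer G x := by rw [← h]; exact hn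
        apply hy
        rw [← hnx]
        exact (MulAction.mem_stabilizer_iff.mp this)
  intro y
  obtain ⟨⟨n, hn⟩, hnx⟩ := hNtr.exists_smul_eq x y
  rw [eq_bot_iff]
  rintro ⟨m, hm⟩ hmy
  rw [Subgroup.mem_bot]
  apply Subtype.ext
  show m = 1
  have hmy' : m • y = y := by
    have := MulAction.mem_stabilizer_iff.mp hmy
    exact this
  have hnx' : n • x = y := hnx
  have h1 : n⁻¹ * m * n ∈ N ⊓ MulAction.stabilizer G x := by
    refine ⟨N.mul_mem (N.mul_mem (N.inv_mem hn) hm) hn, ?_⟩
    show n⁻¹ * m * n ∈ MulAction.stabilizer G x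
    rw [MulAction.mem_stabilizer_iff, mul_smul, mul_smul, hnx', hmy', ← hnx', inv_smul_smul]
  rw [key, Subgroup.mem_bot] at h1
  calc m = n * (n⁻¹ * m * n) * n⁻¹ := by group
    _ = 1 := by rw [h1]; group

end Cfsg.Agent.S4300
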