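import Cfsg.Statements.S4301
import Mathlib

set_option autoImplicit false
open Cfsg

namespace Cfsg.Agent.S4301

open MulAction Equiv

section
variable {X : Type*} (G : Subgroup (Equiv.Perm (Option X)))

/-- 2-transitivity of `G` on `X`, from `k`-transitivity. -/
lemma two_trans (k : ℕ) (hk : 2 ≤ k) (hkX : Nonempty (Fin k ↪ X))
    (htrans : ∀ a b : Fin k ↪ X, ∃ f ∈ G, ∀ i, f (some (a i)) = some (b i))
    (p q p' q' : X) (hpq : p ≠ q) (hpq' : p' ≠ q') :
    ∃ a ∈ G, a (some p) = some p' ∧ a (some q) = some q' := by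
  obtain ⟨e₀⟩ := hkX
  have hne : e₀ ⟨0, by omega⟩ ≠ e₀ ⟨1, by omega⟩ := by
    intro h
    have := e₀.injective h
    simp at this
  haveI := Equiv.Perm.isMultiplyPretransitive X 2
  obtain ⟨σ, hσ0, hσ1⟩ := (is_two_pretransitive_iff (G := Perm X) (α := X)).1 inferInstance hne hpq
  obtain ⟨τ, hτ0, hτ1⟩ := (is_two_pretransitive_iff (G := Perm X) (α := X)).1 inferInstance hne hpq'
  obtain ⟨f, hf, hfi⟩ := htrans (e₀.trans σ.toEmbedding) (e₀.trans τ.toEmbedding)
  refine ⟨f, hf, ?_, ?_⟩
  · have := hfi ⟨0, by omega⟩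
    simp only [Function.Embedding.trans_apply, Equiv.coe_toEmbedding] at this
    rw [← Perm.smul_def σ, ← Perm.smul_def τ, hσ0, hτ0] at this
    exact this
  · have := hfi ⟨1, by omega⟩
    simp only [Function.Embedding.trans_apply, Equiv.coe_toEmbedding] at this
    rw [← Perm.smul_def σ, ← Perm.smul_def τ, hσ1, hτ1] at this
    exact this

end

/-- One-point extension of a multiply transitive group. Let X be a set and G a group of permutations of Option X (the set X with one extra point ∗ = none) all of whose elements fix ∗, such that G is k-transitive on the points of X for some k ≥ 2, X having at least k points. Suppose a permutation h of Option X and an element g of G satisfy: h interchanges ∗ with a point x of X and fixes a point y of X; g interchanges x and y; (g h)³ and h² lie in G; and for every f in G fixing x, the product h f h lies in G and fixes x. Then an element of the group generated by G and h fixes ∗ exactly when it lies in G, and that group acts (k+1)-transitively on Option X. -/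
theorem result {X : Type*} (G : Subgroup (Equiv.Perm (Option X))) (hfix : ∀ f ∈ G, f none = none)
    (k : ℕ) (hk : 2 ≤ k) (hkX : Nonempty (Fin k ↪ X))
    (htrans : ∀ a b : Fin k ↪ X, ∃ f ∈ G, ∀ i, f (some (a i)) = some (b i))
    (h g : Equiv.Perm (Option X)) (hg : g ∈ G) (x y : X)
    (h1 : h none = some x) (h2 : h (some x) = none) (h3 : h (some y) = some y)
    (h4 : g (some x) = some y) (h5 : g (some y) = some x)
    (h6 : (g * h) ^ 3 ∈ G) (h7 : h ^ 2 ∈ G)
    (h8 : ∀ f ∈ G, f (some x) = some x → h * f * h ∈ G ∧ (h * f * h) (some x) = some x) :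
    (∀ f ∈ Subgroup.closure ((G : Set (Equiv.Perm (Option X))) ∪ {h}), f none = none ↔ f ∈ G) ∧
      MulAction.IsMultiplyPretransitive (Subgroup.closure ((G : Set (Equiv.Perm (Option X))) ∪ {h})) (Option X) (k + 1) := by
  have hxy : x ≠ y := by
    intro hxy
    rw [hxy, h3] at h2
    exact Option.some_ne_none _ h2
  have h2t := two_trans G k hk hkX htrans
  -- elements of G map `some` to `some`
  have hsome : ∀ f ∈ G, ∀ t : X, ∃ t' : X, f (some t) = some t' := by
    intro f hf t
    apply Option.ne_none_iff_exists'.1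
    intro hn
    rw [← hfix f hf] at hn
    exact Option.some_ne_none _ (f.injective hn)
  -- the set G ∪ GhG
  let S : Set (Equiv.Perm (Option X)) := {f | f ∈ G ∨ ∃ a ∈ G, ∃ b ∈ G, f = a * h * b}
  -- key: h G h ⊆ S
  have hGh : ∀ f ∈ G, h * f * h ∈ S := by
    intro f hf
    by_cases hfx : f (some x) = some x
    · exact Or.inl (h8 f hf hfx).1
    · obtain ⟨z, hz⟩ := hsome f hf x
      have hzx : z ≠ x := by
        intro h
        rw [h] at hz
        exact hfx hz
      obtain ⟨a, ha, hax, hay⟩ := h2t x y x z hxy hzx.symm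
      -- b = g⁻¹ a⁻¹ f fixes x
      have hb : g⁻¹ * a⁻¹ * f ∈ G := G.mul_mem (G.mul_mem (G.inv_mem hg) (G.inv_mem ha)) hf
      have hbx : (g⁻¹ * a⁻¹ * f) (some x) = some x := by
        simp only [Perm.mul_apply]
        rw [hz, Perm.inv_eq_iff_eq.2 hay.symm, Perm.inv_eq_iff_eq.2 h4.symm]
      have hA := (h8 a ha hax).1
      have hB := (h8 _ hb hbx).1
      right
      refine ⟨h * a * h * (h ^ 2)⁻¹ * g⁻¹ * (g * h) ^ 3 * (h ^ 2)⁻¹, ?_,
        g⁻¹ * (h ^ 2)⁻¹ * (h * (g⁻¹ * a⁻¹ * f) * h), ?_, ?_⟩
      · exact G.mul_mem (G.mul_mem (G.mul_mem (G.mul_mem hA (G.inv_mem h7)) (G.inv_mem hg)) h6)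
          (G.inv_mem h7)
      · exact G.mul_mem (G.mul_mem (G.inv_mem hg) (G.inv_mem h7)) hB
      · have e3 : (g * h) ^ 3 = g * h * (g * h) * (g * h) := by rw [pow_succ, pow_succ, pow_one]
        rw [e3]
        group
  -- closure ⊆ S
  have hcl : ∀ f ∈ Subgroup.closure ((G : Set (Equiv.Perm (Option X))) ∪ {h}), f ∈ S := by
    intro f hf
    induction hf using Subgroup.closure_induction with
    | mem f hf =>
      rcases hf with hf | hf
      · exact Or.inl hf
      · rw [Set.mem_singleton_iff] at hf
        exact Or.inr ⟨1, G.one_mem, 1, G.one_mem, by rw [hf]; group⟩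
    | one => exact Or.inl G.one_mem
    | mul f₁ f₂ _ _ ih₁ ih₂ =>
      rcases ih₁ with ih₁ | ⟨a, ha, b, hb, rfl⟩
      · rcases ih₂ with ih₂ | ⟨a', ha', b', hb', rfl⟩
        · exact Or.inl (G.mul_mem ih₁ ih₂)
        · exact Or.inr ⟨f₁ * a', G.mul_mem ih₁ ha', b', hb', by group⟩
      · rcases ih₂ with ih₂ | ⟨a', ha', b', hb', rfl⟩
        · exact Or.inr ⟨a, ha, b * f₂, G.mul_mem hb ih₂, by group⟩
        · rcases hGh (b * a') (G.mul_mem hb ha') with hm | ⟨c, hc, d, hd, hm⟩
          · left
            have : a * h * b * (a' * h * b') = a * (h * (b * a') * h) * b' := by group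
            rw [this]
            exact G.mul_mem (G.mul_mem ha hm) hb'
          · right
            refine ⟨a * c, G.mul_mem ha hc, d * b', G.mul_mem hd hb', ?_⟩
            have : a * h * b * (a' * h * b') = a * (h * (b * a') * h) * b' := by group
            rw [this, hm]
            group
    | inv f _ ih =>
      rcases ih with ih | ⟨a, ha, b, hb, rfl⟩
      · exact Or.inl (G.inv_mem ih)
      · right
        refine ⟨b⁻¹, G.inv_mem hb, (h ^ 2)⁻¹ * a⁻¹, G.mul_mem (G.inv_mem h7) (G.inv_mem ha), ?_⟩
        group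
  -- part (a)
  have parta : ∀ f ∈ Subgroup.closure ((G : Set (Equiv.Perm (Option X))) ∪ {h}),
      f none = none ↔ f ∈ G := by
    intro f hf
    constructor
    · intro hfn
      rcases hcl f hf with hfG | ⟨a, ha, b, hb, rfl⟩
      · exact hfG
      · exfalso
        simp only [Perm.mul_apply] at hfn
        rw [hfix b hb, h1] at hfn
        obtain ⟨t, ht⟩ := hsome a ha x
        rw [ht] at hfn
        exact Option.some_ne_none _ hfn
    · exact hfix f
  refine ⟨parta, ?_⟩
  -- part (b)
  obtain ⟨L, hL⟩ : ∃ L : Subgroup (Equiv.Perm (Option X)),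
      L = Subgroup.closure ((G : Set (Equiv.Perm (Option X))) ∪ {h}) := ⟨_, rfl⟩
  rw [← hL] at parta ⊢
  have hGL : G ≤ L := by
    rw [hL]
    exact fun f hf => Subgroup.subset_closure (Or.inl hf)
  have hhL : h ∈ L := by
    rw [hL]
    exact Subgroup.subset_closure (Or.inr rfl)
  have hsm : ∀ (l : L) (p : Option X), l • p = (l : Equiv.Perm (Option X)) p := fun _ _ => rfl
  -- transitivity
  have hfrom : ∀ p : Option X, ∃ l : L, l • (none : Option X) = p := by
    intro p
    cases p with
    | none => exact ⟨1, one_smul _ _⟩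
    | some z =>
      by_cases hzx : z = x
      · exact ⟨⟨h, hhL⟩, by rw [hsm, hzx]; exact h1⟩
      · obtain ⟨a, ha, hax, _⟩ := h2t x y z x hxy hzx
        refine ⟨⟨a * h, L.mul_mem (hGL ha) hhL⟩, ?_⟩
        rw [hsm]
        simp only [Perm.mul_apply]
        rw [h1, hax]
  haveI : IsPretransitive L (Option X) := by
    refine ⟨fun p q => ?_⟩
    obtain ⟨lp, hlp⟩ := hfrom p
    obtain ⟨lq, hlq⟩ := hfrom q
    exact ⟨lq * lp⁻¹, by rw [mul_smul, ← hlp, inv_smul_smul, hlq]⟩
  rw [Nat.add_one, SubMulAction.ofStabilizer.isMultiplyPretransitive (a := (none : Option X))]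
  rw [isMultiplyPretransitive_iff]
  intro u v
  have hu : ∀ i, ∃ t : X, ((u i : SubMulAction.ofStabilizer L (none : Option X)) : Option X) = some t :=
    fun i => Option.ne_none_iff_exists'.1 (u i).2
  have hv : ∀ i, ∃ t : X, ((v i : SubMulAction.ofStabilizer L (none : Option X)) : Option X) = some t :=
    fun i => Option.ne_none_iff_exists'.1 (v i).2
  choose ua hua using hu
  choose va hva using hv
  have huai : Function.Injective ua := by
    intro i j hij
    apply u.injective
    apply Subtype.ext
    rw [hua i, hua j, hij]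
  have hvai : Function.Injective va := by
    intro i j hij
    apply v.injective
    apply Subtype.ext
    rw [hva i, hva j, hij]
  obtain ⟨f, hf, hfi⟩ := htrans ⟨ua, huai⟩ ⟨va, hvai⟩
  have hfs : (⟨f, hGL hf⟩ : L) ∈ stabilizer L (none : Option X) := by
    rw [mem_stabilizer_iff, hsm]
    exact hfix f hf
  refine ⟨⟨⟨f, hGL hf⟩, hfs⟩, ?_⟩
  ext i : 2
  rw [Function.Embedding.smul_apply]
  show f ((u i : SubMulAction.ofStabilizer L (none : Option X)) : Option X) = _
  rw [hua i, hva i]
  exact hfi i

end Cfsg.Agent.S4301
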