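import Cfsg.Statements.S4302
import Mathlib
import Cfsg.Agent.Lib.H21.FFGlauC
import Cfsg.Agent.Lib.H7.DihedralLemma2
import Cfsg.Agent.Lib.H1.PSolvOfSolv

set_option autoImplicit false
open Cfsg

namespace Cfsg.Agent.S4302

open Cfsg.Agent.Lib.H21.FFGlau Cfsg.Agent.Lib.H3.QT

/-- Let `X` be a finite solvable group whose Fitting subgroup is a 2-group (equivalently `F(X) = O₂(X)`), `T` a Sylow 2-subgroup of `X`, `J(T)` the subgroup generated by the abelian subgroups of `T` of largest order, `C` the largest normal subgroup of `X` centralizing the centre `Z(T)`, and `Y` the normal closure of `J(T)` in `X`. Then `X = C · Y · N_X(J(T))`, and either `Y ≤ C`, or `CY/C` is isomorphic to a direct product of at least one copy of the symmetric group of degree 3. -/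
theorem result {X : Type*} [Group X] [Finite X]
    [Group.IsSolvable X] (hF : Cfsg.fittingSubgroup X = Cfsg.pCore 2 X) (T : Sylow 2 X) :
    ((Subgroup.centralizer (((T : Subgroup X) ⊓ Subgroup.centralizer ((T : Subgroup X) : Set X) : Subgroup X) : Set X)).normalCore
        ⊔ Subgroup.normalClosure (Cfsg.thompsonSubgroupAOf (T : Subgroup X) : Set X)
        ⊔ Subgroup.normalizer (Cfsg.thompsonSubgroupAOf (T : Subgroup X) : Set X) = ⊤) ∧
    (Subgroup.normalClosure (Cfsg.thompsonSubgroupAOf (T : Subgroup X) : Set X)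
        ≤ (Subgroup.centralizer (((T : Subgroup X) ⊓ Subgroup.centralizer ((T : Subgroup X) : Set X) : Subgroup X) : Set X)).normalCore
      ∨ ∃ n : ℕ, 1 ≤ n ∧
        Nonempty (↥(Subgroup.normalClosure (Cfsg.thompsonSubgroupAOf (T : Subgroup X) : Set X)) ⧸
            ((Subgroup.centralizer (((T : Subgroup X) ⊓ Subgroup.centralizer ((T : Subgroup X) : Set X) : Subgroup X) : Set X)).normalCore).subgroupOf
              (Subgroup.normalClosure (Cfsg.thompsonSubgroupAOf (T : Subgroup X) : Set X))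
          ≃* (Fin n → Equiv.Perm (Fin 3)))) := by
  haveI : Fact (Nat.Prime 2) := ⟨Nat.prime_two⟩
  set Z := (T : Subgroup X) ⊓ Subgroup.centralizer ((T : Subgroup X) : Set X) with hZ
  set C := (Subgroup.centralizer (Z : Set X)).normalCore with hC
  set J := Cfsg.thompsonSubgroupAOf (T : Subgroup X) with hJ
  set Y := Subgroup.normalClosure (J : Set X) with hY
  haveI hYn : Y.Normal := Subgroup.normalClosure_normal
  have hO : Subgroup.centralizer (Cfsg.pCore 2 X : Set X) ≤ Cfsg.pCore 2 X := by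
    have := Cfsg.Agent.Lib.H7.centralizer_fittingSubgroup_le_of_isSolvable X
    rwa [hF] at this
  haveI hOn : (Cfsg.pCore 2 X).Normal := Cfsg.Agent.Lib.H1.pCore_normal 2 X
  have hOT : Cfsg.pCore 2 X ≤ T := Cfsg.Agent.Lib.H1.pCore_le_sylow T
  set V0 := Subgroup.normalClosure (Z : Set X) with hV0
  haveI hV0n : V0.Normal := Subgroup.normalClosure_normal
  have hV0le : V0 ≤ Cfsg.pCore 2 X ⊓ Subgroup.centralizer (Cfsg.pCore 2 X : Set X) := by
    haveI : (Cfsg.pCore 2 X ⊓ Subgroup.centralizer (Cfsg.pCore 2 X : Set X)).Normal :=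
      Subgroup.normal_inf_normal _ _
    apply Subgroup.normalClosure_le_normal
    intro z hz
    have hz2 : z ∈ Subgroup.centralizer (Cfsg.pCore 2 X : Set X) :=
      Subgroup.centralizer_le (by exact_mod_cast hOT) hz.2
    exact ⟨hO hz2, hz2⟩
  have hV0c : ∀ a ∈ V0, ∀ b ∈ V0, a * b = b * a := fun a ha b hb =>
    Subgroup.mem_centralizer_iff.1 (hV0le hb).2 a (hV0le ha).1
  have hV02 : IsPGroup 2 ↥V0 :=
    (Cfsg.Agent.Lib.H1.pCore_isPGroup 2 X).to_le (hV0le.trans inf_le_left)
  have hCeq : C = Subgroup.centralizer (V0 : Set X) := normalCore_centralizer Z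
  have hO0 : Cfsg.pCore 2 (X ⧸ Subgroup.centralizer (V0 : Set X)) = ⊥ :=
    pCore_quot_eq_bot_aux T _ rfl
  set V := Cfsg.omegaOne 2 V0 with hV
  haveI hVn : V.Normal := omegaOne_normal hV0c
  have hVV0 : Subgroup.centralizer (V : Set X) = Subgroup.centralizer (V0 : Set X) :=
    centralizer_omegaOne_eq hV0c hV02 hO0
  have hVe : Cfsg.IsElementaryAbelian 2 V :=
    elemAb_omegaOne ((comm_iff_isMulCommutative V0).1 hV0c)
  have hOV : Cfsg.pCore 2 (X ⧸ Subgroup.centralizer (V : Set X)) = ⊥ :=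
    pCore_quot_eq_bot_aux T _ hVV0
  have hVT : V ≤ T := by
    intro v hv
    exact hOT (hV0le ((mem_omegaOne_iff' hV0c).1 hv).1).1
  have hsep := Cfsg.Agent.Lib.H1.PSolvOfSolv.isPSolvable_of_isSolvable 2 X
  have hcases := hat_Y_cases V hVe hsep hOV T hVT
  obtain ⟨eq⟩ := quot_iso V Y C (hCeq.trans hVV0.symm)
  constructor
  · have h1 := frattini_J T Y Subgroup.le_normalClosure
    rw [sup_assoc, h1, sup_top_eq]
  · rcases hcases with h | ⟨n, hn, ⟨e⟩⟩
    · left
      show Y ≤ C
      rw [hCeq, ← hVV0]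
      exact h
    · right
      exact ⟨n, hn, ⟨eq.trans e⟩⟩

end Cfsg.Agent.S4302
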