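import Cfsg.Statements.S4314
import Mathlib

set_option autoImplicit false
open Cfsg

namespace Cfsg.Agent.S4314

open scoped commutatorElement

/-- A finite group with all class sizes `1` or prime, having a nontrivial core-free subgroup of
prime index `p`, has trivial centre and order `p q` with `q ≠ p` prime. -/
theorem coreFree_prime_index {E : Type*} [Group E] [Finite E]
    (hP : ∀ x : E, (Subgroup.centralizer ({x} : Set E)).index = 1 ∨
      ((Subgroup.centralizer ({x} : Set E)).index).Prime)
    (M : Subgroup E) {p : ℕ} (hp : p.Prime) (hM : M.index = p) (hcore : M.normalCore = ⊥)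
    (hMne : M ≠ ⊥) :
    Subgroup.center E = ⊥ ∧ ∃ q : ℕ, q.Prime ∧ p ≠ q ∧ Nat.card E = p * q := by
  haveI : Fact p.Prime := ⟨hp⟩
  -- `|E|` divides `p!`
  have hdvd : Nat.card E ∣ p.factorial := by
    have hinj : Function.Injective (MulAction.toPermHom E (E ⧸ M)) := by
      rw [← MonoidHom.ker_eq_bot_iff, ← Subgroup.normalCore_eq_ker, hcore]
    have := Subgroup.card_dvd_of_injective _ hinj
    rwa [Nat.card_perm, ← Subgroup.index_eq_card, hM] at this
  have hcardE : Nat.card M * p = Nat.card E := by rw [← hM]; exact M.card_mul_index
  have hpM : ¬ p ∣ Nat.card M := by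
    intro hd
    have h1 : p * p ∣ p.factorial := by
      refine dvd_trans ?_ hdvd
      rw [← hcardE]
      exact Nat.mul_dvd_mul_right hd p
    have hp1 : p = (p - 1) + 1 := by have := hp.pos; omega
    rw [hp1, Nat.factorial_succ, ← hp1] at h1
    have h2 : p ∣ (p - 1).factorial := Nat.dvd_of_mul_dvd_mul_left hp.pos h1
    rw [hp.dvd_factorial] at h2
    have := hp.pos
    omega
  -- an element of order `p`
  obtain ⟨u, hu⟩ := exists_prime_orderOf_dvd_card' (G := E) p (by rw [← hcardE]; exact dvd_mul_left _ _)
  have hU : Nat.card (Subgroup.zpowers u) = p := by rw [Nat.card_zpowers, hu]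
  have hcompl : M.IsComplement' (Subgroup.zpowers u) := by
    apply Subgroup.isComplement'_of_coprime
    · rw [hU, hcardE]
    · rw [hU]
      exact (Nat.Coprime.symm ((Nat.Prime.coprime_iff_not_dvd hp).2 hpM))
  -- the centralizer of `u` meets `M` trivially
  have hCM : Subgroup.centralizer ({u} : Set E) ⊓ M = ⊥ := by
    rw [eq_bot_iff, ← hcore]
    rintro c ⟨hc1', hc2'⟩ g
    have hc1 : c ∈ Subgroup.centralizer ({u} : Set E) := hc1'
    have hc2 : c ∈ M := hc2'
    obtain ⟨⟨m, v⟩, hmv, -⟩ := hcompl.existsUnique g
    simp only at hmv
    obtain ⟨i, hi⟩ := Subgroup.mem_zpowers_iff.1 v.2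
    have hcu : Commute c u := by
      rw [Subgroup.mem_centralizer_iff] at hc1
      exact (hc1 u rfl).symm
    have hcv : Commute (v : E) c := by
      rw [← hi]
      exact (hcu.zpow_right i).symm
    have : g * c * g⁻¹ = (m : E) * c * (m : E)⁻¹ := by
      rw [← hmv, mul_inv_rev, mul_assoc (m : E), hcv.eq]
      group
    rw [this]
    exact M.mul_mem (M.mul_mem m.2 hc2) (M.inv_mem m.2)
  -- hence the centralizer has order `p`
  have hCle : Nat.card (Subgroup.centralizer ({u} : Set E)) ≤ p := by
    have hinj : Function.Injective
        (fun c : Subgroup.centralizer ({u} : Set E) => (QuotientGroup.mk (c : E) : E ⧸ M)) := by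
      intro c₁ c₂ h
      have h1 : (c₁ : E)⁻¹ * c₂ ∈ M := QuotientGroup.eq.1 h
      have h2 : (c₁ : E)⁻¹ * c₂ ∈ Subgroup.centralizer ({u} : Set E) ⊓ M :=
        ⟨Subgroup.mul_mem _ (Subgroup.inv_mem _ c₁.2) c₂.2, h1⟩
      rw [hCM, Subgroup.mem_bot, inv_mul_eq_one] at h2
      exact Subtype.ext h2
    have := Nat.card_le_card_of_injective _ hinj
    rwa [← Subgroup.index_eq_card, hM] at this
  have hUC : Subgroup.zpowers u ≤ Subgroup.centralizer ({u} : Set E) := by
    rw [Subgroup.zpowers_le, Subgroup.mem_centralizer_iff]
    intro y hy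
    rw [Set.mem_singleton_iff.1 hy]
  have hCcard : Nat.card (Subgroup.centralizer ({u} : Set E)) = p := by
    have h1 := Subgroup.card_dvd_of_le hUC
    rw [hU] at h1
    exact le_antisymm hCle (Nat.le_of_dvd Nat.card_pos h1)
  have hEq : p * (Subgroup.centralizer ({u} : Set E)).index = Nat.card E := by
    rw [← hCcard]; exact Subgroup.card_mul_index _
  have hq : ((Subgroup.centralizer ({u} : Set E)).index).Prime := by
    rcases hP u with h1 | h1
    · exfalso
      rw [h1, mul_one] at hEq
      have : Nat.card M = 1 := by
        have h2 : Nat.card M * p = 1 * p := by rw [hcardE, ← hEq, one_mul]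
        exact Nat.eq_of_mul_eq_mul_right hp.pos h2
      exact hMne (Subgroup.card_eq_one.1 this)
    · exact h1
  have hpq : p ≠ (Subgroup.centralizer ({u} : Set E)).index := by
    intro h
    apply hpM
    have h2 : Nat.card M * p = p * p := by rw [hcardE, ← hEq, ← h]
    rw [Nat.eq_of_mul_eq_mul_right hp.pos h2]
  refine ⟨?_, _, hq, hpq, hEq.symm⟩
  -- trivial centre
  by_contra hZ
  have hZC : Subgroup.center E ≤ Subgroup.centralizer ({u} : Set E) :=
    Subgroup.center_le_centralizer _
  have hd := Subgroup.card_dvd_of_le hZC
  rw [hCcard, Nat.dvd_prime hp] at hd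
  rcases hd with hd | hd
  · exact hZ (Subgroup.card_eq_one.1 hd)
  · have heq : Subgroup.center E = Subgroup.centralizer ({u} : Set E) :=
      Subgroup.eq_of_le_of_card_ge hZC (by rw [hd, hCcard])
    have hu' : u ∈ Subgroup.center E := by rw [heq]; exact hUC (Subgroup.mem_zpowers u)
    have htop : Subgroup.centralizer ({u} : Set E) = ⊤ := by
      rw [eq_top_iff]
      intro g _
      rw [Subgroup.mem_centralizer_iff]
      intro y hy
      rw [Set.mem_singleton_iff.1 hy]
      exact (Subgroup.mem_center_iff.1 hu' g).symm
    rw [htop, Subgroup.index_top] at hq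
    exact Nat.not_prime_one hq

/-- Let `G` be a finite group every conjugacy class of which has size 1 or a prime. Then either `G` is nilpotent of class at most 2, or `G/Z(G)` is a non-abelian group of order `pq` for distinct primes `p, q` (a Frobenius group of order `pq`). -/
theorem result {G : Type*} [Group G] [Finite G]
    (h : ∀ x : G, (Subgroup.centralizer ({x} : Set G)).index = 1 ∨ ((Subgroup.centralizer ({x} : Set G)).index).Prime) :
    Subgroup.upperCentralSeries G 2 = ⊤ ∨
      ∃ p q : ℕ, p.Prime ∧ q.Prime ∧ p ≠ q ∧ Nat.card (G ⧸ Subgroup.center G) = p * q ∧ ¬ IsMulCommutative (G ⧸ Subgroup.center G) := by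
  by_cases hall : ∀ x : G, (Subgroup.centralizer ({x} : Set G)).Normal
  · left
    rw [eq_top_iff]
    intro a _
    rw [show (2 : ℕ) = 1 + 1 from rfl, Subgroup.mem_upperCentralSeries_succ_iff]
    intro b
    rw [Subgroup.upperCentralSeries_one, Subgroup.mem_center_iff]
    intro z
    have hmem : ⁅a, b⁆ ∈ Subgroup.centralizer ({z} : Set G) := by
      haveI := hall z
      rcases h z with h1 | h1
      · rw [Subgroup.index_eq_one] at h1
        rw [h1]
        trivial
      · have hcard : Nat.card (G ⧸ Subgroup.centralizer ({z} : Set G)) =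
            (Subgroup.centralizer ({z} : Set G)).index := (Subgroup.index_eq_card _).symm
        haveI : Fact (Nat.Prime (Subgroup.centralizer ({z} : Set G)).index) := ⟨h1⟩
        have hcyc : IsCyclic (G ⧸ Subgroup.centralizer ({z} : Set G)) :=
          isCyclic_of_prime_card hcard
        letI : CommGroup (G ⧸ Subgroup.centralizer ({z} : Set G)) := IsCyclic.commGroup
        have hk := Abelianization.commutator_subset_ker
          (QuotientGroup.mk' (Subgroup.centralizer ({z} : Set G)))
        rw [QuotientGroup.ker_mk'] at hk
        apply hk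
        rw [commutator_def]
        exact Subgroup.commutator_mem_commutator (Subgroup.mem_top a) (Subgroup.mem_top b)
    rw [Subgroup.mem_centralizer_iff] at hmem
    exact hmem z rfl
  · right
    push Not at hall
    obtain ⟨x, hx⟩ := hall
    obtain ⟨M, hMdef⟩ : ∃ M : Subgroup G, M = Subgroup.centralizer ({x} : Set G) := ⟨_, rfl⟩
    rw [← hMdef] at hx
    have hMtop : M ≠ ⊤ := by
      rintro rfl
      exact hx inferInstance
    obtain ⟨p, hpdef⟩ : ∃ p : ℕ, p = M.index := ⟨_, rfl⟩
    have hp : p.Prime := by
      rcases h x with h1 | h1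
      · exfalso
        rw [← hMdef, Subgroup.index_eq_one] at h1
        exact hMtop h1
      · rw [hpdef, hMdef]; exact h1
    obtain ⟨N, hNdef⟩ : ∃ N : Subgroup G, N = M.normalCore := ⟨_, rfl⟩
    haveI hNn : N.Normal := by rw [hNdef]; infer_instance
    have hNM : N ≤ M := by rw [hNdef]; exact M.normalCore_le
    have hker : (QuotientGroup.mk' N).ker ≤ M := by rw [QuotientGroup.ker_mk']; exact hNM
    have hsurj : Function.Surjective (QuotientGroup.mk' N) := QuotientGroup.mk'_surjective N
    -- class sizes in the quotient
    have hPq : ∀ y : G ⧸ N, (Subgroup.centralizer ({y} : Set (G ⧸ N))).index = 1 ∨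
        ((Subgroup.centralizer ({y} : Set (G ⧸ N))).index).Prime := by
      intro y
      obtain ⟨u, rfl⟩ := hsurj y
      have hle : Subgroup.centralizer ({u} : Set G) ≤
          (Subgroup.centralizer ({QuotientGroup.mk' N u} : Set (G ⧸ N))).comap
            (QuotientGroup.mk' N) := by
        intro c hc
        rw [Subgroup.mem_comap, Subgroup.mem_centralizer_iff]
        intro y hy
        rw [Set.mem_singleton_iff.1 hy, ← map_mul, ← map_mul]
        rw [Subgroup.mem_centralizer_iff] at hc
        rw [hc u rfl]
      have hd := Subgroup.index_dvd_of_le hle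
      rw [Subgroup.index_comap_of_surjective _ hsurj] at hd
      rcases h u with h1 | h1
      · left
        rw [h1] at hd
        exact Nat.dvd_one.1 hd
      · rcases (Nat.dvd_prime h1).1 hd with h2 | h2
        · exact Or.inl h2
        · right; rw [h2]; exact h1
    have hMbar : (M.map (QuotientGroup.mk' N)).index = p := by
      rw [Subgroup.index_map_eq M hsurj hker, hpdef]
    have hmemmap : ∀ g : G, QuotientGroup.mk' N g ∈ M.map (QuotientGroup.mk' N) ↔ g ∈ M := by
      intro g
      rw [← Subgroup.mem_comap, Subgroup.comap_map_eq_self hker]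
    have hcore : (M.map (QuotientGroup.mk' N)).normalCore = ⊥ := by
      rw [eq_bot_iff]
      intro c hc
      obtain ⟨c, rfl⟩ := hsurj c
      rw [Subgroup.mem_bot]
      change QuotientGroup.mk' N c = 1
      rw [← MonoidHom.mem_ker, QuotientGroup.ker_mk', hNdef]
      intro b
      have := hc (QuotientGroup.mk' N b)
      rwa [← map_inv, ← map_mul, ← map_mul, hmemmap] at this
    have hMbne : M.map (QuotientGroup.mk' N) ≠ ⊥ := by
      intro hb
      rw [(Subgroup.map_eq_bot_iff _), QuotientGroup.ker_mk'] at hb
      have : M = N := le_antisymm hb hNM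
      rw [this] at hx
      exact hx hNn
    obtain ⟨hZ, q, hq, hpq, hcard⟩ := coreFree_prime_index hPq _ hp hMbar hcore hMbne
    -- every element outside `N` centralizes `N`
    have hcent : ∀ u : G, u ∉ N → N ≤ Subgroup.centralizer ({u} : Set G) := by
      intro u hu
      have hle : Subgroup.centralizer ({u} : Set G) ≤
          (Subgroup.centralizer ({QuotientGroup.mk' N u} : Set (G ⧸ N))).comap
            (QuotientGroup.mk' N) := by
        intro c hc
        rw [Subgroup.mem_comap, Subgroup.mem_centralizer_iff]
        intro y hy
        rw [Set.mem_singleton_iff.1 hy, ← map_mul, ← map_mul]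
        rw [Subgroup.mem_centralizer_iff] at hc
        rw [hc u rfl]
      have hNle : N ≤ (Subgroup.centralizer ({QuotientGroup.mk' N u} : Set (G ⧸ N))).comap
          (QuotientGroup.mk' N) := by
        intro n hn
        rw [Subgroup.mem_comap]
        have : QuotientGroup.mk' N n = 1 := by
          rw [← MonoidHom.mem_ker, QuotientGroup.ker_mk']; exact hn
        rw [this]
        exact Subgroup.one_mem _
      have hd := Subgroup.index_dvd_of_le hle
      have hne1 : ((Subgroup.centralizer ({QuotientGroup.mk' N u} : Set (G ⧸ N))).comap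
          (QuotientGroup.mk' N)).index ≠ 1 := by
        rw [Subgroup.index_comap_of_surjective _ hsurj]
        intro h1
        rw [Subgroup.index_eq_one] at h1
        have hmc : QuotientGroup.mk' N u ∈ Subgroup.center (G ⧸ N) := by
          rw [Subgroup.mem_center_iff]
          intro g
          have hg : g ∈ Subgroup.centralizer ({QuotientGroup.mk' N u} : Set (G ⧸ N)) := by
            rw [h1]; trivial
          rw [Subgroup.mem_centralizer_iff] at hg
          exact (hg _ rfl).symm
        rw [hZ, Subgroup.mem_bot] at hmc
        apply hu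
        rw [← QuotientGroup.ker_mk' N, MonoidHom.mem_ker]
        exact hmc
      have hidx : ((Subgroup.centralizer ({QuotientGroup.mk' N u} : Set (G ⧸ N))).comap
          (QuotientGroup.mk' N)).index = (Subgroup.centralizer ({u} : Set G)).index := by
        rcases h u with h1 | h1
        · exfalso
          rw [h1] at hd
          exact hne1 (Nat.dvd_one.1 hd)
        · rcases (Nat.dvd_prime h1).1 hd with h2 | h2
          · exact absurd h2 hne1
          · exact h2
      have heq : Subgroup.centralizer ({u} : Set G) =
          (Subgroup.centralizer ({QuotientGroup.mk' N u} : Set (G ⧸ N))).comap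
            (QuotientGroup.mk' N) := by
        apply Subgroup.eq_of_le_of_card_ge hle
        have e1 := Subgroup.card_mul_index (Subgroup.centralizer ({u} : Set G))
        have e2 := Subgroup.card_mul_index
          ((Subgroup.centralizer ({QuotientGroup.mk' N u} : Set (G ⧸ N))).comap
            (QuotientGroup.mk' N))
        rw [hidx] at e2
        have hpos : 0 < (Subgroup.centralizer ({u} : Set G)).index :=
          Nat.pos_of_ne_zero Subgroup.index_ne_zero_of_finite
        exact le_of_eq (Nat.eq_of_mul_eq_mul_right hpos (e2.trans e1.symm))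
      rw [heq]
      exact hNle
    have hNtop : N ≠ ⊤ := by
      intro hN
      apply hMtop
      rw [eq_top_iff, ← hN]
      exact hNM
    have hNZ : N ≤ Subgroup.center G := by
      intro n hn
      rw [Subgroup.mem_center_iff]
      have hcomm : ∀ g : G, g ∉ N → Commute g n := by
        intro g hg
        have := hcent g hg hn
        rw [Subgroup.mem_centralizer_iff] at this
        exact this g rfl
      intro g
      by_cases hg : g ∈ N
      · obtain ⟨w, hw⟩ : ∃ w : G, w ∉ N := by
          by_contra hc
          push Not at hc
          exact hNtop (eq_top_iff.2 fun w _ => hc w)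
        have hwg : w * g ∉ N := by
          intro hc
          apply hw
          have := N.mul_mem hc (N.inv_mem hg)
          rwa [mul_inv_cancel_right] at this
        have h1 := hcomm w hw
        have h2 := hcomm (w * g) hwg
        have h3 : Commute (w⁻¹ * (w * g)) n := h1.inv_left.mul_left h2
        rw [inv_mul_cancel_left] at h3
        exact h3.eq
      · exact (hcomm g hg).eq
    have hZN : Subgroup.center G ≤ N := by
      rw [hNdef, Subgroup.normal_le_normalCore, hMdef]
      exact Subgroup.center_le_centralizer _
    have hNeq : N = Subgroup.center G := le_antisymm hNZ hZN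
    refine ⟨p, q, hp, hq, hpq, ?_, ?_⟩
    · rw [← hcard]
      exact Nat.card_congr (QuotientGroup.quotientMulEquivOfEq hNeq).symm.toEquiv
    · intro hc
      apply hx
      have hkerZ : (QuotientGroup.mk' (Subgroup.center G)).ker ≤ M := by
        rw [QuotientGroup.ker_mk', ← hNeq]; exact hNM
      rw [← Subgroup.comap_map_eq_self hkerZ]
      haveI : (M.map (QuotientGroup.mk' (Subgroup.center G))).Normal := by
        refine ⟨fun n hn g => ?_⟩
        have hgn : g * n = n * g := hc.is_comm.comm g n
        rw [hgn, mul_inv_cancel_right]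
        exact hn
      infer_instance

end Cfsg.Agent.S4314
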