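import Mathlib
import Cfsg.Statements.S4321
import Cfsg.Agent.Lib.H5.PSingC

set_option autoImplicit false
open Cfsg

namespace Cfsg.Agent.S4321

open Cfsg.Agent.Lib.H5.PSing Cfsg.Agent.Lib.H20.BHM

/-- Let `G` be a finite group and `p` a prime not dividing the order of the centre of `G`. Consider the primes dividing the size of some conjugacy class of a `p`-singular element (an element of order divisible by `p`), two of them adjacent when their product divides such a class size. Then any two distinct such primes are joined by a path with at most 3 edges (the graph is connected of diameter at most 3). -/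
theorem result {G : Type*} [Group G] [Finite G] (p : ℕ) [Fact p.Prime]
    (hZ : ¬ p ∣ Nat.card ↥(Subgroup.center G)) (r s : ℕ) (hr : (r.Prime ∧ ∃ x : G, p ∣ orderOf x ∧ r ∣ (Subgroup.centralizer ({x} : Set G)).index)) (hs : (s.Prime ∧ ∃ x : G, p ∣ orderOf x ∧ s ∣ (Subgroup.centralizer ({x} : Set G)).index)) (hrs : r ≠ s) :
    (∃ x : G, p ∣ orderOf x ∧ r * s ∣ (Subgroup.centralizer ({x} : Set G)).index) ∨ (∃ t : ℕ, (t.Prime ∧ ∃ x : G, p ∣ orderOf x ∧ t ∣ (Subgroup.centralizer ({x} : Set G)).index) ∧ t ≠ r ∧ t ≠ s ∧ (∃ x : G, p ∣ orderOf x ∧ r * t ∣ (Subgroup.centralizer ({x} : Set G)).index) ∧ (∃ x : G, p ∣ orderOf x ∧ t * s ∣ (Subgroup.centralizer ({x} : Set G)).index)) ∨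
      (∃ t u : ℕ, (t.Prime ∧ ∃ x : G, p ∣ orderOf x ∧ t ∣ (Subgroup.centralizer ({x} : Set G)).index) ∧ (u.Prime ∧ ∃ x : G, p ∣ orderOf x ∧ u ∣ (Subgroup.centralizer ({x} : Set G)).index) ∧ t ≠ r ∧ u ≠ s ∧ t ≠ u ∧ (∃ x : G, p ∣ orderOf x ∧ r * t ∣ (Subgroup.centralizer ({x} : Set G)).index) ∧ (∃ x : G, p ∣ orderOf x ∧ t * u ∣ (Subgroup.centralizer ({x} : Set G)).index) ∧ (∃ x : G, p ∣ orderOf x ∧ u * s ∣ (Subgroup.centralizer ({x} : Set G)).index)) := by
  obtain ⟨hrp, xr, hxr, hrx⟩ := hr
  obtain ⟨hsp, xs, hxs, hsx⟩ := hs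
  have hpp : p.Prime := Fact.out
  by_contra hcon
  rw [not_or, not_or] at hcon
  obtain ⟨h1, h2, h3⟩ := hcon
  -- adjacency
  let Adj : ℕ → ℕ → Prop := fun a b =>
    ∃ x : G, p ∣ orderOf x ∧ a * b ∣ (Subgroup.centralizer ({x} : Set G)).index
  have hadj : ∀ {a b : ℕ} (x : G), a.Prime → b.Prime → a ≠ b → p ∣ orderOf x → a ∣ cs x → b ∣ cs x →
      Adj a b := by
    intro a b x ha hb hab hx hax hbx
    exact ⟨x, hx, Nat.Coprime.mul_dvd_of_dvd_of_dvd ((Nat.coprime_primes ha hb).2 hab) hax hbx⟩
  have hvtx : ∀ {a : ℕ} (x : G), a.Prime → p ∣ orderOf x → a ∣ cs x →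
      (a.Prime ∧ ∃ x : G, p ∣ orderOf x ∧ a ∣ (Subgroup.centralizer ({x} : Set G)).index) :=
    fun x ha hx hax => ⟨ha, x, hx, hax⟩
  let A : ℕ → Prop := fun t => t = r ∨ Adj r t
  let B : ℕ → Prop := fun t => t = s ∨ Adj t s
  -- (F3): no `p`-singular class size is divisible by a prime of `A` and a prime of `B`
  have hAB : ∀ z : G, p ∣ orderOf z → ∀ a b : ℕ, a.Prime → b.Prime → A a → B b →
      a ∣ cs z → b ∣ cs z → False := by
    intro z hz a b ha hb hAa hBb haz hbz
    rcases hAa with rfl | hAa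
    · rcases hBb with rfl | hBb
      · exact h1 (hadj z ha hb hrs hz haz hbz)
      · by_cases hba : b = a
        · subst hba
          exact h1 hBb
        · by_cases hbs : b = s
          · subst hbs
            exact h1 (hadj z ha hb hrs hz haz hbz)
          · exact h2 ⟨b, hvtx z hb hz hbz, hba, hbs, hadj z ha hb (Ne.symm hba) hz haz hbz, hBb⟩
    · rcases hBb with rfl | hBb
      · by_cases har : a = r
        · subst har
          exact h1 (hadj z ha hb hrs hz haz hbz)
        · by_cases hab : a = b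
          · subst hab
            exact h1 hAa
          · exact h2 ⟨a, hvtx z ha hz haz, har, hab, hAa, hadj z ha hb hab hz haz hbz⟩
      · by_cases har : a = r
        · subst har
          by_cases hba : b = a
          · subst hba
            exact h1 hBb
          · by_cases hbs : b = s
            · subst hbs
              exact h1 (hadj z ha hb hrs hz haz hbz)
            · exact h2 ⟨b, hvtx z hb hz hbz, hba, hbs, hadj z ha hb (Ne.symm hba) hz haz hbz, hBb⟩
        · by_cases hbs : b = s
          · subst hbs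
            by_cases hab : a = b
            · subst hab
              exact h1 hAa
            · exact h2 ⟨a, hvtx z ha hz haz, har, hab, hAa, hadj z ha hb hab hz haz hbz⟩
          · by_cases hab : a = b
            · subst hab
              exact h2 ⟨a, hvtx z ha hz haz, har, hbs, hAa, hBb⟩
            · exact h3 ⟨a, b, hvtx z ha hz haz, hvtx z hb hz hbz, har, hbs, hab, hAa,
                hadj z ha hb hab hz haz hbz, hBb⟩
  have hA1 : ∀ x : G, p ∣ orderOf x → r ∣ cs x → ∀ t : ℕ, t.Prime → t ∣ cs x → A t := by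
    intro x hx hrx' t ht htx
    by_cases htr : t = r
    · exact Or.inl htr
    · exact Or.inr (hadj x hrp ht (Ne.symm htr) hx hrx' htx)
  have hB1 : ∀ x : G, p ∣ orderOf x → s ∣ cs x → ∀ t : ℕ, t.Prime → t ∣ cs x → B t := by
    intro x hx hsx' t ht htx
    by_cases hts : t = s
    · exact Or.inl hts
    · exact Or.inr (hadj x ht hsp hts hx htx hsx')
  by_cases hpA : A p
  · -- then `p ∉ B`
    have hpB : ¬ B p := by
      intro hpB
      have hz : ∃ z : G, p ∣ orderOf z ∧ p ∣ cs z := by
        rcases hpA with hpr | ⟨z, hz, hzd⟩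
        · exact ⟨xr, hxr, hpr ▸ hrx⟩
        · exact ⟨z, hz, (dvd_mul_left p r).trans hzd⟩
      obtain ⟨z, hz, hpz⟩ := hz
      exact hAB z hz p p hpp hpp hpA hpB hpz hpz
    have S : Core G p s B A :=
      { hp := hpp
        hr := hsp
        hZ := hZ
        hA := hB1
        hAB := fun z hz a b ha hb hBa hAb haz hbz => hAB z hz b a hb ha hAb hBa hbz haz
        hx := ⟨xs, hxs, hsx⟩
        hy := ⟨xr, hxr, hA1 xr hxr hrx⟩
        hpA := hpB }
    exact S.false
  · have S : Core G p r A B :=
      { hp := hpp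
        hr := hrp
        hZ := hZ
        hA := hA1
        hAB := hAB
        hx := ⟨xr, hxr, hrx⟩
        hy := ⟨xs, hxs, hB1 xs hxs hsx⟩
        hpA := hpA }
    exact S.false

end Cfsg.Agent.S4321
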