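import Cfsg.Statements.S4325
import Mathlib

set_option autoImplicit false
open Cfsg

namespace Cfsg.Agent.S4325

open Equiv

/-- a function taking equal values at `a`, `b` is invariant under `swap a b` -/
lemma swap_inv {α : Type*} [DecidableEq α] (f : α → ℚ) (a b : α) (h : f a = f b) (x : α) :
    f (swap a b x) = f x := by
  rw [swap_apply_def]
  split_ifs with h1 h2
  · rw [h1, h]
  · rw [h2, h]
  · rfl

/-- with fewer than `r - 1` swaps there is a non-constant invariant function -/
lemma exists_invariant (r m : ℕ) (hm : m + 1 < r) (t : Fin m → Perm (Fin r))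
    (ht : ∀ i, (t i).IsSwap) :
    ∃ f : Fin r → ℚ, (∀ i x, f (t i x) = f x) ∧ ∃ x y, f x ≠ f y := by
  classical
  choose a b hab using ht
  let Φ : (Fin r → ℚ) →ₗ[ℚ] (Fin m → ℚ) :=
    LinearMap.pi (fun i => (LinearMap.proj (a i) : (Fin r → ℚ) →ₗ[ℚ] ℚ) - LinearMap.proj (b i))
  have hΦ : ∀ f i, Φ f i = f (a i) - f (b i) := fun f i => rfl
  have h1 := LinearMap.finrank_range_add_finrank_ker Φ
  rw [Module.finrank_fin_fun] at h1
  have h2 : Module.finrank ℚ (LinearMap.range Φ) ≤ m := by
    have := Submodule.finrank_le (LinearMap.range Φ)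
    rwa [Module.finrank_fin_fun] at this
  have h3 : 2 ≤ Module.finrank ℚ (LinearMap.ker Φ) := by omega
  -- the constants
  let c : Fin r → ℚ := fun _ => 1
  have h4 : ¬ LinearMap.ker Φ ≤ Submodule.span ℚ {c} := by
    intro hle
    have := Submodule.finrank_mono hle
    have h5 : Module.finrank ℚ (Submodule.span ℚ {c}) ≤ 1 := by
      have := finrank_span_le_card (R := ℚ) ({c} : Set (Fin r → ℚ))
      simpa using this
    omega
  obtain ⟨f, hf, hfc⟩ := SetLike.not_le_iff_exists.1 h4
  refine ⟨f, ?_, ?_⟩
  · intro i x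
    have : f (a i) = f (b i) := by
      have := congrFun (LinearMap.mem_ker.1 hf) i
      rw [hΦ] at this
      simpa [sub_eq_zero] using this
    rw [(hab i).2]
    exact swap_inv f _ _ this x
  · by_contra hcon
    push Not at hcon
    apply hfc
    have hr : 0 < r := by omega
    rw [Submodule.mem_span_singleton]
    refine ⟨f ⟨0, hr⟩, ?_⟩
    ext x
    simp only [Pi.smul_apply, smul_eq_mul, c, mul_one]
    exact hcon _ _

/-- an element of order `r` in `Perm (Fin r)` is transitive -/
lemma transitive_of_order (r : ℕ) (hr : r.Prime) (g : Perm (Fin r)) (hg : orderOf g = r)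
    (x y : Fin r) : ∃ k : ℕ, (g ^ k) x = y := by
  classical
  have hc : g.IsCycle := Perm.isCycle_of_prime_order'' (by simpa using hr) (by simpa using hg)
  have hs : g.support = Finset.univ := by
    rw [← Finset.card_eq_iff_eq_univ, ← hc.orderOf, hg]; simp
  have hx : g x ≠ x := Perm.mem_support.1 (hs ▸ Finset.mem_univ x)
  have hy : g y ≠ y := Perm.mem_support.1 (hs ▸ Finset.mem_univ y)
  exact hc.exists_pow_eq hx hy

lemma not_dvd_card_closure (r m : ℕ) (hr : r.Prime) (hm : m + 1 < r) (t : Fin m → Perm (Fin r))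
    (ht : ∀ i, (t i).IsSwap) : ¬ r ∣ Nat.card (Subgroup.closure (Set.range t)) := by
  intro hdvd
  have : Fact r.Prime := ⟨hr⟩
  obtain ⟨⟨g, hgH⟩, hg⟩ := exists_prime_orderOf_dvd_card' r hdvd
  have hg' : orderOf g = r := by
    have := Subgroup.orderOf_mk g hgH
    rw [hg] at this; exact this.symm
  obtain ⟨f, hf, x, y, hxy⟩ := exists_invariant r m hm t ht
  -- f is invariant under the closure
  have hinv : ∀ h ∈ Subgroup.closure (Set.range t), ∀ z, f (h z) = f z := by
    intro h hh
    induction hh using Subgroup.closure_induction with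
    | mem s hs =>
      obtain ⟨i, rfl⟩ := hs
      exact hf i
    | one => intro z; rfl
    | mul a b _ _ iha ihb =>
      intro z
      rw [Perm.mul_apply, iha, ihb]
    | inv a _ iha =>
      intro z
      have := iha (a⁻¹ z)
      rw [← Perm.mul_apply, mul_inv_cancel, Perm.one_apply] at this
      exact this.symm
  obtain ⟨k, hk⟩ := transitive_of_order r hr g hg' x y
  apply hxy
  rw [← hk]
  exact (hinv _ (Subgroup.pow_mem _ hgH k) x).symm

/-- a nontrivial normal subgroup of `Perm (Fin r)` has order divisible by `r` -/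
lemma dvd_card_of_normal (r : ℕ) (N : Subgroup (Perm (Fin r))) (hN : N.Normal) (hne : N ≠ ⊥) :
    r ∣ Nat.card N := by
  classical
  obtain ⟨σ, hσN, hσ1⟩ := (Subgroup.ne_bot_iff_exists_ne_one).1 hne |>.imp
    (fun a h => h) |> fun ⟨⟨a, ha⟩, h⟩ => (⟨a, ha, fun e => h (Subtype.ext e)⟩ : ∃ a, a ∈ N ∧ a ≠ 1)
  obtain ⟨x, hx⟩ : ∃ x, σ x ≠ x := by
    by_contra hcon
    push Not at hcon
    exact hσ1 (Perm.ext hcon)
  have horb : MulAction.orbit ↥N x = Set.univ := by
    ext z
    simp only [Set.mem_univ, iff_true]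
    by_cases hzx : z = x
    · subst hzx; exact MulAction.mem_orbit_self _
    by_cases hzy : z = σ x
    · exact ⟨⟨σ, hσN⟩, hzy.symm⟩
    · let g : Perm (Fin r) := swap (σ x) z
      have hmem : g * σ * g⁻¹ ∈ N := hN.conj_mem σ hσN g
      refine ⟨⟨g * σ * g⁻¹, hmem⟩, ?_⟩
      show (g * σ * g⁻¹) x = z
      have hgx : g⁻¹ x = x := by
        simp only [g, swap_inv]
        exact swap_apply_of_ne_of_ne (fun e => hx e.symm) (fun e => hzx e.symm)
      rw [Perm.mul_apply, Perm.mul_apply, hgx]
      simp [g]
  have h1 := MulAction.index_stabilizer ↥N x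
  rw [horb, Set.ncard_univ, Nat.card_eq_fintype_card, Fintype.card_fin] at h1
  have h2 := Subgroup.index_dvd_card (MulAction.stabilizer ↥N x)
  rw [h1] at h2
  exact h2

/-- Let r be a prime and m a natural number with m + 1 < r, and let π be a set of primes containing every prime below r but not r itself. Then in the symmetric group of degree r any m transpositions generate a π-subgroup, while O_π of the symmetric group is trivial. (So no bound on the number of conjugates that works for all π exists in the π-radical analogue of the Baer–Suzuki Theorem.) -/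
theorem result (r m : ℕ) (hr : r.Prime)
    (hm : m + 1 < r) (π : Set ℕ) (hπ : ∀ q : ℕ, q.Prime → q < r → q ∈ π) (hrπ : r ∉ π)
    (t : Fin m → Equiv.Perm (Fin r)) (ht : ∀ i, (t i).IsSwap) :
    Cfsg.IsPiSubgroup π (Subgroup.closure (Set.range t)) ∧ Cfsg.piCore π (Equiv.Perm (Fin r)) = ⊥ := by
  constructor
  · intro q hq hqd
    have h1 : q ∣ Nat.card (Perm (Fin r)) := dvd_trans hqd (Subgroup.card_subgroup_dvd_card _)
    rw [Nat.card_eq_fintype_card, Fintype.card_perm, Fintype.card_fin] at h1
    have hle : q ≤ r := (Nat.Prime.dvd_factorial hq).1 h1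
    have hne : q ≠ r := by
      rintro rfl
      exact not_dvd_card_closure q m hr hm t ht hqd
    exact hπ q hq (lt_of_le_of_ne hle hne)
  · unfold Cfsg.piCore
    rw [eq_bot_iff]
    apply sSup_le
    rintro N ⟨hN, hNπ⟩
    by_contra hne
    have hne' : N ≠ ⊥ := fun e => hne (e ▸ le_rfl)
    exact hrπ (hNπ r hr (dvd_card_of_normal r N hN hne'))

end Cfsg.Agent.S4325
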