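import Cfsg.Statements.S4326

set_option autoImplicit false
open Cfsg

namespace Cfsg.Agent.S4326

open Pointwise

theorem mem_conj_smul {G : Type*} [Group G] (M : Subgroup G) (g y : G) :
    y ∈ MulAut.conj g • M ↔ g⁻¹ * y * g ∈ M := by
  rw [Subgroup.mem_pointwise_smul_iff_inv_smul_mem]
  simp [MulAut.smul_def, mul_assoc]

/-- Let G be a finite group, p a prime, x an automorphism of G of p-power order and M the subgroup of fixed points of x. Suppose that p divides the index of M and that either M is self-normalizing or M has trivial center. Then some conjugate of M is mapped onto itself by x but is not fixed elementwise by x. -/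
theorem result {G : Type*} [Group G] [Finite G]
    (p : ℕ) [Fact p.Prime] (x : MulAut G) (hx : ∃ k : ℕ, orderOf x = p ^ k) (M : Subgroup G)
    (hM : ∀ g : G, g ∈ M ↔ x g = g) (hp : p ∣ M.index)
    (hself : Subgroup.normalizer (M : Set G) = M ∨ Subgroup.center M = ⊥) :
    ∃ g : G, (∀ y ∈ MulAut.conj g • M, x y ∈ MulAut.conj g • M) ∧ ∃ y ∈ MulAut.conj g • M, x y ≠ y := by
  classical
  -- the subgroup of automorphisms fixing M pointwise
  let S : Subgroup (MulAut G) :=
    { carrier := {φ | ∀ m ∈ M, φ m = m}
      mul_mem' := by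
        intro a b ha hb m hm
        rw [MulAut.mul_apply, hb m hm, ha m hm]
      one_mem' := by intro m _; rfl
      inv_mem' := by
        intro a ha m hm
        have := ha m hm
        calc a⁻¹ m = a⁻¹ (a m) := by rw [this]
          _ = m := MulAut.inv_apply_self G a m }
  have hxS : x ∈ S := fun m hm => (hM m).mp hm
  have hXS : Subgroup.zpowers x ≤ S := by rw [Subgroup.zpowers_le]; exact hxS
  obtain ⟨k, hk⟩ := hx
  have hXp : IsPGroup p (Subgroup.zpowers x) := by
    apply IsPGroup.of_card (n := k)
    rw [Nat.card_zpowers, hk]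
  haveI : MulAction.QuotientAction (Subgroup.zpowers x) M := ⟨by
    intro b a a' h
    have hb := hXS b.2
    show ((b : MulAut G) a)⁻¹ * (b : MulAut G) a' ∈ M
    rw [← map_inv, ← map_mul, hb _ h]
    exact h⟩
  have hmod := hXp.card_modEq_card_fixedPoints (G ⧸ M)
  have hdvd : p ∣ Nat.card (MulAction.fixedPoints (Subgroup.zpowers x) (G ⧸ M)) := by
    rw [← Nat.modEq_zero_iff_dvd]
    have h0 : Nat.card (G ⧸ M) ≡ 0 [MOD p] := by
      rw [Nat.modEq_zero_iff_dvd, ← Subgroup.index_eq_card]; exact hp
    exact hmod.symm.trans h0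
  have h1fix : ((1 : G) : G ⧸ M) ∈ MulAction.fixedPoints (Subgroup.zpowers x) (G ⧸ M) := by
    intro b
    rw [MulAction.Quotient.smul_mk]
    show (((b : MulAut G) 1 : G) : G ⧸ M) = _
    rw [map_one]
  have hpos : 0 < Nat.card (MulAction.fixedPoints (Subgroup.zpowers x) (G ⧸ M)) := by
    haveI : Nonempty (MulAction.fixedPoints (Subgroup.zpowers x) (G ⧸ M)) := ⟨⟨_, h1fix⟩⟩
    exact Nat.card_pos
  have h2 : 1 < Nat.card (MulAction.fixedPoints (Subgroup.zpowers x) (G ⧸ M)) := by
    have := Nat.le_of_dvd hpos hdvd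
    have := (Fact.out : p.Prime).two_le
    omega
  rw [Finite.one_lt_card_iff_nontrivial] at h2
  obtain ⟨⟨q, hq⟩, hne⟩ := exists_ne (⟨_, h1fix⟩ : MulAction.fixedPoints (Subgroup.zpowers x) (G ⧸ M))
  obtain ⟨g, rfl⟩ := QuotientGroup.mk_surjective q
  have hgM : g ∉ M := by
    intro hg
    apply hne
    apply Subtype.ext
    show (g : G ⧸ M) = ((1 : G) : G ⧸ M)
    rw [QuotientGroup.eq]
    simpa using hg
  -- t = g⁻¹ x(g) ∈ M
  have ht : g⁻¹ * x g ∈ M := by
    have := hq ⟨x, Subgroup.mem_zpowers x⟩
    rw [MulAction.Quotient.smul_mk] at this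
    have h3 : ((x g : G) : G ⧸ M) = (g : G ⧸ M) := this
    rw [QuotientGroup.eq] at h3
    have := M.inv_mem h3
    simpa using this
  set t := g⁻¹ * x g with htdef
  have hxg : x g = g * t := by rw [htdef]; group
  have hxconj : ∀ m : G, x (g * m * g⁻¹) = g * (t * x m * t⁻¹) * g⁻¹ := by
    intro m
    rw [map_mul, map_mul, map_inv, hxg]; group
  refine ⟨g, ?_, ?_⟩
  · intro y hy
    rw [mem_conj_smul] at hy ⊢
    have hy' : y = g * (g⁻¹ * y * g) * g⁻¹ := by group
    rw [hy', hxconj, (hM _).mp hy]
    have : g⁻¹ * (g * (t * (g⁻¹ * y * g) * t⁻¹) * g⁻¹) * g = t * (g⁻¹ * y * g) * t⁻¹ := by group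
    rw [this]
    exact M.mul_mem (M.mul_mem ht hy) (M.inv_mem ht)
  · by_contra hcon
    push Not at hcon
    -- every element of g M g⁻¹ is fixed
    have hfixed : ∀ m ∈ M, x (g * m * g⁻¹) = g * m * g⁻¹ := by
      intro m hm
      apply hcon
      rw [mem_conj_smul]
      have : g⁻¹ * (g * m * g⁻¹) * g = m := by group
      rw [this]; exact hm
    have hcomm : ∀ m ∈ M, t * m = m * t := by
      intro m hm
      have h1 := hfixed m hm
      rw [hxconj, (hM m).mp hm] at h1
      have h2 : t * m * t⁻¹ = m := by
        have := congrArg (fun z => g⁻¹ * z * g) h1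
        simpa [mul_assoc] using this
      calc t * m = (t * m * t⁻¹) * t := by group
        _ = m * t := by rw [h2]
    rcases hself with hN | hZ
    · -- g normalizes M
      apply hgM
      have hle : MulAut.conj g • M ≤ M := by
        intro y hy
        rw [hM]
        exact hcon y hy
      have heq : MulAut.conj g • M = M := by
        apply Subgroup.eq_of_le_of_card_ge hle
        exact (Nat.card_congr (Subgroup.equivSMul (MulAut.conj g) M).toEquiv).le
      rw [← hN, Subgroup.mem_normalizer_iff]
      intro h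
      constructor
      · intro hh
        have : g * h * g⁻¹ ∈ MulAut.conj g • M := by
          rw [mem_conj_smul]
          have : g⁻¹ * (g * h * g⁻¹) * g = h := by group
          rw [this]; exact hh
        rw [heq] at this
        exact this
      · intro hh
        rw [← heq, mem_conj_smul] at hh
        have e : g⁻¹ * (g * h * g⁻¹) * g = h := by group
        rw [e] at hh; exact hh
    · apply hgM
      have hcen : (⟨t, ht⟩ : M) ∈ Subgroup.center M := by
        rw [Subgroup.mem_center_iff]
        intro m
        apply Subtype.ext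
        exact (hcomm m m.2).symm
      rw [hZ, Subgroup.mem_bot] at hcen
      have ht1 : t = 1 := congrArg Subtype.val hcen
      rw [hM, hxg, ht1, mul_one]

end Cfsg.Agent.S4326
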