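import Cfsg.Statements.S4331
import Mathlib
import Cfsg.Agent.Lib.H1.PCore

set_option autoImplicit false
open Cfsg

namespace Cfsg.Agent.S4331

open SemidirectProduct

/-- Every subgroup of a finite `p`-group is subnormal. -/
theorem isSubnormal_of_isPGroup' {G : Type*} [Group G] [Finite G] {p : ℕ} [Fact p.Prime]
    (hG : IsPGroup p G) (B : Subgroup G) : B.IsSubnormal := by
  haveI : Group.IsNilpotent G := hG.isNilpotent
  have hnc : NormalizerCondition G := Group.normalizerCondition_of_isNilpotent
  induction B using WellFoundedGT.induction with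
  | ind B ih =>
    by_cases hB : B = ⊤
    · rw [hB]; exact Subgroup.IsSubnormal.top
    · have hlt := hnc B (lt_top_iff_ne_top.mpr hB)
      exact Subgroup.IsSubnormal.step B _ hlt.le (ih _ hlt) Subgroup.normal_in_normalizer

/-- If `x` and `g` commute then `⟨x⟩` is normal in `⟨x, g⟩`. -/
theorem subnormal_of_commute {G : Type*} [Group G] (x g : G) (h : Commute x g) :
    ((Subgroup.zpowers x).subgroupOf (Subgroup.zpowers x ⊔ Subgroup.zpowers g)).IsSubnormal := by
  apply Subgroup.Normal.isSubnormal
  have hK : Subgroup.zpowers x ⊔ Subgroup.zpowers g ≤ Subgroup.centralizer {x} := by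
    rw [sup_le_iff]
    constructor
    · rw [Subgroup.zpowers_le, Subgroup.mem_centralizer_iff]
      intro y hy
      rw [Set.mem_singleton_iff.1 hy]
    · rw [Subgroup.zpowers_le, Subgroup.mem_centralizer_iff]
      intro y hy
      rw [Set.mem_singleton_iff.1 hy]
      exact h.eq
  refine ⟨fun n hn k => ?_⟩
  rw [Subgroup.mem_subgroupOf] at hn ⊢
  obtain ⟨i, hi⟩ := Subgroup.mem_zpowers_iff.1 hn
  have hk : Commute (k : G) x := by
    have := hK k.2
    rw [Subgroup.mem_centralizer_iff] at this
    exact (this x rfl).symm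
  have hk' : Commute (k : G) (n : G) := by
    rw [← hi]
    exact hk.zpow_right i
  have : ((k * n * k⁻¹ : _) : G) = (n : G) := by
    push_cast
    rw [hk'.eq, mul_inv_cancel_right]
  rw [this]
  exact hn

section general

variable (V H : Type) [AddCommGroup V] [Group H] [DistribMulAction H V]

/-- The action of `H` on `Multiplicative V`. -/
noncomputable def phi : H →* MulAut (Multiplicative V) :=
  (MulAutMultiplicative V).symm.toMonoidHom.comp (DistribMulAction.toAddAut H V)

variable {V H}

theorem phi_apply (h : H) (v : V) :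
    phi V H h (Multiplicative.ofAdd v) = Multiplicative.ofAdd (h • v) := rfl

/-- Translation by `v`. -/
noncomputable def tr (v : V) : Multiplicative V ⋊[phi V H] H := inl (Multiplicative.ofAdd v)

theorem tr_add (v w : V) : (tr (v + w) : Multiplicative V ⋊[phi V H] H) = tr v * tr w := by
  unfold tr
  rw [ofAdd_add, map_mul]

theorem tr_zero : (tr (0 : V) : Multiplicative V ⋊[phi V H] H) = 1 := by
  unfold tr
  rw [ofAdd_zero, map_one]

theorem tr_neg (v : V) : (tr (-v) : Multiplicative V ⋊[phi V H] H) = (tr v)⁻¹ := by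
  unfold tr
  rw [ofAdd_neg, map_inv]

theorem tr_inj {v w : V} (h : (tr v : Multiplicative V ⋊[phi V H] H) = tr w) : v = w :=
  Multiplicative.ofAdd.injective (inl_injective h)

theorem inr_mul_tr (h : H) (v : V) :
    (inr h : Multiplicative V ⋊[phi V H] H) * tr v = tr (h • v) * inr h := by
  unfold tr
  rw [← phi_apply, inl_aut, map_inv, inv_mul_cancel_right]

theorem eq_tr_mul_inr (c : Multiplicative V ⋊[phi V H] H) :
    c = tr (Multiplicative.toAdd c.left) * inr c.right := by
  unfold tr
  rw [ofAdd_toAdd, inl_left_mul_inr_right]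

/-- General construction of the example. -/
theorem general_example [Finite V] [Finite H] (a : H) (ha2 : a * a = 1) (ha1 : a ≠ 1)
    (hH : IsPGroup 2 H) (h3 : ∀ v : V, (3 : ℕ) • v = 0)
    (hcover : ∀ v : V, ∃ k : H, a • (k • v) = k • v)
    (hfpf : ∀ h : H, h ≠ 1 → (∀ v : V, h • v = v → v = 0) ∨ ∃ k : H, k * h * k⁻¹ = a)
    (hnt : ∃ v : V, a • v ≠ v) :
    ∃ (G : Type) (_ : Group G) (_ : Finite G) (A : Subgroup G), Group.IsSolvable G ∧
      Nat.card A = 2 ∧
      (∀ c : G, ∃ g : G, IsConj c g ∧ (A.subgroupOf (A ⊔ Subgroup.zpowers g)).IsSubnormal) ∧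
      ¬ A ≤ Cfsg.pCore 2 G := by
  haveI : Fact (Nat.Prime 2) := ⟨Nat.prime_two⟩
  haveI : Finite (Multiplicative V ⋊[phi V H] H) :=
    Finite.of_equiv _ (SemidirectProduct.equivProd (φ := phi V H)).symm
  have hainv : a⁻¹ = a := inv_eq_of_mul_eq_one_right ha2
  have haa : ∀ v : V, a • a • v = v := by
    intro v
    rw [← mul_smul, ha2, one_smul]
  refine ⟨Multiplicative V ⋊[phi V H] H, inferInstance, inferInstance,
    Subgroup.zpowers (inr a), ?_, ?_, ?_, ?_⟩
  · -- solvable
    haveI : Group.IsNilpotent H := hH.isNilpotent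
    haveI : Group.IsSolvable H := inferInstance
    haveI : Group.IsSolvable (Multiplicative V) := inferInstance
    exact Group.isSolvable_of_ker_le_range (inl : Multiplicative V →* Multiplicative V ⋊[phi V H] H)
      rightHom (by rw [range_inl_eq_ker_rightHom])
  · -- order 2
    rw [Nat.card_zpowers, orderOf_injective _ inr_injective]
    exact orderOf_eq_prime (by rw [sq, ha2]) ha1
  · -- class representatives
    intro c
    obtain ⟨v, h, rfl⟩ : ∃ (v : V) (h : H), c = tr v * inr h := ⟨_, _, eq_tr_mul_inr c⟩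
    by_cases hh : h = 1
    · subst hh
      obtain ⟨k, hk⟩ := hcover v
      refine ⟨inr k * (tr v * inr 1) * (inr k)⁻¹, isConj_iff.2 ⟨inr k, rfl⟩, ?_⟩
      apply subnormal_of_commute
      rw [map_one, mul_one, inr_mul_tr, mul_inv_cancel_right]
      change inr a * tr (k • v) = tr (k • v) * inr a
      rw [inr_mul_tr, hk]
    rcases hfpf h hh with hf | ⟨k, hk⟩
    · -- fixed point free: conjugate to `inr h`
      have hinj : Function.Injective (fun m : V => m - h • m) := by
        intro m m' hmm
        have h1 : h • (m - m') = m - m' := by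
          have : m - h • m = m' - h • m' := hmm
          rw [smul_sub]
          rw [sub_eq_sub_iff_add_eq_add] at this ⊢
          rw [add_comm, ← this, add_comm]
        exact sub_eq_zero.1 (hf _ h1)
      obtain ⟨m, hm⟩ := Finite.surjective_of_injective hinj (-v)
      have hm' : m + v - h • m = 0 := by
        have : m - h • m = -v := hm
        rw [add_sub_right_comm, this, neg_add_cancel]
      have hconj : tr m * (tr v * inr h) * (tr m)⁻¹ =
          (inr h : Multiplicative V ⋊[phi V H] H) := by
        rw [← tr_neg, mul_assoc, mul_assoc, inr_mul_tr, ← mul_assoc, ← mul_assoc, ← tr_add,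
          ← tr_add, smul_neg, ← sub_eq_add_neg, hm', tr_zero, one_mul]
      refine ⟨inr h, isConj_iff.2 ⟨tr m, hconj⟩, ?_⟩
      have hle : Subgroup.zpowers (inr a : Multiplicative V ⋊[phi V H] H) ⊔
          Subgroup.zpowers (inr h) ≤ (inr : H →* Multiplicative V ⋊[phi V H] H).range := by
        rw [sup_le_iff, Subgroup.zpowers_le, Subgroup.zpowers_le]
        exact ⟨⟨a, rfl⟩, ⟨h, rfl⟩⟩
      have hr : IsPGroup 2 (inr : H →* Multiplicative V ⋊[phi V H] H).range := by
        exact IsPGroup.of_surjective hH
          (inr : H →* Multiplicative V ⋊[phi V H] H).rangeRestrict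
          (MonoidHom.rangeRestrict_surjective _)
      exact isSubnormal_of_isPGroup' (hr.to_le hle) _
    · -- conjugate to `a`
      obtain ⟨w, hw⟩ : ∃ w : V, w = k • v := ⟨_, rfl⟩
      obtain ⟨m, hm⟩ : ∃ m : V, m = a • w - w := ⟨_, rfl⟩
      obtain ⟨w', hw'⟩ : ∃ w' : V, w' = m + w - a • m := ⟨_, rfl⟩
      have key : ∀ x y : V, (3 : ℕ) • (y - x) = 0 →
          x - y + y - (y - x) = y - x + x - (x - y) := by
        intro x y h
        rw [succ_nsmul, succ_nsmul, one_nsmul] at h
        rw [← sub_eq_zero]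
        have : x - y + y - (y - x) - (y - x + x - (x - y)) =
            -((y - x) + (y - x) + (y - x)) := by abel
        rw [this, h, neg_zero]
      have ham : a • m = w - a • w := by rw [hm, smul_sub, haa]
      have hfix : a • w' = w' := by
        rw [hw', smul_sub, smul_add, haa, ham, hm]
        exact key w (a • w) (h3 _)
      have hconj : (tr m * inr k) * (tr v * inr h) * (tr m * inr k)⁻¹ =
          (tr w' * inr a : Multiplicative V ⋊[phi V H] H) := by
        rw [mul_inv_rev, ← tr_neg, ← map_inv]
        have e1 : (inr k : Multiplicative V ⋊[phi V H] H) * (tr v * inr h) * inr k⁻¹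
            = tr w * inr a := by
          rw [← mul_assoc, inr_mul_tr, mul_assoc, mul_assoc, ← map_mul, ← map_mul, ← mul_assoc,
            hk, hw]
        calc tr m * inr k * (tr v * inr h) * (inr k⁻¹ * tr (-m))
            = tr m * (inr k * (tr v * inr h) * inr k⁻¹) * tr (-m) := by group
          _ = tr m * (tr w * inr a) * tr (-m) := by rw [e1]
          _ = tr m * tr w * (inr a * tr (-m)) := by group
          _ = tr w' * inr a := by
            rw [inr_mul_tr, ← mul_assoc, ← tr_add, ← tr_add, smul_neg, ← sub_eq_add_neg, hw']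
      refine ⟨tr w' * inr a, isConj_iff.2 ⟨tr m * inr k, hconj⟩, ?_⟩
      apply subnormal_of_commute
      change inr a * (tr w' * inr a) = tr w' * inr a * inr a
      rw [← mul_assoc, inr_mul_tr, hfix]
  · -- not in the 2-core
    intro hle
    obtain ⟨v, hv⟩ := hnt
    have hQ : (Cfsg.pCore 2 (Multiplicative V ⋊[phi V H] H)).Normal :=
      Cfsg.Agent.Lib.H1.pCore_normal _ _
    have hQ2 : IsPGroup 2 (Cfsg.pCore 2 (Multiplicative V ⋊[phi V H] H)) :=
      Cfsg.Agent.Lib.H1.pCore_isPGroup _ _
    have hamem : (inr a : Multiplicative V ⋊[phi V H] H) ∈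
        Cfsg.pCore 2 (Multiplicative V ⋊[phi V H] H) := hle (Subgroup.mem_zpowers _)
    have hmem : (tr (a • v - v) : Multiplicative V ⋊[phi V H] H) ∈
        Cfsg.pCore 2 (Multiplicative V ⋊[phi V H] H) := by
      have h1 := hQ.conj_mem _ (Subgroup.inv_mem _ hamem) (tr v)
      have h2 := Subgroup.mul_mem _ hamem h1
      have : (inr a : Multiplicative V ⋊[phi V H] H) * (tr v * (inr a)⁻¹ * (tr v)⁻¹) =
          tr (a • v - v) := by
        rw [← mul_assoc, ← mul_assoc, inr_mul_tr, mul_inv_cancel_right, sub_eq_add_neg, tr_add,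
          tr_neg]
      rwa [this] at h2
    obtain ⟨j, hj⟩ := hQ2 ⟨_, hmem⟩
    have hj' : (tr (a • v - v) : Multiplicative V ⋊[phi V H] H) ^ 2 ^ j = 1 := by
      have := congrArg Subtype.val hj
      simpa using this
    have h3' : (tr (a • v - v) : Multiplicative V ⋊[phi V H] H) ^ 3 = 1 := by
      have e := h3 (a • v - v)
      rw [← tr_zero, ← e, succ_nsmul, succ_nsmul, one_nsmul, tr_add, tr_add, pow_succ, pow_succ,
        pow_one]
    have hd1 := orderOf_dvd_of_pow_eq_one hj'
    have hd2 := orderOf_dvd_of_pow_eq_one h3'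
    have hcop : Nat.Coprime (2 ^ j) 3 := Nat.Coprime.pow_left j (by norm_num)
    have h1 := Nat.eq_one_of_dvd_coprimes hcop hd1 hd2
    rw [orderOf_eq_one_iff, ← tr_zero] at h1
    exact hv (sub_eq_zero.1 (tr_inj h1))

end general

/-! ### The concrete example: `𝔽₉ ⋊ SD₁₆` -/

/-- The semidihedral group of order 16, elements `r^k s^e` with `s r s = r^3`. -/
structure SD16 where
  /-- exponent of `r` -/
  k : Fin 8
  /-- exponent of `s` -/
  e : Fin 2
  deriving DecidableEq, Fintype

namespace SD16

/-- multiplication -/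
def mul' (x y : SD16) : SD16 := ⟨x.k + (if x.e = 0 then y.k else 3 * y.k), x.e + y.e⟩

/-- inverse -/
def inv' (x : SD16) : SD16 := ⟨-(if x.e = 0 then x.k else 3 * x.k), x.e⟩

instance : Mul SD16 := ⟨mul'⟩
instance : One SD16 := ⟨⟨0, 0⟩⟩
instance : Inv SD16 := ⟨inv'⟩

instance : Group SD16 :=
  Group.ofLeftAxioms (by decide) (by decide) (by decide)

/-- powers of `ζ = 1 + i` in `𝔽₉ = 𝔽₃[i]` -/
def zeta : Fin 8 → Fin 3 × Fin 3 :=
  ![(1, 0), (1, 1), (0, 2), (1, 2), (2, 0), (2, 2), (0, 1), (2, 1)]

/-- the action on `𝔽₉ = 𝔽₃ × 𝔽₃` -/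
def act (x : SD16) (v : Fin 3 × Fin 3) : Fin 3 × Fin 3 :=
  let w : Fin 3 × Fin 3 := if x.e = 0 then v else (v.1, -v.2)
  let z := zeta x.k
  (z.1 * w.1 - z.2 * w.2, z.1 * w.2 + z.2 * w.1)

instance : DistribMulAction SD16 (Fin 3 × Fin 3) where
  smul := act
  one_smul := by decide
  mul_smul := by decide
  smul_zero := by decide
  smul_add := by decide

end SD16

/-- There is a finite solvable group G with a subgroup A of order 2 such that every conjugacy class of G contains an element g for which A is subnormal in the subgroup generated by A and g, and yet A is not contained in O_2(G). (So the corresponding criteria for odd primes fail at the prime 2, even for solvable groups.) -/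
theorem result :
    ∃ (G : Type) (_ : Group G) (_ : Finite G) (A : Subgroup G), Group.IsSolvable G ∧ Nat.card A = 2 ∧
      (∀ c : G, ∃ g : G, IsConj c g ∧ (A.subgroupOf (A ⊔ Subgroup.zpowers g)).IsSubnormal) ∧
      ¬ A ≤ Cfsg.pCore 2 G := by
  refine general_example (V := Fin 3 × Fin 3) (H := SD16) ⟨0, 1⟩ (by decide) (by decide) ?_
    (by decide) (by decide) (by decide) (by decide)
  apply IsPGroup.of_card (n := 4)
  rw [Nat.card_eq_fintype_card]
  decide

end Cfsg.Agent.S4331
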