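import Cfsg.Statements.S4332
import Mathlib

set_option autoImplicit false
open Pointwise
open Cfsg

namespace Cfsg.Agent.S4332

/-- Combinatorial core: any permutation of `Fin 8` has a 3-subset which is either mapped into
itself or mapped off itself. -/
theorem exists_triple (c : Equiv.Perm (Fin 8)) :
    ∃ x y z : Fin 8, x ≠ y ∧ x ≠ z ∧ y ≠ z ∧
      (((c x = x ∨ c x = y ∨ c x = z) ∧ (c y = x ∨ c y = y ∨ c y = z) ∧
          (c z = x ∨ c z = y ∨ c z = z)) ∨
        ((c x ≠ x ∧ c x ≠ y ∧ c x ≠ z) ∧ (c y ≠ x ∧ c y ≠ y ∧ c y ≠ z) ∧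
          (c z ≠ x ∧ c z ≠ y ∧ c z ≠ z))) := by
  have hcard : c.support.card + c.supportᶜ.card = 8 := by
    rw [Finset.card_add_card_compl]; rfl
  have hM : ∀ w, w ∈ c.support ↔ c w ≠ w := fun w => Equiv.Perm.mem_support
  have hF : ∀ w, w ∈ c.supportᶜ ↔ c w = w := by
    intro w
    rw [Finset.mem_compl, hM, not_not]
  have hinj : ∀ {u v : Fin 8}, c u = c v → u = v := fun h => c.injective h
  by_cases h3 : 2 < c.supportᶜ.card
  · obtain ⟨x, hx, y, hy, z, hz, hxy, hxz, hyz⟩ := Finset.two_lt_card.1 h3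
    rw [hF] at hx hy hz
    exact ⟨x, y, z, hxy, hxz, hyz, Or.inl ⟨Or.inl hx, Or.inr (Or.inl hy), Or.inr (Or.inr hz)⟩⟩
  have h6 : 6 ≤ c.support.card := by omega
  have hne : c.support.Nonempty := by
    rw [← Finset.card_pos]; omega
  obtain ⟨x, hx⟩ := hne
  have hx' : c x ≠ x := (hM x).1 hx
  by_cases h7 : 7 ≤ c.support.card
  · -- greedy
    obtain ⟨y, hy, hy'⟩ := Finset.exists_mem_notMem_of_card_lt_card
      (s := ({c.symm x, x, c x} : Finset (Fin 8))) (t := c.support)
      (lt_of_le_of_lt (Finset.card_le_three) (by omega))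
    obtain ⟨z, hz, hz'⟩ := Finset.exists_mem_notMem_of_card_lt_card
      (s := ({c.symm x, x, c x, c.symm y, y, c y} : Finset (Fin 8))) (t := c.support)
      (lt_of_le_of_lt (Finset.card_le_six) (by omega))
    simp only [Finset.mem_insert, Finset.mem_singleton, not_or] at hy' hz'
    rw [hM] at hy hz
    have e1 : ∀ {u v : Fin 8}, u ≠ c.symm v → c u ≠ v := by
      intro u v h h'
      apply h
      rw [← h', Equiv.symm_apply_apply]
    refine ⟨x, y, z, fun h => hy'.2.1 h.symm, fun h => hz'.2.1 h.symm, fun h => hz'.2.2.2.2.1 h.symm,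
      Or.inr ⟨⟨hx', fun h => hy'.2.2 h.symm, fun h => hz'.2.2.1 h.symm⟩,
        ⟨e1 hy'.1, hy, fun h => hz'.2.2.2.2.2 h.symm⟩,
        ⟨e1 hz'.1, e1 hz'.2.2.2.1, hz⟩⟩⟩
  · have h6' : c.support.card = 6 := by omega
    have hF2 : 0 < c.supportᶜ.card := by omega
    obtain ⟨f, hf⟩ := Finset.card_pos.1 hF2
    rw [hF] at hf
    by_cases ha : c (c x) = x
    · refine ⟨x, c x, f, fun h => hx' h.symm, ?_, ?_,
        Or.inl ⟨Or.inr (Or.inl rfl), Or.inl ha, Or.inr (Or.inr hf)⟩⟩
      · rintro rfl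
        exact hx' hf
      · intro h
        have : c (c x) = c x := by rw [h]; exact hf
        exact hx' (hinj this)
    by_cases hb : c (c (c x)) = x
    · refine ⟨x, c x, c (c x), fun h => hx' h.symm, fun h => ha h.symm, ?_,
        Or.inl ⟨Or.inr (Or.inl rfl), Or.inr (Or.inr rfl), Or.inl hb⟩⟩
      intro h
      exact hx' (hinj h.symm)
    · obtain ⟨z, hz, hz'⟩ := Finset.exists_mem_notMem_of_card_lt_card
        (s := ({c.symm x, x, c x, c (c x), c (c (c x))} : Finset (Fin 8))) (t := c.support)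
        (lt_of_le_of_lt (Finset.card_le_five) (by omega))
      simp only [Finset.mem_insert, Finset.mem_singleton, not_or] at hz'
      rw [hM] at hz
      have e1 : ∀ {u v : Fin 8}, u ≠ c.symm v → c u ≠ v := by
        intro u v h h'
        apply h
        rw [← h', Equiv.symm_apply_apply]
      refine ⟨x, c (c x), z, fun h => ha h.symm, fun h => hz'.2.1 h.symm,
        fun h => hz'.2.2.2.1 h.symm,
        Or.inr ⟨⟨hx', fun h => hx' (hinj h.symm), fun h => hz'.2.2.1 h.symm⟩,
          ⟨hb, fun h => hx' (hinj (hinj h)), fun h => hz'.2.2.2.2 h.symm⟩,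
          ⟨e1 hz'.1, fun h => hz'.2.2.1 (hinj h), hz⟩⟩⟩

/-- Normal form of a three-cycle. -/
theorem threeCycle_form {σ : Equiv.Perm (Fin 8)} (hσ : σ.IsThreeCycle) :
    ∃ a : Fin 8, σ a ≠ a ∧ σ (σ a) ≠ a ∧ σ (σ (σ a)) = a ∧
      ∀ w, w ≠ a → w ≠ σ a → w ≠ σ (σ a) → σ w = w := by
  have h3 : σ ^ 3 = 1 := by rw [← hσ.orderOf]; exact pow_orderOf_eq_one σ
  have h3' : ∀ w, σ (σ (σ w)) = w := by
    intro w
    have := congrArg (fun f : Equiv.Perm (Fin 8) => f w) h3
    simpa [pow_succ] using this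
  have hcard := hσ.card_support
  have hne : σ.support.Nonempty := by rw [← Finset.card_pos]; omega
  obtain ⟨a, ha⟩ := hne
  have ha' : σ a ≠ a := Equiv.Perm.mem_support.1 ha
  have ha2 : σ (σ a) ≠ a := by
    intro h
    have := h3' a
    rw [h] at this
    exact ha' this
  refine ⟨a, ha', ha2, h3' a, ?_⟩
  have hsub : ({a, σ a, σ (σ a)} : Finset (Fin 8)) ⊆ σ.support := by
    intro w hw
    simp only [Finset.mem_insert, Finset.mem_singleton] at hw
    rw [Equiv.Perm.mem_support]
    rcases hw with rfl | rfl | rfl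
    · exact ha'
    · exact fun h => ha' (σ.injective h)
    · exact fun h => ha' (σ.injective (σ.injective h))
  have hc3 : ({a, σ a, σ (σ a)} : Finset (Fin 8)).card = 3 := by
    rw [Finset.card_eq_three]
    exact ⟨a, σ a, σ (σ a), fun h => ha' h.symm, fun h => ha2 h.symm,
      fun h => ha' (σ.injective h.symm), rfl⟩
  have heq := Finset.eq_of_subset_of_card_le hsub (by rw [hcard, hc3])
  intro w h1 h2 h3
  by_contra hw
  have : w ∈ σ.support := Equiv.Perm.mem_support.2 hw
  rw [← heq] at this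
  simp only [Finset.mem_insert, Finset.mem_singleton] at this
  rcases this with h | h | h
  · exact h1 h
  · exact h2 h
  · exact h3 h

/-- `S_8` is 3-transitive (explicit form). -/
theorem exists_perm_triple {x y z a b d : Fin 8} (hxy : x ≠ y) (hxz : x ≠ z) (hyz : y ≠ z)
    (hab : a ≠ b) (had : a ≠ d) (hbd : b ≠ d) :
    ∃ τ : Equiv.Perm (Fin 8), τ x = a ∧ τ y = b ∧ τ z = d := by
  have := Equiv.Perm.isMultiplyPretransitive (Fin 8) 3
  rw [MulAction.isMultiplyPretransitive_iff] at this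
  have inj1 : Function.Injective ![x, y, z] := by
    intro i j h
    fin_cases i <;> fin_cases j <;> simp_all
  have inj2 : Function.Injective ![a, b, d] := by
    intro i j h
    fin_cases i <;> fin_cases j <;> simp_all
  obtain ⟨τ, hτ⟩ := this ⟨![x, y, z], inj1⟩ ⟨![a, b, d], inj2⟩
  refine ⟨τ, ?_, ?_, ?_⟩
  · have := DFunLike.congr_fun hτ 0
    simpa using this
  · have := DFunLike.congr_fun hτ 1
    simpa using this
  · have := DFunLike.congr_fun hτ 2
    simpa using this

/-- A permutation of order dividing 3 moving exactly the points of a three-cycle `σ` is `σ^{±1}`. -/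
theorem eq_or_eq_inv {σ ρ : Equiv.Perm (Fin 8)} {a b d : Fin 8} (hab : a ≠ b) (had : a ≠ d)
    (hbd : b ≠ d) (h1 : σ a = b) (h2 : σ b = d) (h3 : σ d = a)
    (hfix : ∀ w, w ≠ a → w ≠ b → w ≠ d → σ w = w)
    (hρ3 : ∀ w, ρ (ρ (ρ w)) = w) (hρ : ∀ w, ρ w ≠ w ↔ (w = a ∨ w = b ∨ w = d)) :
    ρ = σ ∨ ρ = σ⁻¹ := by
  have hpres : ∀ w, (w = a ∨ w = b ∨ w = d) → (ρ w = a ∨ ρ w = b ∨ ρ w = d) := by
    intro w hw
    rw [← hρ] at hw ⊢
    exact fun h => hw (ρ.injective h)
  have hout : ∀ w, w ≠ a → w ≠ b → w ≠ d → ρ w = w := by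
    intro w h1 h2 h3
    by_contra h
    rcases (hρ w).1 h with h | h | h
    · exact h1 h
    · exact h2 h
    · exact h3 h
  have hna : ρ a ≠ a := (hρ a).2 (Or.inl rfl)
  have hnb : ρ b ≠ b := (hρ b).2 (Or.inr (Or.inl rfl))
  have hnd : ρ d ≠ d := (hρ d).2 (Or.inr (Or.inr rfl))
  rcases hpres a (Or.inl rfl) with h | h | h
  · exact absurd h hna
  · -- ρ a = b
    left
    have hb : ρ b = d := by
      rcases hpres b (Or.inr (Or.inl rfl)) with h' | h' | h'
      · exfalso
        have := hρ3 a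
        rw [h, h', h] at this
        exact hab this.symm
      · exact absurd h' hnb
      · exact h'
    have hd : ρ d = a := by
      have := hρ3 a
      rwa [h, hb] at this
    ext w
    by_cases hwa : w = a
    · rw [hwa, h, h1]
    by_cases hwb : w = b
    · rw [hwb, hb, h2]
    by_cases hwd : w = d
    · rw [hwd, hd, h3]
    rw [hout w hwa hwb hwd, hfix w hwa hwb hwd]
  · -- ρ a = d
    right
    have hd : ρ d = b := by
      rcases hpres d (Or.inr (Or.inr rfl)) with h' | h' | h'
      · exfalso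
        have := hρ3 a
        rw [h, h', h] at this
        exact had this.symm
      · exact h'
      · exact absurd h' hnd
    have hb : ρ b = a := by
      have := hρ3 a
      rwa [h, hd] at this
    ext w
    congr 1
    rw [eq_comm, Equiv.Perm.inv_eq_iff_eq]
    by_cases hwa : w = a
    · rw [hwa, h, h3]
    by_cases hwb : w = b
    · rw [hwb, hb, h1]
    by_cases hwd : w = d
    · rw [hwd, hd, h2]
    rw [hout w hwa hwb hwd, hfix w hwa hwb hwd]

/-- If `g` maps the support of the three-cycle `σ` into itself, or off itself, then `σ` commutes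
with its conjugate by `g`. -/
theorem commute_conj {σ g : Equiv.Perm (Fin 8)} {a b d : Fin 8} (hab : a ≠ b) (had : a ≠ d)
    (hbd : b ≠ d) (h1 : σ a = b) (h2 : σ b = d) (h3 : σ d = a)
    (hfix : ∀ w, w ≠ a → w ≠ b → w ≠ d → σ w = w)
    (hg : ((g a = a ∨ g a = b ∨ g a = d) ∧ (g b = a ∨ g b = b ∨ g b = d) ∧
          (g d = a ∨ g d = b ∨ g d = d)) ∨
        ((g a ≠ a ∧ g a ≠ b ∧ g a ≠ d) ∧ (g b ≠ a ∧ g b ≠ b ∧ g b ≠ d) ∧
          (g d ≠ a ∧ g d ≠ b ∧ g d ≠ d))) :
    Commute σ (g * σ * g⁻¹) := by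
  have hσ : ∀ w, σ w ≠ w ↔ (w = a ∨ w = b ∨ w = d) := by
    intro w
    constructor
    · intro h
      by_contra hc
      push Not at hc
      exact h (hfix w hc.1 hc.2.1 hc.2.2)
    · rintro (rfl | rfl | rfl)
      · rw [h1]; exact fun h => hab h.symm
      · rw [h2]; exact fun h => hbd h.symm
      · rw [h3]; exact fun h => had h
  have happ : ∀ w, (g * σ * g⁻¹) w = g (σ (g⁻¹ w)) := fun w => rfl
  have hgi : ∀ u, g⁻¹ (g u) = u := fun u => by simp
  have hgi' : ∀ u, g (g⁻¹ u) = u := fun u => by simp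
  rcases hg with hg | hg
  · -- invariant case
    have hsub : ({a, b, d} : Finset (Fin 8)).image g ⊆ {a, b, d} := by
      intro w hw
      simp only [Finset.mem_image, Finset.mem_insert, Finset.mem_singleton] at hw ⊢
      obtain ⟨t, (rfl | rfl | rfl), rfl⟩ := hw
      · exact hg.1
      · exact hg.2.1
      · exact hg.2.2
    have heq := Finset.eq_of_subset_of_card_le hsub
      (by rw [Finset.card_image_of_injective _ g.injective])
    have hback : ∀ u, (g u = a ∨ g u = b ∨ g u = d) ↔ (u = a ∨ u = b ∨ u = d) := by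
      intro u
      have hm : g u ∈ ({a, b, d} : Finset (Fin 8)) ↔ g u ∈ ({a, b, d} : Finset (Fin 8)).image g := by
        rw [heq]
      rw [Finset.mem_image] at hm
      simp only [Finset.mem_insert, Finset.mem_singleton] at hm
      constructor
      · intro h
        obtain ⟨t, ht, htu⟩ := hm.1 h
        rw [← g.injective htu]
        exact ht
      · intro h
        exact hm.2 ⟨u, h, rfl⟩
    have hρ : ∀ w, (g * σ * g⁻¹) w ≠ w ↔ (w = a ∨ w = b ∨ w = d) := by
      intro w
      rw [happ]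
      have e1 : g (σ (g⁻¹ w)) ≠ w ↔ σ (g⁻¹ w) ≠ g⁻¹ w := by
        rw [not_iff_not]
        constructor
        · intro h
          have h' := congrArg (fun u => g⁻¹ u) h
          simp only [hgi] at h'
          exact h'
        · intro h
          rw [h, hgi']
      rw [e1, hσ, ← hback (g⁻¹ w), hgi']
    have hρ3 : ∀ w, (g * σ * g⁻¹) ((g * σ * g⁻¹) ((g * σ * g⁻¹) w)) = w := by
      intro w
      simp only [happ, hgi]
      have hs3 : ∀ u, σ (σ (σ u)) = u := by
        intro u
        by_cases hua : u = a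
        · rw [hua, h1, h2, h3]
        by_cases hub : u = b
        · rw [hub, h2, h3, h1]
        by_cases hud : u = d
        · rw [hud, h3, h1, h2]
        rw [hfix u hua hub hud, hfix u hua hub hud, hfix u hua hub hud]
      rw [hs3, hgi']
    rcases eq_or_eq_inv hab had hbd h1 h2 h3 hfix hρ3 hρ with h | h
    · rw [h]
    · rw [h]
      exact (Commute.refl σ).inv_right
  · -- disjoint case
    apply Equiv.Perm.Disjoint.commute
    intro w
    by_cases hw : w = a ∨ w = b ∨ w = d
    · right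
      rw [happ]
      have hu : σ (g⁻¹ w) = g⁻¹ w := by
        by_contra hc
        have hgu : g (g⁻¹ w) = w := hgi' w
        rcases (hσ _).1 hc with h | h | h
        · rw [h] at hgu
          rcases hw with hw | hw | hw
          · exact hg.1.1 (hgu.trans hw)
          · exact hg.1.2.1 (hgu.trans hw)
          · exact hg.1.2.2 (hgu.trans hw)
        · rw [h] at hgu
          rcases hw with hw | hw | hw
          · exact hg.2.1.1 (hgu.trans hw)
          · exact hg.2.1.2.1 (hgu.trans hw)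
          · exact hg.2.1.2.2 (hgu.trans hw)
        · rw [h] at hgu
          rcases hw with hw | hw | hw
          · exact hg.2.2.1 (hgu.trans hw)
          · exact hg.2.2.2.1 (hgu.trans hw)
          · exact hg.2.2.2.2 (hgu.trans hw)
      rw [hu, hgi']
    · left
      push Not at hw
      exact hfix w hw.1 hw.2.1 hw.2.2

/-- If `σ` commutes with its conjugate by `g`, then `⟨σ⟩` is normal in `⟨σ, σ^g⟩`. -/
theorem subnormal_of_commute {G : Type*} [Group G] (σ g : G) (h : Commute σ (g * σ * g⁻¹)) :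
    ((Subgroup.zpowers σ).subgroupOf
      (Subgroup.zpowers σ ⊔ MulAut.conj g • Subgroup.zpowers σ)).IsSubnormal := by
  apply Subgroup.Normal.isSubnormal
  have hK : Subgroup.zpowers σ ⊔ MulAut.conj g • Subgroup.zpowers σ ≤ Subgroup.centralizer {σ} := by
    rw [sup_le_iff]
    constructor
    · rw [Subgroup.zpowers_le, Subgroup.mem_centralizer_iff]
      intro x hx
      rw [Set.mem_singleton_iff.1 hx]
    · intro x hx
      rw [Subgroup.mem_smul_pointwise_iff_exists] at hx
      obtain ⟨s, hs, rfl⟩ := hx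
      obtain ⟨i, rfl⟩ := Subgroup.mem_zpowers_iff.1 hs
      rw [Subgroup.mem_centralizer_iff]
      intro y hy
      rw [Set.mem_singleton_iff.1 hy, MulAut.smul_def, MulAut.conj_apply, ← conj_zpow]
      exact (h.zpow_right i).eq
  refine ⟨fun n hn k => ?_⟩
  rw [Subgroup.mem_subgroupOf] at hn ⊢
  obtain ⟨i, hi⟩ := Subgroup.mem_zpowers_iff.1 hn
  have hk : Commute (k : G) σ := by
    have := hK k.2
    rw [Subgroup.mem_centralizer_iff] at this
    exact (this σ rfl).symm
  have hk' : Commute (k : G) (n : G) := by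
    rw [← hi]
    exact hk.zpow_right i
  have : ((k * n * k⁻¹ : _) : G) = (n : G) := by
    push_cast
    rw [hk'.eq, mul_inv_cancel_right]
  rw [this]
  exact hn

/-- `O_3(S_8) = 1`. -/
theorem pCore_three : Cfsg.pCore 3 (Equiv.Perm (Fin 8)) = ⊥ := by
  unfold Cfsg.pCore
  rw [eq_bot_iff]
  apply sSup_le
  rintro N ⟨hN, hp⟩
  haveI := hN
  haveI : IsSimpleGroup (alternatingGroup (Fin 8)) :=
    alternatingGroup.isSimpleGroup (by simp)
  have key : N ⊓ alternatingGroup (Fin 8) = ⊥ := by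
    haveI : (N.subgroupOf (alternatingGroup (Fin 8))).Normal := inferInstance
    rcases Subgroup.Normal.eq_bot_or_eq_top
      (inferInstance : (N.subgroupOf (alternatingGroup (Fin 8))).Normal) with h | h
    · rw [Subgroup.subgroupOf_eq_bot, disjoint_iff] at h
      exact h
    · exfalso
      rw [Subgroup.subgroupOf_eq_top] at h
      have hmem : (Equiv.swap (0 : Fin 8) 1 * Equiv.swap 2 3) ∈ N := by
        apply h
        rw [Equiv.Perm.mem_alternatingGroup]
        decide
      obtain ⟨k, hk⟩ := hp ⟨_, hmem⟩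
      have hk' : (Equiv.swap (0 : Fin 8) 1 * Equiv.swap 2 3) ^ 3 ^ k = 1 := by
        have := congrArg Subtype.val hk
        simpa using this
      have h2 : (Equiv.swap (0 : Fin 8) 1 * Equiv.swap 2 3) ^ 2 = 1 := by decide
      have hd1 : orderOf (Equiv.swap (0 : Fin 8) 1 * Equiv.swap 2 3) ∣ 2 :=
        orderOf_dvd_of_pow_eq_one h2
      have hd2 : orderOf (Equiv.swap (0 : Fin 8) 1 * Equiv.swap 2 3) ∣ 3 ^ k :=
        orderOf_dvd_of_pow_eq_one hk'
      have hcop : Nat.Coprime 2 (3 ^ k) := Nat.Coprime.pow_right k (by norm_num)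
      have h1 := Nat.eq_one_of_dvd_coprimes hcop hd1 hd2
      rw [orderOf_eq_one_iff] at h1
      revert h1
      decide
  intro n hn
  rw [Subgroup.mem_bot]
  obtain ⟨k, hk⟩ := hp ⟨n, hn⟩
  have hk' : n ^ 3 ^ k = 1 := by
    have := congrArg Subtype.val hk
    simpa using this
  have h2 : n ^ 2 = 1 := by
    have hm : n ^ 2 ∈ N ⊓ alternatingGroup (Fin 8) := by
      refine ⟨Subgroup.pow_mem _ hn 2, ?_⟩
      change n ^ 2 ∈ alternatingGroup (Fin 8)
      rw [Equiv.Perm.mem_alternatingGroup, map_pow]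
      rcases Int.units_eq_one_or (Equiv.Perm.sign n) with h | h <;> rw [h] <;> rfl
    rw [key, Subgroup.mem_bot] at hm
    exact hm
  have hd1 : orderOf n ∣ 2 := orderOf_dvd_of_pow_eq_one h2
  have hd2 : orderOf n ∣ 3 ^ k := orderOf_dvd_of_pow_eq_one hk'
  have hcop : Nat.Coprime 2 (3 ^ k) := Nat.Coprime.pow_right k (by norm_num)
  have h1 := Nat.eq_one_of_dvd_coprimes hcop hd1 hd2
  exact orderOf_eq_one_iff.1 h1

/-- In the symmetric group of degree 8, let A be the subgroup generated by a 3-cycle. Then every conjugacy class contains an element g for which A is subnormal in the subgroup generated by A and its conjugate by g, although O_3 of the symmetric group of degree 8 is trivial. -/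
theorem result
    (σ : Equiv.Perm (Fin 8)) (hσ : σ.IsThreeCycle) :
    (∀ c : Equiv.Perm (Fin 8), ∃ g : Equiv.Perm (Fin 8), IsConj c g ∧
      ((Subgroup.zpowers σ).subgroupOf (Subgroup.zpowers σ ⊔ MulAut.conj g • Subgroup.zpowers σ)).IsSubnormal) ∧
    Cfsg.pCore 3 (Equiv.Perm (Fin 8)) = ⊥ := by
  refine ⟨?_, pCore_three⟩
  intro c
  obtain ⟨a, ha1, ha2, ha3, hfix⟩ := threeCycle_form hσ
  obtain ⟨x, y, z, hxy, hxz, hyz, hc⟩ := exists_triple c
  have hab : a ≠ σ a := fun h => ha1 h.symm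
  have had : a ≠ σ (σ a) := fun h => ha2 h.symm
  have hbd : σ a ≠ σ (σ a) := fun h => hab (σ.injective h)
  obtain ⟨τ, hτx, hτy, hτz⟩ := exists_perm_triple hxy hxz hyz hab had hbd
  refine ⟨τ * c * τ⁻¹, isConj_iff.2 ⟨τ, rfl⟩, ?_⟩
  apply subnormal_of_commute
  have hix : τ⁻¹ a = x := by rw [Equiv.Perm.inv_eq_iff_eq, hτx]
  have hiy : τ⁻¹ (σ a) = y := by rw [Equiv.Perm.inv_eq_iff_eq, hτy]
  have hiz : τ⁻¹ (σ (σ a)) = z := by rw [Equiv.Perm.inv_eq_iff_eq, hτz]
  have happ : ∀ w, (τ * c * τ⁻¹) w = τ (c (τ⁻¹ w)) := fun w => rfl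
  have e : ∀ {u v : Fin 8}, τ u = τ v ↔ u = v := fun {u v} => τ.injective.eq_iff
  apply commute_conj hab had hbd rfl rfl ha3 hfix
  rw [happ, happ, happ, hix, hiy, hiz]
  have hb' : σ a = τ y := hτy.symm
  have hd' : σ (σ a) = τ z := hτz.symm
  rw [hd', hb', ← hτx]
  simp only [e, Ne]
  exact hc

end Cfsg.Agent.S4332
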