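import Cfsg.Statements.S4333
-- import your own Cfsg.Agent.* helpers here
import Mathlib
import Cfsg.Agent.S0066

set_option autoImplicit false
open Pointwise
open Cfsg

namespace Cfsg.Agent.S4333

universe u

/-- The refined Wielandt hypothesis. -/
def Hyp {G : Type*} [Group G] (A : Subgroup G) : Prop :=
  ∀ a ∈ A, ∀ g : G, (A.subgroupOf (A ⊔ MulAut.conj (g⁻¹ * a * g) • A)).IsSubnormal

/-- The hypothesis is inherited by preimages under arbitrary homomorphisms. -/
theorem Hyp.comap {G₁ G₂ : Type*} [Group G₁] [Group G₂] (φ : G₁ →* G₂) {A₂ : Subgroup G₂}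
    (h : Hyp A₂) : Hyp (A₂.comap φ) := by
  intro a ha g
  set x := g⁻¹ * a * g with hx
  set A₁ := A₂.comap φ with hA₁
  set J₁ := A₁ ⊔ MulAut.conj x • A₁ with hJ₁
  set J₂ := A₂ ⊔ MulAut.conj (φ x) • A₂ with hJ₂
  have hle : J₁.map φ ≤ J₂ := by
    rw [hJ₁, Subgroup.map_sup]
    refine sup_le_sup ?_ (Cfsg.Agent.S0066.map_conj_smul_le φ A₂ x)
    exact Subgroup.map_comap_le φ A₂
  let f : J₁ →* J₂ :=
    { toFun := fun z => ⟨φ z, hle (Subgroup.mem_map_of_mem φ z.2)⟩
      map_one' := by apply Subtype.ext; simp
      map_mul' := fun a b => by apply Subtype.ext; simp }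
  have h1 := h (φ a) ha (φ g)
  have hφx : (φ g)⁻¹ * φ a * φ g = φ x := by
    rw [hx, map_mul, map_mul, map_inv]
  rw [hφx] at h1
  have := h1.comap f
  have heq : Subgroup.comap f (A₂.subgroupOf J₂) = A₁.subgroupOf J₁ := by
    ext z
    rfl
  rw [heq] at this
  exact this

theorem Hyp.conj {G : Type*} [Group G] {A : Subgroup G} (h : Hyp A) (g : G) :
    Hyp (MulAut.conj g • A) := by
  rw [Cfsg.Agent.S0066.conj_smul_eq_comap]
  exact h.comap _

theorem Hyp.subgroupOf {G : Type*} [Group G] {A : Subgroup G} (h : Hyp A) (V : Subgroup G) :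
    Hyp (A.subgroupOf V) := h.comap V.subtype

theorem wielandt_aux : ∀ (n : ℕ) (G : Type u) [Group G] [Finite G], Nat.card G = n →
    ∀ A : Subgroup G, Hyp A → A.IsSubnormal := by
  intro n
  induction n using Nat.strong_induction_on with
  | _ n ih =>
    intro G _ _ hn A hA
    by_contra hns
    -- induction hypothesis in usable form
    have key : ∀ V : Subgroup G, V ≠ ⊤ → ∀ B : Subgroup G, (∃ g : G, B = MulAut.conj g • A) →
        (B.subgroupOf V).IsSubnormal := by
      intro V hV B hB
      obtain ⟨g, rfl⟩ := hB
      have hlt : Nat.card V < n := by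
        rw [← hn]
        exact Cfsg.Agent.Lib.H14.card_lt_of_lt_top V (lt_top_iff_ne_top.mpr hV)
      exact ih _ hlt V rfl _ ((hA.conj g).subgroupOf V)
    have hAtop : A ≠ ⊤ := by
      rintro rfl
      exact hns Subgroup.IsSubnormal.top
    -- a normal proper subgroup containing A gives a contradiction
    have hnormal : ∀ D : Subgroup G, D.Normal → A ≤ D → D ≠ ⊤ → False := by
      intro D hD hAD hDtop
      have h1 : (A.subgroupOf D).IsSubnormal := by
        have := key D hDtop A ⟨1, by simp⟩
        exact this
      exact hns (Subgroup.IsSubnormal.trans hAD h1 hD.isSubnormal)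
    let U : Set (Subgroup G) := {V | A ≤ V ∧ V ≠ ⊤}
    let S : Subgroup G → Set (Subgroup G) := fun V =>
      {B | (∃ g : G, B = MulAut.conj g • A) ∧ B ≤ V ∧ (B.subgroupOf V).IsSubnormal}
    have hAS : ∀ V ∈ U, A ∈ S V := by
      intro V hV
      exact ⟨⟨1, by simp⟩, hV.1, key V hV.2 A ⟨1, by simp⟩⟩
    obtain ⟨M, hMU, hM⟩ := Cfsg.Agent.S0540.result A U ⟨A, le_refl A, hAtop⟩ S
      (fun V B => Iff.rfl) hAS
      (fun V hV W hW B hB hBV => ⟨hB.1, hBV, key V hV.2 B hB.1⟩)
      (by
        intro V hV W hW
        set D : Subgroup G := sSup (S V ∩ S W) with hD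
        have hAD : A ≤ D := le_sSup ⟨hAS V hV, hAS W hW⟩
        have hDV : D ≤ V := sSup_le (fun B hB => hB.1.2.1)
        by_cases hN : Subgroup.normalizer (D : Set G) = ⊤
        · exfalso
          have hDn : D.Normal := Subgroup.normalizer_eq_top_iff.mp hN
          exact hnormal D hDn hAD (fun h => hV.2 (top_le_iff.mp (h ▸ hDV)))
        · exact ⟨Subgroup.normalizer (D : Set G), ⟨hAD.trans Subgroup.le_normalizer, hN⟩, le_refl _⟩)
    -- M is not normal
    have hMnn : ¬ M.Normal := fun hMn => hnormal M hMn hMU.1 hMU.2
    -- every conjugate of an element of A normalizes M, hence lies in M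
    have hxM : ∀ a ∈ A, ∀ g : G, g⁻¹ * a * g ∈ M := by
      intro a ha g
      set x := g⁻¹ * a * g with hx
      have hJ : A ⊔ MulAut.conj x • A ∈ U := by
        refine ⟨le_sup_left, fun htop => ?_⟩
        have h1 := hA a ha g
        rw [htop] at h1
        exact hns (Subgroup.IsSubnormal.trans le_top h1 Subgroup.IsSubnormal.top)
      have hxA : MulAut.conj x • A ≤ M := le_sup_right.trans (hM _ hJ)
      -- the conjugate of M by x⁻¹ contains A, hence lies in M
      have hM' : MulAut.conj x⁻¹ • M ∈ U := by
        refine ⟨?_, ?_⟩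
        · intro b hb
          rw [Subgroup.mem_pointwise_smul_iff_inv_smul_mem, ← map_inv, inv_inv]
          apply hxA
          rw [Subgroup.mem_smul_pointwise_iff_exists]
          exact ⟨b, hb, rfl⟩
        · intro htop
          apply hMU.2
          have := congrArg (fun K : Subgroup G => MulAut.conj x • K) htop
          simp only [smul_smul, ← map_mul, mul_inv_cancel, map_one, one_smul] at this
          rw [this]
          rw [eq_top_iff]
          intro y _
          rw [Subgroup.mem_pointwise_smul_iff_inv_smul_mem]
          exact Subgroup.mem_top _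
      have hle : MulAut.conj x⁻¹ • M ≤ M := hM _ hM'
      -- so x⁻¹ normalizes M (finite group), and the normalizer of M is M
      have hNM : Subgroup.normalizer (M : Set G) = M := by
        have hle' : M ≤ Subgroup.normalizer (M : Set G) := Subgroup.le_normalizer
        by_contra hne
        have hlt : M < Subgroup.normalizer (M : Set G) := lt_of_le_of_ne hle' (Ne.symm hne)
        have htop : Subgroup.normalizer (M : Set G) = ⊤ := by
          by_contra hnt
          have : Subgroup.normalizer (M : Set G) ∈ U := ⟨hMU.1.trans hle', hnt⟩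
          exact absurd (hM _ this) (not_le_of_gt hlt)
        exact hMnn (Subgroup.normalizer_eq_top_iff.mp htop)
      have heq : MulAut.conj x⁻¹ • M = M := by
        apply Subgroup.eq_of_le_of_card_ge hle
        exact (Nat.card_congr (Subgroup.equivSMul (MulAut.conj x⁻¹) M).toEquiv).le
      have hxinv : x⁻¹ ∈ Subgroup.normalizer (M : Set G) := by
        rw [Subgroup.mem_normalizer_iff]
        intro y
        constructor
        · intro hy
          rw [← heq]
          rw [Subgroup.mem_smul_pointwise_iff_exists]
          exact ⟨y, hy, rfl⟩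
        · intro hy
          have : x⁻¹ * y * x⁻¹⁻¹ ∈ MulAut.conj x⁻¹ • M := by rw [heq]; exact hy
          rw [Subgroup.mem_smul_pointwise_iff_exists] at this
          obtain ⟨z, hz, hzy⟩ := this
          have : z = y := by
            simp only [MulAut.smul_def, MulAut.conj_apply] at hzy
            exact mul_left_cancel (mul_right_cancel hzy)
          rw [← this]; exact hz
      rw [hNM] at hxinv
      have := M.inv_mem hxinv
      rwa [inv_inv] at this
    have hcl : Subgroup.normalClosure (A : Set G) ≤ M := by
      unfold Subgroup.normalClosure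
      rw [Subgroup.closure_le]
      intro x hx
      rw [Group.mem_conjugatesOfSet_iff] at hx
      obtain ⟨a, ha, hax⟩ := hx
      rw [isConj_iff] at hax
      obtain ⟨c, rfl⟩ := hax
      have := hxM a ha c⁻¹
      rwa [inv_inv] at this
    exact hnormal (Subgroup.normalClosure (A : Set G)) inferInstance Subgroup.le_normalClosure
      (fun h => hMU.2 (top_le_iff.mp (h ▸ hcl)))


/-- Let A be a subgroup of a finite group G. If A is subnormal in the subgroup generated by A and its conjugate by g⁻¹ a g, for every a ∈ A and every g ∈ G, then A is subnormal in G. (A sharpening of Wielandt's subnormality criterion: only conjugates of A by conjugates of elements of A are needed.) -/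
theorem result {G : Type*} [Group G] [Finite G]
    (A : Subgroup G)
    (h : ∀ a ∈ A, ∀ g : G, (A.subgroupOf (A ⊔ MulAut.conj (g⁻¹ * a * g) • A)).IsSubnormal) :
    A.IsSubnormal := by
  exact wielandt_aux _ G rfl A h

end Cfsg.Agent.S4333
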