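import Cfsg.Statements.S4334
import Mathlib
import Cfsg.Agent.Lib.H21.Wielandt

set_option autoImplicit false
open Cfsg

namespace Cfsg.Agent.S4334

open Cfsg.Agent.Lib.H21 Cfsg.Agent.Lib.L0 Cfsg.Agent.Lib.H1

/-- Order of the join of two commuting subgroups of coprime orders. -/
lemma card_sup_of_comm {G : Type*} [Group G] [Finite G] (A B : Subgroup G)
    (hcomm : ∀ a ∈ A, ∀ b ∈ B, a * b = b * a) (hcop : (Nat.card A).Coprime (Nat.card B)) :
    Nat.card (A ⊔ B : Subgroup G) = Nat.card A * Nat.card B := by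
  have hc : ∀ (m : A) (n : B), Commute (A.subtype m) (B.subtype n) :=
    fun m n => hcomm m m.2 n n.2
  have h1 := MonoidHom.noncommCoprod_range A.subtype B.subtype hc
  rw [Subgroup.range_subtype, Subgroup.range_subtype] at h1
  have h2 : Nat.card (A ⊔ B : Subgroup G) ∣ Nat.card A * Nat.card B := by
    rw [← h1, ← Nat.card_prod]
    exact Subgroup.card_range_dvd _
  have h3 : Nat.card A * Nat.card B ∣ Nat.card (A ⊔ B : Subgroup G) :=
    hcop.mul_dvd_of_dvd_of_dvd (Subgroup.card_dvd_of_le le_sup_left)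
      (Subgroup.card_dvd_of_le le_sup_right)
  exact Nat.dvd_antisymm h2 h3

theorem result {G : Type*} [Group G] [Finite G]
    (σ τ π : Set ℕ) (hπ : π = σ ∪ τ) (hd : Disjoint σ τ) (H Hs Ht : Subgroup G) (hH : Cfsg.IsPiHall π H)
    (hs : Cfsg.IsPiSubgroup σ Hs) (ht : Cfsg.IsPiSubgroup τ Ht) (hsn : Group.IsNilpotent Hs)
    (hjoin : Hs ⊔ Ht = H) (hcomm : ∀ a ∈ Hs, ∀ b ∈ Ht, a * b = b * a) (hD : Cfsg.IsDPiGroup τ G) :
    Cfsg.IsDPiGroup π G := by
  classical
  have hστ : ∀ r, r ∈ σ → r ∉ τ := fun r h1 h2 => (Set.disjoint_left.mp hd) h1 h2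
  have hcop : (Nat.card Hs).Coprime (Nat.card Ht) := by
    apply Nat.coprime_of_dvd
    intro r hr h1 h2
    exact hστ r (hs r hr h1) (ht r hr h2)
  have hcardH : Nat.card H = Nat.card Hs * Nat.card Ht := by
    rw [← hjoin]; exact card_sup_of_comm Hs Ht hcomm hcop
  have hHsH : Hs ≤ H := hjoin ▸ le_sup_left
  have hHtH : Ht ≤ H := hjoin ▸ le_sup_right
  have hidxs : Hs.index = H.index * Nat.card Ht := by
    have h1 := Subgroup.index_mul_card Hs
    have h2 := Subgroup.index_mul_card H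
    rw [hcardH] at h2
    have hpos : 0 < Nat.card Hs := Nat.card_pos
    apply Nat.eq_of_mul_eq_mul_right hpos
    rw [h1, ← h2]; ring
  have hidxt : Ht.index = H.index * Nat.card Hs := by
    have h1 := Subgroup.index_mul_card Ht
    have h2 := Subgroup.index_mul_card H
    rw [hcardH] at h2
    have hpos : 0 < Nat.card Ht := Nat.card_pos
    apply Nat.eq_of_mul_eq_mul_right hpos
    rw [h1, ← h2]; ring
  have hHsHall : Cfsg.IsPiHall σ Hs := by
    refine ⟨hs, ?_⟩
    intro r hr hrσ h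
    rw [hidxs] at h
    rcases (Nat.Prime.dvd_mul hr).mp h with h | h
    · exact hH.2 r hr (hπ ▸ Or.inl hrσ) h
    · exact hστ r hrσ (ht r hr h)
  have hHtHall : Cfsg.IsPiHall τ Ht := by
    refine ⟨ht, ?_⟩
    intro r hr hrτ h
    rw [hidxt] at h
    rcases (Nat.Prime.dvd_mul hr).mp h with h | h
    · exact hH.2 r hr (hπ ▸ Or.inr hrτ) h
    · exact hστ r (hs r hr h) hrτ
  apply isDPiGroup_of_forall_cj_le hH
  intro K hK
  -- (i) normal `p`-complements of `K` for `p ∈ σ`
  have hNPC : ∀ p : ℕ, p.Prime → p ∈ σ → p ∣ Nat.card K → Cfsg.HasNormalPComplement p K := by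
    intro p hp hpσ hpK
    haveI := Fact.mk hp
    obtain ⟨P, M0, hPHs, hM0Hs, hP, ⟨j, hj, hPj⟩, hPcomm, hM0o, k, hM0k⟩ :=
      nilpotent_sylow_data Hs p
    apply hasNormalPComplement_of_frobHyp
    apply frobHyp_of_centralizing K P (M0 ⊔ Ht) hP
    · rw [hPj]
      intro h
      rcases (Nat.Prime.dvd_mul hp).mp h with h | h
      · exact hj h
      · exact hHsHall.2 p hp hpσ h
    · have hle : M0 ⊔ Ht ≤ Subgroup.centralizer (P : Set G) := by
        apply sup_le
        · intro b hb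
          rw [Subgroup.mem_centralizer_iff]
          intro a ha
          exact hPcomm a ha b (hM0Hs hb) (hM0o b hb)
        · intro b hb
          rw [Subgroup.mem_centralizer_iff]
          intro a ha
          exact hcomm a (hPHs ha) b hb
      intro a ha b hb
      exact (Subgroup.mem_centralizer_iff.mp (hle hb)) a ha
    · intro r hr hrp hrK h
      have hrπ : r ∈ π := hK r hr hrK
      rw [hπ] at hrπ
      rcases hrπ with hrσ | hrτ
      · have h2 : r ∣ M0.index := h.trans (Subgroup.index_dvd_of_le le_sup_left)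
        rw [hM0k] at h2
        rcases (Nat.Prime.dvd_mul hr).mp h2 with h2 | h2
        · exact hrp ((Nat.prime_dvd_prime_iff_eq hr hp).mp (hr.dvd_of_dvd_pow h2))
        · exact hHsHall.2 r hr hrσ h2
      · have h2 : r ∣ Ht.index := h.trans (Subgroup.index_dvd_of_le le_sup_right)
        exact hHtHall.2 r hr hrτ h2
  -- (ii) the normal `σ`-complement `L` of `K`
  obtain ⟨L, hLn, hLτ, hLσ⟩ := exists_normal_sigma_complement K σ hNPC
  -- (iii) a complement `Kσ`
  have hLcop : (Nat.card L).Coprime L.index := by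
    apply Nat.coprime_of_dvd
    intro r hr h1 h2
    exact hLτ r hr h1 (hLσ r hr h2)
  obtain ⟨Kσ, hKσ⟩ := Subgroup.exists_right_complement'_of_coprime hLcop
  have hKσcard : Nat.card Kσ = L.index := hKσ.symm.index_eq_card.symm
  -- (iv) move `L` into `Ht`
  set L' : Subgroup G := L.map K.subtype with hL'def
  have hL'card : Nat.card L' = Nat.card L :=
    Nat.card_congr (L.equivMapOfInjective _ K.subtype_injective).symm.toEquiv
  have hL'K : L' ≤ K := Subgroup.map_subtype_le _
  have hL'τ : Cfsg.IsPiSubgroup τ L' := by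
    intro r hr hrd
    have hrπ : r ∈ π := hK r hr (hrd.trans (Subgroup.card_dvd_of_le hL'K))
    rw [hL'card] at hrd
    rw [hπ] at hrπ
    rcases hrπ with hrσ | hrτ
    · exact absurd hrσ (hLτ r hr hrd)
    · exact hrτ
  obtain ⟨g1, hg1⟩ := exists_cj_le_of_isDPiGroup hD hHtHall L' hL'τ
  set Kσ' : Subgroup G := Kσ.map K.subtype with hKσ'def
  have hKσ'card : Nat.card Kσ' = Nat.card Kσ :=
    Nat.card_congr (Kσ.equivMapOfInjective _ K.subtype_injective).symm.toEquiv
  have hKσ'K : Kσ' ≤ K := Subgroup.map_subtype_le _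
  have hsupK : K = L' ⊔ Kσ' := by
    have h2 : L ⊔ Kσ = ⊤ := hKσ.sup_eq_top
    have h3 : (L ⊔ Kσ).map K.subtype = K := by
      rw [h2, ← MonoidHom.range_eq_map, Subgroup.range_subtype]
    rw [Subgroup.map_sup] at h3
    exact h3.symm
  -- (v) work in the normalizer of `L1`
  set L1 : Subgroup G := cj g1 L' with hL1
  set Kσ1 : Subgroup G := cj g1 Kσ' with hKσ1
  set NL : Subgroup G := Subgroup.normalizer (L1 : Set G) with hNL
  have hKNL : cj g1 K ≤ NL := cj_le_normalizer g1 (le_normalizer_map_subtype L)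
  have hKσ1NL : Kσ1 ≤ NL := (cj_mono g1 hKσ'K).trans hKNL
  have hHsNL : Hs ≤ NL := by
    refine le_trans ?_ (Subgroup.centralizer_le_normalizer _)
    intro a ha
    rw [Subgroup.mem_centralizer_iff]
    intro b hb
    exact (hcomm a ha b (hg1 hb)).symm
  have hHall' : Cfsg.IsPiHall σ (Hs.subgroupOf NL) := by
    constructor
    · intro r hr hrd
      rw [Nat.card_congr (Subgroup.subgroupOfEquivOfLe hHsNL).toEquiv] at hrd
      exact hs r hr hrd
    · intro r hr hrσ h
      exact hHsHall.2 r hr hrσ (h.trans (Subgroup.relIndex_dvd_index_of_le hHsNL))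
  have hnil' : Group.IsNilpotent (Hs.subgroupOf NL) :=
    Group.nilpotent_of_mulEquiv (Subgroup.subgroupOfEquivOfLe hHsNL).symm
  have hKσ1σ : Cfsg.IsPiSubgroup σ (Kσ1.subgroupOf NL) := by
    intro r hr hrd
    rw [Nat.card_congr (Subgroup.subgroupOfEquivOfLe hKσ1NL).toEquiv, hKσ1, card_cj,
      hKσ'card, hKσcard] at hrd
    exact hLσ r hr hrd
  obtain ⟨n, hn⟩ := wielandt σ (Hs.subgroupOf NL) hHall' hnil' (Kσ1.subgroupOf NL) hKσ1σ
  have hn' : cj (n : G) Kσ1 ≤ Hs := cj_le_of_cj_subgroupOf_le hKσ1NL n hn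
  -- (vi) conclusion
  refine ⟨(n : G) * g1, ?_⟩
  rw [cj_mul, hsupK, cj_sup, cj_sup, ← hL1, ← hKσ1, cj_eq_self_of_mem_normalizer n.2, ← hjoin]
  exact sup_le (hg1.trans le_sup_right) (hn'.trans le_sup_left)

end Cfsg.Agent.S4334
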