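import Cfsg.Statements.S4337
import Mathlib
import Cfsg.Agent.Lib.H23.BurnsidePQ

set_option autoImplicit false
open Cfsg

namespace Cfsg.Agent.S4337

open Equiv

/-- `Perm α` is solvable when `α` has at most 4 elements (via Burnside's `p^a q^b`). -/
lemma perm_solvable_of_card_le_four (α : Type*) [Fintype α] [DecidableEq α]
    (h : Fintype.card α ≤ 4) : Group.IsSolvable (Perm α) := by
  have hc : Nat.card (Perm α) = (Fintype.card α).factorial := by
    rw [Nat.card_eq_fintype_card, Fintype.card_perm]
  have : ∃ a b, Nat.card (Perm α) = 2 ^ a * 3 ^ b := by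
    rw [hc]
    generalize Fintype.card α = m at h
    interval_cases m
    · exact ⟨0, 0, rfl⟩
    · exact ⟨0, 0, rfl⟩
    · exact ⟨1, 0, rfl⟩
    · exact ⟨1, 1, rfl⟩
    · exact ⟨3, 1, rfl⟩
  obtain ⟨a, b, hab⟩ := this
  exact Cfsg.Agent.Lib.H23.isSolvable_of_card_eq_prime_pow_mul_prime_pow 2 3 a b
    Nat.prime_two Nat.prime_three hab

lemma solvable_of_le {G : Type*} [Group G] {H K : Subgroup G} (h : H ≤ K)
    (hK : Group.IsSolvable K) : Group.IsSolvable H :=
  Group.isSolvable_of_isSolvable_injective (Subgroup.inclusion_injective h)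

/-- permutations supported in a set of at most 4 points generate a solvable group -/
lemma closure_solvable_of_support {n : ℕ} (T : Set (Perm (Fin n))) (S : Finset (Fin n))
    (hS : S.card ≤ 4) (hT : ∀ t ∈ T, t.support ⊆ S) :
    Group.IsSolvable (Subgroup.closure T) := by
  classical
  let φ : Perm {x // x ∈ S} →* Perm (Fin n) := Perm.ofSubtype
  haveI : Group.IsSolvable (Perm {x // x ∈ S}) :=
    perm_solvable_of_card_le_four _ (by rw [Fintype.card_coe]; exact hS)
  have hr : Group.IsSolvable φ.range :=
    Group.isSolvable_of_surjective φ.rangeRestrict_surjective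
  refine solvable_of_le ?_ hr
  rw [Subgroup.closure_le]
  intro t ht
  have h2 : ∀ x, t x ≠ x → x ∈ S := fun x hx => hT t ht (Perm.mem_support.2 hx)
  have h1 : ∀ x, t x ∈ S ↔ x ∈ S := by
    intro x
    by_cases hx : t x = x
    · rw [hx]
    · have hx' : x ∈ t.support := Perm.mem_support.2 hx
      have hx'' : t x ∈ t.support := Perm.apply_mem_support.2 hx'
      exact ⟨fun _ => hT t ht hx', fun _ => hT t ht hx''⟩
  exact ⟨Perm.subtypePerm t h1, Perm.ofSubtype_subtypePerm h1 h2⟩

/-- adjoining a centralizing element keeps solvability -/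
lemma sup_zpowers_solvable {G : Type*} [Group G] (D : Subgroup G) (z : G)
    (hz : ∀ d ∈ D, Commute d z) (hD : Group.IsSolvable D) :
    Group.IsSolvable (D ⊔ Subgroup.zpowers z : Subgroup G) := by
  have comm : ∀ (d : D) (w : Subgroup.zpowers z), Commute (D.subtype d) ((Subgroup.zpowers z).subtype w) := by
    rintro ⟨d, hd⟩ ⟨w, hw⟩
    obtain ⟨k, rfl⟩ := Subgroup.mem_zpowers_iff.1 hw
    exact (hz d hd).zpow_right k
  let φ : D × Subgroup.zpowers z →* G := D.subtype.noncommCoprod (Subgroup.zpowers z).subtype comm
  haveI : Group.IsSolvable (Subgroup.zpowers z) := by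
    apply Group.isSolvable_of_comm
    rintro ⟨u, hu⟩ ⟨w, hw⟩
    obtain ⟨k, rfl⟩ := Subgroup.mem_zpowers_iff.1 hu
    obtain ⟨l, rfl⟩ := Subgroup.mem_zpowers_iff.1 hw
    ext
    simp only [Subgroup.coe_mul]
    exact ((Commute.refl z).zpow_zpow k l).eq
  have hr : Group.IsSolvable φ.range :=
    Group.isSolvable_of_surjective φ.rangeRestrict_surjective
  have : φ.range = D ⊔ Subgroup.zpowers z := by
    rw [MonoidHom.noncommCoprod_range, Subgroup.range_subtype, Subgroup.range_subtype]
  rw [← this]
  exact hr

lemma three_solvable_of_commute {n : ℕ} (x y z : Perm (Fin n))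
    (hx : x.IsSwap) (hy : y.IsSwap) (hzx : Commute x z) (hzy : Commute y z) :
    Group.IsSolvable (Subgroup.closure ({x, y} : Set (Perm (Fin n))) ⊔ Subgroup.zpowers z :
      Subgroup (Perm (Fin n))) := by
  apply sup_zpowers_solvable
  · intro d hd
    have : Subgroup.closure ({x, y} : Set (Perm (Fin n))) ≤ Subgroup.centralizer {z} := by
      rw [Subgroup.closure_le]
      intro t ht
      rcases ht with rfl | rfl
      · exact Subgroup.mem_centralizer_singleton_iff.2 hzx.eq
      · exact Subgroup.mem_centralizer_singleton_iff.2 hzy.eq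
    exact (Subgroup.mem_centralizer_singleton_iff.1 (this hd))
  · apply closure_solvable_of_support _ (x.support ∪ y.support)
    · calc (x.support ∪ y.support).card ≤ x.support.card + y.support.card := Finset.card_union_le _ _
        _ = 4 := by rw [Perm.card_support_eq_two.2 hx, Perm.card_support_eq_two.2 hy]
    · intro t ht
      rcases ht with rfl | rfl
      · exact Finset.subset_union_left
      · exact Finset.subset_union_right

/-- In a finite symmetric group, any three transpositions generate a solvable subgroup. -/
theorem result (n : ℕ) (a b c : Equiv.Perm (Fin n))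
    (ha : a.IsSwap) (hb : b.IsSwap) (hc : c.IsSwap) :
    Group.IsSolvable (Subgroup.closure ({a, b, c} : Set (Equiv.Perm (Fin n)))) := by
  classical
  have hA := Perm.card_support_eq_two.2 ha
  have hB := Perm.card_support_eq_two.2 hb
  have hC := Perm.card_support_eq_two.2 hc
  by_cases h1 : Disjoint a.support (b.support ∪ c.support)
  · -- a commutes with b and c
    rw [Finset.disjoint_union_right] at h1
    have hab : Commute b a := (Perm.disjoint_iff_disjoint_support.2 h1.1).commute.symm
    have hac : Commute c a := (Perm.disjoint_iff_disjoint_support.2 h1.2).commute.symm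
    refine solvable_of_le ?_ (three_solvable_of_commute b c a hb hc hab hac)
    rw [Subgroup.closure_le]
    intro t ht
    rcases ht with rfl | rfl | rfl
    · exact (le_sup_right : Subgroup.zpowers t ≤ _) (Subgroup.mem_zpowers t)
    · exact (le_sup_left : Subgroup.closure _ ≤ _) (Subgroup.subset_closure (by simp))
    · exact (le_sup_left : Subgroup.closure _ ≤ _) (Subgroup.subset_closure (by simp))
  by_cases h2 : Disjoint b.support (a.support ∪ c.support)
  · rw [Finset.disjoint_union_right] at h2
    have hba : Commute a b := (Perm.disjoint_iff_disjoint_support.2 h2.1).commute.symm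
    have hbc : Commute c b := (Perm.disjoint_iff_disjoint_support.2 h2.2).commute.symm
    refine solvable_of_le ?_ (three_solvable_of_commute a c b ha hc hba hbc)
    rw [Subgroup.closure_le]
    intro t ht
    rcases ht with rfl | rfl | rfl
    · exact (le_sup_left : Subgroup.closure _ ≤ _) (Subgroup.subset_closure (by simp))
    · exact (le_sup_right : Subgroup.zpowers t ≤ _) (Subgroup.mem_zpowers t)
    · exact (le_sup_left : Subgroup.closure _ ≤ _) (Subgroup.subset_closure (by simp))
  by_cases h3 : Disjoint c.support (a.support ∪ b.support)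
  · rw [Finset.disjoint_union_right] at h3
    have hca : Commute a c := (Perm.disjoint_iff_disjoint_support.2 h3.1).commute.symm
    have hcb : Commute b c := (Perm.disjoint_iff_disjoint_support.2 h3.2).commute.symm
    refine solvable_of_le ?_ (three_solvable_of_commute a b c ha hb hca hcb)
    rw [Subgroup.closure_le]
    intro t ht
    rcases ht with rfl | rfl | rfl
    · exact (le_sup_left : Subgroup.closure _ ≤ _) (Subgroup.subset_closure (by simp))
    · exact (le_sup_left : Subgroup.closure _ ≤ _) (Subgroup.subset_closure (by simp))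
    · exact (le_sup_right : Subgroup.zpowers t ≤ _) (Subgroup.mem_zpowers t)
  -- all three meet the others: the union of supports has at most 4 points
  apply closure_solvable_of_support _ (a.support ∪ b.support ∪ c.support)
  · -- key counting
    have key : ∀ (P Q R : Finset (Fin n)), P.card = 2 → Q.card = 2 → R.card = 2 →
        ¬ Disjoint P Q → ¬ Disjoint R (P ∪ Q) → (P ∪ Q ∪ R).card ≤ 4 := by
      intro P Q R hP hQ hR hPQ hRPQ
      have e1 := Finset.card_union_add_card_inter P Q
      have e2 := Finset.card_union_add_card_inter (P ∪ Q) R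
      have i1 : 1 ≤ (P ∩ Q).card := by
        rw [Finset.disjoint_iff_inter_eq_empty] at hPQ
        exact Finset.card_pos.2 (Finset.nonempty_iff_ne_empty.2 hPQ)
      have i2 : 1 ≤ ((P ∪ Q) ∩ R).card := by
        rw [disjoint_comm, Finset.disjoint_iff_inter_eq_empty] at hRPQ
        exact Finset.card_pos.2 (Finset.nonempty_iff_ne_empty.2 hRPQ)
      omega
    rw [Finset.disjoint_union_right, not_and_or] at h1
    rcases h1 with h1 | h1
    · exact key _ _ _ hA hB hC h1 h3
    · -- a meets c; b meets a ∪ c
      have := key _ _ _ hA hC hB h1 h2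
      have e : a.support ∪ b.support ∪ c.support = a.support ∪ c.support ∪ b.support := by
        ext x; simp only [Finset.mem_union]; tauto
      rw [e]; exact this
  · intro t ht
    rcases ht with rfl | rfl | rfl
    · intro x hx; simp only [Finset.mem_union]; tauto
    · intro x hx; simp only [Finset.mem_union]; tauto
    · intro x hx; simp only [Finset.mem_union]; tauto

end Cfsg.Agent.S4337
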