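import Cfsg.Statements.S4341
import Mathlib
import Cfsg.Agent.Lib.H21.SylowFrattini

set_option autoImplicit false
open Cfsg

namespace Cfsg.Agent.S4341

open Cfsg.Agent.Lib.H21 Subgroup

/-- Let K be a normal subgroup of a finite group G, p a prime and P a Sylow p-subgroup of G; let N be the normalizer of P ∩ K inside the subgroup PK. Then the number of Sylow p-subgroups of G equals the product of the numbers of Sylow p-subgroups of G/K, of K, and of N/(P ∩ K). (The normality of P ∩ K in N, which always holds, is assumed as a hypothesis so that the quotient can be formed.) -/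
theorem result {G : Type*} [Group G] [Finite G]
    (p : ℕ) [Fact p.Prime] (K : Subgroup G) [K.Normal] (P : Sylow p G) (N : Subgroup G)
    (hN : N = ((P : Subgroup G) ⊔ K) ⊓ Subgroup.normalizer (((P : Subgroup G) ⊓ K : Subgroup G) : Set G))
    [hn : (((P : Subgroup G) ⊓ K).subgroupOf N).Normal] :
    Nat.card (Sylow p G) =
      Nat.card (Sylow p (G ⧸ K)) * Nat.card (Sylow p K) * Nat.card (Sylow p (N ⧸ ((P : Subgroup G) ⊓ K).subgroupOf N)) := by
  set U : Subgroup G := (P : Subgroup G) ⊔ K with hU
  set D : Subgroup G := (P : Subgroup G) ⊓ K with hD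
  set NP := normalizer ((P : Subgroup G) : Set G) with hNP
  set NU := normalizer (U : Set G) with hNU
  set ND := normalizer (D : Set G) with hND
  have hPU : (P : Subgroup G) ≤ U := le_sup_left
  have hKU : K ≤ U := le_sup_right
  have hDP : D ≤ (P : Subgroup G) := inf_le_left
  have hDK : D ≤ K := inf_le_right
  -- normalizer inclusions
  have hNPNU : NP ≤ NU := by
    intro g hg
    rw [hNU, Subgroup.mem_normalizer_iff]
    have hg' := Subgroup.mem_normalizer_iff.1 hg
    have hconj : ∀ g' : G, g' ∈ NP → ∀ x ∈ U, g' * x * g'⁻¹ ∈ U := by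
      intro g' hg'' x hx
      have hg3 := Subgroup.mem_normalizer_iff.1 hg''
      rw [hU] at hx ⊢
      rw [Subgroup.mem_sup_of_normal_right] at hx
      obtain ⟨a, ha, b, hb, rfl⟩ := hx
      have : g' * (a * b) * g'⁻¹ = (g' * a * g'⁻¹) * (g' * b * g'⁻¹) := by group
      rw [this]
      exact Subgroup.mul_mem_sup ((hg3 a).1 ha) (‹K.Normal›.conj_mem b hb g')
    intro x
    constructor
    · exact hconj g hg x
    · intro hx
      have := hconj g⁻¹ (NP.inv_mem hg) _ hx
      simpa [mul_assoc] using this
  have hNPND : NP ≤ ND := by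
    intro g hg
    rw [hND, Subgroup.mem_normalizer_iff]
    have hg' := Subgroup.mem_normalizer_iff.1 hg
    intro x
    rw [hD, Subgroup.mem_inf, Subgroup.mem_inf]
    constructor
    · rintro ⟨h1, h2⟩
      exact ⟨(hg' x).1 h1, ‹K.Normal›.conj_mem x h2 g⟩
    · rintro ⟨h1, h2⟩
      refine ⟨(hg' x).2 h1, ?_⟩
      have := ‹K.Normal›.conj_mem _ h2 g⁻¹
      simpa [mul_assoc] using this
  have hPNP : (P : Subgroup G) ≤ NP := Subgroup.le_normalizer
  have hPN : (P : Subgroup G) ≤ N := by
    rw [hN]; exact le_inf hPU (le_trans hPNP hNPND)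
  have hNU' : N ≤ U := by rw [hN]; exact inf_le_left
  -- p-group facts
  have hPp : IsPGroup p (P : Subgroup G) := P.isPGroup'
  have hDp : IsPGroup p D := hPp.to_le hDP
  have hPidx : ¬ p ∣ (P : Subgroup G).index := P.not_dvd_index
  have hPrel : ∀ L : Subgroup G, (P : Subgroup G) ≤ L → ¬ p ∣ (P : Subgroup G).relIndex L :=
    fun L hL h => hPidx (dvd_trans h (Subgroup.relIndex_dvd_index_of_le hL))
  have hDrel : ¬ p ∣ D.relIndex K := by
    have h1 : D.relIndex K = (P : Subgroup G).relIndex K := by
      rw [hD]; exact Subgroup.inf_relIndex_right _ _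
    have h2 : (P : Subgroup G).relIndex ((P : Subgroup G) ⊔ K) = (P : Subgroup G).relIndex K :=
      relIndex_sup_of_normal K (P : Subgroup G)
    rw [h1, ← h2]
    exact hPrel _ hPU
  -- the four Sylow numbers
  have e1 : Nat.card (Sylow p G) = NP.index := P.card_eq_index_normalizer
  have e2 : Nat.card (Sylow p (G ⧸ K)) = NU.index := card_sylow_quotient K P
  have e3 : Nat.card (Sylow p K) = ND.relIndex K :=
    card_sylow_subgroup_eq_relIndex K D hDK hDp hDrel
  have e4 : Nat.card (Sylow p (N ⧸ ((P : Subgroup G) ⊓ K).subgroupOf N)) = NP.relIndex N := by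
    have hle : ((P : Subgroup G) ⊓ K).subgroupOf N ≤ ((P.subtype hPN : Sylow p N) : Subgroup N) := by
      intro x hx
      exact hDP hx
    rw [card_sylow_quotient_of_le _ (P.subtype hPN) hle]
    exact card_sylow_subgroup_eq_relIndex N (P : Subgroup G) hPN hPp (hPrel N hPN)
  -- index computations
  have i1 : NP.index = NP.relIndex NU * NU.index := (Subgroup.relIndex_mul_index hNPNU).symm
  have i2 : NP.relIndex NU = NP.relIndex U :=
    relIndex_normalizer_eq_of_le_normalizer U NU (P : Subgroup G) Subgroup.le_normalizer le_rfl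
      hPU hPp (hPrel U hPU)
  have i3 : ND.relIndex U = ND.relIndex K :=
    relIndex_normalizer_eq_of_le_normalizer K U D hKU
      (by rw [Subgroup.normalizer_eq_top_iff.2 ‹K.Normal›]; exact le_top) hDK hDp hDrel
  have i4 : N.relIndex U = ND.relIndex U := by
    rw [hN]; exact Subgroup.inf_relIndex_left _ _
  have i5 : NP.relIndex U = NP.relIndex N * N.relIndex U := by
    have hle : NP ⊓ U ≤ N := by
      rw [hN]; exact le_inf inf_le_right (le_trans inf_le_left hNPND)
    have h1 := Subgroup.relIndex_mul_relIndex (NP ⊓ U) N U hle hNU'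
    rw [Subgroup.inf_relIndex_right] at h1
    rw [← h1]
    congr 1
    rw [← Subgroup.inf_relIndex_right NP N, ← Subgroup.inf_relIndex_right (NP ⊓ U) N]
    congr 1
    rw [inf_assoc, inf_of_le_right hNU']
  rw [e1, e2, e3, e4, i1, i2, i5, i4, i3]
  ring

end Cfsg.Agent.S4341
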