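import Cfsg.Statements.S4343
import Mathlib
import Cfsg.Agent.Lib.H1.PCore

set_option autoImplicit false
open Cfsg

namespace Cfsg.Agent.S4343

open Cfsg.Agent.Lib.H1
open Pointwise

/-- The index of `P ⊓ Q` in `P` is at most the number of Sylow subgroups. -/
lemma relIndex_le {S : Type*} [Group S] [Finite S] {p : ℕ} [Fact p.Prime] (P Q : Sylow p S) :
    ((P : Subgroup S) ⊓ Q).relIndex P ≤ Nat.card (Sylow p S) := by
  have h1 : MulAction.stabilizer (↥(P : Subgroup S)) Q
      = ((P : Subgroup S) ⊓ Q).subgroupOf P := by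
    ext x
    rw [MulAction.mem_stabilizer_iff, MulAction.subgroup_smul_def,
      Sylow.smul_eq_iff_mem_normalizer, Subgroup.mem_subgroupOf]
    constructor
    · intro hx
      rw [← P.2.inf_normalizer_sylow Q]
      exact ⟨x.2, hx⟩
    · intro hx
      exact Subgroup.le_normalizer hx.2
  have h2 := MulAction.index_stabilizer (↥(P : Subgroup S)) Q
  rw [h1] at h2
  rw [Subgroup.relIndex, h2, ← Nat.card_coe_set_eq]
  exact Nat.card_le_card_of_injective _ Subtype.val_injective

/-- Under the hypothesis, `P ⊓ Q` has index `1` or `p` in `P`. -/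
lemma relIndex_dvd {S : Type*} [Group S] [Finite S] {p : ℕ} [Fact p.Prime]
    (hn : Nat.card (Sylow p S) < p ^ 2) (P Q : Sylow p S) :
    ((P : Subgroup S) ⊓ Q).relIndex P ∣ p := by
  have hp : p.Prime := Fact.out
  obtain ⟨k, hk⟩ := P.2.index (((P : Subgroup S) ⊓ Q).subgroupOf P)
  have hlt : p ^ k < p ^ 2 := by
    rw [← hk]; exact lt_of_le_of_lt (relIndex_le P Q) hn
  have hk2 : k < 2 := (Nat.pow_lt_pow_iff_right hp.one_lt).mp hlt
  rw [Subgroup.relIndex, hk]
  interval_cases k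
  · simp
  · simp

/-- `P ≤ N(P ⊓ Q)`. -/
lemma le_normalizer_inf {S : Type*} [Group S] [Finite S] {p : ℕ} [Fact p.Prime]
    (hn : Nat.card (Sylow p S) < p ^ 2) (P Q : Sylow p S) :
    (P : Subgroup S) ≤ Subgroup.normalizer (((P : Subgroup S) ⊓ Q : Subgroup S) : Set S) := by
  have hp : p.Prime := Fact.out
  have hd := relIndex_dvd hn P Q
  have hnorm : (((P : Subgroup S) ⊓ Q).subgroupOf P).Normal := by
    rcases (Nat.dvd_prime hp).mp hd with h | h
    · rw [Subgroup.relIndex, Subgroup.index_eq_one] at h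
      rw [h]; infer_instance
    · apply Subgroup.normal_of_index_eq_minFac_card
      rw [← Subgroup.relIndex, h]
      obtain ⟨m, hm⟩ := IsPGroup.iff_card.mp P.2
      have hm0 : m ≠ 0 := by
        rintro rfl
        rw [pow_zero] at hm
        have : ((P : Subgroup S) ⊓ Q).relIndex P ∣ Nat.card (P : Subgroup S) :=
          Subgroup.index_dvd_card _
        rw [hm, h] at this
        exact hp.one_lt.ne' (Nat.dvd_one.mp this)
      rw [hm, Nat.Prime.pow_minFac hp hm0]
  have := Subgroup.normal_subgroupOf_iff_le_normalizer (H := (P : Subgroup S) ⊓ Q) (K := P)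
    inf_le_left
  exact this.mp hnorm

/-- Brodkey-type lemma: a minimal intersection of two Sylow subgroups lies in every Sylow
subgroup. -/
lemma min_inf_le {S : Type*} [Group S] [Finite S] {p : ℕ} [Fact p.Prime]
    (hn : Nat.card (Sylow p S) < p ^ 2) (P0 Q0 : Sylow p S)
    (hmin : ∀ P Q : Sylow p S, Nat.card ↥((P0 : Subgroup S) ⊓ Q0) ≤ Nat.card ↥((P : Subgroup S) ⊓ Q))
    (R : Sylow p S) : (P0 : Subgroup S) ⊓ Q0 ≤ R := by
  set D : Subgroup S := (P0 : Subgroup S) ⊓ Q0 with hD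
  set N : Subgroup S := Subgroup.normalizer (D : Set S) with hN
  have hPN : (P0 : Subgroup S) ≤ N := le_normalizer_inf hn P0 Q0
  have hQN : (Q0 : Subgroup S) ≤ N := by
    have := le_normalizer_inf hn Q0 P0
    rwa [inf_comm] at this
  have hRN : IsPGroup p ((R : Subgroup S).subgroupOf N) := R.2.comap_subtype
  obtain ⟨R', hR'⟩ := hRN.exists_le_sylow
  obtain ⟨n, hn'⟩ := MulAction.exists_smul_eq N (P0.subtype hPN) R'
  rw [Sylow.smul_subtype hPN n] at hn'
  have hle : (R : Subgroup S) ⊓ N ≤ ((n • P0 : Sylow p S) : Subgroup S) := by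
    intro x hx
    have h1 : (⟨x, hx.2⟩ : N) ∈ (R : Subgroup S).subgroupOf N := hx.1
    have h2 := hR' h1
    rw [← hn'] at h2
    exact h2
  have hnQ : ((n • Q0 : Sylow p S) : Subgroup S) ≤ N := Sylow.smul_le hQN n
  have key : (R : Subgroup S) ⊓ ((n • Q0 : Sylow p S) : Subgroup S) ≤ D := by
    intro x hx
    have hx1 : x ∈ ((n • P0 : Sylow p S) : Subgroup S) := hle ⟨hx.1, hnQ hx.2⟩
    have hx2 : x ∈ ((n • Q0 : Sylow p S) : Subgroup S) := hx.2
    have hx1' : x ∈ MulAut.conj (n : S) • (P0 : Subgroup S) := hx1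
    have hx2' : x ∈ MulAut.conj (n : S) • (Q0 : Subgroup S) := hx2
    rw [mem_conj_smul_iff] at hx1' hx2'
    have hy : (n : S)⁻¹ * x * n ∈ D := ⟨hx1', hx2'⟩
    have hnN : (n : S) ∈ Subgroup.normalizer (D : Set S) := n.2
    have := (Subgroup.mem_normalizer_iff.mp hnN _).mp hy
    simpa [mul_assoc] using this
  have hcard := hmin R (n • Q0)
  have heq : (R : Subgroup S) ⊓ ((n • Q0 : Sylow p S) : Subgroup S) = D :=
    Subgroup.eq_of_le_of_card_ge key hcard
  rw [← heq]
  exact inf_le_left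

theorem result {S : Type*} [Group S] [Finite S]
    [IsSimpleGroup S] (hS : ¬ IsMulCommutative S) (p : ℕ) [Fact p.Prime] (hp : p ∣ Nat.card S)
    (hn : Nat.card (Sylow p S) < p ^ 2) (P : Sylow p S) : Nat.card P = p := by
  classical
  have hpp : p.Prime := Fact.out
  obtain ⟨⟨P0, Q0⟩, hmin⟩ := Finite.exists_min
    (fun PQ : Sylow p S × Sylow p S => Nat.card ↥((PQ.1 : Subgroup S) ⊓ PQ.2))
  have hmin' : ∀ P Q : Sylow p S,
      Nat.card ↥((P0 : Subgroup S) ⊓ Q0) ≤ Nat.card ↥((P : Subgroup S) ⊓ Q) :=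
    fun P Q => hmin (P, Q)
  have hD : ∀ R : Sylow p S, (P0 : Subgroup S) ⊓ Q0 ≤ R := min_inf_le hn P0 Q0 hmin'
  have hDbot : (P0 : Subgroup S) ⊓ Q0 = ⊥ := by
    have hK : (P0 : Subgroup S) ⊓ Q0 ≤ ⨅ R : Sylow p S, (R : Subgroup S) := le_iInf hD
    have hKn := iInf_sylow_normal p S
    rcases hKn.eq_bot_or_eq_top with h | h
    · rw [h] at hK; exact le_bot_iff.mp hK
    · exfalso
      have hP0 : (P0 : Subgroup S) = ⊤ := top_le_iff.mp (h ▸ iInf_le _ P0)
      have hSp : IsPGroup p S := by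
        intro g
        obtain ⟨k, hk⟩ := P0.2 ⟨g, hP0 ▸ Subgroup.mem_top g⟩
        exact ⟨k, by simpa [Subtype.ext_iff] using hk⟩
      have : Nontrivial S := IsSimpleGroup.toNontrivial
      have hZ : Subgroup.center S ≠ ⊥ := by
        have := hSp.center_nontrivial
        exact (Subgroup.nontrivial_iff_ne_bot _).mp this
      have hZt : Subgroup.center S = ⊤ :=
        ((Subgroup.instNormalCenter : (Subgroup.center S).Normal).eq_bot_or_eq_top).resolve_left hZ
      apply hS
      refine ⟨⟨fun a b => ?_⟩⟩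
      have hb : b ∈ Subgroup.center S := hZt ▸ Subgroup.mem_top b
      exact (Subgroup.mem_center_iff.mp hb a)
  have h1 : Nat.card (P0 : Subgroup S) ∣ p := by
    have := relIndex_dvd hn P0 Q0
    rwa [hDbot, Subgroup.relIndex_bot_left] at this
  have h2 : Nat.card (P : Subgroup S) = Nat.card (P0 : Subgroup S) := by
    rw [Sylow.card_eq_multiplicity, Sylow.card_eq_multiplicity]
  have h3 : p ∣ Nat.card (P : Subgroup S) := P.dvd_card_of_dvd_card hp
  rw [h2] at h3 ⊢
  exact Nat.dvd_antisymm h1 h3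

end Cfsg.Agent.S4343
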