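import Cfsg.Statements.S4344

set_option autoImplicit false
open Cfsg

namespace Cfsg.Agent.S4344

open scoped Pointwise

/-- Let S be a finite non-abelian simple group, M a maximal subgroup of S and C a cyclic normal subgroup of M. If a Sylow p-subgroup P of S (for a prime p dividing the order of S) is contained in C, then the number of Sylow p-subgroups of S equals the index of M. -/
theorem result {S : Type*} [Group S] [Finite S]
    [IsSimpleGroup S] (hS : ¬ IsMulCommutative S) (p : ℕ) [Fact p.Prime] (hp : p ∣ Nat.card S)
    (M : Subgroup S) (hM : IsCoatom M) (C : Subgroup S) (hCM : C ≤ M) (hCn : (C.subgroupOf M).Normal)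
    (hC : IsCyclic C) (P : Sylow p S) (hP : (P : Subgroup S) ≤ C) :
    Nat.card (Sylow p S) = M.index := by
  -- all Sylow p-subgroups of C coincide
  have hsub : Subsingleton (Sylow p C) := by
    have hnorm : ((P.subtype hP : Sylow p C) : Subgroup C).Normal := by
      refine ⟨fun n hn g => ?_⟩
      have : g * n * g⁻¹ = n := by
        rw [mul_comm' g n]; group
      rw [this]; exact hn
    have := Sylow.unique_of_normal (P.subtype hP) hnorm
    infer_instance
  -- M normalizes P
  have hMN : M ≤ Subgroup.normalizer (P : Set S) := by
    intro m hm
    rw [← Sylow.smul_eq_iff_mem_normalizer]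
    have hQ : ((m • P : Sylow p S) : Subgroup S) ≤ C := by
      rw [Sylow.coe_subgroup_smul]
      intro y hy
      rw [Subgroup.mem_pointwise_smul_iff_inv_smul_mem] at hy
      have hy' : m⁻¹ * y * m ∈ C := by
        apply hP
        simpa [MulAut.smul_def, mul_assoc] using hy
      -- conjugate back by m, using normality of C in M
      have h1 := hCn.conj_mem ⟨m⁻¹ * y * m, hCM hy'⟩ (by simpa [Subgroup.mem_subgroupOf] using hy') ⟨m, hm⟩
      rw [Subgroup.mem_subgroupOf] at h1
      simpa [mul_assoc] using h1
    have := Subsingleton.elim ((m • P : Sylow p S).subtype hQ) (P.subtype hP)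
    exact Sylow.subtype_injective this
  rw [P.card_eq_index_normalizer]
  rcases hM.le_iff.mp hMN with h | h
  · -- normalizer is everything: contradiction
    exfalso
    have hPn : (P : Subgroup S).Normal := Subgroup.normalizer_eq_top_iff.mp h
    rcases hPn.eq_bot_or_eq_top with hb | ht
    · exact P.ne_bot_of_dvd_card hp hb
    · apply hS
      have hpg : IsPGroup p S := by
        have := P.isPGroup'
        rw [ht] at this
        exact this.of_equiv Subgroup.topEquiv
      have hcn := hpg.center_nontrivial
      have hcen : Subgroup.center S = ⊤ := by
        rcases (inferInstance : (Subgroup.center S).Normal).eq_bot_or_eq_top with hb | ht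
        · exfalso
          rw [hb] at hcn
          exact not_nontrivial _ hcn
        · exact ht
      rw [isMulCommutative_iff]
      intro a b
      have : a ∈ Subgroup.center S := by rw [hcen]; trivial
      exact ((Subgroup.mem_center_iff.mp this) b).symm
  · rw [h]

end Cfsg.Agent.S4344
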