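import Cfsg.Statements.S4347

set_option autoImplicit false
open Cfsg

namespace Cfsg.Agent.S4347

open scoped Pointwise

theorem mem_smul_sylow {G : Type*} [Group G] {p : ℕ} (g x : G) (P : Sylow p G) :
    g * x * g⁻¹ ∈ g • P ↔ x ∈ P := by
  show g * x * g⁻¹ ∈ MulAut.conj g • (P : Subgroup G) ↔ x ∈ (P : Subgroup G)
  rw [Subgroup.mem_pointwise_smul_iff_inv_smul_mem]
  simp [MulAut.smul_def, mul_assoc]

theorem pElt_mem_sylow {G : Type*} [Group G] [Finite G] {p : ℕ} [Fact p.Prime] (x : G)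
    (hx : ∃ k : ℕ, orderOf x = p ^ k) : ∃ P : Sylow p G, x ∈ P := by
  obtain ⟨k, hk⟩ := hx
  have hP : IsPGroup p (Subgroup.zpowers x) := by
    apply IsPGroup.of_card (n := k)
    rw [Nat.card_zpowers, hk]
  obtain ⟨Q, hQ⟩ := hP.exists_le_sylow
  exact ⟨Q, hQ (Subgroup.mem_zpowers x)⟩

/-- Let G be a finite group and p a prime. Say a Sylow p-subgroup Q is redundant when every element of p-power order lies in some Sylow p-subgroup other than Q. Then G has no redundant Sylow p-subgroup if and only if some element of p-power order lies in exactly one Sylow p-subgroup. -/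
theorem result {G : Type*} [Group G] [Finite G]
    (p : ℕ) [Fact p.Prime] :
    (¬ ∃ Q : Sylow p G, ∀ x : G, (∃ k : ℕ, orderOf x = p ^ k) → ∃ P : Sylow p G, P ≠ Q ∧ x ∈ P) ↔
      ∃ x : G, (∃ k : ℕ, orderOf x = p ^ k) ∧ ∃! P : Sylow p G, x ∈ P := by
  constructor
  · intro h
    push Not at h
    obtain ⟨Q⟩ : Nonempty (Sylow p G) := inferInstance
    obtain ⟨x, hx, hxQ⟩ := h Q
    obtain ⟨P0, hP0⟩ := pElt_mem_sylow x hx
    have hPQ : P0 = Q := by
      by_contra hne
      exact hxQ P0 hne hP0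
    refine ⟨x, hx, Q, hPQ ▸ hP0, ?_⟩
    intro P hP
    by_contra hne
    exact hxQ P hne hP
  · rintro ⟨x, hx, P0, hxP0, huniq⟩ ⟨Q, hQ⟩
    obtain ⟨g, hg⟩ := MulAction.exists_smul_eq G P0 Q
    have hy : ∃ k : ℕ, orderOf (g * x * g⁻¹) = p ^ k := by
      obtain ⟨k, hk⟩ := hx
      refine ⟨k, ?_⟩
      have := (MulAut.conj g).orderOf_eq x
      rw [← hk, ← this]; simp [MulAut.conj_apply]
    obtain ⟨P, hPQ, hyP⟩ := hQ _ hy
    have h1 : x ∈ g⁻¹ • P := by
      have := (mem_smul_sylow g⁻¹ (g * x * g⁻¹) P).mpr hyP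
      simpa [mul_assoc] using this
    have h2 : g⁻¹ • P = P0 := huniq _ h1
    apply hPQ
    rw [← hg, ← h2, smul_inv_smul]

end Cfsg.Agent.S4347
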