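import Cfsg.Statements.S4354
import Cfsg.Agent.Lib.H20.PCentral2

set_option autoImplicit false
open Cfsg

namespace Cfsg.Agent.S4354

/-- Let G be a finite group and p a prime such that the Sylow p-subgroups of G are non-abelian while every element of p-power order has conjugacy class size prime to p, and suppose no nontrivial proper normal subgroup N of G has this property and no quotient G/N by such an N has it. Then G is simple. -/
theorem result {G : Type*} [Group G] [Finite G]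
    (p : ℕ) [Fact p.Prime] (h : ((∃ P : Sylow p G, ¬ IsMulCommutative P) ∧ ∀ x : G, (∃ k : ℕ, orderOf x = p ^ k) → ¬ p ∣ (Subgroup.centralizer ({x} : Set G)).index))
    (hmin : ∀ (N : Subgroup G) [N.Normal], N ≠ ⊥ → N ≠ ⊤ →
      ¬ ((∃ P : Sylow p N, ¬ IsMulCommutative P) ∧ ∀ x : N, (∃ k : ℕ, orderOf x = p ^ k) → ¬ p ∣ (Subgroup.centralizer ({x} : Set N)).index) ∧
      ¬ ((∃ P : Sylow p (G ⧸ N), ¬ IsMulCommutative P) ∧ ∀ x : (G ⧸ N), (∃ k : ℕ, orderOf x = p ^ k) → ¬ p ∣ (Subgroup.centralizer ({x} : Set (G ⧸ N))).index)) :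
    IsSimpleGroup G := by
  classical
  obtain ⟨⟨P₀, hP₀⟩, hPC⟩ := h
  have hPCS : Cfsg.Agent.Lib.H20.PCen.PCS p G := Cfsg.Agent.Lib.H20.PCen.pcs_of_pc hPC
  haveI : Nontrivial G := by
    by_contra hnt
    rw [not_nontrivial_iff_subsingleton] at hnt
    exact hP₀ ⟨⟨fun a b => Subsingleton.elim _ _⟩⟩
  refine ⟨fun N hN => ?_⟩
  by_contra hcon
  push_neg at hcon
  obtain ⟨hbot, htop⟩ := hcon
  haveI := hN
  obtain ⟨h1, h2⟩ := hmin N hbot htop
  have hNab : ∀ R : Sylow p N, ∀ a b : R, a * b = b * a := by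
    intro R
    by_contra hc
    apply h1
    refine ⟨⟨R, fun hcomm => hc (fun a b => ?_)⟩,
      Cfsg.Agent.Lib.H20.PCen.pc_of_pcs (Cfsg.Agent.Lib.H20.PCen.pcs_normal hPCS N)⟩
    exact hcomm.is_comm.comm a b
  have hQab : ∀ R : Sylow p (G ⧸ N), ∀ a b : R, a * b = b * a := by
    intro R
    by_contra hc
    apply h2
    refine ⟨⟨R, fun hcomm => hc (fun a b => ?_)⟩,
      Cfsg.Agent.Lib.H20.PCen.pc_of_pcs (Cfsg.Agent.Lib.H20.PCen.pcs_quotient hPCS N)⟩
    exact hcomm.is_comm.comm a b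
  apply hP₀
  exact ⟨⟨fun a b => Subtype.ext
    (Cfsg.Agent.Lib.H20.PCen.sylow_comm N hPCS hNab hQab P₀ a.2 b.2)⟩⟩

end Cfsg.Agent.S4354
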