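-- Statement S4359 (row 4359): Glauberman, "Normalizers of p-subgroups in finite groups" (1969), Theorem 1.
-- Proof: tools/blueprints/S4359.md (helper5, complete elementary proof via the uniserial chain x_i, the non-commuting
-- distance q, Z(I[a,b]) = I[b-q+1,a+q-1], 2t <= 3q, and (H2) => q <= n or 2q <= n+t); pieces by helper1, 2, 5, 13, 14, 15, 16,
-- 20, 24, 25, 26; assembly Cfsg/Agent/Lib/H5/Glaub/Main.lean.
import Cfsg.Statements.S4359
import Cfsg.Agent.Lib.H5.Glaub.Main

set_option autoImplicit false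
open Pointwise
open Cfsg

namespace Cfsg.Agent.S4359

/-- Let P be a subgroup of a finite group G and g an element such that P ∩ g⁻¹Pg is a normal subgroup of prime index p in g⁻¹Pg. Let n ≥ 1 and let K be the subgroup generated by P and its conjugates g⁻ⁱPgⁱ for i ≤ n. Suppose that g normalizes no non-identity normal subgroup of P and that P meets the center of K trivially. Then the order of P is pᵗ for some t with 1 ≤ t ≤ 3n and t ≠ 3n - 1. -/
theorem result {G : Type*} [Group G] [Finite G]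
    (P : Subgroup G) (g : G) (p : ℕ) (hp : p.Prime)
    (hN : ((P ⊓ MulAut.conj g⁻¹ • P).subgroupOf (MulAut.conj g⁻¹ • P)).Normal)
    (hidx : (P ⊓ MulAut.conj g⁻¹ • P).relIndex (MulAut.conj g⁻¹ • P) = p)
    (n : ℕ) (hn : 1 ≤ n) (K : Subgroup G) (hK : K = ⨆ i ∈ Finset.range (n + 1), MulAut.conj (g ^ i)⁻¹ • P)
    (h1 : ∀ Q : Subgroup G, Q ≤ P → (Q.subgroupOf P).Normal → MulAut.conj g • Q = Q → Q = ⊥)
    (h2 : P ⊓ (Subgroup.center K).map K.subtype = ⊥) :
    ∃ t : ℕ, Nat.card P = p ^ t ∧ 1 ≤ t ∧ t ≤ 3 * n ∧ t ≠ 3 * n - 1 := by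
  let S : Cfsg.Agent.Lib.H5.Glaub.Setup G :=
    { P := P, h := g⁻¹, p := p, hp := hp, norm := hN, idx := hidx,
      core := fun Q hQP hQn hQh => h1 Q hQP hQn (by
        have : MulAut.conj g • (MulAut.conj g⁻¹ • Q) = MulAut.conj g • Q := by rw [hQh]
        rw [smul_smul, ← map_mul, mul_inv_cancel, map_one, one_smul] at this
        exact this.symm) }
  have hKS : S.K n = K := by
    rw [hK]
    unfold Cfsg.Agent.Lib.H5.Glaub.Setup.K Cfsg.Agent.Lib.H5.Glaub.Setup.Pj
    refine iSup_congr fun i => iSup_congr fun _ => ?_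
    show MulAut.conj (g⁻¹ ^ (i : ℤ)) • P = MulAut.conj (g ^ i)⁻¹ • P
    rw [zpow_natCast, inv_pow]
  have h2' : S.P ⊓ (Subgroup.center (S.K n)).map (S.K n).subtype = ⊥ := by
    rw [hKS]; exact h2
  exact Cfsg.Agent.Lib.H5.Glaub.main S n hn h2'

end Cfsg.Agent.S4359
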