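import Mathlib
import Cfsg.Statements.S4365
import Cfsg.Agent.Lib.H15.Card
import Cfsg.Agent.Lib.H20.ConjClass

set_option autoImplicit false
open Cfsg

namespace Cfsg.Agent.S4365

open scoped commutatorElement

variable {P : Type*} [Group P]

/-- centralizer of a single element -/
abbrev cen (x : P) : Subgroup P := Subgroup.centralizer ({x} : Set P)

theorem mem_cen {x y : P} : y ∈ cen x ↔ y * x = x * y :=
  Subgroup.mem_centralizer_singleton_iff

theorem self_mem_cen (x : P) : x ∈ cen x := mem_cen.2 rfl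

theorem center_le_cen (x : P) : Subgroup.center P ≤ cen x := by
  intro c hc
  rw [mem_cen]
  exact (Subgroup.mem_center_iff.1 hc x).symm

theorem cen_le_cen_pow (x : P) (n : ℕ) : cen x ≤ cen (x ^ n) := by
  intro y hy
  rw [mem_cen] at hy ⊢
  exact ((Commute.pow_right (show Commute y x from hy) n)).eq

theorem cen_mul_central (y : P) {c : P} (hc : c ∈ Subgroup.center P) : cen (y * c) = cen y := by
  ext k
  rw [mem_cen, mem_cen]
  have h1 : k * c = c * k := Subgroup.mem_center_iff.1 hc k
  constructor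
  · intro h
    have : k * y * c = y * k * c := by
      calc k * y * c = k * (y * c) := by group
        _ = y * c * k := h
        _ = y * (c * k) := by group
        _ = y * (k * c) := by rw [h1]
        _ = y * k * c := by group
    exact mul_right_cancel this
  · intro h
    calc k * (y * c) = (k * y) * c := by group
      _ = (y * k) * c := by rw [h]
      _ = y * (k * c) := by group
      _ = y * (c * k) := by rw [h1]
      _ = y * c * k := by group

theorem eq_of_le_of_index_eq [Finite P] {H K : Subgroup P} (h : H ≤ K)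
    (hi : H.index = K.index) : H = K := by
  have h1 := Subgroup.relIndex_mul_index h
  rw [hi] at h1
  have hK : K.index ≠ 0 := Subgroup.index_ne_zero_of_finite
  have h2 : H.relIndex K = 1 := by
    have : H.relIndex K * K.index = 1 * K.index := by rw [h1, one_mul]
    exact Nat.eq_of_mul_eq_mul_right (Nat.pos_of_ne_zero hK) this
  exact le_antisymm h (Subgroup.relIndex_eq_one.1 h2)

theorem not_center_of_pow {x : P} {n : ℕ} (h : x ^ n ∉ Subgroup.center P) :
    x ∉ Subgroup.center P := fun hx => h (Subgroup.pow_mem _ hx n)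

/-- if `[x,z]` is central then `(xz)^n ∈ x^n z^n Z`. -/
theorem mul_pow_mod_center {x z : P} (n : ℕ) (hxz : ⁅x, z⁆ ∈ Subgroup.center P)
    (hz : z ^ n ∈ Subgroup.center P) :
    ∃ c ∈ Subgroup.center P, (x * z) ^ n = x ^ n * c := by
  refine ⟨(x ^ n)⁻¹ * (x * z) ^ n, ?_, by group⟩
  rw [← QuotientGroup.eq (s := Subgroup.center P)]
  have hcomm : Commute (QuotientGroup.mk x : P ⧸ Subgroup.center P) (QuotientGroup.mk z) := by
    rw [← commutatorElement_eq_one_iff_commute]
    have : (QuotientGroup.mk ⁅x, z⁆ : P ⧸ Subgroup.center P) = 1 :=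
      (QuotientGroup.eq_one_iff _).2 hxz
    rw [← this]
    simp [commutatorElement_def]
  have hz1 : (QuotientGroup.mk (z ^ n) : P ⧸ Subgroup.center P) = 1 :=
    (QuotientGroup.eq_one_iff _).2 hz
  calc (QuotientGroup.mk (x ^ n) : P ⧸ Subgroup.center P)
      = QuotientGroup.mk x ^ n * QuotientGroup.mk z ^ n := by
        rw [← QuotientGroup.mk_pow, ← QuotientGroup.mk_pow, hz1, mul_one]
    _ = (QuotientGroup.mk x * QuotientGroup.mk z) ^ n := (hcomm.mul_pow n).symm
    _ = QuotientGroup.mk ((x * z) ^ n) := by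
        rw [QuotientGroup.mk_pow, QuotientGroup.mk_mul]

/-- Key lemma. -/
theorem cen_le_of [Finite P] {N : ℕ}
    (hN : ∀ x : P, x ∉ Subgroup.center P → (cen x).index = N)
    {x z : P} {n : ℕ} (hxz : ⁅x, z⁆ ∈ Subgroup.center P)
    (hz : z ^ n ∈ Subgroup.center P) (hx : x ^ n ∉ Subgroup.center P) :
    cen x ≤ cen z := by
  obtain ⟨c, hc, hc2⟩ := mul_pow_mod_center n hxz hz
  have hxzn : (x * z) ^ n ∉ Subgroup.center P := by
    intro h
    apply hx
    have : x ^ n = (x * z) ^ n * c⁻¹ := by rw [hc2]; group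
    rw [this]
    exact Subgroup.mul_mem _ h (Subgroup.inv_mem _ hc)
  have e1 : cen (x * z) = cen ((x * z) ^ n) :=
    eq_of_le_of_index_eq (cen_le_cen_pow _ n)
      (by rw [hN _ (not_center_of_pow hxzn), hN _ hxzn])
  have e2 : cen x = cen (x ^ n) :=
    eq_of_le_of_index_eq (cen_le_cen_pow _ n)
      (by rw [hN _ (not_center_of_pow hx), hN _ hx])
  have e3 : cen ((x * z) ^ n) = cen (x ^ n) := by rw [hc2, cen_mul_central _ hc]
  have e4 : cen x = cen (x * z) := by rw [e1, e3, e2]
  intro y hy
  have hy2 : y ∈ cen (x * z) := e4 ▸ hy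
  rw [mem_cen] at hy hy2 ⊢
  have : x * (y * z) = x * (z * y) := by
    calc x * (y * z) = (x * y) * z := by group
      _ = (y * x) * z := by rw [hy]
      _ = y * (x * z) := by group
      _ = x * z * y := hy2
      _ = x * (z * y) := by group
  exact mul_left_cancel this

theorem cen_eq_of [Finite P] {N : ℕ}
    (hN : ∀ x : P, x ∉ Subgroup.center P → (cen x).index = N)
    {x z : P} {n : ℕ} (hxz : ⁅x, z⁆ ∈ Subgroup.center P)
    (hz : z ^ n ∈ Subgroup.center P) (hx : x ^ n ∉ Subgroup.center P)
    (hz2 : z ∉ Subgroup.center P) :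
    cen x = cen z :=
  eq_of_le_of_index_eq (cen_le_of hN hxz hz hx)
    (by rw [hN _ (not_center_of_pow hx), hN _ hz2])

/-- Existence of an element `g ∉ Z` with `g^p ∈ Z` and `[g,h] ∈ Z` for all `h`. -/
theorem exists_second_center [Finite P] (p : ℕ) [Fact p.Prime] (hP : IsPGroup p P)
    (hne : ∃ x : P, x ∉ Subgroup.center P) :
    ∃ g : P, g ∉ Subgroup.center P ∧ g ^ p ∈ Subgroup.center P ∧
      ∀ h : P, ⁅h, g⁆ ∈ Subgroup.center P := by
  obtain ⟨x0, hx0⟩ := hne
  have : Nontrivial (P ⧸ Subgroup.center P) := by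
    refine nontrivial_of_ne (QuotientGroup.mk x0) 1 ?_
    intro h
    exact hx0 ((QuotientGroup.eq_one_iff _).1 h)
  have hQ : IsPGroup p (P ⧸ Subgroup.center P) := hP.to_quotient _
  have := hQ.center_nontrivial
  have hZQ : IsPGroup p (Subgroup.center (P ⧸ Subgroup.center P)) := hQ.to_subgroup _
  have hdvd : p ∣ Nat.card (Subgroup.center (P ⧸ Subgroup.center P)) := by
    rcases hZQ.card_eq_or_dvd with h | h
    · exact absurd h (Finite.one_lt_card).ne'
    · exact h
  obtain ⟨⟨q, hq⟩, hqo⟩ := exists_prime_orderOf_dvd_card' p hdvd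
  have hqo' : orderOf q = p := by
    rw [← hqo]
    exact (Subgroup.orderOf_mk q hq).symm
  obtain ⟨g, rfl⟩ := QuotientGroup.mk_surjective q
  refine ⟨g, ?_, ?_, ?_⟩
  · intro hg
    have : (QuotientGroup.mk g : P ⧸ Subgroup.center P) = 1 := (QuotientGroup.eq_one_iff _).2 hg
    rw [this, orderOf_one] at hqo'
    exact (Fact.out : p.Prime).one_lt.ne hqo'
  · rw [← QuotientGroup.eq_one_iff, QuotientGroup.mk_pow, ← hqo']
    exact pow_orderOf_eq_one _
  · intro h
    rw [← QuotientGroup.eq_one_iff]
    have : (QuotientGroup.mk ⁅h, g⁆ : P ⧸ Subgroup.center P)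
        = ⁅(QuotientGroup.mk h : P ⧸ Subgroup.center P), QuotientGroup.mk g⁆ := by
      simp [commutatorElement_def]
    rw [this, commutatorElement_eq_one_iff_commute]
    exact (Subgroup.mem_center_iff.1 hq (QuotientGroup.mk h))


/-- `A = Z(C(g))` as a subgroup of `P`. -/
abbrev zcen (g : P) : Subgroup P := cen g ⊓ Subgroup.centralizer (cen g : Set P)

theorem center_le_zcen (g : P) : Subgroup.center P ≤ zcen g :=
  le_inf (center_le_cen g) (Subgroup.center_le_centralizer _)

theorem mem_zcen_of_cen_eq {g y : P} (h : cen y = cen g) : y ∈ zcen g := by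
  refine Subgroup.mem_inf.2 ⟨h ▸ self_mem_cen y, ?_⟩
  rw [Subgroup.mem_centralizer_iff]
  intro k hk
  have hk' : k ∈ cen y := by rw [h]; exact hk
  exact mem_cen.1 hk'

theorem cen_eq_of_mem_zcen [Finite P] {N : ℕ}
    (hN : ∀ x : P, x ∉ Subgroup.center P → (cen x).index = N)
    {g u : P} (hg : g ∉ Subgroup.center P) (hu : u ∈ zcen g) (hu2 : u ∉ Subgroup.center P) :
    cen u = cen g := by
  symm
  refine eq_of_le_of_index_eq ?_ (by rw [hN _ hg, hN _ hu2])
  intro k hk
  rw [mem_cen]
  exact (Subgroup.mem_centralizer_iff.1 (Subgroup.mem_inf.1 hu).2) k hk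

theorem inf_zcen_le [Finite P] {N : ℕ}
    (hN : ∀ x : P, x ∉ Subgroup.center P → (cen x).index = N)
    {g h : P} (hg : g ∉ Subgroup.center P) (hh : h ∉ cen g) :
    cen h ⊓ zcen g ≤ Subgroup.center P := by
  intro u hu
  by_contra hu2
  have h1 := cen_eq_of_mem_zcen hN hg (Subgroup.mem_inf.1 hu).2 hu2
  apply hh
  rw [← h1, mem_cen]
  exact (mem_cen.1 (Subgroup.mem_inf.1 hu).1).symm

theorem card_zcen_le [Finite P] {N : ℕ}
    (hN : ∀ x : P, x ∉ Subgroup.center P → (cen x).index = N)
    {g h : P} (hg : g ∉ Subgroup.center P) (hh : h ∉ cen g) :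
    Nat.card (zcen g) ≤ Nat.card (Subgroup.center P) * N := by
  have h1 := Cfsg.Agent.Lib.H15.card_mul_card_le (cen h) (zcen g)
  have h2 : Nat.card (cen h ⊓ zcen g : Subgroup P) ≤ Nat.card (Subgroup.center P) :=
    Subgroup.card_le_of_le (inf_zcen_le hN hg hh)
  have h3 : Nat.card (cen h ⊔ zcen g : Subgroup P) ≤ Nat.card P := Subgroup.card_le_card_group _
  have h4 : Nat.card (cen h) * (cen h).index = Nat.card P := Subgroup.card_mul_index _
  have hhZ : h ∉ Subgroup.center P := fun hc => hh (center_le_cen g hc)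
  rw [hN _ hhZ] at h4
  have hpos : 0 < Nat.card (cen h) := Nat.card_pos
  have : Nat.card (cen h) * Nat.card (zcen g) ≤
      Nat.card (cen h) * (Nat.card (Subgroup.center P) * N) := by
    calc Nat.card (cen h) * Nat.card (zcen g)
        ≤ Nat.card (cen h ⊓ zcen g : Subgroup P) * Nat.card (cen h ⊔ zcen g : Subgroup P) := h1
      _ ≤ Nat.card (Subgroup.center P) * Nat.card P := Nat.mul_le_mul h2 h3
      _ = Nat.card (cen h) * (Nat.card (Subgroup.center P) * N) := by rw [← h4]; ring
  exact Nat.le_of_mul_le_mul_left this hpos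

theorem result {P : Type*} [Group P] [Finite P] (p : ℕ) [Fact p.Prime]
    (hP : IsPGroup p P) (a : ℕ) (ha : 1 ≤ a)
    (hcs : {k : ℕ | ∃ x : P, (Subgroup.centralizer ({x} : Set P)).index = k} = {1, p ^ a}) (x : P) :
    x ^ p ∈ Subgroup.center P := by
  classical
  have hp : p.Prime := Fact.out
  have hpa : 1 < p ^ a := Nat.one_lt_pow (by omega) hp.one_lt
  have hN : ∀ y : P, y ∉ Subgroup.center P → (cen y).index = p ^ a := by
    intro y hy
    have : (cen y).index ∈ ({1, p ^ a} : Set ℕ) := by rw [← hcs]; exact ⟨y, rfl⟩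
    rcases this with h | h
    · exfalso; apply hy
      rw [Subgroup.index_eq_one] at h
      rw [Subgroup.mem_center_iff]
      intro k
      have : k ∈ cen y := h ▸ Subgroup.mem_top k
      exact mem_cen.1 this
    · exact h
  have hne : ∃ y : P, y ∉ Subgroup.center P := by
    have : p ^ a ∈ ({1, p ^ a} : Set ℕ) := by simp
    rw [← hcs] at this
    obtain ⟨y, hy⟩ := this
    refine ⟨y, fun hyc => ?_⟩
    have h1 : cen y = ⊤ := by
      rw [eq_top_iff]; intro k _; rw [mem_cen]; exact Subgroup.mem_center_iff.1 hyc k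
    have hy' : (cen y).index = p ^ a := hy
    rw [h1, Subgroup.index_top] at hy'
    omega
  obtain ⟨g, hg1, hg2, hg3⟩ := exists_second_center p hP hne
  by_contra hx
  have hCy : ∀ y : P, y ^ p ∉ Subgroup.center P → cen y = cen g := fun y hy =>
    cen_eq_of hN (hg3 y) hg2 hy hg1
  have hC := hCy x hx
  have hout : ∀ h : P, h ∉ cen g → h ^ p ∈ Subgroup.center P := by
    intro h hh
    by_contra hhp
    exact hh (hCy h hhp ▸ self_mem_cen h)
  -- an element outside `C(g)`
  obtain ⟨h0, hh0⟩ : ∃ h0 : P, h0 ∉ cen g := by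
    by_contra hall
    push Not at hall
    have h1 : cen g = ⊤ := eq_top_iff.2 fun k _ => hall k
    have h2 := hN g hg1
    rw [h1, Subgroup.index_top] at h2
    omega
  have hA := card_zcen_le hN hg1 hh0
  -- the key existence claim
  have hex : ∃ h : P, ⁅h, x⁆ ∈ Subgroup.center P ∧ h ∉ cen x := by
    by_contra hno
    push Not at hno
    have hle : ({y : P | IsConj x y} ×ˢ (Subgroup.center P : Set P)).ncard ≤
        ((zcen g : Set P) \ (Subgroup.center P : Set P)).ncard := by
      refine Set.ncard_le_ncard_of_injOn (fun q : P × P => q.1 * q.2) ?_ ?_ (Set.toFinite _)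
      · rintro ⟨y, c⟩ ⟨hy, hc⟩
        obtain ⟨k, hk⟩ := isConj_iff.1 (show IsConj x y from hy)
        have hc' : c ∈ Subgroup.center P := hc
        have hyp : y ^ p ∉ Subgroup.center P := by
          intro hyc
          apply hx
          have e : x ^ p = k⁻¹ * y ^ p * k⁻¹⁻¹ := by
            rw [← hk, conj_pow]; group
          rw [e]
          exact (inferInstance : (Subgroup.center P).Normal).conj_mem _ hyc _
        have hyA : y ∈ zcen g := mem_zcen_of_cen_eq (hCy y hyp)
        refine ⟨Subgroup.mul_mem _ hyA (center_le_zcen g hc'), ?_⟩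
        intro hyc
        have hyc' : y * c ∈ Subgroup.center P := hyc
        apply not_center_of_pow hyp
        have : y = y * c * c⁻¹ := by group
        rw [this]
        exact Subgroup.mul_mem _ hyc' (Subgroup.inv_mem _ hc')
      · rintro ⟨y, c⟩ ⟨hy, hc⟩ ⟨y', c'⟩ ⟨hy', hc'⟩ heq
        obtain ⟨k, hk⟩ := isConj_iff.1 (show IsConj x y from hy)
        obtain ⟨k', hk'⟩ := isConj_iff.1 (show IsConj x y' from hy')
        have hcZ : c ∈ Subgroup.center P := hc
        have hcZ' : c' ∈ Subgroup.center P := hc'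
        have heq' : y * c = y' * c' := heq
        -- m = k⁻¹ k'
        have hd : c * c'⁻¹ ∈ Subgroup.center P :=
          Subgroup.mul_mem _ hcZ (Subgroup.inv_mem _ hcZ')
        have hy'eq : y' = y * (c * c'⁻¹) := by
          have : y' = y * c * c'⁻¹ := by rw [heq']; group
          rw [this]; group
        have hm : ⁅k⁻¹ * k', x⁆ = c * c'⁻¹ := by
          have e1 : (k⁻¹ * k') * x * (k⁻¹ * k')⁻¹ = k⁻¹ * y' * k := by
            rw [← hk']; group
          have e2 : k⁻¹ * y' * k = x * (c * c'⁻¹) := by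
            rw [hy'eq, ← hk]
            have hcomm := Subgroup.mem_center_iff.1 hd k
            calc k⁻¹ * (k * x * k⁻¹ * (c * c'⁻¹)) * k
                = x * k⁻¹ * ((c * c'⁻¹) * k) := by group
              _ = x * k⁻¹ * (k * (c * c'⁻¹)) := by rw [hcomm]
              _ = x * (c * c'⁻¹) := by group
          rw [commutatorElement_def, e1, e2, Subgroup.mem_center_iff.1 hd x]; group
        have hmem : k⁻¹ * k' ∈ cen x := hno _ (hm ▸ hd)
        have hone : ⁅k⁻¹ * k', x⁆ = 1 := by
          rw [commutatorElement_eq_one_iff_commute]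
          exact mem_cen.1 hmem
        rw [hm] at hone
        have hcc : c = c' := by
          have := mul_inv_eq_one.1 hone
          exact this
        have hyy : y = y' := by
          rw [hy'eq, hone, mul_one]
        simp [hcc, hyy]
    rw [Set.ncard_prod, ← Cfsg.Agent.Lib.H20.index_centralizer_eq_ncard_conj,
      Set.ncard_sdiff (show (Subgroup.center P : Set P) ⊆ (zcen g : Set P) from center_le_zcen g)]
      at hle
    have e1 : (cen x).index = p ^ a := hN _ (not_center_of_pow hx)
    have e2 : ((Subgroup.center P : Subgroup P) : Set P).ncard = Nat.card (Subgroup.center P) :=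
      (Nat.card_coe_set_eq _).symm
    have e3 : ((zcen g : Subgroup P) : Set P).ncard = Nat.card (zcen g) :=
      (Nat.card_coe_set_eq _).symm
    change (cen x).index * _ ≤ _ at hle
    rw [e1, e2, e3] at hle
    have hZpos : 0 < Nat.card (Subgroup.center P) := Nat.card_pos
    rw [Nat.mul_comm] at hle
    have hge : Nat.card (Subgroup.center P) ≤ Nat.card (Subgroup.center P) * p ^ a :=
      Nat.le_mul_of_pos_right _ (by omega)
    omega
  obtain ⟨h, hh1, hh2⟩ := hex
  have hh3 : h ^ p ∈ Subgroup.center P := hout h (hC ▸ hh2)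
  have hh4 : ⁅x, h⁆ ∈ Subgroup.center P := by
    rw [← commutatorElement_inv]
    exact Subgroup.inv_mem _ hh1
  have hle := cen_le_of hN hh4 hh3 hx
  have : x ∈ cen h := hle (self_mem_cen x)
  apply hh2
  rw [mem_cen] at this ⊢
  exact this.symm

end Cfsg.Agent.S4365
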