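import Mathlib
import Cfsg.Statements.S4376
import Cfsg.Agent.Lib.H2.OT1
import Cfsg.Agent.Lib.H2.OT2
import Cfsg.Agent.Lib.H2.OT3
import Cfsg.Agent.Lib.H2.OT4
import Cfsg.Agent.Lib.H2.OT5
import Cfsg.Agent.Lib.H2.OT6
import Cfsg.Agent.Lib.H2.OT7
import Cfsg.Agent.Lib.H2.OT8
import Cfsg.Agent.Lib.H2.OT9
import Cfsg.Agent.Lib.H2.OT10
-- import your own Cfsg.Agent.* helpers here

set_option autoImplicit false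
open Cfsg

namespace Cfsg.Agent.S4376


open Cfsg.Agent.Lib.H2.OT in
/-- the solvable group -/
abbrev GG : Type :=
    C4 ×
    (Fin 2 → S3) ×
    (Fin 13 → Aff cC2) ×
    (Fin 2 → D8) ×
    (Fin 20 → SL23) ×
    (Fin 2 → Aff cD4b) ×
    (Fin 20 → Aff cA4) ×
    (Fin 4 → Aff (cC3.coprod cC4)) ×
    (Fin 2 → Aff cDic3) ×
    (Fin 12 → Aff (cC3.coprod cD4a)) ×
    (Fin 2 → AGL8) ×
    (Fin 2 → Aff (cC3.coprod cQ16)) ×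
    (Fin 2 → Aff cGL23) ×
    (Fin 2 → Aff (cS3.coprod cQ16))

open Cfsg.Agent.Lib.H2.OT in
/-- the non-solvable group -/
abbrev HH : Type :=
    (Fin 2 → PGL27) ×
    C2 ×
    (Fin 2 → D4) ×
    (Fin 22 → A4) ×
    (Fin 2 → Dic3) ×
    (Fin 2 → Q16) ×
    (Fin 10 → Aff cC3) ×
    (Fin 5 → Aff cC4) ×
    (Fin 6 → Aff (cC2.coprod cC3)) ×
    (Fin 2 → Aff cS3) ×
    (Fin 10 → Aff cD4a) ×
    (Fin 2 → Aff cQ16) ×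
    (Fin 2 → Aff (cC3.coprod cD4b)) ×
    (Fin 12 → Aff cSL23) ×
    (Fin 8 → Aff (cC2.coprod cSL23)) ×
    (Fin 2 → Aff (cS3.coprod cD8b))

open Cfsg.Agent.Lib.H2.OT in
/-- the number of solutions of `x ^ e = 1` in `GG`, for `e ∣ 168` -/
def PsiG (e : ℕ) : ℕ :=
    t_C4 (Nat.gcd e 168) *
    (t_S3 (Nat.gcd e 168) ^ 2 *
    ((Nat.gcd e 7 * a_A_C2 (Nat.gcd e 24) + 7 * b_A_C2 (Nat.gcd e 24)) ^ 13 *
    (t_D8 (Nat.gcd e 168) ^ 2 *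
    (t_SL23 (Nat.gcd e 168) ^ 20 *
    ((Nat.gcd e 7 * a_A_D4b (Nat.gcd e 24) + 7 * b_A_D4b (Nat.gcd e 24)) ^ 2 *
    ((Nat.gcd e 7 * a_A_A4 (Nat.gcd e 24) + 7 * b_A_A4 (Nat.gcd e 24)) ^ 20 *
    ((Nat.gcd e 7 * a_A_C3C4 (Nat.gcd e 24) + 7 * b_A_C3C4 (Nat.gcd e 24)) ^ 4 *
    ((Nat.gcd e 7 * a_A_Dic3 (Nat.gcd e 24) + 7 * b_A_Dic3 (Nat.gcd e 24)) ^ 2 *
    ((Nat.gcd e 7 * a_A_C3D4a (Nat.gcd e 24) + 7 * b_A_C3D4a (Nat.gcd e 24)) ^ 12 *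
    (t_AGL8 (Nat.gcd e 168) ^ 2 *
    ((Nat.gcd e 7 * a_A_C3Q16 (Nat.gcd e 24) + 7 * b_A_C3Q16 (Nat.gcd e 24)) ^ 2 *
    ((Nat.gcd e 7 * a_A_GL23 (Nat.gcd e 24) + 7 * b_A_GL23 (Nat.gcd e 24)) ^ 2 *
    ((Nat.gcd e 7 * a_A_S3Q16 (Nat.gcd e 24) + 7 * b_A_S3Q16 (Nat.gcd e 24)) ^ 2)))))))))))))

open Cfsg.Agent.Lib.H2.OT in
/-- the number of solutions of `x ^ e = 1` in `HH`, for `e ∣ 168` -/
def PsiH (e : ℕ) : ℕ :=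
    t_PGL27 (Nat.gcd e 168) ^ 2 *
    (t_C2 (Nat.gcd e 168) *
    (t_D4 (Nat.gcd e 168) ^ 2 *
    (t_A4 (Nat.gcd e 168) ^ 22 *
    (t_Dic3 (Nat.gcd e 168) ^ 2 *
    (t_Q16 (Nat.gcd e 168) ^ 2 *
    ((Nat.gcd e 7 * a_A_C3 (Nat.gcd e 24) + 7 * b_A_C3 (Nat.gcd e 24)) ^ 10 *
    ((Nat.gcd e 7 * a_A_C4 (Nat.gcd e 24) + 7 * b_A_C4 (Nat.gcd e 24)) ^ 5 *
    ((Nat.gcd e 7 * a_A_C2C3 (Nat.gcd e 24) + 7 * b_A_C2C3 (Nat.gcd e 24)) ^ 6 *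
    ((Nat.gcd e 7 * a_A_S3 (Nat.gcd e 24) + 7 * b_A_S3 (Nat.gcd e 24)) ^ 2 *
    ((Nat.gcd e 7 * a_A_D4a (Nat.gcd e 24) + 7 * b_A_D4a (Nat.gcd e 24)) ^ 10 *
    ((Nat.gcd e 7 * a_A_Q16 (Nat.gcd e 24) + 7 * b_A_Q16 (Nat.gcd e 24)) ^ 2 *
    ((Nat.gcd e 7 * a_A_C3D4b (Nat.gcd e 24) + 7 * b_A_C3D4b (Nat.gcd e 24)) ^ 2 *
    ((Nat.gcd e 7 * a_A_SL23 (Nat.gcd e 24) + 7 * b_A_SL23 (Nat.gcd e 24)) ^ 12 *
    ((Nat.gcd e 7 * a_A_C2SL23 (Nat.gcd e 24) + 7 * b_A_C2SL23 (Nat.gcd e 24)) ^ 8 *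
    ((Nat.gcd e 7 * a_A_S3D8 (Nat.gcd e 24) + 7 * b_A_S3D8 (Nat.gcd e 24)) ^ 2)))))))))))))))

open Cfsg.Agent.Lib.H2.OT in
theorem fcG (d : ℕ) : fc GG d = PsiG (Nat.gcd d 168) := by
  simp only [fc_prod, fc_fin_pi, fc_C4, fc_S3, fc_A_C2, fc_D8, fc_SL23, fc_A_D4b, fc_A_A4, fc_A_C3C4, fc_A_Dic3, fc_A_C3D4a, fc_AGL8, fc_A_C3Q16, fc_A_GL23, fc_A_S3Q16]
  rfl

open Cfsg.Agent.Lib.H2.OT in
theorem fcH (d : ℕ) : fc HH d = PsiH (Nat.gcd d 168) := by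
  simp only [fc_prod, fc_fin_pi, fc_PGL27, fc_C2, fc_D4, fc_A4, fc_Dic3, fc_Q16, fc_A_C3, fc_A_C4, fc_A_C2C3, fc_A_S3, fc_A_D4a, fc_A_Q16, fc_A_C3D4b, fc_A_SL23, fc_A_C2SL23, fc_A_S3D8]
  rfl

set_option synthInstance.maxSize 4096 in
instance finG : Finite GG := inferInstance

set_option synthInstance.maxSize 4096 in
instance finH : Finite HH := inferInstance

theorem key : ∀ e ∈ Nat.divisors 168, PsiG e = PsiH e := by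
  decide +kernel

open Cfsg.Agent.Lib.H2.OT in
theorem solvG : Group.IsSolvable GG := inferInstance

open Cfsg.Agent.Lib.H2.OT in
theorem nsolvH : ¬ Group.IsSolvable HH :=
  not_isSolvable_prod_left (not_isSolvable_pi 0 not_isSolvable_PGL27)

/-- There are finite groups G and H having the same number of elements of each order (the same order type) with G solvable and H not solvable. -/
theorem result :
    ∃ (G : Type) (_ : Group G) (_ : Finite G) (H : Type) (_ : Group H) (_ : Finite H),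
      Group.IsSolvable G ∧ ¬ Group.IsSolvable H ∧ ∀ n : ℕ, Nat.card {g : G // orderOf g = n} = Nat.card {h : H // orderOf h = n} := by
  refine ⟨GG, inferInstance, inferInstance, HH, inferInstance, inferInstance, solvG, nsolvH, ?_⟩
  intro n
  refine Cfsg.Agent.Lib.H2.OT.oc_eq_of_fc_eq GG HH ?_ n
  intro d _
  rw [fcG, fcH]
  exact key _ (Nat.mem_divisors.mpr ⟨Nat.gcd_dvd_right d 168, by norm_num⟩)

end Cfsg.Agent.S4376
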