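import Cfsg.Statements.S4378
import Cfsg.Agent.Lib.H22.PLenTwo
import Cfsg.Agent.Lib.H1.PSolvOfSolv

set_option autoImplicit false
open Cfsg

namespace Cfsg.Agent.S4378

open Cfsg.Agent.Lib.H22.PLenTwo in
/-- Let G be a finite solvable group in which every maximal subgroup either has a normal 2-complement or has prime index. Then G has a chain of normal subgroups 1 ≤ A ≤ B ≤ C ≤ G in which A and C/B have odd order and B/A and G/C are 2-groups (so the 2-length of G is at most 2). -/
theorem result {G : Type*} [Group G] [Finite G]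
    (hG : Group.IsSolvable G)
    (hmax : ∀ M : Subgroup G, IsCoatom M → (∃ K : Subgroup ↥M, K.Normal ∧ ¬ 2 ∣ Nat.card K ∧ ∃ k : ℕ, K.index = 2 ^ k) ∨ (M.index).Prime) :
    ∃ A B C : Subgroup G, A.Normal ∧ B.Normal ∧ C.Normal ∧ A ≤ B ∧ B ≤ C ∧ Odd (Nat.card A) ∧
      (∃ k : ℕ, A.relIndex B = 2 ^ k) ∧ Odd (B.relIndex C) ∧ ∃ k : ℕ, C.index = 2 ^ k := by
  have hp2 : Nat.Prime 2 := Nat.prime_two
  have : Fact (Nat.Prime 2) := ⟨hp2⟩
  have hsol : Cfsg.IsPSolvable 2 G := Cfsg.Agent.Lib.H1.PSolvOfSolv.isPSolvable_of_isSolvable 2 G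
  have hmain := main (p := 2) [true, false] (by decide) G hsol hmax
  set C : Subgroup G := gen 2 true ⊤ with hC
  have hCn : C.Normal := gen_normal hp2 true ⊤
  set B : Subgroup G := gen 2 false C with hB
  have hBn : B.Normal := gen_normal hp2 false C
  set A : Subgroup G := gen 2 true B with hA
  have hAn : A.Normal := gen_normal hp2 true B
  have hbot : gen 2 false A = ⊥ := hmain
  have h1 : QType 2 true (C.relIndex ⊤) := relIndex_gen hp2 true ⊤
  have h2 : QType 2 false (B.relIndex C) := relIndex_gen hp2 false C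
  have h3 : QType 2 true (A.relIndex B) := relIndex_gen hp2 true B
  have h4 : QType 2 false ((gen 2 false A).relIndex A) := relIndex_gen hp2 false A
  rw [hbot, Subgroup.relIndex_bot_left] at h4
  rw [Subgroup.relIndex_top_right] at h1
  refine ⟨A, B, C, hAn, hBn, hCn, gen_le 2 true B, gen_le 2 false C, ?_, h3, ?_, h1⟩
  · exact Nat.Coprime.odd_of_right h4
  · exact Nat.Coprime.odd_of_right h2

end Cfsg.Agent.S4378
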