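import Cfsg.Statements.S4379
import Cfsg.Agent.Lib.H22.PLenTwo

set_option autoImplicit false
open Cfsg

namespace Cfsg.Agent.S4379

open Cfsg.Agent.Lib.H22.PLenTwo in
/-- Let p be an odd prime and G a finite p-solvable group in which every maximal subgroup either has a normal p-complement or has prime index. Then G has a chain of normal subgroups 1 ≤ A ≤ B ≤ C ≤ D ≤ G in which A, C/B and G/D have order prime to p and B/A and D/C are p-groups (so the p-length of G is at most 2). -/
theorem result {G : Type*} [Group G] [Finite G]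
    (p : ℕ) [Fact p.Prime] (hp : p ≠ 2) (hG : Cfsg.IsPSolvable p G)
    (hmax : ∀ M : Subgroup G, IsCoatom M → (∃ K : Subgroup ↥M, K.Normal ∧ ¬ p ∣ Nat.card K ∧ ∃ k : ℕ, K.index = p ^ k) ∨ (M.index).Prime) :
    ∃ A B C D : Subgroup G, A.Normal ∧ B.Normal ∧ C.Normal ∧ D.Normal ∧ A ≤ B ∧ B ≤ C ∧ C ≤ D ∧ ¬ p ∣ Nat.card A ∧
      (∃ k : ℕ, A.relIndex B = p ^ k) ∧ ¬ p ∣ B.relIndex C ∧ (∃ k : ℕ, C.relIndex D = p ^ k) ∧ ¬ p ∣ D.index := by
  have hpp : p.Prime := Fact.out
  have hmain := main (p := p) [false, true, false] (by decide) G hG hmax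
  set D : Subgroup G := gen p false ⊤ with hD
  have hDn : D.Normal := gen_normal hpp false ⊤
  set C : Subgroup G := gen p true D with hC
  have hCn : C.Normal := gen_normal hpp true D
  set B : Subgroup G := gen p false C with hB
  have hBn : B.Normal := gen_normal hpp false C
  set A : Subgroup G := gen p true B with hA
  have hAn : A.Normal := gen_normal hpp true B
  have hbot : gen p false A = ⊥ := hmain
  have h0 : QType p false (D.relIndex ⊤) := relIndex_gen hpp false ⊤
  have h1 : QType p true (C.relIndex D) := relIndex_gen hpp true D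
  have h2 : QType p false (B.relIndex C) := relIndex_gen hpp false C
  have h3 : QType p true (A.relIndex B) := relIndex_gen hpp true B
  have h4 : QType p false ((gen p false A).relIndex A) := relIndex_gen hpp false A
  rw [hbot, Subgroup.relIndex_bot_left] at h4
  rw [Subgroup.relIndex_top_right] at h0
  have key : ∀ n : ℕ, n.Coprime p → ¬ p ∣ n := fun n hn =>
    (Nat.Prime.coprime_iff_not_dvd hpp).1 hn.symm
  exact ⟨A, B, C, D, hAn, hBn, hCn, hDn, gen_le p true B, gen_le p false C, gen_le p true D,
    key _ h4, h3, key _ h2, h1, key _ h0⟩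

end Cfsg.Agent.S4379
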