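import Cfsg.Statements.S4381
import Cfsg.Agent.Lib.H18.AbstractCoprime
import Cfsg.Agent.Lib.H1.PGroupBasic
import Cfsg.Agent.S0660

set_option autoImplicit false
set_option linter.style.haveILetI false
open Cfsg

namespace Cfsg.Agent.S4381

open Cfsg.Agent.Lib.H1 Cfsg.Agent.Lib.H18
open scoped commutatorElement

variable {A G : Type*} [Group A] [Group G] [MulDistribMulAction A G]

/-- `A`-invariant subgroups. -/
def Inv (A : Type*) {G : Type*} [Group A] [Group G] [MulDistribMulAction A G] (L : Subgroup G) : Prop :=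
  ∀ a : A, ∀ x ∈ L, a • x ∈ L

/-- maximal `A`-invariant subgroups -/
def MaxInv (A : Type*) {G : Type*} [Group A] [Group G] [MulDistribMulAction A G] (M : Subgroup G) :
    Prop :=
  M ≠ ⊤ ∧ Inv A M ∧ ∀ L : Subgroup G, M < L → Inv A L → L = ⊤

theorem inv_frattini : Inv A (frattini G) := by
  intro a x hx
  have h := (Subgroup.characteristic_iff_map_eq.1 (frattini_characteristic (G := G)))
    (MulDistribMulAction.toMulEquiv G a)
  rw [← h]
  exact ⟨x, hx, rfl⟩

theorem inv_sup {L₁ L₂ : Subgroup G} (h₁ : Inv A L₁) (h₂ : Inv A L₂) : Inv A (L₁ ⊔ L₂) := by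
  intro a x hx
  have h : (L₁ ⊔ L₂).map (MulDistribMulAction.toMonoidHom G a) ≤ L₁ ⊔ L₂ := by
    rw [Subgroup.map_sup]
    apply sup_le_sup
    · rintro _ ⟨y, hy, rfl⟩; exact h₁ a y hy
    · rintro _ ⟨y, hy, rfl⟩; exact h₂ a y hy
  exact h ⟨x, hx, rfl⟩

theorem exists_maxInv [Finite G] {L : Subgroup G} (hL : Inv A L) (hne : L ≠ ⊤) :
    ∃ M, MaxInv A M ∧ L ≤ M := by
  obtain ⟨M, hLM, hM⟩ := Finite.exists_le_maximal
    (p := fun M : Subgroup G => Inv A M ∧ M ≠ ⊤) (a := L) ⟨hL, hne⟩
  refine ⟨M, ⟨hM.1.2, hM.1.1, ?_⟩, hLM⟩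
  intro L' hlt hL'
  by_contra hne'
  exact absurd (hM.2 ⟨hL', hne'⟩ hlt.le) (not_le_of_gt hlt)

/-- the easy direction: if `A` is irreducible on `G/Φ(G)` then `Φ(G)` is the unique maximal
invariant subgroup -/
theorem maxInv_iff_of_irr [Finite G]
    (hirr : ∀ L : Subgroup G, frattini G < L → Inv A L → L = ⊤) (M : Subgroup G) :
    MaxInv A M ↔ (M = frattini G ∧ M ≠ ⊤) := by
  constructor
  · rintro ⟨hne, hinv, hmax⟩
    refine ⟨?_, hne⟩
    have h1 : M ⊔ frattini G ≠ ⊤ := fun h => hne (frattini_nongenerating h)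
    have h2 : ¬ M < M ⊔ frattini G := fun hlt => h1 (hmax _ hlt (inv_sup hinv inv_frattini))
    have h3 : frattini G ≤ M := by
      by_contra h
      apply h2
      refine lt_of_le_of_ne le_sup_left (fun heq => h ?_)
      rw [heq]; exact le_sup_right
    by_contra hne'
    exact hne (hirr M (lt_of_le_of_ne h3 (Ne.symm hne')) hinv)
  · rintro ⟨rfl, hne⟩
    exact ⟨hne, inv_frattini, hirr⟩


open Pointwise in
/-- the conjugacy hypothesis -/
def ConjHyp (A : Type*) {G : Type*} [Group A] [Group G] [MulDistribMulAction A G] : Prop :=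
  ∀ M N : Subgroup G, MaxInv A M → MaxInv A N →
    ∃ c : G, (∀ a : A, a • c = c) ∧ N = MulAut.conj c • M

open Pointwise in
theorem card_eq_of_conjHyp [Finite G] (h : ConjHyp A (G := G)) {M N : Subgroup G}
    (hM : MaxInv A M) (hN : MaxInv A N) : Nat.card N = Nat.card M := by
  obtain ⟨c, -, rfl⟩ := h M N hM hN
  exact Cfsg.Agent.Lib.H1.card_conj_smul M c

/-- Step 1: the group is a `p`-group. -/
theorem isPGroup_of_conjHyp [Finite A] [Finite G] (hcop : (Nat.card A).Coprime (Nat.card G))
    (hsol : Group.IsSolvable A ∨ Group.IsSolvable G) (h : ConjHyp A (G := G)) :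
    ∃ p : ℕ, p.Prime ∧ IsPGroup p G := by
  by_contra hno
  push Not at hno
  -- every invariant Sylow subgroup is proper
  have hsyl : ∀ q : ℕ, q.Prime → ∃ M : Subgroup G, MaxInv A M ∧
      q ^ (Nat.card G).factorization q ∣ Nat.card M := by
    intro q hq
    haveI : Fact q.Prime := ⟨hq⟩
    obtain ⟨Q, hQinv, hQcard⟩ := exists_invariant_sylow (A := A) hcop hsol q
    have hQne : Q ≠ ⊤ := by
      intro htop
      apply hno q hq
      apply IsPGroup.of_card (n := (Nat.card G).factorization q)
      rw [← hQcard, htop, Subgroup.card_top]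
    obtain ⟨M, hM, hQM⟩ := exists_maxInv hQinv hQne
    exact ⟨M, hM, hQcard ▸ Subgroup.card_dvd_of_le hQM⟩
  obtain ⟨M₀, hM₀, -⟩ := hsyl 2 Nat.prime_two
  have hdvd : Nat.card G ∣ Nat.card M₀ := by
    rw [Nat.dvd_iff_prime_pow_dvd_dvd]
    intro q k hq hqk
    obtain ⟨M, hM, hqM⟩ := hsyl q hq
    rw [card_eq_of_conjHyp h hM₀ hM] at hqM
    exact (pow_dvd_pow q ((Nat.Prime.pow_dvd_iff_le_factorization hq Nat.card_pos.ne').1 hqk)).trans
      hqM
  apply hM₀.1
  apply Subgroup.eq_top_of_card_eq
  exact le_antisymm (Subgroup.card_le_card_group M₀) (Nat.le_of_dvd Nat.card_pos hdvd)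


open Pointwise in
/-- Step 2 (abstract form): with an equivariant surjection `π` onto an abelian group `V` of exponent
`p` with kernel `Φ(G)`, no invariant subgroup lies strictly between `Φ(G)` and `G`. -/
theorem irr_of_conjHyp_aux [Finite A] [Finite G] {V : Type*} [CommGroup V] [Finite V]
    (π : G →* V) (hπ : Function.Surjective π) (hker : π.ker = frattini G)
    (ρ : A →* MulAut V) (hρ : ∀ a x, ρ a (π x) = π (a • x))
    {p : ℕ} [Fact p.Prime] (hexp : ∀ v : V, v ^ p = 1) (hcop : (Nat.card A).Coprime (Nat.card V))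
    (h : ConjHyp A (G := G)) :
    ∀ L : Subgroup G, frattini G < L → Inv A L → L = ⊤ := by
  intro L hlt hL
  by_contra hne
  set U : Subgroup V := L.map π with hU
  have hUinv : ∀ a u, u ∈ U → ρ a u ∈ U := by
    rintro a _ ⟨x, hx, rfl⟩
    rw [hρ]
    exact ⟨a • x, hL a x hx, rfl⟩
  obtain ⟨W, hUW, hUW'⟩ := exists_complement_of_exponent hexp U
  obtain ⟨W', hW'inv, hUW₁, hUW₂⟩ := Cfsg.Agent.S0660.abstract_complement ρ hcop U W hUinv hUW hUW'
  set L' : Subgroup G := W'.comap π with hL'
  have hL'inv : Inv A L' := by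
    intro a x hx
    rw [hL', Subgroup.mem_comap] at hx ⊢
    rw [← hρ]
    exact hW'inv a _ hx
  have hL'ne : L' ≠ ⊤ := by
    intro htop
    have hW'top : W' = ⊤ := by
      apply Subgroup.comap_injective hπ
      rw [← hL', htop, Subgroup.comap_top]
    rw [hW'top, inf_top_eq] at hUW₁
    have : L ≤ π.ker := (Subgroup.map_eq_bot_iff L).1 hUW₁
    rw [hker] at this
    exact absurd this (not_le_of_gt hlt)
  obtain ⟨M, hM, hLM⟩ := exists_maxInv hL hne
  obtain ⟨M', hM', hLM'⟩ := exists_maxInv hL'inv hL'ne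
  obtain ⟨c, -, hc⟩ := h M M' hM hM'
  have hmap : M'.map π ≤ M.map π := by
    rintro _ ⟨y, hy, rfl⟩
    have hy : y ∈ MulAut.conj c • M := hc ▸ hy
    rw [Cfsg.Agent.Lib.H1.mem_conj_smul_iff] at hy
    refine ⟨c⁻¹ * y * c, hy, ?_⟩
    rw [map_mul, map_mul, map_inv, mul_comm, ← mul_assoc, mul_inv_cancel, one_mul]
  have htop : M.map π = ⊤ := by
    rw [eq_top_iff, ← hUW₂]
    apply sup_le
    · exact Subgroup.map_mono hLM
    · have : W' = L'.map π := (Subgroup.map_comap_eq_self_of_surjective hπ W').symm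
      rw [this]
      exact (Subgroup.map_mono hLM').trans hmap
  have h2 : M ⊔ frattini G = ⊤ := by
    rw [← hker, ← Subgroup.comap_map_eq, htop, Subgroup.comap_top]
  exact hM.1 (frattini_nongenerating h2)

/-- Step 2: irreducibility on the Frattini quotient. -/
theorem irr_of_conjHyp [Finite A] [Finite G] (hcop : (Nat.card A).Coprime (Nat.card G))
    {p : ℕ} [Fact p.Prime] (hG : IsPGroup p G) (h : ConjHyp A (G := G)) :
    ∀ L : Subgroup G, frattini G < L → Inv A L → L = ⊤ := by
  have hcomm : ∀ a b : G ⧸ frattini G, a * b = b * a := by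
    intro a b
    induction a using QuotientGroup.induction_on with
    | H x =>
      induction b using QuotientGroup.induction_on with
      | H y =>
        rw [← QuotientGroup.mk_mul, ← QuotientGroup.mk_mul, QuotientGroup.eq]
        apply isPGroup_commutator_le_frattini hG
        have : (x * y)⁻¹ * (y * x) = ⁅y⁻¹, x⁻¹⁆ := by
          rw [commutatorElement_def]; group
        rw [this]
        exact Subgroup.commutator_mem_commutator (Subgroup.mem_top _) (Subgroup.mem_top _)
  letI : CommGroup (G ⧸ frattini G) :=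
    { (inferInstance : Group (G ⧸ frattini G)) with mul_comm := hcomm }
  have hmapeq : ∀ a : A, (frattini G).map (MulDistribMulAction.toMulEquiv G a : G →* G) =
      frattini G := fun a =>
    (Subgroup.characteristic_iff_map_eq.1 (frattini_characteristic (G := G))) _
  let ρ : A →* MulAut (G ⧸ frattini G) :=
    { toFun := fun a => QuotientGroup.congr (frattini G) (frattini G)
        (MulDistribMulAction.toMulEquiv G a) (hmapeq a)
      map_one' := by
        apply MulEquiv.ext
        intro v
        induction v using QuotientGroup.induction_on with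
        | H x =>
          rw [QuotientGroup.congr_mk]
          simp
      map_mul' := by
        intro a b
        apply MulEquiv.ext
        intro v
        induction v using QuotientGroup.induction_on with
        | H x =>
          rw [QuotientGroup.congr_mk, MulAut.mul_apply, QuotientGroup.congr_mk,
            QuotientGroup.congr_mk]
          simp [mul_smul] }
  have hρ : ∀ (a : A) (x : G), ρ a (QuotientGroup.mk' (frattini G) x) =
      QuotientGroup.mk' (frattini G) (a • x) := by
    intro a x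
    show QuotientGroup.congr (frattini G) (frattini G) (MulDistribMulAction.toMulEquiv G a)
      (hmapeq a) (QuotientGroup.mk x) = _
    rw [QuotientGroup.congr_mk]
    rfl
  have hexp : ∀ v : G ⧸ frattini G, v ^ p = 1 := by
    intro v
    induction v using QuotientGroup.induction_on with
    | H x =>
      rw [← QuotientGroup.mk_pow, QuotientGroup.eq_one_iff]
      exact isPGroup_pow_mem_frattini hG x
  have hcop' : (Nat.card A).Coprime (Nat.card (G ⧸ frattini G)) := by
    apply Nat.Coprime.coprime_dvd_right _ hcop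
    rw [← Subgroup.index_eq_card]
    exact Subgroup.index_dvd_card _
  exact irr_of_conjHyp_aux (QuotientGroup.mk' (frattini G)) (QuotientGroup.mk'_surjective _)
    (QuotientGroup.ker_mk' _) ρ hρ hexp hcop' h


open Pointwise in
/-- Let the finite group A act by automorphisms on the finite group G with the orders of A and G coprime, and assume that A or G is solvable. Call a proper A-invariant subgroup of G maximal A-invariant when no A-invariant subgroup lies strictly between it and G. Then all maximal A-invariant subgroups of G are conjugate under elements of the fixed-point subgroup C_G(A) if and only if G is a p-group for some prime p and A leaves invariant no subgroup strictly between the Frattini subgroup of G and G. In that case, if G is nontrivial, the Frattini subgroup is the only maximal A-invariant subgroup (a trivial G has none). -/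
theorem result {A G : Type*} [Group A] [Finite A]
    [Group G] [Finite G] [MulDistribMulAction A G] (hcop : (Nat.card A).Coprime (Nat.card G)) (hsol : Group.IsSolvable A ∨ Group.IsSolvable G) :
    ((∀ M N : Subgroup G, (M ≠ ⊤ ∧ (∀ a : A, ∀ x ∈ M, a • x ∈ M) ∧ ∀ L : Subgroup G, M < L → (∀ a : A, ∀ x ∈ L, a • x ∈ L) → L = ⊤) → (N ≠ ⊤ ∧ (∀ a : A, ∀ x ∈ N, a • x ∈ N) ∧ ∀ L : Subgroup G, N < L → (∀ a : A, ∀ x ∈ L, a • x ∈ L) → L = ⊤) →
        ∃ c : G, (∀ a : A, a • c = c) ∧ N = MulAut.conj c • M) ↔
      ((∃ p : ℕ, p.Prime ∧ IsPGroup p G) ∧ ∀ L : Subgroup G, frattini G < L → (∀ a : A, ∀ x ∈ L, a • x ∈ L) → L = ⊤)) ∧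
    (((∃ p : ℕ, p.Prime ∧ IsPGroup p G) ∧ ∀ L : Subgroup G, frattini G < L → (∀ a : A, ∀ x ∈ L, a • x ∈ L) → L = ⊤) →
      ∀ M : Subgroup G, (M ≠ ⊤ ∧ (∀ a : A, ∀ x ∈ M, a • x ∈ M) ∧ ∀ L : Subgroup G, M < L → (∀ a : A, ∀ x ∈ L, a • x ∈ L) → L = ⊤) ↔ (M = frattini G ∧ M ≠ ⊤)) := by
  refine ⟨⟨fun h => ?_, fun h => ?_⟩, fun h M => maxInv_iff_of_irr (A := A) h.2 M⟩
  · have h' : ConjHyp A (G := G) := h
    obtain ⟨p, hp, hG⟩ := isPGroup_of_conjHyp hcop hsol h'
    haveI : Fact p.Prime := ⟨hp⟩
    exact ⟨⟨p, hp, hG⟩, irr_of_conjHyp hcop hG h'⟩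
  · intro M N hM hN
    have hM' := (maxInv_iff_of_irr (A := A) h.2 M).1 hM
    have hN' := (maxInv_iff_of_irr (A := A) h.2 N).1 hN
    refine ⟨1, fun a => smul_one a, ?_⟩
    rw [hN'.1, hM'.1, map_one, one_smul]

end Cfsg.Agent.S4381
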