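import Cfsg.Statements.S4385
import Cfsg.Agent.Lib.H1.G85.Main
import Cfsg.Agent.Lib.H22.G85C22
import Cfsg.Agent.Lib.H14.G85C23
import Cfsg.Agent.Lib.H25.G85AS34
import Cfsg.Agent.Lib.H26.G85CH34
import Cfsg.Agent.Lib.H5.G85A34

set_option autoImplicit false
open Pointwise
open Cfsg

namespace Cfsg.Agent.S4385

theorem result {G : Type*} [Group G] [Finite G]
    (H : Subgroup G) (hO : Cfsg.pCore 2 ↥H ≠ ⊥) (n : ℕ) (hn : 2 ≤ n) (hdih : Nonempty (↥H ⧸ Cfsg.pCore 2 ↥H ≃* DihedralGroup n))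
    (P : Subgroup G) (hPH : P ≤ H) (hP : IsPGroup 2 P) (hPsyl : ¬ 2 ∣ P.relIndex H)
    (S : Sylow 2 G) (hPS : P ≤ (S : Subgroup G)) (y : G) (hyS : y ∈ (S : Subgroup G)) (hyP : y ∉ P)
    (hy2 : y ^ 2 ∈ P ⊔ Subgroup.centralizer (P : Set G)) (hyN : MulAut.conj y • P = P)
    (hyQ : ∀ Q : Subgroup G, Q ≤ P → (Q.subgroupOf H).Normal → MulAut.conj y • Q = Q → Q = ⊥) :
    (Nat.card P = 4 ∨ Nat.card P = 8 ∨ Nat.card P = 16) ∧
    (Nonempty (↥H ⧸ Cfsg.oddCore ↥H ≃* Multiplicative (ZMod 2) × Multiplicative (ZMod 2)) ∨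
     Nonempty (↥H ⧸ Cfsg.oddCore ↥H ≃* Equiv.Perm (Fin 4)) ∨
     Nonempty (↥H ⧸ Cfsg.oddCore ↥H ≃* Equiv.Perm (Fin 4) × Multiplicative (ZMod 2))) := by
  refine Cfsg.Agent.Lib.H1.G85.main85_of_cases ?_ ?_ ?_ H hO n hn hdih P hPH hP hPsyl y hy2 hyN hyQ
  · intro S hp2 hU hI hD x hx hodd
    exact Cfsg.Agent.Lib.H22.G85.case22 S hp2 hU hI hD x hx hodd
  · intro S hp2 hU hI hD hC x hx hodd
    exact Cfsg.Agent.Lib.H14.G85.case23 S hp2 hU hI hD hC x hx hodd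
  · intro S hp2 hU hI hD hC x hx hodd
    refine Cfsg.Agent.Lib.H25.G85.case34_of_halves S x hx ?_
      (Cfsg.Agent.Lib.H26.G85.chain34 S hp2 hU hI hD hC x hx hodd)
    intro Q _ u z v a b c c' huQ hzQ hvQ hQle hQcard hu2 hz2 hv2 ha2 hb2 huz huv hzv haz hav hbz hbu
      hau hbv hcc hgen hcard
    exact Cfsg.Agent.Lib.H5.G85.abs_s4z2 Q u z v a b c c' huQ hzQ hvQ hQle hQcard hu2 hz2 hv2 ha2 hb2
      huz huv hzv haz hav hbz hbu hau hbv hcc hgen hcard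

end Cfsg.Agent.S4385
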