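import Cfsg.Statements.S4387

set_option autoImplicit false
open Cfsg

namespace Cfsg.Agent.S4387

open scoped Pointwise

/-- In a finite group, the conjugates of a proper subgroup do not cover the group. -/
theorem exists_not_mem_conj {G : Type*} [Group G] [Finite G] (M : Subgroup G) (hM : M ≠ ⊤) :
    ∃ g : G, ∀ x : G, g ∉ MulAut.conj x • M := by
  classical
  by_contra hcon
  push_neg at hcon
  haveI := Fintype.ofFinite G
  haveI : Fintype (G ⧸ M) := Fintype.ofFinite _
  haveI : Fintype (MulAction.orbitRel.Quotient G (G ⧸ M)) := Fintype.ofFinite _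
  have hB := MulAction.sum_card_fixedBy_eq_card_orbits_mul_card_group G (G ⧸ M)
  have hΩ : Fintype.card (MulAction.orbitRel.Quotient G (G ⧸ M)) = 1 := by
    rw [Fintype.card_eq_one_iff]
    refine ⟨Quotient.mk'' (QuotientGroup.mk 1), ?_⟩
    intro y
    induction y using Quotient.inductionOn' with
    | _ a =>
      apply Quotient.sound'
      exact MulAction.exists_smul_eq G _ _
  rw [hΩ, one_mul] at hB
  have h1 : ∀ g : G, 1 ≤ Fintype.card (MulAction.fixedBy (G ⧸ M) g) := by
    intro g
    obtain ⟨x, hx⟩ := hcon g
    rw [Subgroup.mem_pointwise_smul_iff_inv_smul_mem] at hx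
    simp only [MulAut.smul_def, map_inv, MulAut.inv_apply, MulAut.conj_symm_apply] at hx
    apply Fintype.card_pos_iff.2
    refine ⟨⟨QuotientGroup.mk x, ?_⟩⟩
    rw [MulAction.mem_fixedBy]
    change (QuotientGroup.mk (g * x) : G ⧸ M) = QuotientGroup.mk x
    rw [QuotientGroup.eq]
    have : (g * x)⁻¹ * x = (x⁻¹ * g * x)⁻¹ := by group
    rw [this]
    exact M.inv_mem hx
  have h2 : 2 ≤ Fintype.card (MulAction.fixedBy (G ⧸ M) (1 : G)) := by
    have hidx : M.index ≠ 1 := fun h => hM (Subgroup.index_eq_one.1 h)
    have hidx0 : M.index ≠ 0 := Subgroup.index_ne_zero_of_finite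
    have : Fintype.card (MulAction.fixedBy (G ⧸ M) (1 : G)) = M.index := by
      rw [Subgroup.index, Nat.card_eq_fintype_card]
      apply Fintype.card_congr
      exact Equiv.subtypeUnivEquiv (fun q => by simp [MulAction.mem_fixedBy])
    omega
  have hsum : Fintype.card G + 1 ≤ ∑ g : G, Fintype.card (MulAction.fixedBy (G ⧸ M) g) := by
    rw [← Finset.add_sum_erase _ _ (Finset.mem_univ (1 : G))]
    have : (Finset.univ.erase (1 : G)).card ≤ ∑ g ∈ Finset.univ.erase (1 : G), Fintype.card (MulAction.fixedBy (G ⧸ M) g) := by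
      rw [Finset.card_eq_sum_ones]
      exact Finset.sum_le_sum (fun g _ => h1 g)
    rw [Finset.card_erase_of_mem (Finset.mem_univ _), Finset.card_univ] at this
    have hpos : 0 < Fintype.card G := Fintype.card_pos
    omega
  omega

/-- Let G be a non-trivial finite group in which any two maximal subgroups are conjugate. Then G is cyclic of prime-power order. -/
theorem result {G : Type*} [Group G] [Finite G] [Nontrivial G]
    (h : ∀ M N : Subgroup G, IsCoatom M → IsCoatom N → ∃ g : G, N = MulAut.conj g • M) :
    IsCyclic G ∧ IsPrimePow (Nat.card G) := by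
  classical
  have hbt : (⊥ : Subgroup G) ≠ ⊤ := bot_ne_top
  obtain ⟨M, hM, -⟩ := (eq_top_or_exists_le_coatom (⊥ : Subgroup G)).resolve_left hbt
  constructor
  · obtain ⟨g, hg⟩ := exists_not_mem_conj M hM.1
    have : Subgroup.zpowers g = ⊤ := by
      by_contra hne
      obtain ⟨N, hN, hgN⟩ := (eq_top_or_exists_le_coatom (Subgroup.zpowers g)).resolve_left hne
      obtain ⟨x, hx⟩ := h M N hM hN
      apply hg x
      rw [← hx]
      exact hgN (Subgroup.mem_zpowers g)
    exact ⟨⟨g, fun y => by
      have : y ∈ Subgroup.zpowers g := by rw [this]; trivial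
      exact this⟩⟩
  · -- G is a p-group for some p
    by_contra hnot
    have hall : ∀ p : ℕ, p.Prime → p ^ (Nat.card G).factorization p ∣ Nat.card M := by
      intro p hp
      haveI : Fact p.Prime := ⟨hp⟩
      obtain ⟨P⟩ : Nonempty (Sylow p G) := inferInstance
      have hPtop : (P : Subgroup G) ≠ ⊤ := by
        intro htop
        apply hnot
        have hcard := P.card_eq_multiplicity
        rw [htop, Subgroup.card_top] at hcard
        rw [hcard]
        refine ⟨p, (Nat.card G).factorization p, hp.prime, ?_, rfl⟩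
        rcases Nat.eq_zero_or_pos ((Nat.card G).factorization p) with h0 | h0
        · rw [h0, pow_zero] at hcard
          have : 1 < Nat.card G := Finite.one_lt_card
          omega
        · exact h0
      obtain ⟨N, hN, hPN⟩ := (eq_top_or_exists_le_coatom (P : Subgroup G)).resolve_left hPtop
      obtain ⟨x, hx⟩ := h N M hN hM
      have hc1 : Nat.card (P : Subgroup G) ∣ Nat.card N := Subgroup.card_dvd_of_le hPN
      have hc2 : Nat.card M = Nat.card N := by
        rw [hx]
        exact (Nat.card_congr (Subgroup.equivSMul (MulAut.conj x) N).toEquiv).symm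
      rw [hc2, ← P.card_eq_multiplicity]
      exact hc1
    have hdvd : Nat.card G ∣ Nat.card M := by
      have hG0 : Nat.card G ≠ 0 := Nat.card_pos.ne'
      have hM0 : Nat.card M ≠ 0 := Nat.card_pos.ne'
      rw [← Nat.factorization_le_iff_dvd hG0 hM0]
      intro p
      by_cases hp : p.Prime
      · exact (hp.pow_dvd_iff_le_factorization hM0).1 (hall p hp)
      · simp [Nat.factorization_eq_zero_of_not_prime _ hp]
    have hle : Nat.card M ≤ Nat.card G := Subgroup.card_le_card_group M
    have heq : Nat.card M = Nat.card G :=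
      le_antisymm hle (Nat.le_of_dvd Nat.card_pos hdvd)
    exact hM.1 ((Subgroup.card_eq_iff_eq_top M).1 heq)

end Cfsg.Agent.S4387
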