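import Mathlib
import Cfsg.Statements.S4396
import Cfsg.Agent.Lib.H8.FrobFree5

set_option autoImplicit false
open Cfsg
open Pointwise

namespace Cfsg.Agent.S4396

/-- Let the finite group A act faithfully and linearly on a finite-dimensional vector space V over a field k, and suppose A is a Frobenius group with nilpotent kernel F (every Frobenius kernel is nilpotent) and complement H such that F fixes no nonzero vector. Then V is free as a module for H: there is a subspace W with V the direct sum of the translates hW, h ∈ H. (No assumption on the characteristic of k.) -/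
theorem result {k V A : Type*} [Field k] [AddCommGroup V] [Module k V] [FiniteDimensional k V] [Group A] [Finite A] [DecidableEq A]
    (ρ : Representation k A V) (hρ : Function.Injective ρ)
    (Fk Hc : Subgroup A) [Fk.Normal] (hHc : Cfsg.IsFrobeniusComplement Hc) (hker : Cfsg.frobeniusKernel Hc = (Fk : Set A)) (hnil : Group.IsNilpotent ↥Fk)
    (hCF : ∀ v : V, (∀ f ∈ Fk, ρ f v = v) → v = 0) :
    ∃ W : Submodule k V, DirectSum.IsInternal (fun h : ↥Hc => W.map (ρ (h : A))) := by
  apply Cfsg.Agent.Lib.H8.frobenius_free ρ Fk Hc hnil _ hCF
  intro h hh hh1 f hf hcomm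
  have hfk : f ∈ Cfsg.frobeniusKernel Hc := by
    rw [hker]; exact hf
  rcases hfk with h1 | h2
  · exact h1
  · exfalso
    have hfH : f ∉ Hc := by
      intro hfH
      apply h2 1
      rw [map_one, one_smul]
      exact hfH
    have hinf := hHc.2.2 f hfH
    have hmem : h ∈ Hc ⊓ (MulAut.conj f • Hc) := by
      refine ⟨hh, ?_⟩
      show h ∈ MulAut.conj f • Hc
      rw [Subgroup.mem_pointwise_smul_iff_inv_smul_mem]
      show (MulAut.conj f)⁻¹ h ∈ Hc
      rw [← map_inv, MulAut.conj_apply, inv_inv]
      have : f⁻¹ * h * f = h := by
        calc f⁻¹ * h * f = f⁻¹ * (h * f) := by group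
          _ = f⁻¹ * (f * h) := by rw [hcomm]
          _ = h := by group
      rw [this]
      exact hh
    rw [hinf, Subgroup.mem_bot] at hmem
    exact hh1 hmem

end Cfsg.Agent.S4396
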