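import Cfsg.Statements.S4398
import Mathlib
import Cfsg.Agent.Lib.H22.MaxClass2
import Cfsg.Agent.Lib.H21.SecRank2D

set_option autoImplicit false
open Cfsg

namespace Cfsg.Agent.S4398

open Cfsg.Agent.Lib.H22 Cfsg.Agent.Lib.H21.SecRank2

/-- Let S be a finite 2-group of sectional 2-rank at most 2 that contains a subgroup isomorphic to the dihedral group of order 8 or to the quaternion group of order 8. Then S is dihedral of order at least 8, semidihedral of order at least 16 (order 2^(k+4) with an element a of order 2^(k+3) and an involution b with b a b⁻¹ = a^(2^(k+2)−1)), or generalized quaternion of order at least 8. -/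
theorem result {S : Type*} [Group S] [Finite S] (h2 : IsPGroup 2 S) (hr : Cfsg.SectionalPRankLE 2 2 S)
    (hsub : ∃ H : Subgroup S, Nonempty (↥H ≃* DihedralGroup 4) ∨ Nonempty (↥H ≃* QuaternionGroup 2)) :
    ((∃ k : ℕ, Nonempty (S ≃* DihedralGroup (2 ^ (k + 2)))) ∨
      (∃ k : ℕ, Nat.card S = 2 ^ (k + 4) ∧ ∃ a b : S, orderOf a = 2 ^ (k + 3) ∧ orderOf b = 2 ∧ b * a * b⁻¹ = a ^ (2 ^ (k + 2) - 1)) ∨
      (∃ k : ℕ, Nonempty (S ≃* QuaternionGroup (2 ^ (k + 1))))) := by
  obtain ⟨D, hD⟩ := hsub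
  have hD8 : Nat.card D = 8 ∧ ∃ a b : D, a * b ≠ b * a := by
    rcases hD with ⟨⟨e⟩⟩ | ⟨⟨e⟩⟩
    · refine ⟨?_, e.symm (DihedralGroup.r 1), e.symm (DihedralGroup.sr 0), ?_⟩
      · rw [Nat.card_congr e.toEquiv, DihedralGroup.nat_card]
      · intro h
        rw [← map_mul, ← map_mul] at h
        have := e.symm.injective h
        revert this
        decide
    · refine ⟨?_, e.symm (QuaternionGroup.a 1), e.symm (QuaternionGroup.xa 0), ?_⟩
      · rw [Nat.card_congr e.toEquiv, Nat.card_eq_fintype_card, QuaternionGroup.card]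
      · intro h
        rw [← map_mul, ← map_mul] at h
        have := e.symm.injective h
        revert this
        decide
  obtain ⟨hD8, hDna⟩ := hD8
  have hidx : (commutator S).index = 4 := index_commutator_eq_four h2 hr D hD8 hDna
  obtain ⟨m, hm⟩ := (IsPGroup.iff_card).mp h2
  have h8 : 8 ≤ Nat.card S := hD8 ▸ Subgroup.card_le_card_group D
  have hm3 : 3 ≤ m := by
    by_contra h
    have : m ≤ 2 := by omega
    have : 2 ^ m ≤ 2 ^ 2 := Nat.pow_le_pow_right (by norm_num) this
    rw [hm] at h8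
    omega
  obtain ⟨n, rfl⟩ : ∃ n, m = n + 3 := ⟨m - 3, by omega⟩
  obtain ⟨a, y, hD, -⟩ := exists_maxClassData n S hm hidx
  rcases hD.conj with hc | ⟨hn, hc⟩
  · rcases hD.sq with hs | hs
    · left
      exact ⟨n, hD.equiv_dihedral hc hs⟩
    · right; right
      exact ⟨n, hD.equiv_quaternion hc hs⟩
  · right; left
    obtain ⟨k, rfl⟩ : ∃ k, n = k + 1 := ⟨n - 1, by omega⟩
    obtain ⟨b, hb, -, hba⟩ := hD.exists_semidihedral hc
    exact ⟨k, hm, a, b, hD.orderOf_a, hb, hba⟩

end Cfsg.Agent.S4398
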