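import Mathlib
import Cfsg.Statements.S4399
import Cfsg.Agent.Lib.H22.MaxClass2

set_option autoImplicit false
open Cfsg

namespace Cfsg.Agent.S4399

open Cfsg.Agent.Lib.H22

/-- Let S be a finite 2-group whose commutator quotient S/[S,S] is a Klein four-group (order 4 and exponent 2). Then S itself has order 4, or S is dihedral of order at least 8, semidihedral of order at least 16 (order 2^(k+4) with an element a of order 2^(k+3) and an involution b with b a b⁻¹ = a^(2^(k+2)−1)), or generalized quaternion of order at least 8. -/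
theorem result {S : Type*} [Group S] [Finite S] (h2 : IsPGroup 2 S) (hab : Nat.card (Abelianization S) = 4)
    (hexp : ∀ x : Abelianization S, x ^ 2 = 1) :
    Nat.card S = 4 ∨
    ((∃ k : ℕ, Nonempty (S ≃* DihedralGroup (2 ^ (k + 2)))) ∨
      (∃ k : ℕ, Nat.card S = 2 ^ (k + 4) ∧ ∃ a b : S, orderOf a = 2 ^ (k + 3) ∧ orderOf b = 2 ∧ b * a * b⁻¹ = a ^ (2 ^ (k + 2) - 1)) ∨
      (∃ k : ℕ, Nonempty (S ≃* QuaternionGroup (2 ^ (k + 1))))) := by
  have hidx : (commutator S).index = 4 := by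
    rw [Subgroup.index_eq_card]; exact hab
  obtain ⟨m, hm⟩ := (IsPGroup.iff_card).mp h2
  have h4 : 4 ∣ Nat.card S := hidx ▸ Subgroup.index_dvd_card (commutator S)
  have hm2 : 2 ≤ m := by
    rw [hm] at h4
    have : (2 : ℕ) ^ 2 ∣ 2 ^ m := by simpa using h4
    exact (Nat.pow_dvd_pow_iff_le_right (by norm_num)).mp this
  by_cases hm3 : m = 2
  · left
    rw [hm, hm3]; norm_num
  right
  obtain ⟨n, rfl⟩ : ∃ n, m = n + 3 := ⟨m - 3, by omega⟩
  obtain ⟨a, y, hD, -⟩ := exists_maxClassData n S hm hidx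
  rcases hD.conj with hc | ⟨hn, hc⟩
  · rcases hD.sq with hs | hs
    · left
      exact ⟨n, hD.equiv_dihedral hc hs⟩
    · right; right
      exact ⟨n, hD.equiv_quaternion hc hs⟩
  · right; left
    obtain ⟨k, rfl⟩ : ∃ k, n = k + 1 := ⟨n - 1, by omega⟩
    obtain ⟨b, hb, -, hba⟩ := hD.exists_semidihedral hc
    exact ⟨k, hm, a, b, hD.orderOf_a, hb, hba⟩

end Cfsg.Agent.S4399
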