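import Cfsg.Statements.S4401
import Cfsg.Agent.Lib.H1.SR4C

set_option autoImplicit false
open Cfsg

namespace Cfsg.Agent.S4401

open Cfsg.Agent.Lib.H1.SR4

/-- Let S be a finite 2-group of sectional 2-rank at most 4 and P a proper non-abelian subgroup whose centre has order 2. Let S₀ be the centralizer in S of Z(P) and suppose P is normal in S₀. Then either S₀ = S, or P has sectional 2-rank at most 2 and S₀ has index 2 in S. -/
theorem result {S : Type*} [Group S] [Finite S] (h2 : IsPGroup 2 S) (hr : Cfsg.SectionalPRankLE 2 4 S)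
    (P : Subgroup S) (hPlt : P ≠ ⊤) (hP : ¬ IsMulCommutative ↥P) (hZP : Nat.card ↥(Subgroup.center ↥P) = 2)
    (S₀ : Subgroup S) (hS₀ : S₀ = Subgroup.centralizer (((Subgroup.center ↥P).map P.subtype : Subgroup S) : Set S))
    (hPn : ∀ s ∈ S₀, ∀ x ∈ P, s * x * s⁻¹ ∈ P) :
    S₀ = ⊤ ∨ (Cfsg.SectionalPRankLE 2 2 ↥P ∧ S₀.index = 2) := by
  obtain ⟨z, hD⟩ := ZData.of_card hP hZP
  have hmem : ∀ g, g ∈ S₀ ↔ g * z = z * g := by
    intro g
    rw [hS₀, Subgroup.mem_centralizer_iff]
    constructor
    · intro h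
      exact (h z ((hD.mem_center_map z).mpr (Or.inr rfl))).symm
    · intro h c hc
      rcases (hD.mem_center_map c).mp hc with rfl | rfl
      · simp
      · exact h.symm
  have C : Ctx P z S₀ := ⟨h2, hr, hD, hmem, hPn⟩
  by_cases htop : S₀ = ⊤
  · left; exact htop
  · right
    have : Fact (Nat.Prime 2) := ⟨Nat.prime_two⟩
    have : Group.IsNilpotent S := h2.isNilpotent
    have hnc : NormalizerCondition S := Group.normalizerCondition_of_isNilpotent
    have hlt := hnc S₀ (lt_top_iff_ne_top.mpr htop)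
    obtain ⟨x, hx, hx0⟩ := SetLike.exists_of_lt hlt
    refine ⟨C.rank_two hx hx0, ?_⟩
    have hNtop := C.normalizer_eq_top hx hx0
    rw [Subgroup.index_eq_two_iff_exists_notMem_and]
    refine ⟨x, hx0, ?_⟩
    intro b
    by_cases hb : b ∈ S₀
    · right; exact hb
    · left
      have hbN : b ∈ Subgroup.normalizer (S₀ : Set S) := by rw [hNtop]; trivial
      have hb' : b⁻¹ ∉ S₀ := fun h => hb (by simpa using inv_mem h)
      have h1 := C.conj_eq hx hx0 (inv_mem hbN) hb'
      rw [inv_inv] at h1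
      rw [hmem]
      calc b * x * z = b * (x * z * x⁻¹) * x := by group
        _ = b * (b⁻¹ * z * b) * x := by rw [h1]
        _ = z * (b * x) := by group

end Cfsg.Agent.S4401
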