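import Cfsg.Statements.S4402
import Cfsg.Agent.Lib.H17.GHDefs
import Cfsg.Agent.Lib.H29.GHN5
import Cfsg.Agent.Lib.H10.GHG0
import Cfsg.Agent.Lib.H17.GHN4
import Cfsg.Agent.Lib.H17.GHN7
import Cfsg.Agent.Lib.H9.GHTR
import Cfsg.Agent.Lib.H19.GHKACore
import Cfsg.Agent.Lib.H21.GHK1
import Cfsg.Agent.Lib.H18.GHK2
import Cfsg.Agent.Lib.H25.GHK3
import Cfsg.Agent.Lib.H25.GHK4
import Cfsg.Agent.Lib.H6.GHK5
import Cfsg.Agent.Lib.H6.GHK7

set_option autoImplicit false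
open Cfsg

namespace Cfsg.Agent.S4402

/-- Let S be a finite 2-group of sectional 2-rank at most 4 and P a proper subgroup isomorphic to the wreath product of the dihedral group of order 8 by a group of order 2 (equivalently, to a Sylow 2-subgroup of the symmetric group of degree 8; order 128). Then Z(S) = Z(P) has order 2, P has index 2 in its normalizer N_S(P), N_S(P)/Z(S) is again isomorphic to that wreath product, and every elementary abelian subgroup V of order 16 that is normal in P satisfies N_S(V) = P. -/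
theorem result {S : Type*} [Group S] [Finite S] (h2 : IsPGroup 2 S) (hr : Cfsg.SectionalPRankLE 2 4 S)
    (P : Subgroup S) (hPlt : P ≠ ⊤) (hP : ∃ T : Sylow 2 (Equiv.Perm (Fin 8)), Nonempty (↥P ≃* ↥(T : Subgroup (Equiv.Perm (Fin 8))))) :
    Subgroup.center S = (Subgroup.center ↥P).map P.subtype ∧ Nat.card ↥(Subgroup.center S) = 2 ∧
    P.relIndex (Subgroup.normalizer (P : Set S)) = 2 ∧
    (∃ (_ : ((Subgroup.center S).subgroupOf (Subgroup.normalizer (P : Set S))).Normal) (T : Sylow 2 (Equiv.Perm (Fin 8))),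
      Nonempty (↥(Subgroup.normalizer (P : Set S)) ⧸ (Subgroup.center S).subgroupOf (Subgroup.normalizer (P : Set S)) ≃*
        ↥(T : Subgroup (Equiv.Perm (Fin 8))))) ∧
    ∀ V : Subgroup S, V ≤ P → (∀ g ∈ P, ∀ v ∈ V, g * v * g⁻¹ ∈ V) → Cfsg.IsElementaryAbelian 2 V → Nat.card ↥V = 16 →
      Subgroup.normalizer (V : Set S) = P := by
  obtain ⟨T', ⟨f⟩⟩ := hP
  obtain ⟨e⟩ := Cfsg.Agent.Lib.H10.GH.sylow_equiv_tree T'
  let D : Cfsg.Agent.Lib.H17.GH.Data P :=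
    Cfsg.Agent.Lib.H9.GH.Data.ofEquiv (f.trans e)
      (Cfsg.Agent.Lib.H19.GH.dataTreeOf Cfsg.Agent.Lib.H21.GH.card_T_center Cfsg.Agent.Lib.H18.GH.A1c_A2c
        Cfsg.Agent.Lib.H25.GH.good_T Cfsg.Agent.Lib.H25.GH.Omc_iff_card Cfsg.Agent.Lib.H6.GH.Asc_facts
        Cfsg.Agent.Lib.H21.GH.cent_Omc Cfsg.Agent.Lib.H6.GH.prod_idx_comm)
  obtain ⟨hc1, hc2, -⟩ := Cfsg.Agent.Lib.H29.GH.center_eq h2 hr D
  obtain ⟨hn1, -, hn3⟩ := Cfsg.Agent.Lib.H17.GH.normalizer_data h2 hr hPlt D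
  refine ⟨hc1, hc2, hn1, hn3, ?_⟩
  intro V hVP hVn hVe hVc
  refine Cfsg.Agent.Lib.H17.GH.normalizer_eq h2 hr hPlt D V hVP hVn ?_ hVc
  intro v hv
  rw [← pow_two]
  exact hVe.2 v hv

end Cfsg.Agent.S4402
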