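import Mathlib
import Cfsg.Statements.S4403
import Cfsg.Agent.Lib.H22.CyclicSylow
import Cfsg.Agent.Lib.H22.PPrimeCoreSub
import Cfsg.Agent.Lib.H7.FStar
import Cfsg.Agent.Lib.H1.Fitting
import Cfsg.Agent.Lib.H1.PGroupBasic

set_option autoImplicit false
open Cfsg

namespace Cfsg.Agent.S4403

open Cfsg.Agent.Lib.H22 Cfsg.Agent.Lib.H7
open scoped commutatorElement

variable {K : Type*} [Group K]

/-- With `O_{p'}(K) = 1`, the Fitting subgroup lies in every Sylow `p`-subgroup. -/
theorem fitting_le_sylow [Finite K] (p : ℕ) [hp : Fact p.Prime] (hO : Cfsg.pPrimeCore p K = ⊥)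
    (P : Sylow p K) : Cfsg.fittingSubgroup K ≤ (P : Subgroup K) := by
  rw [Cfsg.Agent.Lib.H1.fittingSubgroup_eq_iSup_pCore]
  apply iSup_le
  intro q
  by_cases hqp : (q : ℕ) = p
  · have := Cfsg.Agent.Lib.H1.pCore_le_sylow P
    rw [hqp]; exact this
  · have : Fact (q : ℕ).Prime := ⟨q.2⟩
    have h1 : (Nat.card (Cfsg.pCore (q : ℕ) K)).Coprime p := by
      obtain ⟨k, hk⟩ := IsPGroup.iff_card.mp (Cfsg.Agent.Lib.H1.pCore_isPGroup (q : ℕ) K)
      rw [hk]
      apply Nat.Coprime.pow_left
      exact (Nat.coprime_primes q.2 hp.out).2 hqp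
    have h2 := le_pPrimeCore p _ (Cfsg.Agent.Lib.H1.pCore_normal (q : ℕ) K) h1
    rw [hO] at h2
    exact h2.trans bot_le

/-- generator of a cyclic subgroup -/
theorem exists_zpowers_eq {P : Subgroup K} (hcyc : IsCyclic P) :
    ∃ x : K, Subgroup.zpowers x = P := by
  obtain ⟨x0, hx0⟩ := hcyc.exists_generator
  refine ⟨x0, ?_⟩
  ext y
  constructor
  · intro hy
    obtain ⟨k, rfl⟩ := Subgroup.mem_zpowers_iff.1 hy
    exact P.zpow_mem x0.2 k
  · intro hy
    obtain ⟨k, hk⟩ := Subgroup.mem_zpowers_iff.1 (hx0 ⟨y, hy⟩)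
    refine Subgroup.mem_zpowers_iff.2 ⟨k, ?_⟩
    have := congrArg Subtype.val hk
    simpa using this

/-- a subgroup of a cyclic subgroup is cyclic -/
theorem isCyclic_of_le {F P : Subgroup K} (hcyc : IsCyclic P) (hFP : F ≤ P) : IsCyclic F := by
  haveI := hcyc
  have h1 : IsCyclic (F.subgroupOf P) := inferInstance
  exact isCyclic_of_surjective (Subgroup.subgroupOfEquivOfLe hFP).toMonoidHom
    (Subgroup.subgroupOfEquivOfLe hFP).surjective

/-- the commutator subgroup centralizes every cyclic normal subgroup -/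
theorem commutator_le_centralizer_of_cyclic {F : Subgroup K} [hF : F.Normal] (hcyc : IsCyclic F) :
    commutator K ≤ Subgroup.centralizer (F : Set K) := by
  haveI := hcyc
  have hcomm : ∀ a b : MulAut F, a * b = b * a := by
    intro a b
    apply (IsCyclic.mulAutMulEquiv F).injective
    rw [map_mul, map_mul, mul_comm]
  rw [commutator_def, Subgroup.commutator_le]
  intro g _ h _
  rw [Subgroup.mem_centralizer_iff]
  intro f hf
  have h1 : (MulAut.conjNormal ⁅g, h⁆ : MulAut F) = 1 := by
    rw [map_commutatorElement, commutatorElement_eq_one_iff_commute]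
    exact hcomm _ _
  have h2 := MulAut.conjNormal_apply (H := F) ⁅g, h⁆ ⟨f, hf⟩
  rw [h1] at h2
  have h3 : f = ⁅g, h⁆ * f * ⁅g, h⁆⁻¹ := h2
  calc f * ⁅g, h⁆ = (⁅g, h⁆ * f * ⁅g, h⁆⁻¹) * ⁅g, h⁆ := by rw [← h3]
    _ = ⁅g, h⁆ * f := by group


theorem case_one [Finite K] (p : ℕ) [hp : Fact p.Prime] (hpK : p ∣ Nat.card K)
    (hO : Cfsg.pPrimeCore p K = ⊥) (P : Sylow p K) (hcyc : IsCyclic ↥(P : Subgroup K))
    (hE : Cfsg.layer K = ⊥) :
    (P : Subgroup K).Normal ∧ Subgroup.centralizer ((P : Subgroup K) : Set K) = (P : Subgroup K) ∧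
      (∀ (_ : (P : Subgroup K).Normal), IsCyclic (K ⧸ (P : Subgroup K))) ∧
      (P : Subgroup K).index ∣ p - 1 := by
  have hFP := fitting_le_sylow p hO P
  have hFs : Cfsg.generalizedFittingSubgroup K = Cfsg.fittingSubgroup K := by
    unfold Cfsg.generalizedFittingSubgroup
    rw [hE, bot_sup_eq]
  have hCF : Subgroup.centralizer (Cfsg.fittingSubgroup K : Set K) ≤ Cfsg.fittingSubgroup K := by
    have := centralizer_generalizedFittingSubgroup_le (G := K)
    rwa [hFs] at this
  have hFcyc : IsCyclic (Cfsg.fittingSubgroup K) := isCyclic_of_le hcyc hFP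
  have hKF : commutator K ≤ (P : Subgroup K) :=
    ((commutator_le_centralizer_of_cyclic hFcyc).trans hCF).trans hFP
  have hPn : (P : Subgroup K).Normal := Cfsg.Agent.Lib.H1.normal_of_commutator_le hKF
  have hPF : (P : Subgroup K) ≤ Cfsg.fittingSubgroup K :=
    le_fittingSubgroup hPn P.isPGroup'.isNilpotent
  have hPeq : Cfsg.fittingSubgroup K = (P : Subgroup K) := le_antisymm hFP hPF
  obtain ⟨x, hx⟩ := exists_zpowers_eq hcyc
  have hCP : Subgroup.centralizer ((P : Subgroup K) : Set K) = (P : Subgroup K) := by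
    apply le_antisymm
    · rw [← hPeq]; exact hCF
    · exact le_centralizer_of_zpowers hx
  refine ⟨hPn, hCP, ?_⟩
  -- the conjugation action on `P`
  haveI := hPn
  haveI := hcyc
  let φ : K →* MulAut (P : Subgroup K) := MulAut.conjNormal
  have hker : φ.ker = (P : Subgroup K) := by
    refine Eq.trans ?_ hCP
    ext g
    rw [MonoidHom.mem_ker, Subgroup.mem_centralizer_iff]
    constructor
    · intro h y hy
      have h1 := MulAut.conjNormal_apply (H := (P : Subgroup K)) g ⟨y, hy⟩
      have h2 : (MulAut.conjNormal g : MulAut (P : Subgroup K)) = 1 := h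
      rw [h2] at h1
      have h3 : y = g * y * g⁻¹ := h1
      calc y * g = (g * y * g⁻¹) * g := by rw [← h3]
        _ = g * y := by group
    · intro h
      apply MulEquiv.ext
      intro y
      apply Subtype.ext
      rw [MulAut.conjNormal_apply]
      have := h y y.2
      change g * (y : K) * g⁻¹ = (y : K)
      rw [← this]; group
  have e : K ⧸ (P : Subgroup K) ≃* φ.range :=
    (QuotientGroup.quotientMulEquivOfEq hker.symm).trans (QuotientGroup.quotientKerEquivRange φ)
  obtain ⟨n, hn⟩ := P.2.exists_card_eq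
  have hn0 : 0 < n := by
    rcases Nat.eq_zero_or_pos n with rfl | h
    · exfalso
      rw [pow_zero] at hn
      exact P.ne_bot_of_dvd_card hpK (Subgroup.card_eq_one.1 hn)
    · exact h
  have hidx : (P : Subgroup K).index ∣ p - 1 := by
    have h1 : (P : Subgroup K).index = Nat.card φ.range := by
      rw [Subgroup.index_eq_card]
      exact Nat.card_congr e.toEquiv
    have h2 : Nat.card φ.range ∣ Nat.card (MulAut (P : Subgroup K)) :=
      Subgroup.card_subgroup_dvd_card _
    rw [IsCyclic.card_mulAut, hn, Nat.totient_prime_pow hp.out hn0] at h2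
    rw [← h1] at h2
    have hcop : Nat.Coprime (P : Subgroup K).index (p ^ (n - 1)) := by
      apply Nat.Coprime.pow_right
      rw [Nat.coprime_comm, Nat.Prime.coprime_iff_not_dvd hp.out]
      exact P.not_dvd_index
    exact hcop.dvd_of_dvd_mul_left h2
  refine ⟨?_, hidx⟩
  intro _
  by_cases hp2 : p = 2
  · have h1 : (P : Subgroup K).index = 1 := by
      have : p - 1 = 1 := by omega
      rw [this] at hidx
      exact Nat.dvd_one.1 hidx
    have h2 : Nat.card (K ⧸ (P : Subgroup K)) = 1 := by
      rw [← Subgroup.index_eq_card]; exact h1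
    haveI : Subsingleton (K ⧸ (P : Subgroup K)) := (Nat.card_eq_one_iff_unique.1 h2).1
    exact isCyclic_of_subsingleton
  · haveI : IsCyclic (ZMod (p ^ n))ˣ := ZMod.isCyclic_units_of_prime_pow p hp.out hp2 n
    haveI : IsCyclic (MulAut (P : Subgroup K)) := by
      have em := IsCyclic.mulAutMulEquiv (P : Subgroup K)
      rw [hn] at em
      exact isCyclic_of_surjective em.symm.toMonoidHom em.symm.surjective
    haveI : IsCyclic φ.range := inferInstance
    exact isCyclic_of_surjective e.symm.toMonoidHom e.symm.surjective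


theorem case_two [Finite K] (p : ℕ) [hp : Fact p.Prime] (hpK : p ∣ Nat.card K)
    (hO : Cfsg.pPrimeCore p K = ⊥) (P : Sylow p K) (hcyc : IsCyclic ↥(P : Subgroup K))
    (hE : Cfsg.layer K ≠ ⊥) :
    IsSimpleGroup ↥(Cfsg.generalizedFittingSubgroup K) ∧
      ¬ IsMulCommutative ↥(Cfsg.generalizedFittingSubgroup K) ∧
      ¬ p ∣ (Cfsg.generalizedFittingSubgroup K).index := by
  have hFP := fitting_le_sylow p hO P
  -- `p` divides the order of every nontrivial subnormal subgroup
  have hdvd : ∀ S : Subgroup K, S.IsSubnormal → S ≠ ⊥ → p ∣ Nat.card S := by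
    intro S hS hne
    by_contra hnd
    apply hne
    have hc : (Nat.card S).Coprime p := by
      rw [Nat.coprime_comm, Nat.Prime.coprime_iff_not_dvd hp.out]; exact hnd
    have := subnormal_coprime_le_pPrimeCore p hS hc
    rw [hO] at this
    exact le_bot_iff.1 this
  -- `P ≤ E(K)`
  have hPE : (P : Subgroup K) ≤ Cfsg.layer K := by
    apply sylow_le_of_perfect_of_le_normalizer P hcyc _ layer_commutator_self
    · rw [Subgroup.normalizer_eq_top]; exact le_top
    · exact hdvd _ (layer_normal (G := K)).isSubnormal hE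
  -- the layer normalizes every component
  have hEN : ∀ L : Subgroup K, Cfsg.IsComponent L →
      Cfsg.layer K ≤ Subgroup.normalizer (L : Set K) := by
    intro L hL
    apply sSup_le
    intro L' hL'
    by_cases h : L' = L
    · rw [h]; exact Subgroup.le_normalizer
    · have := components_commute hL' hL h
      rw [Subgroup.commutator_eq_bot_iff_le_centralizer] at this
      exact this.trans (Subgroup.centralizer_le_normalizer _)
  -- `P` lies in every component
  have hPL : ∀ L : Subgroup K, Cfsg.IsComponent L → (P : Subgroup K) ≤ L := by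
    intro L hL
    exact sylow_le_of_perfect_of_le_normalizer P hcyc L (component_commutator_self hL)
      (hPE.trans (hEN L hL)) (hdvd L hL.1 (component_ne_bot hL))
  -- a nontrivial element of `P`
  obtain ⟨z, hzP, hz1⟩ : ∃ z ∈ (P : Subgroup K), z ≠ 1 := by
    rcases (P : Subgroup K).bot_or_exists_ne_one with h | h
    · exact absurd h (P.ne_bot_of_dvd_card hpK)
    · exact h
  -- there is a component
  obtain ⟨L, hL⟩ : ∃ L : Subgroup K, Cfsg.IsComponent L := by
    by_contra h
    push Not at h
    exact hE (layer_eq_bot_iff.2 h)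
  -- it is unique
  have huniq : ∀ L' : Subgroup K, Cfsg.IsComponent L' → L' = L := by
    intro L' hL'
    by_contra hne
    have h1 := components_commute hL' hL hne
    rw [Subgroup.commutator_eq_bot_iff_le_centralizer] at h1
    exact false_of_central_of_perfect P hcyc L (component_commutator_self hL) (hPL L hL) hzP hz1
      (h1 (hPL L' hL' hzP))
  have hlayer : Cfsg.layer K = L := by
    apply le_antisymm
    · apply sSup_le
      intro L' hL'
      rw [huniq L' hL']
    · exact component_le_layer hL
  -- the Fitting subgroup is trivial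
  have hF : Cfsg.fittingSubgroup K = ⊥ := by
    by_contra hne
    obtain ⟨f, hfF, hf1⟩ : ∃ f ∈ Cfsg.fittingSubgroup K, f ≠ 1 := by
      rcases (Cfsg.fittingSubgroup K).bot_or_exists_ne_one with h | h
      · exact absurd h hne
      · exact h
    have h1 := layer_commutator_fitting (G := K)
    rw [Subgroup.commutator_eq_bot_iff_le_centralizer, hlayer] at h1
    refine false_of_central_of_perfect P hcyc L (component_commutator_self hL) (hPL L hL)
      (hFP hfF) hf1 ?_
    rw [Subgroup.mem_centralizer_iff]
    intro l hl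
    exact ((Subgroup.mem_centralizer_iff.1 (h1 hl)) f hfF).symm
  have hFs : Cfsg.generalizedFittingSubgroup K = L := by
    unfold Cfsg.generalizedFittingSubgroup
    rw [hF, hlayer, sup_bot_eq]
  rw [hFs]
  refine ⟨?_, ?_, ?_⟩
  · -- `L` is simple, since its centre is trivial
    have hc : Subgroup.center L = ⊥ := by
      have hsn : ((Subgroup.center L).map L.subtype).IsSubnormal :=
        (inferInstance : (Subgroup.center L).Normal).isSubnormal.trans' hL.1
      have hcn : Group.IsNilpotent (Subgroup.center L) := by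
        open scoped IsMulCommutative in
        exact CommGroup.isNilpotent
      have hnil : Group.IsNilpotent ((Subgroup.center L).map L.subtype : Subgroup K) :=
        (Group.isNilpotent_congr ((Subgroup.center L).equivMapOfInjective L.subtype
          (Subgroup.subtype_injective L))).1 hcn
      have h1 := subnormal_nilpotent_le_fittingSubgroup hsn hnil
      rw [hF] at h1
      have h2 : (Subgroup.center L).map L.subtype = ⊥ := le_bot_iff.1 h1
      exact (Subgroup.map_eq_bot_iff_of_injective _ (Subgroup.subtype_injective L)).1 h2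
    haveI : IsSimpleGroup (L ⧸ Subgroup.center L) := hL.2.2
    haveI : Nontrivial L := quasisimple_nontrivial hL.2
    let e : L ⧸ Subgroup.center L ≃* L :=
      (QuotientGroup.quotientMulEquivOfEq hc).trans QuotientGroup.quotientBot
    exact IsSimpleGroup.isSimpleGroup_of_surjective e.toMonoidHom e.surjective
  · intro hcomm
    apply component_not_solvable hL
    haveI := hcomm
    exact Group.isSolvable_of_comm (fun a b => mul_comm' a b)
  · intro hd
    apply P.not_dvd_index
    exact hd.trans (Subgroup.index_dvd_of_le (hPL L hL))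

theorem result {K : Type*} [Group K] [Finite K] (p : ℕ) [Fact p.Prime] (hp : p ∣ Nat.card K) (hO : Cfsg.pPrimeCore p K = ⊥)
    (P : Sylow p K) (hP : IsCyclic ↥(P : Subgroup K)) :
    ((P : Subgroup K).Normal ∧ Subgroup.centralizer ((P : Subgroup K) : Set K) = (P : Subgroup K) ∧
      (∀ (_ : (P : Subgroup K).Normal), IsCyclic (K ⧸ (P : Subgroup K))) ∧ (P : Subgroup K).index ∣ p - 1) ∨
    (IsSimpleGroup ↥(Cfsg.generalizedFittingSubgroup K) ∧ ¬ IsMulCommutative ↥(Cfsg.generalizedFittingSubgroup K) ∧
      ¬ p ∣ (Cfsg.generalizedFittingSubgroup K).index) := by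
  by_cases hE : Cfsg.layer K = ⊥
  · exact Or.inl (case_one p hp hO P hP hE)
  · exact Or.inr (case_two p hp hO P hP hE)

end Cfsg.Agent.S4403
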