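import Cfsg.Statements.S4404
import Cfsg.Agent.Lib.H1.FG19.Top
import Cfsg.Agent.Lib.H10.FG19HALL

set_option autoImplicit false
open Cfsg

namespace Cfsg.Agent.S4404

open Cfsg.Agent.Lib.H1.FG19
open scoped IsMulCommutative

/-- Let S be a finite solvable group and M a normal elementary abelian 2-subgroup of S. Suppose S contains an elementary abelian subgroup of order p³ for some odd prime p, and a cyclic 3-subgroup Q such that the cubes of the elements of Q centralize M and the commutator subgroup [Q, M] has order 4 (a four-group inside M). Then S contains an elementary abelian subgroup F of order r³, for some odd prime r, whose centralizer of [Q, M] in F — the subgroup C_F([Q, M]) — is not cyclic. -/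
theorem result {S : Type*} [Group S] [Finite S]
    [Group.IsSolvable S] (M : Subgroup S) [M.Normal] (hM : Cfsg.IsElementaryAbelian 2 M)
    (p : ℕ) (hp : p.Prime) (hp2 : p ≠ 2) (E : Subgroup S) (hE : Cfsg.IsElementaryAbelian p E) (hE3 : Nat.card ↥E = p ^ 3)
    (Q : Subgroup S) (hQc : IsCyclic ↥Q) (hQ3 : IsPGroup 3 ↥Q)
    (hQ1 : ∀ x ∈ Q, x ^ 3 ∈ Subgroup.centralizer (M : Set S)) (hQM : Nat.card ↥⁅Q, M⁆ = 4) :
    ∃ (r : ℕ) (F : Subgroup S), r.Prime ∧ r ≠ 2 ∧ Cfsg.IsElementaryAbelian r F ∧ Nat.card ↥F = r ^ 3 ∧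
      ¬ IsCyclic ↥(F ⊓ Subgroup.centralizer ((⁅Q, M⁆ : Subgroup S) : Set S)) := by
  -- a generator of `Q`
  obtain ⟨x, hQx, hx, hx3⟩ : ∃ x : S, Subgroup.zpowers x = Q ∧ (∃ k : ℕ, x ^ 3 ^ k = 1) ∧
      x ^ 3 ∈ Subgroup.centralizer (M : Set S) := by
    obtain ⟨g, hg⟩ := IsCyclic.exists_generator (α := ↥Q)
    refine ⟨g.1, ?_, ?_, hQ1 _ g.2⟩
    · apply le_antisymm
      · rw [Subgroup.zpowers_le]
        exact g.2
      · intro y hy
        obtain ⟨n, hn⟩ := Subgroup.mem_zpowers_iff.mp (hg ⟨y, hy⟩)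
        refine Subgroup.mem_zpowers_iff.mpr ⟨n, ?_⟩
        have := congrArg (fun z : ↥Q => (z : S)) hn
        simpa using this
    · obtain ⟨k, hk⟩ := hQ3 g
      refine ⟨k, ?_⟩
      have := congrArg (fun z : ↥Q => (z : S)) hk
      simpa using this
  subst hQx
  by_cases hA : ∃ A₃ : Subgroup S, Cfsg.IsElementaryAbelian 3 A₃ ∧ Nat.card A₃ = 27
  · obtain ⟨A₃, hA₃, hAc⟩ := hA
    obtain ⟨F, hFe, hFc, hF⟩ := topA M hM x hx hx3 hQM A₃ hA₃ hAc
    exact ⟨3, F, Nat.prime_three, by norm_num, hFe, hFc, hF⟩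
  · have hB : ∀ A : Subgroup S, Cfsg.IsElementaryAbelian 3 A → Nat.card A ≠ 27 :=
      fun A hA' hc => hA ⟨A, hA', hc⟩
    have hp3 : p ≠ 3 := by
      rintro rfl
      exact hB E hE (by rw [hE3]; norm_num)
    have hp5 : 5 ≤ p := by
      have h2 := hp.two_le
      by_contra hlt
      have : p = 4 := by omega
      subst this
      norm_num at hp
    have : IsMulCommutative ↥M := hM.1
    have h2 : ∀ m ∈ M, m * m = 1 := fun m hm => by rw [← pow_two]; exact hM.2 m hm
    have hEp : IsPGroup p E := IsPGroup.of_card (n := 3) hE3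
    obtain ⟨H, a, b, hH, hQH, s, hs⟩ :=
      Cfsg.Agent.Lib.H10.FG19.exists_hall_3p hp hp3 (Subgroup.zpowers x) E hQ3 hEp
    have hxH : x ∈ H := hQH (Subgroup.mem_zpowers _)
    have hE' := isEA_map_conj hE s
    have hEc' : Nat.card (E.map (MulAut.conj s).toMonoidHom) = p ^ 3 := by
      rw [card_map_conj, hE3]
    by_cases hall : ∀ h ∈ H,
        (MulAut.conjNormal x : MulAut ↥M) * (MulAut.conjNormal (h * x * h⁻¹) : MulAut ↥M) =
        (MulAut.conjNormal (h * x * h⁻¹) : MulAut ↥M) * (MulAut.conjNormal x : MulAut ↥M)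
    · obtain ⟨F, hFe, hFc, hF⟩ := topB1 M hp hp5 x hx3 hQM hB H hH hxH _ hs hE' hEc' hall
      exact ⟨p, F, hp, hp2, hFe, hFc, hF⟩
    · rw [not_forall] at hall
      obtain ⟨h, hall'⟩ := hall
      rw [Classical.not_imp] at hall'
      obtain ⟨hh, hne⟩ := hall'
      obtain ⟨F, hFe, hFc, hF⟩ :=
        topB2 M h2 hp hp5 x hx3 hQM H hH hxH _ hs hE' hEc' h hh hne
      exact ⟨p, F, hp, hp2, hFe, hFc, hF⟩

end Cfsg.Agent.S4404
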