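import Cfsg.Statements.S4405
import Cfsg.Agent.S4400
import Cfsg.Agent.Lib.H1.PCore
import Cfsg.Agent.Lib.H1.PGroupBasic
import Cfsg.Agent.Lib.H7.DihedralLemma2
import Cfsg.Agent.Lib.H23.BurnsidePQ

set_option autoImplicit false
open Cfsg
open scoped commutatorElement

namespace Cfsg.Agent.S4405

open Cfsg.Agent.Lib.H1 Cfsg.Agent.S4400

section Ext
variable {E : Type*} [Group E]

theorem map_mem_center (φ : MulAut E) {c : E} (hc : c ∈ Subgroup.center E) :
    φ c ∈ Subgroup.center E := by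
  rw [Subgroup.mem_center_iff] at hc ⊢
  intro g
  have h1 := hc (φ⁻¹ g)
  have h2 := congrArg φ h1
  rw [map_mul, map_mul, MulAut.apply_inv_self] at h2
  exact h2

/-- The elements fixed by `φ` modulo the centre. -/
def fixBar (φ : MulAut E) : Subgroup E where
  carrier := {h | h⁻¹ * φ h ∈ Subgroup.center E}
  one_mem' := by simp
  mul_mem' := by
    intro h k hh hk
    have hh' : h⁻¹ * φ h ∈ Subgroup.center E := hh
    have hk' : k⁻¹ * φ k ∈ Subgroup.center E := hk
    have hc := Subgroup.mem_center_iff.mp hh' k⁻¹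
    have h1 : (h * k)⁻¹ * φ (h * k) = (h⁻¹ * φ h) * (k⁻¹ * φ k) := by
      rw [map_mul, mul_inv_rev]
      calc k⁻¹ * h⁻¹ * (φ h * φ k) = k⁻¹ * (h⁻¹ * φ h) * φ k := by group
        _ = (h⁻¹ * φ h) * k⁻¹ * φ k := by rw [hc]
        _ = (h⁻¹ * φ h) * (k⁻¹ * φ k) := by group
    show (h * k)⁻¹ * φ (h * k) ∈ Subgroup.center E
    rw [h1]
    exact Subgroup.mul_mem _ hh' hk'
  inv_mem' := by
    intro h hh
    have hc : h⁻¹ * φ h ∈ Subgroup.center E := hh
    have h1 := Subgroup.mem_center_iff.mp hc h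
    have h2 : φ h = h⁻¹ * φ h * h := by
      have h3 : h * (h⁻¹ * φ h) = φ h := by group
      rw [h3] at h1
      exact h1
    have h4 : h * φ h = φ h * h := by
      calc h * φ h = h * (h⁻¹ * φ h * h) := congrArg (fun t => h * t) h2
        _ = φ h * h := by group
    have h5 : (h⁻¹)⁻¹ * φ h⁻¹ = (h⁻¹ * φ h)⁻¹ := by
      rw [map_inv, inv_inv, mul_inv_rev, inv_inv]
      have h6 : (φ h)⁻¹ * h = h * (φ h)⁻¹ := by
        calc (φ h)⁻¹ * h = (φ h)⁻¹ * (h * φ h) * (φ h)⁻¹ := by group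
          _ = (φ h)⁻¹ * (φ h * h) * (φ h)⁻¹ := by rw [h4]
          _ = h * (φ h)⁻¹ := by group
      exact h6.symm
    show (h⁻¹)⁻¹ * φ h⁻¹ ∈ Subgroup.center E
    rw [h5]
    exact Subgroup.inv_mem _ hc

theorem mem_fixBar (φ : MulAut E) (h : E) : h ∈ fixBar φ ↔ h⁻¹ * φ h ∈ Subgroup.center E :=
  Iff.rfl

theorem center_le_fixBar (φ : MulAut E) (hφ : ∀ c ∈ Subgroup.center E, φ c = c) :
    Subgroup.center E ≤ fixBar φ := by
  intro c hc
  rw [mem_fixBar, hφ c hc]
  simp

theorem fixBar_inf_le (φ ψ : MulAut E) : fixBar φ ⊓ fixBar ψ ≤ fixBar (φ * ψ) := by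
  intro h hh
  have h1 : h⁻¹ * φ h ∈ Subgroup.center E := hh.1
  have h2 : h⁻¹ * ψ h ∈ Subgroup.center E := hh.2
  rw [mem_fixBar, MulAut.mul_apply]
  have h3 : h⁻¹ * φ (ψ h) = (h⁻¹ * φ h) * φ (h⁻¹ * ψ h) := by
    rw [map_mul, map_inv]
    group
  rw [h3]
  exact Subgroup.mul_mem _ h1 (map_mem_center φ h2)

theorem fixBar_one : fixBar (1 : MulAut E) = ⊤ := by
  rw [eq_top_iff]
  intro h _
  rw [mem_fixBar, MulAut.one_apply]
  simp

theorem fixBar_le_pow (φ : MulAut E) (n : ℕ) : fixBar φ ≤ fixBar (φ ^ n) := by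
  induction n with
  | zero => rw [pow_zero, fixBar_one]; exact le_top
  | succ n ih =>
    rw [pow_succ]
    exact (le_inf ih le_rfl).trans (fixBar_inf_le _ _)

theorem map_fixBar_le (φ ψ : MulAut E) :
    (fixBar φ).map (ψ⁻¹ : MulAut E).toMonoidHom ≤ fixBar (ψ⁻¹ * φ * ψ) := by
  rintro _ ⟨h, hh, rfl⟩
  have h1 : h⁻¹ * φ h ∈ Subgroup.center E := hh
  rw [mem_fixBar]
  show ((ψ⁻¹ : MulAut E) h)⁻¹ * (ψ⁻¹ * φ * ψ) ((ψ⁻¹ : MulAut E) h) ∈ Subgroup.center E
  rw [MulAut.mul_apply, MulAut.mul_apply, MulAut.apply_inv_self, ← map_inv, ← map_mul]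
  exact map_mem_center _ h1

theorem card_fixBar_conj_ge [Finite E] (φ ψ : MulAut E) :
    Nat.card (fixBar φ) ≤ Nat.card (fixBar (ψ⁻¹ * φ * ψ)) := by
  have h1 : Nat.card ((fixBar φ).map (ψ⁻¹ : MulAut E).toMonoidHom) = Nat.card (fixBar φ) :=
    Nat.card_congr (Subgroup.equivMapOfInjective (fixBar φ) (ψ⁻¹ : MulAut E).toMonoidHom
      (ψ⁻¹ : MulAut E).injective).symm.toEquiv
  rw [← h1]
  exact Subgroup.card_le_of_le (map_fixBar_le φ ψ)

/-- `φ ^ n` moves an almost fixed element by the `n`-th power of the defect. -/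
theorem pow_apply_of_mem_fixBar (φ : MulAut E) (hφ : ∀ c ∈ Subgroup.center E, φ c = c) {h : E}
    (hh : h ∈ fixBar φ) (n : ℕ) : (φ ^ n) h = h * (h⁻¹ * φ h) ^ n := by
  have hc : h⁻¹ * φ h ∈ Subgroup.center E := hh
  have hfix : ∀ m : ℕ, (φ ^ m) (h⁻¹ * φ h) = h⁻¹ * φ h := by
    intro m
    induction m with
    | zero => simp
    | succ m ih => rw [pow_succ, MulAut.mul_apply, hφ _ hc, ih]
  induction n with
  | zero => simp
  | succ n ih =>
    rw [pow_succ, MulAut.mul_apply]
    have h1 : φ h = h * (h⁻¹ * φ h) := by group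
    rw [h1, map_mul, ih, hfix n, pow_succ]
    group

/-- An automorphism of order `5` of a group of order `32` whose centre has order 2 and is fixed
pointwise fixes only the centre modulo the centre. -/
theorem fixBar_eq_center_of_order_five [Finite E] (hE : Nat.card E = 32)
    (hZ : Nat.card (Subgroup.center E) = 2) (φ : MulAut E) (h5 : φ ^ 5 = 1) (hne : φ ≠ 1)
    (hφ : ∀ c ∈ Subgroup.center E, φ c = c) : fixBar φ = Subgroup.center E := by
  -- almost fixed elements are fixed
  have hfixed : ∀ h ∈ fixBar φ, φ h = h := by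
    intro h hh
    have hc : h⁻¹ * φ h ∈ Subgroup.center E := hh
    have h1 := pow_apply_of_mem_fixBar φ hφ hh 5
    rw [h5, MulAut.one_apply] at h1
    have h2 : (h⁻¹ * φ h) ^ 5 = 1 := by
      have h3 : h * (h⁻¹ * φ h) ^ 5 = h * 1 := by rw [mul_one]; exact h1.symm
      exact mul_left_cancel h3
    have h3 : (h⁻¹ * φ h) ^ 2 = 1 := by
      have h4 : ((⟨h⁻¹ * φ h, hc⟩ : Subgroup.center E)) ^ 2 = 1 := by
        rw [← hZ]
        exact pow_card_eq_one'
      exact congrArg Subtype.val h4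
    have h4 : h⁻¹ * φ h = 1 := by
      calc h⁻¹ * φ h = (h⁻¹ * φ h) ^ 5 * (((h⁻¹ * φ h) ^ 2) ^ 2)⁻¹ := by group
        _ = 1 := by rw [h2, h3]; simp
    calc φ h = h * (h⁻¹ * φ h) := by group
      _ = h := by rw [h4, mul_one]
  -- the fixed point subgroup
  let C : Subgroup E :=
    { carrier := {h | φ h = h}
      one_mem' := map_one φ
      mul_mem' := fun {a b} ha hb => by
        show φ (a * b) = a * b
        rw [map_mul, ha, hb]
      inv_mem' := fun {a} ha => by
        show φ a⁻¹ = a⁻¹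
        rw [map_inv, ha] }
  have hCmem : ∀ h, h ∈ C ↔ φ h = h := fun h => Iff.rfl
  have hp5 : IsPGroup 5 (Subgroup.zpowers φ) := by
    intro g
    refine ⟨1, ?_⟩
    obtain ⟨g, hg⟩ := g
    obtain ⟨i, rfl⟩ := Subgroup.mem_zpowers_iff.mp hg
    apply Subtype.ext
    show (φ ^ i) ^ 5 ^ 1 = 1
    rw [pow_one, ← zpow_natCast, ← zpow_mul, mul_comm, zpow_mul, zpow_natCast, h5, one_zpow]
  have : Fact (Nat.Prime 5) := ⟨by norm_num⟩
  have hmod := hp5.card_modEq_card_fixedPoints E
  have hfp : (MulAction.fixedPoints (Subgroup.zpowers φ) E) = (C : Set E) := by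
    ext h
    constructor
    · intro hh
      exact hh ⟨φ, Subgroup.mem_zpowers φ⟩
    · intro hh g
      obtain ⟨g, hg⟩ := g
      obtain ⟨i, rfl⟩ := Subgroup.mem_zpowers_iff.mp hg
      show (φ ^ i) h = h
      have hh' : φ h = h := hh
      have hn : ∀ n : ℕ, (φ ^ n) h = h := by
        intro n
        induction n with
        | zero => simp
        | succ n ih => rw [pow_succ, MulAut.mul_apply, hh', ih]
      have hinv : ∀ n : ℕ, ((φ ^ n)⁻¹) h = h := by
        intro n
        have h1 := hn n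
        rw [← h1, MulAut.inv_apply_self, h1]
      rcases Int.eq_nat_or_neg i with ⟨n, rfl | rfl⟩
      · rw [zpow_natCast]; exact hn n
      · rw [zpow_neg, zpow_natCast]; exact hinv n
  rw [hfp, hE] at hmod
  have hCcard : Nat.card C = 2 := by
    have hdvd : Nat.card C ∣ 32 := hE ▸ Subgroup.card_subgroup_dvd_card C
    have hmod' : Nat.card (C : Set E) = Nat.card C := rfl
    rw [hmod'] at hmod
    have hle : Nat.card C ≤ 32 := Nat.le_of_dvd (by norm_num) hdvd
    have hne32 : Nat.card C ≠ 32 := by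
      intro h32
      apply hne
      have htop : C = ⊤ := (Subgroup.card_eq_iff_eq_top C).mp (by rw [h32, hE])
      ext h
      rw [MulAut.one_apply]
      exact (hCmem h).mp (htop ▸ Subgroup.mem_top h)
    unfold Nat.ModEq at hmod
    interval_cases hc : Nat.card C <;> simp_all
  have hZC : Subgroup.center E ≤ C := fun c hc => hφ c hc
  have hCZ : Subgroup.center E = C := Subgroup.eq_of_le_of_card_ge hZC (by rw [hCcard, hZ])
  apply le_antisymm
  · intro h hh
    rw [hCZ]
    exact hfixed h hh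
  · exact center_le_fixBar φ hφ

end Ext

section Key
variable {E : Type*} [Group E] [Finite E]

/-- Key lemma: if the involutory automorphism `τ` has `|fixBar τ| ≤ 8` on an extraspecial-like
group of order 32, then every element fixed by `τ` has square one. -/
theorem sq_eq_one_of_fixed (hE : Nat.card E = 32) (hZ : Nat.card (Subgroup.center E) = 2)
    (hcomm : ∀ a b : E, ⁅a, b⁆ ∈ Subgroup.center E) (hsq : ∀ a : E, a ^ 2 ∈ Subgroup.center E)
    (τ : MulAut E) (hτ2 : τ * τ = 1) (hτ : ∀ c ∈ Subgroup.center E, τ c = c)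
    (hfix : Nat.card (fixBar τ) ≤ 8) (d : E) (hd : τ d = d) : d ^ 2 = 1 := by
  classical
  have hQcomm : ∀ a b : E ⧸ Subgroup.center E, a * b = b * a := by
    intro a b
    induction a using QuotientGroup.induction_on with
    | H a =>
      induction b using QuotientGroup.induction_on with
      | H b =>
        rw [← QuotientGroup.mk_mul, ← QuotientGroup.mk_mul, QuotientGroup.eq]
        have h1 : (a * b)⁻¹ * (b * a) = ⁅b⁻¹, a⁻¹⁆ := by
          rw [commutatorElement_def]
          group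
        rw [h1]
        exact hcomm _ _
  -- the homomorphism `h ↦ h⁻¹ τ(h)` modulo the centre
  let κ : E →* E ⧸ Subgroup.center E :=
    { toFun := fun h => ((h⁻¹ * τ h : E) : E ⧸ Subgroup.center E)
      map_one' := by simp
      map_mul' := fun h k => by
        have h1 : ((h * k)⁻¹ * τ (h * k) : E) = k⁻¹ * (h⁻¹ * τ h) * τ k := by
          rw [map_mul, mul_inv_rev]
          group
        rw [h1]
        simp only [QuotientGroup.mk_mul]
        rw [hQcomm ((k⁻¹ : E) : E ⧸ Subgroup.center E), mul_assoc] }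
  have hκ : ∀ h, κ h = ((h⁻¹ * τ h : E) : E ⧸ Subgroup.center E) := fun h => rfl
  have hker : κ.ker = fixBar τ := by
    ext h
    rw [MonoidHom.mem_ker, hκ, QuotientGroup.eq_one_iff, mem_fixBar]
  have hττ : ∀ h, τ (τ h) = h := fun h => by
    have h1 := congrArg (fun f : MulAut E => f h) hτ2
    simpa [MulAut.mul_apply] using h1
  -- the image of `fixBar τ` in the quotient
  obtain ⟨W, hW⟩ : ∃ W : Subgroup (E ⧸ Subgroup.center E),
      W = (fixBar τ).map (QuotientGroup.mk' (Subgroup.center E)) := ⟨_, rfl⟩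
  have hrange : κ.range ≤ W := by
    rintro _ ⟨h, rfl⟩
    rw [hκ, hW]
    refine ⟨h⁻¹ * τ h, ?_, rfl⟩
    rw [SetLike.mem_coe, mem_fixBar]
    have h1 : (h⁻¹ * τ h)⁻¹ * τ (h⁻¹ * τ h) = ((τ h)⁻¹ * h) ^ 2 := by
      rw [map_mul, map_inv, hττ, mul_inv_rev, inv_inv, pow_two]
    rw [h1]
    exact hsq _
  -- cardinalities
  have hcQ : Nat.card (E ⧸ Subgroup.center E) = 16 := by
    have h1 := Subgroup.card_eq_card_quotient_mul_card_subgroup (Subgroup.center E)
    rw [hE, hZ] at h1
    omega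
  have hcW : Nat.card W * 2 = Nat.card (fixBar τ) := by
    have hk : (QuotientGroup.mk' (Subgroup.center E)).ker ≤ fixBar τ := by
      rw [QuotientGroup.ker_mk']
      exact center_le_fixBar τ hτ
    have h1 : W.index = (fixBar τ).index := by
      rw [hW]
      exact Subgroup.index_map_eq (H := fixBar τ) (f := QuotientGroup.mk' (Subgroup.center E))
        (QuotientGroup.mk'_surjective _) hk
    have h2 := Subgroup.card_mul_index W
    have h3 := Subgroup.card_mul_index (fixBar τ)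
    rw [hcQ, h1] at h2
    rw [hE] at h3
    have hpos : 0 < (fixBar τ).index := Nat.pos_of_ne_zero (Subgroup.index_ne_zero_of_finite)
    have h4 : (Nat.card W * 2) * (fixBar τ).index = Nat.card (fixBar τ) * (fixBar τ).index := by
      rw [h3]
      calc (Nat.card W * 2) * (fixBar τ).index = 2 * (Nat.card W * (fixBar τ).index) := by ring
        _ = 32 := by rw [h2]
    exact Nat.eq_of_mul_eq_mul_right hpos h4
  have hcR : Nat.card (fixBar τ) * Nat.card κ.range = 32 := by
    have h1 := Subgroup.card_eq_card_quotient_mul_card_subgroup κ.ker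
    rw [Nat.card_congr (QuotientGroup.quotientKerEquivRange κ).toEquiv, hE, hker] at h1
    rw [mul_comm]
    exact h1.symm
  have hRW : Nat.card κ.range ≤ Nat.card W := Subgroup.card_le_of_le hrange
  have hWeq : κ.range = W := by
    apply Subgroup.eq_of_le_of_card_ge hrange
    have hpos : 0 < Nat.card (fixBar τ) := Nat.card_pos
    nlinarith
  -- apply to `d`
  have hdW : ((d : E) : E ⧸ Subgroup.center E) ∈ W := by
    rw [hW]
    refine ⟨d, ?_, rfl⟩
    rw [SetLike.mem_coe, mem_fixBar, hd]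
    simp
  rw [← hWeq] at hdW
  obtain ⟨h, hh⟩ := hdW
  rw [hκ, QuotientGroup.eq] at hh
  set w := h⁻¹ * τ h with hw
  set ζ := w⁻¹ * d with hζ
  have hdw : d = w * ζ := by rw [hζ]; group
  have hτw : τ w = w⁻¹ := by
    rw [hw, map_mul, map_inv, hττ, mul_inv_rev, inv_inv]
  have hτζ : τ ζ = ζ := hτ ζ hh
  have h1 : w⁻¹ * ζ = w * ζ := by
    have h2 : τ d = τ w * τ ζ := by rw [hdw, map_mul]
    rw [hd, hτw, hτζ] at h2
    rw [← h2, hdw]
  have hw2 : w ^ 2 = 1 := by
    have h2 : w⁻¹ = w := mul_right_cancel h1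
    rw [pow_two]
    calc w * w = w⁻¹ * w := by rw [h2]
      _ = 1 := inv_mul_cancel w
  have hζ2 : ζ ^ 2 = 1 := by
    have h4 : ((⟨ζ, hh⟩ : Subgroup.center E)) ^ 2 = 1 := by
      rw [← hZ]
      exact pow_card_eq_one'
    exact congrArg Subtype.val h4
  have hcz : w * ζ = ζ * w := (Subgroup.mem_center_iff.mp hh w)
  rw [hdw, pow_two]
  calc w * ζ * (w * ζ) = w * (ζ * w) * ζ := by group
    _ = w * (w * ζ) * ζ := by rw [hcz]
    _ = w ^ 2 * ζ ^ 2 := by rw [pow_two, pow_two]; group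
    _ = 1 := by rw [hw2, hζ2, one_mul]

end Key

section Main
variable {G : Type*} [Group G] [Finite G]

/-- The bound `|fixBar (φ T)| ≤ 8`. -/
theorem card_fixBar_le (hG : Nat.card G = 320) (H : Subgroup G) [hHn : H.Normal]
    (hHcore : H = Cfsg.pCore 2 G) (hHp : IsPGroup 2 ↥H) (h32 : Nat.card ↥H = 32)
    (hZ : Nat.card (Subgroup.center ↥H) = 2)
    (hcm : commutator ↥H = Subgroup.center ↥H)
    (hφc : ∀ g : G, ∀ c ∈ Subgroup.center ↥H, (MulAut.conjNormal g : MulAut ↥H) c = c)
    (hfix5 : ∀ g : G, orderOf g = 5 →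
      fixBar (MulAut.conjNormal g : MulAut ↥H) = Subgroup.center ↥H)
    (T : G) (hT : orderOf T = 2) (hTH : T ∉ H) :
    Nat.card (fixBar (MulAut.conjNormal T : MulAut ↥H)) ≤ 8 := by
  classical
  have : Fact (Nat.Prime 2) := ⟨Nat.prime_two⟩
  have : Fact (Nat.Prime 5) := ⟨by norm_num⟩
  let φ : G →* MulAut ↥H := MulAut.conjNormal
  have hT2 : T * T = 1 := by
    rw [← pow_two, ← hT]
    exact pow_orderOf_eq_one T
  have hTinv : T⁻¹ = T := inv_eq_of_mul_eq_one_right hT2
  by_contra hlt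
  rw [not_le] at hlt
  have hA16 : 16 ≤ Nat.card (fixBar (φ T)) := by
    have hd : Nat.card (fixBar (φ T)) ∣ 2 ^ 5 := by
      have h1 := Subgroup.card_subgroup_dvd_card (fixBar (φ T))
      rw [h32] at h1
      exact h1
    obtain ⟨k, hk, hk2⟩ := (Nat.dvd_prime_pow Nat.prime_two).mp hd
    have hlt' : 8 < Nat.card (fixBar (φ T)) := hlt
    rw [hk2] at hlt' ⊢
    have h4 : 4 ≤ k := by
      by_contra h
      rw [not_le] at h
      interval_cases k <;> omega
    calc 16 = 2 ^ 4 := by norm_num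
      _ ≤ 2 ^ k := Nat.pow_le_pow_right (by norm_num) h4
  obtain ⟨s, hs⟩ := exists_prime_orderOf_dvd_card' (G := G) 5 (by rw [hG]; norm_num)
  set T' := s⁻¹ * T * s with hT'
  have hφT' : φ T' = (φ s)⁻¹ * φ T * φ s := by rw [hT', map_mul, map_mul, map_inv]
  have hB16 : 16 ≤ Nat.card (fixBar (φ T')) := by
    rw [hφT']
    exact hA16.trans (card_fixBar_conj_ge (φ T) (φ s))
  have hBn : (fixBar (φ T')).Normal :=
    normal_of_commutator_le (by rw [hcm]; exact center_le_fixBar _ (hφc T'))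
  have hprod := card_sup_mul_card_inf (fixBar (φ T)) (fixBar (φ T'))
  have hsup : Nat.card ↥(fixBar (φ T) ⊔ fixBar (φ T')) ≤ 32 := by
    rw [← h32]
    exact Subgroup.card_le_card_group _
  have hinf8 : 8 ≤ Nat.card ↥(fixBar (φ T) ⊓ fixBar (φ T')) := by
    by_contra h
    rw [not_le] at h
    have h1 : Nat.card ↥(fixBar (φ T) ⊔ fixBar (φ T')) *
        Nat.card ↥(fixBar (φ T) ⊓ fixBar (φ T')) ≤ 32 * 7 :=
      Nat.mul_le_mul hsup (by omega)
    have h2 : 16 * 16 ≤ Nat.card (fixBar (φ T)) * Nat.card (fixBar (φ T')) :=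
      Nat.mul_le_mul hA16 hB16
    omega
  set u := T * T' with hu
  have hinfle : fixBar (φ T) ⊓ fixBar (φ T') ≤ fixBar (φ u) := by
    have h1 := fixBar_inf_le (φ T) (φ T')
    rwa [← map_mul] at h1
  have hT'eq : T' = T * u := by
    rw [hu, ← mul_assoc, hT2, one_mul]
  by_cases huH : u ∈ H
  · -- then `H ⟨T⟩` is a normal 2-subgroup
    set S₂ := H ⊔ Subgroup.zpowers T with hS₂
    have hzp : IsPGroup 2 (Subgroup.zpowers T) := by
      apply IsPGroup.of_card (n := 1)
      rw [Nat.card_zpowers, hT, pow_one]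
    have hS₂p : IsPGroup 2 S₂ := IsPGroup.to_sup_of_normal_left hHp hzp
    have hTS : T ∈ S₂ := Subgroup.mem_sup_right (Subgroup.mem_zpowers T)
    have hinfbot : Subgroup.zpowers T ⊓ H = ⊥ := by
      rw [eq_bot_iff]
      intro x hx
      obtain ⟨hx1, hx2⟩ := hx
      rw [Subgroup.mem_bot]
      obtain ⟨i, rfl⟩ := Subgroup.mem_zpowers_iff.mp hx1
      rcases Int.emod_two_eq_zero_or_one i with h | h
      · have h3 : i = 2 * (i / 2) := by omega
        rw [h3, zpow_mul, zpow_ofNat, pow_two, hT2, one_zpow]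
      · exfalso
        apply hTH
        have h3 : i = 2 * (i / 2) + 1 := by omega
        rw [h3, zpow_add, zpow_mul, zpow_ofNat, pow_two, hT2, one_zpow, one_mul, zpow_one] at hx2
        exact hx2
    have hS₂card : Nat.card S₂ = 64 := by
      have h1 := card_sup_mul_card_inf (Subgroup.zpowers T) H
      rw [hinfbot, Subgroup.card_bot, mul_one, Nat.card_zpowers, hT, h32, sup_comm] at h1
      rw [h1]
    have hsinv : s⁻¹ ∈ Subgroup.normalizer (S₂ : Set G) := by
      apply Subgroup.mem_normalizer_fintype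
      have hle : S₂ ≤ S₂.comap (MulAut.conj s⁻¹).toMonoidHom := by
        apply sup_le
        · intro h hh
          rw [Subgroup.mem_comap]
          exact Subgroup.mem_sup_left (hHn.conj_mem h hh s⁻¹)
        · rw [Subgroup.zpowers_le, Subgroup.mem_comap]
          show s⁻¹ * T * (s⁻¹)⁻¹ ∈ S₂
          rw [inv_inv, ← hT', hT'eq]
          exact S₂.mul_mem hTS (Subgroup.mem_sup_left huH)
      intro n hn
      exact hle hn
    have hsN : s ∈ Subgroup.normalizer (S₂ : Set G) := by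
      have := Subgroup.inv_mem _ hsinv
      rwa [inv_inv] at this
    have h64 : 64 ∣ Nat.card (Subgroup.normalizer (S₂ : Set G)) := by
      rw [← hS₂card]
      exact Subgroup.card_dvd_of_le Subgroup.le_normalizer
    have h5 : 5 ∣ Nat.card (Subgroup.normalizer (S₂ : Set G)) := by
      have h1 := orderOf_dvd_natCard (⟨s, hsN⟩ : Subgroup.normalizer (S₂ : Set G))
      rw [Subgroup.orderOf_mk, hs] at h1
      exact h1
    have h320 : 320 ∣ Nat.card (Subgroup.normalizer (S₂ : Set G)) := by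
      have := Nat.Coprime.mul_dvd_of_dvd_of_dvd (by norm_num : Nat.Coprime 64 5) h64 h5
      simpa using this
    have hNtop : Subgroup.normalizer (S₂ : Set G) = ⊤ := by
      apply (Subgroup.card_eq_iff_eq_top _).mp
      have h1 := Subgroup.card_le_card_group (Subgroup.normalizer (S₂ : Set G))
      rw [hG] at h1 ⊢
      exact le_antisymm h1 (Nat.le_of_dvd Nat.card_pos h320)
    have hS₂n : S₂.Normal := Subgroup.normalizer_eq_top_iff.mp hNtop
    have hle : S₂ ≤ Cfsg.pCore 2 G := le_pCore hS₂n hS₂p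
    rw [← hHcore] at hle
    exact hTH (hle hTS)
  · -- `u ^ 5 ∈ H`
    have hcQ : Nat.card (G ⧸ H) = 10 := by
      have h1 := Subgroup.card_eq_card_quotient_mul_card_subgroup H
      rw [hG, h32] at h1
      omega
    have hsH : s ∉ H := by
      intro hsH
      have h1 := orderOf_dvd_natCard (⟨s, hsH⟩ : ↥H)
      rw [Subgroup.orderOf_mk, hs, h32] at h1
      norm_num at h1
    set sb : G ⧸ H := (s : G ⧸ H) with hsb
    have hsb5 : sb ^ 5 = 1 := by
      rw [hsb, ← QuotientGroup.mk_pow, ← hs, pow_orderOf_eq_one]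
      rfl
    have hsb1 : sb ≠ 1 := by
      rw [hsb, Ne, QuotientGroup.eq_one_iff]
      exact hsH
    have hosb : orderOf sb = 5 := orderOf_eq_prime hsb5 hsb1
    have hKcard : Nat.card (Subgroup.zpowers sb) = 5 := by rw [Nat.card_zpowers, hosb]
    have hKidx : (Subgroup.zpowers sb).index = 2 := by
      have h1 := Subgroup.card_mul_index (Subgroup.zpowers sb)
      rw [hKcard, hcQ] at h1
      omega
    have hKn : (Subgroup.zpowers sb).Normal := Subgroup.normal_of_index_eq_two hKidx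
    have hub : ((u : G) : G ⧸ H) ∈ Subgroup.zpowers sb := by
      have h1 : ((u : G) : G ⧸ H) =
          ((T : G) : G ⧸ H) * sb⁻¹ * ((T : G) : G ⧸ H)⁻¹ * sb := by
        have hTq : ((T : G) : G ⧸ H)⁻¹ = ((T : G) : G ⧸ H) := by
          rw [← QuotientGroup.mk_inv, hTinv]
        rw [hTq, hu, hT', hsb]
        simp only [QuotientGroup.mk_mul, QuotientGroup.mk_inv]
        group
      rw [h1]
      exact Subgroup.mul_mem _
        (hKn.conj_mem _ (Subgroup.inv_mem _ (Subgroup.mem_zpowers sb)) _)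
        (Subgroup.mem_zpowers sb)
    have hu5 : u ^ 5 ∈ H := by
      rw [← QuotientGroup.eq_one_iff, QuotientGroup.mk_pow]
      have h1 : (⟨(u : G ⧸ H), hub⟩ : Subgroup.zpowers sb) ^ 5 = 1 := by
        rw [← hKcard]
        exact pow_card_eq_one'
      exact congrArg Subtype.val h1
    have hu160 : (u ^ 5) ^ 32 = 1 := by
      have h1 : (⟨u ^ 5, hu5⟩ : ↥H) ^ 32 = 1 := by
        rw [← h32]
        exact pow_card_eq_one'
      exact congrArg Subtype.val h1
    set s₁ := u ^ 64 with hs₁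
    have hs₁5 : s₁ ^ 5 = 1 := by
      rw [hs₁, ← pow_mul]
      have h1 : u ^ (64 * 5) = ((u ^ 5) ^ 32) ^ 2 := by
        rw [← pow_mul, ← pow_mul]
      rw [h1, hu160, one_pow]
    have hs₁1 : s₁ ≠ 1 := by
      intro h1
      apply huH
      have h3 : (u ^ 5) ^ 13 = u * u ^ 64 := by
        rw [← pow_mul]
        exact pow_succ' u 64
      have h4 : u = (u ^ 5) ^ 13 := by
        rw [h3, ← hs₁, h1, mul_one]
      rw [h4]
      exact H.pow_mem hu5 13
    have hos₁ : orderOf s₁ = 5 := orderOf_eq_prime hs₁5 hs₁1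
    have hle1 : fixBar (φ u) ≤ Subgroup.center ↥H := by
      have h64 := fixBar_le_pow (φ u) 64
      have e : (φ u) ^ 64 = φ s₁ := by rw [hs₁, map_pow]
      have e2 : fixBar (φ s₁) = Subgroup.center ↥H := hfix5 s₁ hos₁
      exact (h64.trans (le_of_eq (congrArg fixBar e))).trans (le_of_eq e2)
    have hc1 := Subgroup.card_le_of_le (hinfle.trans hle1)
    rw [hZ] at hc1
    omega

/-- Let G be a finite group of order 320 = 64·5 whose largest normal 2-subgroup H = O₂(G) equals the Fitting subgroup F(G) and is extraspecial of order 32 containing no elementary abelian subgroup of order 8 (so H is the central product of a quaternion group and a dihedral group of order 8). If T is an involution of G outside H whose centralizer in H contains an elementary abelian subgroup of order 4, then C_H(T) itself is elementary abelian of order 4. -/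
theorem result {G : Type*} [Group G] [Finite G]
    (hG : Nat.card G = 320) (hHF : Cfsg.pCore 2 G = Cfsg.fittingSubgroup G)
    (hex : Cfsg.IsExtraspecial 2 ↥(Cfsg.pCore 2 G)) (h32 : Nat.card ↥(Cfsg.pCore 2 G) = 32)
    (hminus : ∀ A : Subgroup G, A ≤ Cfsg.pCore 2 G → Cfsg.IsElementaryAbelian 2 A → Nat.card ↥A ≤ 4)
    (T : G) (hT : orderOf T = 2) (hTH : T ∉ Cfsg.pCore 2 G)
    (V : Subgroup G) (hV : V ≤ Cfsg.pCore 2 G ⊓ Subgroup.centralizer ({T} : Set G)) (hV4 : Nat.card ↥V = 4) (hVe : Cfsg.IsElementaryAbelian 2 V) :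
    Nat.card ↥(Cfsg.pCore 2 G ⊓ Subgroup.centralizer ({T} : Set G)) = 4 ∧
      Cfsg.IsElementaryAbelian 2 (Cfsg.pCore 2 G ⊓ Subgroup.centralizer ({T} : Set G)) := by
  classical
  have : Fact (Nat.Prime 2) := ⟨Nat.prime_two⟩
  have hHn : (Cfsg.pCore 2 G).Normal := pCore_normal 2 G
  obtain ⟨⟨hHp, hfr, hcm⟩, hZ⟩ := hex
  have hcomm : ∀ a b : ↥(Cfsg.pCore 2 G), ⁅a, b⁆ ∈ Subgroup.center ↥(Cfsg.pCore 2 G) :=
    fun a b => by
      rw [← hcm]
      exact Subgroup.commutator_mem_commutator (Subgroup.mem_top a) (Subgroup.mem_top b)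
  have hsq : ∀ a : ↥(Cfsg.pCore 2 G), a ^ 2 ∈ Subgroup.center ↥(Cfsg.pCore 2 G) := fun a => by
    rw [← hfr]
    exact isPGroup_pow_mem_frattini hHp a
  have hZn : ((Subgroup.center ↥(Cfsg.pCore 2 G)).map (Cfsg.pCore 2 G).subtype).Normal :=
    char_map_normal _ _
  have hZcard : Nat.card ↥((Subgroup.center ↥(Cfsg.pCore 2 G)).map (Cfsg.pCore 2 G).subtype) = 2 := by
    rw [card_map_subtype, hZ]
  have hφc : ∀ g : G, ∀ c ∈ Subgroup.center ↥(Cfsg.pCore 2 G),
      (MulAut.conjNormal g : MulAut ↥(Cfsg.pCore 2 G)) c = c := by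
    intro g c hc
    apply Subtype.ext
    rw [MulAut.conjNormal_apply]
    have h1 : (c : G) ∈ (Subgroup.center ↥(Cfsg.pCore 2 G)).map (Cfsg.pCore 2 G).subtype :=
      ⟨c, hc, rfl⟩
    have h2 := Subgroup.mem_center_iff.mp (mem_center_of_normal_card_two _ hZcard h1) g
    rw [h2]
    group
  have hsolv : Group.IsSolvable G :=
    Cfsg.Agent.Lib.H23.isSolvable_of_card_eq_prime_pow_mul_prime_pow 2 5 6 1 Nat.prime_two
      (by norm_num) (by rw [hG]; norm_num)
  have hCH : Subgroup.centralizer ((Cfsg.pCore 2 G : Subgroup G) : Set G) ≤ Cfsg.pCore 2 G := by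
    have h1 := Cfsg.Agent.Lib.H7.centralizer_fittingSubgroup_le_of_isSolvable G
    rw [← hHF] at h1
    exact h1
  have hφne : ∀ g : G, orderOf g = 5 →
      (MulAut.conjNormal g : MulAut ↥(Cfsg.pCore 2 G)) ≠ 1 := by
    intro g hg h1
    have hgC : g ∈ Subgroup.centralizer ((Cfsg.pCore 2 G : Subgroup G) : Set G) := by
      rw [Subgroup.mem_centralizer_iff]
      intro h hh
      have h2 := congrArg (fun f : MulAut ↥(Cfsg.pCore 2 G) => ((f ⟨h, hh⟩ : ↥(Cfsg.pCore 2 G)) : G)) h1
      simp only [MulAut.one_apply] at h2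
      rw [MulAut.conjNormal_apply] at h2
      calc h * g = (g * h * g⁻¹) * g := by rw [h2]
        _ = g * h := by group
    have hgH : g ∈ Cfsg.pCore 2 G := hCH hgC
    have h3 := orderOf_dvd_natCard (⟨g, hgH⟩ : ↥(Cfsg.pCore 2 G))
    rw [Subgroup.orderOf_mk, hg, h32] at h3
    norm_num at h3
  have hfix5 : ∀ g : G, orderOf g = 5 →
      fixBar (MulAut.conjNormal g : MulAut ↥(Cfsg.pCore 2 G)) = Subgroup.center ↥(Cfsg.pCore 2 G) :=
    fun g hg => fixBar_eq_center_of_order_five h32 hZ _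
      (by rw [← map_pow, ← hg, pow_orderOf_eq_one, map_one]) (hφne g hg) (hφc g)
  have hbound := card_fixBar_le hG (Cfsg.pCore 2 G) rfl hHp h32 hZ hcm hφc hfix5 T hT hTH
  have hT2 : T * T = 1 := by
    rw [← pow_two, ← hT]
    exact pow_orderOf_eq_one T
  have hkey : ∀ d ∈ Cfsg.pCore 2 G ⊓ Subgroup.centralizer ({T} : Set G), d ^ 2 = 1 := by
    intro d hd
    obtain ⟨hdH, hdC⟩ := hd
    have hdT : T * d * T⁻¹ = d := by
      have h1 := Subgroup.mem_centralizer_iff.mp hdC T (Set.mem_singleton T)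
      rw [h1]
      group
    have h2 := sq_eq_one_of_fixed h32 hZ hcomm hsq
      (MulAut.conjNormal T : MulAut ↥(Cfsg.pCore 2 G))
      (by rw [← map_mul, hT2, map_one]) (hφc T) hbound ⟨d, hdH⟩
      (Subtype.ext (by rw [MulAut.conjNormal_apply]; exact hdT))
    exact congrArg Subtype.val h2
  have hDel : Cfsg.IsElementaryAbelian 2
      (Cfsg.pCore 2 G ⊓ Subgroup.centralizer ({T} : Set G)) := by
    refine ⟨⟨⟨fun a b => Subtype.ext ?_⟩⟩, fun a ha => hkey a ha⟩
    have ha2 := hkey a a.2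
    have hb2 := hkey b b.2
    have hab2 := hkey (a * b : G) (Subgroup.mul_mem _ a.2 b.2)
    rw [pow_two] at ha2 hb2 hab2
    have e1 : (a : G)⁻¹ = a := inv_eq_of_mul_eq_one_right ha2
    have e2 : (b : G)⁻¹ = b := inv_eq_of_mul_eq_one_right hb2
    have e3 : ((a : G) * b)⁻¹ = a * b := inv_eq_of_mul_eq_one_right hab2
    show (a : G) * b = b * a
    calc (a : G) * b = ((a : G) * b)⁻¹ := e3.symm
      _ = (b : G)⁻¹ * (a : G)⁻¹ := mul_inv_rev _ _
      _ = b * a := by rw [e1, e2]
  have hDle := hminus _ inf_le_left hDel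
  have hVD := Subgroup.card_le_of_le hV
  rw [hV4] at hVD
  exact ⟨le_antisymm hDle hVD, hDel⟩

end Main

end Cfsg.Agent.S4405
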