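import Mathlib
import Cfsg.Statements.S4406

set_option autoImplicit false
open Cfsg

namespace Cfsg.Agent.S4406

abbrev A4 : Type := ↥(alternatingGroup (Fin 4))

abbrev M (a b u v u1 v1 u2 v2 : A4) : Prop :=
  (a * u * a⁻¹ = u1 ∧ b * v * b⁻¹ = v1) ∨ (a * u * a⁻¹ = u2 ∧ b * v * b⁻¹ = v2) ∨
    (a * u * a⁻¹ = u1 * u2 ∧ b * v * b⁻¹ = v1 * v2)

abbrev N (a b u1 v1 u2 v2 : A4) : Prop :=
  M a b u1 v1 u1 v1 u2 v2 ∧ M a b u2 v2 u1 v1 u2 v2

set_option maxRecDepth 1000000 in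
set_option synthInstance.maxHeartbeats 400000 in
set_option synthInstance.maxSize 4000 in
theorem Phi : ∀ a : A4, a^3 = 1 → a ≠ 1 → ∀ b : A4, b^3 = 1 → b ≠ 1 →
    ∀ u1 : A4, u1^2 = 1 → u1 ≠ 1 → ∀ v1 : A4, v1^2 = 1 → v1 ≠ 1 →
    ∀ u2 : A4, u2^2 = 1 → u2 ≠ 1 → u2 ≠ u1 → ∀ v2 : A4, v2^2 = 1 → v2 ≠ 1 → v2 ≠ v1 →
    N a b u1 v1 u2 v2 ∨ N a b⁻¹ u1 v1 u2 v2 := by decide

set_option maxRecDepth 100000 in
theorem D1 : ∀ s : A4, s^4 = 1 → s^2 = 1 := by decide

set_option maxRecDepth 100000 in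
theorem D2 : ∀ s : A4, s^3 = 1 → s⁻¹ ^ 3 = 1 ∧ (s ≠ 1 → s⁻¹ ≠ 1) := by decide

theorem card_A4 : Nat.card A4 = 12 :=
  alternatingGroup.card_of_card_eq_four (by simp)

theorem aux2 (s : A4) (k : ℕ) (h : s ^ (2 ^ k) = 1) : s ^ 2 = 1 := by
  apply D1
  have h1 : orderOf s ∣ 2 ^ k := orderOf_dvd_of_pow_eq_one h
  have h2 : orderOf s ∣ 4 * 3 := by
    have := orderOf_dvd_natCard s
    rw [card_A4] at this
    exact this
  have hcop : Nat.Coprime (orderOf s) 3 :=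
    Nat.Coprime.coprime_dvd_left h1 (Nat.Coprime.pow_left k (by norm_num))
  exact orderOf_dvd_iff_pow_eq_one.1 (hcop.dvd_of_dvd_mul_right h2)

theorem aux3 (s : A4) (k : ℕ) (h : s ^ (3 ^ k) = 1) : s ^ 3 = 1 := by
  have h1 : orderOf s ∣ 3 ^ k := orderOf_dvd_of_pow_eq_one h
  have h2 : orderOf s ∣ 3 * 4 := by
    have := orderOf_dvd_natCard s
    rw [card_A4] at this
    exact this
  have hcop : Nat.Coprime (orderOf s) 4 :=
    Nat.Coprime.coprime_dvd_left h1 (Nat.Coprime.pow_left k (by norm_num))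
  exact orderOf_dvd_iff_pow_eq_one.1 (hcop.dvd_of_dvd_mul_right h2)

theorem mem_normalizer_of_forall {G : Type*} [Group G] [Finite G] {B : Subgroup G} {g : G}
    (h : ∀ b ∈ B, g * b * g⁻¹ ∈ B) : g ∈ Subgroup.normalizer (B : Set G) := by
  rw [Subgroup.mem_normalizer_iff_map_conj_eq]
  apply Subgroup.eq_of_le_of_card_ge
  · rintro _ ⟨b, hb, rfl⟩
    exact h b hb
  · rw [Subgroup.card_map_of_injective (MulAut.conj g).injective]

/-- Existence of the elements `(a,1)` and `(1,b)` in a Sylow 3-subgroup. -/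
theorem exists_in_Q (Q : Sylow 3 (A4 × A4)) :
    (∃ a : A4, a ≠ 1 ∧ a ^ 3 = 1 ∧ ((a, 1) : A4 × A4) ∈ (Q : Subgroup (A4 × A4))) ∧
    (∃ b : A4, b ≠ 1 ∧ b ^ 3 = 1 ∧ ((1, b) : A4 × A4) ∈ (Q : Subgroup (A4 × A4))) := by
  have h9 : 3 ^ 2 ∣ Nat.card (Q : Subgroup (A4 × A4)) := by
    apply Q.pow_dvd_card_of_pow_dvd_card
    rw [Nat.card_prod, card_A4]
    norm_num
  have hcube : ∀ q ∈ (Q : Subgroup (A4 × A4)), q.1 ^ 3 = 1 ∧ q.2 ^ 3 = 1 := by
    intro q hq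
    obtain ⟨k, hk⟩ := Q.isPGroup' ⟨q, hq⟩
    have hk' : q ^ (3 ^ k) = 1 := by simpa using congrArg Subtype.val hk
    refine ⟨aux3 q.1 k ?_, aux3 q.2 k ?_⟩
    · rw [← Prod.pow_fst, hk']; rfl
    · rw [← Prod.pow_snd, hk']; rfl
  constructor
  · let f : (Q : Subgroup (A4 × A4)) →* A4 :=
      (MonoidHom.snd A4 A4).comp (Q : Subgroup (A4 × A4)).subtype
    have hninj : ¬ Function.Injective f := by
      intro hinj
      have := Subgroup.card_dvd_of_injective f hinj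
      rw [card_A4] at this
      have h912 : 3 ^ 2 ∣ 12 := h9.trans this
      norm_num at h912
    rw [injective_iff_map_eq_one] at hninj
    push Not at hninj
    obtain ⟨⟨⟨a, b⟩, hq⟩, hq1, hq2⟩ := hninj
    have hb : b = 1 := hq1
    subst hb
    refine ⟨a, ?_, (hcube _ hq).1, hq⟩
    rintro rfl
    exact hq2 rfl
  · let f : (Q : Subgroup (A4 × A4)) →* A4 :=
      (MonoidHom.fst A4 A4).comp (Q : Subgroup (A4 × A4)).subtype
    have hninj : ¬ Function.Injective f := by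
      intro hinj
      have := Subgroup.card_dvd_of_injective f hinj
      rw [card_A4] at this
      have h912 : 3 ^ 2 ∣ 12 := h9.trans this
      norm_num at h912
    rw [injective_iff_map_eq_one] at hninj
    push Not at hninj
    obtain ⟨⟨⟨a, b⟩, hq⟩, hq1, hq2⟩ := hninj
    have ha : a = 1 := hq1
    subst ha
    refine ⟨b, ?_, (hcube _ hq).2, hq⟩
    rintro rfl
    exact hq2 rfl


theorem result
    (X : Sylow 2 (↥(alternatingGroup (Fin 4)) × ↥(alternatingGroup (Fin 4))))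
    (Q : Sylow 3 (↥(alternatingGroup (Fin 4)) × ↥(alternatingGroup (Fin 4))))
    (B : Subgroup (↥(alternatingGroup (Fin 4)) × ↥(alternatingGroup (Fin 4)))) (hBX : B ≤ (X : Subgroup _)) (hB4 : Nat.card ↥B = 4) :
    B ⊓ ((X : Subgroup _) ⊓ Subgroup.prod ⊤ ⊥) ≠ ⊥ ∨ B ⊓ ((X : Subgroup _) ⊓ Subgroup.prod ⊥ ⊤) ≠ ⊥ ∨
      ∃ R : Subgroup (↥(alternatingGroup (Fin 4)) × ↥(alternatingGroup (Fin 4))), R ≤ (Q : Subgroup _) ∧ Nat.card ↥R = 3 ∧
        R ≠ (Q : Subgroup _) ⊓ Subgroup.prod ⊤ ⊥ ∧ R ≠ (Q : Subgroup _) ⊓ Subgroup.prod ⊥ ⊤ ∧ R ≤ Subgroup.normalizer (B : Set _) := by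
  classical
  by_contra hcon
  push Not at hcon
  obtain ⟨h1, h2, h3⟩ := hcon
  have hB1 : ∀ x ∈ B, x.2 = 1 → x = 1 := by
    intro x hx hx2
    have : x ∈ B ⊓ ((X : Subgroup (A4 × A4)) ⊓ Subgroup.prod ⊤ ⊥) := by
      exact Subgroup.mem_inf.2 ⟨hx, Subgroup.mem_inf.2 ⟨hBX hx,
        Subgroup.mem_prod.2 ⟨Subgroup.mem_top _, Subgroup.mem_bot.2 hx2⟩⟩⟩
    rw [h1] at this
    exact Subgroup.mem_bot.1 this
  have hB2 : ∀ x ∈ B, x.1 = 1 → x = 1 := by
    intro x hx hx2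
    have : x ∈ B ⊓ ((X : Subgroup (A4 × A4)) ⊓ Subgroup.prod ⊥ ⊤) := by
      exact Subgroup.mem_inf.2 ⟨hx, Subgroup.mem_inf.2 ⟨hBX hx,
        Subgroup.mem_prod.2 ⟨Subgroup.mem_bot.2 hx2, Subgroup.mem_top _⟩⟩⟩
    rw [h2] at this
    exact Subgroup.mem_bot.1 this
  have hBsq : ∀ x ∈ B, x.1 ^ 2 = 1 ∧ x.2 ^ 2 = 1 := by
    intro x hx
    obtain ⟨k, hk⟩ := X.isPGroup' ⟨x, hBX hx⟩
    have hk' : x ^ (2 ^ k) = 1 := by simpa using congrArg Subtype.val hk
    refine ⟨aux2 x.1 k ?_, aux2 x.2 k ?_⟩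
    · rw [← Prod.pow_fst, hk']; rfl
    · rw [← Prod.pow_snd, hk']; rfl
  have hBsq' : ∀ x ∈ B, x * x = 1 := by
    intro x hx
    obtain ⟨e1, e2⟩ := hBsq x hx
    ext1
    · rw [Prod.fst_mul, ← pow_two, e1]; rfl
    · rw [Prod.snd_mul, ← pow_two, e2]; rfl
  -- elements of B
  obtain ⟨x, hxB, hx1⟩ : ∃ x ∈ B, x ≠ 1 := by
    rcases B.bot_or_exists_ne_one with h | h
    · rw [h, Subgroup.card_bot] at hB4; omega
    · exact h
  have hBn : (B : Set (A4 × A4)).ncard = 4 := by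
    exact (Nat.card_coe_set_eq _).symm.trans hB4
  obtain ⟨y, hyB, hy⟩ : ∃ y, y ∈ (B : Set (A4 × A4)) ∧ y ∉ ({1, x} : Set (A4 × A4)) := by
    refine Set.exists_mem_notMem_of_ncard_lt_ncard ?_ (Set.toFinite _)
    rw [hBn, Set.ncard_pair (Ne.symm hx1)]
    norm_num
  have hy1 : y ≠ 1 := fun h => hy (by rw [h]; simp)
  have hyx : y ≠ x := fun h => hy (by rw [h]; simp)
  have hyB' : y ∈ B := hyB
  have hxyB : x * y ∈ B := B.mul_mem hxB hyB'
  have hF : ({1, x, y, x * y} : Finset (A4 × A4)).card = 4 := by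
    rw [Finset.card_insert_of_notMem, Finset.card_insert_of_notMem,
      Finset.card_insert_of_notMem, Finset.card_singleton]
    · simp only [Finset.mem_singleton]
      intro h
      apply hx1
      have : 1 * y = x * y := by rw [one_mul]; exact h
      exact (mul_right_cancel this).symm
    · simp only [Finset.mem_insert, Finset.mem_singleton, not_or]
      refine ⟨Ne.symm hyx, ?_⟩
      intro h
      apply hy1
      have : x * 1 = x * y := by rw [mul_one]; exact h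
      exact (mul_left_cancel this).symm
    · simp only [Finset.mem_insert, Finset.mem_singleton, not_or]
      refine ⟨Ne.symm hx1, Ne.symm hy1, ?_⟩
      intro h
      apply hyx
      have : x * x = x * y := by rw [hBsq' x hxB]; exact h
      exact (mul_left_cancel this).symm
  have hBeq : (({1, x, y, x * y} : Finset (A4 × A4)) : Set (A4 × A4)) = (B : Set (A4 × A4)) := by
    refine Set.eq_of_subset_of_ncard_le ?_ ?_ (Set.toFinite _)
    · intro z hz
      simp only [Finset.coe_insert, Finset.coe_singleton, Set.mem_insert_iff,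
        Set.mem_singleton_iff] at hz
      rcases hz with rfl | rfl | rfl | rfl
      · exact B.one_mem
      · exact hxB
      · exact hyB'
      · exact hxyB
    · rw [Set.ncard_coe_finset, hF, hBn]
  have hBmem : ∀ z ∈ B, z = 1 ∨ z = x ∨ z = y ∨ z = x * y := by
    intro z hz
    have : z ∈ (({1, x, y, x * y} : Finset (A4 × A4)) : Set (A4 × A4)) := by
      rw [hBeq]; exact hz
    simpa using this
  -- the elements of Q
  obtain ⟨⟨a, ha1, ha3, haQ⟩, ⟨b, hb1, hb3, hbQ⟩⟩ := exists_in_Q Q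
  -- non-degeneracy
  have hu1 : x.1 ≠ 1 := fun h => hx1 (hB2 x hxB h)
  have hv1 : x.2 ≠ 1 := fun h => hx1 (hB1 x hxB h)
  have hu2 : y.1 ≠ 1 := fun h => hy1 (hB2 y hyB' h)
  have hv2 : y.2 ≠ 1 := fun h => hy1 (hB1 y hyB' h)
  have hu21 : y.1 ≠ x.1 := by
    intro h
    apply hyx
    have h' : (y * x⁻¹).1 = 1 := by rw [Prod.fst_mul, Prod.fst_inv, h, mul_inv_cancel]
    have := hB2 _ (B.mul_mem hyB' (B.inv_mem hxB)) h'
    exact mul_inv_eq_one.1 this
  have hv21 : y.2 ≠ x.2 := by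
    intro h
    apply hyx
    have h' : (y * x⁻¹).2 = 1 := by rw [Prod.snd_mul, Prod.snd_inv, h, mul_inv_cancel]
    have := hB1 _ (B.mul_mem hyB' (B.inv_mem hxB)) h'
    exact mul_inv_eq_one.1 this
  -- general construction of R
  have key : ∀ b' : A4, b' ≠ 1 → b' ^ 3 = 1 → ((1, b') : A4 × A4) ∈ (Q : Subgroup (A4 × A4)) →
      N a b' x.1 x.2 y.1 y.2 → False := by
    intro b' hb'1 hb'3 hb'Q hN
    have hrQ : ((a, b') : A4 × A4) ∈ (Q : Subgroup (A4 × A4)) := by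
      have := (Q : Subgroup (A4 × A4)).mul_mem haQ hb'Q
      simpa using this
    have hr3 : ((a, b') : A4 × A4) ^ 3 = 1 := by
      ext1
      · rw [Prod.pow_fst]; exact ha3
      · rw [Prod.pow_snd]; exact hb'3
    have hr1 : ((a, b') : A4 × A4) ≠ 1 := by
      intro h
      exact ha1 (congrArg Prod.fst h)
    have hconj : ∀ z : A4 × A4, (a, b') * z * (a, b')⁻¹ = (a * z.1 * a⁻¹, b' * z.2 * b'⁻¹) := by
      intro z; rfl
    have hMB : ∀ z : A4 × A4, M a b' z.1 z.2 x.1 x.2 y.1 y.2 → (a, b') * z * (a, b')⁻¹ ∈ B := by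
      intro z hM
      rw [hconj]
      rcases hM with ⟨e1, e2⟩ | ⟨e1, e2⟩ | ⟨e1, e2⟩
      · rw [e1, e2]; exact hxB
      · rw [e1, e2]; exact hyB'
      · rw [e1, e2]; exact hxyB
    have hxc := hMB x hN.1
    have hyc := hMB y hN.2
    have hnorm : ((a, b') : A4 × A4) ∈ Subgroup.normalizer (B : Set (A4 × A4)) := by
      apply mem_normalizer_of_forall
      intro z hz
      rcases hBmem z hz with rfl | rfl | rfl | rfl
      · rw [mul_one, mul_inv_cancel]; exact B.one_mem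
      · exact hxc
      · exact hyc
      · have : (a, b') * (x * y) * (a, b')⁻¹ =
            ((a, b') * x * (a, b')⁻¹) * ((a, b') * y * (a, b')⁻¹) := by group
        rw [this]
        exact B.mul_mem hxc hyc
    refine h3 (Subgroup.zpowers ((a, b') : A4 × A4)) (Subgroup.zpowers_le.2 hrQ) ?_ ?_ ?_
      (Subgroup.zpowers_le.2 hnorm)
    · rw [Nat.card_zpowers]
      exact orderOf_eq_prime hr3 hr1
    · intro h
      have : ((a, b') : A4 × A4) ∈ (Q : Subgroup (A4 × A4)) ⊓ Subgroup.prod ⊤ ⊥ := by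
        rw [← h]; exact Subgroup.mem_zpowers _
      have h' := (Subgroup.mem_prod.1 this.2).2
      exact hb'1 (Subgroup.mem_bot.1 h')
    · intro h
      have : ((a, b') : A4 × A4) ∈ (Q : Subgroup (A4 × A4)) ⊓ Subgroup.prod ⊥ ⊤ := by
        rw [← h]; exact Subgroup.mem_zpowers _
      have h' := (Subgroup.mem_prod.1 this.2).1
      exact ha1 (Subgroup.mem_bot.1 h')
  rcases Phi a ha3 ha1 b hb3 hb1 x.1 (hBsq x hxB).1 hu1 x.2 (hBsq x hxB).2 hv1
      y.1 (hBsq y hyB').1 hu2 hu21 y.2 (hBsq y hyB').2 hv2 hv21 with hN | hN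
  · exact key b hb1 hb3 hbQ hN
  · refine key b⁻¹ ((D2 b hb3).2 hb1) (D2 b hb3).1 ?_ hN
    have := (Q : Subgroup (A4 × A4)).inv_mem hbQ
    simpa using this

end Cfsg.Agent.S4406
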