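import Cfsg.Statements.S4407
import Cfsg.Agent.Lib.H1.D8ModI

set_option autoImplicit false
open Cfsg

namespace Cfsg.Agent.S4407

/-- Let S be a finite group with a normal elementary abelian subgroup A of order 9 that is self-centralizing (C_S(A) = A), and a dihedral subgroup X of order 8 with S = AX. Let M be a finite-dimensional module for S over the field with two elements that is faithful and irreducible. Then M has 16 elements, and X contains exactly one subgroup B of order 4 and exponent 2 whose fixed points on M form a subspace with exactly 2 elements (equivalently, M is free of rank one over the group algebra of B). -/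
theorem result {S : Type*} [Group S] [Finite S]
    (A : Subgroup S) [A.Normal] (hA : Cfsg.IsElementaryAbelian 3 A) (hA9 : Nat.card ↥A = 9)
    (hAC : Subgroup.centralizer (A : Set S) = A) (X : Subgroup S) (hX : Nonempty (↥X ≃* DihedralGroup 4)) (hAX : A ⊔ X = ⊤)
    {M : Type*} [AddCommGroup M] [Module (ZMod 2) M] [Finite M] (ρ : Representation (ZMod 2) S M)
    (hfaith : Function.Injective ρ)
    (hirr : ∀ N : Submodule (ZMod 2) M, (∀ s : S, ∀ m ∈ N, ρ s m ∈ N) → N = ⊥ ∨ N = ⊤) (hM : Nontrivial M) :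
    Nat.card M = 16 ∧
      ∃! B : Subgroup S, B ≤ X ∧ Nat.card ↥B = 4 ∧ (∀ b ∈ B, b ^ 2 = 1) ∧
        Nat.card {m : M // ∀ b ∈ B, ρ b m = m} = 2 := by
  classical
  obtain ⟨φ⟩ := hX
  set ψ : DihedralGroup 4 →* S := X.subtype.comp φ.symm.toMonoidHom with hψ
  have hψinj : Function.Injective ψ := X.subtype_injective.comp φ.symm.injective
  have hrange : ψ.range = X := by
    rw [hψ, MonoidHom.range_comp, MonoidHom.range_eq_top.mpr φ.symm.surjective,
      ← MonoidHom.range_eq_map, Subgroup.range_subtype]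
  have hAX' : A ⊔ ψ.range = ⊤ := by rw [hrange]; exact hAX
  have hX8 : Nat.card ↥X = 8 := by
    rw [Nat.card_congr φ.toEquiv, DihedralGroup.nat_card]
  have hinf : A ⊓ X = ⊥ := by
    apply Disjoint.eq_bot
    apply Subgroup.disjoint_of_coprime_natCard
    rw [hA9, hX8]; norm_num
  have hfaithA : ∀ g : DihedralGroup 4, (∀ a ∈ A, ψ g * a * (ψ g)⁻¹ = a) → g = 1 := by
    intro g hg
    have h1 : ψ g ∈ Subgroup.centralizer (A : Set S) := by
      rw [Subgroup.mem_centralizer_iff]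
      intro a ha
      have := hg a ha
      calc a * ψ g = (ψ g * a * (ψ g)⁻¹) * ψ g := by rw [this]
        _ = ψ g * a := by group
    rw [hAC] at h1
    have h2 : ψ g ∈ X := by rw [← hrange]; exact ⟨g, rfl⟩
    have h3 : ψ g ∈ A ⊓ X := Subgroup.mem_inf.mpr ⟨h1, h2⟩
    rw [hinf, Subgroup.mem_bot] at h3
    apply hψinj
    rw [h3, map_one]
  obtain ⟨h16, hcases⟩ :=
    Cfsg.Agent.Lib.H1.D8Mod.cases_theorem ρ hA hA9 ψ hAX' hfaithA hfaith hirr
  refine ⟨h16, ?_⟩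
  -- the two candidate four-groups
  have hsq0 : ∀ k : DihedralGroup 4, Cfsg.Agent.Lib.H1.D8Mod.P0 k → k * k = 1 := by decide
  have hsq1 : ∀ k : DihedralGroup 4, Cfsg.Agent.Lib.H1.D8Mod.P1 k → k * k = 1 := by decide
  have hprops : ∀ K : Subgroup (DihedralGroup 4), Nat.card ↥K = 4 → (∀ k ∈ K, k * k = 1) →
      K.map ψ ≤ X ∧ Nat.card ↥(K.map ψ) = 4 ∧ ∀ b ∈ K.map ψ, b ^ 2 = 1 := by
    intro K hK4 hK2
    refine ⟨?_, ?_, ?_⟩
    · rw [← hrange, MonoidHom.range_eq_map]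
      exact Subgroup.map_mono le_top
    · rw [Subgroup.card_map_of_injective hψinj, hK4]
    · rintro b ⟨k, hk, rfl⟩
      rw [pow_two, ← map_mul, hK2 k hk, map_one]
  have hB0 := hprops Cfsg.Agent.Lib.H1.D8Mod.K0 Cfsg.Agent.Lib.H1.D8Mod.card_K0
    (fun k hk => hsq0 k hk)
  have hB1 := hprops Cfsg.Agent.Lib.H1.D8Mod.K1 Cfsg.Agent.Lib.H1.D8Mod.card_K1
    (fun k hk => hsq1 k hk)
  have hcount0 : Nat.card {m : M // ∀ b ∈ Cfsg.Agent.Lib.H1.D8Mod.K0.map ψ, ρ b m = m} =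
      Nat.card {x : M // ρ (ψ (DihedralGroup.sr 0)) x = x ∧ ρ (ψ (DihedralGroup.r 2)) x = x} :=
    Nat.card_congr (Equiv.subtypeEquivRight (Cfsg.Agent.Lib.H1.D8Mod.fix_K0_iff ρ ψ))
  have hcount1 : Nat.card {m : M // ∀ b ∈ Cfsg.Agent.Lib.H1.D8Mod.K1.map ψ, ρ b m = m} =
      Nat.card {x : M // ρ (ψ (DihedralGroup.sr 1)) x = x ∧ ρ (ψ (DihedralGroup.r 2)) x = x} :=
    Nat.card_congr (Equiv.subtypeEquivRight (Cfsg.Agent.Lib.H1.D8Mod.fix_K1_iff ρ ψ))
  have hclass : ∀ B : Subgroup S, B ≤ X → Nat.card ↥B = 4 → (∀ b ∈ B, b ^ 2 = 1) →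
      B = Cfsg.Agent.Lib.H1.D8Mod.K0.map ψ ∨ B = Cfsg.Agent.Lib.H1.D8Mod.K1.map ψ := by
    intro B hBX hB4 hB2
    have hBr : B ≤ ψ.range := by rw [hrange]; exact hBX
    have hmap : (B.comap ψ).map ψ = B := Subgroup.map_comap_eq_self hBr
    have hK4 : Nat.card ↥(B.comap ψ) = 4 := by
      rw [← Subgroup.card_map_of_injective hψinj, hmap, hB4]
    have hK2 : ∀ k ∈ B.comap ψ, k * k = 1 := by
      intro k hk
      apply hψinj
      rw [map_mul, map_one, ← pow_two]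
      exact hB2 _ hk
    rcases Cfsg.Agent.Lib.H1.D8Mod.klein_classification _ hK4 hK2 with h | h
    · left; rw [← hmap, h]
    · right; rw [← hmap, h]
  rcases hcases with ⟨h4, h2⟩ | ⟨h4, h2⟩
  · refine ⟨Cfsg.Agent.Lib.H1.D8Mod.K1.map ψ, ⟨hB1.1, hB1.2.1, hB1.2.2, by rw [hcount1, h2]⟩, ?_⟩
    rintro B ⟨hBX, hB4, hB2, hBc⟩
    rcases hclass B hBX hB4 hB2 with rfl | rfl
    · exfalso
      rw [hcount0, h4] at hBc
      norm_num at hBc
    · rfl
  · refine ⟨Cfsg.Agent.Lib.H1.D8Mod.K0.map ψ, ⟨hB0.1, hB0.2.1, hB0.2.2, by rw [hcount0, h2]⟩, ?_⟩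
    rintro B ⟨hBX, hB4, hB2, hBc⟩
    rcases hclass B hBX hB4 hB2 with rfl | rfl
    · rfl
    · exfalso
      rw [hcount1, h4] at hBc
      norm_num at hBc

end Cfsg.Agent.S4407
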