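import Cfsg.Statements.S4408
import Cfsg.Agent.Lib.H7.DihedralLemma2
import Cfsg.Agent.Lib.H3.OffenderSL2a
-- import your own Cfsg.Agent.* helpers here

set_option autoImplicit false
open Cfsg

namespace Cfsg.Agent.S4408

open Cfsg Cfsg.Agent.Lib.H7

theorem iSup_fin_succ_sub {G : Type*} [Group G] {k : ℕ} (g : Fin (k+1) → Subgroup G) :
    (⨆ i, g i) = g 0 ⊔ ⨆ i : Fin k, g i.succ := by
  apply le_antisymm
  · apply iSup_le
    intro i
    refine Fin.cases ?_ ?_ i
    · exact le_sup_left
    · intro j; exact le_trans (le_iSup (fun i : Fin k => g i.succ) j) le_sup_right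
  · apply sup_le (le_iSup g 0)
    apply iSup_le
    intro j; exact le_iSup g j.succ

theorem eq_one_of_sq_of_odd {G : Type*} [Group G] [Finite G] {M : Subgroup G}
    (hModd : Odd (Nat.card M)) {x : G} (hxM : x ∈ M) (hx2 : x ^ 2 = 1) : x = 1 := by
  have h1 : orderOf x ∣ 2 := orderOf_dvd_of_pow_eq_one hx2
  have h2 : orderOf x ∣ Nat.card M := Subgroup.orderOf_dvd_natCard M hxM
  have hcop : Nat.Coprime (orderOf x) (Nat.card M) :=
    Nat.Coprime.coprime_dvd_left h1 (Nat.coprime_two_left.2 hModd)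
  exact orderOf_eq_one_iff.mp (Nat.Coprime.eq_one_of_dvd hcop h2)

theorem card_iSup_zpowers {G : Type*} [Group G] [Finite G] {M : Subgroup G}
    (hMab : ∀ x ∈ M, ∀ y ∈ M, x * y = y * x) (hModd : Odd (Nat.card M)) :
    ∀ (k : ℕ) (b v : Fin k → G), (∀ i, v i ∈ M) → (∀ i, b i * v i * (b i)⁻¹ = (v i)⁻¹) →
      (∀ i j, i ≠ j → b j * v i * (b j)⁻¹ = v i) →
      Nat.card ↥(⨆ i, Subgroup.zpowers (v i)) = ∏ i, orderOf (v i) := by
  intro k
  induction k with
  | zero =>
    intro b v _ _ _
    rw [iSup_of_empty, Subgroup.card_bot]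
    simp
  | succ k ih =>
    intro b v hv hinv hcen
    rw [iSup_fin_succ_sub, Fin.prod_univ_succ]
    set W := ⨆ i : Fin k, Subgroup.zpowers (v i.succ) with hW
    have hWM : W ≤ M := iSup_le (fun i => (Subgroup.zpowers_le).mpr (hv i.succ))
    have h0M : Subgroup.zpowers (v 0) ≤ M := (Subgroup.zpowers_le).mpr (hv 0)
    have hWc : W ≤ Subgroup.centralizer ({b 0} : Set G) := by
      apply iSup_le
      intro i
      rw [Subgroup.zpowers_le, Subgroup.mem_centralizer_iff]
      intro h hh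
      rw [Set.mem_singleton_iff] at hh
      rw [hh]
      have := hcen i.succ 0 (Fin.succ_ne_zero i)
      calc b 0 * v i.succ = (b 0 * v i.succ * (b 0)⁻¹) * b 0 := by group
        _ = v i.succ * b 0 := by rw [this]
    have hdisj : Subgroup.zpowers (v 0) ⊓ W = ⊥ := by
      rw [eq_bot_iff]
      intro x hx
      obtain ⟨hx0, hxW⟩ := Subgroup.mem_inf.mp hx
      have h1 : b 0 * x * (b 0)⁻¹ = x⁻¹ := by
        obtain ⟨m, hm⟩ := Subgroup.mem_zpowers_iff.mp hx0
        rw [← hm, ← conj_zpow, hinv 0, inv_zpow]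
      have h2 : b 0 * x * (b 0)⁻¹ = x := by
        have := Subgroup.mem_centralizer_iff.mp (hWc hxW) (b 0) rfl
        rw [this]; group
      have h3 : x ^ 2 = 1 := by
        rw [h2] at h1
        calc x ^ 2 = x * x := pow_two x
          _ = x * x⁻¹ := by rw [← h1]
          _ = 1 := mul_inv_cancel x
      rw [Subgroup.mem_bot]
      exact eq_one_of_sq_of_odd hModd (h0M hx0) h3
    rw [Cfsg.Agent.Lib.H3.card_sup_of_inf_eq_bot hMab h0M hWM hdisj, Nat.card_zpowers,
      ih (fun i => b i.succ) (fun i => v i.succ) (fun i => hv i.succ) (fun i => hinv i.succ)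
        (fun i j hij => hcen i.succ j.succ (fun h => hij (Fin.succ_injective _ h)))]

open Classical in
theorem eq_one_of_centralizes {G : Type*} [Group G] [Finite G] {I M : Subgroup G} (n : ℕ)
    (hIn : Nat.card I = 2 ^ n) (hModd : Odd (Nat.card M))
    (b v : Fin n → G) (hb : ∀ i, b i ∈ I) (hv : ∀ i, v i ∈ M) (hv1 : ∀ i, v i ≠ 1)
    (hinv : ∀ i, b i * v i * (b i)⁻¹ = (v i)⁻¹)
    (hcen : ∀ i j, i ≠ j → b j * v i * (b j)⁻¹ = v i)
    (c : G) (hc : c ∈ I) (hcv : ∀ i, c * v i * c⁻¹ = v i) : c = 1 := by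
  have hne : ∀ i, (v i)⁻¹ ≠ v i := by
    intro i h
    apply hv1 i
    apply eq_one_of_sq_of_odd hModd (hv i)
    calc (v i) ^ 2 = v i * v i := pow_two _
      _ = v i * (v i)⁻¹ := by rw [h]
      _ = 1 := mul_inv_cancel _
  have stepA : ∀ s : Finset (Fin n), ∃ d ∈ I, ∀ i,
      (i ∈ s → d * v i * d⁻¹ = (v i)⁻¹) ∧ (i ∉ s → d * v i * d⁻¹ = v i) := by
    intro s
    induction s using Finset.induction_on with
    | empty =>
      refine ⟨1, I.one_mem, fun i => ⟨fun h => absurd h (Finset.notMem_empty i), fun _ => by simp⟩⟩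
    | insert a s has ih =>
      obtain ⟨d, hdI, hd⟩ := ih
      refine ⟨b a * d, I.mul_mem (hb a) hdI, fun i => ⟨?_, ?_⟩⟩
      · intro hi
        have e : b a * d * v i * (b a * d)⁻¹ = b a * (d * v i * d⁻¹) * (b a)⁻¹ := by group
        rw [e]
        rcases Finset.mem_insert.mp hi with h | h
        · subst h
          rw [(hd i).2 has, hinv i]
        · have hia : i ≠ a := fun h' => has (h' ▸ h)
          rw [(hd i).1 h]
          have := hcen i a hia
          calc b a * (v i)⁻¹ * (b a)⁻¹ = (b a * v i * (b a)⁻¹)⁻¹ := by group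
            _ = (v i)⁻¹ := by rw [this]
      · intro hi
        have e : b a * d * v i * (b a * d)⁻¹ = b a * (d * v i * d⁻¹) * (b a)⁻¹ := by group
        rw [e]
        have hia : i ≠ a := fun h' => hi (h' ▸ Finset.mem_insert_self a s)
        have his : i ∉ s := fun h' => hi (Finset.mem_insert_of_mem h')
        rw [(hd i).2 his]
        exact hcen i a hia
  let φ : I → (Fin n → Bool) := fun d i => decide ((d : G) * v i * (d : G)⁻¹ = (v i)⁻¹)
  have hsurj : Function.Surjective φ := by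
    intro t
    obtain ⟨d, hdI, hd⟩ := stepA (Finset.univ.filter (fun i => t i = true))
    refine ⟨⟨d, hdI⟩, ?_⟩
    funext i
    show decide (d * v i * d⁻¹ = (v i)⁻¹) = t i
    by_cases hti : t i = true
    · rw [hti, decide_eq_true_iff]
      exact (hd i).1 (by simp [hti])
    · have hti' : t i = false := by simpa using hti
      rw [hti', decide_eq_false_iff_not]
      rw [(hd i).2 (by simp [hti'])]
      exact fun h => hne i h.symm
  have hcard : Nat.card I ≤ Nat.card (Fin n → Bool) := by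
    rw [hIn, Nat.card_eq_fintype_card, Fintype.card_fun, Fintype.card_bool, Fintype.card_fin]
  have hbij := hsurj.bijective_of_nat_card_le hcard
  have hφ : φ ⟨c, hc⟩ = φ ⟨1, I.one_mem⟩ := by
    funext i
    show decide (c * v i * c⁻¹ = (v i)⁻¹) = decide ((1 : G) * v i * (1 : G)⁻¹ = (v i)⁻¹)
    have h1 : ¬ (c * v i * c⁻¹ = (v i)⁻¹) := by
      rw [hcv i]; exact fun h => hne i h.symm
    have h2 : ¬ ((1 : G) * v i * (1 : G)⁻¹ = (v i)⁻¹) := by
      simp only [one_mul, inv_one, mul_one]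
      exact fun h => hne i h.symm
    rw [decide_eq_false h1, decide_eq_false h2]
  have := hbij.1 hφ
  exact congrArg Subtype.val this


/-- Let S be a finite solvable group whose Fitting subgroup F(S) has odd order, and let I be an elementary abelian 2-subgroup of S of order 2ⁿ with n ≥ 1. Then F(S) contains subgroups A₁, …, Aₙ of prime order, each normalized by I, pairwise commuting and generating a subgroup A of order |A₁|⋯|Aₙ| (their internal direct product), such that no non-identity element of I centralizes A. -/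
theorem result {S : Type*} [Group S] [Finite S]
    [Group.IsSolvable S] (hF : Odd (Nat.card ↥(Cfsg.fittingSubgroup S)))
    (I : Subgroup S) (hI : Cfsg.IsElementaryAbelian 2 I) (n : ℕ) (hn : 1 ≤ n) (hIn : Nat.card ↥I = 2 ^ n) :
    ∃ f : Fin n → Subgroup S, (∀ i, (Nat.card ↥(f i)).Prime) ∧ (∀ i, f i ≤ Cfsg.fittingSubgroup S) ∧
      (∀ i, I ≤ Subgroup.normalizer ((f i) : Set S)) ∧ (∀ i j, i ≠ j → ∀ a ∈ f i, ∀ b ∈ f j, a * b = b * a) ∧
      Nat.card ↥(⨆ i, f i) = ∏ i, Nat.card ↥(f i) ∧ I ⊓ Subgroup.centralizer ((⨆ i, f i : Subgroup S) : Set S) = ⊥ := by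
  have hAc : ∀ a ∈ I, ∀ b ∈ I, a * b = b * a := by
    intro a ha b hb
    have := hI.1.is_comm.comm (⟨a, ha⟩ : I) ⟨b, hb⟩
    exact congrArg Subtype.val this
  have hA2 : ∀ a ∈ I, a ^ 2 = 1 := hI.2
  set F := Cfsg.fittingSubgroup S with hFdef
  have hFn : F.Normal := fittingSubgroup_normal
  have hFnil : Group.IsNilpotent F := fittingSubgroup_isNilpotent
  have hAF : I ≤ Subgroup.normalizer (F : Set S) := by
    rw [Subgroup.normalizer_eq_top]; exact le_top
  have hcopF : (2:ℕ).Coprime (Nat.card F) := Nat.coprime_two_left.2 hF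
  have hCF := centralizer_fittingSubgroup_le_of_isSolvable S
  have hfaithF : I ⊓ Subgroup.centralizer (F : Set S) = ⊥ := by
    rw [eq_bot_iff]
    intro a ha
    obtain ⟨haI, haC⟩ := Subgroup.mem_inf.mp ha
    have haF : a ∈ F := hCF haC
    rw [Subgroup.mem_bot]
    exact eq_one_of_sq_of_odd hF haF (hA2 a haI)
  obtain ⟨M, hMF, hFM, hAM, hMab, hCM⟩ := exists_selfCentralizing_abelian hAc hA2 hF hFnil hAF
  have hfaithM : I ⊓ Subgroup.centralizer (M : Set S) = ⊥ := by
    rw [eq_bot_iff, ← hfaithF]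
    intro a ha
    have haA := (Subgroup.mem_inf.1 ha).1
    refine Subgroup.mem_inf.2 ⟨haA, ?_⟩
    exact faithful_descent hFM hCM (hAF haA) (hA2 a haA) hcopF (Subgroup.mem_inf.1 ha).2
  have hModd : Odd (Nat.card M) := Odd.of_dvd_nat hF (Subgroup.card_dvd_of_le hMF)
  obtain ⟨b, v, hb, hv, hprime, heig, hinv, hcen, _⟩ :=
    (dihData_of_le hAc hA2 hModd hAM hfaithM n (by rw [hIn])).ex
  have hv1 : ∀ i, v i ≠ 1 := by
    intro i h
    have := hprime i
    rw [h, orderOf_one] at this
    exact Nat.not_prime_one this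
  refine ⟨fun i => Subgroup.zpowers (v i), ?_, ?_, ?_, ?_, ?_, ?_⟩
  · intro i
    rw [Nat.card_zpowers]; exact hprime i
  · intro i
    exact (Subgroup.zpowers_le).mpr (hMF (hv i))
  · intro i
    apply le_normalizer_of_conj_mem
    intro c hc x hx
    obtain ⟨m, hm⟩ := Subgroup.mem_zpowers_iff.mp hx
    rw [← hm, ← conj_zpow]
    rcases heig i c hc with h | h
    · rw [h]; exact Subgroup.zpow_mem_zpowers _ _
    · rw [h]; exact Subgroup.zpow_mem _ (Subgroup.inv_mem _ (Subgroup.mem_zpowers _)) _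
  · intro i j _ a ha c hc
    exact hMab a ((Subgroup.zpowers_le).mpr (hv i) ha) c ((Subgroup.zpowers_le).mpr (hv j) hc)
  · rw [card_iSup_zpowers hMab hModd n b v hv hinv hcen]
    apply Finset.prod_congr rfl
    intro i _
    rw [Nat.card_zpowers]
  · rw [eq_bot_iff]
    intro c hc
    obtain ⟨hcI, hcC⟩ := Subgroup.mem_inf.mp hc
    rw [Subgroup.mem_bot]
    apply eq_one_of_centralizes n hIn hModd b v hb hv hv1 hinv hcen c hcI
    intro i
    have hvi : v i ∈ (⨆ i, Subgroup.zpowers (v i) : Subgroup S) :=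
      (le_iSup (fun i => Subgroup.zpowers (v i)) i) (Subgroup.mem_zpowers (v i))
    have := Subgroup.mem_centralizer_iff.mp hcC (v i) hvi
    rw [← this]; group


end Cfsg.Agent.S4408
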