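import Cfsg.Statements.S4413
import Cfsg.Agent.Lib.H1.ES32C

set_option autoImplicit false
open Cfsg

namespace Cfsg.Agent.S4413

open Cfsg.Agent.Lib.H1.ES32

theorem conj_ker_eq (P : Type*) [Group P] :
    (MulAut.conj : P →* MulAut P).ker = Subgroup.center P := by
  ext g
  rw [MonoidHom.mem_ker, Subgroup.mem_center_iff]
  constructor
  · intro h x
    have := DFunLike.congr_fun h x
    rw [MulAut.conj_apply, MulAut.one_apply] at this
    calc x * g = (g * x * g⁻¹) * g := by rw [this]
      _ = g * x := by group
  · intro h
    apply MulEquiv.ext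
    intro x
    rw [MulAut.conj_apply, MulAut.one_apply, ← h x]
    group

/-- Let P be an extraspecial 2-group of order 32 with no elementary abelian subgroup of order 8 (the central product of a dihedral and a quaternion group of order 8). Then the inner automorphism group of P has order 16 and the outer automorphism group Aut(P)/Inn(P) is isomorphic to the symmetric group of degree 5; in particular Aut(P) has order 1920. -/
theorem result {P : Type*} [Group P] [Finite P]
    (hex : Cfsg.IsExtraspecial 2 P) (h32 : Nat.card P = 32)
    (hminus : ∀ A : Subgroup P, Cfsg.IsElementaryAbelian 2 A → Nat.card ↥A ≤ 4)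
    [(MulAut.conj : P →* MulAut P).range.Normal] :
    Nat.card ↥(MulAut.conj : P →* MulAut P).range = 16 ∧ Nat.card (MulAut P) = 1920 ∧
      Nonempty ((MulAut P ⧸ (MulAut.conj : P →* MulAut P).range) ≃* Equiv.Perm (Fin 5)) := by
  obtain ⟨e⟩ := exists_mulEquiv hex h32 hminus
  let Ψ : MulAut P →* Equiv.Perm (Fin 5) := permHom.comp (MulAut.congr e.symm).toMonoidHom
  have hΨ : ∀ α, Ψ α = permHom (MulAut.congr e.symm α) := fun _ => rfl
  have hsurj : Function.Surjective Ψ :=
    permHom_surjective.comp (MulAut.congr e.symm).surjective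
  have hker : Ψ.ker = (MulAut.conj : P →* MulAut P).range := by
    ext α
    rw [MonoidHom.mem_ker, MonoidHom.mem_range, hΨ, ← MonoidHom.mem_ker, permHom_ker,
      MonoidHom.mem_range]
    constructor
    · rintro ⟨n, hn⟩
      refine ⟨e n, ?_⟩
      apply MulEquiv.ext
      intro x
      have h1 := DFunLike.congr_fun hn (e.symm x)
      rw [MulAut.conj_apply] at h1
      simp only [MulAut.congr_apply, MulEquiv.trans_apply, MulEquiv.symm_symm,
        MulEquiv.apply_symm_apply] at h1
      rw [MulAut.conj_apply]
      have h2 := congrArg e h1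
      simpa using h2
    · rintro ⟨g, rfl⟩
      refine ⟨e.symm g, ?_⟩
      apply MulEquiv.ext
      intro m
      simp [MulAut.congr_apply, MulAut.conj_apply]
  have hinn : Nat.card ↥(MulAut.conj : P →* MulAut P).range = 16 := by
    have h1 := Subgroup.index_ker (MulAut.conj : P →* MulAut P)
    rw [conj_ker_eq] at h1
    have h2 := Subgroup.card_mul_index (Subgroup.center P)
    rw [hex.2, h32, h1] at h2
    omega
  refine ⟨hinn, ?_, ?_⟩
  · have h1 := Subgroup.card_mul_index Ψ.ker
    have h2 : Ψ.ker.index = 120 := by
      rw [Subgroup.index_ker, MonoidHom.range_eq_top.mpr hsurj, Subgroup.card_top,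
        Nat.card_eq_fintype_card, Fintype.card_perm, Fintype.card_fin]
      rfl
    rw [h2, hker, hinn] at h1
    omega
  · exact ⟨(QuotientGroup.quotientMulEquivOfEq hker.symm).trans
      (QuotientGroup.quotientKerEquivOfSurjective Ψ hsurj)⟩

end Cfsg.Agent.S4413
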