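import Cfsg.Statements.S4414
import Cfsg.Agent.Lib.H1.TpqK

set_option autoImplicit false
open Cfsg

namespace Cfsg.Agent.S4414

open Cfsg.Agent.Lib.H1.Tpq

/-- Let S be a finite solvable group whose order is divisible only by the primes 2, p, q (p, q distinct odd primes), with a Sylow system S₂, S_p, S_q (pairwise permutable Sylow subgroups) such that: S_p is a minimal normal subgroup of S of order p or p²; S_q has order q and [S_p, S_q] = S_p; and O₂(S) = 1. Let E be an irreducible module for S over the field with two elements on which S_p acts faithfully, and E₀ the subspace of fixed points of S₂. Then either E₀ has at least 8 elements, or E₀ has exactly 4 elements and S_q does not leave E₀ invariant. -/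
theorem result {S : Type*} [Group S] [Finite S]
    [Group.IsSolvable S] (p q : ℕ) (hp : p.Prime) (hq : q.Prime) (hp2 : p ≠ 2) (hq2 : q ≠ 2) (hpq : p ≠ q)
    (hπ : ∀ r : ℕ, r.Prime → r ∣ Nat.card S → r = 2 ∨ r = p ∨ r = q)
    (S₂ : Sylow 2 S) (Sp : Sylow p S) (Sq : Sylow q S)
    (h2q : Nat.card ↥((S₂ : Subgroup S) ⊔ (Sq : Subgroup S)) = Nat.card ↥S₂ * Nat.card ↥Sq)
    (h2p : Nat.card ↥((S₂ : Subgroup S) ⊔ (Sp : Subgroup S)) = Nat.card ↥S₂ * Nat.card ↥Sp)
    (hpq' : Nat.card ↥((Sp : Subgroup S) ⊔ (Sq : Subgroup S)) = Nat.card ↥Sp * Nat.card ↥Sq)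
    (hSpN : (Sp : Subgroup S).Normal) (hSpmin : ∀ N : Subgroup S, N.Normal → N ≤ (Sp : Subgroup S) → N = ⊥ ∨ N = (Sp : Subgroup S))
    (hSpcard : Nat.card ↥Sp = p ∨ Nat.card ↥Sp = p ^ 2)
    (hSq : Nat.card ↥Sq = q) (hcomm : ⁅(Sp : Subgroup S), (Sq : Subgroup S)⁆ = (Sp : Subgroup S))
    (hO2 : Cfsg.pCore 2 S = ⊥)
    {E : Type*} [AddCommGroup E] [Module (ZMod 2) E] [Finite E] (ρ : Representation (ZMod 2) S E) (hE : Nontrivial E)
    (hirr : ∀ N : Submodule (ZMod 2) E, (∀ s : S, ∀ m ∈ N, ρ s m ∈ N) → N = ⊥ ∨ N = ⊤)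
    (hfaith : ∀ x ∈ (Sp : Subgroup S), ρ x = 1 → x = 1) :
    8 ≤ Nat.card {v : E // ∀ s ∈ (S₂ : Subgroup S), ρ s v = v} ∨
      (Nat.card {v : E // ∀ s ∈ (S₂ : Subgroup S), ρ s v = v} = 4 ∧
        ∃ x ∈ (Sq : Subgroup S), ∃ v : E, (∀ s ∈ (S₂ : Subgroup S), ρ s v = v) ∧ ¬ ∀ s ∈ (S₂ : Subgroup S), ρ s (ρ x v) = ρ x v) := by
  classical
  have : Fact p.Prime := ⟨hp⟩
  have : Fact q.Prime := ⟨hq⟩
  have : Nontrivial E := hE
  set A : Subgroup S := (Sp : Subgroup S) with hA
  set T : Subgroup S := (S₂ : Subgroup S) with hT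
  set Q : Subgroup S := (Sq : Subgroup S) with hQ
  have hSpcard' : Nat.card A = p ∨ Nat.card A = p ^ 2 := hSpcard
  have hSq' : Nat.card Q = q := hSq
  have h2q' : Nat.card ↥(T ⊔ Q) = Nat.card T * Nat.card Q := h2q
  suffices hmain : 8 ≤ Nat.card ↥(fix ρ T) ∨
      (Nat.card ↥(fix ρ T) = 4 ∧ ∃ x ∈ Q, ∃ v ∈ fix ρ T, ρ x v ∉ fix ρ T) by
    rcases hmain with h8 | ⟨h4, x, hx, v, hv, hxv⟩
    · left; exact h8
    · right; exact ⟨h4, x, hx, v, hv, hxv⟩
  have hAnormal : ∀ g : S, ∀ a ∈ A, g * a * g⁻¹ ∈ A := fun g a ha => hSpN.conj_mem a ha g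
  have hTp : IsPGroup 2 T := S₂.isPGroup'
  obtain ⟨hAcomm, hAexp⟩ := elemAb_of_minimal p hp A hSpN hSpmin hSpcard'
  have hAcard1 : 1 < Nat.card A := by
    rcases hSpcard' with h | h
    · rw [h]; exact hp.one_lt
    · rw [h]; exact Nat.one_lt_pow (by norm_num) hp.one_lt
  -- `A` has no fixed points
  have hfixA : fix ρ A = ⊥ := by
    have hinv : ∀ s : S, ∀ m ∈ fix ρ A, ρ s m ∈ fix ρ A := by
      intro s m hm
      refine map_mem_fix ρ s (fun a ha => ?_) hm
      have := hAnormal s⁻¹ a ha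
      simpa using this
    rcases hirr _ hinv with hb | ht
    · exact hb
    · exfalso
      have hall : ∀ a ∈ A, a = 1 := by
        intro a ha
        apply hfaith a ha
        ext v
        have hv : v ∈ fix ρ A := by rw [ht]; exact Submodule.mem_top
        exact hv a ha
      have : A = ⊥ := (Subgroup.eq_bot_iff_forall _).2 hall
      rw [this, Subgroup.card_bot] at hAcard1
      omega
  have hKcard : Nat.card ↥(T ⊔ Q) = q * Nat.card T := by
    rw [h2q', hSq', mul_comm]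
  have hqodd : q % 2 = 1 := by
    rcases hq.eq_two_or_odd with h2 | h2
    · exact absurd h2 hq2
    · exact h2
  -- generation
  have htop := sup_eq_top_of_sylows p q hπ S₂ Sp Sq
  have hgen : ∀ g : S, ∃ a ∈ A, ∃ k ∈ T ⊔ Q, g = a * k := by
    intro g
    have hg : g ∈ ((A ⊔ (T ⊔ Q) : Subgroup S) : Set S) := by
      rw [htop]; trivial
    rw [Subgroup.normal_mul] at hg
    obtain ⟨a, ha, k, hk, rfl⟩ := Set.mem_mul.1 hg
    exact ⟨a, ha, k, hk, rfl⟩
  -- elements of order `q`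
  have hnc : ∀ s : S, orderOf s = q → ∀ U : Subgroup S, U ≤ A → U ≠ A →
      s ∈ Subgroup.normalizer (U : Set S) → ∃ a ∈ A, s * a * s⁻¹ * a⁻¹ ∉ U := by
    intro s hs U hUA hne hsU
    by_contra hcon
    push Not at hcon
    obtain ⟨g, hg⟩ := exists_cj_eq_zpowers q Sq hSq' s hs
    exact no_central_q A Q hAnormal hcomm g s hg U hUA hne hsU hcon
  have hQexp : ∀ x ∈ Q, x ^ q = 1 := by
    intro x hx
    have := pow_card_eq_one' (G := Q) (x := ⟨x, hx⟩)
    rw [hSq'] at this
    exact congrArg Subtype.val this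
  rcases hSpcard' with hc | hc
  · -- `A` of order `p`
    left
    obtain ⟨y, hyA, hy1⟩ : ∃ y ∈ A, y ≠ 1 := by
      by_contra hcon
      push Not at hcon
      have : A = ⊥ := (Subgroup.eq_bot_iff_forall _).2 hcon
      rw [this, Subgroup.card_bot] at hAcard1
      omega
    have hyord : orderOf y = p := orderOf_eq_prime (hAexp y hyA) hy1
    have hzp : Subgroup.zpowers y = A := by
      apply Subgroup.eq_of_le_of_card_ge ((Subgroup.zpowers_le).2 hyA)
      rw [Nat.card_zpowers, hyord, hc]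
    have hfin := core ρ p q hp hq hp2 hq2 y ⊤ ?_ (fun w _ => Submodule.mem_top) ?_ (T ⊔ Q) T
      (fun _ _ _ _ => Submodule.mem_top) ?_ le_sup_left hTp hKcard ?_
    · have h8 := eight_le_card_of_finrank (three_le_of_prime hq hq2) hfin
      rw [top_inf_eq] at h8
      exact h8
    · exact top_ne_bot
    · intro w _
      have h1 := sum_pow_mem_fix ρ y p (hAexp y hyA) w
      rw [hzp, hfixA, Submodule.mem_bot] at h1
      exact h1
    · intro c _
      have hcA : c * y * c⁻¹ ∈ A := hAnormal c y hyA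
      rw [← hzp, mem_zpowers_iff_mem_range_orderOf, hyord] at hcA
      obtain ⟨r, hr, hr'⟩ := Finset.mem_image.1 hcA
      rw [Finset.mem_range] at hr
      refine ⟨r, hr, fun w _ => ?_⟩
      have e : c * y = y ^ r * c := by
        have : y ^ r = c * y * c⁻¹ := hr'
        rw [this]; group
      calc ρ c (ρ y w) = ρ (c * y) w := (rho_mul ρ c y w).symm
        _ = ρ (y ^ r * c) w := by rw [e]
        _ = ρ (y ^ r) (ρ c w) := rho_mul ρ _ c w
        _ = ((ρ y) ^ r) (ρ c w) := (rho_pow ρ y r _).symm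
    · intro s _ hsq
      by_contra hcon
      push Not at hcon
      have hz : ρ (s * y * s⁻¹ * y⁻¹) = 1 := by
        ext w
        rw [rho_mul, rho_mul, rho_mul, hcon _ Submodule.mem_top, rho_cancel_inv, rho_cancel_inv]
        rfl
      have hzA : s * y * s⁻¹ * y⁻¹ ∈ A := A.mul_mem (hAnormal s y hyA) (A.inv_mem hyA)
      have hz1 := hfaith _ hzA hz
      have hsy : Commute s y := by
        have : s * y = (s * y * s⁻¹ * y⁻¹) * (y * s) := by group
        rw [hz1, one_mul] at this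
        exact this
      have hbotne : (⊥ : Subgroup S) ≠ A := by
        intro hEq
        rw [← hEq, Subgroup.card_bot] at hAcard1
        omega
      have hsbot : s ∈ Subgroup.normalizer ((⊥ : Subgroup S) : Set S) := by
        rw [Subgroup.mem_normalizer_iff]
        intro n
        simp [Subgroup.mem_bot]
      obtain ⟨a, haA, ha⟩ := hnc s hsq ⊥ bot_le hbotne hsbot
      apply ha
      rw [Subgroup.mem_bot]
      rw [← hzp] at haA
      obtain ⟨k, rfl⟩ := Subgroup.mem_zpowers_iff.1 haA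
      have hck : Commute s (y ^ k) := hsy.zpow_right k
      rw [hck.eq]
      group
  · -- `A` of order `p ^ 2`
    have hctx : LineCtx ρ A p := ⟨hp, hp2, hAcomm, hAexp, hc, hfixA, hAnormal⟩
    obtain ⟨U₀, hU₀, hne₀⟩ := exists_line_fix_ne_bot hctx
    by_cases hβ : ∀ U, IsLine A p U → fix ρ U ≠ ⊥ → ∃ t ∈ T, cj t U₀ = U
    · left
      apply caseBeta hctx q hq hq2 T (T ⊔ Q) le_sup_left hTp hKcard U₀ hU₀ hne₀ hβ
      intro s _ hsq U hU hsU
      apply hnc s hsq U hU.1 _ hsU
      intro hEq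
      have := hU.2
      rw [hEq, hc] at this
      have hp1 := hp.one_lt
      nlinarith [this]
    · push Not at hβ
      obtain ⟨U₁, hU₁, hne₁, hα⟩ := hβ
      apply caseAlpha hctx q hqodd T Q hTp hQexp hirr hgen U₀ U₁ hU₀ hU₁ hne₀ hne₁
      rintro ⟨t, ht, hEq⟩
      exact hα t ht hEq

end Cfsg.Agent.S4414
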