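import Cfsg.Statements.S4417
import Cfsg.Agent.Lib.H18.LinPGroupDL4

set_option autoImplicit false
open Cfsg

namespace Cfsg.Agent.S4417

open Cfsg.Agent.Lib.H18

/-- Let F be a field with q elements, p a prime not dividing q, and e the multiplicative order of q modulo p; assume e ≤ n. Then every p-subgroup of GL_n(F) has derived length at most ⌊log₂(n/e)⌋ + 1: that term of its derived series is trivial (n/e is the integer quotient). -/
theorem result {F : Type*} [Field F] [Fintype F] (q : ℕ) (hF : Fintype.card F = q) (p : ℕ) [Fact p.Prime] (hpq : ¬ p ∣ q) (n e : ℕ) (he : e = orderOf (q : ZMod p)) (hen : e ≤ n) (P : Subgroup (GL (Fin n) F)) (hP : IsPGroup p P) : derivedSeries ↥P (Nat.log 2 (n / e) + 1) = ⊥ := by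
  have hpF : (p : F) ≠ 0 := by
    intro h0
    apply hpq
    have h1 : ringChar F ∣ p := (ringChar.spec F p).1 h0
    have h2 : ringChar F = p := by
      rcases (Nat.dvd_prime (Fact.out : p.Prime)).1 h1 with h | h
      · exact absurd h (CharP.ringChar_ne_one)
      · exact h
    have h3 : ((Fintype.card F : ℕ) : F) = 0 := FiniteField.cast_card_eq_zero F
    have h4 := (ringChar.spec F (Fintype.card F)).1 h3
    rw [h2, hF] at h4
    exact h4
  have hcard : Nat.card F = q := by rw [Nat.card_eq_fintype_card, hF]
  have h1 := derivedSeries_le_ker_finite (K := F) p hpF hP n (Fin n → F) (glRep P.subtype)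
    (by simp)
  rw [glRep_ker', Subgroup.ker_subtype, hcard, ← he] at h1
  unfold finDL at h1
  rw [if_neg (not_lt.2 hen)] at h1
  exact le_bot_iff.1 h1

end Cfsg.Agent.S4417
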