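import Cfsg.Statements.S4419
import Cfsg.Agent.Lib.L0.FrobeniusPC
import Cfsg.Agent.Lib.L0.HallCentral
import Cfsg.Agent.Lib.H22.PPrimeCore
import Cfsg.Agent.Lib.H1.PCore
import Cfsg.Agent.Lib.H1.BurnsideBasis
import Cfsg.Agent.Lib.H1.CharSubgroup
import Cfsg.Agent.Lib.H5.NCTools

set_option autoImplicit false
open Cfsg

namespace Cfsg.Agent.S4419

open Cfsg.Agent.Lib.H10 Cfsg.Agent.Lib.L0

variable {G : Type*} [Group G]

/-- an `r`-group acting by conjugation on an invariant finite set of size prime to `r` fixes a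
point -/
theorem exists_fixed_of_not_dvd {r : ℕ} [Fact r.Prime] (B : Subgroup G) (hB : IsPGroup r B)
    (Y : Set G) [Finite Y] (hinv : ∀ b ∈ B, ∀ y ∈ Y, b * y * b⁻¹ ∈ Y)
    (hr : ¬ r ∣ Nat.card Y) : ∃ y ∈ Y, ∀ b ∈ B, b * y * b⁻¹ = y := by
  let _ : MulAction ↥B ↥Y :=
    { smul := fun b y => ⟨(b : G) * y * (b : G)⁻¹, hinv b b.2 y y.2⟩
      one_smul := fun y => Subtype.ext (by
        show ((1 : ↥B) : G) * y * ((1 : ↥B) : G)⁻¹ = y
        simp)
      mul_smul := fun a b y => Subtype.ext (by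
        show ((a * b : ↥B) : G) * y * ((a * b : ↥B) : G)⁻¹ =
          (a : G) * ((b : G) * y * (b : G)⁻¹) * (a : G)⁻¹
        simp [mul_assoc]) }
  obtain ⟨y, hy⟩ := hB.nonempty_fixed_point_of_prime_not_dvd_card ↥Y hr
  refine ⟨y, y.2, fun b hb => ?_⟩
  have := hy ⟨b, hb⟩
  exact congrArg Subtype.val this

/-- A `p`-group `Q` with `|Q : Φ(Q)|` dividing `p²` is centralized by every element of
`N_G(Q)` of `r`-power order, `r` a prime not dividing `p (p² - 1)`. -/
theorem centralizes_of_frattini_index [Finite G] {p r : ℕ} [hp : Fact p.Prime] [hr : Fact r.Prime]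
    (Q : Subgroup G) (hQ : IsPGroup p Q) (hidx : (frattini ↥Q).index ∣ p ^ 2)
    (hr1 : ¬ r ∣ p) (hr2 : ¬ r ∣ p ^ 2 - 1) (g : G)
    (hg : g ∈ Subgroup.normalizer (Q : Set G)) (j : ℕ) (hgo : orderOf g = r ^ j) :
    g ∈ Subgroup.centralizer (Q : Set G) := by
  classical
  set B := Subgroup.zpowers g with hBdef
  have hB : IsPGroup r B := IsPGroup.of_card (n := j) (by rw [Nat.card_zpowers, hgo])
  have hBN : B ≤ Subgroup.normalizer (Q : Set G) := Subgroup.zpowers_le.mpr hg
  set Φ := (frattini ↥Q).map Q.subtype with hΦdef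
  have hΦQ : Φ ≤ Q := Subgroup.map_subtype_le _
  set C := Q ⊓ Subgroup.centralizer (B : Set G) with hCdef
  set F := C ⊔ Φ with hFdef
  have hFQ : F ≤ Q := sup_le inf_le_left hΦQ
  have hBF : B ≤ Subgroup.normalizer (F : Set G) := by
    intro b hb
    apply Cfsg.Agent.Lib.H5.NC.normalizer_inf_le_normalizer_sup' C Φ
    refine ⟨?_, Cfsg.Agent.Lib.H1.normalizer_le_normalizer_map_of_characteristic (frattini ↥Q)
      (hBN hb)⟩
    apply Subgroup.centralizer_le_normalizer
    rw [Subgroup.mem_centralizer_iff]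
    intro y hy
    exact (Subgroup.mem_centralizer_iff.mp hy.2 b hb).symm
  have hFeq : F = Q := by
    by_contra hne
    have hlt : F < Q := lt_of_le_of_ne hFQ hne
    set Y : Set G := (Q : Set G) \ (F : Set G) with hYdef
    have hYinv : ∀ b ∈ B, ∀ y ∈ Y, b * y * b⁻¹ ∈ Y := by
      rintro b hb y ⟨hyQ, hyF⟩
      refine ⟨(Subgroup.mem_normalizer_iff.mp (hBN hb) y).mp hyQ, fun h => hyF ?_⟩
      exact (Subgroup.mem_normalizer_iff.mp (hBF hb) y).mpr h
    have hcardY : Nat.card Y = Nat.card Q - Nat.card F := by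
      rw [Nat.card_coe_set_eq, hYdef,
        Set.ncard_sdiff (SetLike.coe_subset_coe.mpr hFQ) (Set.toFinite _),
        ← Nat.card_coe_set_eq, ← Nat.card_coe_set_eq]
      rfl
    have h1 : Nat.card F * F.relIndex Q = Nat.card Q := by
      have := Subgroup.relIndex_mul_relIndex ⊥ F Q bot_le hFQ
      rwa [Subgroup.relIndex_bot_left, Subgroup.relIndex_bot_left] at this
    have h2 : F.relIndex Q ∣ p ^ 2 := by
      have h3 : F.relIndex Q ∣ Φ.relIndex Q := Subgroup.relIndex_dvd_of_le_left Q le_sup_right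
      have h4 : Φ.relIndex Q = (frattini ↥Q).index := by
        unfold Subgroup.relIndex Subgroup.subgroupOf
        rw [hΦdef, Subgroup.comap_map_eq_self_of_injective Q.subtype_injective]
      rw [h4] at h3
      exact h3.trans hidx
    obtain ⟨m, hm2, hm⟩ := (Nat.dvd_prime_pow hp.out).mp h2
    have hm0 : m ≠ 0 := by
      intro h0
      rw [h0, pow_zero] at hm
      exact hlt.not_ge (Subgroup.relIndex_eq_one.mp hm)
    have hrpm : ¬ r ∣ p ^ m - 1 := by
      have hm12 : m = 1 ∨ m = 2 := by omega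
      rcases hm12 with rfl | rfl
      · intro h
        apply hr2
        have : p ^ 2 - 1 = (p + 1) * (p - 1) := by
          have := Nat.sq_sub_sq p 1
          simpa using this
        rw [this]
        rw [pow_one] at h
        exact Dvd.dvd.mul_left h _
      · exact hr2
    have hrF : ¬ r ∣ Nat.card F := by
      obtain ⟨e, he⟩ := IsPGroup.iff_card.mp (hQ.to_le hFQ)
      rw [he]
      intro h
      exact hr1 (hr.out.dvd_of_dvd_pow h)
    have hrY : ¬ r ∣ Nat.card Y := by
      rw [hcardY, ← h1, hm]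
      have : Nat.card F * p ^ m - Nat.card F = Nat.card F * (p ^ m - 1) := by
        rw [Nat.mul_sub, mul_one]
      rw [this]
      intro h
      rcases (Nat.Prime.dvd_mul hr.out).mp h with h | h
      · exact hrF h
      · exact hrpm h
    obtain ⟨y, ⟨hyQ, hyF⟩, hfix⟩ := exists_fixed_of_not_dvd B hB Y hYinv hrY
    apply hyF
    apply le_sup_left (a := C)
    have hyc : y ∈ Subgroup.centralizer (B : Set G) := by
      rw [Subgroup.mem_centralizer_iff]
      intro b hb
      have := hfix b hb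
      calc b * y = b * y * b⁻¹ * b := by group
        _ = y * b := by rw [this]
    exact ⟨hyQ, hyc⟩
  have h2 : C.subgroupOf Q ⊔ frattini ↥Q = ⊤ := by
    apply Subgroup.map_injective Q.subtype_injective
    rw [Subgroup.map_sup, Subgroup.map_subgroupOf_eq_of_le inf_le_left, ← MonoidHom.range_eq_map,
      Subgroup.range_subtype]
    exact hFeq
  have h3 := frattini_nongenerating h2
  have hQC : Q ≤ C := by
    rw [← Subgroup.subgroupOf_eq_top]
    exact h3
  rw [Subgroup.mem_centralizer_iff]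
  intro q hq
  have := Subgroup.mem_centralizer_iff.mp (hQC hq).2 g (Subgroup.mem_zpowers g)
  exact this.symm

/-- subgroups of a metacyclic `p`-group have Frattini quotient of order dividing `p²`. -/
theorem frattini_index_dvd_of_metacyclic [Finite G] {p : ℕ} [hp : Fact p.Prime] (S : Subgroup G)
    (hSp : IsPGroup p S) (hS : Cfsg.IsMetacyclic ↥S) (Q : Subgroup G) (hQS : Q ≤ S) :
    (frattini ↥Q).index ∣ p ^ 2 := by
  classical
  obtain ⟨N, hNn, hNc, hQc⟩ := hS
  set Q₁ : Subgroup ↥S := Q.subgroupOf S with hQ₁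
  have hc1 : IsCyclic ↥(N ⊓ Q₁) :=
    isCyclic_of_injective (Subgroup.inclusion (inf_le_left : N ⊓ Q₁ ≤ N))
      (Subgroup.inclusion_injective _)
  obtain ⟨a, ha⟩ := IsCyclic.exists_generator (α := ↥(N ⊓ Q₁))
  have hc2 : IsCyclic ↥(Q₁.map (QuotientGroup.mk' N)) := inferInstance
  obtain ⟨c, hc⟩ := IsCyclic.exists_generator (α := ↥(Q₁.map (QuotientGroup.mk' N)))
  obtain ⟨b, hbQ, hbc⟩ := c.2
  have key : ∀ x ∈ Q₁, ∃ k l : ℤ, x = b ^ k * (a : ↥S) ^ l := by
    intro x hx
    obtain ⟨k, hk⟩ := Subgroup.mem_zpowers_iff.mp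
      (hc ⟨QuotientGroup.mk' N x, Subgroup.mem_map_of_mem _ hx⟩)
    have h1 : (QuotientGroup.mk' N) (b ^ k) = (QuotientGroup.mk' N) x := by
      have := congrArg Subtype.val hk
      rw [Subgroup.coe_zpow, ← hbc] at this
      rw [map_zpow]
      exact this
    have h2 : (b ^ k)⁻¹ * x ∈ N := by
      rw [← QuotientGroup.eq]
      exact h1
    have h3 : (b ^ k)⁻¹ * x ∈ Q₁ := Q₁.mul_mem (Q₁.inv_mem (Q₁.zpow_mem hbQ k)) hx
    obtain ⟨l, hl⟩ := Subgroup.mem_zpowers_iff.mp (ha ⟨(b ^ k)⁻¹ * x, ⟨h2, h3⟩⟩)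
    refine ⟨k, l, ?_⟩
    have := congrArg Subtype.val hl
    rw [Subgroup.coe_zpow] at this
    rw [this]
    group
  have haQ : ((a : ↥S) : G) ∈ Q := a.2.2
  have hbQ' : (b : G) ∈ Q := hbQ
  let a' : ↥Q := ⟨((a : ↥S) : G), haQ⟩
  let b' : ↥Q := ⟨(b : G), hbQ'⟩
  let T : Finset ↥Q := {a', b'}
  have hT : Subgroup.closure (T : Set ↥Q) = ⊤ := by
    rw [eq_top_iff]
    intro y _
    obtain ⟨k, l, hkl⟩ := key ⟨(y : G), hQS y.2⟩ y.2
    have hy : y = b' ^ k * a' ^ l := by
      apply Subtype.ext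
      have := congrArg Subtype.val hkl
      simpa using this
    rw [hy]
    apply Subgroup.mul_mem
    · apply Subgroup.zpow_mem
      apply Subgroup.subset_closure
      simp [T]
    · apply Subgroup.zpow_mem
      apply Subgroup.subset_closure
      simp [T]
  have hQp : IsPGroup p ↥Q := hSp.to_le hQS
  obtain ⟨T', hT'T, -, hidx⟩ := Cfsg.Agent.Lib.H1.burnside_basis_aux hQp T
  rw [hT, top_sup_eq, Subgroup.relIndex_top_right] at hidx
  rw [hidx]
  apply pow_dvd_pow
  calc T'.card ≤ T.card := Finset.card_le_card hT'T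
    _ ≤ 2 := Finset.card_le_two

/-- Frobenius' hypothesis need only be checked inside one Sylow subgroup. -/
theorem frobHyp_of_sylow [Finite G] {p : ℕ} [Fact p.Prime] (S : Sylow p G)
    (h : ∀ Q : Subgroup G, Q ≤ (S : Subgroup G) → ∀ g ∈ Subgroup.normalizer (Q : Set G),
      (orderOf g).Coprime p → g ∈ Subgroup.centralizer (Q : Set G)) : FrobHyp p G := by
  intro Q hQ g hg hgp
  obtain ⟨c, hc⟩ := exists_map_conj_le_sylow S hQ
  have ho : orderOf (c * g * c⁻¹) = orderOf g := by
    have := orderOf_injective (MulAut.conj c).toMonoidHom (MulAut.conj c).injective g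
    simpa using this
  have h1 := h _ hc (c * g * c⁻¹) (conj_mem_normalizer_map_conj c hg) (by rwa [ho])
  rw [Subgroup.mem_centralizer_iff] at h1 ⊢
  intro q hq
  have h2 := h1 (c * q * c⁻¹) (conj_mem_map_conj hq)
  have h3 : c * (q * g) * c⁻¹ = c * (g * q) * c⁻¹ := by
    calc c * (q * g) * c⁻¹ = c * q * c⁻¹ * (c * g * c⁻¹) := by group
      _ = c * g * c⁻¹ * (c * q * c⁻¹) := h2
      _ = c * (g * q) * c⁻¹ := by group
  exact mul_left_cancel (mul_right_cancel h3)

/-- a `p'`-element of `O_{p',p}(G)` normalizing a `p`-subgroup centralizes it. -/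
theorem centralizes_of_mem_pPrimePCore [Finite G] {p : ℕ} [hp : Fact p.Prime] (Q : Subgroup G)
    (hQ : IsPGroup p Q) (g : G) (hg : g ∈ Subgroup.normalizer (Q : Set G))
    (hgp : (orderOf g).Coprime p) (hgL : g ∈ Cfsg.pPrimePCore p G) :
    g ∈ Subgroup.centralizer (Q : Set G) := by
  have hgL' : (QuotientGroup.mk' (Cfsg.pPrimeCore p G)) g ∈
      Cfsg.pCore p (G ⧸ Cfsg.pPrimeCore p G) := hgL
  obtain ⟨k, hk⟩ := (Cfsg.Agent.Lib.H1.pCore_isPGroup p (G ⧸ Cfsg.pPrimeCore p G)) ⟨_, hgL'⟩
  have hk' : ((QuotientGroup.mk' (Cfsg.pPrimeCore p G)) g) ^ (p ^ k) = 1 := by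
    have := congrArg Subtype.val hk
    simpa using this
  have h1 : orderOf ((QuotientGroup.mk' (Cfsg.pPrimeCore p G)) g) ∣ p ^ k :=
    orderOf_dvd_of_pow_eq_one hk'
  have h2 : orderOf ((QuotientGroup.mk' (Cfsg.pPrimeCore p G)) g) ∣ orderOf g :=
    orderOf_map_dvd _ g
  have h3 : orderOf ((QuotientGroup.mk' (Cfsg.pPrimeCore p G)) g) = 1 :=
    Nat.eq_one_of_dvd_coprimes (Nat.Coprime.pow_right k hgp) h2 h1
  have hgO : g ∈ Cfsg.pPrimeCore p G := by
    rw [orderOf_eq_one_iff] at h3
    exact (QuotientGroup.eq_one_iff g).mp h3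
  rw [Subgroup.mem_centralizer_iff]
  intro q hq
  have hx1 : g * q * g⁻¹ * q⁻¹ ∈ Q :=
    Q.mul_mem ((Subgroup.mem_normalizer_iff.mp hg q).mp hq) (Q.inv_mem hq)
  have hx2 : g * q * g⁻¹ * q⁻¹ ∈ Cfsg.pPrimeCore p G := by
    have hn : (Cfsg.pPrimeCore p G).Normal := inferInstance
    have := hn.conj_mem g⁻¹ (inv_mem hgO) q
    have e : g * q * g⁻¹ * q⁻¹ = g * (q * g⁻¹ * q⁻¹) := by group
    rw [e]
    exact mul_mem hgO this
  have hx : g * q * g⁻¹ * q⁻¹ = 1 := by
    obtain ⟨e, he⟩ := hQ ⟨_, hx1⟩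
    have he' : (g * q * g⁻¹ * q⁻¹) ^ (p ^ e) = 1 := by
      have := congrArg Subtype.val he
      simpa using this
    have o1 : orderOf (g * q * g⁻¹ * q⁻¹) ∣ p ^ e := orderOf_dvd_of_pow_eq_one he'
    have o2 : orderOf (g * q * g⁻¹ * q⁻¹) ∣ Nat.card (Cfsg.pPrimeCore p G) :=
      Subgroup.orderOf_dvd_natCard _ hx2
    have hcop := Cfsg.Agent.Lib.H22.card_pPrimeCore_coprime (G := G) p
    have := Nat.eq_one_of_dvd_coprimes (Nat.Coprime.pow_right e hcop) o2 o1
    exact orderOf_eq_one_iff.mp this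
  calc q * g = (g * q * g⁻¹ * q⁻¹)⁻¹ * (g * q) := by group
    _ = g * q := by rw [hx, inv_one, one_mul]


/-- Let p be a prime and G a finite group whose Sylow p-subgroups are metacyclic (a cyclic normal subgroup with cyclic quotient). Then G has a normal p-complement if and only if the order of G/O_{p′,p}(G) is coprime to p² − 1. -/
theorem result {G : Type*} [Group G] [Finite G] (p : ℕ) [Fact p.Prime] (S : Sylow p G) (hS : Cfsg.IsMetacyclic ↥(S : Subgroup G)) : Cfsg.HasNormalPComplement p G ↔ Nat.Coprime (Nat.card (G ⧸ Cfsg.pPrimePCore p G)) (p ^ 2 - 1) := by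
  have hp : Fact p.Prime := inferInstance
  have hpCn : (Cfsg.pCore p (G ⧸ Cfsg.pPrimeCore p G)).Normal :=
    Cfsg.Agent.Lib.H1.pCore_normal p _
  have hLdef : Cfsg.pPrimePCore p G = (Cfsg.pCore p (G ⧸ Cfsg.pPrimeCore p G)).comap
      (QuotientGroup.mk' (Cfsg.pPrimeCore p G)) := rfl
  have hLn : (Cfsg.pPrimePCore p G).Normal := by
    rw [hLdef]
    exact Subgroup.Normal.comap hpCn _
  constructor
  · rintro ⟨P, K, hKn, hc⟩
    have hcard : Nat.card K * Nat.card (P : Subgroup G) = Nat.card G := hc.card_mul_card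
    have hKidx : K.index = Nat.card (P : Subgroup G) := by
      have := K.card_mul_index
      exact Nat.eq_of_mul_eq_mul_left Nat.card_pos (this.trans hcard.symm)
    have hPidx : (P : Subgroup G).index = Nat.card K := by
      have := (P : Subgroup G).card_mul_index
      rw [mul_comm] at hcard
      exact Nat.eq_of_mul_eq_mul_left Nat.card_pos (this.trans hcard.symm)
    have hKcop : (Nat.card K).Coprime p := by
      rw [← hPidx, Nat.coprime_comm, Nat.Prime.coprime_iff_not_dvd hp.out]
      exact P.not_dvd_index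
    have hKO : K ≤ Cfsg.pPrimeCore p G := Cfsg.Agent.Lib.H22.le_pPrimeCore p K hKn hKcop
    have hOidx : (Cfsg.pPrimeCore p G).index ∣ K.index := Subgroup.index_dvd_of_le hKO
    obtain ⟨e, he⟩ := IsPGroup.iff_card.mp P.2
    rw [hKidx, he] at hOidx
    obtain ⟨e', -, he'⟩ := (Nat.dvd_prime_pow hp.out).mp hOidx
    have hquot : IsPGroup p (G ⧸ Cfsg.pPrimeCore p G) :=
      IsPGroup.of_card (n := e') (by rw [← Subgroup.index_eq_card, he'])
    have htop : Cfsg.pCore p (G ⧸ Cfsg.pPrimeCore p G) = ⊤ := by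
      rw [eq_top_iff]
      exact Cfsg.Agent.Lib.H1.le_pCore inferInstance (hquot.to_subgroup ⊤)
    have hL : Cfsg.pPrimePCore p G = ⊤ := by
      rw [hLdef, htop, Subgroup.comap_top]
    rw [hL, ← Subgroup.index_eq_card, Subgroup.index_top]
    exact Nat.coprime_one_left _
  · intro hcop
    apply hasNormalPComplement_of_frobHyp
    apply frobHyp_of_sylow S
    intro Q hQS
    have hQp : IsPGroup p Q := S.2.to_le hQS
    have hidx := frattini_index_dvd_of_metacyclic (S : Subgroup G) S.2 hS Q hQS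
    have key : ∀ n : ℕ, ∀ g : G, orderOf g = n → n.Coprime p →
        g ∈ Subgroup.normalizer (Q : Set G) → g ∈ Subgroup.centralizer (Q : Set G) := by
      intro n
      induction n using Nat.strong_induction_on with
      | _ n ih =>
        intro g hgn hnp hg
        by_cases hn1 : n = 1
        · rw [hn1, orderOf_eq_one_iff] at hgn
          rw [hgn]
          exact one_mem _
        have hn0 : n ≠ 0 := by
          rw [← hgn]
          exact (orderOf_pos g).ne'
        set r := n.minFac with hr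
        have hrp : r.Prime := Nat.minFac_prime hn1
        have : Fact r.Prime := ⟨hrp⟩
        obtain ⟨k, m, hm, hkm⟩ := Nat.exists_eq_pow_mul_and_not_dvd hn0 r hrp.ne_one
        by_cases hm1 : m = 1
        · rw [hm1, mul_one] at hkm
          have hgo : orderOf g = r ^ k := hgn.trans hkm
          have hrnp : ¬ r ∣ p := by
            intro h
            have hrp' : r = p := (Nat.prime_dvd_prime_iff_eq hrp hp.out).mp h
            have h1 : p ∣ n := hrp' ▸ Nat.minFac_dvd n
            have := Nat.Coprime.eq_one_of_dvd hnp.symm h1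
            exact hp.out.ne_one this
          by_cases hr2 : r ∣ p ^ 2 - 1
          · apply centralizes_of_mem_pPrimePCore Q hQp g hg (hgn ▸ hnp)
            apply mem_of_coprime_orderOf_index
            rw [hgo, Subgroup.index_eq_card]
            apply Nat.Coprime.pow_left
            exact (Nat.Coprime.coprime_dvd_right hr2 hcop).symm
          · exact centralizes_of_frattini_index Q hQp hidx hrnp hr2 g hg k hgo
        · have hm0 : m ≠ 0 := by
            intro h0
            rw [h0, mul_zero] at hkm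
            exact hn0 hkm
          have hk0 : k ≠ 0 := by
            intro h0
            rw [h0, pow_zero, one_mul] at hkm
            apply hm
            rw [← hkm]
            exact Nat.minFac_dvd n
          have hrk2 : 2 ≤ r ^ k := by
            calc 2 ≤ r := hrp.two_le
              _ = r ^ 1 := (pow_one r).symm
              _ ≤ r ^ k := Nat.pow_le_pow_right hrp.pos (Nat.one_le_iff_ne_zero.mpr hk0)
          have hm2 : 2 ≤ m := by omega
          have hlt1 : m < n := by
            rw [hkm]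
            nlinarith
          have hlt2 : r ^ k < n := by
            rw [hkm]
            nlinarith
          have hd1 : r ^ k ∣ orderOf g := by
            rw [hgn, hkm]
            exact Dvd.intro _ rfl
          have hd2 : m ∣ orderOf g := by
            rw [hgn, hkm]
            exact Dvd.intro_left _ rfl
          have ho1 : orderOf (g ^ (r ^ k)) = m := by
            rw [orderOf_pow_of_dvd (by positivity) hd1, hgn, hkm]
            exact Nat.mul_div_cancel_left m (by positivity)
          have ho2 : orderOf (g ^ m) = r ^ k := by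
            rw [orderOf_pow_of_dvd hm0 hd2, hgn, hkm]
            exact Nat.mul_div_cancel (r ^ k) (Nat.pos_of_ne_zero hm0)
          have hc1 : m.Coprime p := Nat.Coprime.coprime_dvd_left (hkm ▸ Dvd.intro_left _ rfl) hnp
          have hc2 : (r ^ k).Coprime p := Nat.Coprime.coprime_dvd_left (hkm ▸ Dvd.intro _ rfl) hnp
          have h1 := ih m hlt1 (g ^ (r ^ k)) ho1 hc1 (Subgroup.pow_mem _ hg _)
          have h2 := ih (r ^ k) hlt2 (g ^ m) ho2 hc2 (Subgroup.pow_mem _ hg _)
          have hcop' : Nat.Coprime (r ^ k) m :=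
            Nat.Coprime.pow_left k ((Nat.Prime.coprime_iff_not_dvd hrp).mpr hm)
          obtain ⟨a, b, hab⟩ := Nat.isCoprime_iff_coprime.mpr hcop'
          have hg' : g = (g ^ (r ^ k)) ^ a * (g ^ m) ^ b := by
            rw [← zpow_natCast g (r ^ k), ← zpow_natCast g m, ← zpow_mul, ← zpow_mul, ← zpow_add,
              mul_comm _ a, mul_comm _ b, hab, zpow_one]
          rw [hg']
          exact Subgroup.mul_mem _ (Subgroup.zpow_mem _ h1 _) (Subgroup.zpow_mem _ h2 _)
    intro g hg hgp
    exact key (orderOf g) g rfl hgp hg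

end Cfsg.Agent.S4419
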