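import Cfsg.Statements.S4420

set_option autoImplicit false
open Cfsg

namespace Cfsg.Agent.S4420

/-- involution t with (t*a)^2 = 1 inverts a -/
theorem inv_of_sq {H : Type*} [Group H] (t a : H) (ht : t ^ 2 = 1) (hta : (t * a) ^ 2 = 1) :
    t * a * t⁻¹ = a⁻¹ := by
  have h1 : t⁻¹ = t := by
    rw [inv_eq_iff_mul_eq_one, ← sq, ht]
  have h2 : t * a * (t * a) = 1 := by rw [← sq]; exact hta
  rw [h1]
  have : t * a * t = a⁻¹ := by
    have h3 : t * a * t * a = 1 := by rw [← h2]; group
    exact eq_inv_of_mul_eq_one_left h3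
  exact this

theorem key {H : Type*} [Group H] (A : Subgroup H) (hD : ∀ x : H, x ∉ A → x ^ 2 = 1)
    (t : H) (ht : t ∉ A) (a : H) (ha : a ∈ A) : t * a * t⁻¹ = a⁻¹ := by
  apply inv_of_sq t a (hD t ht)
  apply hD
  intro h
  apply ht
  have := A.mul_mem h (A.inv_mem ha)
  simpa using this

theorem comm_of {H : Type*} [Group H] (A : Subgroup H) (hD : ∀ x : H, x ∉ A → x ^ 2 = 1)
    (t : H) (ht : t ∉ A) (a b : H) (ha : a ∈ A) (hb : b ∈ A) : a * b = b * a := by
  have h1 := key A hD t ht a ha
  have h2 := key A hD t ht b hb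
  have h3 := key A hD t ht (a * b) (A.mul_mem ha hb)
  have h4 : t * (a * b) * t⁻¹ = (t * a * t⁻¹) * (t * b * t⁻¹) := by group
  rw [h4, h1, h2, mul_inv_rev] at h3
  have := congrArg Inv.inv h3
  simpa using this.symm

/-- Structure of groups in which every element outside some proper subgroup has square 1. Let H be a finite group with a proper subgroup A such that every element outside A has square 1. Then H has an abelian normal subgroup B of index 2 such that every element outside B is an involution inverting every element of B; and if H is not an elementary abelian 2-group, B is the only abelian normal subgroup of index 2 with this property. -/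
theorem result {H : Type*} [Group H] [Finite H] (A : Subgroup H) (hA : A ≠ ⊤) (hD : ∀ x : H, x ∉ A → x ^ 2 = 1) :
    ∃ B : Subgroup H, B.Normal ∧ IsMulCommutative ↥B ∧ B.index = 2 ∧
      (∀ x : H, x ∉ B → x ^ 2 = 1 ∧ ∀ b ∈ B, x * b * x⁻¹ = b⁻¹) ∧
      (¬ (IsMulCommutative H ∧ ∀ x : H, x ^ 2 = 1) →
        ∀ B' : Subgroup H, B'.Normal → IsMulCommutative ↥B' → B'.index = 2 →
          (∀ x : H, x ∉ B' → x ^ 2 = 1 ∧ ∀ b ∈ B', x * b * x⁻¹ = b⁻¹) → B' = B) := by
  classical
  obtain ⟨t, ht⟩ : ∃ t : H, t ∉ A := by
    by_contra hcon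
    push Not at hcon
    exact hA (Subgroup.eq_top_iff' A |>.2 hcon)
  by_cases hsq : ∀ x : H, x ^ 2 = 1
  · -- elementary abelian 2-group
    have hcomm : ∀ a b : H, a * b = b * a := by
      intro a b
      have h1 := hsq (a * b)
      have ha := hsq a
      have hb := hsq b
      have hai : a⁻¹ = a := by rw [inv_eq_iff_mul_eq_one, ← sq, ha]
      have hbi : b⁻¹ = b := by rw [inv_eq_iff_mul_eq_one, ← sq, hb]
      have h2 : (a * b)⁻¹ = a * b := by rw [inv_eq_iff_mul_eq_one, ← sq, h1]
      rw [mul_inv_rev, hai, hbi] at h2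
      exact h2.symm
    have hP : IsPGroup 2 H := fun g => ⟨1, by rw [pow_one]; exact hsq g⟩
    haveI : Fact (Nat.Prime 2) := ⟨Nat.prime_two⟩
    obtain ⟨k, hk⟩ := IsPGroup.iff_card.1 hP
    have hk0 : k ≠ 0 := by
      rintro rfl
      rw [pow_zero] at hk
      have hsub : Subsingleton H := (Nat.card_eq_one_iff_unique.1 hk).1
      exact ht (by rw [Subsingleton.elim t 1]; exact A.one_mem)
    obtain ⟨B, hB⟩ := Sylow.exists_subgroup_card_pow_prime (G := H) 2 (n := k - 1)
      (by rw [hk]; exact pow_dvd_pow 2 (by omega))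
    have hidx : B.index = 2 := by
      have h1 := Subgroup.card_mul_index B
      rw [hB, hk] at h1
      have h2 : 2 ^ k = 2 ^ (k - 1) * 2 := by
        rw [← pow_succ]; congr 1; omega
      rw [h2] at h1
      exact Nat.eq_of_mul_eq_mul_left (by positivity) h1
    refine ⟨B, ⟨fun n hn g => ?_⟩, ?_, hidx, ?_, ?_⟩
    · rw [hcomm g n, mul_inv_cancel_right]; exact hn
    · rw [isMulCommutative_iff]
      intro a b
      exact Subtype.ext (hcomm a b)
    · intro x _
      refine ⟨hsq x, fun b _ => ?_⟩
      rw [hcomm x b, mul_inv_cancel_right]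
      have hb := hsq b
      rw [eq_comm, inv_eq_iff_mul_eq_one, ← sq, hb]
    · intro hne
      exfalso
      apply hne
      exact ⟨isMulCommutative_iff.2 hcomm, hsq⟩
  · push Not at hsq
    obtain ⟨x, hx⟩ := hsq
    have hxA : x ∈ A := by
      by_contra h
      exact hx (hD x h)
    have hxinv : x⁻¹ ≠ x := by
      intro h
      apply hx
      rw [sq]
      rw [inv_eq_iff_mul_eq_one] at h
      exact h
    -- any two elements outside A have product in A
    have hprod : ∀ s s' : H, s ∉ A → s' ∉ A → s * s' ∈ A := by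
      intro s s' hs hs'
      by_contra hss
      have h1 := key A hD s hs
      have h2 := key A hD s' hs'
      have h3 := key A hD (s * s') hss x hxA
      have h4 : s * s' * x * (s * s')⁻¹ = s * (s' * x * s'⁻¹) * s⁻¹ := by group
      rw [h4, h2 x hxA, h1 _ (A.inv_mem hxA), inv_inv] at h3
      exact hxinv h3.symm
    have hidx : A.index = 2 := by
      rw [Subgroup.index_eq_two_iff]
      refine ⟨t, fun b => ?_⟩
      by_cases hb : b ∈ A
      · right
        refine ⟨hb, ?_⟩
        intro h
        apply ht
        have := A.mul_mem (A.inv_mem hb) h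
        simpa using this
      · left
        exact ⟨hprod b t hb ht, hb⟩
    have hnormal : A.Normal := Subgroup.normal_of_index_eq_two hidx
    have hcommA : ∀ a b : H, a ∈ A → b ∈ A → a * b = b * a :=
      fun a b ha hb => comm_of A hD t ht a b ha hb
    refine ⟨A, hnormal, ?_, hidx, ?_, ?_⟩
    · rw [isMulCommutative_iff]
      intro a b
      exact Subtype.ext (hcommA a b a.2 b.2)
    · intro y hy
      exact ⟨hD y hy, fun b hb => key A hD y hy b hb⟩
    · intro _ B' hB'n hB'c hB'i hB'
      have hxB' : x ∈ B' := by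
        by_contra h
        exact hx (hB' x h).1
      rw [isMulCommutative_iff] at hB'c
      apply le_antisymm
      · intro b hb
        by_contra hbA
        have h1 := key A hD b hbA x hxA
        have h2 : b * x = x * b := by
          have := hB'c ⟨b, hb⟩ ⟨x, hxB'⟩
          exact congrArg Subtype.val this
        rw [h2, mul_inv_cancel_right] at h1
        exact hxinv h1.symm
      · intro a ha
        by_contra haB
        have h1 := (hB' a haB).2 x hxB'
        rw [hcommA a x ha hxA, mul_inv_cancel_right] at h1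
        exact hxinv h1.symm

end Cfsg.Agent.S4420
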