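import Cfsg.Statements.S4422

set_option autoImplicit false
open Cfsg

namespace Cfsg.Agent.S4422

theorem modEq_one_of_primes (e : ℕ) : ∀ m : ℕ, m ≠ 0 → (∀ p : ℕ, p.Prime → p ∣ m → p ≡ 1 [MOD e]) → m ≡ 1 [MOD e] := by
  intro m
  induction m using Nat.recOnMul with
  | zero => intro h; exact absurd rfl h
  | one => intro _ _; rfl
  | prime p hp => intro _ h; exact h p hp dvd_rfl
  | mul a b iha ihb =>
    intro hab h
    have ha : a ≠ 0 := fun h0 => hab (by simp [h0])
    have hb : b ≠ 0 := fun h0 => hab (by simp [h0])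
    have h1 := iha ha (fun p hp hpa => h p hp (dvd_mul_of_dvd_left hpa b))
    have h2 := ihb hb (fun p hp hpb => h p hp (dvd_mul_of_dvd_right hpb a))
    simpa using h1.mul h2

theorem prime_case (q e p : ℕ) (hq : 2 ≤ q) (he : 1 ≤ e) (hp : p.Prime)
    (hm : p ∣ q ^ e - 1) (hcop : ∀ i : ℕ, 1 ≤ i → i < e → ¬ p ∣ (q ^ i - 1)) :
    p ≡ 1 [MOD e] := by
  haveI : Fact p.Prime := ⟨hp⟩
  have hqe : 1 ≤ q ^ e := Nat.one_le_pow _ _ (by omega)
  have h1 : ((q : ZMod p)) ^ e = 1 := by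
    have : ((q ^ e - 1 : ℕ) : ZMod p) = 0 := (ZMod.natCast_eq_zero_iff _ _).2 hm
    rw [Nat.cast_sub hqe] at this
    push_cast at this
    exact sub_eq_zero.1 this
  have hq0 : (q : ZMod p) ≠ 0 := by
    intro h0
    rw [h0, zero_pow (by omega)] at h1
    exact zero_ne_one h1
  set d := orderOf (q : ZMod p) with hd
  have hde : d ∣ e := orderOf_dvd_of_pow_eq_one h1
  have hdpos : 0 < d := by
    apply orderOf_pos_iff.2
    exact isOfFinOrder_iff_pow_eq_one.2 ⟨e, by omega, h1⟩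
  have hdle : d ≤ e := Nat.le_of_dvd (by omega) hde
  have hdeq : d = e := by
    by_contra hne
    have hlt : d < e := lt_of_le_of_ne hdle hne
    apply hcop d hdpos hlt
    have h2 : ((q : ZMod p)) ^ d = 1 := pow_orderOf_eq_one _
    have hqd : 1 ≤ q ^ d := Nat.one_le_pow _ _ (by omega)
    apply (ZMod.natCast_eq_zero_iff _ _).1
    rw [Nat.cast_sub hqd]
    push_cast
    rw [h2, sub_self]
  have h3 : ((q : ZMod p)) ^ (p - 1) = 1 := ZMod.pow_card_sub_one_eq_one hq0
  have h4 : d ∣ p - 1 := orderOf_dvd_of_pow_eq_one h3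
  rw [hdeq] at h4
  have hp1 : 1 ≤ p := hp.one_lt.le
  exact ((Nat.modEq_iff_dvd' hp1).2 h4).symm

/-- Primitive divisors of `q^e - 1` are congruent to 1 modulo `e`. Let `q ≥ 2` and `e ≥ 1` be natural numbers and let `m` be a divisor of `q^e - 1` that is coprime to `q^i - 1` for every `1 ≤ i < e` (so `m` divides the primitive part of `q^e - 1`, the largest such divisor). Then `m ≡ 1 (mod e)`. -/
theorem result (q e m : ℕ) (hq : 2 ≤ q) (he : 1 ≤ e)
    (hm : m ∣ q ^ e - 1) (hcop : ∀ i : ℕ, 1 ≤ i → i < e → Nat.Coprime m (q ^ i - 1)) :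
    m % e = 1 % e := by
  have hqe : 2 ≤ q ^ e := by
    calc 2 ≤ q := hq
      _ = q ^ 1 := (pow_one q).symm
      _ ≤ q ^ e := Nat.pow_le_pow_right (by omega) he
  have hm0 : m ≠ 0 := by
    rintro rfl
    have := Nat.eq_zero_of_zero_dvd hm
    omega
  apply modEq_one_of_primes e m hm0
  intro p hp hpm
  apply prime_case q e p hq he hp (hpm.trans hm)
  intro i hi1 hie hpi
  have := hcop i hi1 hie
  have hp1 : p ∣ 1 := by
    rw [← this]
    exact Nat.dvd_gcd hpm hpi
  exact hp.one_lt.ne' (Nat.dvd_one.1 hp1)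

end Cfsg.Agent.S4422
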