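import Cfsg.Statements.S4424
import Cfsg.Agent.Lib.L0.TildeGen

set_option autoImplicit false
open Cfsg

namespace Cfsg.Agent.S4424

open Cfsg.Agent.Lib.H23 Cfsg.Agent.Lib.H24 Cfsg.Agent.Lib.L0 Cfsg.Agent.Lib.L0.Tilde
open scoped ComplexConjugate

/-- Let χ be an irreducible character of the finite group G lying in the p-block B (relative to a maximal ideal M of the algebraic integers containing p), and let p^a be the p-part of the order of G. Then the class function that equals p^a · χ on the p-regular elements and vanishes on the p-singular elements is an integer combination of the irreducible characters in B: there are integers a_ψ, zero for ψ outside B, with that function equal to Σ a_ψ ψ. -/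
theorem result {G : Type*} [Group G] [Finite G] (p : ℕ) [Fact p.Prime] (M : Ideal Cfsg.AlgInt) (hM : Cfsg.IsPModular p M) (B : Set (Cfsg.IrrCharacter G)) (hB : Cfsg.IsPBlock M B) (χ : Cfsg.IrrCharacter G) (hχ : χ ∈ B) : ∃ a : Cfsg.IrrCharacter G → ℤ, (∀ ψ, ψ ∉ B → a ψ = 0) ∧ (fun x : G => if p ∣ orderOf x then (0 : ℂ) else ((p ^ (Nat.card G).factorization p : ℕ) : ℂ) * (χ : G → ℂ) x) = fun x => ∑ᶠ ψ : Cfsg.IrrCharacter G, (a ψ : ℂ) * (ψ : G → ℂ) x := by
  classical
  haveI := Fintype.ofFinite G
  haveI := Fintype.ofFinite (IrrCharacter G)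
  haveI hP := isPrime_of_isPModular hM
  have hp : p.Prime := Fact.out
  obtain ⟨χ₀, rfl⟩ := hB
  have hint := fun ψ : IrrCharacter G => AA_int hp (isCharacter_of_irr χ.2) ψ
  choose a ha using hint
  refine ⟨a, ?_, ?_⟩
  · intro ψ hψ
    have h0 : AA p (χ : G → ℂ) (ψ : G → ℂ) = 0 := by
      refine AA_eq_zero_of_not_sameBlock hM χ ψ fun h => hψ ?_
      exact sameBlock_trans hχ h
    rw [ha ψ] at h0
    exact_mod_cast h0
  · have hexp := classFunction_expansion (tilde p (χ : G → ℂ))
      (tilde_isClassFunction p (irr_isClassFunction χ))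
    funext x
    have h1 := congrFun hexp x
    rw [Finset.sum_apply] at h1
    simp only [Pi.smul_apply, smul_eq_mul] at h1
    rw [finsum_eq_sum_of_fintype]
    have h2 : tilde p (χ : G → ℂ) x = if p ∣ orderOf x then (0 : ℂ) else
        ((p ^ (Nat.card G).factorization p : ℕ) : ℂ) * (χ : G → ℂ) x := rfl
    rw [← h2, h1]
    refine Finset.sum_congr rfl fun ψ _ => ?_
    rw [← ha ψ]
    rfl

end Cfsg.Agent.S4424
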