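import Cfsg.Statements.S4425
import Cfsg.Agent.Lib.L0.TildeVal

set_option autoImplicit false
open Cfsg

namespace Cfsg.Agent.S4425

open Cfsg.Agent.Lib.H23 Cfsg.Agent.Lib.H24 Cfsg.Agent.Lib.L0 Cfsg.Agent.Lib.L0.Tilde
  Cfsg.Agent.Lib.L0.BlockMinMax
open scoped ComplexConjugate

/-- Let χ be an irreducible character of the finite group G, p a prime, p^a the p-part of the order of G and p^b the p-part of the degree χ(1). Let χ̃ be the class function equal to p^a · χ on p-regular elements and zero on p-singular elements. Then p^(−b) · χ̃ is a generalized character of G, while p^(−(b+1)) · χ̃ is not. -/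
theorem result {G : Type*} [Group G] [Finite G] (p : ℕ) [Fact p.Prime] (χ : Cfsg.IrrCharacter G) : Cfsg.IsGeneralizedCharacter G (fun x : G => if p ∣ orderOf x then (0 : ℂ) else ((p ^ ((Nat.card G).factorization p - (Cfsg.charDegree (χ : G → ℂ)).factorization p) : ℕ) : ℂ) * (χ : G → ℂ) x) ∧ ¬ Cfsg.IsGeneralizedCharacter G (fun x : G => if p ∣ orderOf x then (0 : ℂ) else ((p ^ (Nat.card G).factorization p : ℕ) : ℂ) / ((p ^ ((Cfsg.charDegree (χ : G → ℂ)).factorization p + 1) : ℕ) : ℂ) * (χ : G → ℂ) x) := by
  classical
  haveI := Fintype.ofFinite G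
  haveI := Fintype.ofFinite (IrrCharacter G)
  have hp : p.Prime := Fact.out
  set a := (Nat.card G).factorization p with ha
  set b := (charDegree (χ : G → ℂ)).factorization p with hb
  have hba : b ≤ a := by
    have hdvd := charDegree_dvd_card (χ : G → ℂ) χ.2
    exact (Nat.factorization_le_iff_dvd (charDegree_pos _ χ.2).ne' Nat.card_pos.ne').mpr hdvd p
  have hp0 : (p : ℂ) ≠ 0 := Nat.cast_ne_zero.2 hp.ne_zero
  constructor
  · -- `p^{-b} χ̃`
    have heq : (fun x : G => if p ∣ orderOf x then (0 : ℂ) else
        ((p ^ (a - b) : ℕ) : ℂ) * (χ : G → ℂ) x) =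
        ((p : ℂ) ^ b)⁻¹ • tilde p (χ : G → ℂ) := by
      funext x
      simp only [Pi.smul_apply, smul_eq_mul, tilde]
      split_ifs
      · simp
      · rw [← ha]
        have : a = (a - b) + b := (Nat.sub_add_cancel hba).symm
        conv_rhs => rw [this, pow_add]
        push_cast
        field_simp
    rw [heq]
    refine isGeneralizedCharacter_of_classInner_int ?_ fun ψ => ?_
    · intro g h
      simp only [Pi.smul_apply, smul_eq_mul]
      rw [tilde_isClassFunction p (irr_isClassFunction χ) g h]
    · obtain ⟨n, hn⟩ := AA_int hp (isCharacter_of_irr χ.2) ψ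
      obtain ⟨n', hn'⟩ := pow_dvd_AA hp χ ψ n hn
      refine ⟨n', ?_⟩
      rw [classInner_smul_left]
      have : classInner (tilde p (χ : G → ℂ)) (ψ : G → ℂ) = n := hn
      rw [this, hn']
      push_cast
      rw [← hb]
      field_simp
  · have h := not_isGeneralizedCharacter_tilde_div hp χ
    intro hcon
    apply h
    convert hcon using 1
    funext x
    simp only [tilde]
    split_ifs
    · simp
    · push_cast
      ring

end Cfsg.Agent.S4425
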