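import Cfsg.Statements.S4426
import Cfsg.Agent.Lib.L0.TildeVal

set_option autoImplicit false
open Cfsg

namespace Cfsg.Agent.S4426

open Cfsg.Agent.Lib.H23 Cfsg.Agent.Lib.H24 Cfsg.Agent.Lib.L0 Cfsg.Agent.Lib.L0.Tilde
  Cfsg.Agent.Lib.L0.BlockMinMax
open scoped ComplexConjugate

variable {G : Type*} [Group G] [Fintype G] {p : ℕ} [Fact p.Prime] {M : Ideal AlgInt}

/-- Core equivalence: for `ξ` in the block of `χ`, `p^{ν(ξ(1))+1}` divides `[χ̃, ξ]` iff
`ω_χ(z_χ)` lies in the local ideal. -/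
theorem core (hM : IsPModular p M) (χ ξ : IrrCharacter G)
    (hs : SameBlock M (ξ : G → ℂ) (χ : G → ℂ)) (n : ℤ)
    (hn : AA p (χ : G → ℂ) (ξ : G → ℂ) = n) :
    ((p : ℤ) ^ ((charDegree (ξ : G → ℂ)).factorization p + 1) ∣ n) ↔
      MemLocalIdeal M (omega (χ : G → ℂ) (regElt p (χ : G → ℂ))) := by
  haveI hP := isPrime_of_isPModular hM
  have hp : p.Prime := Fact.out
  set b := (charDegree (ξ : G → ℂ)).factorization p with hb
  set m' := Nat.card G / p ^ (Nat.card G).factorization p with hm'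
  have hm'p : ¬ p ∣ m' := Nat.not_dvd_ordCompl hp Nat.card_pos.ne'
  set z := regElt p (χ : G → ℂ) with hz
  have hzc : z ∈ Subalgebra.center ℂ (MonoidAlgebra ℂ G) :=
    regElt_mem_center p (irr_isClassFunction χ)
  have hzi : z ∈ intCoeff (G := G) M := regElt_mem_intCoeff p χ
  have hn' : AA p (ξ : G → ℂ) (χ : G → ℂ) = n := by rw [AA_symm hp ξ χ, hn]
  obtain ⟨n', rfl⟩ := pow_dvd_AA hp ξ χ n hn'
  have h := AA_mul_ordCompl hp ξ (χ : G → ℂ)
  rw [hn', apply_one_eq_charDegree _ ξ.2] at h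
  have hsplit := Nat.ordProj_mul_ordCompl_eq_self (charDegree (ξ : G → ℂ)) p
  set d' := charDegree (ξ : G → ℂ) / p ^ b with hd'
  have hd'p : ¬ p ∣ d' := Nat.not_dvd_ordCompl hp (charDegree_pos _ ξ.2).ne'
  have hp0 : ((p : ℂ)) ^ b ≠ 0 := pow_ne_zero _ (Nat.cast_ne_zero.2 hp.ne_zero)
  -- `n' m' = d' ω_ξ(z)`
  have h2 : ((n' * (m' : ℤ) : ℤ) : ℂ) = (d' : ℂ) * omega (ξ : G → ℂ) z := by
    apply mul_left_cancel₀ hp0
    have e1 : (p : ℂ) ^ b * ((n' * (m' : ℤ) : ℤ) : ℂ) =
        (((p : ℤ) ^ b * n' : ℤ) : ℂ) * (m' : ℂ) := by push_cast; ring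
    rw [e1, h, ← hsplit]
    push_cast
    rw [← hb]
    ring
  have hdiff : MemLocalIdeal M (omega (ξ : G → ℂ) z - omega (χ : G → ℂ) z) :=
    omega_sub_memLocalIdeal hs hzc hzi
  have hd'R : MemLocalRing M (d' : ℂ) := natCast_mem_localRing _
  have hd'I : ¬ MemLocalIdeal M (d' : ℂ) := fun h => hd'p ((natCast_memLocalIdeal_iff hM _).mp h)
  have hpb : (p : ℤ) ^ b ≠ 0 := pow_ne_zero _ (by exact_mod_cast hp.ne_zero)
  have hdvd_iff : ((p : ℤ) ^ (b + 1) ∣ (p : ℤ) ^ b * n') ↔ (p : ℤ) ∣ n' := by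
    rw [pow_succ]
    exact mul_dvd_mul_iff_left hpb
  rw [hdvd_iff]
  constructor
  · intro hpn
    have h3 : MemLocalIdeal M (((n' * (m' : ℤ) : ℤ) : ℂ)) := by
      rw [intCast_memLocalIdeal_iff hM]
      exact Dvd.dvd.mul_right hpn _
    rw [h2] at h3
    have h4 := memLocalIdeal_of_mul hd'R hd'I h3
    have h5 := memLocalIdeal_sub h4 hdiff
    rwa [sub_sub_cancel] at h5
  · intro hS
    have h4 : MemLocalIdeal M (omega (ξ : G → ℂ) z) := by
      have := memLocalIdeal_add hdiff hS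
      rwa [sub_add_cancel] at this
    have h3 : MemLocalIdeal M (((n' * (m' : ℤ) : ℤ) : ℂ)) := by
      rw [h2]
      exact memLocalIdeal_mul_left hd'R h4
    rw [intCast_memLocalIdeal_iff hM] at h3
    have hpp : Prime (p : ℤ) := Nat.prime_iff_prime_int.mp hp
    rcases hpp.dvd_or_dvd h3 with h | h
    · exact h
    · exact absurd (by exact_mod_cast h) hm'p

/-- The valuation condition in terms of divisibility. -/
theorem cond_iff (hp : p.Prime) (χ ξ : IrrCharacter G) (n : ℤ)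
    (hn : AA p (χ : G → ℂ) (ξ : G → ℂ) = n) :
    (∃ k : ℤ, AA p (χ : G → ℂ) (ξ : G → ℂ) = (k : ℂ) ∧ k ≠ 0 ∧
      padicValInt p k = (charDegree (ξ : G → ℂ)).factorization p) ↔
    ¬ ((p : ℤ) ^ ((charDegree (ξ : G → ℂ)).factorization p + 1) ∣ n) := by
  set b := (charDegree (ξ : G → ℂ)).factorization p with hb
  have hn' : AA p (ξ : G → ℂ) (χ : G → ℂ) = n := by rw [AA_symm hp ξ χ, hn]
  have hdvd := pow_dvd_AA hp ξ χ n hn'
  constructor
  · rintro ⟨k, hk, hk0, hkv⟩ hcon
    have hkn : k = n := by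
      have : (k : ℂ) = (n : ℂ) := by rw [← hk, hn]
      exact_mod_cast this
    subst hkn
    rcases (padicValInt_dvd_iff (p := p) (b + 1) k).mp hcon with h | h
    · exact hk0 h
    · omega
  · intro hcon
    have hn0 : n ≠ 0 := fun h => hcon (h ▸ dvd_zero _)
    refine ⟨n, hn, hn0, ?_⟩
    have h1 : b ≤ padicValInt p n := by
      rcases (padicValInt_dvd_iff (p := p) b n).mp hdvd with h | h
      · exact absurd h hn0
      · exact h
    have h2 : ¬ (b + 1 ≤ padicValInt p n) := fun h =>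
      hcon ((padicValInt_dvd_iff (p := p) (b + 1) n).mpr (Or.inr h))
    omega

/-- Let χ be an irreducible character in the p-block B of the finite group G (relative to a maximal ideal M of the algebraic integers containing p), let p^a be the p-part of the order of G, and let χ̃ be the class function equal to p^a · χ on p-regular elements and zero elsewhere. For ξ ∈ B the inner product [χ̃, ξ] is an integer. The following are equivalent: (a) χ has height zero in B; (b) for some ξ ∈ B the integer [χ̃, ξ] is nonzero and the exact power of p dividing it equals the exact power of p dividing ξ(1); (c) the same holds for every ξ ∈ B. -/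
theorem result {G : Type*} [Group G] [Fintype G] (p : ℕ) [Fact p.Prime] (M : Ideal Cfsg.AlgInt) (hM : Cfsg.IsPModular p M) (B : Set (Cfsg.IrrCharacter G)) (hB : Cfsg.IsPBlock M B) (χ : Cfsg.IrrCharacter G) (hχ : χ ∈ B) : (Cfsg.blockHeight p B (χ : G → ℂ) = 0 ↔ ∃ ξ ∈ B, ∃ n : ℤ, Cfsg.classInner (fun x : G => if p ∣ orderOf x then (0 : ℂ) else ((p ^ (Nat.card G).factorization p : ℕ) : ℂ) * (χ : G → ℂ) x) (ξ : G → ℂ) = (n : ℂ) ∧ n ≠ 0 ∧ padicValInt p n = (Cfsg.charDegree (ξ : G → ℂ)).factorization p) ∧ (Cfsg.blockHeight p B (χ : G → ℂ) = 0 ↔ ∀ ξ ∈ B, ∃ n : ℤ, Cfsg.classInner (fun x : G => if p ∣ orderOf x then (0 : ℂ) else ((p ^ (Nat.card G).factorization p : ℕ) : ℂ) * (χ : G → ℂ) x) (ξ : G → ℂ) = (n : ℂ) ∧ n ≠ 0 ∧ padicValInt p n = (Cfsg.charDegree (ξ : G → ℂ)).factorization p) := by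
  classical
  haveI := Fintype.ofFinite (IrrCharacter G)
  haveI hP := isPrime_of_isPModular hM
  have hp : p.Prime := Fact.out
  obtain ⟨χ₀, rfl⟩ := hB
  set B := blockOf M (χ₀ : G → ℂ) with hBdef
  set e := minDeg p B with he
  have hsame : ∀ ξ : IrrCharacter G, ξ ∈ B → SameBlock M (ξ : G → ℂ) (χ : G → ℂ) :=
    fun ξ hξ => sameBlock_trans (sameBlock_symm hξ) hχ
  set good : Prop := ¬ MemLocalIdeal M (omega (χ : G → ℂ) (regElt p (χ : G → ℂ))) with hgood
  -- the condition, for `ξ ∈ B`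
  have hcond : ∀ ξ : IrrCharacter G, ξ ∈ B →
      ((∃ k : ℤ, AA p (χ : G → ℂ) (ξ : G → ℂ) = (k : ℂ) ∧ k ≠ 0 ∧
        padicValInt p k = (charDegree (ξ : G → ℂ)).factorization p) ↔ good) := by
    intro ξ hξ
    obtain ⟨n, hn⟩ := AA_int hp (isCharacter_of_irr χ.2) ξ
    rw [cond_iff hp χ ξ n hn, core hM χ ξ (hsame ξ hξ) n hn]
  -- height zero iff good
  have hheight : blockHeight p B (χ : G → ℂ) = 0 ↔ good := by
    have hle : e ≤ (charDegree (χ : G → ℂ)).factorization p := minDeg_le (p := p) χ₀ hχ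
    have hh : blockHeight p B (χ : G → ℂ) = (charDegree (χ : G → ℂ)).factorization p - e := rfl
    constructor
    · intro h0
      have hbe : (charDegree (χ : G → ℂ)).factorization p = e := by omega
      by_contra hng
      apply not_isGeneralizedCharacter_tilde_div hp χ
      have heq : (fun x => tilde p (χ : G → ℂ) x /
          (p : ℂ) ^ ((charDegree (χ : G → ℂ)).factorization p + 1)) =
          ((p : ℂ) ^ (e + 1))⁻¹ • tilde p (χ : G → ℂ) := by
        funext x
        rw [hbe, Pi.smul_apply, smul_eq_mul, div_eq_inv_mul]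
      rw [heq]
      refine isGeneralizedCharacter_of_classInner_int ?_ fun ψ => ?_
      · intro g h
        simp only [Pi.smul_apply, smul_eq_mul]
        rw [tilde_isClassFunction p (irr_isClassFunction χ) g h]
      · rw [classInner_smul_left]
        obtain ⟨n, hn⟩ := AA_int hp (isCharacter_of_irr χ.2) ψ
        have hn2 : classInner (tilde p (χ : G → ℂ)) (ψ : G → ℂ) = n := hn
        rw [hn2]
        have hpe : ((p : ℂ)) ^ (e + 1) ≠ 0 := pow_ne_zero _ (Nat.cast_ne_zero.2 hp.ne_zero)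
        by_cases hψ : ψ ∈ B
        · have h1 : (p : ℤ) ^ ((charDegree (ψ : G → ℂ)).factorization p + 1) ∣ n := by
            rw [core hM χ ψ (hsame ψ hψ) n hn]
            exact hng
          have h2 : e ≤ (charDegree (ψ : G → ℂ)).factorization p := minDeg_le (p := p) χ₀ hψ
          have h3 : (p : ℤ) ^ (e + 1) ∣ n := (pow_dvd_pow _ (by omega)).trans h1
          obtain ⟨k, rfl⟩ := h3
          refine ⟨k, ?_⟩
          push_cast
          field_simp
        · have h0' : AA p (χ : G → ℂ) (ψ : G → ℂ) = 0 := by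
            refine AA_eq_zero_of_not_sameBlock hM χ ψ fun h => hψ ?_
            exact sameBlock_trans hχ h
          rw [hn] at h0'
          have : n = 0 := by exact_mod_cast h0'
          exact ⟨0, by rw [this]; simp⟩
    · intro hg
      -- a character of minimal degree valuation
      have hVne : ((fun χ : IrrCharacter G =>
          (charDegree (χ : G → ℂ)).factorization p) '' B).Nonempty :=
        ⟨_, χ₀, mem_blockOf_self χ₀, rfl⟩
      obtain ⟨ψ₀, hψ₀, hψ₀e⟩ := Nat.sInf_mem hVne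
      have hψ₀e' : (charDegree (ψ₀ : G → ℂ)).factorization p = e := hψ₀e
      obtain ⟨n, hn⟩ := AA_int hp (isCharacter_of_irr χ.2) ψ₀
      have h1 := (cond_iff hp χ ψ₀ n hn).mp ((hcond ψ₀ hψ₀).mpr hg)
      rw [hψ₀e'] at h1
      have h2 := pow_dvd_AA hp χ ψ₀ n hn
      by_contra hne
      have h3 : e + 1 ≤ (charDegree (χ : G → ℂ)).factorization p := by omega
      exact h1 ((pow_dvd_pow _ h3).trans h2)
  constructor
  · rw [hheight]
    constructor
    · intro hg
      exact ⟨χ, hχ, (hcond χ hχ).mpr hg⟩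
    · rintro ⟨ξ, hξ, hc⟩
      exact (hcond ξ hξ).mp hc
  · rw [hheight]
    constructor
    · intro hg ξ hξ
      exact (hcond ξ hξ).mpr hg
    · intro hall
      exact (hcond χ hχ).mp (hall χ hχ)

end Cfsg.Agent.S4426
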