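import Cfsg.Statements.S4431
import Cfsg.Agent.Lib.L0.InducedBlockPart
import Cfsg.Agent.Lib.H23.BlockHom

set_option autoImplicit false
open Cfsg

namespace Cfsg.Agent.S4431

open Cfsg.Agent.Lib.H23 Cfsg.Agent.Lib.H24 Cfsg.Agent.Lib.L0 Cfsg.Agent.Lib.L0.Tilde
  Cfsg.Agent.Lib.L0.BrauerFeit
open scoped ComplexConjugate

/-- Let H be a subgroup of the finite group G and b a block of H whose induced block B₀ in G is defined (relative to a maximal ideal M of the algebraic integers containing p). Let χ be an irreducible character of G, ψ ∈ b, and let η be the class function on H equal to p^a · χ on the p-regular elements of H and zero elsewhere, p^a being the p-part of the order of H. Then (a) if χ ∉ B₀, the number [η, ψ]/ψ(1) lies in the local ideal at M; (b) if χ ∈ B₀ has height zero, it does not. -/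
theorem result {G : Type*} [Group G] [Fintype G] (p : ℕ) [Fact p.Prime] (M : Ideal Cfsg.AlgInt) (hM : Cfsg.IsPModular p M) (H : Subgroup G) [Fintype H] (b : Set (Cfsg.IrrCharacter H)) (B₀ : Set (Cfsg.IrrCharacter G)) (hind : Cfsg.IsInducedBlock M H b B₀) (χ : Cfsg.IrrCharacter G) (ψ : Cfsg.IrrCharacter H) (hψ : ψ ∈ b) : (χ ∉ B₀ → Cfsg.MemLocalIdeal M (Cfsg.classInner (fun h : H => if p ∣ orderOf h then (0 : ℂ) else ((p ^ (Nat.card H).factorization p : ℕ) : ℂ) * (χ : G → ℂ) h) (ψ : H → ℂ) / (ψ : H → ℂ) 1)) ∧ (χ ∈ B₀ → Cfsg.blockHeight p B₀ (χ : G → ℂ) = 0 → ¬ Cfsg.MemLocalIdeal M (Cfsg.classInner (fun h : H => if p ∣ orderOf h then (0 : ℂ) else ((p ^ (Nat.card H).factorization p : ℕ) : ℂ) * (χ : G → ℂ) h) (ψ : H → ℂ) / (ψ : H → ℂ) 1)) := by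
  classical
  haveI hPr := isPrime_of_isPModular hM
  have hp : p.Prime := Fact.out
  have hB₀ := hind.2.1
  obtain ⟨χ₀, rfl⟩ := hB₀
  set a := (Nat.card H).factorization p with ha
  set m' := Nat.card H / p ^ a with hm'
  have hm'p : ¬ p ∣ m' := Nat.not_dvd_ordCompl hp Nat.card_pos.ne'
  have hsplit : p ^ a * m' = Nat.card H := Nat.ordProj_mul_ordCompl_eq_self (Nat.card H) p
  set z := regElt p (χ : G → ℂ) with hz
  have hzc : z ∈ Subalgebra.center ℂ (MonoidAlgebra ℂ G) :=
    regElt_mem_center p (irr_isClassFunction χ)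
  have hzi : z ∈ intCoeff (G := G) M := regElt_mem_intCoeff p χ
  set η : H → ℂ := fun h : H => if p ∣ orderOf h then (0 : ℂ) else
    ((p ^ (Nat.card H).factorization p : ℕ) : ℂ) * (χ : G → ℂ) h with hη
  have hm0 : (m' : ℂ) ≠ 0 := by
    intro h0
    have : m' = 0 := by exact_mod_cast h0
    exact hm'p (this ▸ dvd_zero p)
  have hpa0 : ((p ^ a : ℕ) : ℂ) ≠ 0 := by exact_mod_cast (pow_pos hp.pos a).ne'
  have key : classInner η (ψ : H → ℂ) / (ψ : H → ℂ) 1 =
      (m' : ℂ)⁻¹ * omega (ψ : H → ℂ) (resAlg H z) := by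
    have h1 : ∑ h : H, η h * conj ((ψ : H → ℂ) h) =
        ((p ^ a : ℕ) : ℂ) * charEval (ψ : H → ℂ) (resAlg H z) := by
      unfold charEval
      rw [Finset.mul_sum, ← Equiv.sum_comp (Equiv.inv H)]
      refine Finset.sum_congr rfl fun h _ => ?_
      simp only [Equiv.inv_apply, hη, coeff_resAlg, hz, regElt, coeff_ofFun, orderOf_inv,
        Subgroup.orderOf_coe]
      split_ifs with hd
      · simp
      · rw [irr_inv ψ h, Complex.conj_conj, InvMemClass.coe_inv, irr_inv χ (h : G)]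
        ring
    unfold classInner
    rw [h1, omega, ← hsplit]
    have hpa0' : ((p : ℂ)) ^ a ≠ 0 := pow_ne_zero _ (Nat.cast_ne_zero.2 hp.ne_zero)
    push_cast
    field_simp
  have hunit : MemLocalRing M ((m' : ℂ)⁻¹) := memLocalRing_inv_natCast hM hm'p
  have hunit' : ¬ MemLocalIdeal M ((m' : ℂ)⁻¹) := by
    intro h
    have := memLocalIdeal_mul_left (natCast_mem_localRing (M := M) m') h
    rw [mul_inv_cancel₀ hm0] at this
    exact not_memLocalIdeal_one this
  have hχ₀ : χ₀ ∈ blockOf M (χ₀ : G → ℂ) := mem_blockOf_self χ₀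
  constructor
  · intro hχ
    rw [key]
    refine memLocalIdeal_mul_left hunit ?_
    have h1 := omega_resAlg_sub_memLocalIdeal H hind hψ hχ₀ hzc hzi
    have h2 : omega (χ₀ : G → ℂ) z = 0 := by
      rw [hz, omega_regElt hp, AAz_eq_zero_of_not_sameBlock hM χ₀ χ hχ]
      simp
    rwa [h2, sub_zero] at h1
  · intro hχ hht
    rw [key]
    refine not_memLocalIdeal_mul hunit hunit' ?_
    intro hmem
    have h1 := omega_resAlg_sub_memLocalIdeal H hind hψ hχ hzc hzi
    have h2 : MemLocalIdeal M (omega (χ : G → ℂ) z) := by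
      have := memLocalIdeal_sub hmem h1
      rwa [sub_sub_cancel] at this
    rw [hz, omega_regElt hp, memLocalIdeal_iff_pow_succ_dvd hM] at h2
    refine not_pow_succ_dvd_AAz_self hM χ ?_ h2
    intro φ hφ
    have hφ' : φ ∈ blockOf M (χ₀ : G → ℂ) := sameBlock_trans hχ hφ
    unfold blockHeight at hht
    have h3 : sInf ((fun ψ : IrrCharacter G => (charDegree (ψ : G → ℂ)).factorization p) ''
        blockOf M (χ₀ : G → ℂ)) ≤ (charDegree (φ : G → ℂ)).factorization p :=
      Nat.sInf_le ⟨φ, hφ', rfl⟩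
    omega

end Cfsg.Agent.S4431
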