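import Cfsg.Statements.S4428
import Mathlib
import Cfsg.Agent.S4431
import Cfsg.Agent.Lib.L0.SubsectionTrace
import Cfsg.Agent.Lib.L0.PRegCong
import Cfsg.Agent.Lib.H23.FMCoeff
import Cfsg.Agent.Lib.H23.BlockOrth
import Cfsg.Agent.Lib.H23.BlockOsima
import Cfsg.Agent.Lib.H24.CharOrth

set_option autoImplicit false
open Cfsg

namespace Cfsg.Agent.S4428

open Cfsg.Agent.Lib.H23 Cfsg.Agent.Lib.H24
open Cfsg.Agent.Lib.L0.SubsectionTrace Cfsg.Agent.Lib.L0.InducedBlockPart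
open scoped ComplexConjugate

theorem main {G : Type*} [Group G] [Fintype G] (p : ℕ) [Fact p.Prime] (M : Ideal AlgInt)
    (hM : IsPModular p M) (B : Set (IrrCharacter G))
    (χ : IrrCharacter G) (hχ : χ ∈ B) (h0 : blockHeight p B (χ : G → ℂ) = 0) (x : G)
    (hx : ∃ k : ℕ, orderOf x = p ^ k) (C : Subgroup G)
    (hC : C = Subgroup.centralizer ({x} : Set G))
    [Fintype C] [Fintype (IrrCharacter C)]
    (b : Set (IrrCharacter C)) (hb : IsInducedBlock M C b B) :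
    ∃ y : C, ¬ p ∣ orderOf y ∧
      blockPart b (fun c : C => (χ : G → ℂ) (x * (c : G))) y ≠ 0 := by
  classical
  haveI hPr := isPrime_of_isPModular hM
  have hp : p.Prime := Fact.out
  obtain ⟨ξ₀, hξ₀⟩ := hb.1
  have hξ₀b : ξ₀ ∈ b := hξ₀ ▸ mem_blockOf_self ξ₀
  have h1 := (Cfsg.Agent.S4431.result p M hM C b B hb χ ξ₀ hξ₀b).2 hχ h0
  obtain ⟨a, ha⟩ : ∃ a : ℕ, a = (Nat.card C).factorization p := ⟨_, rfl⟩
  obtain ⟨m', hm'⟩ : ∃ m' : ℕ, m' = Nat.card C / p ^ a := ⟨_, rfl⟩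
  have hm'p : ¬ p ∣ m' := by
    rw [hm', ha]; exact Nat.not_dvd_ordCompl hp Nat.card_pos.ne'
  have hsplit : p ^ a * m' = Nat.card C := by
    rw [hm', ha]; exact Nat.ordProj_mul_ordCompl_eq_self (Nat.card C) p
  rw [← ha] at h1
  have hpa0 : ((p ^ a : ℕ) : ℂ) ≠ 0 := by exact_mod_cast (pow_pos hp.pos a).ne'
  have hm0 : (m' : ℂ) ≠ 0 := by
    intro h0
    have : m' = 0 := by exact_mod_cast h0
    exact hm'p (this ▸ dvd_zero p)
  have hcard : (Nat.card C : ℂ) = ((p ^ a : ℕ) : ℂ) * (m' : ℂ) := by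
    rw [← hsplit, Nat.cast_mul]
  obtain ⟨ϑ, hϑ⟩ : ∃ ϑ : C → ℂ, ϑ = fun c : C => (χ : G → ℂ) (x * (c : G)) := ⟨_, rfl⟩
  have hϑh : ∀ h : C, ϑ h = (χ : G → ℂ) (x * (h : G)) := fun h => by rw [hϑ]
  have hcf : IsClassFunction C ϑ := by
    rw [hϑ]; exact sec_isClassFunction hC χ
  by_contra hcon
  have hcon' : ∀ y : C, ¬ p ∣ orderOf y → blockPart b ϑ y = 0 := by
    intro y hy
    by_contra hne
    exact hcon ⟨y, hy, by rw [hϑ] at hne; exact hne⟩
  -- expansion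
  have hexp : ∀ h : C, ϑ h = ∑ ψ : IrrCharacter C, classInner ϑ (ψ : C → ℂ) * (ψ : C → ℂ) h := by
    intro h
    conv_lhs => rw [classFunction_expansion ϑ hcf]
    simp only [Finset.sum_apply, Pi.smul_apply, smul_eq_mul]
  have hbp : ∀ y : C, ¬ p ∣ orderOf y → ∑ ψ : IrrCharacter C,
      (if ψ ∈ b then classInner ϑ (ψ : C → ℂ) * (ψ : C → ℂ) y else 0) = 0 := by
    intro y hy
    have := hcon' y hy
    rwa [blockPart_apply, finsum_mem_eq_sum_ite] at this
  have hT : ∀ h : C, (if p ∣ orderOf h then (0:ℂ) else ϑ h * conj ((ξ₀ : C → ℂ) h)) =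
      ∑ ψ : IrrCharacter C, (if ψ ∈ b then (0:ℂ) else classInner ϑ (ψ : C → ℂ) *
        (if p ∣ orderOf h then (0:ℂ) else (ψ : C → ℂ) h * conj ((ξ₀ : C → ℂ) h))) := by
    intro h
    by_cases hd : p ∣ orderOf h
    · simp [hd]
    · simp only [if_neg hd]
      have e1 : ϑ h = ∑ ψ : IrrCharacter C,
          (if ψ ∈ b then (0:ℂ) else classInner ϑ (ψ : C → ℂ) * (ψ : C → ℂ) h) := by
        calc ϑ h = (∑ ψ : IrrCharacter C, classInner ϑ (ψ : C → ℂ) * (ψ : C → ℂ) h) -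
              ∑ ψ : IrrCharacter C,
                (if ψ ∈ b then classInner ϑ (ψ : C → ℂ) * (ψ : C → ℂ) h else 0) := by
              rw [hbp h hd, sub_zero]; exact hexp h
          _ = _ := by
              rw [← Finset.sum_sub_distrib]
              refine Finset.sum_congr rfl fun ψ _ => ?_
              split_ifs <;> ring
      rw [e1, Finset.sum_mul]
      refine Finset.sum_congr rfl fun ψ _ => ?_
      split_ifs <;> ring
  have hsumzero : ∑ h : C, (if p ∣ orderOf h then (0:ℂ) else ϑ h * conj ((ξ₀ : C → ℂ) h)) = 0 := by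
    rw [Finset.sum_congr rfl (fun h _ => hT h), Finset.sum_comm]
    refine Finset.sum_eq_zero fun ψ _ => ?_
    by_cases hψ : ψ ∈ b
    · simp [hψ]
    · simp only [if_neg hψ]
      rw [← Finset.mul_sum, sum_pRegular_mul_conj_eq_zero hM ψ ξ₀ ?_, mul_zero]
      intro hs
      apply hψ
      rw [hξ₀]
      exact sameBlock_symm hs
  -- the element w
  obtain ⟨w, hw⟩ : ∃ w : MonoidAlgebra ℂ C, w = ofFun (fun c : C =>
      if p ∣ orderOf c then (0:ℂ) else
        (χ : G → ℂ) ((c⁻¹ : C) : G) - (χ : G → ℂ) (x * ((c⁻¹ : C) : G))) := ⟨_, rfl⟩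
  have hwc : ∀ c : C, w.coeff c = if p ∣ orderOf c then (0:ℂ) else
        (χ : G → ℂ) ((c⁻¹ : C) : G) - (χ : G → ℂ) (x * ((c⁻¹ : C) : G)) := by
    intro c; rw [hw]; rfl
  have hord : ∀ g h : C, orderOf (h * g * h⁻¹) = orderOf g := by
    intro g h
    rw [← MulAut.conj_apply]
    exact MulEquiv.orderOf_eq _ g
  have hcenter : w ∈ Subalgebra.center ℂ (MonoidAlgebra ℂ C) := by
    refine mem_center_of_classFunction fun g h => ?_
    rw [hwc, hwc, hord g h]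
    have e1 : (h * g * h⁻¹)⁻¹ = h * g⁻¹ * h⁻¹ := by group
    rw [e1]
    have e2 : (χ : G → ℂ) ((h * g⁻¹ * h⁻¹ : C) : G) = (χ : G → ℂ) ((g⁻¹ : C) : G) := by
      have : ((h * g⁻¹ * h⁻¹ : C) : G) = (h : G) * ((g⁻¹ : C) : G) * (h : G)⁻¹ := by
        simp only [Subgroup.coe_mul, Subgroup.coe_inv]
      rw [this, irr_conj]
    have e3 : (χ : G → ℂ) (x * ((h * g⁻¹ * h⁻¹ : C) : G)) =
        (χ : G → ℂ) (x * ((g⁻¹ : C) : G)) := sec_isClassFunction hC χ g⁻¹ h
    rw [e2, e3]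
  have hcoeff : ∀ k : C, MemLocalIdeal M (w.coeff k) := by
    intro k
    rw [hwc]
    by_cases hd : p ∣ orderOf k
    · rw [if_pos hd]; exact memLocalIdeal_zero hPr.ne_top
    · rw [if_neg hd]
      have hy : ¬ p ∣ orderOf ((k⁻¹ : C) : G) := by
        rw [Subgroup.orderOf_coe, orderOf_inv]; exact hd
      have hcomm : Commute x ((k⁻¹ : C) : G) := (comm_of_mem hC (k⁻¹)).symm
      have hpp : IsPPart p (x * ((k⁻¹ : C) : G)) x := ⟨_, rfl, hcomm, hx, hy⟩
      have h2 := Cfsg.Agent.Lib.L0.PReg.char_ppart_congr hM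
        (Cfsg.Agent.Lib.L0.isCharacter_of_irr χ.2) hpp
      have e : x⁻¹ * (x * ((k⁻¹ : C) : G)) = ((k⁻¹ : C) : G) := by group
      rw [e] at h2
      have h3 := memLocalIdeal_neg h2
      rwa [neg_sub] at h3
  -- the two sums
  obtain ⟨S1, hS1⟩ : ∃ S1 : ℂ, S1 = ∑ h : C, (if p ∣ orderOf h then (0:ℂ) else
      ((p ^ a : ℕ) : ℂ) * (χ : G → ℂ) (h : G)) * conj ((ξ₀ : C → ℂ) h) := ⟨_, rfl⟩
  obtain ⟨S2, hS2⟩ : ∃ S2 : ℂ, S2 = ∑ h : C, (if p ∣ orderOf h then (0:ℂ) else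
      ((p ^ a : ℕ) : ℂ) * (χ : G → ℂ) (x * (h : G))) * conj ((ξ₀ : C → ℂ) h) := ⟨_, rfl⟩
  have e1 : classInner (fun h : C => if p ∣ orderOf h then (0:ℂ) else
      ((p ^ a : ℕ) : ℂ) * (χ : G → ℂ) (h : G)) (ξ₀ : C → ℂ) = (Nat.card C : ℂ)⁻¹ * S1 := by
    rw [hS1]; rfl
  have hS : S1 - S2 = ((p ^ a : ℕ) : ℂ) * charEval (ξ₀ : C → ℂ) w := by
    rw [hS1, hS2, ← Finset.sum_sub_distrib]
    unfold charEval
    rw [Finset.mul_sum]
    refine Fintype.sum_equiv (Equiv.inv C) _ _ fun h => ?_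
    rw [Equiv.inv_apply, hwc, irr_inv ξ₀ h, orderOf_inv, inv_inv]
    by_cases hd : p ∣ orderOf h
    · simp only [if_pos hd]; ring
    · simp only [if_neg hd]; ring
  have hS2zero : S2 = 0 := by
    have : S2 = ((p ^ a : ℕ) : ℂ) * ∑ h : C,
        (if p ∣ orderOf h then (0:ℂ) else ϑ h * conj ((ξ₀ : C → ℂ) h)) := by
      rw [hS2, Finset.mul_sum]
      refine Finset.sum_congr rfl fun h _ => ?_
      rw [hϑh h]
      by_cases hd : p ∣ orderOf h
      · simp only [if_pos hd]; ring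
      · simp only [if_neg hd]; ring
    rw [this, hsumzero, mul_zero]
  have hkey : (Nat.card C : ℂ)⁻¹ * S1 / (ξ₀ : C → ℂ) 1 =
      (m' : ℂ)⁻¹ * omega (ξ₀ : C → ℂ) w := by
    have hS1' : S1 = ((p ^ a : ℕ) : ℂ) * charEval (ξ₀ : C → ℂ) w := by
      rw [← hS, hS2zero, sub_zero]
    rw [hS1', hcard, omega, mul_inv]
    have : ((p ^ a : ℕ) : ℂ)⁻¹ * (m' : ℂ)⁻¹ * (((p ^ a : ℕ) : ℂ) * charEval (ξ₀ : C → ℂ) w) /
        (ξ₀ : C → ℂ) 1 = (((p ^ a : ℕ) : ℂ)⁻¹ * ((p ^ a : ℕ) : ℂ)) *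
        ((m' : ℂ)⁻¹ * (charEval (ξ₀ : C → ℂ) w / (ξ₀ : C → ℂ) 1)) := by ring
    rw [this, inv_mul_cancel₀ hpa0, one_mul]
  apply h1
  rw [e1, hkey]
  exact memLocalIdeal_mul_left (memLocalRing_inv_natCast hM hm'p)
    (omega_memLocalIdeal_of_coeff' ξ₀ hcenter hcoeff)

/-- Let χ be an irreducible character of height zero in the p-block B of the finite group G (relative to a maximal ideal M of the algebraic integers containing p). Let x be a p-element of G with centralizer C, and let b be a block of C that induces B. Form the class function ϑ(c) = χ(x c) on C and its b-part (the sum over ψ ∈ b of the inner product of ϑ with ψ, times ψ). Then the b-part of ϑ does not vanish identically on the p-regular elements of C. (Compare the second main Theorem, which gives vanishing when b does not induce B.) -/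
theorem result {G : Type*} [Group G] [Finite G] (p : ℕ) [Fact p.Prime] (M : Ideal Cfsg.AlgInt) (hM : Cfsg.IsPModular p M) (B : Set (Cfsg.IrrCharacter G)) (hB : Cfsg.IsPBlock M B) (χ : Cfsg.IrrCharacter G) (hχ : χ ∈ B) (h0 : Cfsg.blockHeight p B (χ : G → ℂ) = 0) (x : G) (hx : ∃ k : ℕ, orderOf x = p ^ k) (b : Set (Cfsg.IrrCharacter (Subgroup.centralizer ({x} : Set G)))) (hb : Cfsg.IsInducedBlock M (Subgroup.centralizer ({x} : Set G)) b B) : ∃ y : Subgroup.centralizer ({x} : Set G), ¬ p ∣ orderOf y ∧ Cfsg.blockPart b (fun c : Subgroup.centralizer ({x} : Set G) => (χ : G → ℂ) (x * (c : G))) y ≠ 0 := by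
  classical
  haveI : Fintype G := Fintype.ofFinite G
  haveI : Fintype (Subgroup.centralizer ({x} : Set G)) := Fintype.ofFinite _
  haveI : Fintype (IrrCharacter (Subgroup.centralizer ({x} : Set G))) := Fintype.ofFinite _
  exact main p M hM B χ hχ h0 x hx (Subgroup.centralizer ({x} : Set G)) rfl b hb

end Cfsg.Agent.S4428
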