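import Cfsg.Statements.S4429
import Cfsg.Agent.Lib.H24.BrauerP4
import Cfsg.Agent.Lib.H12.O7920F2
import Cfsg.Agent.Lib.H10.M7920F0
import Cfsg.Agent.Lib.H11.M7920F1
import Cfsg.Agent.Lib.H16.M7920BLOCK
import Cfsg.Agent.Lib.H27.M7920CASEA
import Cfsg.Agent.Lib.H23.M7920KILLB
import Cfsg.Agent.Lib.H28.M7920KILLb
-- import your own Cfsg.Agent.* helpers here

set_option autoImplicit false
open Cfsg

namespace Cfsg.Agent.S4429

/-- Let G be a simple group of order 7920. Then G has exactly ten irreducible complex characters, and their degrees, listed with multiplicity, are 1, 10, 10, 10, 11, 16, 16, 44, 45, 55: for every natural number n, the number of irreducible characters of degree n is 1 if n ∈ {1, 11, 44, 45, 55}, 3 if n = 10, 2 if n = 16, and 0 otherwise. -/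
theorem result {G : Type*} [Group G] [Finite G] [IsSimpleGroup G] (hG : Nat.card G = 7920) : Nat.card (Cfsg.IrrCharacter G) = 10 ∧ ∀ n : ℕ, Nat.card {χ : Cfsg.IrrCharacter G // Cfsg.charDegree (χ : G → ℂ) = n} = (if n = 1 ∨ n = 11 ∨ n = 44 ∨ n = 45 ∨ n = 55 then 1 else if n = 10 then 3 else if n = 16 then 2 else 0) := by
  classical
  haveI : Fintype G := Fintype.ofFinite G
  have hperf : commutator G = ⊤ :=
    Cfsg.Agent.Lib.H24.BrP.commutator_eq_top_of_simple (by rw [hG]; norm_num)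
  obtain ⟨K, hK, hC, hN⟩ := Cfsg.Agent.Lib.H10.M7920.sylow11_data hG
  obtain ⟨x, hxK, hx1⟩ : ∃ x ∈ K, x ≠ 1 := by
    have h1 : 1 < Nat.card K := by rw [hK]; norm_num
    have : Nontrivial K := (Finite.one_lt_card_iff_nontrivial).1 h1
    obtain ⟨y, hy⟩ := exists_ne (1 : K)
    exact ⟨y, y.2, fun h => hy (Subtype.ext h)⟩
  have hordx : orderOf x = 11 := by
    have h1 : orderOf x ∣ 11 := by
      have := orderOf_dvd_natCard (⟨x, hxK⟩ : K)
      rwa [Subgroup.orderOf_mk, hK] at this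
    rcases (Nat.dvd_prime (by norm_num : Nat.Prime 11)).1 h1 with h | h
    · exact absurd (orderOf_eq_one_iff.1 h) hx1
    · exact h
  have hordxi : orderOf x⁻¹ = 11 := by rw [orderOf_inv, hordx]
  obtain ⟨hconj, hninv⟩ := Cfsg.Agent.Lib.H11.M7920.fusion11 K hK hC hN hxK hx1
  have hζ : IsPrimitiveRoot (Complex.exp (2 * Real.pi * Complex.I / (11 : ℕ))) 11 :=
    Complex.isPrimitiveRoot_exp 11 (by norm_num)
  obtain ⟨χ₁, χ₂, hne, hv1, hv2, hpat⟩ :=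
    Cfsg.Agent.Lib.H16.M7920.block11 hG hperf K hK hC hxK hx1 hconj hninv _ hζ
  set ζ : ℂ := Complex.exp (2 * Real.pi * Complex.I / (11 : ℕ)) with hζdef
  have hnc : ∀ g : G, orderOf g ≠ 11 → ¬ IsConj g x ∧ ¬ IsConj g x⁻¹ := by
    intro g hg
    refine ⟨fun h => hg ?_, fun h => hg ?_⟩
    · rw [Cfsg.Agent.Lib.H27.M7920.casea_orderOf_eq_of_isConj h, hordx]
    · rw [Cfsg.Agent.Lib.H27.M7920.casea_orderOf_eq_of_isConj h, hordxi]
  rcases hpat with ⟨ψ₁, ψ₂, ψ₃, ψ₄, h12, h13, h14, h23, h24, h34, hd1, hd2, he1, he2, he3, he4, hvan, hrel⟩ |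
      ⟨ψ₁, ψ₂, h12, h5, hd1, hd2⟩ | ⟨ψ, h5, hrel⟩
  · -- pattern (A)
    have hadd := Cfsg.Agent.Lib.H12.O7920.eta_add_eta' hζ
    refine Cfsg.Agent.Lib.H27.M7920.caseA hG hordx (ζ + ζ ^ 3 + ζ ^ 4 + ζ ^ 5 + ζ ^ 9) χ₁ χ₂ ψ₁ ψ₂ ψ₃ ψ₄ hne ?_ hv2
      h12 h13 h14 h23 h24 h34 hd1 hd2 he1 he2 he3 he4 hvan hrel
    rw [hv1]
    linear_combination hadd
  · exact (Cfsg.Agent.Lib.H23.M7920.kill_B hG χ₁ ψ₁ ψ₂ h5 h12 hd1 hd2).elim
  · refine (Cfsg.Agent.Lib.H28.M7920.kill_b hG χ₁ ψ h5 ?_).elim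
    intro g hg
    have := hnc g (by rw [hg]; norm_num)
    exact hrel g this.1 this.2


end Cfsg.Agent.S4429
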