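import Cfsg.Statements.S4430
import Cfsg.Agent.Lib.L0.InducedBlockPart
import Cfsg.Agent.Lib.H23.BlockHom

set_option autoImplicit false
open Cfsg

namespace Cfsg.Agent.S4430

open Cfsg.Agent.Lib.H23 Cfsg.Agent.Lib.H24 Cfsg.Agent.Lib.L0 Cfsg.Agent.Lib.L0.InducedBlockPart

/-- Let H be a subgroup of the finite group G, b a block of H whose induced block B₀ in G is defined (relative to a maximal ideal M of the algebraic integers containing p), and ξ ∈ b. For a block B of G let n_B be the value at 1 of the B-part of the induced character ξ^G (a natural number: the sum over χ ∈ B of the multiplicity of χ in ξ^G times χ(1)). Then for B = B₀ the exact power of p dividing n_B equals the exact power of p dividing ξ^G(1), while for every other block B either n_B = 0 or n_B is divisible by a strictly higher power of p than ξ^G(1). -/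
theorem result {G : Type*} [Group G] [Fintype G] (p : ℕ) [Fact p.Prime] (M : Ideal Cfsg.AlgInt) (hM : Cfsg.IsPModular p M) (H : Subgroup G) [Fintype H] (b : Set (Cfsg.IrrCharacter H)) (B₀ : Set (Cfsg.IrrCharacter G)) (hind : Cfsg.IsInducedBlock M H b B₀) (ξ : Cfsg.IrrCharacter H) (hξ : ξ ∈ b) : (∃ n : ℕ, Cfsg.blockPart B₀ (Cfsg.indFun H (ξ : H → ℂ)) 1 = (n : ℂ) ∧ n ≠ 0 ∧ n.factorization p = (Cfsg.charDegree (Cfsg.indFun H (ξ : H → ℂ))).factorization p) ∧ ∀ B : Set (Cfsg.IrrCharacter G), Cfsg.IsPBlock M B → B ≠ B₀ → ∃ n : ℕ, Cfsg.blockPart B (Cfsg.indFun H (ξ : H → ℂ)) 1 = (n : ℂ) ∧ (n = 0 ∨ (Cfsg.charDegree (Cfsg.indFun H (ξ : H → ℂ))).factorization p < n.factorization p) := by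
  classical
  haveI := Fintype.ofFinite (IrrCharacter G)
  haveI hPr := isPrime_of_isPModular hM
  have hp : p.Prime := Fact.out
  have hB₀ := hind.2.1
  obtain ⟨χ₀, rfl⟩ := hB₀
  set θ := indFun H (ξ : H → ℂ) with hθdef
  have hθ : IsCharacter G θ := isCharacter_indFun H (isCharacter_of_irr ξ.2)
  have hθ1 : θ 1 = ((H.index * charDegree (ξ : H → ℂ) : ℕ) : ℂ) := by
    rw [hθdef, indFun_one', apply_one_eq_charDegree _ ξ.2]
    push_cast
    rfl
  have hdeg : charDegree θ = H.index * charDegree (ξ : H → ℂ) := charDegree_eq_of_apply_one hθ1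
  have ht : 0 < charDegree θ := by
    rw [hdeg]
    exact Nat.mul_pos (Nat.pos_of_ne_zero Subgroup.index_ne_zero_of_finite)
      (Cfsg.Agent.Lib.H24.charDegree_pos ξ)
  have hθ1' : θ 1 = (charDegree θ : ℂ) := by rw [hθ1, hdeg]
  have hm : ∀ χ : IrrCharacter G, ∃ m : ℕ, classInner θ (χ : G → ℂ) = m :=
    fun χ => classInner_char_irr_nat hθ χ.2
  choose m hm using hm
  have hpart : ∀ B : Set (IrrCharacter G), blockPart B θ 1 =
      ((∑ χ ∈ Finset.univ.filter (· ∈ B), m χ * charDegree (χ : G → ℂ) : ℕ) : ℂ) := by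
    intro B
    rw [blockPart_apply, finsum_mem_eq_sum_ite, ← Finset.sum_filter]
    push_cast
    refine Finset.sum_congr rfl fun χ _ => ?_
    rw [hm, apply_one_eq_charDegree _ χ.2]
  have hχ₀ : χ₀ ∈ blockOf M (χ₀ : G → ℂ) := mem_blockOf_self χ₀
  constructor
  · refine ⟨_, hpart _, ?_⟩
    have h1 := blockPart_indFun_div_sub_mem hM H hind hξ hχ₀ χ₀
    rw [← hθdef, if_pos hχ₀, hpart, hθ1'] at h1
    exact factorization_eq_of_div_sub_one_mem hM _ _ ht h1
  · intro B hB hne
    obtain ⟨χ₁, rfl⟩ := hB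
    refine ⟨_, hpart _, ?_⟩
    have hnot : χ₀ ∉ blockOf M (χ₁ : G → ℂ) := by
      intro h
      exact hne (blockOf_eq_of_mem h).symm
    have h1 := blockPart_indFun_div_sub_mem hM H hind hξ hχ₀ χ₁
    rw [← hθdef, if_neg hnot, sub_zero, hpart, hθ1'] at h1
    set n := ∑ χ ∈ Finset.univ.filter (· ∈ blockOf M (χ₁ : G → ℂ)),
      m χ * charDegree (χ : G → ℂ) with hn
    have h2 : MemLocalIdeal M (((n : ℤ) : ℂ) / (charDegree θ : ℂ)) := by
      simpa using h1
    have h3 := pow_succ_dvd_of_memLocalIdeal_div hM (n : ℤ) _ ht h2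
    by_cases hn0 : n = 0
    · exact Or.inl hn0
    · right
      have h4 : p ^ ((charDegree θ).factorization p + 1) ∣ n := by exact_mod_cast h3
      have := (hp.pow_dvd_iff_le_factorization hn0).mp h4
      omega

end Cfsg.Agent.S4430
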