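import Cfsg.Statements.S4446
import Mathlib
import Cfsg.Agent.Lib.H24.GlaubCyclic5

set_option autoImplicit false
open Cfsg

namespace Cfsg.Agent.S4446

/-- Let the finite group Γ be generated by a normal subgroup G and a cyclic subgroup S of coprime orders, C = G ⊓ C(S), and let χ be an S-invariant irreducible character of G with canonical extension χ̂ to Γ (the extension whose determinantal order is coprime to the order of S). Then there are exactly one irreducible character β of C and one sign ε such that χ̂(c s) = ε β(c) for every c ∈ C and every generator s of S; this β is a constituent of the restriction of χ to C; distinct S-invariant χ give distinct β; and every irreducible character of C arises in this way. -/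
theorem result {Γ : Type*} [Group Γ] [Fintype Γ] (G S : Subgroup Γ) [Fintype G] (hnorm : ∀ s ∈ S, ∀ g ∈ G, s * g * s⁻¹ ∈ G) (hcop : (Nat.card G).Coprime (Nat.card S)) (htop : G ⊔ S = ⊤) (hcyc : IsCyclic S) (C : Subgroup Γ) [Fintype C] (hC : C = G ⊓ Subgroup.centralizer (S : Set Γ)) (hCG : C ≤ G) : (∀ (χ : Cfsg.IrrCharacter G) (χh : Cfsg.IrrCharacter Γ), (∀ s ∈ S, ∀ g g' : G, (g' : Γ) = s * g * s⁻¹ → (χ : G → ℂ) g' = (χ : G → ℂ) g) → (∀ g : G, (χh : Γ → ℂ) g = (χ : G → ℂ) g) → (Cfsg.detOrder (χh : Γ → ℂ)).Coprime (Nat.card S) → (∃! βε : Cfsg.IrrCharacter C × ℤ, (βε.2 = 1 ∨ βε.2 = -1) ∧ ∀ c : C, ∀ s : Γ, Subgroup.zpowers s = S → (χh : Γ → ℂ) ((c : Γ) * s) = (βε.2 : ℂ) * (βε.1 : C → ℂ) c) ∧ ∀ β : Cfsg.IrrCharacter C, ∀ ε : ℤ, (ε = 1 ∨ ε = -1) → (∀ c : C, ∀ s : Γ, Subgroup.zpowers s = S → (χh : Γ → ℂ) ((c : Γ) * s) = (ε : ℂ) * (β : C → ℂ) c) → Cfsg.classInner (fun c : C =>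 (χ : G → ℂ) ⟨c, hCG c.2⟩) (β : C → ℂ) ≠ 0) ∧ (∀ (χ χ' : Cfsg.IrrCharacter G) (χh χh' : Cfsg.IrrCharacter Γ), (∀ s ∈ S, ∀ g g' : G, (g' : Γ) = s * g * s⁻¹ → (χ : G → ℂ) g' = (χ : G → ℂ) g) → (∀ s ∈ S, ∀ g g' : G, (g' : Γ) = s * g * s⁻¹ → (χ' : G → ℂ) g' = (χ' : G → ℂ) g) → (∀ g : G, (χh : Γ → ℂ) g = (χ : G → ℂ) g) → (∀ g : G, (χh' : Γ → ℂ) g = (χ' : G → ℂ) g) → (Cfsg.detOrder (χh : Γ → ℂ)).Coprime (Nat.card S) → (Cfsg.detOrder (χh' : Γ → ℂ)).Coprime (Nat.card S) → ∀ β : Cfsg.IrrCharacter C, ∀ ε ε' : ℤ, (ε = 1 ∨ ε = -1) → (ε' = 1 ∨ ε' = -1) → (∀ c : C, ∀ s : Γ, Subgroup.zpowers s = S → (χh : Γ → ℂ) ((c : Γ) * s) = (ε : ℂ) * (β : C → ℂ) c) → (∀ c : C, ∀ s : Γ, Subgroup.zpowers s = S → (χh' : Γ → ℂ) ((c : Γ) * s) = (ε' : ℂ) * (β : C → ℂ) c) → χ = χ') ∧ (∀ β : Cfsg.IrrCharacter C, ∃ (χ : Cfsg.IrrCharacter G) (χh : Cfsg.IrrCharacter Γ) (ε : ℤ), (∀ s ∈ S, ∀ g g' : G, (g' : Γ)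 = s * g * s⁻¹ → (χ : G → ℂ) g' = (χ : G → ℂ) g) ∧ (∀ g : G, (χh : Γ → ℂ) g = (χ : G → ℂ) g) ∧ (Cfsg.detOrder (χh : Γ → ℂ)).Coprime (Nat.card S) ∧ (ε = 1 ∨ ε = -1) ∧ ∀ c : C, ∀ s : Γ, Subgroup.zpowers s = S → (χh : Γ → ℂ) ((c : Γ) * s) = (ε : ℂ) * (β : C → ℂ) c) := by
  classical
  -- a generator of `S`
  obtain ⟨g₀, hg₀⟩ := hcyc.exists_generator
  obtain ⟨s₀, hs₀def⟩ : ∃ s₀ : Γ, s₀ = (g₀ : Γ) := ⟨_, rfl⟩
  have hs₀ : Subgroup.zpowers s₀ = S := by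
    ext x
    constructor
    · intro hx
      obtain ⟨k, rfl⟩ := Subgroup.mem_zpowers_iff.mp hx
      rw [hs₀def]
      exact S.zpow_mem g₀.2 k
    · intro hx
      obtain ⟨k, hk⟩ := Subgroup.mem_zpowers_iff.mp (hg₀ ⟨x, hx⟩)
      rw [Subgroup.mem_zpowers_iff]
      refine ⟨k, ?_⟩
      have := congrArg (Subtype.val : S → Γ) hk
      rw [Subgroup.coe_zpow] at this
      rw [hs₀def]
      exact this
  have hord : orderOf s₀ = Nat.card S := by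
    rw [← Nat.card_zpowers, hs₀]
  haveI hGn : G.Normal := Cfsg.Agent.Lib.H24.Glaub.normal_of_sup_eq_top G S hnorm htop
  have hset : Cfsg.Agent.Lib.H24.Glaub.CycSetup G s₀ :=
    Cfsg.Agent.Lib.H24.Glaub.cycSetup_of_sup_eq_top G s₀ (by rw [hs₀]; exact htop)
      (by rw [hord]; exact hcop)
  have hC' : C = Cfsg.Agent.Lib.H24.Glaub.fixedSub G s₀ := by
    rw [hC, ← hs₀]
    exact Cfsg.Agent.Lib.H24.Glaub.inf_centralizer_zpowers G s₀
  subst hC'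
  -- all generators give the same values
  have hgen : ∀ (χh : Cfsg.IrrCharacter Γ),
      Cfsg.IsIrrCharacter G (fun n : G => (χh : Γ → ℂ) n) →
      (Cfsg.detOrder (χh : Γ → ℂ)).Coprime (Nat.card S) →
      ∀ c : Cfsg.Agent.Lib.H24.Glaub.fixedSub G s₀, ∀ s : Γ, Subgroup.zpowers s = S →
        (χh : Γ → ℂ) ((c : Γ) * s) = (χh : Γ → ℂ) ((c : Γ) * s₀) := by
    intro χh hirr hdet c s hs
    obtain ⟨k, hk, rfl⟩ := Cfsg.Agent.Lib.H24.Glaub.exists_pow_of_zpowers_eq (hs.trans hs₀.symm)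
    exact hset.canonical_gen χh.2 hirr (by rw [hord]; exact hdet) hk c.2
  have hs₀S : Subgroup.zpowers s₀ = S := hs₀
  have hirr_of : ∀ (χ : Cfsg.IrrCharacter G) (χh : Cfsg.IrrCharacter Γ),
      (∀ g : G, (χh : Γ → ℂ) g = (χ : G → ℂ) g) →
      Cfsg.IsIrrCharacter G (fun n : G => (χh : Γ → ℂ) n) := by
    intro χ χh hext
    have : (fun n : G => (χh : Γ → ℂ) n) = (χ : G → ℂ) := funext hext
    rw [this]
    exact χ.2
  refine ⟨?_, ?_, ?_⟩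
  · intro χ χh _ hext hdet
    have hirr := hirr_of χ χh hext
    have hdet' : (Cfsg.detOrder (χh : Γ → ℂ)).Coprime (orderOf s₀) := by rw [hord]; exact hdet
    obtain ⟨β, ε, hε, hβ⟩ := hset.exists_sign_irr χh.2 hirr hdet'
    refine ⟨⟨(β, ε), ⟨hε, fun c s hs => ?_⟩, ?_⟩, ?_⟩
    · rw [hgen χh hirr hdet c s hs]
      exact hβ c
    · rintro ⟨β', ε'⟩ ⟨hε', hβ'⟩
      simp only at hε' hβ'
      have h1 : ∀ c : Cfsg.Agent.Lib.H24.Glaub.fixedSub G s₀,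
          (ε' : ℂ) * (β' : _ → ℂ) c = (ε : ℂ) * (β : _ → ℂ) c := by
        intro c
        rw [← hβ' c s₀ hs₀S, hβ c]
      obtain ⟨h2, h3⟩ := Cfsg.Agent.Lib.H24.Glaub.sign_irr_unique β' β ε' ε hε' hε h1
      rw [h2, h3]
    · intro β ε hε hβ
      have h1 := Cfsg.Agent.Lib.H24.Glaub.constituent_of_sign
        (Cfsg.Agent.Lib.L0.isCharacter_of_irr χh.2) β ε hε (fun c => hβ c s₀ hs₀S)
      have h2 : (fun c : Cfsg.Agent.Lib.H24.Glaub.fixedSub G s₀ =>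
          (χ : G → ℂ) ⟨c, hCG c.2⟩) =
          fun c : Cfsg.Agent.Lib.H24.Glaub.fixedSub G s₀ => (χh : Γ → ℂ) (c : Γ) := by
        funext c
        exact (hext ⟨c, hCG c.2⟩).symm
      rw [h2]
      exact h1
  · intro χ χ' χh χh' _ _ hext hext' _ _ β ε ε' hε hε' hβ hβ'
    have hirr := hirr_of χ χh hext
    have hirr' := hirr_of χ' χh' hext'
    have h1 := hset.injective χh.2 χh'.2 hirr hirr' β ε ε' hε hε'
      (fun c => hβ c s₀ hs₀S) (fun c => hβ' c s₀ hs₀S)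
    apply Subtype.ext
    funext n
    rw [← hext n, ← hext' n]
    exact congrFun h1 n
  · intro β
    obtain ⟨χh, ε, h1, h2, h3, hε, hβ⟩ := hset.surjective β
    refine ⟨⟨fun n : G => χh n, h2⟩, ⟨χh, h1⟩, ε, ?_, fun g => rfl, ?_, hε, ?_⟩
    · intro s _ g g' hgg'
      show χh (g' : Γ) = χh (g : Γ)
      rw [hgg']
      exact Cfsg.Agent.Lib.L0.isClassFunction_of_isCharacter
        (Cfsg.Agent.Lib.L0.isCharacter_of_irr h1) _ _
    · rw [← hord]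
      exact h3
    · intro c s hs
      have hdet : (Cfsg.detOrder ((⟨χh, h1⟩ : Cfsg.IrrCharacter Γ) : Γ → ℂ)).Coprime
          (Nat.card S) := by
        rw [← hord]
        exact h3
      rw [hgen ⟨χh, h1⟩ h2 hdet c s hs]
      exact hβ c

end Cfsg.Agent.S4446
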