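import Cfsg.Statements.S4447
import Mathlib
import Cfsg.Agent.Lib.H24.NormAction
import Cfsg.Agent.Lib.H23.DegreeDvd
import Cfsg.Agent.Lib.H23.Ito

set_option autoImplicit false
open Cfsg

namespace Cfsg.Agent.S4447

/-- Inside a finite group Γ let S normalise G and also normalise a normal subgroup N of G, with the order of S coprime to the index of N in G and S or G/N solvable. Then for every S-invariant irreducible character χ of G, the restriction of χ to N has an S-invariant irreducible constituent. -/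
theorem result {Γ : Type*} [Group Γ] [Fintype Γ] (G S N : Subgroup Γ) [Fintype G] [Fintype N] (hnorm : ∀ s ∈ S, ∀ g ∈ G, s * g * s⁻¹ ∈ G) (hNG : N ≤ G) [hNn : (N.subgroupOf G).Normal] (hNS : ∀ s ∈ S, ∀ n ∈ N, s * n * s⁻¹ ∈ N) (hcop : (N.relIndex G).Coprime (Nat.card S)) (hsolv : Group.IsSolvable S ∨ Group.IsSolvable (G ⧸ N.subgroupOf G)) (χ : Cfsg.IrrCharacter G) (hinv : (∀ s ∈ S, ∀ g g' : G, (g' : Γ) = s * g * s⁻¹ → (χ : G → ℂ) g' = (χ : G → ℂ) g)) : ∃ θ : Cfsg.IrrCharacter N, Cfsg.classInner (fun n : N => (χ : G → ℂ) ⟨n, hNG n.2⟩) (θ : N → ℂ) ≠ 0 ∧ (∀ s ∈ S, ∀ g g' : N, (g' : Γ) = s * g * s⁻¹ → (θ : N → ℂ) g' = (θ : N → ℂ) g) := by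
  classical
  have hGN : G ≤ Subgroup.normalizer (N : Set Γ) :=
    Cfsg.Agent.Lib.H24.le_normalizer_of_subgroupOf_normal G N hNG
  have hSN : S ≤ Subgroup.normalizer (N : Set Γ) := by
    intro s hs
    rw [Subgroup.mem_normalizer_iff]
    intro h
    constructor
    · intro hh; exact hNS s hs h hh
    · intro hh
      have := hNS s⁻¹ (S.inv_mem hs) _ hh
      simpa [mul_assoc] using this
  set ρ := Cfsg.Agent.Lib.H24.normIrrHom N with hρ
  set ρG : G →* Equiv.Perm (Cfsg.IrrCharacter N) := ρ.comp (Subgroup.inclusion hGN) with hρG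
  set ρS : S →* Equiv.Perm (Cfsg.IrrCharacter N) := ρ.comp (Subgroup.inclusion hSN) with hρS
  have hρGa : ∀ (g : G) (θ : Cfsg.IrrCharacter N), ((ρG g θ : Cfsg.IrrCharacter N) : N → ℂ) =
      Cfsg.Agent.Lib.H24.normFun N ⟨g, hGN g.2⟩ θ := fun g θ => rfl
  have hρSa : ∀ (s : S) (θ : Cfsg.IrrCharacter N), ((ρS s θ : Cfsg.IrrCharacter N) : N → ℂ) =
      Cfsg.Agent.Lib.H24.normFun N ⟨s, hSN s.2⟩ θ := fun s θ => rfl
  set χN : N → ℂ := fun n : N => (χ : G → ℂ) ⟨n, hNG n.2⟩ with hχN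
  have hχchar : Cfsg.IsCharacter G (χ : G → ℂ) := Cfsg.Agent.Lib.L0.isCharacter_of_irr χ.2
  have hχcf : Cfsg.IsClassFunction G (χ : G → ℂ) :=
    Cfsg.Agent.Lib.L0.isClassFunction_of_isCharacter hχchar
  -- invariance of χN
  have hχG : ∀ g : G, Cfsg.Agent.Lib.H24.normFun N ⟨g, hGN g.2⟩ χN = χN := by
    intro g
    apply Cfsg.Agent.Lib.H24.normFun_eq_self_of_forall
    intro n n' hn
    have h1 := hχcf ⟨n, hNG n.2⟩ g⁻¹
    rw [hχN]
    show (χ : G → ℂ) ⟨n', hNG n'.2⟩ = (χ : G → ℂ) ⟨n, hNG n.2⟩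
    rw [← h1]
    refine congrArg (χ : G → ℂ) (Subtype.ext ?_)
    rw [hn]
    simp
  have hχS : ∀ s : S, Cfsg.Agent.Lib.H24.normFun N ⟨s, hSN s.2⟩ χN = χN := by
    intro s
    apply Cfsg.Agent.Lib.H24.normFun_eq_self_of_forall
    intro n n' hn
    show (χ : G → ℂ) ⟨n', hNG n'.2⟩ = (χ : G → ℂ) ⟨n, hNG n.2⟩
    apply hinv (s⁻¹ : S) (S.inv_mem s.2)
    rw [hn]
    simp
  -- the subgroups of Perm X
  set K : Subgroup (Equiv.Perm (Cfsg.IrrCharacter N)) := ρG.range with hK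
  set A : Subgroup (Equiv.Perm (Cfsg.IrrCharacter N)) := ρS.range with hA
  haveI : Finite (Cfsg.IrrCharacter N) := Cfsg.Agent.Lib.H24.instFiniteIrr
  -- kernel contains N
  have hker : N.subgroupOf G ≤ ρG.ker := by
    intro g hg
    rw [MonoidHom.mem_ker]
    apply Equiv.ext
    intro θ
    apply Subtype.ext
    rw [hρGa]
    apply Cfsg.Agent.Lib.H24.normFun_eq_self_of_forall
    intro n n' hn
    have hcf := Cfsg.Agent.Lib.L0.isClassFunction_of_isCharacter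
      (Cfsg.Agent.Lib.L0.isCharacter_of_irr θ.2)
    have hgN : (g : Γ) ∈ N := Subgroup.mem_subgroupOf.mp hg
    have h1 := hcf n (⟨g, hgN⟩⁻¹ : N)
    show (θ : N → ℂ) n' = (θ : N → ℂ) n
    rw [← h1]
    refine congrArg (θ : N → ℂ) (Subtype.ext ?_)
    rw [hn]
    simp
  have hcardK : Nat.card K ∣ N.relIndex G := by
    rw [hK, ← Subgroup.index_ker]
    exact Subgroup.index_dvd_of_le hker
  have hcardA : Nat.card A ∣ Nat.card S := Subgroup.card_range_dvd ρS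
  have hact : Cfsg.Agent.Lib.H1.CoprimeAction A K := by
    refine ⟨?_, ?_, ?_⟩
    · rintro a ⟨s, rfl⟩
      rw [Subgroup.mem_normalizer_iff]
      have key : ∀ (t : S) (g : G), ρS t * ρG g * (ρS t)⁻¹ ∈ K := by
        intro t g
        refine ⟨⟨(t : Γ) * g * (t : Γ)⁻¹, hnorm t t.2 g g.2⟩, ?_⟩
        rw [← map_inv]
        show ρ _ = ρ _ * ρ _ * ρ _
        rw [← map_mul, ← map_mul]
        congr 1
      intro h
      constructor
      · rintro ⟨g, rfl⟩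
        exact key s g
      · intro hh
        obtain ⟨g, hg⟩ := hh
        have h2 := key s⁻¹ g
        rw [hg, map_inv] at h2
        have h3 : (ρS s)⁻¹ * (ρS s * h * (ρS s)⁻¹) * (ρS s)⁻¹⁻¹ = h := by group
        rwa [h3] at h2
    · exact Nat.Coprime.coprime_dvd_left hcardA (Nat.Coprime.coprime_dvd_right hcardK hcop.symm)
    · rcases hsolv with hs | hs
      · left
        exact Group.isSolvable_of_surjective (f := ρS.rangeRestrict) ρS.rangeRestrict_surjective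
      · right
        have hle : N.subgroupOf G ≤ ρG.rangeRestrict.ker := by
          intro g hg
          rw [MonoidHom.mem_ker]
          apply Subtype.ext
          exact hker hg
        have hsurj : Function.Surjective (QuotientGroup.lift (N.subgroupOf G) ρG.rangeRestrict hle) := by
          rintro ⟨y, g, rfl⟩
          exact ⟨QuotientGroup.mk g, rfl⟩
        exact Group.isSolvable_of_surjective hsurj
  -- the set of constituents
  set Y : Set (Cfsg.IrrCharacter N) := {θ | Cfsg.classInner χN (θ : N → ℂ) ≠ 0} with hY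
  have hχNchar : Cfsg.IsCharacter N χN :=
    Cfsg.Agent.Lib.L0.isCharacter_comp (Subgroup.inclusion hNG) hχchar
  have hYne : Y.Nonempty := by
    have h1 : χN 1 ≠ 0 := by
      show (χ : G → ℂ) ⟨((1 : N) : Γ), _⟩ ≠ 0
      have : (⟨((1 : N) : Γ), hNG (1 : N).2⟩ : G) = 1 := rfl
      rw [this, Cfsg.Agent.Lib.H23.apply_one_eq_charDegree _ χ.2]
      exact_mod_cast (Cfsg.Agent.Lib.H23.charDegree_pos _ χ.2).ne'
    obtain ⟨ϑ, hϑ, hc⟩ := Cfsg.Agent.Lib.H23.exists_irr_constituent hχNchar h1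
    exact ⟨⟨ϑ, hϑ⟩, hc⟩
  have hYK : ∀ k ∈ K, ∀ y ∈ Y, k • y ∈ Y := by
    rintro k ⟨g, rfl⟩ y hy
    show Cfsg.classInner χN ((ρG g y : Cfsg.IrrCharacter N) : N → ℂ) ≠ 0
    rw [hρGa, ← hχG g, Cfsg.Agent.Lib.H24.classInner_normFun]
    exact hy
  have hYA : ∀ a ∈ A, ∀ y ∈ Y, a • y ∈ Y := by
    rintro a ⟨s, rfl⟩ y hy
    show Cfsg.classInner χN ((ρS s y : Cfsg.IrrCharacter N) : N → ℂ) ≠ 0
    rw [hρSa, ← hχS s, Cfsg.Agent.Lib.H24.classInner_normFun]
    exact hy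
  have htrans : ∀ y ∈ Y, ∀ y' ∈ Y, ∃ k ∈ K, k • y = y' := by
    intro y hy y' hy'
    obtain ⟨g, hg⟩ := Cfsg.Agent.Lib.H24.conj_of_constituent_sub G N hNG (χ : G → ℂ) χ.2
      (y : N → ℂ) (y' : N → ℂ) y.2 y'.2 hy hy'
    refine ⟨ρG g, ⟨g, rfl⟩, ?_⟩
    apply Subtype.ext
    show ((ρG g y : Cfsg.IrrCharacter N) : N → ℂ) = y'
    rw [hρGa, hg]
  obtain ⟨θ, hθY, hfix⟩ := Cfsg.Agent.Lib.H1.glauberman_set_exists_fixed hact Y hYne hYK hYA htrans
  refine ⟨θ, hθY, ?_⟩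
  intro s hs n n' hn
  have h1 := hfix (ρS ⟨s, hs⟩) ⟨⟨s, hs⟩, rfl⟩
  have h2 : ((ρS ⟨s, hs⟩ θ : Cfsg.IrrCharacter N) : N → ℂ) = (θ : N → ℂ) := congrArg Subtype.val h1
  rw [hρSa] at h2
  have hmem : ((⟨s, hSN hs⟩ : Subgroup.normalizer (N : Set Γ)) : Γ)⁻¹ * n' * s ∈ N := by
    rw [hn]
    have : s⁻¹ * (s * ↑n * s⁻¹) * s = n := by group
    rw [this]
    exact n.2
  have h3 := Cfsg.Agent.Lib.H24.normFun_apply N ⟨s, hSN hs⟩ (θ : N → ℂ) n' hmem
  rw [h2] at h3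
  rw [h3]
  refine congrArg (θ : N → ℂ) (Subtype.ext ?_)
  show (s : Γ)⁻¹ * n' * s = n
  rw [hn]
  group

end Cfsg.Agent.S4447
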