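import Cfsg.Statements.S4450
import Mathlib
import Cfsg.Agent.Lib.H24.InvOverD

set_option autoImplicit false
open Cfsg

namespace Cfsg.Agent.S4450

/-- Let N ≤ G be normal subgroups of the finite group Γ with the index of G in Γ coprime to the index of N in G, and Γ/G or G/N solvable. Then for every irreducible character ϑ of N invariant under conjugation by Γ, the induced character ϑ^G has an irreducible constituent invariant under conjugation by Γ. -/
theorem result {Γ : Type*} [Group Γ] [Fintype Γ] (G N : Subgroup Γ) [hG : G.Normal] [hN : N.Normal] [Fintype G] [Fintype N] (hNG : N ≤ G) (hcop : (G.index).Coprime (N.relIndex G)) (hsolv : Group.IsSolvable (Γ ⧸ G) ∨ Group.IsSolvable (G ⧸ N.subgroupOf G)) (θ : Cfsg.IrrCharacter N) (hinv : ∀ (x : Γ) (n : N), (θ : N → ℂ) ⟨x * n * x⁻¹, hN.conj_mem n n.2 x⟩ = (θ : N → ℂ) n) : ∃ χ : Cfsg.IrrCharacter G, Cfsg.classInner (fun n : N => (χ : G → ℂ) ⟨n, hNG n.2⟩) (θ : N → ℂ) ≠ 0 ∧ ∀ (x : Γ) (g : G), (χ : G → ℂ) ⟨x * g * x⁻¹,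 hG.conj_mem g g.2 x⟩ = (χ : G → ℂ) g := by
  classical
  have hsolv' : (∃ k, derivedSeries Γ k ≤ G) ∨
      (∃ k, (derivedSeries G k).map G.subtype ≤ N) := by
    rcases hsolv with h | h
    · left
      obtain ⟨k, hk⟩ := (Group.isSolvable_def (Γ ⧸ G)).mp h
      refine ⟨k, ?_⟩
      have h1 := map_derivedSeries_le_derivedSeries (QuotientGroup.mk' G) k
      rw [hk, le_bot_iff] at h1
      have h2 := (Subgroup.map_eq_bot_iff _).mp h1
      rwa [QuotientGroup.ker_mk'] at h2
    · right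
      obtain ⟨k, hk⟩ := (Group.isSolvable_def (G ⧸ N.subgroupOf G)).mp h
      refine ⟨k, ?_⟩
      have h1 := map_derivedSeries_le_derivedSeries (QuotientGroup.mk' (N.subgroupOf G)) k
      rw [hk, le_bot_iff] at h1
      have h2 := (Subgroup.map_eq_bot_iff _).mp h1
      rw [QuotientGroup.ker_mk'] at h2
      rintro _ ⟨g, hg, rfl⟩
      exact Subgroup.mem_subgroupOf.mp (h2 hg)
  exact Cfsg.Agent.Lib.H24.InvOver.inv_over_general G N hNG hcop hsolv' θ hinv

end Cfsg.Agent.S4450
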