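import Cfsg.Statements.S4452
import Mathlib
import Cfsg.Agent.Lib.H24.CoprimeCount2

set_option autoImplicit false
open Cfsg

namespace Cfsg.Agent.S4452

/-- Let the finite group G be the product of a normal subgroup K and a solvable subgroup H of coprime orders, and let N = N_G(H). Then the number of irreducible characters of G of degree coprime to the order of H equals the number of irreducible characters of N of degree coprime to the order of H. (The two sets are in fact in a canonical bijection; only the equality of their sizes is stated here.) -/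
theorem result {G : Type*} [Group G] [Finite G] (K H : Subgroup G) [K.Normal] (hKH : K ⊔ H = ⊤) (hcop : (Nat.card K).Coprime (Nat.card H)) (hsolv : Group.IsSolvable H) : Nat.card {χ : Cfsg.IrrCharacter G // (Cfsg.charDegree (χ : G → ℂ)).Coprime (Nat.card H)} = Nat.card {η : Cfsg.IrrCharacter (Subgroup.normalizer (H : Set G)) // (Cfsg.charDegree (η : Subgroup.normalizer (H : Set G) → ℂ)).Coprime (Nat.card H)} := by
  classical
  letI : Fintype G := Fintype.ofFinite G
  have hHN : H ≤ Subgroup.normalizer (H : Set G) := Subgroup.le_normalizer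
  rw [Cfsg.Agent.Lib.H24.card_coprime_degree_split K H hKH hcop hsolv]
  letI : Fintype (Subgroup.normalizer (H : Set G)) := Fintype.ofFinite _
  set K' : Subgroup (Subgroup.normalizer (H : Set G)) :=
    K.subgroupOf (Subgroup.normalizer (H : Set G)) with hK'
  set H' : Subgroup (Subgroup.normalizer (H : Set G)) :=
    H.subgroupOf (Subgroup.normalizer (H : Set G)) with hH'
  haveI : K'.Normal := Subgroup.Normal.subgroupOf inferInstance _
  let eH : H' ≃* H := Subgroup.subgroupOfEquivOfLe hHN
  have hcardH : Nat.card H' = Nat.card H := Nat.card_congr eH.toEquiv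
  have hcardK : Nat.card K' ∣ Nat.card K := by
    let f : K' →* K :=
      { toFun := fun x => ⟨((x : Subgroup.normalizer (H : Set G)) : G), Subgroup.mem_subgroupOf.mp x.2⟩
        map_one' := rfl
        map_mul' := fun _ _ => rfl }
    have hf : Function.Injective f := by
      intro x y hxy
      apply Subtype.ext
      apply Subtype.ext
      exact congrArg (fun z : K => (z : G)) hxy
    exact Subgroup.card_dvd_of_injective f hf
  have hcop' : (Nat.card K').Coprime (Nat.card H') := by
    rw [hcardH]
    exact Nat.Coprime.coprime_dvd_left hcardK hcop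
  have hprod' : K' ⊔ H' = ⊤ := by
    rw [eq_top_iff]
    intro x _
    obtain ⟨k, hk, h, hh, hx⟩ := Cfsg.Agent.Lib.H24.exists_mul_of_sup_eq_top K H hKH (x : G)
    have hkN : k ∈ Subgroup.normalizer (H : Set G) := by
      have h1 : k = (x : G) * h⁻¹ := by rw [hx]; group
      rw [h1]
      exact Subgroup.mul_mem _ x.2 (Subgroup.inv_mem _ (hHN hh))
    have h2 : x = (⟨k, hkN⟩ : Subgroup.normalizer (H : Set G)) * ⟨h, hHN hh⟩ :=
      Subtype.ext hx
    rw [h2]
    exact Subgroup.mul_mem_sup (Subgroup.mem_subgroupOf.mpr hk) (Subgroup.mem_subgroupOf.mpr hh)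
  have hsolv' : Group.IsSolvable H' :=
    solvable_of_solvable_injective (f := eH.toMonoidHom) eH.injective
  have h1 := Cfsg.Agent.Lib.H24.card_coprime_degree_split K' H' hprod' hcop' hsolv'
  rw [hcardH] at h1
  rw [h1]
  congr 1
  · apply Cfsg.Agent.Lib.H24.card_conjClasses_congr
    symm
    exact
      { toFun := fun x => ⟨((x : Subgroup.normalizer (H : Set G)) : G), by
          have hx1 := (Subgroup.mem_inf.mp x.2).1
          have hx2 := (Subgroup.mem_inf.mp x.2).2
          refine Subgroup.mem_inf.mpr ⟨Subgroup.mem_subgroupOf.mp hx1, ?_⟩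
          rw [Subgroup.mem_centralizer_iff]
          intro h hh
          have h2 := (Subgroup.mem_centralizer_iff.mp hx2) ⟨h, hHN hh⟩
            (Subgroup.mem_subgroupOf.mpr hh)
          exact congrArg (fun z : Subgroup.normalizer (H : Set G) => (z : G)) h2⟩
        invFun := fun y => ⟨⟨(y : G), Subgroup.centralizer_le_normalizer _
            (Subgroup.mem_inf.mp y.2).2⟩, by
          have hy1 := (Subgroup.mem_inf.mp y.2).1
          have hy2 := (Subgroup.mem_inf.mp y.2).2
          refine Subgroup.mem_inf.mpr ⟨Subgroup.mem_subgroupOf.mpr hy1, ?_⟩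
          rw [Subgroup.mem_centralizer_iff]
          intro h hh
          apply Subtype.ext
          exact (Subgroup.mem_centralizer_iff.mp hy2) (h : G) (Subgroup.mem_subgroupOf.mp hh)⟩
        left_inv := fun x => rfl
        right_inv := fun y => rfl
        map_mul' := fun x y => rfl }
  · exact (Nat.card_congr (MulEquiv.monoidHomCongrLeftEquiv eH)).symm

end Cfsg.Agent.S4452
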