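import Cfsg.Statements.S4459
import Mathlib
import Cfsg.Agent.S4457
import Cfsg.Agent.Lib.H24.DegreesOnePIff

set_option autoImplicit false
open Cfsg

namespace Cfsg.Agent.S4459

/-- Let G be a non-abelian finite group and p a prime. Then the irreducible character degrees of G are exactly 1 and p if and only if either G has an abelian normal subgroup of index p or the centre of G has index p³. -/
theorem result {G : Type*} [Group G] [Finite G] (hG : ∃ a b : G, a * b ≠ b * a) (p : ℕ) (hp : p.Prime) : ((∀ χ : Cfsg.IrrCharacter G, Cfsg.charDegree (χ : G → ℂ) = 1 ∨ Cfsg.charDegree (χ : G → ℂ) = p) ∧ ∃ χ : Cfsg.IrrCharacter G, Cfsg.charDegree (χ : G → ℂ) = p) ↔ ((∃ A : Subgroup G, A.Normal ∧ (∀ a ∈ A, ∀ b ∈ A, a * b = b * a) ∧ A.index = p) ∨ (Subgroup.center G).index = p ^ 3) := by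
  classical
  have := Fintype.ofFinite G
  have hdeg : ∀ χ : Cfsg.IrrCharacter G, (χ : G → ℂ) 1 = (Cfsg.charDegree (χ : G → ℂ) : ℂ) :=
    fun χ => (Cfsg.Agent.Lib.H24.charDegree_irr χ).symm
  constructor
  · rintro ⟨hcd, hm⟩
    have hp1 : p ≠ 1 := hp.one_lt.ne'
    have hcd' : Cfsg.Agent.Lib.H24.CdOneP G p := by
      intro χ hχ
      have h1 := hdeg ⟨χ, hχ⟩
      simp only at h1
      rw [h1]
      rcases hcd ⟨χ, hχ⟩ with h | h
      · left; rw [h]; simp
      · right; rw [h]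
    rcases Cfsg.Agent.S4457.result p hcd hm hp1 with
      ⟨A, hAn, hAab, hAidx⟩ | ⟨q, e, hq, hpe, P, A, hPn, hAn, hP, hAab, hinf, hsup⟩
    · left; exact ⟨A, hAn, hAab, hAidx⟩
    · obtain ⟨hqp, -⟩ := (Nat.Prime.pow_eq_iff hp).mp hpe.symm
      subst hqp
      exact Cfsg.Agent.Lib.H24.forward_of_decomp hp hcd' hG P A hP hAab hinf hsup
  · intro h
    have hcd' : Cfsg.Agent.Lib.H24.CdOneP G p := by
      rcases h with ⟨A, hAn, hAab, hAidx⟩ | hZ
      · haveI := hAn
        exact Cfsg.Agent.Lib.H24.cdOneP_of_abelian_index hp A hAab hAidx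
      · exact Cfsg.Agent.Lib.H24.cdOneP_of_center_index hp hZ
    constructor
    · intro χ
      rcases hcd' _ χ.2 with h1 | h1
      · left
        exact Cfsg.Agent.Lib.H23.charDegree_eq_of_apply_one (by rw [h1]; simp)
      · right
        exact Cfsg.Agent.Lib.H23.charDegree_eq_of_apply_one h1
    · obtain ⟨χ, hχ⟩ := Cfsg.Agent.Lib.H24.exists_degree_eq_of_cdOneP hcd' hG
      exact ⟨χ, Cfsg.Agent.Lib.H23.charDegree_eq_of_apply_one hχ⟩

end Cfsg.Agent.S4459
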