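import Cfsg.Statements.S4460
import Mathlib
import Cfsg.Agent.Lib.H1.TDMain

set_option autoImplicit false
open Cfsg

namespace Cfsg.Agent.S4460

/-- A finite group with exactly three distinct irreducible character degrees is solvable of derived length at most 3: its third derived subgroup is trivial. -/
theorem result {G : Type*} [Group G] [Finite G] (hcd : Nat.card {n : ℕ // ∃ χ : Cfsg.IrrCharacter G, Cfsg.charDegree (χ : G → ℂ) = n} = 3) : derivedSeries G 3 = ⊥ := by
  have h1 : Nat.card (Cfsg.Agent.Lib.H1.TD.cd G) = 3 := hcd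
  rw [Nat.card_coe_set_eq, Set.ncard_eq_three] at h1
  obtain ⟨x, y, z, hxy, hxz, hyz, hS⟩ := h1
  have hone : 1 ∈ Cfsg.Agent.Lib.H1.TD.cd G := Cfsg.Agent.Lib.H1.TD.one_mem_cd
  rw [hS] at hone
  simp only [Set.mem_insert_iff, Set.mem_singleton_iff] at hone
  rcases hone with h | h | h
  · apply Cfsg.Agent.Lib.H1.TD.three_degrees (a := y) (b := z)
    rw [hS, ← h]
  · apply Cfsg.Agent.Lib.H1.TD.three_degrees (a := x) (b := z)
    rw [hS, ← h]
    intro d hd
    simp only [Set.mem_insert_iff, Set.mem_singleton_iff] at hd ⊢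
    tauto
  · apply Cfsg.Agent.Lib.H1.TD.three_degrees (a := x) (b := y)
    rw [hS, ← h]
    intro d hd
    simp only [Set.mem_insert_iff, Set.mem_singleton_iff] at hd ⊢
    tauto

end Cfsg.Agent.S4460
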