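import Mathlib
import Cfsg.Statements.S4469
import Cfsg.Agent.Lib.H2.Jor9
import Cfsg.Agent.Lib.H1.JordanA
import Cfsg.Agent.Lib.H1.JordanF
-- import your own Cfsg.Agent.* helpers here

set_option autoImplicit false
open Cfsg

namespace Cfsg.Agent.S4469

/-- The classical bound for finite linear groups, in explicit form. Let the finite group G have a faithful character of degree n. Then G has an abelian normal subgroup whose index is at most n! · 12^(n·(π(n+1)+1)), π(k) denoting the number of primes not exceeding k. -/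
theorem result {G : Type*} [Group G] [Finite G] (χ : G → ℂ) (hχ : Cfsg.IsCharacter G χ) (hfaith : ∀ g : G, χ g = χ 1 → g = 1) (n : ℕ) (hn : Cfsg.charDegree χ = n) : ∃ A : Subgroup G, A.Normal ∧ (∀ x ∈ A, ∀ y ∈ A, x * y = y * x) ∧ A.index ≤ Nat.factorial n * 12 ^ (n * (Nat.primeCounting (n + 1) + 1)) := by
  obtain ⟨m, hm⟩ := Cfsg.Agent.Lib.L0.isCharacter_apply_one hχ
  have hmn : m = n := by
    rw [← hn, Cfsg.Agent.Lib.H23.charDegree_eq_of_apply_one hm]
  rw [hmn] at hm
  have hχ' := hχ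
  obtain ⟨k, ρ, hρ⟩ := hχ'
  obtain ⟨R, hR⟩ := Cfsg.Agent.Lib.H1.Jordan.exists_isometric_rep ρ
  have hkn : k = n := by
    have h1 : χ 1 = (k : ℂ) := by
      rw [← hρ, Representation.character, map_one]
      simp
    rw [hm] at h1
    exact_mod_cast h1.symm
  subst hkn
  have hinj : ∀ x : G, R x = 1 → x = 1 := by
    intro x hx
    apply hfaith
    rw [← hρ, ← hR x, ← hR 1, hx, map_one]
  have hfin : Module.finrank ℂ (EuclideanSpace ℂ (Fin k)) = k := by
    simp
  obtain ⟨A, hAn, hAab, hA12⟩ := Cfsg.Agent.Lib.H1.Jordan.jordan_blichfeldt hfin R hinj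
  haveI := hAn
  exact ⟨A, hAn, hAab, Cfsg.Agent.Lib.H2.Jor.jordan_bound hχ hfaith hm A hA12⟩

end Cfsg.Agent.S4469
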