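import Cfsg.Statements.S4473
import Cfsg.Agent.Lib.H22.Deg2Prim

set_option autoImplicit false
open Cfsg

namespace Cfsg.Agent.S4473

open Cfsg.Agent.Lib.H22.Deg2Prim Subgroup

/-- Let the finite group G have a faithful irreducible character χ of degree 2 that is primitive: χ is not induced from a character of any proper subgroup. Then the centre of G has index 12, 24 or 60. -/
theorem result {G : Type*} [Group G] [Fintype G] (χ : Cfsg.IrrCharacter G) (hfaith : ∀ g : G, (χ : G → ℂ) g = (χ : G → ℂ) 1 → g = 1) (h2 : Cfsg.charDegree (χ : G → ℂ) = 2) (hprim : ∀ H : Subgroup G, H ≠ ⊤ → ∀ θ : H → ℂ, Cfsg.IsCharacter H θ → (χ : G → ℂ) ≠ Cfsg.indFun H θ) : (Subgroup.center G).index = 12 ∨ (Subgroup.center G).index = 24 ∨ (Subgroup.center G).index = 60 := by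
  classical
  obtain ⟨n, ρ, hirr, hchar⟩ := χ.2
  haveI := hirr
  have hn : n = 2 := by
    have h1 : (χ : G → ℂ) 1 = n := by
      rw [← hchar, Representation.char_one, Module.finrank_fin_fun]
    unfold Cfsg.charDegree at h2
    rw [h1] at h2
    simpa using h2
  subst hn
  have hfaithρ : Function.Injective ρ := by
    intro g h hgh
    have h1 : ρ (g * h⁻¹) = 1 := by
      rw [map_mul, hgh, ← map_mul, mul_inv_cancel, map_one]
    have h3 : (χ : G → ℂ) (g * h⁻¹) = (χ : G → ℂ) 1 := by
      rw [← hchar]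
      show LinearMap.trace ℂ _ (ρ (g * h⁻¹)) = LinearMap.trace ℂ _ (ρ 1)
      rw [h1, map_one ρ]
    exact mul_inv_eq_one.mp (hfaith _ h3)
  have pk := fun (x : G) (hx : x ∉ center G) => exists_matHom ρ hfaithρ hx
  have H1 : ∀ x : G, x ∉ center G → ∀ y ∈ centralizer ({x} : Set G), y ∉ center G →
      centralizer ({y} : Set G) = centralizer {x} := by
    intro x hx y hy hyZ
    obtain ⟨M, hinj, hZ, hreg, -⟩ := pk x hx
    exact centralizer_eq M hinj hZ hreg hy hyZ
  have H2 : ∀ x : G, x ∉ center G → ∃ c ∈ centralizer ({x} : Set G),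
      ∀ y ∈ centralizer ({x} : Set G), ∃ k : ℤ, y * (c ^ k)⁻¹ ∈ center G := by
    intro x hx
    obtain ⟨M, hinj, hZ, hreg, -⟩ := pk x hx
    exact exists_gen M hinj hZ hreg
  have H3 : ∀ x : G, x ∉ center G → ∀ g : G, g * x * g⁻¹ ∈ centralizer ({x} : Set G) →
      g ∉ centralizer ({x} : Set G) →
      g * g ∈ center G ∧ ∀ y ∈ centralizer ({x} : Set G), g * y * g⁻¹ * y ∈ center G := by
    intro x hx g hg hg'
    obtain ⟨M, hinj, hZ, hreg, -⟩ := pk x hx
    have ha := isAnti_of_norm M hinj hreg hg hg'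
    exact ⟨sq_mem_center M hZ ha, fun y hy =>
      conj_mul_mem_center M hZ ha ((mem_centralizer_iff_isDiag M hinj hreg y).mp hy)⟩
  have H4 : ∀ x : G, x ∉ center G → ∀ g g' : G, g * x * g⁻¹ ∈ centralizer ({x} : Set G) →
      g ∉ centralizer ({x} : Set G) → g' * x * g'⁻¹ ∈ centralizer ({x} : Set G) →
      g' ∉ centralizer ({x} : Set G) → g * g' ∈ centralizer ({x} : Set G) := by
    intro x hx g g' hg hg' hk hk'
    obtain ⟨M, hinj, hZ, hreg, -⟩ := pk x hx
    exact mul_mem_centralizer M hinj hreg (isAnti_of_norm M hinj hreg hg hg')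
      (isAnti_of_norm M hinj hreg hk hk')
  let D := tpOfCenter H1 H2 H3 H4
  have hidx : (center G).index = Nat.card (G ⧸ center G) := Subgroup.index_eq_card _
  rcases Cfsg.Agent.Lib.H5.TP.classify D with ⟨hcyc, -⟩ | ⟨q, hq, ⟨e⟩⟩ | ⟨⟨e⟩⟩ | ⟨⟨e⟩⟩ | ⟨⟨e⟩⟩
  · exfalso
    have hcomm : ∀ a b : G, a * b = b * a :=
      commutative_of_cyclic_center_quotient (QuotientGroup.mk' (center G))
        (by rw [QuotientGroup.ker_mk'])
    have hall : ∀ g : G, ∃ c : ℂ, ρ g = c • 1 := fun g =>
      Cfsg.Agent.Lib.H23.exists_smul_of_mem_center ρ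
        (Subgroup.mem_center_iff.mpr (fun h => hcomm h g))
    have := Cfsg.Agent.Lib.H23.finrank_eq_one_of_forall_smul ρ hall
    rw [Module.finrank_fin_fun] at this
    omega
  · exfalso
    obtain ⟨x, rfl⟩ := QuotientGroup.mk_surjective q
    have hx := mk_ne_one_iff.mp hq
    obtain ⟨M, hinj, hZ, hreg, htr⟩ := pk x hx
    have hT : D.T (x : G ⧸ center G) =
        (centralizer ({x} : Set G)).map (QuotientGroup.mk' (center G)) := Tq_mk x
    have hcard : Nat.card (G ⧸ center G) = 2 * Nat.card (D.T (x : G ⧸ center G)) := by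
      rw [Nat.card_congr e.toEquiv, DihedralGroup.nat_card]
    have hidx2 : (D.T (x : G ⧸ center G)).index = 2 := by
      have h := (D.T (x : G ⧸ center G)).card_mul_index
      rw [hcard] at h
      have hpos : 0 < Nat.card (D.T (x : G ⧸ center G)) := Nat.card_pos
      exact Nat.eq_of_mul_eq_mul_left hpos (h.trans (Nat.mul_comm 2 _))
    have hAidx : (centralizer ({x} : Set G)).index = 2 := by
      have hcomap : ((centralizer ({x} : Set G)).map (QuotientGroup.mk' (center G))).comap
          (QuotientGroup.mk' (center G)) = centralizer ({x} : Set G) := by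
        apply Subgroup.comap_map_eq_self
        rw [QuotientGroup.ker_mk']
        exact Subgroup.center_le_centralizer _
      rw [← hcomap, Subgroup.index_comap_of_surjective _ (QuotientGroup.mk'_surjective _), ← hT]
      exact hidx2
    haveI hnorm : (centralizer ({x} : Set G)).Normal := Subgroup.normal_of_index_eq_two hAidx
    have hxA : x ∈ centralizer ({x} : Set G) := self_mem_centralizer x
    obtain ⟨θ, hθ, heq⟩ := eq_indFun_of_index_two M hinj (centralizer ({x} : Set G))
      (fun g => mem_centralizer_iff_isDiag M hinj hreg g)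
      (fun g hg => isAnti_of_norm M hinj hreg (hnorm.conj_mem x hxA g) hg) hAidx
    refine hprim (centralizer ({x} : Set G)) ?_ θ hθ ?_
    · intro htop
      rw [htop, Subgroup.index_top] at hAidx
      omega
    · rw [← heq, ← hchar]
      funext g
      exact htr g
  · left
    rw [hidx, Nat.card_congr e.toEquiv, nat_card_alternatingGroup, Nat.card_eq_fintype_card,
      Fintype.card_fin]
    rfl
  · right; left
    rw [hidx, Nat.card_congr e.toEquiv, Nat.card_eq_fintype_card, Fintype.card_perm,
      Fintype.card_fin]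
    rfl
  · right; right
    rw [hidx, Nat.card_congr e.toEquiv, nat_card_alternatingGroup, Nat.card_eq_fintype_card,
      Fintype.card_fin]
    rfl

end Cfsg.Agent.S4473
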