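import Mathlib
import Cfsg.Statements.S4476
import Cfsg.Agent.Lib.H24.CharFSInd
import Cfsg.Agent.Lib.H24.CharFS
import Cfsg.Agent.Lib.H24.CharOrth
import Cfsg.Agent.Lib.H20.ConjClass

set_option autoImplicit false
open Cfsg

namespace Cfsg.Agent.S4476

open Cfsg.Agent.Lib.H24

variable {G : Type*} [Group G] [Fintype G]

/-- The number of solutions of `s * s = 1` is one more than the number of involutions. -/
theorem card_sq_eq_one (t : ℕ) (ht : Nat.card {x : G // orderOf x = 2} = t) :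
    Nat.card {s : G // s * s = 1} = 1 + t := by
  classical
  have h1 : {s : G | s * s = 1} = insert 1 {s : G | orderOf s = 2} := by
    ext s
    simp only [Set.mem_ofPred_eq, Set.mem_insert_iff]
    constructor
    · intro h
      by_cases h1 : s = 1
      · exact Or.inl h1
      · right
        haveI : Fact (Nat.Prime 2) := ⟨Nat.prime_two⟩
        exact orderOf_eq_prime (by rw [pow_two]; exact h) h1
    · rintro (rfl | h)
      · simp
      · rw [← pow_two, ← h]; exact pow_orderOf_eq_one s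
  have h2 : (1 : G) ∉ {s : G | orderOf s = 2} := by
    simp only [Set.mem_ofPred_eq, orderOf_one]; norm_num
  have h3 : Nat.card {s : G // s * s = 1} = ({s : G | s * s = 1} : Set G).ncard :=
    Nat.card_coe_set_eq _
  have h4 : Nat.card {x : G // orderOf x = 2} = ({s : G | orderOf s = 2} : Set G).ncard :=
    Nat.card_coe_set_eq _
  rw [h3, h1, Set.ncard_insert_of_notMem h2 (Set.toFinite _), ← h4, ht, add_comm]

/-- `χ` equals the trivial character. -/
theorem eq_trivialIrr_iff (χ : IrrCharacter G) :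
    χ = trivialIrr G ↔ (χ : G → ℂ) = (fun _ => 1) := by
  constructor
  · rintro rfl; rfl
  · intro h; exact Subtype.ext h

theorem charDegree_trivialIrr : charDegree (trivialIrr G : G → ℂ) = 1 := by
  have h := charDegree_irr (trivialIrr G)
  rw [trivialIrr_apply] at h
  exact_mod_cast h

/-- The real part of the indicator is at most one, and vanishes for non-real characters. -/
theorem fsInd_re_le (χ : IrrCharacter G) :
    (fsInd (χ : G → ℂ)).re ≤ 1 ∧ ((∃ s : G, ((χ : G → ℂ) s).im ≠ 0) → (fsInd (χ : G → ℂ)).re = 0) := by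
  rcases fsInd_irr_cases χ with ⟨h0, _⟩ | ⟨h1 | h1, hreal⟩
  · rw [h0]; simp
  · rw [h1]
    refine ⟨by simp, ?_⟩
    rintro ⟨s, hs⟩; exact absurd (hreal s) hs
  · rw [h1]
    refine ⟨by simp, ?_⟩
    rintro ⟨s, hs⟩; exact absurd (hreal s) hs


/-- Sum of squares of degrees, in `ℕ`. -/
theorem sum_charDegree_sq [Fintype (IrrCharacter G)] :
    ∑ χ : IrrCharacter G, charDegree (χ : G → ℂ) ^ 2 = Nat.card G := by
  have h := sum_irr_one_sq (G := G)
  have h2 : ∑ χ : IrrCharacter G, (χ : G → ℂ) 1 ^ 2 =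
      ((∑ χ : IrrCharacter G, charDegree (χ : G → ℂ) ^ 2 : ℕ) : ℂ) := by
    push_cast
    refine Finset.sum_congr rfl (fun χ _ => ?_)
    rw [charDegree_irr]
  rw [h2] at h
  exact_mod_cast h

/-- The key Frobenius–Schur inequality: the number of involutions is at most the sum of the degrees
of the non-principal real-valued irreducible characters. -/
theorem involutions_le [Fintype (IrrCharacter G)] [DecidableEq (IrrCharacter G)]
    (t : ℕ) (ht : Nat.card {x : G // orderOf x = 2} = t)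
    [DecidablePred (fun χ : IrrCharacter G => ∀ g : G, ((χ : G → ℂ) g).im = 0)] :
    t ≤ ∑ χ ∈ (Finset.univ.filter
      (fun χ : IrrCharacter G => ∀ g : G, ((χ : G → ℂ) g).im = 0)).erase (trivialIrr G),
      charDegree (χ : G → ℂ) := by
  have h1 := card_sqrt_eq_sum (G := G) 1
  rw [card_sq_eq_one t ht] at h1
  have h2 : ((1 + t : ℕ) : ℝ) =
      ∑ χ : IrrCharacter G, (fsInd (χ : G → ℂ)).re * (charDegree (χ : G → ℂ) : ℝ) := by
    have := congrArg Complex.re h1
    rw [Complex.re_sum] at this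
    rw [Complex.natCast_re] at this
    rw [this]
    refine Finset.sum_congr rfl (fun χ _ => ?_)
    rw [← charDegree_irr, Complex.mul_re, Complex.natCast_re, Complex.natCast_im, mul_zero,
      sub_zero]
  have h3 : ∀ χ : IrrCharacter G, (fsInd (χ : G → ℂ)).re * (charDegree (χ : G → ℂ) : ℝ) ≤
      if (∀ g : G, ((χ : G → ℂ) g).im = 0) then (charDegree (χ : G → ℂ) : ℝ) else 0 := by
    intro χ
    have hd : (0 : ℝ) ≤ (charDegree (χ : G → ℂ) : ℝ) := Nat.cast_nonneg _
    split_ifs with hr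
    · calc (fsInd (χ : G → ℂ)).re * (charDegree (χ : G → ℂ) : ℝ)
          ≤ 1 * (charDegree (χ : G → ℂ) : ℝ) :=
            mul_le_mul_of_nonneg_right (fsInd_re_le χ).1 hd
        _ = _ := one_mul _
    · push Not at hr
      rw [(fsInd_re_le χ).2 hr, zero_mul]
  have h4 : ((1 + t : ℕ) : ℝ) ≤ ∑ χ : IrrCharacter G,
      if (∀ g : G, ((χ : G → ℂ) g).im = 0) then (charDegree (χ : G → ℂ) : ℝ) else 0 := by
    rw [h2]; exact Finset.sum_le_sum (fun χ _ => h3 χ)
  rw [← Finset.sum_filter] at h4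
  have hmem : trivialIrr G ∈ Finset.univ.filter
      (fun χ : IrrCharacter G => ∀ g : G, ((χ : G → ℂ) g).im = 0) := by
    rw [Finset.mem_filter]
    refine ⟨Finset.mem_univ _, fun g => ?_⟩
    rw [trivialIrr_apply]; simp
  rw [← Finset.add_sum_erase _ _ hmem, charDegree_trivialIrr] at h4
  have h5 : ((1 + t : ℕ) : ℝ) ≤ ((1 + ∑ χ ∈ (Finset.univ.filter
      (fun χ : IrrCharacter G => ∀ g : G, ((χ : G → ℂ) g).im = 0)).erase (trivialIrr G),
      charDegree (χ : G → ℂ) : ℕ) : ℝ) := by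
    push_cast
    push_cast at h4
    exact h4
  have h6 := Nat.cast_le.1 h5
  omega


theorem result {G : Type*} [Group G] [Fintype G] (heven : Even (Nat.card G)) (t : ℕ) (ht : Nat.card {x : G // orderOf x = 2} = t) : (∃ x : G, x ≠ 1 ∧ ((Subgroup.centralizer ({x} : Set G)).index : ℚ) ≤ (((Nat.card G : ℚ) - 1) / t) ^ 2) ∧ ∃ χ : Cfsg.IrrCharacter G, (χ : G → ℂ) ≠ (fun _ => 1) ∧ (∀ g : G, ((χ : G → ℂ) g).im = 0) ∧ (Cfsg.charDegree (χ : G → ℂ) : ℚ) ≤ ((Nat.card G : ℚ) - 1) / t := by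
  classical
  have := Fintype.ofFinite (IrrCharacter G)
  have := Fintype.ofFinite (ConjClasses G)
  -- an involution exists
  obtain ⟨u, hu⟩ : ∃ u : G, orderOf u = 2 := by
    haveI : Fact (Nat.Prime 2) := ⟨Nat.prime_two⟩
    exact exists_prime_orderOf_dvd_card' 2 heven.two_dvd
  have hu1 : u ≠ 1 := by
    rintro rfl
    rw [orderOf_one] at hu; norm_num at hu
  have ht1 : 1 ≤ t := by
    rw [← ht]
    haveI : Nonempty {x : G // orderOf x = 2} := ⟨⟨u, hu⟩⟩
    exact Nat.card_pos
  have htQ : (0 : ℚ) < t := by exact_mod_cast ht1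
  set g : ℕ := Nat.card G with hg
  have hg2 : 2 ≤ g := by
    have h2 : (2 : ℕ) ∣ g := heven.two_dvd
    exact Nat.le_of_dvd Nat.card_pos h2
  have hgQ : (0 : ℚ) < (g : ℚ) - 1 := by
    have : (2 : ℚ) ≤ (g : ℚ) := by exact_mod_cast hg2
    linarith
  set α : ℚ := ((g : ℚ) - 1) / t with hα
  have hαpos : 0 < α := div_pos hgQ htQ
  have hαt : α * t = (g : ℚ) - 1 := by rw [hα]; field_simp
  -- the sets of characters
  set Rl : Finset (IrrCharacter G) := Finset.univ.filter
      (fun χ : IrrCharacter G => ∀ g : G, ((χ : G → ℂ) g).im = 0) with hRl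
  set R : Finset (IrrCharacter G) := Rl.erase (trivialIrr G) with hR
  set E : Finset (IrrCharacter G) := Finset.univ.erase (trivialIrr G) with hE
  have hRE : R ⊆ E := Finset.erase_subset_erase _ (Finset.filter_subset _ _)
  have hkey : t ≤ ∑ χ ∈ R, charDegree (χ : G → ℂ) := involutions_le t ht
  have hsq : ∑ χ ∈ E, charDegree (χ : G → ℂ) ^ 2 + 1 = g := by
    have h1 := sum_charDegree_sq (G := G)
    rw [← Finset.add_sum_erase _ _ (Finset.mem_univ (trivialIrr G)), charDegree_trivialIrr] at h1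
    rw [hg, ← h1]; ring
  have hsqQ : ∑ χ ∈ E, (charDegree (χ : G → ℂ) : ℚ) ^ 2 = (g : ℚ) - 1 := by
    have : ((∑ χ ∈ E, charDegree (χ : G → ℂ) ^ 2 + 1 : ℕ) : ℚ) = (g : ℚ) := by rw [hsq]
    push_cast at this
    linarith
  have hkeyQ : (t : ℚ) ≤ ∑ χ ∈ R, (charDegree (χ : G → ℂ) : ℚ) := by
    have : ((t : ℕ) : ℚ) ≤ ((∑ χ ∈ R, charDegree (χ : G → ℂ) : ℕ) : ℚ) := Nat.cast_le.2 hkey
    push_cast at this
    exact this
  have hdpos : ∀ χ : IrrCharacter G, (0 : ℚ) < (charDegree (χ : G → ℂ) : ℚ) := fun χ => by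
    exact_mod_cast charDegree_pos χ
  constructor
  · -- part (a)
    by_contra hcon
    push Not at hcon
    -- t ^ 2 ≤ (k - 1) (g - 1)
    have h1 : (t : ℚ) ≤ ∑ χ ∈ E, (charDegree (χ : G → ℂ) : ℚ) :=
      hkeyQ.trans (Finset.sum_le_sum_of_subset_of_nonneg hRE (fun χ _ _ => (hdpos χ).le))
    have h2 : (∑ χ ∈ E, (charDegree (χ : G → ℂ) : ℚ)) ^ 2 ≤
        (E.card : ℚ) * ∑ χ ∈ E, (charDegree (χ : G → ℂ) : ℚ) ^ 2 := sq_sum_le_card_mul_sum_sq
    have h3 : (t : ℚ) ^ 2 ≤ (E.card : ℚ) * ((g : ℚ) - 1) := by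
      rw [← hsqQ]
      exact (pow_le_pow_left₀ htQ.le h1 2).trans h2
    have hEcard : E.card = Fintype.card (ConjClasses G) - 1 := by
      rw [hE, Finset.card_erase_of_mem (Finset.mem_univ _), Finset.card_univ,
        ← Nat.card_eq_fintype_card, card_irr_eq_card_conjClasses, Nat.card_eq_fintype_card]
    -- the class equation
    set D : Finset (ConjClasses G) := Finset.univ.erase (ConjClasses.mk 1) with hD
    have hDcard : D.card = Fintype.card (ConjClasses G) - 1 := by
      rw [hD, Finset.card_erase_of_mem (Finset.mem_univ _), Finset.card_univ]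
    have hcls : ∑ C ∈ D, C.carrier.ncard + 1 = g := by
      have h := Group.sum_card_conj_classes_eq_card G
      rw [finsum_eq_sum_of_fintype,
        ← Finset.add_sum_erase _ _ (Finset.mem_univ (ConjClasses.mk (1 : G)))] at h
      have h1c : (ConjClasses.mk (1 : G)).carrier.ncard = 1 := by
        have : (ConjClasses.mk (1 : G)).carrier = {1} := by
          ext y
          rw [ConjClasses.mem_carrier_iff_mk_eq, ConjClasses.mk_eq_mk_iff_isConj,
            Set.mem_singleton_iff, isConj_one_left]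
        rw [this, Set.ncard_singleton]
      rw [h1c] at h
      rw [hg, ← h]; ring
    have hclsQ : ∑ C ∈ D, (C.carrier.ncard : ℚ) = (g : ℚ) - 1 := by
      have : ((∑ C ∈ D, C.carrier.ncard + 1 : ℕ) : ℚ) = (g : ℚ) := by rw [hcls]
      push_cast at this
      linarith
    have hDne : D.Nonempty := by
      refine ⟨ConjClasses.mk u, ?_⟩
      rw [hD, Finset.mem_erase]
      refine ⟨?_, Finset.mem_univ _⟩
      rw [Ne, ConjClasses.mk_eq_mk_iff_isConj, isConj_one_left]
      exact hu1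
    have hlt : ∑ C ∈ D, α ^ 2 < ∑ C ∈ D, (C.carrier.ncard : ℚ) := by
      apply Finset.sum_lt_sum_of_nonempty hDne
      intro C hC
      obtain ⟨x, rfl⟩ := ConjClasses.mk_surjective C
      have hx1 : x ≠ 1 := by
        rintro rfl
        rw [hD, Finset.mem_erase] at hC
        exact hC.1 rfl
      have := hcon x hx1
      rw [Cfsg.Agent.Lib.H20.index_centralizer_eq_ncard_carrier] at this
      exact this
    rw [Finset.sum_const, nsmul_eq_mul, hclsQ, hDcard, ← hEcard] at hlt
    -- combine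
    have h4 : (E.card : ℚ) * α ^ 2 * (t : ℚ) ^ 2 = (E.card : ℚ) * ((g : ℚ) - 1) ^ 2 := by
      rw [← hαt]; ring
    have h5 : (E.card : ℚ) * α ^ 2 * (t : ℚ) ^ 2 < ((g : ℚ) - 1) * (t : ℚ) ^ 2 :=
      mul_lt_mul_of_pos_right hlt (by positivity)
    have h6 : ((g : ℚ) - 1) * (t : ℚ) ^ 2 ≤ ((g : ℚ) - 1) * ((E.card : ℚ) * ((g : ℚ) - 1)) :=
      mul_le_mul_of_nonneg_left h3 hgQ.le
    have h7 : ((g : ℚ) - 1) * ((E.card : ℚ) * ((g : ℚ) - 1)) =
        (E.card : ℚ) * ((g : ℚ) - 1) ^ 2 := by ring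
    linarith
  · -- part (b)
    by_contra hcon
    push Not at hcon
    have hRne : R.Nonempty := by
      rw [Finset.nonempty_iff_ne_empty]
      intro h0
      rw [h0, Finset.sum_empty] at hkeyQ
      linarith
    have h1 : ∑ χ ∈ R, α * (charDegree (χ : G → ℂ) : ℚ) <
        ∑ χ ∈ R, (charDegree (χ : G → ℂ) : ℚ) ^ 2 := by
      apply Finset.sum_lt_sum_of_nonempty hRne
      intro χ hχ
      rw [hR, Finset.mem_erase, hRl, Finset.mem_filter] at hχ
      have hne : (χ : G → ℂ) ≠ (fun _ => 1) := fun h => hχ.1 ((eq_trivialIrr_iff χ).2 h)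
      have := hcon χ hne hχ.2.2
      rw [pow_two]
      exact mul_lt_mul_of_pos_right this (hdpos χ)
    rw [← Finset.mul_sum] at h1
    have h2 : ∑ χ ∈ R, (charDegree (χ : G → ℂ) : ℚ) ^ 2 ≤ (g : ℚ) - 1 := by
      rw [← hsqQ]
      exact Finset.sum_le_sum_of_subset_of_nonneg hRE (fun χ _ _ => by positivity)
    have h3 : α * (t : ℚ) ≤ α * ∑ χ ∈ R, (charDegree (χ : G → ℂ) : ℚ) :=
      mul_le_mul_of_nonneg_left hkeyQ hαpos.le
    rw [hαt] at h3
    linarith

end Cfsg.Agent.S4476
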