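import Cfsg.Statements.S4477
import Mathlib
import Cfsg.Agent.Lib.H24.CharFSInd
import Cfsg.Agent.Lib.H23.DegreeDvd
import Cfsg.Agent.Lib.L0.CharLinear
import Cfsg.Agent.Lib.H22.UniqueOrderP

set_option autoImplicit false
open Cfsg

namespace Cfsg.Agent.S4477

open scoped ComplexConjugate
open Cfsg.Agent.Lib.H24 Cfsg.Agent.Lib.L0

section linear

variable {G : Type*} [Group G]

/-- the sign character of a subgroup of index two, with values in `ℂˣ` -/
noncomputable def signC (M : Subgroup G) (hM : M.index = 2) : G →* ℂˣ := by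
  classical
  exact MonoidHom.mk' (fun s => if s ∈ M then 1 else -1) (by
    intro s t
    have key : s * t ∈ M ↔ (s ∈ M ↔ t ∈ M) := Subgroup.mul_mem_iff_of_index_two hM
    by_cases hs : s ∈ M <;> by_cases ht : t ∈ M <;> simp [hs, ht, key])

theorem signC_of_mem (M : Subgroup G) (hM : M.index = 2) {s : G} (hs : s ∈ M) :
    signC M hM s = 1 := by
  classical
  simp [signC, hs]

theorem signC_of_not_mem (M : Subgroup G) (hM : M.index = 2) {s : G} (hs : s ∉ M) :
    signC M hM s = -1 := by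
  classical
  simp [signC, hs]

theorem signC_sq (M : Subgroup G) (hM : M.index = 2) : signC M hM ^ 2 = 1 := by
  ext s
  by_cases hs : s ∈ M
  · simp [signC_of_mem M hM hs]
  · simp [signC_of_not_mem M hM hs]

theorem signC_ne_one (M : Subgroup G) (hM : M.index = 2) : signC M hM ≠ 1 := by
  intro h
  have hne : M ≠ ⊤ := by
    intro h2
    rw [h2, Subgroup.index_top] at hM
    omega
  obtain ⟨s, hs⟩ : ∃ s, s ∉ M := by
    by_contra hcon
    push Not at hcon
    exact hne (eq_top_iff.mpr (fun s _ => hcon s))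
  have h1 := signC_of_not_mem M hM hs
  rw [h] at h1
  have h2 := congrArg (fun u : ℂˣ => (u : ℂ)) h1
  simp at h2
  norm_num at h2

theorem signC_injective {M₁ M₂ : Subgroup G} (h₁ : M₁.index = 2) (h₂ : M₂.index = 2)
    (h : signC M₁ h₁ = signC M₂ h₂) : M₁ = M₂ := by
  ext s
  have hs := DFunLike.congr_fun h s
  have hneg : (-1 : ℂˣ) ≠ 1 := by
    intro h2
    have h3 := congrArg (fun u : ℂˣ => (u : ℂ)) h2
    simp at h3
    norm_num at h3
  by_cases hs1 : s ∈ M₁ <;> by_cases hs2 : s ∈ M₂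
  · exact iff_of_true hs1 hs2
  · rw [signC_of_mem M₁ h₁ hs1, signC_of_not_mem M₂ h₂ hs2] at hs
    exact absurd hs.symm hneg
  · rw [signC_of_not_mem M₁ h₁ hs1, signC_of_mem M₂ h₂ hs2] at hs
    exact absurd hs hneg
  · exact iff_of_false hs1 hs2

/-- in a noncyclic `2`-group the number of linear characters of order at most two is
divisible by four -/
theorem four_dvd_card_sq_eq_one [Finite G] (hG : IsPGroup 2 G) (hnc : ¬ IsCyclic G) :
    4 ∣ Nat.card {f : G →* ℂˣ // f ^ 2 = 1} := by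
  classical
  have : Fact (Nat.Prime 2) := ⟨Nat.prime_two⟩
  have hfin : Finite (G →* ℂˣ) := Finite.of_equiv _ (linearCharEquiv (G := G))
  obtain ⟨M₁, M₂, hne, h₁, h₂⟩ := Cfsg.Agent.Lib.H22.exists_two_index_p hG hnc
  obtain ⟨Ω, hΩ⟩ : ∃ Ω : Subgroup (G →* ℂˣ), ∀ f, f ∈ Ω ↔ f ^ 2 = 1 :=
    ⟨(powMonoidHom 2 : (G →* ℂˣ) →* (G →* ℂˣ)).ker, fun f => by
      rw [MonoidHom.mem_ker, powMonoidHom_apply]⟩
  have hcard : Nat.card {f : G →* ℂˣ // f ^ 2 = 1} = Nat.card Ω :=
    Nat.card_congr (Equiv.subtypeEquivRight (fun f => (hΩ f).symm))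
  rw [hcard]
  have hp : IsPGroup 2 Ω := by
    intro f
    refine ⟨1, ?_⟩
    apply Subtype.ext
    rw [pow_one, Subgroup.coe_pow, Subgroup.coe_one]
    exact (hΩ f.1).mp f.2
  obtain ⟨k, hk⟩ := (IsPGroup.iff_card).mp hp
  have h3 : 3 ≤ Nat.card Ω := by
    let φ : Fin 3 → Ω := ![⟨1, (hΩ 1).mpr (by ext g; simp)⟩, ⟨signC M₁ h₁, (hΩ _).mpr (signC_sq M₁ h₁)⟩,
      ⟨signC M₂ h₂, (hΩ _).mpr (signC_sq M₂ h₂)⟩]
    have hφ : Function.Injective φ := by
      intro i j hij
      have hij' := congrArg Subtype.val hij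
      fin_cases i <;> fin_cases j <;> simp [φ] at hij' ⊢
      · exact absurd hij'.symm (signC_ne_one M₁ h₁)
      · exact absurd hij'.symm (signC_ne_one M₂ h₂)
      · exact absurd hij' (signC_ne_one M₁ h₁)
      · exact absurd (signC_injective h₁ h₂ hij') hne
      · exact absurd hij' (signC_ne_one M₂ h₂)
      · exact absurd (signC_injective h₂ h₁ hij').symm hne
    have := Nat.card_le_card_of_injective φ hφ
    simpa using this
  rw [hk] at h3 ⊢
  have hk2 : 2 ≤ k := by
    by_contra hlt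
    push Not at hlt
    interval_cases k <;> omega
  exact pow_dvd_pow 2 hk2

/-- the Frobenius–Schur indicator of a linear character -/
theorem fsInd_hom [Fintype G] (f : G →* ℂˣ) [Decidable (f ^ 2 = 1)] :
    fsInd (fun g => (f g : ℂ)) = if f ^ 2 = 1 then 1 else 0 := by
  classical
  obtain ⟨F, hF⟩ : ∃ F : G →* ℂ, ∀ g, F g = ((f ^ 2) g : ℂ) :=
    ⟨(Units.coeHom ℂ).comp (f ^ 2), fun g => rfl⟩
  have hF1 : F = 1 ↔ f ^ 2 = 1 := by
    constructor
    · intro h
      ext g
      rw [← hF, h]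
      simp
    · intro h
      ext g
      rw [hF, h]
      simp
  have hsum := sum_hom_units F
  have hG : (Nat.card G : ℂ) ≠ 0 := by exact_mod_cast (Nat.card_pos (α := G)).ne'
  rw [fsInd_def]
  have h1 : ∑ s : G, ((f (s * s) : ℂˣ) : ℂ) = ∑ s : G, F s := by
    refine Finset.sum_congr rfl (fun s _ => ?_)
    rw [hF, MonoidHom.pow_apply, map_mul, pow_two]
  rw [h1, hsum]
  by_cases h : f ^ 2 = 1
  · rw [if_pos (hF1.mpr h), if_pos h, ← Nat.card_eq_fintype_card]
    exact inv_mul_cancel₀ hG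
  · rw [if_neg (fun h' => h (hF1.mp h')), if_neg h]
    simp

end linear

section main

variable {G : Type*} [Group G]

theorem card_sq_eq_one [Finite G] :
    Nat.card {s : G // s * s = 1} = Nat.card {x : G // orderOf x = 2} + 1 := by
  classical
  have := Fintype.ofFinite G
  rw [Nat.card_eq_fintype_card, Nat.card_eq_fintype_card, Fintype.card_subtype,
    Fintype.card_subtype]
  have h : (Finset.univ.filter (fun s : G => s * s = 1)) =
      insert 1 (Finset.univ.filter (fun x : G => orderOf x = 2)) := by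
    ext s
    simp only [Finset.mem_filter, Finset.mem_univ, true_and, Finset.mem_insert]
    constructor
    · intro h
      by_cases h1 : s = 1
      · exact Or.inl h1
      · right
        have : Fact (Nat.Prime 2) := ⟨Nat.prime_two⟩
        exact orderOf_eq_prime (by rw [pow_two]; exact h) h1
    · rintro (rfl | h)
      · simp
      · rw [← pow_two, ← h]; exact pow_orderOf_eq_one s
  rw [h, Finset.card_insert_of_notMem]
  simp

/-- the sum of the indicators of the linear characters -/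
theorem sum_fsInd_linear [Fintype G] [Fintype (IrrCharacter G)] :
    ∑ χ : IrrCharacter G, (if (χ : G → ℂ) 1 = 1 then fsInd (χ : G → ℂ) else 0) =
      (Nat.card {f : G →* ℂˣ // f ^ 2 = 1} : ℂ) := by
  classical
  have hfin : Finite (G →* ℂˣ) := Finite.of_equiv _ (linearCharEquiv (G := G))
  have := Fintype.ofFinite (G →* ℂˣ)
  rw [← Finset.sum_filter, Finset.sum_subtype (p := fun χ : IrrCharacter G => (χ : G → ℂ) 1 = 1)
    (Finset.univ.filter (fun χ : IrrCharacter G => (χ : G → ℂ) 1 = 1)) (by simp)]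
  rw [Fintype.sum_equiv linearCharEquiv
    (fun x : {χ : IrrCharacter G // (χ : G → ℂ) 1 = 1} => fsInd (x.1 : G → ℂ))
    (fun f : G →* ℂˣ => fsInd (fun g => (f g : ℂ))) (fun x => rfl)]
  simp only [fsInd_hom]
  rw [Finset.sum_boole, Nat.card_eq_fintype_card, Fintype.card_subtype]

end main

/-- Let G be a finite 2-group whose number of involutions is congruent to 1 modulo 4. Then G is cyclic or its commutator subgroup has index 4. -/
theorem result {G : Type*} [Group G] [Finite G] (hG : IsPGroup 2 G) (ht : Nat.card {x : G // orderOf x = 2} % 4 = 1) : IsCyclic G ∨ (commutator G).index = 4 := by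
  classical
  by_contra hcon
  push Not at hcon
  obtain ⟨hnc, h4⟩ := hcon
  have : Fact (Nat.Prime 2) := ⟨Nat.prime_two⟩
  have := Fintype.ofFinite G
  have := Fintype.ofFinite (IrrCharacter G)
  obtain ⟨m, hm⟩ := (IsPGroup.iff_card).mp hG
  -- degrees
  choose d hdpos hd1 hddvd using fun χ : IrrCharacter G =>
    Cfsg.Agent.Lib.H23.irr_apply_one_dvd_card χ.1 χ.2
  have hdcases : ∀ χ, d χ = 1 ∨ d χ = 2 ∨ 4 ∣ d χ := by
    intro χ
    have h1 := hddvd χ
    rw [hm] at h1
    obtain ⟨k, hk, hdk⟩ := (Nat.dvd_prime_pow Nat.prime_two).mp h1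
    rcases k with _ | _ | k
    · left; simpa using hdk
    · right; left; simpa using hdk
    · right; right; rw [hdk]; exact ⟨2 ^ k, by ring⟩
  -- indicators
  have hν : ∀ χ : IrrCharacter G, ∃ n : ℤ, fsInd (χ : G → ℂ) = (n : ℂ) ∧
      ((n = 0 ∧ ∃ s : G, ((χ : G → ℂ) s).im ≠ 0) ∨
        ((n = 1 ∨ n = -1) ∧ ∀ s : G, ((χ : G → ℂ) s).im = 0)) := by
    intro χ
    rcases fsInd_irr_cases χ with ⟨h0, hs⟩ | ⟨h1 | h1, hs⟩
    · exact ⟨0, by simpa using h0, Or.inl ⟨rfl, hs⟩⟩
    · exact ⟨1, by simpa using h1, Or.inr ⟨Or.inl rfl, hs⟩⟩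
    · exact ⟨-1, by simpa using h1, Or.inr ⟨Or.inr rfl, hs⟩⟩
  choose ν hνeq hνcases using hν
  -- the Frobenius–Schur count
  have hT : ((Nat.card {s : G // s * s = 1} : ℕ) : ℤ) = ∑ χ : IrrCharacter G, ν χ * (d χ : ℤ) := by
    have h := card_sqrt_eq_sum (G := G) 1
    have h2 : ∑ χ : IrrCharacter G, fsInd (χ : G → ℂ) * (χ : G → ℂ) 1 =
        ((∑ χ : IrrCharacter G, ν χ * (d χ : ℤ) : ℤ) : ℂ) := by
      push_cast
      refine Finset.sum_congr rfl (fun χ _ => ?_)
      rw [hνeq χ, hd1 χ]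
    rw [h2] at h
    exact_mod_cast h
  have hdec : ∀ χ, ∃ r : ℤ, ν χ * (d χ : ℤ) =
      (if d χ = 1 then ν χ else 0) + 2 * (if d χ = 2 then ν χ else 0) + 4 * r := by
    intro χ
    rcases hdcases χ with h | h | ⟨k, hk⟩
    · exact ⟨0, by rw [h]; simp⟩
    · exact ⟨0, by rw [h]; simp; ring⟩
    · refine ⟨ν χ * k, ?_⟩
      have hpos := hdpos χ
      have hne1 : d χ ≠ 1 := by omega
      have hne2 : d χ ≠ 2 := by omega
      rw [if_neg hne1, if_neg hne2, hk]; push_cast; ring
  choose r hr using hdec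
  obtain ⟨A, hA⟩ : ∃ A : ℤ, A = ∑ χ : IrrCharacter G, (if d χ = 1 then ν χ else 0) := ⟨_, rfl⟩
  obtain ⟨B, hB⟩ : ∃ B : ℤ, B = ∑ χ : IrrCharacter G, (if d χ = 2 then ν χ else 0) := ⟨_, rfl⟩
  have hT2 : ((Nat.card {s : G // s * s = 1} : ℕ) : ℤ) = A + 2 * B + 4 * ∑ χ, r χ := by
    rw [hT, Finset.sum_congr rfl (fun χ _ => hr χ), Finset.sum_add_distrib,
      Finset.sum_add_distrib, ← Finset.mul_sum, ← Finset.mul_sum, hA, hB]
  -- the linear characters
  have hAeq : A = (Nat.card {f : G →* ℂˣ // f ^ 2 = 1} : ℤ) := by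
    have h1 : (A : ℂ) = (Nat.card {f : G →* ℂˣ // f ^ 2 = 1} : ℂ) := by
      rw [← sum_fsInd_linear, hA]
      push_cast
      refine Finset.sum_congr rfl (fun χ _ => ?_)
      have h2 : d χ = 1 ↔ (χ : G → ℂ) 1 = 1 := by
        rw [hd1 χ]
        exact ⟨fun h => by rw [h]; simp, fun h => by exact_mod_cast h⟩
      by_cases h3 : d χ = 1
      · rw [if_pos h3, if_pos (h2.mp h3), hνeq χ]
      · rw [if_neg h3, if_neg (fun h => h3 (h2.mpr h))]
    exact_mod_cast h1
  have hΩ4 := four_dvd_card_sq_eq_one hG hnc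
  -- the characters of degree two
  have hconj_d : ∀ χ, d (irrConj χ) = d χ := by
    intro χ
    have h1 := hd1 (irrConj χ)
    rw [irrConj_apply, hd1 χ, Complex.conj_natCast] at h1
    exact_mod_cast h1.symm
  have hconj_ν : ∀ χ, ν (irrConj χ) = ν χ := by
    intro χ
    have h1 := hνeq (irrConj χ)
    have h2 : fsInd ((irrConj χ : IrrCharacter G) : G → ℂ) = conj (fsInd (χ : G → ℂ)) := by
      simp only [fsInd_def, map_mul, map_inv₀, Complex.conj_natCast, map_sum, irrConj_apply]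
    rw [h2, fsInd_conj, hνeq χ] at h1
    exact_mod_cast h1.symm
  have hBsum : (∑ χ : IrrCharacter G, (if d χ = 2 then ((1 + ν χ : ℤ) : ZMod 2) else 0)) = 0 := by
    refine Finset.sum_involution (fun χ _ => irrConj χ) ?_ ?_ (fun _ _ => Finset.mem_univ _)
      (fun χ _ => irrConj_irrConj χ)
    · intro χ _
      rw [hconj_d, hconj_ν]
      exact CharTwo.add_self_eq_zero _
    · intro χ _ hne hfix
      apply hne
      have hreal : ∀ s : G, ((χ : G → ℂ) s).im = 0 := by
        intro s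
        have h1 := congrArg (fun ψ : IrrCharacter G => (ψ : G → ℂ) s) hfix
        simp only [irrConj_apply] at h1
        exact Complex.conj_eq_iff_im.mp h1
      rcases hνcases χ with ⟨_, s, hs⟩ | ⟨h1 | h1, _⟩
      · exact absurd (hreal s) hs
      · rw [h1]
        split_ifs
        · push_cast; exact CharTwo.add_self_eq_zero 1
        · rfl
      · rw [h1]
        split_ifs
        · simp
        · rfl
  obtain ⟨n₂, hn₂⟩ : ∃ n₂ : ℤ, n₂ = ∑ χ : IrrCharacter G, (if d χ = 2 then 1 else 0) := ⟨_, rfl⟩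
  have hBpar : (2 : ℤ) ∣ n₂ + B := by
    have h1 : ((n₂ + B : ℤ) : ZMod 2) = 0 := by
      have h2 : ((n₂ + B : ℤ) : ZMod 2) =
          ∑ χ : IrrCharacter G, (if d χ = 2 then ((1 + ν χ : ℤ) : ZMod 2) else 0) := by
        rw [hn₂, hB, ← Finset.sum_add_distrib]
        push_cast
        refine Finset.sum_congr rfl (fun χ _ => ?_)
        split_ifs <;> simp
      rw [h2, hBsum]
    exact (ZMod.intCast_zmod_eq_zero_iff_dvd _ 2).mp h1
  -- the sum of squares of the degrees
  have hsq : ((Nat.card G : ℕ) : ℤ) = ∑ χ : IrrCharacter G, (d χ : ℤ) ^ 2 := by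
    have h := sum_irr_one_sq (G := G)
    have h2 : ∑ χ : IrrCharacter G, (χ : G → ℂ) 1 ^ 2 =
        ((∑ χ : IrrCharacter G, (d χ : ℤ) ^ 2 : ℤ) : ℂ) := by
      push_cast
      refine Finset.sum_congr rfl (fun χ _ => ?_)
      rw [hd1 χ]
    rw [h2] at h
    exact_mod_cast h.symm
  have hdec2 : ∀ χ, ∃ r' : ℤ, (d χ : ℤ) ^ 2 =
      (if d χ = 1 then 1 else 0) + 4 * (if d χ = 2 then 1 else 0) + 16 * r' := by
    intro χ
    rcases hdcases χ with h | h | ⟨k, hk⟩
    · exact ⟨0, by rw [h]; simp⟩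
    · exact ⟨0, by rw [h]; simp⟩
    · refine ⟨(k : ℤ) ^ 2, ?_⟩
      have hpos := hdpos χ
      have hne1 : d χ ≠ 1 := by omega
      have hne2 : d χ ≠ 2 := by omega
      rw [if_neg hne1, if_neg hne2, hk]; push_cast; ring
  choose r' hr' using hdec2
  obtain ⟨A', hA'⟩ : ∃ A' : ℤ, A' = ∑ χ : IrrCharacter G, (if d χ = 1 then 1 else 0) := ⟨_, rfl⟩
  have hsq2 : ((Nat.card G : ℕ) : ℤ) = A' + 4 * n₂ + 16 * ∑ χ, r' χ := by
    rw [hsq, Finset.sum_congr rfl (fun χ _ => hr' χ), Finset.sum_add_distrib,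
      Finset.sum_add_distrib, ← Finset.mul_sum, ← Finset.mul_sum, hA', hn₂]
  have hA'eq : A' = ((commutator G).index : ℤ) := by
    rw [hA', ← card_linear_irr (G := G), Nat.card_eq_fintype_card, Fintype.card_subtype,
      Finset.sum_boole]
    congr 2
    ext χ
    simp only [Finset.mem_filter, Finset.mem_univ, true_and]
    rw [hd1 χ]
    exact ⟨fun h => by rw [h]; simp, fun h => by exact_mod_cast h⟩
  -- arithmetic
  have hidx_dvd : (commutator G).index ∣ Nat.card G := Subgroup.index_dvd_card _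
  rw [hm] at hidx_dvd
  obtain ⟨j, hj, hidx⟩ := (Nat.dvd_prime_pow Nat.prime_two).mp hidx_dvd
  have hΩle : Nat.card {f : G →* ℂˣ // f ^ 2 = 1} ≤ (commutator G).index := by
    have hfin : Finite (G →* ℂˣ) := Finite.of_equiv _ (linearCharEquiv (G := G))
    rw [← card_linear_irr (G := G), Nat.card_congr (linearCharEquiv (G := G))]
    exact Finite.card_subtype_le _
  have hΩpos : 0 < Nat.card {f : G →* ℂˣ // f ^ 2 = 1} := by
    have hfin : Finite (G →* ℂˣ) := Finite.of_equiv _ (linearCharEquiv (G := G))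
    have : Nonempty {f : G →* ℂˣ // f ^ 2 = 1} := ⟨⟨1, by ext g; simp⟩⟩
    exact Nat.card_pos
  have hj3 : 3 ≤ j := by
    by_contra hlt
    push Not at hlt
    have h8 : (commutator G).index ≤ 4 := by
      rw [hidx]
      calc 2 ^ j ≤ 2 ^ 2 := Nat.pow_le_pow_right (by norm_num) (by omega)
        _ = 4 := by norm_num
    obtain ⟨c, hc⟩ := hΩ4
    have : (commutator G).index = 4 := by omega
    exact h4 this
  have h8idx : 8 ∣ (commutator G).index := by
    rw [hidx]
    exact (pow_dvd_pow 2 hj3 : 2 ^ 3 ∣ 2 ^ j)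
  have h8G : 8 ∣ Nat.card G := by
    rw [hm]
    exact h8idx.trans hidx_dvd
  have hTt := card_sq_eq_one (G := G)
  obtain ⟨c1, hc1⟩ := hΩ4
  obtain ⟨c2, hc2⟩ := h8idx
  obtain ⟨c3, hc3⟩ := h8G
  omega

end Cfsg.Agent.S4477
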