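import Cfsg.Statements.S4478
import Mathlib
import Cfsg.Agent.Lib.H24.CharFSInd
import Cfsg.Agent.Lib.H23.DegreeDvd
import Cfsg.Agent.Lib.H23.DefectZero
import Cfsg.Agent.Lib.H24.CharPermLemma

set_option autoImplicit false
open Cfsg

namespace Cfsg.Agent.S4478

open scoped ComplexConjugate
open Cfsg.Agent.Lib.H24 Cfsg.Agent.Lib.L0 Cfsg.Agent.Lib.H23 Module

section aux

variable {G : Type*} [Group G] [Fintype G]

/-- an irreducible character of `p`-defect zero vanishes on `p`-singular elements -/
theorem irr_eq_zero_of_defect_zero (χ : IrrCharacter G) (p : ℕ) (hp : p.Prime)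
    (hdeg : p ^ (Nat.card G).factorization p ∣ charDegree (χ : G → ℂ)) (g : G)
    (hg : p ∣ orderOf g) : (χ : G → ℂ) g = 0 := by
  obtain ⟨n, ρ, hρ, hχ⟩ := irr_exists_rep χ
  have : ρ.IsIrreducible := hρ
  rw [← hχ]
  refine char_eq_zero_of_defect_zero ρ p ((Nat.card G).factorization p) hp ?_ ?_ g hg
  · exact Nat.pow_succ_factorization_not_dvd (Nat.card_pos.ne') hp
  · have h1 : (χ : G → ℂ) 1 = (finrank ℂ (Fin n → ℂ) : ℂ) := by
      rw [← hχ]; exact Representation.char_one ρ
    rw [← charDegree_eq_of_apply_one h1]; exact hdeg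

/-- the sum of the values of a nontrivial irreducible character vanishes -/
theorem sum_irr_eq_zero (χ : IrrCharacter G) (hne : χ ≠ trivialIrr G) :
    ∑ g : G, (χ : G → ℂ) g = 0 := by
  have h := irr_orthonormal χ (trivialIrr G)
  rw [if_neg hne, classInner] at h
  have hG : (Nat.card G : ℂ) ≠ 0 := by exact_mod_cast (Nat.card_pos (α := G)).ne'
  have h2 : ∑ g : G, (χ : G → ℂ) g * conj ((trivialIrr G : G → ℂ) g) = 0 := by
    rcases mul_eq_zero.mp h with h3 | h3
    · exact absurd (inv_eq_zero.mp h3) hG
    · exact h3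
  simpa using h2

/-- squaring permutes the elements of odd order -/
theorem sum_odd_sq (f : G → ℂ) :
    ∑ s ∈ Finset.univ.filter (fun s : G => Odd (orderOf s)), f (s * s) =
      ∑ s ∈ Finset.univ.filter (fun s : G => Odd (orderOf s)), f s := by
  have hsq : ∀ s : G, Odd (orderOf s) → orderOf (s * s) = orderOf s := by
    intro s hs
    rw [← pow_two]
    exact Nat.Coprime.orderOf_pow (Nat.Coprime.symm (Nat.coprime_two_left.mpr hs))
  have hpow : ∀ s : G, Odd (orderOf s) → s ^ (2 * ((orderOf s + 1) / 2)) = s := by
    intro s hs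
    obtain ⟨k, hk⟩ := hs
    have : 2 * ((orderOf s + 1) / 2) = orderOf s + 1 := by omega
    rw [this, pow_succ, pow_orderOf_eq_one, one_mul]
  refine Finset.sum_nbij' (fun s => s * s) (fun u => u ^ ((orderOf u + 1) / 2)) ?_ ?_ ?_ ?_ ?_
  · intro s hs
    simp only [Finset.mem_filter, Finset.mem_univ, true_and] at hs ⊢
    rw [hsq s hs]; exact hs
  · intro u hu
    simp only [Finset.mem_filter, Finset.mem_univ, true_and] at hu ⊢
    exact Odd.of_dvd_nat hu (orderOf_pow_dvd _)
  · intro s hs
    simp only [Finset.mem_filter, Finset.mem_univ, true_and] at hs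
    rw [hsq s hs, ← pow_two, ← pow_mul]
    exact hpow s hs
  · intro u hu
    simp only [Finset.mem_filter, Finset.mem_univ, true_and] at hu
    rw [← pow_add, ← two_mul]
    exact hpow u hu
  · intro s _
    rfl

end aux

/-- Let G be a finite group of even order and χ an irreducible character of G whose degree x is divisible by the full power of 2 dividing the order of G and, for every odd prime p such that G has an element of order 2p, by the full power of p dividing the order of G. Then all involutions of G are conjugate, the centralizer of every involution has order exactly x with x coprime to its index, and the Frobenius–Schur indicator of χ equals 1. -/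
theorem result {G : Type*} [Group G] [Fintype G] (heven : Even (Nat.card G)) (χ : Cfsg.IrrCharacter G) (h2 : 2 ^ (Nat.card G).factorization 2 ∣ Cfsg.charDegree (χ : G → ℂ)) (hp : ∀ p : ℕ, p.Prime → p ≠ 2 → (∃ g : G, orderOf g = 2 * p) → p ^ (Nat.card G).factorization p ∣ Cfsg.charDegree (χ : G → ℂ)) : (∀ s t : G, orderOf s = 2 → orderOf t = 2 → IsConj s t) ∧ (∀ s : G, orderOf s = 2 → Nat.card (Subgroup.centralizer ({s} : Set G)) = Cfsg.charDegree (χ : G → ℂ) ∧ (Nat.card (Subgroup.centralizer ({s} : Set G))).Coprime (Subgroup.centralizer ({s} : Set G)).index) ∧ (Nat.card G : ℂ)⁻¹ * ∑ g : G, (χ : G → ℂ) (g * g) = 1 := by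
  classical
  have hf2 : Fact (Nat.Prime 2) := ⟨Nat.prime_two⟩
  obtain ⟨x, hx⟩ : ∃ x, x = charDegree (χ : G → ℂ) := ⟨_, rfl⟩
  rw [← hx] at h2 hp ⊢
  have hx1 : (χ : G → ℂ) 1 = (x : ℂ) := by rw [hx]; exact apply_one_eq_charDegree _ χ.2
  have hxpos : 0 < x := by rw [hx]; exact charDegree_pos _ χ.2
  have hGpos : 0 < Nat.card G := Nat.card_pos
  have h2G : 2 ∣ Nat.card G := even_iff_two_dvd.mp heven
  -- vanishing on elements of even order
  have hvan2 : ∀ g : G, 2 ∣ orderOf g → (χ : G → ℂ) g = 0 := fun g hg =>
    irr_eq_zero_of_defect_zero χ 2 Nat.prime_two (by rw [← hx]; exact h2) g hg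
  -- odd primes dividing the centralizer of an involution
  have hspecial : ∀ (t c : G) (p : ℕ), orderOf t = 2 → Commute t c → p.Prime → p ≠ 2 →
      orderOf c = p → p ^ (Nat.card G).factorization p ∣ x := by
    intro t c p ht hcomm hpp hp2 hc
    apply hp p hpp hp2
    refine ⟨t * c, ?_⟩
    rw [hcomm.orderOf_mul_eq_mul_orderOf_of_coprime, ht, hc]
    rw [ht, hc]
    exact (Nat.coprime_primes Nat.prime_two hpp).mpr (Ne.symm hp2)
  -- vanishing on the centralizer of an involution
  have hvanC : ∀ t c : G, orderOf t = 2 → Commute t c → c ≠ 1 → (χ : G → ℂ) c = 0 := by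
    intro t c ht hcomm hc1
    by_cases hev : 2 ∣ orderOf c
    · exact hvan2 c hev
    · have hm1 : orderOf c ≠ 1 := fun h => hc1 (orderOf_eq_one_iff.mp h)
      have hm0 : orderOf c ≠ 0 := (orderOf_pos c).ne'
      obtain ⟨p, hpp, hpd⟩ := Nat.exists_prime_and_dvd hm1
      have hp2 : p ≠ 2 := fun h => hev (h ▸ hpd)
      have hc' : orderOf (c ^ (orderOf c / p)) = p := by
        have hdvd : orderOf c / p ∣ orderOf c := Nat.div_dvd_of_dvd hpd
        have hne : orderOf c / p ≠ 0 := by
          intro h0
          have := Nat.div_mul_cancel hpd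
          rw [h0, zero_mul] at this
          exact hm0 this.symm
        rw [orderOf_pow_of_dvd hne hdvd, Nat.div_div_self hpd hm0]
      have hdeg := hspecial t (c ^ (orderOf c / p)) p ht (hcomm.pow_right _) hpp hp2 hc'
      exact irr_eq_zero_of_defect_zero χ p hpp (by rw [← hx]; exact hdeg) c hpd
  -- χ is not the trivial character
  have hne : χ ≠ trivialIrr G := by
    intro h
    have h1 : (x : ℂ) = 1 := by rw [← hx1, h]; rfl
    have h3 : x = 1 := by exact_mod_cast h1
    have h4 : 1 ≤ (Nat.card G).factorization 2 :=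
      (Nat.Prime.dvd_iff_one_le_factorization Nat.prime_two hGpos.ne').mp h2G
    have h5 : 2 ∣ x := (dvd_pow_self 2 (by omega)).trans h2
    omega
  -- pointwise description of χ(s²)
  have hpt : ∀ s : G, (χ : G → ℂ) (s * s) =
      (if Odd (orderOf s) then (χ : G → ℂ) (s * s) else 0) +
        (if orderOf s = 2 then (x : ℂ) else 0) := by
    intro s
    by_cases hodd : Odd (orderOf s)
    · have h2' : orderOf s ≠ 2 := by
        intro h; rw [h] at hodd; exact absurd hodd (by decide)
      rw [if_pos hodd, if_neg h2', add_zero]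
    · rw [if_neg hodd, zero_add]
      have hev : Even (orderOf s) := Nat.not_odd_iff_even.mp hodd
      by_cases h2' : orderOf s = 2
      · rw [if_pos h2']
        have : s * s = 1 := by rw [← pow_two, ← h2']; exact pow_orderOf_eq_one s
        rw [this, hx1]
      · rw [if_neg h2']
        obtain ⟨m, hm⟩ := hev
        have hm' : orderOf s = 2 * m := by omega
        have hpos := orderOf_pos s
        have hm2 : 2 ≤ m := by omega
        have hss : orderOf (s * s) = m := by
          rw [← pow_two, orderOf_pow_of_dvd (by norm_num) ⟨m, hm'⟩, hm']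
          omega
        by_cases hmev : 2 ∣ m
        · exact hvan2 _ (by rw [hss]; exact hmev)
        · have hm0 : m ≠ 0 := by omega
          have hmd : m ∣ orderOf s := ⟨2, by omega⟩
          have ht : orderOf (s ^ m) = 2 := by
            rw [orderOf_pow_of_dvd hm0 hmd, hm']
            exact Nat.mul_div_cancel 2 (by omega)
          have hcomm : Commute (s ^ m) (s * s) :=
            ((Commute.refl s).pow_left m).mul_right ((Commute.refl s).pow_left m)
          have hne1 : s * s ≠ 1 := by
            intro h
            have := orderOf_eq_one_iff.mpr h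
            omega
          exact hvanC _ _ ht hcomm hne1
  obtain ⟨I, hI⟩ : ∃ I, I = (Finset.univ.filter (fun s : G => orderOf s = 2)).card := ⟨_, rfl⟩
  have hsum : ∑ s : G, (χ : G → ℂ) (s * s) = (I : ℂ) * (x : ℂ) := by
    rw [Finset.sum_congr rfl (fun s _ => hpt s), Finset.sum_add_distrib, ← Finset.sum_filter,
      sum_odd_sq (fun s => (χ : G → ℂ) s), ← Finset.sum_filter, Finset.sum_const, hI,
      nsmul_eq_mul]
    have h0 : ∑ s ∈ Finset.univ.filter (fun s : G => Odd (orderOf s)), (χ : G → ℂ) s = 0 := by
      rw [← sum_irr_eq_zero χ hne, Finset.sum_filter]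
      refine Finset.sum_congr rfl (fun s _ => ?_)
      by_cases hodd : Odd (orderOf s)
      · rw [if_pos hodd]
      · rw [if_neg hodd]
        exact (hvan2 s (even_iff_two_dvd.mp (Nat.not_odd_iff_even.mp hodd))).symm
    rw [h0, zero_add]
  -- there is an involution
  obtain ⟨t₀, ht₀⟩ := exists_prime_orderOf_dvd_card' (G := G) 2 h2G
  have hIpos : 0 < I := by
    rw [hI, Finset.card_pos]
    exact ⟨t₀, by simp [ht₀]⟩
  -- the indicator is one
  have hGne : (Nat.card G : ℂ) ≠ 0 := by exact_mod_cast hGpos.ne'
  have hν : (Nat.card G : ℂ)⁻¹ * ∑ g : G, (χ : G → ℂ) (g * g) = 1 ∧ I * x = Nat.card G := by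
    have hcases := fsInd_irr_cases χ
    rw [fsInd_def, hsum] at hcases
    rw [hsum]
    have key : ∀ z : ℂ, (Nat.card G : ℂ)⁻¹ * ((I : ℂ) * (x : ℂ)) = z →
        (I : ℂ) * (x : ℂ) = z * (Nat.card G : ℂ) := by
      intro z hz
      rw [← hz]; field_simp
    rcases hcases with ⟨h0, _⟩ | ⟨h1 | h1, _⟩
    · exfalso
      have h3 := key 0 h0
      rw [zero_mul] at h3
      have h4 : I * x = 0 := by exact_mod_cast h3
      have := Nat.mul_pos hIpos hxpos
      omega
    · refine ⟨h1, ?_⟩
      have h3 := key 1 h1
      rw [one_mul] at h3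
      exact_mod_cast h3
    · exfalso
      have h3 := key (-1) h1
      have h4 : ((I * x + Nat.card G : ℕ) : ℂ) = 0 := by
        push_cast; rw [h3]; ring
      have h5 : I * x + Nat.card G = 0 := by exact_mod_cast h4
      omega
  obtain ⟨hν1, hIx⟩ := hν
  -- the order of the centralizer of an involution divides the degree
  have hcent : ∀ t : G, orderOf t = 2 →
      Nat.card (Subgroup.centralizer ({t} : Set G)) ∣ x := by
    intro t ht
    have := Fintype.ofFinite (Subgroup.centralizer ({t} : Set G))
    have hchar : IsCharacter (Subgroup.centralizer ({t} : Set G))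
        (fun c : Subgroup.centralizer ({t} : Set G) => (χ : G → ℂ) c) :=
      isCharacter_restrict _ (isCharacter_of_irr χ.2)
    obtain ⟨n, hn⟩ := classInner_char_irr_nat hchar
      (Cfsg.Agent.Lib.L0.isIrrCharacter_one (G := Subgroup.centralizer ({t} : Set G)))
    simp only [classInner, Pi.one_apply, map_one, mul_one] at hn
    have hs : ∑ c : Subgroup.centralizer ({t} : Set G), (χ : G → ℂ) c = (x : ℂ) := by
      rw [Finset.sum_eq_single (1 : Subgroup.centralizer ({t} : Set G))]
      · simp [hx1]
      · intro c _ hc1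
        have hcomm : Commute t (c : G) :=
          (Subgroup.mem_centralizer_iff.mp c.2 t (Set.mem_singleton t))
        have hc1' : (c : G) ≠ 1 := fun h => hc1 (Subtype.ext h)
        exact hvanC t c ht hcomm hc1'
      · intro h; exact absurd (Finset.mem_univ _) h
    rw [hs] at hn
    have hCne : (Nat.card (Subgroup.centralizer ({t} : Set G)) : ℂ) ≠ 0 := by
      exact_mod_cast (Nat.card_pos (α := Subgroup.centralizer ({t} : Set G))).ne'
    have h3 : (x : ℂ) = (n : ℂ) * (Nat.card (Subgroup.centralizer ({t} : Set G)) : ℂ) := by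
      rw [← hn]; field_simp
    have h4 : x = n * Nat.card (Subgroup.centralizer ({t} : Set G)) := by exact_mod_cast h3
    exact ⟨n, by rw [h4, mul_comm]⟩
  -- class sizes
  have hclass : ∀ t : G, orderOf t = 2 →
      Nat.card (Subgroup.centralizer ({t} : Set G)) = x ∧
        ∀ s : G, orderOf s = 2 → IsConj s t := by
    intro t ht
    have hmul := card_class_mul_card_centralizer t
    have hCpos : 0 < Nat.card (Subgroup.centralizer ({t} : Set G)) := Nat.card_pos
    have hCle : Nat.card (Subgroup.centralizer ({t} : Set G)) ≤ x :=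
      Nat.le_of_dvd hxpos (hcent t ht)
    -- the class of t consists of involutions
    have hord : ∀ h : {h : G // ConjClasses.mk h = ConjClasses.mk t}, orderOf (h : G) = 2 := by
      intro h
      have h1 : IsConj (h : G) t := ConjClasses.mk_eq_mk_iff_isConj.mp h.2
      obtain ⟨c, hc⟩ := isConj_iff.mp h1
      have h2 := (MulAut.conj c).orderOf_eq (h : G)
      rw [MulAut.conj_apply, hc] at h2
      rw [← h2, ht]
    let φ : {h : G // ConjClasses.mk h = ConjClasses.mk t} → {s : G // orderOf s = 2} :=
      fun h => ⟨h.1, hord h⟩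
    have hφ : Function.Injective φ := by
      intro a b hab
      apply Subtype.ext
      exact congrArg (fun z : {s : G // orderOf s = 2} => (z : G)) hab
    have hIcard : Nat.card {s : G // orderOf s = 2} = I := by
      rw [hI, Nat.card_eq_fintype_card, Fintype.card_subtype]
    have hle : Nat.card {h : G // ConjClasses.mk h = ConjClasses.mk t} ≤ I := by
      rw [← hIcard]
      exact Nat.card_le_card_of_injective φ hφ
    have hNpos : 0 < Nat.card {h : G // ConjClasses.mk h = ConjClasses.mk t} := by
      have : Nonempty {h : G // ConjClasses.mk h = ConjClasses.mk t} := ⟨⟨t, rfl⟩⟩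
      exact Nat.card_pos
    have hCeq : Nat.card (Subgroup.centralizer ({t} : Set G)) = x := by
      by_contra hlt
      have hlt' : Nat.card (Subgroup.centralizer ({t} : Set G)) < x := lt_of_le_of_ne hCle hlt
      have h1 : Nat.card {h : G // ConjClasses.mk h = ConjClasses.mk t} *
          Nat.card (Subgroup.centralizer ({t} : Set G)) <
          Nat.card {h : G // ConjClasses.mk h = ConjClasses.mk t} * x :=
        Nat.mul_lt_mul_of_pos_left hlt' hNpos
      have h2 : Nat.card {h : G // ConjClasses.mk h = ConjClasses.mk t} * x ≤ I * x :=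
        Nat.mul_le_mul_right x hle
      omega
    refine ⟨hCeq, ?_⟩
    have hNeq : Nat.card {h : G // ConjClasses.mk h = ConjClasses.mk t} = I := by
      rw [hCeq, ← hIx] at hmul
      exact Nat.eq_of_mul_eq_mul_right hxpos hmul
    have hbij : Function.Bijective φ :=
      hφ.bijective_of_nat_card_le (by rw [hIcard, hNeq])
    intro s hs
    obtain ⟨h, hh⟩ := hbij.2 ⟨s, hs⟩
    have h1 : (h : G) = s := congrArg (fun z : {s : G // orderOf s = 2} => (z : G)) hh
    rw [← h1]
    exact ConjClasses.mk_eq_mk_iff_isConj.mp h.2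
  refine ⟨fun s t hs ht => (hclass t ht).2 s hs, fun s hs => ⟨(hclass s hs).1, ?_⟩, hν1⟩
  -- coprimality
  have hCeq := (hclass s hs).1
  have hidx : (Subgroup.centralizer ({s} : Set G)).index * x = Nat.card G := by
    rw [← hCeq, mul_comm]; exact Subgroup.card_mul_index _
  rw [hCeq]
  apply Nat.coprime_of_dvd
  intro p hpp hpx hpi
  have hdeg : p ^ (Nat.card G).factorization p ∣ x := by
    by_cases hp2 : p = 2
    · rw [hp2]; exact h2
    · have : Fact p.Prime := ⟨hpp⟩
      have hpC : p ∣ Nat.card (Subgroup.centralizer ({s} : Set G)) := by rw [hCeq]; exact hpx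
      obtain ⟨c, hc⟩ := exists_prime_orderOf_dvd_card' (G := Subgroup.centralizer ({s} : Set G))
        p hpC
      have hc' : orderOf (c : G) = p := by rw [Subgroup.orderOf_coe]; exact hc
      have hcomm : Commute s (c : G) :=
        (Subgroup.mem_centralizer_iff.mp c.2 s (Set.mem_singleton s))
      exact hspecial s c p hs hcomm hpp hp2 hc'
  have hbad : p ^ ((Nat.card G).factorization p + 1) ∣ Nat.card G := by
    have h3 : p ^ ((Nat.card G).factorization p + 1) ∣
        (Subgroup.centralizer ({s} : Set G)).index * x := by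
      rw [pow_succ, mul_comm]
      exact mul_dvd_mul hpi hdeg
    rw [hidx] at h3
    exact h3
  exact Nat.pow_succ_factorization_not_dvd hGpos.ne' hpp hbad

end Cfsg.Agent.S4478
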