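import Cfsg.Statements.S4480
import Mathlib
import Cfsg.Agent.S4479
import Cfsg.Agent.Lib.H22.FSParity
import Cfsg.Agent.Lib.H23.CentralChar

set_option autoImplicit false
open Cfsg

namespace Cfsg.Agent.S4480

open Cfsg.Agent.Lib.H22.KleinGroup Cfsg.Agent.Lib.H22.KleinOrder Cfsg.Agent.Lib.H22.FSParity
  Cfsg.Agent.Lib.H23 Cfsg.Agent.Lib.H24
open scoped ComplexConjugate

theorem dvd_of_isIntegral_div {a : ℤ} {d : ℕ} (hd : d ≠ 0)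
    (h : IsIntegral ℤ ((a : ℂ) / (d : ℂ))) : (d : ℤ) ∣ a := by
  have hd0 : (d : ℚ) ≠ 0 := Nat.cast_ne_zero.2 hd
  have h2 : IsIntegral ℤ ((a : ℚ) / (d : ℚ)) := by
    rw [← isIntegral_algebraMap_iff (algebraMap ℚ ℂ).injective]
    simpa using h
  obtain ⟨y, hy⟩ := IsIntegrallyClosed.isIntegral_iff.mp h2
  have h3 : (a : ℚ) = (d : ℚ) * y := by
    rw [eq_div_iff hd0] at hy
    simp only [algebraMap_int_eq, eq_intCast] at hy
    linarith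
  have h4 : a = (d : ℤ) * y := by exact_mod_cast h3
  exact ⟨y, h4⟩

theorem charDegree_dvd_index {G : Type*} [Group G] [Finite G] (χ : IrrCharacter G) (J : G)
    {ε : ℤ} (hε : ε = 1 ∨ ε = -1) (hv : (χ : G → ℂ) J = ε) :
    Cfsg.charDegree (χ : G → ℂ) ∣ (Subgroup.centralizer ({J} : Set G)).index := by
  classical
  haveI := Fintype.ofFinite G
  have hx := apply_one_eq_charDegree (χ : G → ℂ) χ.2
  have hx' : Cfsg.charDegree (χ : G → ℂ) ≠ 0 := by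
    intro h
    apply irr_one_ne_zero χ
    rw [hx, h, Nat.cast_zero]
  have hint := isIntegral_centralChar (χ : G → ℂ) χ.2 J
  unfold Cfsg.centralChar at hint
  rw [hv, hx] at hint
  have hd : ((Cfsg.charDegree (χ : G → ℂ) : ℕ) : ℤ) ∣
      (((Subgroup.centralizer ({J} : Set G)).index : ℕ) : ℤ) * ε :=
    dvd_of_isIntegral_div hx' (by push_cast; exact hint)
  rcases hε with rfl | rfl
  · rw [mul_one] at hd
    exact_mod_cast hd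
  · rw [mul_neg, mul_one, dvd_neg] at hd
    exact_mod_cast hd

theorem key_arith (g cJ cP x₁ x₂ q : ℕ) (ε₁ ε₂ ε₃ : ℤ) (h1 : ε₁ = 1) (h2 : ε₂ = 1)
    (h3 : ε₃ = -1) (h12 : x₁ = x₂) (hx : x₁ ≠ 0) (hcP : cP ≠ 0) (hq : q = 2 * x₁ + 1)
    (h : (g : ℚ) = 8 * (((x₁ : ℚ) * x₂ * q) /
      (((x₁ : ℚ) + ε₁) * ((x₂ : ℚ) + ε₂) * ((q : ℚ) + ε₃))) * (cJ : ℚ) ^ 3 / (cP : ℚ) ^ 2) :
    g * (x₁ + 1) ^ 2 * cP ^ 2 = 4 * x₁ * q * cJ ^ 3 := by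
  subst h1 h2 h3 h12
  have hxQ : (x₁ : ℚ) ≠ 0 := Nat.cast_ne_zero.2 hx
  have hcPQ : (cP : ℚ) ≠ 0 := Nat.cast_ne_zero.2 hcP
  have hx1Q : (x₁ : ℚ) + 1 ≠ 0 := by positivity
  have hqQ : (q : ℚ) = 2 * x₁ + 1 := by rw [hq]; push_cast; ring
  have e : ((x₁ : ℚ) + ((1 : ℤ) : ℚ)) * ((x₁ : ℚ) + ((1 : ℤ) : ℚ)) * ((q : ℚ) + ((-1 : ℤ) : ℚ)) =
      2 * x₁ * ((x₁ : ℚ) + 1) ^ 2 := by
    rw [hqQ]; push_cast; ring
  rw [e] at h
  have hQ : (g : ℚ) * ((x₁ : ℚ) + 1) ^ 2 * (cP : ℚ) ^ 2 = 4 * x₁ * q * (cJ : ℚ) ^ 3 := by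
    rw [h]
    field_simp
    ring
  exact_mod_cast hQ

theorem endgame (g cJ cP x q idx : ℕ) (hx : x ≠ 0) (hq : q = 2 * x + 1) (hcJ : cJ ≠ 0)
    (hcP : cP ≠ 0) (hidx : cJ * idx = g) (hxd : x ∣ idx) (hqd : q ∣ idx)
    (hkey : g * (x + 1) ^ 2 * cP ^ 2 = 4 * x * q * cJ ^ 3) :
    ∃ m : ℕ, 4 * cJ = m * cP * (q + 1) ∧ 8 * g = m ^ 3 * cP * (q ^ 3 - q) := by
  have hcop : Nat.Coprime x q := by
    rw [hq]
    have h1 : Nat.gcd x (2 * x + 1) ∣ 2 * x := (Nat.gcd_dvd_left _ _).mul_left 2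
    have h2 : Nat.gcd x (2 * x + 1) ∣ 2 * x + 1 := Nat.gcd_dvd_right _ _
    exact Nat.dvd_one.1 ((Nat.dvd_add_right h1).1 h2)
  obtain ⟨n, hn⟩ := Nat.Coprime.mul_dvd_of_dvd_of_dvd hcop hxd hqd
  have hq0 : q ≠ 0 := by rw [hq]; omega
  have hpos : 0 < x * q * cJ := Nat.pos_of_ne_zero (mul_ne_zero (mul_ne_zero hx hq0) hcJ)
  have h1 : n * (x + 1) ^ 2 * cP ^ 2 = 4 * cJ ^ 2 := by
    apply Nat.eq_of_mul_eq_mul_left hpos
    calc x * q * cJ * (n * (x + 1) ^ 2 * cP ^ 2)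
        = cJ * (x * q * n) * (x + 1) ^ 2 * cP ^ 2 := by ring
      _ = g * (x + 1) ^ 2 * cP ^ 2 := by rw [← hn, hidx]
      _ = 4 * x * q * cJ ^ 3 := hkey
      _ = x * q * cJ * (4 * cJ ^ 2) := by ring
  have h2 : n * ((q + 1) * cP) ^ 2 = (4 * cJ) ^ 2 := by
    calc n * ((q + 1) * cP) ^ 2 = 4 * (n * (x + 1) ^ 2 * cP ^ 2) := by rw [hq]; ring
      _ = 4 * (4 * cJ ^ 2) := by rw [h1]
      _ = (4 * cJ) ^ 2 := by ring
  have h3 : ((q + 1) * cP) ^ 2 ∣ (4 * cJ) ^ 2 := ⟨n, by rw [← h2]; ring⟩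
  obtain ⟨m, hm⟩ := (Nat.pow_dvd_pow_iff two_ne_zero).1 h3
  have hpos2 : 0 < ((q + 1) * cP) ^ 2 := by
    have : 0 < cP := Nat.pos_of_ne_zero hcP
    positivity
  have hnm : n = m ^ 2 := by
    apply Nat.eq_of_mul_eq_mul_left hpos2
    calc ((q + 1) * cP) ^ 2 * n = n * ((q + 1) * cP) ^ 2 := by ring
      _ = (4 * cJ) ^ 2 := h2
      _ = ((q + 1) * cP) ^ 2 * m ^ 2 := by rw [hm]; ring
  refine ⟨m, ?_, ?_⟩
  · rw [hm]; ring
  · have hsub : q ^ 3 - q = q * (2 * x) * (q + 1) := by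
      have h4 : q ^ 3 = q * (2 * x) * (q + 1) + q := by rw [hq]; ring
      rw [h4]
      exact Nat.add_sub_cancel _ _
    rw [hsub, ← hidx, hn, hnm]
    calc 8 * (cJ * (x * q * m ^ 2)) = 2 * x * q * m ^ 2 * (4 * cJ) := by ring
      _ = 2 * x * q * m ^ 2 * ((q + 1) * cP * m) := by rw [hm]
      _ = m ^ 3 * cP * (q * (2 * x) * (q + 1)) := by ring

/-- Same setting as the Klein-four order formula: G of order 4·g₀ (g₀ odd) with no normal 2-complement, P a Sylow 2-subgroup, J an involution of P, M over 2, principal 2-block {1, χ₁, χ₂, χ₃} with χ_i(J) = ε_i = ±1. Suppose ε₁ε₂ε₃ = −1 and ε₃ = −1, and put q = x₃ = χ₃(1). Then there is a natural number m with 4·c(J) = m·c(P)·(q + 1), and the order of G equals (m³·c(P)/4)·(q³ − q)/2, that is 8·#G = m³·c(P)·(q³ − q). -/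
theorem result {G : Type*} [Group G] [Finite G] (M : Ideal Cfsg.AlgInt) (hM : Cfsg.IsPModular 2 M) (g₀ : ℕ) (hg₀ : Odd g₀) (hG : Nat.card G = 4 * g₀) (hnc : ¬ ∃ N : Subgroup G, N.Normal ∧ Nat.card N = g₀) (P : Sylow 2 G) (J : G) (hJ : J ∈ (P : Subgroup G)) (hJ2 : orderOf J = 2) (χ₁ χ₂ χ₃ : Cfsg.IrrCharacter G) (ε₁ ε₂ ε₃ : ℤ) (hB : Cfsg.principalBlock M G = {χ : Cfsg.IrrCharacter G | (χ : G → ℂ) = (fun _ => 1) ∨ χ = χ₁ ∨ χ = χ₂ ∨ χ = χ₃}) (hdist : (χ₁ : G → ℂ) ≠ (fun _ => 1) ∧ (χ₂ : G → ℂ) ≠ (fun _ => 1) ∧ (χ₃ : G → ℂ) ≠ (fun _ => 1) ∧ χ₁ ≠ χ₂ ∧ χ₁ ≠ χ₃ ∧ χ₂ ≠ χ₃) (hε : (ε₁ = 1 ∨ ε₁ = -1) ∧ (ε₂ = 1 ∨ ε₂ = -1) ∧ (ε₃ = 1 ∨ ε₃ = -1)) (hval : (χ₁ : G → ℂ) J = ε₁ ∧ (χ₂ : G → ℂ) J = ε₂ ∧ (χ₃ : G → ℂ) J = ε₃) (hprod : ε₁ * ε₂ * ε₃ = -1) (hε₃ : ε₃ = -1) : ∃ m : ℕ, 4 * Nat.card (Subgroup.centralizer ({J} : Set G)) = m * Nat.card (Subgroup.centralizer ((P :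 Subgroup G) : Set G)) * (Cfsg.charDegree (χ₃ : G → ℂ) + 1) ∧ 8 * Nat.card G = m ^ 3 * Nat.card (Subgroup.centralizer ((P : Subgroup G) : Set G)) * (Cfsg.charDegree (χ₃ : G → ℂ) ^ 3 - Cfsg.charDegree (χ₃ : G → ℂ)) := by
  classical
  haveI := Fintype.ofFinite G
  haveI : Fintype (IrrCharacter G) := Fintype.ofFinite _
  haveI : Fintype ↥(Subgroup.centralizer ({J} : Set G)) := Fintype.ofFinite _
  haveI : Fact (Nat.Prime 2) := ⟨Nat.prime_two⟩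
  have hformula := Cfsg.Agent.S4479.result M hM g₀ hg₀ hG hnc P J hJ hJ2 χ₁ χ₂ χ₃ ε₁ ε₂ ε₃ hB
    hdist hε hval
  obtain ⟨K, hdata, hKcard⟩ := exists_kdata hg₀ hG hnc P hJ hJ2
  haveI := hdata.normal
  obtain ⟨hv1, hv2, hv3⟩ := hval
  have hJJ : J * J = 1 := by rw [← pow_two, ← hJ2, pow_orderOf_eq_one]
  have hx1 := Cfsg.Agent.Lib.H23.apply_one_eq_charDegree (χ₁ : G → ℂ) χ₁.2
  have hx2 := Cfsg.Agent.Lib.H23.apply_one_eq_charDegree (χ₂ : G → ℂ) χ₂.2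
  have hx3 := Cfsg.Agent.Lib.H23.apply_one_eq_charDegree (χ₃ : G → ℂ) χ₃.2
  have hd1 := charDegree_dvd_index χ₁ J hε.1 hv1
  have hd3 := charDegree_dvd_index χ₃ J hε.2.2 hv3
  obtain ⟨x₁, hx₁def⟩ : ∃ x : ℕ, x = Cfsg.charDegree (χ₁ : G → ℂ) := ⟨_, rfl⟩
  obtain ⟨x₂, hx₂def⟩ : ∃ x : ℕ, x = Cfsg.charDegree (χ₂ : G → ℂ) := ⟨_, rfl⟩
  obtain ⟨x₃, hx₃def⟩ : ∃ x : ℕ, x = Cfsg.charDegree (χ₃ : G → ℂ) := ⟨_, rfl⟩
  rw [← hx₁def] at hx1 hd1 hformula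
  rw [← hx₂def] at hx2 hformula
  rw [← hx₃def] at hx3 hd3 hformula ⊢
  have hx1' : x₁ ≠ 0 := by
    intro h
    apply irr_one_ne_zero χ₁
    rw [hx1, h, Nat.cast_zero]
  have hx2' : x₂ ≠ 0 := by
    intro h
    apply irr_one_ne_zero χ₂
    rw [hx2, h, Nat.cast_zero]
  -- orthogonality of the columns `1` and `J`
  have horth := weak_block_orthogonality hM (trivialIrr G) (1 : G) J (by simp)
    (by rw [hJ2])
  change ∑ χ : IrrCharacter G, (if χ ∈ principalBlock M G then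
    (χ : G → ℂ) 1 * conj ((χ : G → ℂ) J) else 0) = 0 at horth
  rw [sum_block_four hB hdist] at horth
  simp only [trivialIrr_apply, hv1, hv2, hv3, hx1, hx2, hx3, map_intCast, map_one] at horth
  have horthZ : (1 : ℤ) + (x₁ : ℤ) * ε₁ + (x₂ : ℤ) * ε₂ + (x₃ : ℤ) * ε₃ = 0 := by
    have h1 : ((1 : ℂ) * 1) = 1 := by norm_num
    rw [h1] at horth
    exact_mod_cast horth
  -- the signs
  have he12 : ε₁ = 1 ∧ ε₂ = 1 := by
    have hp1 : (0 : ℤ) < x₁ := by exact_mod_cast Nat.pos_of_ne_zero hx1'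
    have hp2 : (0 : ℤ) < x₂ := by exact_mod_cast Nat.pos_of_ne_zero hx2'
    have hp3 : (0 : ℤ) ≤ x₃ := Int.natCast_nonneg _
    rcases hε.1 with h1 | h1 <;> rcases hε.2.1 with h2 | h2
    · exact ⟨h1, h2⟩
    · exfalso; rw [h1, h2, hε₃] at hprod; norm_num at hprod
    · exfalso; rw [h1, h2, hε₃] at hprod; norm_num at hprod
    · exfalso; rw [h1, h2, hε₃] at horthZ; linarith
  obtain ⟨he1, he2⟩ := he12
  have hq : x₃ = x₁ + x₂ + 1 := by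
    rw [he1, he2, hε₃] at horthZ
    have : (x₃ : ℤ) = x₁ + x₂ + 1 := by linarith
    exact_mod_cast this
  -- Frobenius–Schur count
  have hfs := fs_block_sum hM hJ2 K hdata.odd hKcard (fun k hk y => hdata.no_sqrt P rfl hk y)
  rw [sum_block_four hB hdist] at hfs
  simp only [fsInd_trivialIrr, trivialIrr_apply, hv1, hv2, hv3] at hfs
  rw [he1, he2, hε₃] at hfs
  have hfs' : 1 + fsInd (χ₁ : G → ℂ) + fsInd (χ₂ : G → ℂ) - fsInd (χ₃ : G → ℂ) = 0 := by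
    have h := hfs
    push_cast at h
    linear_combination h
  have hN : ∀ (χ : IrrCharacter G) (ε : ℤ), (ε = 1 ∨ ε = -1) → (χ : G → ℂ) J = ε →
      (fsInd (χ : G → ℂ) = 0 ∧ ∃ s : G, ((χ : G → ℂ) s).im ≠ 0) ∨ fsInd (χ : G → ℂ) = 1 := by
    intro χ ε hε' hv
    have hne := fsInd_ne_neg_one_of_odd_value χ hJJ hε' hv
    rcases fsInd_irr_cases χ with h | ⟨h | h, _⟩
    · exact Or.inl h
    · exact Or.inr h
    · exact absurd h hne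
  have hnr1 : ∃ s : G, ((χ₁ : G → ℂ) s).im ≠ 0 := by
    rcases hN χ₁ ε₁ hε.1 hv1 with ⟨_, h⟩ | h1
    · exact h
    · exfalso
      rcases hN χ₂ ε₂ hε.2.1 hv2 with ⟨h2, _⟩ | h2 <;>
        rcases hN χ₃ ε₃ hε.2.2 hv3 with ⟨h3, _⟩ | h3 <;>
        · rw [h1, h2, h3] at hfs'
          norm_num at hfs'
  -- the conjugate of `χ₁` is `χ₂`
  have hc := irrConj_mem_principalBlock hM (χ := χ₁) (by rw [hB]; exact Or.inr (Or.inl rfl))
  rw [hB] at hc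
  have hc2 : irrConj χ₁ = χ₂ := by
    rcases hc with hc | hc | hc | hc
    · exfalso
      apply hdist.1
      funext s
      have h := congrFun hc s
      rw [irrConj_apply] at h
      have h2 := congrArg conj h
      rw [Complex.conj_conj, map_one] at h2
      exact h2
    · exfalso
      obtain ⟨s, hs⟩ := hnr1
      apply hs
      have h := congrArg (fun ψ : IrrCharacter G => (ψ : G → ℂ) s) hc
      simp only [irrConj_apply] at h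
      exact Complex.conj_eq_iff_im.1 h
    · exact hc
    · exfalso
      have h := congrArg (fun ψ : IrrCharacter G => (ψ : G → ℂ) J) hc
      simp only [irrConj_apply, hv1, hv3, he1, hε₃] at h
      norm_num at h
  have h12 : x₁ = x₂ := by
    have h := congrArg (fun ψ : IrrCharacter G => (ψ : G → ℂ) 1) hc2
    simp only [irrConj_apply, hx1, hx2, Complex.conj_natCast] at h
    exact_mod_cast h
  have hq' : x₃ = 2 * x₁ + 1 := by rw [hq, ← h12]; ring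
  have hcJ : Nat.card ↥(Subgroup.centralizer ({J} : Set G)) ≠ 0 := Nat.card_pos.ne'
  have hcP : Nat.card ↥(Subgroup.centralizer (((P : Subgroup G)) : Set G)) ≠ 0 := Nat.card_pos.ne'
  have hkey := key_arith _ _ _ x₁ x₂ x₃ ε₁ ε₂ ε₃ he1 he2 hε₃ h12 hx1' hcP hq' hformula
  exact endgame (Nat.card G) _ _ x₁ x₃ _ hx1' hq' hcJ hcP
    (Subgroup.card_mul_index (Subgroup.centralizer ({J} : Set G))) hd1 hd3 hkey

end Cfsg.Agent.S4480
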