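import Cfsg.Statements.S4481
import Cfsg.Agent.Lib.H22.DihBlockF

set_option autoImplicit false
open Cfsg

namespace Cfsg.Agent.S4481

open Cfsg.Agent.Lib.H23 Cfsg.Agent.Lib.H22.Dih Cfsg.Agent.Lib.H22.DihZMod
  Cfsg.Agent.Lib.H22.DihFourier Cfsg.Agent.Lib.H22.DihBlock Cfsg.Agent.Lib.H22.DihLattice
  Cfsg.Agent.Lib.H22.DihMain

theorem mid_cases {m : ℕ} [NeZero m] (hm : Even m) (hm4 : 4 ≤ m) (i : ZMod m) (hi : IsMid i) :
    ∃ k' : ℕ, 2 ≤ k' ∧ k' < m / 2 ∧ (i = (k' : ZMod m) ∨ i = -(k' : ZMod m)) := by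
  obtain ⟨c, hc⟩ := hm
  obtain ⟨h0, hh, h1, hn1⟩ := hi
  have hv := ZMod.val_lt i
  have hiv : ((i.val : ℕ) : ZMod m) = i := ZMod.natCast_zmod_val i
  have hv0 : i.val ≠ 0 := by
    intro h
    apply h0
    rw [← hiv, h, Nat.cast_zero]
  have hvh : i.val ≠ m / 2 := by
    intro h
    apply hh
    rw [← hiv, h]
    rfl
  have hv1 : i.val ≠ 1 := by
    intro h
    apply h1
    rw [← hiv, h, Nat.cast_one]
  have hvn1 : i.val ≠ m - 1 := by
    intro h
    apply hn1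
    rw [← hiv, h, neg_one_eq (by omega)]
  by_cases hlt : i.val < m / 2
  · exact ⟨i.val, by omega, hlt, Or.inl hiv.symm⟩
  · refine ⟨m - i.val, by omega, by omega, Or.inr ?_⟩
    rw [neg_natCast (by omega)]
    have : m - (m - i.val) = i.val := by omega
    rw [this, hiv]

theorem isMid_natCast {m : ℕ} [NeZero m] (hm : Even m) (hm4 : 4 ≤ m) (k' : ℕ) (h2 : 2 ≤ k')
    (hk : k' < m / 2) : IsMid ((k' : ℕ) : ZMod m) := by
  obtain ⟨c, hc⟩ := hm
  refine ⟨natCast_ne_zero (by omega) (by omega), ?_, ?_, ?_⟩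
  · exact natCast_ne (by omega) (by omega) (by omega)
  · have := natCast_ne (m := m) (a := k') (b := 1) (by omega) (by omega) (by omega)
    simpa using this
  · rw [neg_one_eq (by omega)]
    exact natCast_ne (by omega) (by omega) (by omega)

/-- The principal 2-block of a group with dihedral Sylow 2-subgroups. Let G be a finite group whose Sylow 2-subgroup P is dihedral of order 2^n ≥ 8, let σ be an element of P of order 2^(n−1), ζ a primitive 2^(n−1)-th root of unity, and M a maximal ideal of the algebraic integers containing 2. Then the principal 2-block consists of exactly 3 + 2^(n−2) irreducible characters, which can be labelled 1, χ₁, χ₂, χ₃ and χ^(j) for 1 ≤ j ≤ 2^(n−2) − 1 (all distinct), with signs δ₁, δ₂, δ₃ such that for 0 < λ < 2^(n−1): χ₁(σ^λ) = δ₁, χ₂(σ^λ) = δ₂(−1)^(λ+1), χ₃(σ^λ) = δ₃(−1)^(λ+1) and χ^(j)(σ^λ) = δ₁(ζ^(jλ) + ζ^(−jλ)); and for every element ρ of odd order and every j: 1 + δ₁χ₁(ρ)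 = −δ₂χ₂(ρ) − δ₃χ₃(ρ) = δ₁χ^(j)(ρ). -/
theorem result {G : Type*} [Group G] [Finite G] (M : Ideal Cfsg.AlgInt) (hM : Cfsg.IsPModular 2 M) (n : ℕ) (hn : 3 ≤ n) (P : Sylow 2 G) (hP : Nonempty ((P : Subgroup G) ≃* DihedralGroup (2 ^ (n - 1)))) (σ : G) (hσ : σ ∈ (P : Subgroup G)) (hσo : orderOf σ = 2 ^ (n - 1)) (ζ : ℂ) (hζ : IsPrimitiveRoot ζ (2 ^ (n - 1))) : Nat.card (Cfsg.principalBlock M G) = 3 + 2 ^ (n - 2) ∧ ∃ (χ₁ χ₂ χ₃ : Cfsg.IrrCharacter G) (χ' : Fin (2 ^ (n - 2) - 1) → Cfsg.IrrCharacter G) (δ₁ δ₂ δ₃ : ℤ), (δ₁ = 1 ∨ δ₁ = -1) ∧ (δ₂ = 1 ∨ δ₂ = -1) ∧ (δ₃ = 1 ∨ δ₃ = -1) ∧ Function.Injective χ' ∧ (χ₁ : G → ℂ) ≠ (fun _ => 1) ∧ (χ₂ : G → ℂ) ≠ (fun _ => 1) ∧ (χ₃ : G → ℂ) ≠ (fun _ => 1) ∧ χ₁ ≠ χ₂ ∧ χ₁ ≠ χ₃ ∧ χ₂ ≠ χ₃ ∧ (∀ j, χ' j ≠ χ₁ ∧ χ' j ≠ χ₂ ∧ χ' j ≠ χ₃ ∧ (χ' j : G → ℂ) ≠ (fun _ => 1)) ∧ Cfsg.principalBlock M G = {χ : Cfsg.IrrCharacter G | (χ : G → ℂ) = (fun _ => 1) ∨ χ = χ₁ ∨ χ = χ₂ ∨ χ = χ₃ ∨ ∃ j, χ = χ'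 j} ∧ (∀ l : ℕ, 0 < l → l < 2 ^ (n - 1) → (χ₁ : G → ℂ) (σ ^ l) = δ₁ ∧ (χ₂ : G → ℂ) (σ ^ l) = δ₂ * (-1) ^ (l + 1) ∧ (χ₃ : G → ℂ) (σ ^ l) = δ₃ * (-1) ^ (l + 1) ∧ ∀ j : Fin (2 ^ (n - 2) - 1), (χ' j : G → ℂ) (σ ^ l) = δ₁ * (ζ ^ (((j : ℕ) + 1) * l) + (ζ ^ (((j : ℕ) + 1) * l))⁻¹)) ∧ ∀ ρ : G, Odd (orderOf ρ) → ∀ j : Fin (2 ^ (n - 2) - 1), 1 + δ₁ * (χ₁ : G → ℂ) ρ = -δ₂ * (χ₂ : G → ℂ) ρ - δ₃ * (χ₃ : G → ℂ) ρ ∧ 1 + δ₁ * (χ₁ : G → ℂ) ρ = δ₁ * (χ' j : G → ℂ) ρ := by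
  classical
  letI : Fintype G := Fintype.ofFinite G
  haveI : Fintype (IrrCharacter G) := Fintype.ofFinite _
  haveI hPr := isPrime_of_isPModular hM
  set m := 2 ^ (n - 1) with hm
  haveI : NeZero m := ⟨by rw [hm]; positivity⟩
  have hS : Setup M n m P σ := ⟨hM, hn, rfl, hP, hσ, hσo⟩
  have hev := hS.even
  have hm4 := hS.four_le
  have hhalf : m / 2 = 2 ^ (n - 2) := hS.half_eq
  set e : AddChar (ZMod m) ℂ := AddChar.zmodChar m hζ.pow_eq_one with he_def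
  have he : e.IsPrimitive := AddChar.zmodChar_primitive_of_primitive_root m hζ
  obtain ⟨T⟩ := hS.exists_shape e he
  set one := Cfsg.Agent.Lib.H24.trivialIrr G with hone
  have honeB : one ∈ principalBlock M G := trivialIrr_mem_principalBlock
  have hone_iff : ∀ χ : IrrCharacter G, (χ : G → ℂ) = (fun _ => 1) ↔ χ = one := by
    intro χ
    constructor
    · intro h
      exact Subtype.ext h
    · intro h
      rw [h]
      rfl
  -- the indexing
  set idx : Fin (2 ^ (n - 2) - 1) → ZMod m := fun j => (((j : ℕ) + 1 : ℕ) : ZMod m) with hidx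
  have hidx_mid : ∀ j : Fin (2 ^ (n - 2) - 1), (j : ℕ) ≠ 0 → IsMid (idx j) := by
    intro j hj
    have hj2 := j.2
    exact isMid_natCast hev hm4 _ (by omega) (by omega)
  have hidx_one : ∀ j : Fin (2 ^ (n - 2) - 1), (j : ℕ) = 0 → idx j = 1 := by
    intro j hj
    simp only [hidx, hj, zero_add, Nat.cast_one]
  have hidx_not_mid : ∀ j : Fin (2 ^ (n - 2) - 1), (j : ℕ) = 0 → ¬ IsMid (idx j) := by
    intro j hj hmid
    exact hmid.2.2.1 (hidx_one j hj)
  set χ' : Fin (2 ^ (n - 2) - 1) → IrrCharacter G := fun j =>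
    if hj : IsMid (idx j) then T.Ψ ⟨idx j, hj⟩ else T.ψ₁ with hχ'
  have hχ'_mid : ∀ j (hj : IsMid (idx j)), χ' j = T.Ψ ⟨idx j, hj⟩ := by
    intro j hj
    simp only [hχ', dif_pos hj]
  have hχ'_not : ∀ j, ¬ IsMid (idx j) → χ' j = T.ψ₁ := by
    intro j hj
    simp only [hχ', dif_neg hj]
  have hχ'B : ∀ j, χ' j ∈ principalBlock M G := by
    intro j
    by_cases hj : IsMid (idx j)
    · rw [hχ'_mid j hj]; exact T.hΨ _
    · rw [hχ'_not j hj]; exact T.hψ₁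
  have hχ'ne : ∀ j, χ' j ≠ one ∧ χ' j ≠ T.χ₁ ∧ χ' j ≠ T.β ∧ χ' j ≠ T.γ := by
    intro j
    by_cases hj : IsMid (idx j)
    · rw [hχ'_mid j hj]
      obtain ⟨h1, h2, _, h4, h5⟩ := T.hΨne ⟨idx j, hj⟩
      exact ⟨h1, h2, h4, h5⟩
    · rw [hχ'_not j hj]
      exact ⟨T.hψ1, T.hχψ.symm, T.hβψ.symm, T.hγψ.symm⟩
  have hχ'inj : Function.Injective χ' := by
    intro j j' hjj'
    by_contra hne
    have hneN : (j : ℕ) ≠ (j' : ℕ) := fun h => hne (Fin.ext h)
    have hj2 := j.2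
    have hj'2 := j'.2
    by_cases hj : IsMid (idx j) <;> by_cases hj' : IsMid (idx j')
    · rw [hχ'_mid j hj, hχ'_mid j' hj'] at hjj'
      refine T.hΨinj ⟨idx j, hj⟩ ⟨idx j', hj'⟩ ?_ hjj'
      rintro (h | h)
      · simp only [hidx] at h
        exact natCast_ne (m := m) (by omega) (by omega) (by omega) h
      · simp only [hidx] at h
        rw [neg_natCast (by omega)] at h
        exact natCast_ne (m := m) (by omega) (by omega) (by omega) h
    · rw [hχ'_mid j hj, hχ'_not j' hj'] at hjj'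
      exact (T.hΨne ⟨idx j, hj⟩).2.2.1 hjj'
    · rw [hχ'_not j hj, hχ'_mid j' hj'] at hjj'
      exact (T.hΨne ⟨idx j', hj'⟩).2.2.1 hjj'.symm
    · have h1 : (j : ℕ) = 0 := by
        by_contra h
        exact hj (hidx_mid j h)
      have h2 : (j' : ℕ) = 0 := by
        by_contra h
        exact hj' (hidx_mid j' h)
      exact hneN (h1.trans h2.symm)
  -- the block as a set
  have hBeq : principalBlock M G = {χ : IrrCharacter G | (χ : G → ℂ) = (fun _ => 1) ∨ χ = T.χ₁ ∨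
      χ = T.β ∨ χ = T.γ ∨ ∃ j, χ = χ' j} := by
    ext χ
    simp only [Set.mem_ofPred_eq]
    constructor
    · intro hχ
      rcases T.listed hS he hχ with h | h | h | h | h | ⟨j', h⟩
      · exact Or.inl ((hone_iff χ).2 h)
      · exact Or.inr (Or.inl h)
      · exact Or.inr (Or.inr (Or.inl h))
      · exact Or.inr (Or.inr (Or.inr (Or.inl h)))
      · refine Or.inr (Or.inr (Or.inr (Or.inr ⟨⟨0, ?_⟩, ?_⟩)))
        · have : 2 ≤ 2 ^ (n - 2) := by
            calc 2 = 2 ^ 1 := by norm_num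
              _ ≤ 2 ^ (n - 2) := Nat.pow_le_pow_right (by norm_num) (by omega)
          omega
        · rw [h, hχ'_not _ (hidx_not_mid _ rfl)]
      · obtain ⟨k', hk2, hklt, hk⟩ := mid_cases hev hm4 j'.1 j'.2
        have hkmid : IsMid ((k' : ℕ) : ZMod m) := isMid_natCast hev hm4 k' hk2 hklt
        refine Or.inr (Or.inr (Or.inr (Or.inr ⟨⟨k' - 1, by omega⟩, ?_⟩)))
        have hidxk : idx ⟨k' - 1, by omega⟩ = ((k' : ℕ) : ZMod m) := by
          simp only [hidx]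
          congr 1
          omega
        have hmid' : IsMid (idx ⟨k' - 1, by omega⟩) := by rw [hidxk]; exact hkmid
        rw [h, hχ'_mid _ hmid']
        rcases hk with hk | hk
        · congr 1
          apply Subtype.ext
          exact hk.trans hidxk.symm
        · have h5 := T.Ψ_neg hS ⟨idx ⟨k' - 1, by omega⟩, hmid'⟩
            (Shape.isMid_neg hS hmid')
          rw [← h5]
          congr 1
          apply Subtype.ext
          exact hk.trans (congrArg Neg.neg hidxk.symm)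
    · rintro (h | h | h | h | ⟨j, h⟩)
      · rw [(hone_iff χ).1 h]; exact honeB
      · rw [h]; exact T.hχ₁
      · rw [h]; exact T.hβ
      · rw [h]; exact T.hγ
      · rw [h]; exact hχ'B j
  -- the cardinality
  have hcard : Nat.card (principalBlock M G) = 3 + 2 ^ (n - 2) := by
    set T4 : Finset (IrrCharacter G) := {one, T.χ₁, T.β, T.γ} with hT4
    set Timg : Finset (IrrCharacter G) := Finset.univ.image χ' with hTimg
    have hT4card : T4.card = 4 := by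
      rw [hT4, Finset.card_insert_of_notMem, Finset.card_insert_of_notMem,
        Finset.card_insert_of_notMem, Finset.card_singleton]
      · simp only [Finset.mem_singleton]; exact T.hβγ
      · simp only [Finset.mem_insert, Finset.mem_singleton, not_or]
        exact ⟨T.hβχ.symm, T.hγχ.symm⟩
      · simp only [Finset.mem_insert, Finset.mem_singleton, not_or]
        exact ⟨T.hχ1.symm, T.hβ1.symm, T.hγ1.symm⟩
    have hTimgcard : Timg.card = 2 ^ (n - 2) - 1 := by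
      rw [hTimg, Finset.card_image_of_injective _ hχ'inj, Finset.card_univ, Fintype.card_fin]
    have hdisj : Disjoint T4 Timg := by
      rw [Finset.disjoint_left]
      intro χ h4 himg
      rw [hTimg, Finset.mem_image] at himg
      obtain ⟨j, _, rfl⟩ := himg
      rw [hT4] at h4
      simp only [Finset.mem_insert, Finset.mem_singleton] at h4
      obtain ⟨h1, h2, h3, h4'⟩ := hχ'ne j
      rcases h4 with h | h | h | h
      · exact h1 h
      · exact h2 h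
      · exact h3 h
      · exact h4' h
    have hset : principalBlock M G = ↑(T4 ∪ Timg) := by
      rw [hBeq]
      ext χ
      simp only [Set.mem_ofPred_eq, Finset.coe_union, Set.mem_union, Finset.mem_coe, hT4, hTimg,
        Finset.mem_insert, Finset.mem_singleton, Finset.mem_image, Finset.mem_univ, true_and]
      rw [hone_iff]
      constructor
      · rintro (h | h | h | h | ⟨j, h⟩)
        · exact Or.inl (Or.inl h)
        · exact Or.inl (Or.inr (Or.inl h))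
        · exact Or.inl (Or.inr (Or.inr (Or.inl h)))
        · exact Or.inl (Or.inr (Or.inr (Or.inr h)))
        · exact Or.inr ⟨j, h.symm⟩
      · rintro ((h | h | h | h) | ⟨j, h⟩)
        · exact Or.inl h
        · exact Or.inr (Or.inl h)
        · exact Or.inr (Or.inr (Or.inl h))
        · exact Or.inr (Or.inr (Or.inr (Or.inl h)))
        · exact Or.inr (Or.inr (Or.inr (Or.inr ⟨j, h.symm⟩)))
    rw [hset, Nat.card_coe_set_eq, Set.ncard_coe_finset, Finset.card_union_of_disjoint hdisj,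
      hT4card, hTimgcard]
    have : 1 ≤ 2 ^ (n - 2) := Nat.one_le_two_pow
    omega
  -- values
  have hζhalf : ζ ^ (m / 2) = -1 := by
    have h1 : IsPrimitiveRoot (ζ ^ (m / 2)) 2 := by
      apply hζ.pow (by omega)
      obtain ⟨c, hc⟩ := hev
      omega
    exact h1.eq_neg_one_of_two_right
  have hvalσ : ∀ (χ : IrrCharacter G) (l : ℕ), (χ : G → ℂ) (σ ^ l) = val σ χ ((l : ℕ) : ZMod m) := by
    intro χ l
    unfold val
    rw [pw_natCast σ hσo]
  have hehalf : ∀ l : ℕ, e (half m * ((l : ℕ) : ZMod m)) = (-1) ^ l := by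
    intro l
    have h1 : half m * ((l : ℕ) : ZMod m) = (((m / 2) * l : ℕ) : ZMod m) := by
      unfold half
      rw [Nat.cast_mul]
    rw [h1, he_def, AddChar.zmodChar_apply', pow_mul, hζhalf]
  have heidx : ∀ (j : Fin (2 ^ (n - 2) - 1)) (l : ℕ),
      e (idx j * ((l : ℕ) : ZMod m)) = ζ ^ (((j : ℕ) + 1) * l) := by
    intro j l
    have h1 : idx j * ((l : ℕ) : ZMod m) = (((((j : ℕ) + 1) * l : ℕ)) : ZMod m) := by
      simp only [hidx]
      rw [Nat.cast_mul]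
    rw [h1, he_def, AddChar.zmodChar_apply']
  have hχ'val : ∀ (j : Fin (2 ^ (n - 2) - 1)) (l : ZMod m), l ≠ 0 →
      val σ (χ' j) l = (T.s : ℂ) * (e (idx j * l) + e (-(idx j * l))) := by
    intro j l hl
    by_cases hj : IsMid (idx j)
    · rw [hχ'_mid j hj, T.val_Ψ hS he ⟨idx j, hj⟩ l hl]
    · have h1 : (j : ℕ) = 0 := by
        by_contra h
        exact hj (hidx_mid j h)
      rw [hχ'_not j hj, T.val_ψ₁ hS he l hl, hidx_one j h1, one_mul]
  refine ⟨hcard, T.χ₁, T.β, T.γ, χ', T.s, -T.y₂, -T.y₃, T.hs, ?_, ?_, hχ'inj, ?_, ?_, ?_,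
    T.hβχ.symm, T.hγχ.symm, T.hβγ, ?_, hBeq, ?_, ?_⟩
  · rcases T.hy₂ with h | h <;> rw [h] <;> simp
  · rcases T.hy₃ with h | h <;> rw [h] <;> simp
  · exact fun h => T.hχ1 ((hone_iff _).1 h)
  · exact fun h => T.hβ1 ((hone_iff _).1 h)
  · exact fun h => T.hγ1 ((hone_iff _).1 h)
  · intro j
    obtain ⟨h1, h2, h3, h4⟩ := hχ'ne j
    exact ⟨h2, h3, h4, fun h => h1 ((hone_iff _).1 h)⟩
  · intro l hl0 hlm
    have hl' : ((l : ℕ) : ZMod m) ≠ 0 := natCast_ne_zero hlm hl0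
    refine ⟨?_, ?_, ?_, ?_⟩
    · rw [hvalσ, T.val_special hS he T.hχ₁ T.hχψ (fun j => (T.hΨne j).2.1.symm) _ hl',
        T.hUrep _ T.hχ₁, T.hVrep _ T.hχ₁, ind_self, ind_ne T.hχ1, ind_ne T.hχψ,
        ind_ne T.hβχ.symm, ind_ne T.hγχ.symm]
      push_cast
      ring
    · rw [hvalσ, T.val_special hS he T.hβ T.hβψ (fun j => (T.hΨne j).2.2.2.1.symm) _ hl',
        T.hUrep _ T.hβ, T.hVrep _ T.hβ, ind_self, ind_ne T.hβ1, ind_ne T.hβχ, ind_ne T.hβψ,
        ind_ne T.hβγ, hehalf]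
      push_cast
      ring
    · rw [hvalσ, T.val_special hS he T.hγ T.hγψ (fun j => (T.hΨne j).2.2.2.2.symm) _ hl',
        T.hUrep _ T.hγ, T.hVrep _ T.hγ, ind_self, ind_ne T.hγ1, ind_ne T.hγχ, ind_ne T.hγψ,
        ind_ne T.hβγ.symm, hehalf]
      push_cast
      ring
    · intro j
      rw [hvalσ, hχ'val j _ hl', AddChar.map_neg_eq_inv, heidx]
  · intro ρ hρ j
    obtain ⟨h1, h2, h3⟩ := T.odd_relations hS he ρ hρ
    have h4 : (χ' j : G → ℂ) ρ = (T.ψ₁ : G → ℂ) ρ := by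
      by_cases hj : IsMid (idx j)
      · rw [hχ'_mid j hj, h3]
      · rw [hχ'_not j hj]
    constructor
    · push_cast
      rw [h1, h2]
      ring
    · rw [h4, h1]

end Cfsg.Agent.S4481
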