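import Cfsg.Statements.S4482
import Cfsg.Agent.Lib.H22.DihOrderA
import Cfsg.Agent.Lib.H22.DihOrderD
import Cfsg.Agent.Lib.H1.TwoInvolutions

set_option autoImplicit false
open Cfsg

namespace Cfsg.Agent.S4482

open Cfsg.Agent.Lib.H23 Cfsg.Agent.Lib.H22.Dih Cfsg.Agent.Lib.H22.DihZMod
  Cfsg.Agent.Lib.H22.DihFourier Cfsg.Agent.Lib.H22.DihBlock Cfsg.Agent.Lib.H22.DihLattice
  Cfsg.Agent.Lib.H22.DihMain Cfsg.Agent.Lib.H22.DihOrder
open scoped ComplexConjugate

theorem exists_equiv {G : Type*} [Group G] [Finite G] (P : Subgroup G) (σ τ : G) (m : ℕ)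
    (hm : 3 ≤ m) (hσo : orderOf σ = m) (hτo : orderOf τ = 2) (hrel : τ * σ * τ⁻¹ = σ⁻¹)
    (hgen : Subgroup.closure ({σ, τ} : Set G) = P) :
    Nonempty (P ≃* DihedralGroup m) ∧ τ ∉ Subgroup.zpowers σ := by
  have hττ : τ * τ = 1 := by rw [← pow_two, ← hτo, pow_orderOf_eq_one]
  have hτi : τ⁻¹ = τ := inv_eq_of_mul_eq_one_right hττ
  have hτσc : τ * σ = σ⁻¹ * τ := by
    calc τ * σ = (τ * σ * τ⁻¹) * τ := by group
      _ = σ⁻¹ * τ := by rw [hrel]
  have hσ2 : σ * σ ≠ 1 := by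
    intro h
    have h1 : orderOf σ ∣ 2 := orderOf_dvd_of_pow_eq_one (by rw [pow_two, h])
    rw [hσo] at h1
    have := Nat.le_of_dvd (by norm_num) h1
    omega
  have hnot : τ ∉ Subgroup.zpowers σ := by
    intro h
    obtain ⟨k, hk⟩ := Subgroup.mem_zpowers_iff.1 h
    have hc : Commute τ σ := by
      rw [← hk]
      exact (Commute.refl σ).zpow_left k
    apply hσ2
    have h1 : σ * τ = σ⁻¹ * τ := by rw [← hτσc]; exact hc.eq.symm
    have h2 : σ = σ⁻¹ := mul_right_cancel h1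
    calc σ * σ = σ * σ⁻¹ := by rw [← h2]
      _ = 1 := mul_inv_cancel σ
  refine ⟨?_, hnot⟩
  set x := σ * τ with hx
  have hx2 : x * x = 1 := by
    calc x * x = σ * (τ * σ) * τ := by rw [hx]; group
      _ = σ * (σ⁻¹ * τ) * τ := by rw [hτσc]
      _ = τ * τ := by group
      _ = 1 := hττ
  have hx1 : x ≠ 1 := by
    intro h
    apply hnot
    have : τ = σ⁻¹ := by
      calc τ = σ⁻¹ * (σ * τ) := by group
        _ = σ⁻¹ := by rw [← hx, h, mul_one]
    rw [this]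
    exact (Subgroup.zpowers σ).inv_mem (Subgroup.mem_zpowers σ)
  have hxo : orderOf x = 2 := orderOf_eq_prime (by rw [pow_two]; exact hx2) hx1
  have hxy : x ≠ τ := by
    intro h
    have h1 : σ = 1 := by
      have : σ * τ = 1 * τ := by rw [one_mul]; exact h
      exact mul_right_cancel this
    rw [h1, orderOf_one] at hσo
    omega
  have hxτ : x * τ = σ := by
    rw [hx, mul_assoc, hττ, mul_one]
  have hcl : Subgroup.closure ({x, τ} : Set G) = P := by
    rw [← hgen]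
    apply le_antisymm
    · rw [Subgroup.closure_le]
      intro y hy
      rcases hy with rfl | hy
      · exact Subgroup.mul_mem _ (Subgroup.subset_closure (Set.mem_insert _ _))
          (Subgroup.subset_closure (Set.mem_insert_of_mem _ (Set.mem_singleton _)))
      · rw [Set.mem_singleton_iff] at hy
        rw [hy]
        exact Subgroup.subset_closure (Set.mem_insert_of_mem _ (Set.mem_singleton _))
    · rw [Subgroup.closure_le]
      intro y hy
      rcases hy with rfl | hy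
      · have : y = x * τ⁻¹ := by rw [hx]; group
        rw [this]
        exact Subgroup.mul_mem _ (Subgroup.subset_closure (Set.mem_insert _ _))
          (Subgroup.inv_mem _
            (Subgroup.subset_closure (Set.mem_insert_of_mem _ (Set.mem_singleton _))))
      · rw [Set.mem_singleton_iff] at hy
        rw [hy]
        exact Subgroup.subset_closure (Set.mem_insert_of_mem _ (Set.mem_singleton _))
  obtain ⟨e⟩ := Cfsg.Agent.Lib.H1.twoInv_closure_equiv_dihedral hxo hτo hxy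
  rw [hxτ, hσo] at e
  exact ⟨(MulEquiv.subgroupCongr hcl).symm.trans e⟩

theorem charDegree_eq {G : Type*} [Group G] (χ : G → ℂ) {d : ℕ} (h : χ 1 = d) :
    charDegree χ = d := by
  unfold charDegree
  rw [h]
  simp

/-- An order formula for groups with dihedral Sylow 2-subgroups and one class of involutions. Let G be a finite group whose Sylow 2-subgroup P = ⟨σ, τ⟩ is dihedral of order 2^n ≥ 8 (σ of order 2^(n−1), τ an involution inverting σ), let J be the central involution σ^(2^(n−2)), and suppose J, τ and στ are conjugate in G. Fix M over 2 and let χ₁ be an irreducible character in the principal 2-block taking one constant value δ₁ = ±1 at every non-identity power of σ, with χ₁ ≠ 1. Then, with x₁ = χ₁(1) and c(·) denoting orders of centralizers, x₁ ≠ δ₁ and #G · (x₁ − δ₁)² = 2·x₁(x₁ + δ₁)·c(J)³·(1/c(J, τ) + 1/c(J, στ))², where c(J, y) is the order of the joint centralizer of J and y. -/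
theorem result {G : Type*} [Group G] [Finite G] (M : Ideal Cfsg.AlgInt) (hM : Cfsg.IsPModular 2 M) (n : ℕ) (hn : 3 ≤ n) (P : Sylow 2 G) (σ τ : G) (hσ : σ ∈ (P : Subgroup G)) (hτ : τ ∈ (P : Subgroup G)) (hσo : orderOf σ = 2 ^ (n - 1)) (hτo : orderOf τ = 2) (hrel : τ * σ * τ⁻¹ = σ⁻¹) (hgen : Subgroup.closure ({σ, τ} : Set G) = (P : Subgroup G)) (hconj : IsConj (σ ^ (2 ^ (n - 2))) τ ∧ IsConj (σ ^ (2 ^ (n - 2))) (σ * τ)) (χ₁ : Cfsg.IrrCharacter G) (hχ₁ : χ₁ ∈ Cfsg.principalBlock M G) (h1 : (χ₁ : G → ℂ) ≠ (fun _ => 1)) (δ₁ : ℤ) (hδ₁ : δ₁ = 1 ∨ δ₁ = -1) (hval : ∀ l : ℕ, 0 < l → l < 2 ^ (n - 1) → (χ₁ : G → ℂ) (σ ^ l) = δ₁) : (Cfsg.charDegree (χ₁ : G → ℂ) : ℤ) ≠ δ₁ ∧ (Nat.card G : ℚ) * ((Cfsg.charDegree (χ₁ : G → ℂ) : ℚ) - δ₁) ^ 2 = 2 * (Cfsg.charDegree (χ₁ : G → ℂ) : ℚ) * ((Cfsg.charDegree (χ₁ : G → ℂ) : ℚ) + δ₁) * (Nat.card (Subgroup.centralizer ({σ ^ (2 ^ (n - 2))} : Set G)) : ℚ) ^ 3 * (1 / (Nat.card (Subgroup.centralizer ({σ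 ^ (2 ^ (n - 2)), τ} : Set G)) : ℚ) + 1 / (Nat.card (Subgroup.centralizer ({σ ^ (2 ^ (n - 2)), σ * τ} : Set G)) : ℚ)) ^ 2 := by
  classical
  letI : Fintype G := Fintype.ofFinite G
  haveI : Fintype (IrrCharacter G) := Fintype.ofFinite _
  haveI hPr := isPrime_of_isPModular hM
  set m := 2 ^ (n - 1) with hm
  haveI : NeZero m := ⟨by rw [hm]; positivity⟩
  have hm4' : 4 ≤ m := by
    rw [hm]
    calc 4 = 2 ^ 2 := by norm_num
      _ ≤ 2 ^ (n - 1) := Nat.pow_le_pow_right (by norm_num) (by omega)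
  obtain ⟨hP, hτσ⟩ := exists_equiv (P : Subgroup G) σ τ m (by omega) hσo hτo hrel hgen
  have hS : Setup M n m P σ := ⟨hM, hn, rfl, hP, hσ, hσo⟩
  have hev := hS.even
  have hm4 := hS.four_le
  have hhalf : m / 2 = 2 ^ (n - 2) := hS.half_eq
  have hd := hS.dih
  have hm0 : 0 < m := by omega
  have h4dvd : 4 ∣ m := by
    rw [hm]
    have : n - 1 = 2 + (n - 3) := by omega
    rw [this, pow_add]
    exact ⟨2 ^ (n - 3), by norm_num⟩
  rw [← hhalf] at hconj ⊢
  set J := σ ^ (m / 2) with hJdef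
  have hJP : J ∈ (P : Subgroup G) := hd.pow_mem _
  have hJ2 : J * J = 1 := hd.half_mul_self hev
  have hJ1 : J ≠ 1 := hd.half_ne_one hm0 hev
  have hJo : orderOf J = 2 := orderOf_eq_prime (by rw [pow_two]; exact hJ2) hJ1
  have hJord : ∃ k : ℕ, orderOf J = 2 ^ k := ⟨1, by rw [hJo, pow_one]⟩
  have hPC : (P : Subgroup G) ≤ Subgroup.centralizer ({J} : Set G) := hd.le_centralizer_half hev
  letI : DecidableEq G := Classical.decEq G
  have hone : ∀ u : G, u * u = 1 → u ≠ 1 → ∃ c : G, c * J * c⁻¹ = u :=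
    fun u hu2 hu1 => one_class P hd hm0 hev hτ hτσ hconj.1 hconj.2 hu2 hu1
  -- the character
  obtain ⟨ζ, hζ⟩ : ∃ ζ : ℂ, IsPrimitiveRoot ζ m := ⟨_, Complex.isPrimitiveRoot_exp m (NeZero.ne m)⟩
  set e : AddChar (ZMod m) ℂ := AddChar.zmodChar m hζ.pow_eq_one with he_def
  have he : e.IsPrimitive := AddChar.zmodChar_primitive_of_primitive_root m hζ
  have hζhalf : ζ ^ (m / 2) = -1 := by
    have h1 : IsPrimitiveRoot (ζ ^ (m / 2)) 2 := by
      apply hζ.pow (by omega)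
      obtain ⟨c, hc⟩ := hev
      omega
    exact h1.eq_neg_one_of_two_right
  have hehalf : e (half m) = -1 := by
    unfold half
    rw [he_def, AddChar.zmodChar_apply', hζhalf]
  obtain ⟨T⟩ := hS.exists_shape e he
  have hχne : χ₁ ≠ Cfsg.Agent.Lib.H24.trivialIrr G := by
    intro h
    apply h1
    rw [h]
    rfl
  have hvalσ : ∀ (χ : IrrCharacter G) (l : ℕ),
      val σ χ ((l : ℕ) : ZMod m) = (χ : G → ℂ) (σ ^ l) := by
    intro χ l
    unfold val
    rw [pw_natCast σ hσo]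
  have hδ2 : (δ₁ : ℂ) * δ₁ = 1 := by
    rcases hδ₁ with h | h <;> rw [h] <;> norm_num
  have hv1 : val σ χ₁ (1 : ZMod m) = δ₁ := by
    have h2 := hvalσ χ₁ 1
    rw [Nat.cast_one] at h2
    rw [h2]
    exact hval 1 (by norm_num) (by omega)
  have hv2 : val σ χ₁ ((2 : ℕ) : ZMod m) = δ₁ := by
    rw [hvalσ]
    exact hval 2 (by norm_num) (by omega)
  have hvh : val σ χ₁ (half m) = δ₁ := by
    unfold half
    rw [hvalσ]
    exact hval (m / 2) (by omega) (by omega)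
  obtain ⟨hχeq, hδs⟩ := T.eq_χ₁_of_const hS he hehalf hχ₁ hχne (δ₁ : ℂ) hδ2 hv1 hv2 hvh
  obtain ⟨hsums, hxx⟩ := T.block_sums hS he hehalf
  have hδ : δ₁ = T.s := by exact_mod_cast hδs
  subst hχeq
  -- the centralizer
  letI : Fintype ↥(Subgroup.centralizer ({J} : Set G)) := Fintype.ofFinite _
  letI : DecidableEq ↥(Subgroup.centralizer ({J} : Set G)) := Classical.decEq _
  obtain ⟨N, hNn, hNodd, hidx⟩ := hS.exists_npc hJ1 hJord
  haveI := hNn
  have hfac : (Nat.card (Subgroup.centralizer ({J} : Set G))).factorization 2 = n := by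
    rw [factorization_centralizer_of_le P hPC, hS.card_sylow]
  rw [hfac] at hidx
  have h2n : 2 ^ n = 2 * m := by
    rw [hm]
    have : n = (n - 1) + 1 := by omega
    conv_lhs => rw [this, pow_succ]
    ring
  have hcardC : Nat.card ↥(Subgroup.centralizer ({J} : Set G)) = Nat.card N * (2 * m) := by
    rw [← N.card_mul_index, hidx, h2n]
  have hNodd' : Odd (Nat.card N) :=
    Nat.not_even_iff_odd.1 (fun h => hNodd (even_iff_two_dvd.1 h))
  obtain ⟨σ', hσ'⟩ : ∃ σ' : ↥(Subgroup.centralizer ({J} : Set G)),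
      σ' = ⟨σ, hPC hd.mem⟩ := ⟨_, rfl⟩
  obtain ⟨τ', hτ'⟩ : ∃ τ' : ↥(Subgroup.centralizer ({J} : Set G)),
      τ' = ⟨τ, hPC hτ⟩ := ⟨_, rfl⟩
  have hσ'c : (σ' : G) = σ := by rw [hσ']
  have hτ'c : (τ' : G) = τ := by rw [hτ']
  have hd' : DihData ((P : Subgroup G).subgroupOf (Subgroup.centralizer ({J} : Set G))) σ' m := by
    rw [hσ']
    exact dihData_subgroupOf hd hPC
  have hJ'c : ((σ' ^ (m / 2) : ↥(Subgroup.centralizer ({J} : Set G))) : G) = J := by
    rw [Subgroup.coe_pow, hσ'c]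
  obtain ⟨κ, hκ⟩ := exists_retr N
    ((P : Subgroup G).subgroupOf (Subgroup.centralizer ({J} : Set G)))
    (by
      rw [hd'.card, ← h2n]
      exact Nat.Coprime.pow_left n ((Nat.Prime.coprime_iff_not_dvd Nat.prime_two).2 hNodd))
    (by rw [hd'.card, hcardC, mul_comm])
  have hJc : ∀ h : ↥(Subgroup.centralizer ({J} : Set G)),
      h * σ' ^ (m / 2) = σ' ^ (m / 2) * h := by
    intro h
    apply Subtype.ext
    rw [Subgroup.coe_mul, Subgroup.coe_mul, hJ'c]
    exact Subgroup.mem_centralizer_singleton_iff.1 h.2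
  have hJ'P : σ' ^ (m / 2) ∈ (P : Subgroup G).subgroupOf (Subgroup.centralizer ({J} : Set G)) :=
    hd'.pow_mem _
  have hJ'2 : σ' ^ (m / 2) * σ' ^ (m / 2) = 1 := hd'.half_mul_self hev
  have hcount := count_pairs hd' hm0 h4dvd hκ hNodd' hJc
  have hτ'P : τ' ∈ (P : Subgroup G).subgroupOf (Subgroup.centralizer ({J} : Set G)) := by
    rw [Subgroup.mem_subgroupOf, hτ'c]
    exact hτ
  have hτ'σ : τ' ∉ Subgroup.zpowers σ' := by
    intro h
    apply hτσ
    obtain ⟨k, hk⟩ := Subgroup.mem_zpowers_iff.1 h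
    rw [Subgroup.mem_zpowers_iff]
    refine ⟨k, ?_⟩
    have := congrArg Subtype.val hk
    rw [Subgroup.coe_zpow, hσ'c, hτ'c] at this
    exact this
  have hI := card_invs_erase hd' hm0 hev hκ hJc
    (fun u hu => exists_conj_mem_subgroupOf P hPC u hu) hτ'P hτ'σ
  have hk₁ := card_clF_mul τ'
  have hk₂ := card_clF_mul (σ' * τ')
  have hc₁ : Nat.card (Subgroup.centralizer ({J, τ} : Set G)) =
      Nat.card (Subgroup.centralizer ({τ'} : Set ↥(Subgroup.centralizer ({J} : Set G)))) := by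
    rw [hτ']
    exact card_centralizer_pair J τ (hPC hτ)
  have hc₂ : Nat.card (Subgroup.centralizer ({J, σ * τ} : Set G)) =
      Nat.card (Subgroup.centralizer ({σ' * τ'} :
        Set ↥(Subgroup.centralizer ({J} : Set G)))) := by
    rw [hσ', hτ']
    exact card_centralizer_pair J (σ * τ) (hPC (Subgroup.mul_mem _ hσ hτ))
  -- powers
  have hpowJ : ∀ k ∈ N, ∃ j : ℕ,
      ((k * σ' ^ (m / 2) : ↥(Subgroup.centralizer ({J} : Set G))) : G) ^ j = J := by
    intro k hk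
    have hκk : κ (k * σ' ^ (m / 2)) = σ' ^ (m / 2) := by
      rw [map_mul, (hκ.ker k).2 hk, one_mul, hκ.fix _ hJ'P]
    obtain ⟨j, hj⟩ := exists_pow_eq_of_κ hκ hNodd' hJ'P hJc hJ'2 hκk (pow_one _)
    refine ⟨j, ?_⟩
    have := congrArg Subtype.val hj
    rw [Subgroup.coe_pow, hJ'c] at this
    exact this
  have hpowσ : ∀ k ∈ N, ∃ j : ℕ,
      ((k * σ' : ↥(Subgroup.centralizer ({J} : Set G))) : G) ^ j = J := by
    intro k hk
    have hκk : κ (k * σ') = σ' := by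
      rw [map_mul, (hκ.ker k).2 hk, one_mul, hκ.fix _ hd'.mem]
    obtain ⟨j, hj⟩ := exists_pow_eq_of_κ hκ hNodd' hJ'P hJc hJ'2 hκk rfl
    refine ⟨j, ?_⟩
    have := congrArg Subtype.val hj
    rw [Subgroup.coe_pow, hJ'c] at this
    exact this
  have hσord : ∃ k : ℕ, orderOf σ = 2 ^ k := ⟨n - 1, hσo⟩
  have hσC : Subgroup.centralizer ({σ} : Set G) ≤ Subgroup.centralizer ({J} : Set G) := by
    intro c hc
    rw [Subgroup.mem_centralizer_singleton_iff] at hc ⊢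
    have : Commute c σ := hc
    exact (this.pow_right (m / 2)).eq
  have hmJ := master_count hM hJord hJ2 hJ1 N hNodd hidx hone (σ' ^ (m / 2))
    (by rw [hJ'c]; exact hJord) (by rw [hJ'c]) hpowJ
  have hmσ := master_count hM hJord hJ2 hJ1 N hNodd hidx hone σ'
    (by rw [hσ'c]; exact hσord) (by rw [hσ'c]; exact hσC) hpowσ
  rw [hJ'c] at hmJ
  rw [hσ'c] at hmσ
  -- the block sums
  have hvalJ : ∀ χ : IrrCharacter G, (χ : G → ℂ) J = val σ χ (half m) := by
    intro χ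
    unfold val
    rw [pw_half σ hσo]
  have hvalσ1 : ∀ χ : IrrCharacter G, (χ : G → ℂ) σ = val σ χ (1 : ZMod m) := by
    intro χ
    have h2 := hvalσ χ 1
    rw [Nat.cast_one, pow_one] at h2
    exact h2.symm
  have hsumJ : (∑ χ : IrrCharacter G, (if χ ∈ principalBlock M G then
      (χ : G → ℂ) J * (χ : G → ℂ) J * conj ((χ : G → ℂ) J) / (χ : G → ℂ) 1 else 0)) =
      ∑ χ ∈ Finset.univ.filter (· ∈ principalBlock M G),
        val σ χ (half m) * val σ χ (half m) * val σ χ (half m) / (χ : G → ℂ) 1 := by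
    rw [Finset.sum_filter]
    refine Finset.sum_congr rfl (fun χ _ => ?_)
    rw [hvalJ χ, hS.val_conj χ (half m)]
  have hsumσ : (∑ χ : IrrCharacter G, (if χ ∈ principalBlock M G then
      (χ : G → ℂ) J * (χ : G → ℂ) J * conj ((χ : G → ℂ) σ) / (χ : G → ℂ) 1 else 0)) =
      ∑ χ ∈ Finset.univ.filter (· ∈ principalBlock M G),
        val σ χ (half m) * val σ χ (half m) * val σ χ (1 : ZMod m) / (χ : G → ℂ) 1 := by
    rw [Finset.sum_filter]
    refine Finset.sum_congr rfl (fun χ _ => ?_)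
    rw [hvalJ χ, hvalσ1 χ, hS.val_conj χ 1]
  rw [hsumJ] at hmJ
  rw [hsumσ] at hmσ
  -- nonvanishing
  have hx₁0 : (T.χ₁ : G → ℂ) 1 ≠ 0 := Cfsg.Agent.Lib.H24.irr_one_ne_zero T.χ₁
  have hxs0 : (T.χ₁ : G → ℂ) 1 + (T.s : ℂ) ≠ 0 := by
    rw [hxx]
    exact Cfsg.Agent.Lib.H24.irr_one_ne_zero T.ψ₁
  have hcC0 : (Nat.card ↥(Subgroup.centralizer ({J} : Set G)) : ℂ) ≠ 0 := by
    exact_mod_cast (Nat.card_pos (α := ↥(Subgroup.centralizer ({J} : Set G)))).ne'
  have hc₁0 : (Nat.card (Subgroup.centralizer ({τ'} :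
      Set ↥(Subgroup.centralizer ({J} : Set G)))) : ℂ) ≠ 0 := by
    exact_mod_cast (Nat.card_pos (α := ↥(Subgroup.centralizer ({τ'} :
      Set ↥(Subgroup.centralizer ({J} : Set G)))))).ne'
  have hc₂0 : (Nat.card (Subgroup.centralizer ({σ' * τ'} :
      Set ↥(Subgroup.centralizer ({J} : Set G)))) : ℂ) ≠ 0 := by
    exact_mod_cast (Nat.card_pos (α := ↥(Subgroup.centralizer ({σ' * τ'} :
      Set ↥(Subgroup.centralizer ({J} : Set G)))))).ne'
  have hcC' : (Nat.card ↥(Subgroup.centralizer ({J} : Set G)) : ℂ) =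
      (Nat.card N : ℂ) * (2 * (2 * ((m / 2 : ℕ) : ℂ))) := by
    have : Nat.card ↥(Subgroup.centralizer ({J} : Set G)) = Nat.card N * (2 * (2 * (m / 2))) := by
      rw [hcardC]
      congr 2
      obtain ⟨c, hc⟩ := hev
      omega
    exact_mod_cast this
  obtain ⟨key1, key2⟩ := arith_final (Nat.card G : ℂ)
    (Nat.card ↥(Subgroup.centralizer ({J} : Set G)) : ℂ) (Nat.card N : ℂ) ((m / 2 : ℕ) : ℂ)
    _ _ ((((invs ↥(Subgroup.centralizer ({J} : Set G))).erase (σ' ^ (m / 2))).card : ℕ) : ℂ)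
    (((clF τ').card : ℕ) : ℂ) (((clF (σ' * τ')).card : ℕ) : ℂ)
    (Nat.card (Subgroup.centralizer ({τ'} : Set ↥(Subgroup.centralizer ({J} : Set G)))) : ℂ)
    (Nat.card (Subgroup.centralizer ({σ' * τ'} :
      Set ↥(Subgroup.centralizer ({J} : Set G)))) : ℂ)
    ((T.χ₁ : G → ℂ) 1) (T.s : ℂ) _ _ hcC' (by exact_mod_cast hcount) (by exact_mod_cast hI)
    (by exact_mod_cast hk₁) (by exact_mod_cast hk₂) hmJ hmσ hsums hx₁0 hxs0 hcC0 hc₁0 hc₂0
  obtain ⟨d, hdpos, hd1⟩ := Cfsg.Agent.Lib.H24.irr_one_eq T.χ₁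
  have hcd : charDegree (T.χ₁ : G → ℂ) = d := charDegree_eq _ hd1
  rw [hcd, hδ, hc₁, hc₂]
  rw [hd1] at key1 key2
  constructor
  · intro hds
    have hds' : (d : ℂ) - (T.s : ℂ) = 0 := by
      have : (d : ℂ) = (T.s : ℂ) := by exact_mod_cast hds
      rw [this, sub_self]
    rw [hds'] at key2
    have hIpos : 0 < ((invs ↥(Subgroup.centralizer ({J} : Set G))).erase (σ' ^ (m / 2))).card := by
      rw [hI]
      have : 0 < (clF τ').card := Finset.card_pos.2 ⟨τ', mem_clF.2 ⟨1, by group⟩⟩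
      omega
    have hI0 : ((((invs ↥(Subgroup.centralizer ({J} : Set G))).erase
        (σ' ^ (m / 2))).card : ℕ) : ℂ) ≠ 0 := by exact_mod_cast hIpos.ne'
    have hd0 : (d : ℂ) ≠ 0 := by rw [← hd1]; exact hx₁0
    have hds0 : (d : ℂ) + (T.s : ℂ) ≠ 0 := by rw [← hd1]; exact hxs0
    have hne : 2 * (d : ℂ) * ((d : ℂ) + (T.s : ℂ)) *
        (Nat.card ↥(Subgroup.centralizer ({J} : Set G)) : ℂ) *
        ((((invs ↥(Subgroup.centralizer ({J} : Set G))).erase
          (σ' ^ (m / 2))).card : ℕ) : ℂ) ^ 2 ≠ 0 :=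
      mul_ne_zero (mul_ne_zero (mul_ne_zero (mul_ne_zero two_ne_zero hd0) hds0) hcC0)
        (pow_ne_zero 2 hI0)
    apply hne
    rw [← key2]
    ring
  · apply Rat.cast_injective (α := ℂ)
    push_cast
    exact key1

end Cfsg.Agent.S4482
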