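import Cfsg.Statements.S4483
import Cfsg.Agent.Lib.L0.BrauerFeit2
import Cfsg.Agent.Lib.L0.PrincipalCrit
import Cfsg.Agent.Lib.H23.BlockDefect

set_option autoImplicit false
open Cfsg

namespace Cfsg.Agent.S4483

open Cfsg.Agent.Lib.H23 Cfsg.Agent.Lib.H24 Cfsg.Agent.Lib.L0 Cfsg.Agent.Lib.L0.BrauerFeit
  Cfsg.Agent.Lib.L0.PrincipalCrit
open scoped ComplexConjugate

/-- A real-valued irreducible character of odd degree lies in the principal `2`-block. -/
theorem mem_principalBlock_of_real_odd {G : Type*} [Group G] [Fintype G] {M : Ideal AlgInt}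
    (hM : IsPModular 2 M) (χ : IrrCharacter G) (hreal : ∀ g : G, ((χ : G → ℂ) g).im = 0)
    (hodd : Odd (charDegree (χ : G → ℂ))) : χ ∈ principalBlock M G := by
  classical
  haveI hPr := isPrime_of_isPModular hM
  rw [mem_principalBlock_iff hM, charEval_regSum]
  intro h0
  -- the character values as algebraic integers
  set f : G → AlgInt := fun x => ⟨(χ : G → ℂ) x, irr_isIntegral χ x⟩ with hf
  have hf0 : ∑ x : G, (if 2 ∣ orderOf x then (0 : AlgInt) else f x) = 0 := by
    apply Subtype.ext
    have : ((∑ x : G, (if 2 ∣ orderOf x then (0 : AlgInt) else f x) : AlgInt) : ℂ) =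
        ∑ x : G, (if 2 ∣ orderOf x then 0 else (χ : G → ℂ) x) := by
      push_cast
      refine Finset.sum_congr rfl fun x _ => ?_
      split_ifs <;> simp [hf]
    rw [this, h0]
    rfl
  have hinv : ∀ x : G, f x⁻¹ = f x := by
    intro x
    apply Subtype.ext
    show (χ : G → ℂ) x⁻¹ = (χ : G → ℂ) x
    rw [irr_inv, Complex.conj_eq_iff_im]
    exact hreal x
  -- map to the residue field
  set q := Ideal.Quotient.mk M with hq
  have h2 : q 2 = 0 := by
    rw [hq, Ideal.Quotient.eq_zero_iff_mem]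
    have := hM.2.2
    simpa using this
  have hq0 := congrArg q hf0
  rw [map_sum, map_zero] at hq0
  set S : Finset G := Finset.univ.filter (fun x : G => ¬ 2 ∣ orderOf x ∧ x ≠ 1) with hS
  have hsplit : ∑ x : G, q (if 2 ∣ orderOf x then (0 : AlgInt) else f x) =
      q (f 1) + ∑ x ∈ S, q (f x) := by
    have h1 : ∀ x : G, q (if 2 ∣ orderOf x then (0 : AlgInt) else f x) =
        (if x = 1 then q (f 1) else 0) + (if x ∈ S then q (f x) else 0) := by
      intro x
      have hmemS : x ∈ S ↔ (¬ 2 ∣ orderOf x ∧ x ≠ 1) := by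
        rw [hS, Finset.mem_filter]; simp
      by_cases hx1 : x = 1
      · subst hx1
        have h21 : ¬ (2 ∣ orderOf (1 : G)) := by rw [orderOf_one]; norm_num
        have hnS : (1 : G) ∉ S := fun h => ((hmemS).mp h).2 rfl
        rw [if_neg h21, if_pos rfl, if_neg hnS, add_zero]
      · by_cases hx2 : 2 ∣ orderOf x
        · have hnS : x ∉ S := fun h => ((hmemS).mp h).1 hx2
          rw [if_pos hx2, if_neg hx1, if_neg hnS, add_zero, map_zero]
        · have hxS : x ∈ S := hmemS.mpr ⟨hx2, hx1⟩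
          rw [if_neg hx2, if_neg hx1, if_pos hxS, zero_add]
    rw [Finset.sum_congr rfl (fun x _ => h1 x), Finset.sum_add_distrib, Finset.sum_ite_eq',
      if_pos (Finset.mem_univ _), Finset.sum_ite_mem, Finset.univ_inter]
  have hS0 : ∑ x ∈ S, q (f x) = 0 := by
    refine Finset.sum_involution (fun x _ => x⁻¹) ?_ ?_ ?_ ?_
    · intro x _
      rw [hinv x, ← two_mul, ← map_ofNat q 2, ← map_mul]
      rw [map_mul, h2, zero_mul]
    · intro x hx _ hxx
      rw [hS, Finset.mem_filter] at hx
      have hx2 : x ^ 2 = 1 := by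
        rw [sq]
        nth_rewrite 1 [← hxx]
        exact inv_mul_cancel x
      have hdvd : orderOf x ∣ 2 := orderOf_dvd_of_pow_eq_one hx2
      rcases (Nat.dvd_prime Nat.prime_two).mp hdvd with h | h
      · exact hx.2.2 (orderOf_eq_one_iff.mp h)
      · exact hx.2.1 (h ▸ dvd_rfl)
    · intro x hx
      rw [hS, Finset.mem_filter] at hx ⊢
      refine ⟨Finset.mem_univ _, ?_, ?_⟩
      · rw [orderOf_inv]; exact hx.2.1
      · intro h; exact hx.2.2 (inv_eq_one.mp h)
    · intro x _
      exact inv_inv x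
  rw [hsplit, hS0, add_zero, hq, Ideal.Quotient.eq_zero_iff_mem] at hq0
  have hf1 : f 1 = ((charDegree (χ : G → ℂ) : ℕ) : AlgInt) := by
    apply Subtype.ext
    show (χ : G → ℂ) 1 = _
    rw [apply_one_eq_charDegree _ χ.2]
    simp
  rw [hf1, natCast_mem_iff hM] at hq0
  exact (Nat.not_even_iff_odd.mpr hodd) (even_iff_two_dvd.mpr hq0)

/-- Let G be a finite group of order 2^n·g₀ with g₀ odd, and M a maximal ideal of the algebraic integers containing 2. Every real-valued irreducible character of G of odd degree lies in the principal 2-block; consequently G has at most 2^(2n) real-valued irreducible characters of odd degree. -/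
theorem result {G : Type*} [Group G] [Finite G] (M : Ideal Cfsg.AlgInt) (hM : Cfsg.IsPModular 2 M) : (∀ χ : Cfsg.IrrCharacter G, (∀ g : G, ((χ : G → ℂ) g).im = 0) → Odd (Cfsg.charDegree (χ : G → ℂ)) → χ ∈ Cfsg.principalBlock M G) ∧ Nat.card {χ : Cfsg.IrrCharacter G // (∀ g : G, ((χ : G → ℂ) g).im = 0) ∧ Odd (Cfsg.charDegree (χ : G → ℂ))} ≤ 2 ^ (2 * (Nat.card G).factorization 2) := by
  classical
  haveI := Fintype.ofFinite G
  haveI := Fintype.ofFinite (IrrCharacter G)
  haveI hPr := isPrime_of_isPModular hM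
  haveI : Fact (Nat.Prime 2) := ⟨Nat.prime_two⟩
  refine ⟨fun χ hreal hodd => mem_principalBlock_of_real_odd hM χ hreal hodd, ?_⟩
  set a := (Nat.card G).factorization 2 with ha
  have h4 := four_mul_card_le hM (trivIrr G)
  have hB : blockOf M (trivIrr G : G → ℂ) = principalBlock M G := rfl
  rw [hB] at h4
  have hd : blockDefect 2 (principalBlock M G) ≤ a := by
    rw [blockDefect]; exact Nat.sub_le _ _
  have hcard : Nat.card {χ : IrrCharacter G // (∀ g : G, ((χ : G → ℂ) g).im = 0) ∧
      Odd (charDegree (χ : G → ℂ))} ≤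
      (Finset.univ.filter (· ∈ principalBlock M G)).card := by
    rw [Nat.card_eq_fintype_card, Fintype.card_subtype]
    refine Finset.card_le_card fun χ hχ => ?_
    rw [Finset.mem_filter] at hχ ⊢
    exact ⟨Finset.mem_univ _, mem_principalBlock_of_real_odd hM χ hχ.2.1 hχ.2.2⟩
  refine hcard.trans ?_
  have hpow : 2 ^ (2 * blockDefect 2 (principalBlock M G)) ≤ 2 ^ (2 * a) :=
    Nat.pow_le_pow_right (by norm_num) (by omega)
  rcases Nat.eq_zero_or_pos a with h0 | h0
  · rw [h0] at hpow ⊢
    simp only [mul_zero, pow_zero] at hpow ⊢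
    omega
  · have h4a : 4 ≤ 2 ^ (2 * a) := by
      calc 4 = 2 ^ 2 := by norm_num
        _ ≤ 2 ^ (2 * a) := Nat.pow_le_pow_right (by norm_num) (by omega)
    omega

end Cfsg.Agent.S4483
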