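import Cfsg.Statements.S4487
import Cfsg.Agent.Lib.L0.BlockPReg
import Cfsg.Agent.Lib.H23.BlockNilChar
import Cfsg.Agent.Lib.H1.PCore

set_option autoImplicit false
open Cfsg

namespace Cfsg.Agent.S4487

open Cfsg.Agent.Lib.H23 Cfsg.Agent.Lib.H24 Cfsg.Agent.Lib.L0.BlockPReg

/-- Let G be a finite group and p a prime such that G has no non-trivial normal subgroup of order prime to p and C_G(O_p(G)) ≤ O_p(G). Then G has a single p-block: any two irreducible characters lie in the same block relative to every maximal ideal M of the algebraic integers containing p. -/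
theorem result {G : Type*} [Group G] [Finite G] (p : ℕ) [Fact p.Prime] (M : Ideal Cfsg.AlgInt) (hM : Cfsg.IsPModular p M) (hcore : Cfsg.pPrimeCore p G = ⊥) (hconstr : Subgroup.centralizer ((Cfsg.pCore p G) : Set G) ≤ Cfsg.pCore p G) (χ ψ : Cfsg.IrrCharacter G) : Cfsg.SameBlock M (χ : G → ℂ) (ψ : G → ℂ) := by
  classical
  haveI := Fintype.ofFinite G
  haveI hP := isPrime_of_isPModular hM
  have hp : p.Prime := Fact.out
  haveI hN : (pCore p G).Normal := Cfsg.Agent.Lib.H1.pCore_normal p G
  have hPG : IsPGroup p (pCore p G) := Cfsg.Agent.Lib.H1.pCore_isPGroup p G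
  haveI hCN : (Subgroup.centralizer ((pCore p G : Subgroup G) : Set G)).Normal :=
    inferInstance
  refine sameBlock_of_pRegular hM χ ψ fun g hg => ?_
  by_cases hg1 : g = 1
  · subst hg1
    have e : ∀ φ : IrrCharacter G, centralChar (φ : G → ℂ) 1 = 1 := by
      intro φ
      unfold centralChar
      have h1 : Subgroup.centralizer ({(1 : G)} : Set G) = ⊤ := by
        ext x; simp [Subgroup.mem_centralizer_singleton_iff]
      rw [h1, Subgroup.index_top, Nat.cast_one, one_mul, div_self (irr_one_ne_zero φ)]
    rw [e χ, e ψ, sub_self]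
    exact memLocalIdeal_zero hP.ne_top
  · have hgC : ∀ x : G, IsConj g x → x ∉ Subgroup.centralizer ((pCore p G : Subgroup G) : Set G) := by
      intro x hx hxC
      obtain ⟨c, hc⟩ := isConj_iff.mp hx
      have hgC : g ∈ Subgroup.centralizer ((pCore p G : Subgroup G) : Set G) := by
        have := hCN.conj_mem x hxC c⁻¹
        rw [← hc] at this
        simpa [mul_assoc] using this
      have hgO := hconstr hgC
      -- g is a p-element and p-regular, hence trivial
      obtain ⟨k, hk⟩ := hPG ⟨g, hgO⟩
      have hk' : g ^ (p ^ k) = 1 := by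
        have := congrArg Subtype.val hk
        simpa using this
      have hdvd : orderOf g ∣ p ^ k := orderOf_dvd_of_pow_eq_one hk'
      obtain ⟨j, _, hj⟩ := (Nat.dvd_prime_pow hp).mp hdvd
      rcases Nat.eq_zero_or_pos j with h0 | h0
      · rw [h0, pow_zero, orderOf_eq_one_iff] at hj
        exact hg1 hj
      · exact hg (hj ▸ dvd_pow_self p h0.ne')
    exact memLocalIdeal_sub
      (centralChar_memLocalIdeal_of_normal hM (pCore p G) hPG g hgC χ)
      (centralChar_memLocalIdeal_of_normal hM (pCore p G) hPG g hgC ψ)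

end Cfsg.Agent.S4487
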