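import Cfsg.Statements.S4488
import Cfsg.Agent.Lib.H22.PRational
import Cfsg.Agent.Lib.H23.DegreeDvd

set_option autoImplicit false
open Cfsg

namespace Cfsg.Agent.S4488

open Cfsg.Agent.Lib.H22.PRat Cfsg.Agent.Lib.L0

/-- The value of the Schur polynomial at a nontrivial `p`-element vanishes. -/
theorem aeval_eq_zero {G : Type*} [Group G] [Finite G] (p : ℕ) (hp : p.Prime) (χ : G → ℂ)
    (hχ : Cfsg.IsCharacter G χ) (hfaith : ∀ g : G, χ g = χ 1 → g = 1) (r : ℕ) (hr : 0 < r)
    (hpr : ¬ p ∣ r)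
    (hrat : ∀ g : G, χ g ∈ IntermediateField.adjoin ℚ
      ({Complex.exp (2 * Real.pi * Complex.I / r)} : Set ℂ))
    (n : ℕ) (hn1 : χ 1 = (n : ℂ)) (x : G) (k : ℕ) (hk : orderOf x = p ^ k) (hx1 : x ≠ 1) :
    Polynomial.aeval (χ x) (∏ j ∈ Finset.Icc 1 (n / (p - 1)),
      (Polynomial.X - Polynomial.C ((n : ℤ) - p * j)) : Polynomial ℤ) = 0 := by
  have hk0 : k ≠ 0 := by
    rintro rfl
    rw [pow_zero, orderOf_eq_one_iff] at hk
    exact hx1 hk
  obtain ⟨k', rfl⟩ := Nat.exists_eq_succ_of_ne_zero hk0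
  have hcop : (orderOf x).Coprime r := by
    rw [hk]
    exact Nat.Coprime.pow_left _ ((Nat.Prime.coprime_iff_not_dvd hp).mpr hpr)
  obtain ⟨z, hz⟩ := exists_int_of_rational hχ hr hrat x hcop
  have hgal : ∀ j : ℕ, j.Coprime (orderOf x) → χ (x ^ j) = z := fun j hj => by
    rw [char_pow_eq_of_rational hχ hr hrat x hcop j hj, hz]
  have hcong : (p : ℤ) ∣ z - n :=
    cong_of_pow hp hχ x (k' + 1) (by rw [← hk]; exact pow_orderOf_eq_one x) z n hz
      (by rw [hn1]; simp)
  have hlow := lower_bound hp hχ x k' hk z n hgal hn1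
  have hzle : z ≤ n := by
    have h3 := isCharacter_norm_le hχ x
    rw [hn1, hz, Complex.norm_natCast, Complex.norm_intCast] at h3
    have h4 : (z : ℝ) ≤ n := (le_abs_self _).trans h3
    exact_mod_cast h4
  have hzne : z ≠ n := by
    intro h
    apply hx1
    apply hfaith
    rw [hz, hn1, h]
    simp
  obtain ⟨c, hc⟩ := hcong
  have hp0 : (0 : ℤ) < p := by exact_mod_cast hp.pos
  have hcneg : c < 0 := by
    by_contra h
    rw [not_lt] at h
    have h5 : 0 ≤ (p : ℤ) * c := mul_nonneg hp0.le h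
    omega
  set j := (-c).toNat with hj
  have hjc : (j : ℤ) = -c := Int.toNat_of_nonneg (by omega)
  have hj1 : 1 ≤ j := by omega
  have hzj : z = n - p * j := by
    rw [hjc]
    linarith
  have hp1 : 1 ≤ p := hp.one_lt.le
  have hjm : j ≤ n / (p - 1) := by
    rw [Nat.le_div_iff_mul_le (by have := hp.one_lt; omega)]
    have h5 : (0 : ℤ) ≤ p * ((n : ℤ) - (p - 1) * j) := by
      have h6 : (n : ℤ) + ((p : ℤ) - 1) * z = p * ((n : ℤ) - (p - 1) * j) := by
        rw [hzj]
        ring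
      rw [← h6]
      exact hlow
    have h6 : (0 : ℤ) ≤ (n : ℤ) - (p - 1) * j := nonneg_of_mul_nonneg_right h5 hp0
    zify [hp1]
    linarith
  rw [map_prod]
  apply Finset.prod_eq_zero (Finset.mem_Icc.mpr ⟨hj1, hjm⟩)
  rw [map_sub, Polynomial.aeval_X, Polynomial.aeval_C, hz, hzj]
  simp

/-- Let the finite group G have a faithful p-rational character χ of degree n (all values of χ lie in the field generated over ℚ by a root of unity of order prime to p), and let p^a be the order of a Sylow p-subgroup of G. Then a ≤ Σ_{i ≥ 0} ⌊n / ((p − 1)·p^i)⌋ (a finite sum; the terms vanish once (p − 1)p^i > n). -/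
theorem result {G : Type*} [Group G] [Finite G] (p : ℕ) (hp : p.Prime) (χ : G → ℂ) (hχ : Cfsg.IsCharacter G χ) (hfaith : ∀ g : G, χ g = χ 1 → g = 1) (hrat : (∃ r : ℕ, 0 < r ∧ ¬ p ∣ r ∧ ∀ g : G, χ g ∈ IntermediateField.adjoin ℚ ({Complex.exp (2 * Real.pi * Complex.I / r)} : Set ℂ))) (n : ℕ) (hn : Cfsg.charDegree χ = n) : (Nat.card G).factorization p ≤ ∑ i ∈ Finset.range (n + 1), n / ((p - 1) * p ^ i) := by
  classical
  obtain ⟨r, hr, hpr, hrat⟩ := hrat
  have hn1 : χ 1 = (n : ℂ) := by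
    obtain ⟨d, hd⟩ := isCharacter_apply_one hχ
    have h1 : Cfsg.charDegree χ = d := Cfsg.Agent.Lib.H23.charDegree_eq_of_apply_one hd
    rw [hd, ← hn, h1]
  have : Fact p.Prime := ⟨hp⟩
  obtain ⟨P⟩ : Nonempty (Sylow p G) := inferInstance
  have hPcard : Nat.card P = p ^ (Nat.card G).factorization p := Sylow.card_eq_multiplicity P
  set a := (Nat.card G).factorization p with ha
  set m := n / (p - 1) with hm
  have : Fintype (P : Subgroup G) := Fintype.ofFinite _
  set f : Polynomial ℤ := ∏ j ∈ Finset.Icc 1 m,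
    (Polynomial.X - Polynomial.C ((n : ℤ) - p * j)) with hf
  have hval : ∀ u : (P : Subgroup G), u ≠ 1 → Polynomial.aeval (χ u) f = 0 := by
    intro u hu
    have hu1 : (u : G) ≠ 1 := fun h => hu (Subtype.ext h)
    obtain ⟨k, hk⟩ : ∃ k, orderOf (u : G) = p ^ k := by
      obtain ⟨k, hk⟩ := (IsPGroup.iff_orderOf.mp P.isPGroup') u
      exact ⟨k, by rw [← hk, Subgroup.orderOf_coe]⟩
    exact aeval_eq_zero p hp χ hχ hfaith r hr hpr hrat n hn1 (u : G) k hk hu1
  have hsum : ∑ u : (P : Subgroup G), Polynomial.aeval (χ u) f = ((p ^ m * m.factorial : ℕ) : ℂ) := by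
    rw [Finset.sum_eq_single (1 : (P : Subgroup G)) (fun u _ hu => hval u hu)
      (fun h => absurd (Finset.mem_univ _) h)]
    rw [hf, map_prod, Subgroup.coe_one, hn1]
    have h1 : ∀ j ∈ Finset.Icc 1 m, Polynomial.aeval (n : ℂ)
        (Polynomial.X - Polynomial.C ((n : ℤ) - p * j) : Polynomial ℤ) = ((p * j : ℕ) : ℂ) := by
      intro j _
      rw [map_sub, Polynomial.aeval_X, Polynomial.aeval_C]
      simp
    have hfact : ∏ x ∈ Finset.Icc 1 m, x = m.factorial := by
      rw [← Finset.Ico_add_one_right_eq_Icc, Finset.prod_Ico_id_eq_factorial]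
    rw [Finset.prod_congr rfl h1, ← Nat.cast_prod, Finset.prod_mul_distrib, Finset.prod_const,
      Nat.card_Icc, hfact]
    simp
  have hint := isIntegral_average_aeval hχ (P : Subgroup G) f
  rw [hsum, hPcard] at hint
  have hdvd : p ^ a ∣ p ^ m * m.factorial := by
    set q : ℚ := ((p ^ m * m.factorial : ℕ) : ℚ) / ((p ^ a : ℕ) : ℚ) with hq
    have hq' : (((p ^ a : ℕ) : ℂ))⁻¹ * ((p ^ m * m.factorial : ℕ) : ℂ) = algebraMap ℚ ℂ q := by
      rw [hq, map_div₀, map_natCast, map_natCast]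
      ring
    rw [hq'] at hint
    have hint' : IsIntegral ℤ q :=
      (isIntegral_algebraMap_iff (algebraMap ℚ ℂ).injective).mp hint
    obtain ⟨t, ht⟩ := IsIntegrallyClosed.isIntegral_iff.mp hint'
    have hpa : ((p ^ a : ℕ) : ℚ) ≠ 0 := by
      have := hp.pos
      positivity
    have h2 : ((p ^ m * m.factorial : ℕ) : ℚ) = ((p ^ a : ℕ) : ℚ) * (t : ℚ) := by
      have h3 : (algebraMap ℤ ℚ t) = (t : ℚ) := rfl
      rw [h3] at ht
      rw [ht, hq]
      field_simp
    have h4 : ((p ^ m * m.factorial : ℕ) : ℤ) = ((p ^ a : ℕ) : ℤ) * t := by exact_mod_cast h2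
    have h5 : ((p ^ a : ℕ) : ℤ) ∣ ((p ^ m * m.factorial : ℕ) : ℤ) := ⟨t, h4⟩
    exact_mod_cast h5
  have hne : p ^ m * m.factorial ≠ 0 := Nat.mul_ne_zero (pow_ne_zero _ hp.ne_zero) (Nat.factorial_ne_zero m)
  have hle : a ≤ (p ^ m * m.factorial).factorization p :=
    (hp.pow_dvd_iff_le_factorization hne).mp hdvd
  have hfac : (p ^ m * m.factorial).factorization p = m + ∑ i ∈ Finset.Ico 1 (n + 1), m / p ^ i := by
    rw [Nat.factorization_mul (pow_ne_zero _ hp.ne_zero) (Nat.factorial_ne_zero m),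
      Finsupp.add_apply, Nat.Prime.factorization_pow hp, Finsupp.single_eq_same]
    congr 1
    apply Nat.factorization_factorial hp
    calc Nat.log p m ≤ m := Nat.log_le_self p m
      _ ≤ n := Nat.div_le_self n (p - 1)
      _ < n + 1 := Nat.lt_succ_self n
  have htarget : ∑ i ∈ Finset.range (n + 1), n / ((p - 1) * p ^ i) =
      m + ∑ i ∈ Finset.Ico 1 (n + 1), m / p ^ i := by
    rw [Finset.range_eq_Ico, Finset.sum_eq_sum_Ico_succ_bot (Nat.succ_pos n)]
    congr 1
    · rw [pow_zero, mul_one]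
    · refine Finset.sum_congr rfl fun i _ => ?_
      rw [hm, Nat.div_div_eq_div_mul]
  rw [htarget, ← hfac]
  exact hle

end Cfsg.Agent.S4488
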