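import Cfsg.Statements.S4489
import Cfsg.Agent.Lib.H26.PFldI

set_option autoImplicit false
open Cfsg

namespace Cfsg.Agent.S4489

/-- Let P be a finite p-group of order p^a with a > 0, and χ a faithful irreducible character of P of degree f whose field of values ℚ(χ) has degree (p − 1)·p^t over ℚ. Then a ≤ (f − 1)/(p − 1) + (t + 1)·f; in integer form, (p − 1)·a ≤ (f − 1) + (p − 1)(t + 1)·f. -/
theorem result {P : Type*} [Group P] [Finite P] (p a : ℕ) (hp : p.Prime) (ha : 0 < a) (hP : Nat.card P = p ^ a) (χ : Cfsg.IrrCharacter P) (hfaith : ∀ g : P, (χ : P → ℂ) g = (χ : P → ℂ) 1 → g = 1) (f t : ℕ) (hf : Cfsg.charDegree (χ : P → ℂ) = f) (hfield : Module.finrank ℚ (IntermediateField.adjoin ℚ (Set.range (χ : P → ℂ))) = (p - 1) * p ^ t) : (p - 1) * a ≤ (f - 1) + (p - 1) * (t + 1) * f := by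
  classical
  have : Fintype P := Fintype.ofFinite P
  have hPg : IsPGroup p P := IsPGroup.of_card hP
  open Cfsg.Agent.Lib.H26.PFld Cfsg.Agent.Lib.H24.PGalConj in
  -- the kernel is trivial
  have hkerbot : ker χ = ⊥ := by
    rw [eq_bot_iff]
    intro g hg
    exact (Subgroup.mem_bot).mpr (hfaith g hg)
  have hker : ker χ ≠ ⊤ := by
    intro htop
    rw [hkerbot] at htop
    have h1 : Nat.card P = 1 := by
      rw [← Subgroup.card_top (G := P), ← htop, Subgroup.card_bot]
    rw [hP] at h1
    have : a = 0 := by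
      rcases Nat.eq_zero_or_pos a with h | h
      · exact h
      · exfalso
        have := Nat.one_lt_pow h.ne' hp.one_lt
        omega
    omega
  have hidx : (ker χ).index = p ^ a := by
    rw [hkerbot, Subgroup.index_bot, hP]
  obtain ⟨j, hj⟩ := exists_ncard_gorb_irr p a hp hP χ hker
  have hle := ncard_gorb_le_finrank p a hP (Cfsg.Agent.Lib.L0.isCharacter_of_irr χ.2)
  rw [hj, hfield] at hle
  have hp1 : 0 < p - 1 := Nat.sub_pos_of_lt hp.one_lt
  have hjt : j ≤ t := by
    have : p ^ j ≤ p ^ t := Nat.le_of_mul_le_mul_left hle hp1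
    exact (Nat.pow_le_pow_iff_right hp.one_lt).mp this
  have hmain := main_aux (Nat.card P) P rfl p hp hPg χ hker a j f hidx hj hf
  calc (p - 1) * a ≤ (f - 1) + (p - 1) * (j + 1) * f := hmain
    _ ≤ (f - 1) + (p - 1) * (t + 1) * f := by
      apply Nat.add_le_add_left
      apply Nat.mul_le_mul_right
      apply Nat.mul_le_mul_left
      omega

end Cfsg.Agent.S4489
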