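import Cfsg.Statements.S4517
import Cfsg.Agent.Lib.L0.SigmaBlock2

set_option autoImplicit false
open Cfsg

namespace Cfsg.Agent.S4517

open Cfsg.Agent.Lib.H23 Cfsg.Agent.Lib.H24 Cfsg.Agent.Lib.L0 Cfsg.Agent.Lib.L0.SigmaBlock2
  Cfsg.Agent.Lib.L0.PrincipalCrit Cfsg.Agent.S4664

/-- A block containing the trivial character is the principal block. -/
theorem blockOf_eq_principalBlock {G : Type*} [Group G] [Fintype G] {M : Ideal AlgInt}
    [M.IsPrime] (χ₁ : IrrCharacter G) (h : trivIrr G ∈ blockOf M (χ₁ : G → ℂ)) :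
    blockOf M (χ₁ : G → ℂ) = principalBlock M G := by
  ext ψ
  constructor
  · intro hψ
    exact sameBlock_trans (sameBlock_symm h) hψ
  · intro hψ
    exact sameBlock_trans h hψ

/-- Let G be a finite group, M a maximal ideal of the algebraic integers containing 2, and k a natural number coprime to the order of G with g ^ k = g⁻¹ for every element g of odd order (so that g ↦ g ^ k induces a field automorphism of the character values inverting the roots of unity of odd order). If B is a 2-block of full defect (its defect equals the exponent of 2 in the order of G) that is stable under χ ↦ χ ∘ (· ^ k), then B is the principal 2-block. -/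
theorem result {G : Type*} [Group G] [Finite G] (M : Ideal Cfsg.AlgInt) (hM : Cfsg.IsPModular 2 M) (k : ℕ) (hk : Nat.Coprime k (Nat.card G)) (hk₂ : ∀ g : G, Odd (orderOf g) → g ^ k = g⁻¹) (B : Set (Cfsg.IrrCharacter G)) (hB : Cfsg.IsPBlock M B) (hdef : Cfsg.blockDefect 2 B = (Nat.card G).factorization 2) (hstab : ∀ χ ∈ B, ∃ ψ ∈ B, ∀ g : G, (ψ : G → ℂ) g = (χ : G → ℂ) (g ^ k)) : B = Cfsg.principalBlock M G := by
  classical
  haveI := Fintype.ofFinite G
  haveI hPr := isPrime_of_isPModular hM
  haveI : Fact (Nat.Prime 2) := ⟨Nat.prime_two⟩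
  obtain ⟨χ₁, rfl⟩ := hB
  have hstab' : ∀ χ ∈ blockOf M (χ₁ : G → ℂ), gc k hk χ ∈ blockOf M (χ₁ : G → ℂ) := by
    intro χ hχ
    obtain ⟨ψ, hψ, hψχ⟩ := hstab χ hχ
    have : ψ = gc k hk χ := by
      apply Subtype.ext
      funext g
      rw [hψχ g, gc_apply]
    rwa [← this]
  exact blockOf_eq_principalBlock χ₁ (trivIrr_mem_of_stable hM k hk hk₂ χ₁ hdef hstab')

end Cfsg.Agent.S4517
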