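import Cfsg.Statements.S4490
import Cfsg.Agent.S4517
import Cfsg.Agent.Lib.H23.BlockDefect

set_option autoImplicit false
open Cfsg

namespace Cfsg.Agent.S4490

open Cfsg.Agent.Lib.H23 Cfsg.Agent.Lib.H24 Cfsg.Agent.Lib.L0 Cfsg.Agent.Lib.L0.SigmaBlock2
  Cfsg.Agent.Lib.L0.PrincipalCrit Cfsg.Agent.S4664
open scoped ComplexConjugate

/-- Let G be a finite group and M a maximal ideal of the algebraic integers containing 2. Every 2-block B of G whose defect groups are the Sylow 2-subgroups of G (a block of full defect) and which is not the principal block is different from its complex-conjugate block, the block formed by the complex conjugates of the members of B. -/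
theorem result {G : Type*} [Group G] [Finite G] (M : Ideal Cfsg.AlgInt) (hM : Cfsg.IsPModular 2 M) (B : Set (Cfsg.IrrCharacter G)) (hB : Cfsg.IsPBlock M B) (P : Sylow 2 G) (hfull : Cfsg.IsDefectGroup 2 M B (P : Subgroup G)) (hnp : B ≠ Cfsg.principalBlock M G) : {ψ : Cfsg.IrrCharacter G | ∃ χ ∈ B, (ψ : G → ℂ) = fun g => (starRingEnd ℂ) ((χ : G → ℂ) g)} ≠ B := by
  classical
  haveI := Fintype.ofFinite G
  haveI hPr := isPrime_of_isPModular hM
  haveI : Fact (Nat.Prime 2) := ⟨Nat.prime_two⟩
  obtain ⟨χ₁, rfl⟩ := hB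
  intro heq
  apply hnp
  -- the exponent k = |G| - 1
  have hGpos : 0 < Nat.card G := Nat.card_pos
  set k := Nat.card G - 1 with hk
  have hkcop : k.Coprime (Nat.card G) := by
    have : Nat.card G = k + 1 := by omega
    rw [this]
    simp
  have hpow : ∀ g : G, g ^ k = g⁻¹ := by
    intro g
    rw [eq_inv_iff_mul_eq_one, ← pow_succ]
    have : k + 1 = Nat.card G := by omega
    rw [this]
    exact pow_card_eq_one'
  -- full defect
  have hdef : blockDefect 2 (blockOf M (χ₁ : G → ℂ)) = (Nat.card G).factorization 2 := by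
    have h1 := card_defectGroup hM χ₁ (P : Subgroup G) hfull
    have h2 : Nat.card (P : Subgroup G) = 2 ^ (Nat.card G).factorization 2 :=
      P.card_eq_multiplicity
    rw [h2] at h1
    exact (Nat.pow_right_injective (le_refl 2) h1).symm
  have hstab : ∀ χ ∈ blockOf M (χ₁ : G → ℂ), gc k hkcop χ ∈ blockOf M (χ₁ : G → ℂ) := by
    intro χ hχ
    rw [← heq]
    refine ⟨χ, hχ, ?_⟩
    funext g
    rw [gc_apply, hpow, irr_inv]
  exact Cfsg.Agent.S4517.blockOf_eq_principalBlock χ₁
    (trivIrr_mem_of_stable hM k hkcop (fun g _ => hpow g) χ₁ hdef hstab)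

end Cfsg.Agent.S4490
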