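import Cfsg.Statements.S4491
import Cfsg.Agent.Lib.L0.TildeChar

set_option autoImplicit false
open Cfsg

namespace Cfsg.Agent.S4491

open Cfsg.Agent.Lib.H23 Cfsg.Agent.Lib.H24 Cfsg.Agent.Lib.L0 Cfsg.Agent.Lib.L0.Tilde
  Cfsg.Agent.Lib.L0.BlockMinMax
open scoped ComplexConjugate

theorem finsum_mem_eq_sum_ite_nat {ι : Type*} [Fintype ι] (B : Set ι) [DecidablePred (· ∈ B)]
    (f : ι → ℕ) : ∑ᶠ i ∈ B, f i = ∑ i, if i ∈ B then f i else 0 := by
  rw [finsum_mem_eq_finite_toFinset_sum _ (Set.toFinite B), ← Finset.sum_filter]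
  congr 1
  ext i
  simp

/-- Let B be a p-block of defect d of the finite group G (relative to a maximal ideal M of the algebraic integers containing p), and let p^a be the p-part of the order of G. Then the exact power of p dividing the sum of the squares of the degrees of the irreducible characters in B is p^(2a − d). -/
theorem result {G : Type*} [Group G] [Finite G] (p : ℕ) [Fact p.Prime] (M : Ideal Cfsg.AlgInt) (hM : Cfsg.IsPModular p M) (B : Set (Cfsg.IrrCharacter G)) (hB : Cfsg.IsPBlock M B) : (∑ᶠ χ ∈ B, Cfsg.charDegree (χ : G → ℂ) ^ 2).factorization p = 2 * (Nat.card G).factorization p - Cfsg.blockDefect p B := by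
  classical
  haveI := Fintype.ofFinite G
  haveI := Fintype.ofFinite (IrrCharacter G)
  haveI hP := isPrime_of_isPModular hM
  have hp : p.Prime := Fact.out
  obtain ⟨χ₀, rfl⟩ := hB
  set B := blockOf M (χ₀ : G → ℂ) with hBdef
  obtain ⟨P⟩ : Nonempty (Sylow p G) := inferInstance
  set a := (Nat.card G).factorization p with ha
  set e := minDeg p B with he
  have hea : e ≤ a := minDeg_le_card (p := p) (M := M) χ₀
  have hd : blockDefect p B = a - e := rfl
  -- same-block bookkeeping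
  have hsame : ∀ χ ψ : IrrCharacter G, χ ∈ B → ψ ∈ B →
      SameBlock M (χ : G → ℂ) (ψ : G → ℂ) := fun χ ψ hχ hψ =>
    sameBlock_trans (sameBlock_symm hχ) hψ
  have hA0 : ∀ χ ψ : IrrCharacter G, χ ∈ B → ψ ∉ B → AA p (χ : G → ℂ) (ψ : G → ℂ) = 0 := by
    intro χ ψ hχ hψ
    refine AA_eq_zero_of_not_sameBlock hM χ ψ fun h => hψ ?_
    exact sameBlock_trans hχ h
  have hA0' : ∀ χ ψ : IrrCharacter G, χ ∉ B → ψ ∈ B → AA p (χ : G → ℂ) (ψ : G → ℂ) = 0 := by
    intro χ ψ hχ hψ
    refine AA_eq_zero_of_not_sameBlock hM χ ψ fun h => hχ ?_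
    exact sameBlock_trans hψ (sameBlock_symm h)
  set n : IrrCharacter G → ℕ := sylowMult P with hn
  have hdeg : ∀ χ : IrrCharacter G, (χ : G → ℂ) 1 = (charDegree (χ : G → ℂ) : ℂ) :=
    fun χ => apply_one_eq_charDegree _ χ.2
  -- the complex identity
  have hkey : ∑ ψ : IrrCharacter G, (if ψ ∈ B then (ψ : G → ℂ) 1 * (ψ : G → ℂ) 1 else 0) =
      ((p ^ a : ℕ) : ℂ) *
        ∑ χ : IrrCharacter G, (if χ ∈ B then (n χ : ℂ) * (χ : G → ℂ) 1 else 0) := by
    calc ∑ ψ : IrrCharacter G, (if ψ ∈ B then (ψ : G → ℂ) 1 * (ψ : G → ℂ) 1 else 0)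
        = ∑ ψ : IrrCharacter G, ∑ χ : IrrCharacter G,
            (if χ ∈ B then (if ψ ∈ B then
              (n χ : ℂ) * (AA p (χ : G → ℂ) (ψ : G → ℂ) * (ψ : G → ℂ) 1) else 0) else 0) := by
          refine Finset.sum_congr rfl fun ψ _ => ?_
          by_cases hψ : ψ ∈ B
          · rw [if_pos hψ]
            have hs := sum_sylowMult_mul_AA P ψ
            have : (ψ : G → ℂ) 1 * (ψ : G → ℂ) 1 =
                (∑ χ : IrrCharacter G, (sylowMult P χ : ℂ) * AA p (χ : G → ℂ) (ψ : G → ℂ)) *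
                  (ψ : G → ℂ) 1 := by rw [hs]
            rw [this, Finset.sum_mul]
            refine Finset.sum_congr rfl fun χ _ => ?_
            by_cases hχ : χ ∈ B
            · rw [if_pos hχ, if_pos hψ]; ring
            · rw [if_neg hχ, hA0' χ ψ hχ hψ]; ring
          · rw [if_neg hψ]
            symm
            refine Finset.sum_eq_zero fun χ _ => ?_
            split_ifs <;> rfl
      _ = ∑ χ : IrrCharacter G, ∑ ψ : IrrCharacter G,
            (if χ ∈ B then (if ψ ∈ B then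
              (n χ : ℂ) * (AA p (χ : G → ℂ) (ψ : G → ℂ) * (ψ : G → ℂ) 1) else 0) else 0) :=
          Finset.sum_comm
      _ = ∑ χ : IrrCharacter G, (if χ ∈ B then
            (n χ : ℂ) * (((p ^ a : ℕ) : ℂ) * (χ : G → ℂ) 1) else 0) := by
          refine Finset.sum_congr rfl fun χ _ => ?_
          by_cases hχ : χ ∈ B
          · simp only [if_pos hχ]
            rw [← sum_AA_mul_degree hp χ, Finset.mul_sum]
            refine Finset.sum_congr rfl fun ψ _ => ?_
            by_cases hψ : ψ ∈ B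
            · rw [if_pos hψ]
            · rw [if_neg hψ, hA0 χ ψ hχ hψ]; ring
          · simp only [if_neg hχ]
            exact Finset.sum_const_zero
      _ = ((p ^ a : ℕ) : ℂ) *
            ∑ χ : IrrCharacter G, (if χ ∈ B then (n χ : ℂ) * (χ : G → ℂ) 1 else 0) := by
          rw [Finset.mul_sum]
          refine Finset.sum_congr rfl fun χ _ => ?_
          split_ifs
          · ring
          · ring
  -- the identity in ℕ
  have hkeyN : ∑ ψ : IrrCharacter G, (if ψ ∈ B then charDegree (ψ : G → ℂ) ^ 2 else 0) =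
      p ^ a * ∑ χ : IrrCharacter G, (if χ ∈ B then n χ * charDegree (χ : G → ℂ) else 0) := by
    have : ((∑ ψ : IrrCharacter G, (if ψ ∈ B then charDegree (ψ : G → ℂ) ^ 2 else 0) : ℕ) : ℂ) =
        ((p ^ a * ∑ χ : IrrCharacter G,
          (if χ ∈ B then n χ * charDegree (χ : G → ℂ) else 0) : ℕ) : ℂ) := by
      have h1 := hkey
      simp only [hdeg] at h1
      have e1 : ((∑ ψ : IrrCharacter G,
          (if ψ ∈ B then charDegree (ψ : G → ℂ) ^ 2 else 0) : ℕ) : ℂ) =
          ∑ ψ : IrrCharacter G, (if ψ ∈ B then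
            (charDegree (ψ : G → ℂ) : ℂ) * (charDegree (ψ : G → ℂ) : ℂ) else 0) := by
        rw [Nat.cast_sum]
        refine Finset.sum_congr rfl fun ψ _ => ?_
        split_ifs
        · push_cast; ring
        · simp
      have e2 : ((p ^ a * ∑ χ : IrrCharacter G,
          (if χ ∈ B then n χ * charDegree (χ : G → ℂ) else 0) : ℕ) : ℂ) =
          ((p ^ a : ℕ) : ℂ) * ∑ χ : IrrCharacter G, (if χ ∈ B then
            (n χ : ℂ) * (charDegree (χ : G → ℂ) : ℂ) else 0) := by
        rw [Nat.cast_mul, Nat.cast_sum]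
        congr 1
        refine Finset.sum_congr rfl fun ψ _ => ?_
        split_ifs
        · push_cast; ring
        · simp
      rw [e1, e2, h1]
    exact_mod_cast this
  -- degrees in the block are divisible by `p ^ e`
  have hdvd : ∀ χ : IrrCharacter G, χ ∈ B → p ^ e ∣ charDegree (χ : G → ℂ) := by
    intro χ hχ
    have h1 : e ≤ (charDegree (χ : G → ℂ)).factorization p := minDeg_le (p := p) χ₀ hχ
    exact (pow_dvd_pow p h1).trans (Nat.ordProj_dvd _ _)
  set t : IrrCharacter G → ℕ := fun χ => charDegree (χ : G → ℂ) / p ^ e with ht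
  have hte : ∀ χ : IrrCharacter G, χ ∈ B → charDegree (χ : G → ℂ) = p ^ e * t χ := by
    intro χ hχ
    rw [ht]
    exact (Nat.mul_div_cancel' (hdvd χ hχ)).symm
  set N : ℕ := ∑ χ : IrrCharacter G, (if χ ∈ B then n χ * t χ else 0) with hN
  have hsumN : ∑ χ : IrrCharacter G, (if χ ∈ B then n χ * charDegree (χ : G → ℂ) else 0) =
      p ^ e * N := by
    rw [hN, Finset.mul_sum]
    refine Finset.sum_congr rfl fun χ _ => ?_
    by_cases hχ : χ ∈ B
    · rw [if_pos hχ, if_pos hχ]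
      conv_lhs => rw [hte χ hχ]
      ring
    · rw [if_neg hχ, if_neg hχ, mul_zero]
  -- `p ∤ N`
  have hNp : ¬ p ∣ N := by
    intro hpN
    -- a character of height zero
    have hVne : ((fun χ : IrrCharacter G =>
        (charDegree (χ : G → ℂ)).factorization p) '' B).Nonempty :=
      ⟨_, χ₀, mem_blockOf_self χ₀, rfl⟩
    obtain ⟨ψ₀, hψ₀, hψ₀e⟩ := Nat.sInf_mem hVne
    simp only at hψ₀e
    have hψ₀e' : (charDegree (ψ₀ : G → ℂ)).factorization p = e := hψ₀e
    have hdeg0 : charDegree (ψ₀ : G → ℂ) ≠ 0 := (charDegree_pos _ ψ₀.2).ne'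
    have htψ₀ : ¬ p ∣ t ψ₀ := by
      rw [ht]
      simp only
      rw [← hψ₀e']
      exact Nat.not_dvd_ordCompl hp hdeg0
    set m' := Nat.card G / p ^ a with hm'
    have hm'p : ¬ p ∣ m' := Nat.not_dvd_ordCompl hp Nat.card_pos.ne'
    set z₀ := regElt p (ψ₀ : G → ℂ) with hz₀
    have hz₀c : z₀ ∈ Subalgebra.center ℂ (MonoidAlgebra ℂ G) :=
      regElt_mem_center p (irr_isClassFunction ψ₀)
    have hz₀i : z₀ ∈ intCoeff (G := G) M := regElt_mem_intCoeff p ψ₀
    set s := omega (ψ₀ : G → ℂ) z₀ with hs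
    have hsR : MemLocalRing M s := omega_memLocalRing ψ₀ hz₀c hz₀i
    -- the equation `t ψ₀ * m' = ∑ n χ t χ ω_χ(z₀)`
    have h1 : (charDegree (ψ₀ : G → ℂ) : ℂ) * (m' : ℂ) =
        ∑ χ : IrrCharacter G, (if χ ∈ B then
          (n χ : ℂ) * ((charDegree (χ : G → ℂ) : ℂ) * omega (χ : G → ℂ) z₀) else 0) := by
      rw [← hdeg ψ₀, ← sum_sylowMult_mul_AA P ψ₀, Finset.sum_mul]
      refine Finset.sum_congr rfl fun χ _ => ?_
      by_cases hχ : χ ∈ B
      · rw [if_pos hχ, mul_assoc, AA_mul_ordCompl hp χ, hdeg χ]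
      · rw [if_neg hχ, hA0' χ ψ₀ hχ hψ₀]; ring
    have hpe : ((p ^ e : ℕ) : ℂ) ≠ 0 := by exact_mod_cast (pow_pos hp.pos e).ne'
    have h2 : (t ψ₀ : ℂ) * (m' : ℂ) =
        ∑ χ : IrrCharacter G, (if χ ∈ B then
          (n χ : ℂ) * ((t χ : ℂ) * omega (χ : G → ℂ) z₀) else 0) := by
      apply mul_left_cancel₀ hpe
      have e1 : ((p ^ e : ℕ) : ℂ) * ((t ψ₀ : ℂ) * (m' : ℂ)) =
          (charDegree (ψ₀ : G → ℂ) : ℂ) * (m' : ℂ) := by
        rw [hte ψ₀ hψ₀]; push_cast; ring
      rw [e1, h1, Finset.mul_sum]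
      refine Finset.sum_congr rfl fun χ _ => ?_
      by_cases hχ : χ ∈ B
      · rw [if_pos hχ, if_pos hχ]
        conv_lhs => rw [hte χ hχ]
        push_cast; ring
      · rw [if_neg hχ, if_neg hχ, mul_zero]
    have h3 : MemLocalIdeal M ((t ψ₀ : ℂ) * (m' : ℂ) - s * (N : ℂ)) := by
      have e2 : (t ψ₀ : ℂ) * (m' : ℂ) - s * (N : ℂ) =
          ∑ χ : IrrCharacter G, (if χ ∈ B then
            ((n χ : ℂ) * (t χ : ℂ)) * (omega (χ : G → ℂ) z₀ - s) else 0) := by
        rw [h2, hN]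
        push_cast
        rw [Finset.mul_sum, ← Finset.sum_sub_distrib]
        refine Finset.sum_congr rfl fun χ _ => ?_
        by_cases hχ : χ ∈ B
        · rw [if_pos hχ, if_pos hχ, if_pos hχ]; ring
        · rw [if_neg hχ, if_neg hχ, if_neg hχ]; ring
      rw [e2]
      refine memLocalIdeal_sum _ _ fun χ _ => ?_
      by_cases hχ : χ ∈ B
      · rw [if_pos hχ]
        refine memLocalIdeal_mul_left ?_ (omega_sub_memLocalIdeal (hsame χ ψ₀ hχ hψ₀) hz₀c hz₀i)
        exact memLocalRing_mul (natCast_mem_localRing _) (natCast_mem_localRing _)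
      · rw [if_neg hχ]; exact memLocalIdeal_zero hP.ne_top
    have h4 : MemLocalIdeal M (s * (N : ℂ)) :=
      memLocalIdeal_mul_left hsR ((natCast_memLocalIdeal_iff hM N).mpr hpN)
    have h5 := memLocalIdeal_add h3 h4
    rw [sub_add_cancel] at h5
    have h6 : MemLocalIdeal M ((t ψ₀ * m' : ℕ) : ℂ) := by push_cast; exact h5
    have h7 := (natCast_memLocalIdeal_iff hM _).mp h6
    rcases (Nat.Prime.dvd_mul hp).mp h7 with h | h
    · exact htψ₀ h
    · exact hm'p h
  have hN0 : N ≠ 0 := fun h => hNp (h ▸ dvd_zero p)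
  rw [finsum_mem_eq_sum_ite_nat, hkeyN, hsumN, hd]
  rw [Nat.factorization_mul (pow_pos hp.pos a).ne' (mul_ne_zero (pow_pos hp.pos e).ne' hN0),
    Nat.factorization_mul (pow_pos hp.pos e).ne' hN0]
  simp only [Finsupp.add_apply, hp.factorization_pow, Finsupp.single_eq_same,
    Nat.factorization_eq_zero_of_not_dvd hNp]
  omega

end Cfsg.Agent.S4491
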