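import Cfsg.Statements.S4493
import Mathlib
import Cfsg.Agent.S0855
import Cfsg.Agent.Lib.H23.ClassBound
import Cfsg.Agent.Lib.H23.CliffordCorr
import Cfsg.Agent.Lib.H23.Ito
import Cfsg.Agent.Lib.H23.DegreeDvd
import Cfsg.Agent.Lib.H23.FullyRamified
import Cfsg.Agent.Lib.H3.PrimSolv
import Cfsg.Agent.Lib.H3.Wielandt
import Cfsg.Agent.Lib.H24.CharOrth
import Cfsg.Agent.Lib.H24.CharAbelian
import Cfsg.Agent.Lib.L0.CharLinear
import Cfsg.Agent.Lib.L0.CharOps

set_option autoImplicit false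
open Cfsg

namespace Cfsg.Agent.S4493

open Cfsg.Agent.Lib.H24 Cfsg.Agent.Lib.L0 Cfsg.Agent.Lib.H23 Cfsg.Agent.Lib.H3

/-- The index of the inertia group divides the degree of any irreducible character above. -/
theorem index_inertia_dvd_degree {G : Type*} [Group G] [Fintype G] (N : Subgroup G)
    [hN : N.Normal] [Fintype N] (lam : N → ℂ) (hlam : IsIrrCharacter N lam) (χ : G → ℂ)
    (hχ : IsIrrCharacter G χ) (hcon : classInner (fun n : N => χ n) lam ≠ 0) :
    (Cfsg.Agent.Lib.H23.inertia N lam).index ∣ charDegree χ := by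
  classical
  set T : Subgroup G := Cfsg.Agent.Lib.H23.inertia N lam with hT
  have : Fintype T := Fintype.ofFinite _
  have hNT : N ≤ T := le_inertia N (isClassFunction_of_isCharacter (isCharacter_of_irr hlam))
  obtain ⟨ψ, hψ, hind, -⟩ := clifford_correspondence N T hNT lam hlam (fun g => Iff.rfl) χ hχ hcon
  have h1 : χ 1 = ((T.index * charDegree ψ : ℕ) : ℂ) := by
    rw [← hind, indFun_one', apply_one_eq_charDegree ψ hψ]
    push_cast
    rfl
  rw [charDegree_eq_of_apply_one h1]
  exact Dvd.intro _ rfl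

/-- Inflation of an irreducible character of a quotient keeps the degree. -/
theorem not_dvd_degree_quotient {G : Type*} [Group G] [Finite G] (p : ℕ) (M : Subgroup G)
    [M.Normal] (hdeg : ∀ χ : IrrCharacter G, ¬ p ∣ charDegree (χ : G → ℂ)) :
    ∀ ψ : IrrCharacter (G ⧸ M), ¬ p ∣ charDegree (ψ : G ⧸ M → ℂ) := by
  intro ψ
  have h1 : IsIrrCharacter G ((ψ : G ⧸ M → ℂ) ∘ (QuotientGroup.mk' M)) :=
    isIrrCharacter_comp_of_surjective _ (QuotientGroup.mk'_surjective M) ψ.2
  have h2 := hdeg ⟨_, h1⟩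
  have h3 : charDegree ((ψ : G ⧸ M → ℂ) ∘ (QuotientGroup.mk' M)) = charDegree (ψ : G ⧸ M → ℂ) := by
    unfold charDegree
    simp
  rw [← h3]
  exact h2

/-- The hypothesis passes to normal subgroups. -/
theorem not_dvd_degree_normal {G : Type*} [Group G] [Finite G] (p : ℕ) (N : Subgroup G)
    [hN : N.Normal] (hdeg : ∀ χ : IrrCharacter G, ¬ p ∣ charDegree (χ : G → ℂ)) :
    ∀ ψ : IrrCharacter N, ¬ p ∣ charDegree (ψ : N → ℂ) := by
  classical
  have := Fintype.ofFinite G
  have := Fintype.ofFinite N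
  intro ψ hdvd
  obtain ⟨χ, hχ, hc⟩ := Cfsg.Agent.S0855.exists_irr_over N ψ.1 ψ.2
  have h1 := Cfsg.Agent.S0855.degree_dvd_of_over N χ hχ ψ.1 ψ.2 hc _ _
    (apply_one_eq_charDegree χ hχ) (apply_one_eq_charDegree ψ.1 ψ.2)
  exact hdeg ⟨χ, hχ⟩ (dvd_trans hdvd h1)

/-- If `G = P M` with `M` an abelian normal subgroup and all degrees prime to `p`, then the Sylow
`p`-subgroup `P` centralizes `M`. -/
theorem centralizes_of_sup_eq_top {G : Type*} [Group G] [Finite G] (p : ℕ) [Fact p.Prime]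
    (hdeg : ∀ χ : IrrCharacter G, ¬ p ∣ charDegree (χ : G → ℂ)) (M : Subgroup G) [hM : M.Normal]
    (hMc : ∀ x ∈ M, ∀ y ∈ M, x * y = y * x) (P : Sylow p G)
    (htop : (P : Subgroup G) ⊔ M = ⊤) :
    ∀ x ∈ (P : Subgroup G), ∀ n ∈ M, x * n * x⁻¹ = n := by
  classical
  have := Fintype.ofFinite G
  have := Fintype.ofFinite M
  have hMc' : ∀ a b : M, a * b = b * a := fun a b => Subtype.ext (hMc a a.2 b b.2)
  have hA : ∀ lam : IrrCharacter M, ∀ x ∈ (P : Subgroup G),
      x ∈ Cfsg.Agent.Lib.H23.inertia M (lam : M → ℂ) := by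
    intro lam
    set T := Cfsg.Agent.Lib.H23.inertia M (lam : M → ℂ) with hT
    have hMT : M ≤ T :=
      le_inertia M (isClassFunction_of_isCharacter (isCharacter_of_irr lam.2))
    obtain ⟨χ, hχ, hc⟩ := Cfsg.Agent.S0855.exists_irr_over M lam.1 lam.2
    have hidx : ¬ p ∣ T.index := fun h =>
      hdeg ⟨χ, hχ⟩ (dvd_trans h (index_inertia_dvd_degree M lam.1 lam.2 χ hχ hc))
    have hfix := (P.isPGroup').nonempty_fixed_point_of_prime_not_dvd_card (G ⧸ T)
      (by rwa [← Subgroup.index_eq_card])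
    obtain ⟨q, hq⟩ := hfix
    obtain ⟨g, rfl⟩ := QuotientGroup.mk_surjective q
    have hg : ∀ x ∈ (P : Subgroup G), g⁻¹ * x * g ∈ T := by
      intro x hx
      have h1 := MulAction.mem_fixedPoints.mp hq ⟨x, hx⟩
      have h2 : ((x * g : G) : G ⧸ T) = (g : G ⧸ T) := h1
      rw [QuotientGroup.eq] at h2
      have h3 := T.inv_mem h2
      convert h3 using 1
      group
    have hgmem : g ∈ ((P : Subgroup G) ⊔ M : Subgroup G) := by rw [htop]; trivial
    rw [← SetLike.mem_coe, Subgroup.mul_normal] at hgmem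
    obtain ⟨a, ha, m, hm, rfl⟩ := hgmem
    intro x hx
    have h1 := hg (a * x * a⁻¹) ((P : Subgroup G).mul_mem ((P : Subgroup G).mul_mem ha hx)
      ((P : Subgroup G).inv_mem ha))
    have h2 : (a * m)⁻¹ * (a * x * a⁻¹) * (a * m) = m⁻¹ * x * m := by group
    rw [h2] at h1
    have h3 := T.mul_mem (T.mul_mem (hMT hm) h1) (T.inv_mem (hMT hm))
    convert h3 using 1
    group
  intro x hx n hn
  set z : M := ⟨x * n * x⁻¹ * n⁻¹, M.mul_mem (hM.conj_mem n hn x) (M.inv_mem hn)⟩ with hz
  have hzc : IsConj z 1 := by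
    rw [isConj_iff_forall_irr_eq]
    intro lam
    have h1 : (lam : M → ℂ) 1 = 1 := irr_apply_one_of_comm hMc' lam
    have hmul := linear_char_mul (isCharacter_of_irr lam.2) h1
    have hz2 : z = (⟨x * n * x⁻¹, hM.conj_mem n hn x⟩ : M) * (⟨n, hn⟩ : M)⁻¹ := Subtype.ext rfl
    have h3 : (lam : M → ℂ) ⟨x * n * x⁻¹, hM.conj_mem n hn x⟩ = (lam : M → ℂ) ⟨n, hn⟩ :=
      hA lam x hx ⟨n, hn⟩
    rw [hz2, hmul, h3, ← hmul, mul_inv_cancel]
  have hz1 : z = 1 := isConj_one_left.mp hzc
  have h4 : x * n * x⁻¹ * n⁻¹ = 1 := congrArg Subtype.val hz1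
  calc x * n * x⁻¹ = (x * n * x⁻¹ * n⁻¹) * n := by group
    _ = n := by rw [h4, one_mul]

universe u

/-- Under the hypothesis that no degree is divisible by `p`, the Sylow `p`-subgroups of a
solvable group are normal. -/
theorem normal_sylow_aux (p : ℕ) [hpF : Fact p.Prime] :
    ∀ (n : ℕ) (G : Type u) [Group G] [Finite G], Nat.card G = n → Group.IsSolvable G →
      (∀ χ : IrrCharacter G, ¬ p ∣ charDegree (χ : G → ℂ)) →
      ∀ P : Sylow p G, (P : Subgroup G).Normal := by
  intro n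
  induction n using Nat.strong_induction_on with
  | _ n ih =>
  intro G _ _ hcard hsolv hdeg P
  classical
  have hp : p.Prime := hpF.out
  by_cases htriv : (⊤ : Subgroup G) = ⊥
  · have hsub : Subsingleton G := by
      constructor
      intro a b
      have ha : a ∈ (⊥ : Subgroup G) := by rw [← htriv]; trivial
      have hb : b ∈ (⊥ : Subgroup G) := by rw [← htriv]; trivial
      rw [Subgroup.mem_bot] at ha hb
      rw [ha, hb]
    constructor
    intro x hx g
    have : g * x * g⁻¹ = x := Subsingleton.elim _ _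
    rwa [this]
  obtain ⟨M, ⟨hMn, hM1, hMmin⟩, -⟩ :=
    exists_isMinNormal_le (⊤ : Subgroup G) inferInstance htriv
  have hMc := minNormal_comm_of_isSolvable M hM1 hMmin
  obtain ⟨q, d, hq, hd, hMcard, hMexp⟩ := minNormal_exists_prime_pow M hM1 hMmin hMc
  have hMcard2 : 2 ≤ Nat.card M := by
    rw [hMcard]
    calc 2 ≤ q := hq.two_le
      _ = q ^ 1 := (pow_one q).symm
      _ ≤ q ^ d := Nat.pow_le_pow_right hq.pos hd
  have hlt : Nat.card (G ⧸ M) < n := by
    rw [← hcard, Subgroup.card_eq_card_quotient_mul_card_subgroup M]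
    have : 0 < Nat.card (G ⧸ M) := Nat.card_pos
    nlinarith
  have hPbar := ih _ hlt (G ⧸ M) rfl inferInstance
    (not_dvd_degree_quotient p M hdeg) (P.mapSurjective (QuotientGroup.mk'_surjective M))
  have hP₁ : ((P : Subgroup G) ⊔ M).Normal := by
    rw [Sylow.coe_mapSurjective] at hPbar
    have h2 := Subgroup.Normal.comap hPbar (QuotientGroup.mk' M)
    rwa [Subgroup.comap_map_eq, QuotientGroup.ker_mk'] at h2
  by_cases hqp : q = p
  · subst hqp
    have hMp : IsPGroup q M := IsPGroup.of_card hMcard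
    have hMP : M ≤ P := hMp.le_sylow_of_normal P
    rwa [sup_eq_left.mpr hMP] at hP₁
  by_cases htop : (P : Subgroup G) ⊔ M = ⊤
  · have hcent := centralizes_of_sup_eq_top p hdeg M hMc P htop
    constructor
    intro x hx g
    have hy : g * x * g⁻¹ ∈ ((P : Subgroup G) ⊔ M : Subgroup G) := by rw [htop]; trivial
    rw [← SetLike.mem_coe, Subgroup.mul_normal] at hy
    obtain ⟨a, ha, m, hm, hy⟩ := hy
    obtain ⟨K, hK⟩ := IsPGroup.iff_card.mp P.isPGroup'
    have hxK : x ^ (p ^ K) = 1 := by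
      have := pow_card_eq_one' (G := (P : Subgroup G)) (x := ⟨x, hx⟩)
      rw [hK] at this
      exact congrArg Subtype.val this
    have haK : a ^ (p ^ K) = 1 := by
      have := pow_card_eq_one' (G := (P : Subgroup G)) (x := ⟨a, ha⟩)
      rw [hK] at this
      exact congrArg Subtype.val this
    have hcomm : Commute a m := by
      have := hcent a ha m hm
      show a * m = m * a
      calc a * m = (a * m * a⁻¹) * a := by group
        _ = m * a := by rw [this]
    have hmK : m ^ (p ^ K) = 1 := by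
      have h1 : (a * m) ^ (p ^ K) = 1 := by
        have h0 : a * m = g * x * g⁻¹ := hy
        rw [h0, conj_pow, hxK, mul_one, mul_inv_cancel]
      rw [hcomm.mul_pow, haK, one_mul] at h1
      exact h1
    have hm1 : m = 1 := by
      have h1 : orderOf m ∣ p ^ K := orderOf_dvd_of_pow_eq_one hmK
      have h2 : orderOf m ∣ q := orderOf_dvd_of_pow_eq_one (hMexp m hm)
      have hcop : Nat.Coprime (p ^ K) q :=
        Nat.Coprime.pow_left K ((Nat.coprime_primes hp hq).mpr (fun h => hqp h.symm))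
      have h3 : orderOf m ∣ 1 := by
        have := Nat.dvd_gcd h1 h2
        rwa [hcop] at this
      exact orderOf_eq_one_iff.mp (Nat.dvd_one.mp h3)
    have hy2 : g * x * g⁻¹ = a := by
      have h0 : a * m = g * x * g⁻¹ := hy
      rw [← h0, hm1, mul_one]
    rw [hy2]
    exact ha
  · set P₁ : Subgroup G := (P : Subgroup G) ⊔ M with hP₁def
    have hlt1 : Nat.card P₁ < n := by
      rw [← hcard]
      have h1 := Subgroup.card_mul_index P₁
      have h2 : P₁.index ≠ 1 := fun h => htop (Subgroup.index_eq_one.mp h)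
      have h3 : 0 < P₁.index := Nat.pos_of_ne_zero Subgroup.index_ne_zero_of_finite
      have h4 : 2 ≤ P₁.index := by omega
      have h5 : 0 < Nat.card P₁ := Nat.card_pos
      nlinarith
    have hP₁deg := not_dvd_degree_normal p P₁ hdeg
    have hle : (P : Subgroup G) ≤ P₁ := le_sup_left
    have hnorm := ih _ hlt1 P₁ rfl inferInstance hP₁deg (P.subtype hle)
    have huniq := Sylow.unique_of_normal (P.subtype hle) hnorm
    constructor
    intro x hx g
    have hy : g * x * g⁻¹ ∈ P₁ := hP₁.conj_mem x (hle hx) g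
    have hpg : IsPGroup p (Subgroup.zpowers (⟨g * x * g⁻¹, hy⟩ : P₁)) := by
      obtain ⟨k, hk⟩ := (IsPGroup.iff_orderOf.mp P.isPGroup') ⟨x, hx⟩
      apply IsPGroup.of_card (n := k)
      rw [Nat.card_zpowers, ← Subgroup.orderOf_coe]
      show orderOf (g * x * g⁻¹) = p ^ k
      rw [← hk, ← Subgroup.orderOf_coe]
      show orderOf (g * x * g⁻¹) = orderOf x
      symm
      apply SemiconjBy.orderOf_eq g
      show g * x = g * x * g⁻¹ * g
      group
    obtain ⟨Q, hQ⟩ := hpg.exists_le_sylow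
    have hQP : Q = P.subtype hle := Subsingleton.elim _ _
    have hmem : (⟨g * x * g⁻¹, hy⟩ : P₁) ∈ ((P.subtype hle : Sylow p P₁) : Subgroup P₁) := by
      rw [← hQP]
      exact hQ (Subgroup.mem_zpowers _)
    rw [Sylow.coe_subtype, Subgroup.mem_subgroupOf] at hmem
    exact hmem

/-- Let G be a finite solvable group and p a prime. Then G has a normal abelian Sylow p-subgroup if and only if no irreducible character degree of G is divisible by p. -/
theorem result {G : Type*} [Group G] [Finite G] (hsolv : Group.IsSolvable G) (p : ℕ) (hp : p.Prime) : (∃ P : Subgroup G, P.Normal ∧ (∀ x ∈ P, ∀ y ∈ P, x * y = y * x) ∧ IsPGroup p P ∧ ¬ p ∣ P.index) ↔ ∀ χ : Cfsg.IrrCharacter G, ¬ p ∣ Cfsg.charDegree (χ : G → ℂ) := by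
  classical
  have hpF : Fact p.Prime := ⟨hp⟩
  have := Fintype.ofFinite G
  constructor
  · rintro ⟨P, hPn, hPc, hPp, hPidx⟩ χ hdvd
    obtain ⟨d, hd, hdvd2⟩ := ito_char P hPc χ.2
    rw [charDegree_eq_of_apply_one hd] at hdvd
    exact hPidx (dvd_trans hdvd hdvd2)
  · intro hdeg
    let P : Sylow p G := default
    have hPn := normal_sylow_aux p (Nat.card G) G rfl hsolv hdeg P
    refine ⟨P, hPn, ?_, P.isPGroup', P.not_dvd_index⟩
    have hPdeg := not_dvd_degree_normal p (P : Subgroup G) hdeg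
    have hlin : ∀ ϑ : IrrCharacter ↥(P : Subgroup G), (ϑ : ↥(P : Subgroup G) → ℂ) 1 = 1 := by
      intro ϑ
      have h1 := charDegree_dvd_card ϑ.1 ϑ.2
      obtain ⟨K, hK⟩ := IsPGroup.iff_card.mp P.isPGroup'
      rw [hK] at h1
      obtain ⟨j, -, hj⟩ := (Nat.dvd_prime_pow hp).mp h1
      have h2 := hPdeg ϑ
      have hj0 : j = 0 := by
        by_contra hne
        apply h2
        rw [hj]
        exact dvd_pow_self p hne
      rw [apply_one_eq_charDegree ϑ.1 ϑ.2, hj, hj0, pow_zero, Nat.cast_one]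
    intro x hx y hy
    have := comm_of_forall_irr_one hlin (⟨x, hx⟩ : ↥(P : Subgroup G)) (⟨y, hy⟩ : ↥(P : Subgroup G))
    exact congrArg Subtype.val this

end Cfsg.Agent.S4493
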