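import Mathlib
import Cfsg.Statements.S4496

set_option autoImplicit false
open Cfsg

namespace Cfsg.Agent.S4496

open scoped Pointwise commutatorElement

section basic
variable {G : Type*} [Group G]

/-- if `y` has prime order `p` and `w ∈ zpowers y`, `w ≠ 1` then `zpowers w = zpowers y` -/
theorem zpowers_eq_of_mem {p : ℕ} (hp : p.Prime) {y w : G} (hy : orderOf y = p)
    (hw : w ∈ Subgroup.zpowers y) (hw1 : w ≠ 1) : Subgroup.zpowers w = Subgroup.zpowers y := by
  haveI : Fact p.Prime := ⟨hp⟩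
  have hcard : Nat.card (Subgroup.zpowers y) = p := by rw [Nat.card_zpowers, hy]
  have h1 : (⟨w, hw⟩ : Subgroup.zpowers y) ≠ 1 := fun h => hw1 (congrArg Subtype.val h)
  have h2 := zpowers_eq_top_of_prime_card hcard h1
  apply le_antisymm
  · exact Subgroup.zpowers_le.2 hw
  · intro z hz
    have : (⟨z, hz⟩ : Subgroup.zpowers y) ∈ Subgroup.zpowers (⟨w, hw⟩ : Subgroup.zpowers y) := by
      rw [h2]; trivial
    obtain ⟨k, hk⟩ := Subgroup.mem_zpowers_iff.1 this
    have := congrArg Subtype.val hk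
    simp only [Subgroup.coe_zpow] at this
    exact Subgroup.mem_zpowers_iff.2 ⟨k, this⟩

theorem centralizer_singleton_eq_of_zpowers_eq {y w : G}
    (h : Subgroup.zpowers w = Subgroup.zpowers y) :
    Subgroup.centralizer ({w} : Set G) = Subgroup.centralizer ({y} : Set G) := by
  have key : ∀ a b : G, a ∈ Subgroup.zpowers b → Subgroup.centralizer ({b} : Set G) ≤ Subgroup.centralizer ({a} : Set G) := by
    intro a b hab g hg
    rw [Subgroup.mem_centralizer_iff] at hg ⊢
    intro z hz
    rw [Set.mem_singleton_iff] at hz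
    subst hz
    obtain ⟨k, rfl⟩ := Subgroup.mem_zpowers_iff.1 hab
    have hb : b * g = g * b := hg b rfl
    exact (Commute.zpow_left hb k).eq
  apply le_antisymm
  · apply key; rw [h]; exact Subgroup.mem_zpowers y
  · apply key; rw [← h]; exact Subgroup.mem_zpowers w

theorem centralizer_conj (g w : G) :
    Subgroup.centralizer ({g * w * g⁻¹} : Set G) = (Subgroup.centralizer ({w} : Set G)).map (MulAut.conj g).toMonoidHom := by
  ext a
  simp only [Subgroup.mem_centralizer_iff, Set.mem_singleton_iff, forall_eq, Subgroup.mem_map,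
    MulEquiv.coe_toMonoidHom, MulAut.conj_apply]
  constructor
  · intro h
    refine ⟨g⁻¹ * a * g, ?_, by group⟩
    have : w * (g⁻¹ * a * g) = g⁻¹ * (g * w * g⁻¹ * a) * g := by group
    rw [this, h]; group
  · rintro ⟨b, hb, rfl⟩
    have : g * w * g⁻¹ * (g * b * g⁻¹) = g * (w * b) * g⁻¹ := by group
    rw [this, hb]; group

theorem zpowers_conj (g w : G) :
    Subgroup.zpowers (g * w * g⁻¹) = (Subgroup.zpowers w).map (MulAut.conj g).toMonoidHom := by
  rw [MonoidHom.map_zpowers]
  simp

end basic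

/-- conjugation action of a subgroup `S` on the set of subgroups of order `p` -/
def conjActOnCard {G : Type*} [Group G] (S : Subgroup G) (p : ℕ) :
    MulAction S {H : Subgroup G // Nat.card H = p} where
  smul s H := ⟨MulAut.conj (s : G) • H.1,
    ((Nat.card_congr (Subgroup.equivSMul (MulAut.conj (s : G)) H.1).toEquiv).symm).trans H.2⟩
  one_smul H := by
    apply Subtype.ext
    change MulAut.conj ((1 : S) : G) • H.1 = H.1
    simp
  mul_smul a b H := by
    apply Subtype.ext
    change MulAut.conj ((a * b : S) : G) • H.1 = MulAut.conj (a : G) • (MulAut.conj (b : G) • H.1)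
    simp [mul_smul]

section main
variable {G : Type*} [Group G] [Finite G] {p : ℕ} (hp : p.Prime) {x : G} (hx : orderOf x = p)
  (hC : Subgroup.centralizer ({x} : Set G) = Subgroup.zpowers x)

include hp hx hC

/-- `⟨x⟩` is a Sylow `p`-subgroup. -/
theorem exists_sylow : ∃ P : Sylow p G, (P : Subgroup G) = Subgroup.zpowers x := by
  haveI : Fact p.Prime := ⟨hp⟩
  have hcard : Nat.card (Subgroup.zpowers x) = p := by rw [Nat.card_zpowers, hx]
  have hPG : IsPGroup p (Subgroup.zpowers x) := IsPGroup.of_card (n := 1) (by rw [hcard, pow_one])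
  obtain ⟨Q, hQ⟩ := hPG.exists_le_sylow
  refine ⟨Q, le_antisymm ?_ hQ⟩
  have hxQ : x ∈ (Q : Subgroup G) := hQ (Subgroup.mem_zpowers x)
  have hx1 : x ≠ 1 := by
    intro h; rw [h, orderOf_one] at hx; exact hp.one_lt.ne hx
  haveI : Nontrivial (Q : Subgroup G) := ⟨⟨⟨x, hxQ⟩, 1, fun h => hx1 (congrArg Subtype.val h)⟩⟩
  haveI := Q.isPGroup'.center_nontrivial
  obtain ⟨z, hz⟩ := exists_ne (1 : Subgroup.center (Q : Subgroup G))
  have hz1 : ((z : (Q : Subgroup G)) : G) ≠ 1 := by
    intro h
    apply hz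
    apply Subtype.ext
    apply Subtype.ext
    exact h
  have hzc : ∀ q : (Q : Subgroup G), q * z = z * q := fun q => (Subgroup.mem_center_iff.1 z.2 q)
  have hzx : ((z : (Q : Subgroup G)) : G) ∈ Subgroup.zpowers x := by
    rw [← hC, Subgroup.mem_centralizer_iff]
    intro y hy
    rw [Set.mem_singleton_iff] at hy
    subst hy
    have := hzc ⟨y, hxQ⟩
    exact congrArg Subtype.val this
  have heq := zpowers_eq_of_mem hp hx hzx hz1
  -- so x is a power of z, hence central in Q
  intro q hq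
  rw [← hC, Subgroup.mem_centralizer_iff]
  intro y hy
  rw [Set.mem_singleton_iff] at hy
  subst hy
  have hyz : y ∈ Subgroup.zpowers ((z : (Q : Subgroup G)) : G) := by
    rw [heq]; exact Subgroup.mem_zpowers y
  obtain ⟨k, rfl⟩ := Subgroup.mem_zpowers_iff.1 hyz
  have h1 : ((z : (Q : Subgroup G)) : G) * q = q * ((z : (Q : Subgroup G)) : G) := by
    have := hzc ⟨q, hq⟩
    exact (congrArg Subtype.val this).symm
  exact (Commute.zpow_left h1 k).eq

/-- every element of order `p` is self-centralizing. -/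
theorem centralizer_eq_of_orderOf {y : G} (hy : orderOf y = p) :
    Subgroup.centralizer ({y} : Set G) = Subgroup.zpowers y := by
  haveI : Fact p.Prime := ⟨hp⟩
  obtain ⟨P, hP⟩ := exists_sylow hp hx hC
  have hcard : Nat.card (Subgroup.zpowers y) = p := by rw [Nat.card_zpowers, hy]
  have hPG : IsPGroup p (Subgroup.zpowers y) := IsPGroup.of_card (n := 1) (by rw [hcard, pow_one])
  obtain ⟨Q, hQ⟩ := hPG.exists_le_sylow
  obtain ⟨g, hg⟩ := MulAction.exists_smul_eq G P Q
  have hyQ : y ∈ (Q : Subgroup G) := hQ (Subgroup.mem_zpowers y)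
  rw [← hg, Sylow.coe_subgroup_smul, hP, Subgroup.mem_pointwise_smul_iff_inv_smul_mem] at hyQ
  simp only [MulAut.smul_def, MulAut.conj_inv_apply] at hyQ
  set w := g⁻¹ * y * g with hw
  have hy1 : y ≠ 1 := by
    intro h; rw [h, orderOf_one] at hy; exact hp.one_lt.ne hy
  have hw1 : w ≠ 1 := by
    intro h
    apply hy1
    have : y = g * w * g⁻¹ := by rw [hw]; group
    rw [this, h]; group
  have h1 := zpowers_eq_of_mem hp hx hyQ hw1
  have h2 := centralizer_singleton_eq_of_zpowers_eq h1
  have hyw : y = g * w * g⁻¹ := by rw [hw]; group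
  rw [hyw, centralizer_conj, zpowers_conj, h2, hC, h1]

/-- the order of `G` is divisible by `p` exactly once -/
theorem factorization_card : (Nat.card G).factorization p = 1 := by
  haveI : Fact p.Prime := ⟨hp⟩
  obtain ⟨P, hP⟩ := exists_sylow hp hx hC
  have h1 := P.card_eq_multiplicity
  have h2 : Nat.card (P : Subgroup G) = p := by rw [hP, Nat.card_zpowers, hx]
  rw [h2] at h1
  exact (Nat.pow_right_injective hp.two_le (by simpa using h1)).symm

theorem commutator_normalizer_le {y : G} (hy : orderOf y = p) :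
    ∀ a ∈ Subgroup.normalizer ((Subgroup.zpowers y : Subgroup G) : Set G),
    ∀ b ∈ Subgroup.normalizer ((Subgroup.zpowers y : Subgroup G) : Set G),
      ⁅a, b⁆ ∈ Subgroup.zpowers y := by
  intro a ha b hb
  have hcy := centralizer_eq_of_orderOf hp hx hC hy
  let _ := ((Subgroup.isCyclic_zpowers y).mulAutMulEquiv _).toMonoidHom.commGroupOfInjective
    ((Subgroup.isCyclic_zpowers y).mulAutMulEquiv _).injective
  have h := Abelianization.commutator_subset_ker (Subgroup.zpowers y).normalizerMonoidHom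
  rw [Subgroup.normalizerMonoidHom_ker] at h
  have hab : ⁅(⟨a, ha⟩ : Subgroup.normalizer ((Subgroup.zpowers y : Subgroup G) : Set G)), ⟨b, hb⟩⁆ ∈
      commutator (Subgroup.normalizer ((Subgroup.zpowers y : Subgroup G) : Set G)) := by
    rw [commutator_def]
    exact Subgroup.commutator_mem_commutator (Subgroup.mem_top _) (Subgroup.mem_top _)
  have h2 := h hab
  rw [Subgroup.mem_subgroupOf] at h2
  have h3 : ⁅a, b⁆ ∈ Subgroup.centralizer ((Subgroup.zpowers y : Subgroup G) : Set G) := h2
  rw [← hcy]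
  exact Subgroup.centralizer_le (Set.singleton_subset_iff.2 (Subgroup.mem_zpowers y)) h3

theorem part_a (S : Subgroup G) [S.Normal] (hpS : p ∣ Nat.card S) : commutator G ≤ S := by
  haveI : Fact p.Prime := ⟨hp⟩
  -- an element of order p in S
  obtain ⟨y, hy⟩ := exists_prime_orderOf_dvd_card' (G := S) p hpS
  have hy' : orderOf (y : G) = p := by rw [Subgroup.orderOf_coe]; exact hy
  -- a Sylow p-subgroup of S containing y
  have hPG : IsPGroup p (Subgroup.zpowers y) :=
    IsPGroup.of_card (n := 1) (by rw [Nat.card_zpowers, hy, pow_one])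
  obtain ⟨Q, hQ⟩ := hPG.exists_le_sylow
  have hfr := Sylow.normalizer_sup_eq_top Q
  -- the image of Q in G is zpowers y
  have hQcard : Nat.card (Q : Subgroup S) = p := by
    rw [Q.card_eq_multiplicity]
    have h1 : (Nat.card S).factorization p ≤ (Nat.card G).factorization p := by
      apply (Nat.factorization_le_iff_dvd Nat.card_pos.ne' Nat.card_pos.ne').2
      exact Subgroup.card_subgroup_dvd_card S
    rw [factorization_card hp hx hC] at h1
    have h2 : 1 ≤ (Nat.card S).factorization p :=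
      (hp.dvd_iff_one_le_factorization Nat.card_pos.ne').1 hpS
    have : (Nat.card S).factorization p = 1 := le_antisymm h1 h2
    rw [this, pow_one]
  have hQeq : (Q : Subgroup S) = Subgroup.zpowers y := by
    symm
    apply Subgroup.eq_of_le_of_card_ge hQ
    rw [hQcard, Nat.card_zpowers, hy]
  have hmap : (Q : Subgroup S).map S.subtype = Subgroup.zpowers (y : G) := by
    rw [hQeq, MonoidHom.map_zpowers]; rfl
  rw [hmap] at hfr
  rw [commutator_def, Subgroup.commutator_le]
  intro g₁ _ g₂ _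
  have hg : ∀ g : G, ∃ n ∈ Subgroup.normalizer ((Subgroup.zpowers (y : G) : Subgroup G) : Set G), ∃ s ∈ S, g = n * s := by
    intro g
    have : g ∈ (Subgroup.normalizer ((Subgroup.zpowers (y : G) : Subgroup G) : Set G)) ⊔ S := by
      rw [hfr]; trivial
    rw [← SetLike.mem_coe, Subgroup.mul_normal] at this
    obtain ⟨n, hn, s, hs, rfl⟩ := Set.mem_mul.1 this
    exact ⟨n, hn, s, hs, rfl⟩
  obtain ⟨n₁, hn₁, s₁, hs₁, rfl⟩ := hg g₁
  obtain ⟨n₂, hn₂, s₂, hs₂, rfl⟩ := hg g₂
  have hn := commutator_normalizer_le hp hx hC hy' n₁ hn₁ n₂ hn₂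
  have hnS : ⁅n₁, n₂⁆ ∈ S := by
    have : Subgroup.zpowers (y : G) ≤ S := Subgroup.zpowers_le.2 y.2
    exact this hn
  rw [← QuotientGroup.eq_one_iff] at hnS ⊢
  have e1 : ((n₁ * s₁ : G) : G ⧸ S) = (n₁ : G ⧸ S) := by
    rw [QuotientGroup.mk_mul, (QuotientGroup.eq_one_iff s₁).2 hs₁, mul_one]
  have e2 : ((n₂ * s₂ : G) : G ⧸ S) = (n₂ : G ⧸ S) := by
    rw [QuotientGroup.mk_mul, (QuotientGroup.eq_one_iff s₂).2 hs₂, mul_one]
  have e3 : ∀ a b : G, ((⁅a, b⁆ : G) : G ⧸ S) = ⁅(a : G ⧸ S), (b : G ⧸ S)⁆ := by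
    intro a b
    simp [commutatorElement_def]
  rw [e3, e1, e2, ← e3]
  exact hnS

theorem inf_zpowers_eq_bot (S : Subgroup G) (hpS : ¬ p ∣ Nat.card S) {y : G} (hy : orderOf y = p) :
    S ⊓ Subgroup.zpowers y = ⊥ := by
  apply disjoint_iff.mp
  apply Subgroup.disjoint_of_coprime_natCard
  rw [Nat.card_zpowers, hy]
  exact ((Nat.Prime.coprime_iff_not_dvd hp).2 hpS).symm

/-- an element of `S` commuting with an element `y` of order `p` is trivial -/
theorem eq_one_of_commute (S : Subgroup G) (hpS : ¬ p ∣ Nat.card S) {y : G} (hy : orderOf y = p)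
    {s : G} (hs : s ∈ S) (hsy : y * s = s * y) : s = 1 := by
  have h1 : s ∈ Subgroup.centralizer ({y} : Set G) := by
    rw [Subgroup.mem_centralizer_iff]
    intro z hz
    rw [Set.mem_singleton_iff] at hz
    subst hz
    exact hsy
  rw [centralizer_eq_of_orderOf hp hx hC hy] at h1
  have h2 : s ∈ S ⊓ Subgroup.zpowers y := ⟨hs, h1⟩
  rw [inf_zpowers_eq_bot hp hx hC S hpS hy] at h2
  exact Subgroup.mem_bot.1 h2

theorem part_b2 (S : Subgroup G) [S.Normal] (hpS : ¬ p ∣ Nat.card S) :
    orderOf (QuotientGroup.mk x : G ⧸ S) = p := by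
  haveI : Fact p.Prime := ⟨hp⟩
  apply orderOf_eq_prime
  · rw [← QuotientGroup.mk_pow, ← hx, pow_orderOf_eq_one]; rfl
  · intro h
    rw [QuotientGroup.eq_one_iff] at h
    have h2 : x ∈ S ⊓ Subgroup.zpowers x := ⟨h, Subgroup.mem_zpowers x⟩
    rw [inf_zpowers_eq_bot hp hx hC S hpS hx] at h2
    have hx1 : x = 1 := Subgroup.mem_bot.1 h2
    rw [hx1, orderOf_one] at hx
    exact hp.one_lt.ne hx

theorem part_b3 (S : Subgroup G) [S.Normal] (hpS : ¬ p ∣ Nat.card S) :
    Nat.card S % p = 1 := by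
  haveI : Fact p.Prime := ⟨hp⟩
  letI : MulAction (Subgroup.zpowers x) S :=
    MulAction.compHom S ((MulAut.conjNormal (H := S)).comp (Subgroup.zpowers x).subtype)
  have hPG : IsPGroup p (Subgroup.zpowers x) :=
    IsPGroup.of_card (n := 1) (by rw [Nat.card_zpowers, hx, pow_one])
  have h := hPG.card_modEq_card_fixedPoints S
  have hfix : ∀ s : S, s ∈ MulAction.fixedPoints (Subgroup.zpowers x) S → s = 1 := by
    intro s hs
    have h1 := hs ⟨x, Subgroup.mem_zpowers x⟩
    have h2 : x * (s : G) * x⁻¹ = s := congrArg Subtype.val h1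
    apply Subtype.ext
    apply eq_one_of_commute hp hx hC S hpS hx s.2
    exact mul_inv_eq_iff_eq_mul.1 h2
  have hcard : Nat.card (MulAction.fixedPoints (Subgroup.zpowers x) S) = 1 := by
    rw [Nat.card_eq_one_iff_unique]
    refine ⟨⟨fun a b => Subtype.ext ((hfix a a.2).trans (hfix b b.2).symm)⟩, ⟨⟨1, ?_⟩⟩⟩
    intro g
    change (MulAut.conjNormal (H := S) (g : G)) 1 = 1
    exact map_one _
  rw [hcard] at h
  rw [h]
  exact Nat.mod_eq_of_lt hp.one_lt

theorem part_b4 (S : Subgroup G) [S.Normal] (hpS : ¬ p ∣ Nat.card S) :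
    Nat.card S ∣ Nat.card {H : Subgroup G // Nat.card H = p} := by
  haveI : Fact p.Prime := ⟨hp⟩
  letI := conjActOnCard S p
  have hfree : ∀ H : {H : Subgroup G // Nat.card H = p}, MulAction.stabilizer S H = ⊥ := by
    intro H
    rw [eq_bot_iff]
    intro s hs
    rw [MulAction.mem_stabilizer_iff] at hs
    have hs' : MulAut.conj (s : G) • H.1 = H.1 := congrArg Subtype.val hs
    -- a generator of H
    haveI : IsCyclic H.1 := isCyclic_of_prime_card H.2
    obtain ⟨y, hy⟩ := IsCyclic.exists_generator (α := H.1)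
    have hyo : orderOf (y : G) = p := by
      rw [Subgroup.orderOf_coe, orderOf_eq_card_of_forall_mem_zpowers hy, H.2]
    have hHy : H.1 = Subgroup.zpowers (y : G) := by
      symm
      apply Subgroup.eq_of_le_of_card_ge (Subgroup.zpowers_le.2 y.2)
      rw [Nat.card_zpowers, hyo, H.2]
    have h1 : (s : G) * y * (s : G)⁻¹ ∈ H.1 := by
      have : (s : G) * y * (s : G)⁻¹ ∈ MulAut.conj (s : G) • H.1 :=
        ⟨y, y.2, by simp [MulAut.smul_def]⟩
      rwa [hs'] at this
    have h2 : (s : G) * y * (s : G)⁻¹ * (y : G)⁻¹ ∈ S ⊓ Subgroup.zpowers (y : G) := by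
      constructor
      · have : (s : G) * y * (s : G)⁻¹ * (y : G)⁻¹ = (s : G) * ((y : G) * (s : G)⁻¹ * (y : G)⁻¹) := by group
        rw [this]
        exact S.mul_mem s.2 (Subgroup.Normal.conj_mem inferInstance _ (S.inv_mem s.2) _)
      · rw [← hHy]
        exact H.1.mul_mem h1 (H.1.inv_mem y.2)
    rw [inf_zpowers_eq_bot hp hx hC S hpS hyo] at h2
    have h3 : (s : G) * y * (s : G)⁻¹ * (y : G)⁻¹ = 1 := Subgroup.mem_bot.1 h2
    have h4 : (y : G) * (s : G) = (s : G) * y := by
      have := mul_inv_eq_one.1 h3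
      exact (mul_inv_eq_iff_eq_mul.1 this).symm
    rw [Subgroup.mem_bot]
    apply Subtype.ext
    exact eq_one_of_commute hp hx hC S hpS hyo s.2 h4
  have e := MulAction.selfEquivOrbitsQuotientProd hfree
  rw [Nat.card_congr e, Nat.card_prod]
  exact dvd_mul_left _ _

theorem part_b5 (S : Subgroup G) [S.Normal] (hpS : ¬ p ∣ Nat.card S) :
    Subgroup.centralizer ({(QuotientGroup.mk x : G ⧸ S)} : Set (G ⧸ S)) =
      Subgroup.zpowers (QuotientGroup.mk x : G ⧸ S) := by
  apply le_antisymm
  · intro q hq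
    obtain ⟨g, rfl⟩ := QuotientGroup.mk_surjective q
    rw [Subgroup.mem_centralizer_iff] at hq
    have h1 := hq _ rfl
    -- g x g⁻¹ x⁻¹ ∈ S
    have h2 : g * x * g⁻¹ * x⁻¹ ∈ S := by
      rw [← QuotientGroup.eq_one_iff]
      simp only [QuotientGroup.mk_mul, QuotientGroup.mk_inv]
      rw [← h1]; group
    -- the map s ↦ s x s⁻¹ x⁻¹ on S
    let φ : S → S := fun s => ⟨(s : G) * x * (s : G)⁻¹ * x⁻¹, by
      have : (s : G) * x * (s : G)⁻¹ * x⁻¹ = (s : G) * (x * (s : G)⁻¹ * x⁻¹) := by group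
      rw [this]
      exact S.mul_mem s.2 (Subgroup.Normal.conj_mem inferInstance _ (S.inv_mem s.2) _)⟩
    have hinj : Function.Injective φ := by
      intro s s' hss
      have h3 : (s : G) * x * (s : G)⁻¹ * x⁻¹ = (s' : G) * x * (s' : G)⁻¹ * x⁻¹ := congrArg Subtype.val hss
      have h4 : (s : G) * x * (s : G)⁻¹ = (s' : G) * x * (s' : G)⁻¹ := mul_right_cancel h3
      have h5 : x * ((s' : G)⁻¹ * s) = ((s' : G)⁻¹ * s) * x := by
        have : x = (s' : G)⁻¹ * ((s : G) * x * (s : G)⁻¹) * s' := by rw [h4]; group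
        calc x * ((s' : G)⁻¹ * s) = (s' : G)⁻¹ * ((s' : G) * x * (s' : G)⁻¹) * s := by group
          _ = (s' : G)⁻¹ * ((s : G) * x * (s : G)⁻¹) * s := by rw [h4]
          _ = ((s' : G)⁻¹ * s) * x := by group
      have h6 := eq_one_of_commute hp hx hC S hpS hx (S.mul_mem (S.inv_mem s'.2) s.2) h5
      apply Subtype.ext
      have := inv_mul_eq_one.1 h6
      exact this.symm
    have hsurj : Function.Surjective φ := Finite.injective_iff_surjective.1 hinj
    obtain ⟨s, hs⟩ := hsurj ⟨_, h2⟩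
    have h3 : (s : G) * x * (s : G)⁻¹ * x⁻¹ = g * x * g⁻¹ * x⁻¹ := congrArg Subtype.val hs
    have h4 : (s : G) * x * (s : G)⁻¹ = g * x * g⁻¹ := mul_right_cancel h3
    have h5 : (s : G)⁻¹ * g ∈ Subgroup.centralizer ({x} : Set G) := by
      rw [Subgroup.mem_centralizer_iff]
      intro z hz
      rw [Set.mem_singleton_iff] at hz
      subst hz
      calc z * ((s : G)⁻¹ * g) = (s : G)⁻¹ * ((s : G) * z * (s : G)⁻¹) * g := by group
        _ = (s : G)⁻¹ * (g * z * g⁻¹) * g := by rw [h4]
        _ = (s : G)⁻¹ * g * z := by group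
    rw [hC] at h5
    obtain ⟨k, hk⟩ := Subgroup.mem_zpowers_iff.1 h5
    rw [Subgroup.mem_zpowers_iff]
    refine ⟨k, ?_⟩
    rw [← QuotientGroup.mk_zpow, hk, QuotientGroup.mk_mul, QuotientGroup.mk_inv,
      (QuotientGroup.eq_one_iff (s : G)).2 s.2]
    simp
  · rw [Subgroup.zpowers_le, Subgroup.mem_centralizer_iff]
    intro z hz
    rw [Set.mem_singleton_iff] at hz
    rw [hz]

end main

/-- Let the finite group G contain an element x of prime order p with C_G(x) = ⟨x⟩. Then: (a) every normal subgroup of order divisible by p contains the commutator subgroup; (b) every normal subgroup S of order prime to p has order dividing the number of subgroups of order p of G and congruent to 1 modulo p, and in G/S the image of x again has prime order p and commutes only with its own powers. -/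
theorem result {G : Type*} [Group G] [Finite G] (p : ℕ) (hp : p.Prime) (x : G) (hx : orderOf x = p) (hC : Subgroup.centralizer ({x} : Set G) = Subgroup.zpowers x) (S : Subgroup G) [S.Normal] : (p ∣ Nat.card S → commutator G ≤ S) ∧ (¬ p ∣ Nat.card S → Nat.card S ∣ Nat.card {H : Subgroup G // Nat.card H = p} ∧ Nat.card S % p = 1 ∧ orderOf (QuotientGroup.mk x : G ⧸ S) = p ∧ Subgroup.centralizer ({(QuotientGroup.mk x : G ⧸ S)} : Set (G ⧸ S)) = Subgroup.zpowers (QuotientGroup.mk x : G ⧸ S)) :=
  ⟨part_a hp hx hC S, fun h => ⟨part_b4 hp hx hC S h, part_b3 hp hx hC S h, part_b2 hp hx hC S h,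
    part_b5 hp hx hC S h⟩⟩

end Cfsg.Agent.S4496
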