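import Mathlib
import Cfsg.Statements.S4495
import Cfsg.Agent.S4496

set_option autoImplicit false
open Cfsg

namespace Cfsg.Agent.S4495

open Cfsg.Agent.S4496
open scoped Pointwise commutatorElement

section main
variable {G : Type*} [Group G] [Finite G] {p : ℕ} (hp : p.Prime) {x : G} (hx : orderOf x = p)
  (hC : Subgroup.centralizer ({x} : Set G) = Subgroup.zpowers x)

include hp hx hC

theorem orderOf_of_mem {y : G} (hy : y ∈ Subgroup.zpowers x) (hy1 : y ≠ 1) : orderOf y = p := by
  have h := zpowers_eq_of_mem hp hx hy hy1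
  rw [← Nat.card_zpowers, h, Nat.card_zpowers, hx]

theorem centralizer_of_mem {y : G} (hy : y ∈ Subgroup.zpowers x) (hy1 : y ≠ 1) :
    Subgroup.centralizer ({y} : Set G) = Subgroup.zpowers x := by
  rw [centralizer_eq_of_orderOf hp hx hC (orderOf_of_mem hp hx hC hy hy1)]
  exact zpowers_eq_of_mem hp hx hy hy1

/-- fusion of nonidentity elements of `P = ⟨x⟩` is controlled by the normalizer -/
theorem mem_normalizer_of_conj {y y' g : G} (hy : y ∈ Subgroup.zpowers x) (hy1 : y ≠ 1)
    (hy' : y' ∈ Subgroup.zpowers x) (hy1' : y' ≠ 1) (hg : g * y * g⁻¹ = y') :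
    g ∈ Subgroup.normalizer ((Subgroup.zpowers x : Subgroup G) : Set G) := by
  have h1 := centralizer_of_mem hp hx hC hy hy1
  have h2 := centralizer_of_mem hp hx hC hy' hy1'
  rw [← hg, centralizer_conj, h1] at h2
  exact Subgroup.mem_normalizer_iff_map_conj_eq.2 h2

/-- every element of order `p` is conjugate to a nonidentity element of `⟨x⟩` -/
theorem exists_conj_mem {g' : G} (hg' : orderOf g' = p) :
    ∃ y ∈ Subgroup.zpowers x, y ≠ 1 ∧ ∃ g : G, g * y * g⁻¹ = g' := by
  haveI : Fact p.Prime := ⟨hp⟩
  obtain ⟨P, hP⟩ := exists_sylow hp hx hC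
  have hPG : IsPGroup p (Subgroup.zpowers g') :=
    IsPGroup.of_card (n := 1) (by rw [Nat.card_zpowers, hg', pow_one])
  obtain ⟨Q, hQ⟩ := hPG.exists_le_sylow
  obtain ⟨g, hg⟩ := MulAction.exists_smul_eq G P Q
  have hyQ : g' ∈ (Q : Subgroup G) := hQ (Subgroup.mem_zpowers g')
  rw [← hg, Sylow.coe_subgroup_smul, hP, Subgroup.mem_pointwise_smul_iff_inv_smul_mem] at hyQ
  simp only [MulAut.smul_def, MulAut.conj_inv_apply] at hyQ
  refine ⟨g⁻¹ * g' * g, hyQ, ?_, g, by group⟩
  intro h
  have : g' = 1 := by
    have h2 : g' = g * (g⁻¹ * g' * g) * g⁻¹ := by group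
    rw [h2, h]; group
  rw [this, orderOf_one] at hg'
  exact hp.one_lt.ne hg'

/-- the number of classes of elements of order `p` times `|N(P):P|` is `p - 1` -/
theorem card_classes_mul_relIndex :
    Nat.card {C : ConjClasses G // ∃ g ∈ C.carrier, orderOf g = p} *
      (Subgroup.zpowers x).relIndex (Subgroup.normalizer ((Subgroup.zpowers x : Subgroup G) : Set G)) = p - 1 := by
  classical
  set P : Subgroup G := Subgroup.zpowers x with hPdef
  set N : Subgroup G := Subgroup.normalizer (P : Set G) with hNdef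
  let T := {C : ConjClasses G // ∃ g ∈ C.carrier, orderOf g = p}
  let Y := {y : G // y ∈ P ∧ y ≠ 1}
  let f : Y → T := fun y => ⟨ConjClasses.mk y.1, y.1, ConjClasses.mem_carrier_mk,
    orderOf_of_mem hp hx hC y.2.1 y.2.2⟩
  haveI : Fintype T := Fintype.ofFinite T
  have hY : Nat.card Y = p - 1 := by
    have h1 : Nat.card Y = ((P : Set G) \ {1}).ncard := by
      rw [← Nat.card_coe_set_eq]
      apply Nat.card_congr
      exact Equiv.subtypeEquivRight (fun y => by simp)
    rw [h1, Set.ncard_diff_singleton_of_mem P.one_mem]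
    have : (P : Set G).ncard = p := by
      rw [← Nat.card_coe_set_eq]
      change Nat.card P = p
      rw [hPdef, Nat.card_zpowers, hx]
    rw [this]
  have hfib : ∀ C : T, Nat.card {y : Y // f y = C} = P.relIndex N := by
    intro C
    obtain ⟨g', hg'C, hg'o⟩ := C.2
    obtain ⟨y₀, hy₀P, hy₀1, g₀, hg₀⟩ := exists_conj_mem hp hx hC hg'o
    have hC0 : C = f ⟨y₀, hy₀P, hy₀1⟩ := by
      apply Subtype.ext
      change C.1 = ConjClasses.mk y₀
      rw [← ConjClasses.mem_carrier_iff_mk_eq.1 hg'C]
      rw [ConjClasses.mk_eq_mk_iff_isConj, isConj_comm, isConj_iff]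
      exact ⟨g₀, hg₀⟩
    -- orbit of y₀ under N
    let b : P := ⟨y₀, hy₀P⟩
    have hstab : MulAction.stabilizer N b = P.subgroupOf N := by
      ext n
      rw [MulAction.mem_stabilizer_iff, Subgroup.mem_subgroupOf]
      constructor
      · intro h
        have h1 : (n : G) * y₀ * (n : G)⁻¹ = y₀ := congrArg Subtype.val h
        have h2 : (n : G) ∈ Subgroup.centralizer ({y₀} : Set G) := by
          rw [Subgroup.mem_centralizer_iff]
          intro z hz
          rw [Set.mem_singleton_iff] at hz
          subst hz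
          exact (mul_inv_eq_iff_eq_mul.1 h1).symm
        rwa [centralizer_of_mem hp hx hC hy₀P hy₀1] at h2
      · intro h
        apply Subtype.ext
        change (n : G) * y₀ * (n : G)⁻¹ = y₀
        have h2 : (n : G) ∈ Subgroup.centralizer ({y₀} : Set G) := by
          rwa [centralizer_of_mem hp hx hC hy₀P hy₀1]
        rw [Subgroup.mem_centralizer_iff] at h2
        have := h2 y₀ rfl
        rw [← this]; group
    have horb : Nat.card (MulAction.orbit N b) = P.relIndex N := by
      rw [Nat.card_congr (MulAction.orbitEquivQuotientStabilizer N b), hstab]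
      rfl
    rw [← horb]
    apply Nat.card_congr
    refine ⟨fun y => ⟨⟨y.1.1, y.1.2.1⟩, ?_⟩, fun z => ⟨⟨z.1.1, z.1.2, ?_⟩, ?_⟩, ?_, ?_⟩
    · -- y in fiber → in orbit
      have hy := y.2.trans hC0
      have h1 : ConjClasses.mk y.1.1 = ConjClasses.mk y₀ := congrArg Subtype.val hy
      rw [ConjClasses.mk_eq_mk_iff_isConj, isConj_comm, isConj_iff] at h1
      obtain ⟨g, hg⟩ := h1
      have hgN := mem_normalizer_of_conj hp hx hC hy₀P hy₀1 y.1.2.1 y.1.2.2 hg
      refine ⟨⟨g, hgN⟩, ?_⟩
      apply Subtype.ext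
      exact hg
    · -- z in orbit → z ≠ 1
      obtain ⟨n, hn⟩ := z.2
      have h1 : (n : G) * y₀ * (n : G)⁻¹ = z.1.1 := congrArg Subtype.val hn
      intro hz
      apply hy₀1
      rw [hz] at h1
      have : y₀ = (n : G)⁻¹ * ((n : G) * y₀ * (n : G)⁻¹) * (n : G) := by group
      rw [this, h1]; group
    · -- z in orbit → in fiber
      obtain ⟨n, hn⟩ := z.2
      have h1 : (n : G) * y₀ * (n : G)⁻¹ = z.1.1 := congrArg Subtype.val hn
      rw [hC0]
      apply Subtype.ext
      change ConjClasses.mk z.1.1 = ConjClasses.mk y₀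
      rw [ConjClasses.mk_eq_mk_iff_isConj, isConj_comm, isConj_iff]
      exact ⟨n, h1⟩
    · intro y; rfl
    · intro z; rfl
  have hsum : Nat.card Y = ∑ C : T, Nat.card {y : Y // f y = C} := by
    rw [← Nat.card_sigma]
    exact Nat.card_congr (Equiv.sigmaFiberEquiv f).symm
  rw [← hY, hsum]
  simp only [hfib, Finset.sum_const, Finset.card_univ, smul_eq_mul]
  rw [← Nat.card_eq_fintype_card]

/-- a normal `p'`-subgroup consists of commutators with `x` -/
theorem exists_commutator_of_normal (S : Subgroup G) [S.Normal] (hpS : ¬ p ∣ Nat.card S)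
    {s : G} (hs : s ∈ S) : ∃ s' ∈ S, s = s' * x * s'⁻¹ * x⁻¹ := by
  let φ : S → S := fun s => ⟨(s : G) * x * (s : G)⁻¹ * x⁻¹, by
    have : (s : G) * x * (s : G)⁻¹ * x⁻¹ = (s : G) * (x * (s : G)⁻¹ * x⁻¹) := by group
    rw [this]
    exact S.mul_mem s.2 (Subgroup.Normal.conj_mem inferInstance _ (S.inv_mem s.2) _)⟩
  have hinj : Function.Injective φ := by
    intro s s' hss
    have h3 : (s : G) * x * (s : G)⁻¹ * x⁻¹ = (s' : G) * x * (s' : G)⁻¹ * x⁻¹ := congrArg Subtype.val hss
    have h4 : (s : G) * x * (s : G)⁻¹ = (s' : G) * x * (s' : G)⁻¹ := mul_right_cancel h3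
    have h5 : x * ((s' : G)⁻¹ * s) = ((s' : G)⁻¹ * s) * x := by
      calc x * ((s' : G)⁻¹ * s) = (s' : G)⁻¹ * ((s' : G) * x * (s' : G)⁻¹) * s := by group
        _ = (s' : G)⁻¹ * ((s : G) * x * (s : G)⁻¹) * s := by rw [h4]
        _ = ((s' : G)⁻¹ * s) * x := by group
    have h6 := eq_one_of_commute hp hx hC S hpS hx (S.mul_mem (S.inv_mem s'.2) s.2) h5
    apply Subtype.ext
    have := inv_mul_eq_one.1 h6
    exact this.symm
  have hsurj : Function.Surjective φ := Finite.injective_iff_surjective.1 hinj
  obtain ⟨s', hs'⟩ := hsurj ⟨s, hs⟩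
  exact ⟨s', s'.2, (congrArg Subtype.val hs').symm⟩

theorem le_commutator_of_normal (S : Subgroup G) [S.Normal] (hpS : ¬ p ∣ Nat.card S) :
    S ≤ commutator G := by
  intro s hs
  obtain ⟨s', -, rfl⟩ := exists_commutator_of_normal hp hx hC S hpS hs
  rw [commutator_def]
  exact Subgroup.commutator_mem_commutator (Subgroup.mem_top s') (Subgroup.mem_top x)

/-- Frattini argument for a normal subgroup containing an element of order `p` -/
theorem frattini (S : Subgroup G) [S.Normal] {y : G} (hyS : y ∈ S) (hy : orderOf y = p) :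
    Subgroup.normalizer ((Subgroup.zpowers y : Subgroup G) : Set G) ⊔ S = ⊤ := by
  haveI : Fact p.Prime := ⟨hp⟩
  have hy' : orderOf (⟨y, hyS⟩ : S) = p := by rw [← Subgroup.orderOf_coe]; exact hy
  have hPG : IsPGroup p (Subgroup.zpowers (⟨y, hyS⟩ : S)) :=
    IsPGroup.of_card (n := 1) (by rw [Nat.card_zpowers, hy', pow_one])
  obtain ⟨Q, hQ⟩ := hPG.exists_le_sylow
  have hfr := Sylow.normalizer_sup_eq_top Q
  have hpS : p ∣ Nat.card S := by
    rw [← hy']; exact orderOf_dvd_natCard _
  have hQcard : Nat.card (Q : Subgroup S) = p := by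
    rw [Q.card_eq_multiplicity]
    have h1 : (Nat.card S).factorization p ≤ (Nat.card G).factorization p := by
      apply (Nat.factorization_le_iff_dvd Nat.card_pos.ne' Nat.card_pos.ne').2
      exact Subgroup.card_subgroup_dvd_card S
    rw [factorization_card hp hx hC] at h1
    have h2 : 1 ≤ (Nat.card S).factorization p :=
      (hp.dvd_iff_one_le_factorization Nat.card_pos.ne').1 hpS
    have : (Nat.card S).factorization p = 1 := le_antisymm h1 h2
    rw [this, pow_one]
  have hQeq : (Q : Subgroup S) = Subgroup.zpowers (⟨y, hyS⟩ : S) := by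
    symm
    apply Subgroup.eq_of_le_of_card_ge hQ
    rw [hQcard, Nat.card_zpowers, hy']
  have hmap : (Q : Subgroup S).map S.subtype = Subgroup.zpowers y := by
    rw [hQeq, MonoidHom.map_zpowers]; rfl
  rw [hmap] at hfr
  exact hfr

end main

/-- Let the finite group G contain an element x of prime order p with C_G(x) = ⟨x⟩, and let t be the number of conjugacy classes of elements of order p. If t ≠ p − 1 then the commutator subgroup has index at most (p − 1)/t; if t = p − 1 it has index exactly p. -/
theorem result {G : Type*} [Group G] [Finite G] (p : ℕ) (hp : p.Prime) (x : G) (hx : orderOf x = p) (hC : Subgroup.centralizer ({x} : Set G) = Subgroup.zpowers x) (t : ℕ) (ht : Nat.card {C : ConjClasses G // ∃ g ∈ C.carrier, orderOf g = p} = t) : (t ≠ p - 1 → (commutator G).index * t ≤ p - 1) ∧ (t = p - 1 → (commutator G).index = p) := by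
  haveI : Fact p.Prime := ⟨hp⟩
  have hE := card_classes_mul_relIndex hp hx hC
  rw [ht] at hE
  set N : Subgroup G := Subgroup.normalizer ((Subgroup.zpowers x : Subgroup G) : Set G) with hN
  have hp1 : 0 < p - 1 := Nat.sub_pos_of_lt hp.one_lt
  have hcomm : ∀ a b : G, a ∈ Subgroup.zpowers x → b ∈ Subgroup.zpowers x → a * b = b * a := by
    intro a b ha hb
    obtain ⟨i, rfl⟩ := Subgroup.mem_zpowers_iff.1 ha
    obtain ⟨j, rfl⟩ := Subgroup.mem_zpowers_iff.1 hb
    exact ((Commute.refl x).zpow_zpow i j).eq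
  constructor
  · intro hne
    have he1 : (Subgroup.zpowers x).relIndex N ≠ 1 := by
      intro h1
      rw [h1, mul_one] at hE
      exact hne hE
    -- an element of N outside P
    have hnot : ¬ N ≤ Subgroup.zpowers x := fun h => he1 (Subgroup.relIndex_eq_one.2 h)
    obtain ⟨n, hnN, hnP⟩ := SetLike.not_le_iff_exists.1 hnot
    have hnx : n * x * n⁻¹ ∈ Subgroup.zpowers x :=
      (Subgroup.mem_normalizer_iff.1 hnN x).1 (Subgroup.mem_zpowers x)
    have hne' : n * x * n⁻¹ ≠ x := by
      intro h
      apply hnP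
      rw [← hC, Subgroup.mem_centralizer_iff]
      intro z hz
      rw [Set.mem_singleton_iff] at hz
      subst hz
      exact (mul_inv_eq_iff_eq_mul.1 h).symm
    have hcP : n * x * n⁻¹ * x⁻¹ ∈ Subgroup.zpowers x :=
      Subgroup.mul_mem _ hnx (Subgroup.inv_mem _ (Subgroup.mem_zpowers x))
    have hc1 : n * x * n⁻¹ * x⁻¹ ≠ 1 := fun h => hne' (mul_inv_eq_one.1 h)
    have hcD : n * x * n⁻¹ * x⁻¹ ∈ commutator G := by
      rw [commutator_def]
      exact Subgroup.commutator_mem_commutator (Subgroup.mem_top n) (Subgroup.mem_top x)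
    have hPD : Subgroup.zpowers x ≤ commutator G := by
      rw [← zpowers_eq_of_mem hp hx hcP hc1]
      exact Subgroup.zpowers_le.2 hcD
    have hxD : x ∈ commutator G := hPD (Subgroup.mem_zpowers x)
    have hfr := frattini hp hx hC (commutator G) hxD hx
    have hidx : (commutator G).index = (commutator G ⊓ N).relIndex N := by
      rw [Subgroup.inf_relIndex_right, ← Subgroup.relIndex_sup_right (K := commutator G) (H := N),
        hfr, Subgroup.relIndex_top_right]
    have hdvd : (commutator G).index ∣ (Subgroup.zpowers x).relIndex N := by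
      rw [hidx]
      apply Subgroup.relIndex_dvd_of_le_left
      exact le_inf hPD Subgroup.le_normalizer
    have he0 : (Subgroup.zpowers x).relIndex N ≠ 0 := by
      intro h0
      rw [h0, mul_zero] at hE
      omega
    have hle : (commutator G).index ≤ (Subgroup.zpowers x).relIndex N :=
      Nat.le_of_dvd (Nat.pos_of_ne_zero he0) hdvd
    calc (commutator G).index * t ≤ (Subgroup.zpowers x).relIndex N * t := Nat.mul_le_mul_right _ hle
      _ = p - 1 := by rw [mul_comm]; exact hE
  · intro heq
    rw [heq] at hE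
    have he1 : (Subgroup.zpowers x).relIndex N = 1 := by
      have := Nat.eq_of_mul_eq_mul_left hp1 (hE.trans (mul_one _).symm)
      exact this
    have hNP : N ≤ Subgroup.zpowers x := Subgroup.relIndex_eq_one.1 he1
    obtain ⟨P, hP⟩ := exists_sylow hp hx hC
    have hPN : Subgroup.normalizer ((P : Subgroup G) : Set G) ≤ Subgroup.centralizer ((P : Subgroup G) : Set G) := by
      rw [hP]
      intro n hn
      rw [Subgroup.mem_centralizer_iff]
      intro z hz
      exact hcomm z n hz (hNP hn)
    have hcompl := MonoidHom.ker_transferSylow_isComplement' P hPN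
    have hndvd := MonoidHom.not_dvd_card_ker_transferSylow P hPN
    set K := (MonoidHom.transferSylow P hPN).ker with hK
    have hKidx : K.index = p := by
      rw [hcompl.symm.index_eq_card, hP, Nat.card_zpowers, hx]
    have h1 : K ≤ commutator G := le_commutator_of_normal hp hx hC K hndvd
    have h2 : commutator G ≤ K := by
      rw [commutator_def, Subgroup.commutator_le]
      intro a _ b _
      rw [hK, MonoidHom.mem_ker, map_commutatorElement, commutatorElement_eq_one_iff_commute]
      have hab : ∀ u v : (P : Subgroup G), u * v = v * u := by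
        intro u v
        apply Subtype.ext
        have hu : (u : G) ∈ Subgroup.zpowers x := by rw [← hP]; exact u.2
        have hv : (v : G) ∈ Subgroup.zpowers x := by rw [← hP]; exact v.2
        exact hcomm _ _ hu hv
      exact hab _ _
    rw [le_antisymm h2 h1]
    exact hKidx

end Cfsg.Agent.S4495
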