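import Mathlib
import Cfsg.Statements.S4497
import Cfsg.Agent.S4495
import Cfsg.Agent.Lib.H22.PPrimeCore

set_option autoImplicit false
open Cfsg

namespace Cfsg.Agent.S4497

open Cfsg.Agent.S4496 Cfsg.Agent.S4495 Cfsg.Agent.Lib.H22
open scoped Pointwise commutatorElement

section main
variable {G : Type*} [Group G] [Finite G] {p : ℕ} (hp : p.Prime) {x : G} (hx : orderOf x = p)
  (hC : Subgroup.centralizer ({x} : Set G) = Subgroup.zpowers x)

include hp hx hC

/-- if the number of classes of elements of order `p` is not `p - 1` then `⟨x⟩ ≤ G'` -/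
theorem zpowers_le_commutator
    (hne : Nat.card {C : ConjClasses G // ∃ g ∈ C.carrier, orderOf g = p} ≠ p - 1) :
    Subgroup.zpowers x ≤ commutator G := by
  have hE := card_classes_mul_relIndex hp hx hC
  set N : Subgroup G := Subgroup.normalizer ((Subgroup.zpowers x : Subgroup G) : Set G) with hN
  have he1 : (Subgroup.zpowers x).relIndex N ≠ 1 := by
    intro h1
    rw [h1, mul_one] at hE
    exact hne hE
  have hnot : ¬ N ≤ Subgroup.zpowers x := fun h => he1 (Subgroup.relIndex_eq_one.2 h)
  obtain ⟨n, hnN, hnP⟩ := SetLike.not_le_iff_exists.1 hnot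
  have hnx : n * x * n⁻¹ ∈ Subgroup.zpowers x :=
    (Subgroup.mem_normalizer_iff.1 hnN x).1 (Subgroup.mem_zpowers x)
  have hne' : n * x * n⁻¹ ≠ x := by
    intro h
    apply hnP
    rw [← hC, Subgroup.mem_centralizer_iff]
    intro z hz
    rw [Set.mem_singleton_iff] at hz
    subst hz
    exact (mul_inv_eq_iff_eq_mul.1 h).symm
  have hcP : n * x * n⁻¹ * x⁻¹ ∈ Subgroup.zpowers x :=
    Subgroup.mul_mem _ hnx (Subgroup.inv_mem _ (Subgroup.mem_zpowers x))
  have hc1 : n * x * n⁻¹ * x⁻¹ ≠ 1 := fun h => hne' (mul_inv_eq_one.1 h)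
  have hcD : n * x * n⁻¹ * x⁻¹ ∈ commutator G := by
    rw [commutator_def]
    exact Subgroup.commutator_mem_commutator (Subgroup.mem_top n) (Subgroup.mem_top x)
  rw [← zpowers_eq_of_mem hp hx hcP hc1]
  exact Subgroup.zpowers_le.2 hcD

/-- the hypotheses pass to a subgroup containing `x` -/
theorem hyp_subgroup (D : Subgroup G) (hxD : x ∈ D) :
    orderOf (⟨x, hxD⟩ : D) = p ∧
    Subgroup.centralizer ({(⟨x, hxD⟩ : D)} : Set D) = Subgroup.zpowers (⟨x, hxD⟩ : D) := by
  refine ⟨by rw [← Subgroup.orderOf_coe]; exact hx, ?_⟩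
  ext d
  rw [Subgroup.mem_centralizer_iff]
  constructor
  · intro h
    have h1 : (d : G) ∈ Subgroup.centralizer ({x} : Set G) := by
      rw [Subgroup.mem_centralizer_iff]
      intro z hz
      rw [Set.mem_singleton_iff] at hz
      subst hz
      have := h ⟨z, hxD⟩ rfl
      exact congrArg Subtype.val this
    rw [hC] at h1
    obtain ⟨k, hk⟩ := Subgroup.mem_zpowers_iff.1 h1
    rw [Subgroup.mem_zpowers_iff]
    exact ⟨k, Subtype.ext (by rw [Subgroup.coe_zpow]; exact hk)⟩
  · intro h z hz
    rw [Set.mem_singleton_iff] at hz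
    subst hz
    obtain ⟨k, rfl⟩ := Subgroup.mem_zpowers_iff.1 h
    exact ((Commute.refl (⟨x, hxD⟩ : D)).zpow_right k).eq

/-- a normal subgroup of `D = G'` of order divisible by `p` is all of `D` (when `x ∈ D`) -/
theorem eq_top_of_dvd (hxD : x ∈ commutator G) (M' : Subgroup (commutator G)) [M'.Normal]
    (hpM : p ∣ Nat.card M') : M' = ⊤ := by
  haveI : Fact p.Prime := ⟨hp⟩
  obtain ⟨hxD1, hxD2⟩ := hyp_subgroup hp hx hC (commutator G) hxD
  -- an element of order p in M'
  obtain ⟨y', hy'⟩ := exists_prime_orderOf_dvd_card' (G := M') p hpM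
  have hyD : orderOf (y' : commutator G) = p := by rw [Subgroup.orderOf_coe]; exact hy'
  have hyC := centralizer_eq_of_orderOf hp hxD1 hxD2 hyD
  -- every element of order p of D lies in M'
  have hall : ∀ z : commutator G, orderOf z = p → z ∈ M' := by
    intro z hz
    obtain ⟨w, hw, -, d, hd⟩ := exists_conj_mem hp hyD hyC hz
    have hwM : w ∈ M' := (Subgroup.zpowers_le.2 y'.2) hw
    rw [← hd]
    exact Subgroup.Normal.conj_mem inferInstance w hwM d
  -- every conjugate of x in G lies in M'.map subtype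
  have hconj : Group.conjugatesOfSet ({x} : Set G) ⊆ (M'.map (commutator G).subtype : Subgroup G) := by
    intro z hz
    rw [Group.mem_conjugatesOfSet_iff] at hz
    obtain ⟨a, ha, haz⟩ := hz
    rw [Set.mem_singleton_iff] at ha
    subst ha
    obtain ⟨g, hg⟩ := isConj_iff.1 haz
    have hzD : z ∈ commutator G := by
      rw [← hg]
      exact Subgroup.Normal.conj_mem inferInstance a hxD g
    have hzo : orderOf (⟨z, hzD⟩ : commutator G) = p := by
      rw [← Subgroup.orderOf_coe]
      change orderOf z = p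
      rw [← hg, ← hx]
      exact (MulAut.conj g).orderOf_eq a
    exact ⟨⟨z, hzD⟩, hall _ hzo, rfl⟩
  have hL : Subgroup.normalClosure ({x} : Set G) ≤ (M'.map (commutator G).subtype : Subgroup G) :=
    (Subgroup.closure_le _).2 hconj
  have hxL : x ∈ Subgroup.normalClosure ({x} : Set G) :=
    Subgroup.subset_normalClosure (Set.mem_singleton x)
  have hpL : p ∣ Nat.card (Subgroup.normalClosure ({x} : Set G)) := by
    have : orderOf (⟨x, hxL⟩ : Subgroup.normalClosure ({x} : Set G)) = p := by
      rw [← Subgroup.orderOf_coe]; exact hx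
    rw [← this]
    exact orderOf_dvd_natCard _
  have hDL := part_a hp hx hC (Subgroup.normalClosure ({x} : Set G)) hpL
  rw [eq_top_iff]
  intro d _
  obtain ⟨m, hm, hmd⟩ := hL (hDL d.2)
  have : m = d := Subtype.ext hmd
  rwa [← this]

/-- a normal `p'`-subgroup of `D = G'` lies in `O_{p'}(G)` -/
theorem map_le_pPrimeCore (M' : Subgroup (commutator G)) [M'.Normal]
    (hpM : ¬ p ∣ Nat.card M') : M'.map (commutator G).subtype ≤ Cfsg.pPrimeCore p G := by
  have hM'O : M' ≤ Cfsg.pPrimeCore p (commutator G) :=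
    le_pPrimeCore p M' inferInstance ((Nat.Prime.coprime_iff_not_dvd hp).2 hpM).symm
  have hOn : ((Cfsg.pPrimeCore p (commutator G)).map (commutator G).subtype).Normal := by
    constructor
    intro n hn g
    obtain ⟨d, hd, rfl⟩ := hn
    have h1 : MulAut.conjNormal g d ∈ (Cfsg.pPrimeCore p (commutator G)).map
        (MulAut.conjNormal g : (commutator G) ≃* (commutator G)).toMonoidHom :=
      ⟨d, hd, rfl⟩
    have h2 := pPrimeCore_map_le p (MulAut.conjNormal g : (commutator G) ≃* (commutator G)) h1
    exact ⟨MulAut.conjNormal g d, h2, by simp [MulAut.conjNormal_apply]⟩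
  have hOc : (Nat.card ((Cfsg.pPrimeCore p (commutator G)).map (commutator G).subtype)).Coprime p := by
    have : Nat.card ((Cfsg.pPrimeCore p (commutator G)).map (commutator G).subtype) =
        Nat.card (Cfsg.pPrimeCore p (commutator G)) :=
      Nat.card_congr ((Cfsg.pPrimeCore p (commutator G)).equivMapOfInjective (commutator G).subtype
        (commutator G).subtype_injective).toEquiv.symm
    rw [this]
    exact card_pPrimeCore_coprime p
  exact (Subgroup.map_mono hM'O).trans (le_pPrimeCore p _ hOn hOc)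

end main

/-- Let the finite group G contain an element x of prime order p with C_G(x) = ⟨x⟩, let t be the number of conjugacy classes of elements of order p, and let S* = O_{p′}(G) be the largest normal subgroup of order prime to p. Then S* ≤ G′; if t ≠ p − 1 the quotient G′/S* is simple (in particular non-trivial); if t = p − 1 then G′ = S*. -/
theorem result {G : Type*} [Group G] [Finite G] (p : ℕ) (hp : p.Prime) (x : G) (hx : orderOf x = p) (hC : Subgroup.centralizer ({x} : Set G) = Subgroup.zpowers x) (t : ℕ) (ht : Nat.card {C : ConjClasses G // ∃ g ∈ C.carrier, orderOf g = p} = t) : Cfsg.pPrimeCore p G ≤ commutator G ∧ (t ≠ p - 1 → ∀ h : ((Cfsg.pPrimeCore p G).subgroupOf (commutator G)).Normal, IsSimpleGroup (↥(commutator G) ⧸ (Cfsg.pPrimeCore p G).subgroupOf (commutator G))) ∧ (t = p - 1 → commutator G = Cfsg.pPrimeCore p G) := by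
  haveI : Fact p.Prime := ⟨hp⟩
  haveI hSn : (Cfsg.pPrimeCore p G).Normal := pPrimeCore_normal p
  have hSp : ¬ p ∣ Nat.card (Cfsg.pPrimeCore p G) := not_dvd_card_pPrimeCore hp
  have h1 : Cfsg.pPrimeCore p G ≤ commutator G :=
    le_commutator_of_normal hp hx hC _ hSp
  have hx1 : x ≠ 1 := by
    intro h; rw [h, orderOf_one] at hx; exact hp.one_lt.ne hx
  have hxS : x ∉ Cfsg.pPrimeCore p G := by
    intro h
    have h2 : x ∈ Cfsg.pPrimeCore p G ⊓ Subgroup.zpowers x := ⟨h, Subgroup.mem_zpowers x⟩
    rw [inf_zpowers_eq_bot hp hx hC _ hSp hx] at h2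
    exact hx1 (Subgroup.mem_bot.1 h2)
  refine ⟨h1, ?_, ?_⟩
  · intro hne hnorm
    have hxD : x ∈ commutator G :=
      zpowers_le_commutator hp hx hC (by rw [ht]; exact hne) (Subgroup.mem_zpowers x)
    refine { exists_pair_ne := ?_, eq_bot_or_eq_top_of_normal := ?_ }
    · refine ⟨QuotientGroup.mk (⟨x, hxD⟩ : commutator G), 1, ?_⟩
      intro h
      rw [QuotientGroup.eq_one_iff, Subgroup.mem_subgroupOf] at h
      exact hxS h
    · intro Nb hNb
      obtain ⟨M', hM'⟩ : ∃ M' : Subgroup (commutator G), M' = Nb.comap (QuotientGroup.mk' ((Cfsg.pPrimeCore p G).subgroupOf (commutator G))) := ⟨_, rfl⟩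
      haveI : M'.Normal := by rw [hM']; exact Subgroup.Normal.comap hNb _
      have hNbM : Nb = M'.map (QuotientGroup.mk' ((Cfsg.pPrimeCore p G).subgroupOf (commutator G))) := by
        rw [hM']
        exact (Subgroup.map_comap_eq_self_of_surjective (QuotientGroup.mk'_surjective _) Nb).symm
      by_cases hpM : p ∣ Nat.card M'
      · right
        have := eq_top_of_dvd hp hx hC hxD M' hpM
        rw [hNbM, this]
        exact Subgroup.map_top_of_surjective _ (QuotientGroup.mk'_surjective _)
      · left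
        have h2 := map_le_pPrimeCore hp hx hC M' hpM
        have h3 : M' ≤ (Cfsg.pPrimeCore p G).subgroupOf (commutator G) := by
          intro m hm
          rw [Subgroup.mem_subgroupOf]
          exact h2 ⟨m, hm, rfl⟩
        rw [hNbM, eq_bot_iff]
        calc M'.map (QuotientGroup.mk' ((Cfsg.pPrimeCore p G).subgroupOf (commutator G)))
            ≤ ((Cfsg.pPrimeCore p G).subgroupOf (commutator G)).map (QuotientGroup.mk' _) := Subgroup.map_mono h3
          _ = ⊥ := QuotientGroup.map_mk'_self _
  · intro heq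
    have hidx := (Cfsg.Agent.S4495.result p hp x hx hC t ht).2 heq
    apply le_antisymm _ h1
    apply le_pPrimeCore p _ inferInstance
    apply ((Nat.Prime.coprime_iff_not_dvd hp).2 _).symm
    intro hdvd
    have hcard := Subgroup.card_mul_index (commutator G)
    rw [hidx] at hcard
    have h2 : p ^ 2 ∣ Nat.card G := by
      rw [← hcard, sq]
      exact Nat.mul_dvd_mul_right hdvd p
    have h3 := (hp.pow_dvd_iff_le_factorization Nat.card_pos.ne').1 h2
    rw [factorization_card hp hx hC] at h3
    omega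

end Cfsg.Agent.S4497
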