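import Cfsg.Statements.S4498
import Cfsg.Agent.Lib.H23.BlockOrth
import Cfsg.Agent.Lib.H23.BlockVanish

set_option autoImplicit false
open Cfsg

namespace Cfsg.Agent.S4498

open Cfsg.Agent.Lib.H23 Cfsg.Agent.Lib.H24
open scoped ComplexConjugate

/-- If `n` is divisible by distinct primes `p`, `q`, some power of an element of order `n` has
order `p * q`. -/
theorem exists_orderOf_eq_mul {G : Type*} [Group G] [Finite G] {p q : ℕ} (hp : p.Prime)
    (hq : q.Prime) (hpq : p ≠ q) (g : G) (h1 : p ∣ orderOf g) (h2 : q ∣ orderOf g) :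
    ∃ h : G, orderOf h = p * q := by
  have hcop : Nat.Coprime p q := (Nat.coprime_primes hp hq).mpr hpq
  have hdvd : p * q ∣ orderOf g := hcop.mul_dvd_of_dvd_of_dvd h1 h2
  obtain ⟨k, hk⟩ := hdvd
  refine ⟨g ^ k, ?_⟩
  have hpos : 0 < orderOf g := orderOf_pos g
  have hk0 : k ≠ 0 := by
    rintro rfl
    rw [mul_zero] at hk
    omega
  rw [orderOf_pow' g hk0, hk, Nat.gcd_eq_right (Dvd.intro_left _ rfl), Nat.mul_div_cancel _ (Nat.pos_of_ne_zero hk0)]

/-- Let p and q be distinct primes dividing the order of the finite group G, and suppose G has no element of order p·q. Fix maximal ideals M_p over p and M_q over q of the algebraic integers. Then the principal p-block and the principal q-block of G have a non-principal irreducible character in common. -/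
theorem result {G : Type*} [Group G] [Finite G] (p q : ℕ) [Fact p.Prime] [Fact q.Prime] (hpq : p ≠ q) (hp : p ∣ Nat.card G) (hq : q ∣ Nat.card G) (hno : ∀ g : G, orderOf g ≠ p * q) (Mp Mq : Ideal Cfsg.AlgInt) (hMp : Cfsg.IsPModular p Mp) (hMq : Cfsg.IsPModular q Mq) : ∃ χ : Cfsg.IrrCharacter G, (χ : G → ℂ) ≠ (fun _ => 1) ∧ χ ∈ Cfsg.principalBlock Mp G ∧ χ ∈ Cfsg.principalBlock Mq G := by
  classical
  haveI := Fintype.ofFinite G
  haveI := Fintype.ofFinite (IrrCharacter G)
  haveI hPp := isPrime_of_isPModular hMp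
  haveI hPq := isPrime_of_isPModular hMq
  have hpp : p.Prime := Fact.out
  have hqp : q.Prime := Fact.out
  let triv : IrrCharacter G := ⟨fun _ => 1, isIrrCharacter_one⟩
  obtain ⟨x, hx⟩ := exists_prime_orderOf_dvd_card' p hp
  obtain ⟨y, hy⟩ := exists_prime_orderOf_dvd_card' q hq
  set Bp := blockOf Mp (triv : G → ℂ) with hBp
  set Bq := blockOf Mq (triv : G → ℂ) with hBq
  by_contra hcon
  push_neg at hcon
  -- every element is p-regular or q-regular
  have hreg : ∀ g : G, ¬ p ∣ orderOf g ∨ ¬ q ∣ orderOf g := by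
    intro g
    by_contra h
    push_neg at h
    obtain ⟨h', hh'⟩ := exists_orderOf_eq_mul hpp hqp hpq g h.1 h.2
    exact hno h' hh'
  -- the two class functions
  set Θ : G → ℂ := fun g => ∑ χ : IrrCharacter G,
    if χ ∈ Bp then (χ : G → ℂ) g * conj ((χ : G → ℂ) x) else 0 with hΘ
  set Θ' : G → ℂ := fun g => ∑ ψ : IrrCharacter G,
    if ψ ∈ Bq then (ψ : G → ℂ) g * conj ((ψ : G → ℂ) y) else 0 with hΘ'
  have h1 : ∀ g : G, ¬ p ∣ orderOf g → Θ g = 0 := fun g hg =>
    weak_block_orthogonality hMp triv g x hg (by rw [hx])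
  have h2 : ∀ g : G, ¬ q ∣ orderOf g → Θ' g = 0 := fun g hg =>
    weak_block_orthogonality hMq triv g y hg (by rw [hy])
  have h3 : ∑ g : G, Θ g * conj (Θ' g) = 0 := by
    refine Finset.sum_eq_zero fun g _ => ?_
    rcases hreg g with h | h
    · rw [h1 g h, zero_mul]
    · rw [h2 g h, map_zero, mul_zero]
  -- expand the double sum
  set cp : IrrCharacter G → ℂ := fun χ => if χ ∈ Bp then conj ((χ : G → ℂ) x) else 0 with hcp
  set cq : IrrCharacter G → ℂ := fun ψ => if ψ ∈ Bq then (ψ : G → ℂ) y else 0 with hcq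
  have eΘ : ∀ g : G, Θ g = ∑ χ : IrrCharacter G, cp χ * (χ : G → ℂ) g := by
    intro g
    refine Finset.sum_congr rfl fun χ _ => ?_
    simp only [hcp]
    split_ifs
    · ring
    · ring
  have eΘ' : ∀ g : G, conj (Θ' g) = ∑ ψ : IrrCharacter G, cq ψ * conj ((ψ : G → ℂ) g) := by
    intro g
    rw [hΘ', map_sum]
    refine Finset.sum_congr rfl fun ψ _ => ?_
    simp only [hcq]
    split_ifs
    · rw [map_mul, Complex.conj_conj]; ring
    · rw [map_zero, zero_mul]
  have h4 : ∑ g : G, Θ g * conj (Θ' g) =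
      ∑ χ : IrrCharacter G, ∑ ψ : IrrCharacter G,
        cp χ * cq ψ * ∑ g : G, (χ : G → ℂ) g * conj ((ψ : G → ℂ) g) := by
    have e0 : ∀ g : G, Θ g * conj (Θ' g) = ∑ χ : IrrCharacter G, ∑ ψ : IrrCharacter G,
        cp χ * cq ψ * ((χ : G → ℂ) g * conj ((ψ : G → ℂ) g)) := by
      intro g
      rw [eΘ, eΘ', Finset.sum_mul_sum]
      refine Finset.sum_congr rfl fun χ _ => Finset.sum_congr rfl fun ψ _ => ?_
      ring
    simp only [e0]
    rw [Finset.sum_comm]
    refine Finset.sum_congr rfl fun χ _ => ?_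
    rw [Finset.sum_comm]
    refine Finset.sum_congr rfl fun ψ _ => ?_
    rw [Finset.mul_sum]
  rw [h4] at h3
  have h5 : ∀ χ : IrrCharacter G, ∑ ψ : IrrCharacter G,
      cp χ * cq ψ * ∑ g : G, (χ : G → ℂ) g * conj ((ψ : G → ℂ) g) =
      cp χ * cq χ * (Nat.card G : ℂ) := by
    intro χ
    rw [Finset.sum_eq_single χ]
    · rw [sum_mul_conj_irr, if_pos rfl]
    · intro ψ _ hψ
      rw [sum_mul_conj_irr, if_neg (Ne.symm hψ), mul_zero]
    · intro h
      exact absurd (Finset.mem_univ _) h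
  simp only [h5] at h3
  -- only the trivial character contributes
  have h6 : ∀ χ : IrrCharacter G, χ ≠ triv → cp χ * cq χ * (Nat.card G : ℂ) = 0 := by
    intro χ hχ
    simp only [hcp, hcq]
    by_cases hp' : χ ∈ Bp
    · by_cases hq' : χ ∈ Bq
      · exfalso
        refine hcon χ (fun h => hχ (Subtype.ext h)) hp' hq'
      · rw [if_neg hq', mul_zero, zero_mul]
    · rw [if_neg hp', zero_mul, zero_mul]
  rw [Finset.sum_eq_single triv (fun χ _ hχ => h6 χ hχ)
    (fun h => absurd (Finset.mem_univ _) h)] at h3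
  simp only [hcp, hcq] at h3
  rw [if_pos (mem_blockOf_self triv), if_pos (mem_blockOf_self triv)] at h3
  have hG : (Nat.card G : ℂ) ≠ 0 := by exact_mod_cast (Nat.card_pos (α := G)).ne'
  simp [triv] at h3

end Cfsg.Agent.S4498
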