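import Cfsg.Statements.S4499
import Cfsg.Agent.Lib.L0.BrauerFeit

set_option autoImplicit false
open Cfsg

namespace Cfsg.Agent.S4499

open Cfsg.Agent.Lib.H23 Cfsg.Agent.Lib.H24 Cfsg.Agent.Lib.L0 Cfsg.Agent.Lib.L0.Tilde
  Cfsg.Agent.Lib.L0.BrauerFeit Cfsg.Agent.Lib.H8

/-- Let G be a finite group whose order has p-part p^a (a ≥ 1), and fix a maximal ideal M of the algebraic integers containing p. If the degree of one irreducible character of a p-block B is divisible by p^(a−1), then the degree of every irreducible character in B is divisible by p^(a−1) (so B has defect at most 1). -/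
theorem result {G : Type*} [Group G] [Finite G] (p : ℕ) [Fact p.Prime] (M : Ideal Cfsg.AlgInt) (hM : Cfsg.IsPModular p M) (hpa : p ∣ Nat.card G) (B : Set (Cfsg.IrrCharacter G)) (hB : Cfsg.IsPBlock M B) (χ : Cfsg.IrrCharacter G) (hχ : χ ∈ B) (hdiv : p ^ ((Nat.card G).factorization p - 1) ∣ Cfsg.charDegree (χ : G → ℂ)) (ψ : Cfsg.IrrCharacter G) (hψ : ψ ∈ B) : p ^ ((Nat.card G).factorization p - 1) ∣ Cfsg.charDegree (ψ : G → ℂ) := by
  classical
  haveI := Fintype.ofFinite G
  haveI hPr := isPrime_of_isPModular hM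
  have hp : p.Prime := Fact.out
  obtain ⟨χ₁, rfl⟩ := hB
  set a := (Nat.card G).factorization p with ha
  by_contra hnd
  have hψ0 : charDegree (ψ : G → ℂ) ≠ 0 := (charDegree_pos _ ψ.2).ne'
  have hχ0 : charDegree (χ : G → ℂ) ≠ 0 := (charDegree_pos _ χ.2).ne'
  have h1 : ¬ (a - 1 ≤ (charDegree (ψ : G → ℂ)).factorization p) := fun h =>
    hnd ((hp.pow_dvd_iff_le_factorization hψ0).mpr h)
  have h2 : a - 1 ≤ (charDegree (χ : G → ℂ)).factorization p :=
    (hp.pow_dvd_iff_le_factorization hχ0).mp hdiv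
  have hlt : (charDegree (ψ : G → ℂ)).factorization p <
      (charDegree (χ : G → ℂ)).factorization p := by omega
  have hs : SameBlock M (χ : G → ℂ) (ψ : G → ℂ) := sameBlock_trans (sameBlock_symm hχ) hψ
  have hd1 := pow_succ_dvd_AAz_of_lt hM hs χ hlt
  have hd2 : (p : ℤ) ^ a ∣ AAz hM.1 χ χ := (pow_dvd_pow _ (by omega)).trans hd1
  have hpos := AAz_self_pos hM.1 χ
  have hle := AAz_self_le hM.1 χ
  have heq : AAz hM.1 χ χ = (p : ℤ) ^ a := by
    obtain ⟨k, hk⟩ := hd2
    have hpa : (0 : ℤ) < (p : ℤ) ^ a := pow_pos (by exact_mod_cast hp.pos) _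
    have hk1 : 1 ≤ k := by
      by_contra hk0
      push Not at hk0
      have : k ≤ 0 := by omega
      have := mul_nonpos_of_nonneg_of_nonpos hpa.le this
      rw [← hk] at this
      omega
    have : (p : ℤ) ^ a * 1 ≤ (p : ℤ) ^ a * k := mul_le_mul_of_nonneg_left hk1 hpa.le
    rw [← hk, mul_one] at this
    exact le_antisymm hle this
  have hvan := vanish_of_AAz_self_eq hM.1 χ heq
  obtain ⟨k, hk⟩ := exists_int_apply_one_of_vanish hp
    (isGeneralizedCharacter_of_isCharacter (isCharacter_of_irr χ.2)) hvan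
  rw [apply_one_eq_charDegree _ χ.2] at hk
  have hk' : (charDegree (χ : G → ℂ) : ℤ) = k * ((p ^ a : ℕ) : ℤ) := by exact_mod_cast hk
  have hdvd : p ^ a ∣ charDegree (χ : G → ℂ) := by
    have : ((p ^ a : ℕ) : ℤ) ∣ (charDegree (χ : G → ℂ) : ℤ) := ⟨k, by rw [hk', mul_comm]⟩
    exact_mod_cast this
  have h3 : a ≤ (charDegree (χ : G → ℂ)).factorization p :=
    (hp.pow_dvd_iff_le_factorization hχ0).mp hdvd
  -- the block of χ is a singleton
  have hsing : blockOf M (χ : G → ℂ) = {χ} := by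
    rw [← not_dvd_iff_blockOf_eq_singleton hM χ]
    obtain ⟨q, hq⟩ := charDegree_dvd_card (χ : G → ℂ) χ.2
    have hq' : Nat.card G / charDegree (χ : G → ℂ) = q := by
      rw [hq]; exact Nat.mul_div_cancel_left q (charDegree_pos _ χ.2)
    rw [hq']
    intro hpq
    have hq0 : q ≠ 0 := by
      rintro rfl
      rw [mul_zero] at hq
      exact Nat.card_pos.ne' hq
    have hfac : a = (charDegree (χ : G → ℂ)).factorization p + q.factorization p := by
      rw [ha, hq, Nat.factorization_mul hχ0 hq0]; rfl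
    have : 1 ≤ q.factorization p := (hp.dvd_iff_one_le_factorization hq0).mp hpq
    omega
  have hψχ : ψ ∈ blockOf M (χ : G → ℂ) := hs
  rw [hsing, Set.mem_singleton_iff] at hψχ
  rw [hψχ] at hlt
  exact lt_irrefl _ hlt

end Cfsg.Agent.S4499
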