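import Cfsg.Statements.S4500
import Mathlib
import Cfsg.Agent.Lib.L0.BrauerFeit3
import Cfsg.Agent.Lib.L0.PRegCongP
import Cfsg.Agent.Lib.H23.BlockVanish
import Cfsg.Agent.Lib.H23.BlockOsima
import Cfsg.Agent.Lib.H23.BlockIdem
import Cfsg.Agent.Lib.H23.BlockDefect
import Cfsg.Agent.Lib.H23.BurnsidePQ
import Cfsg.Agent.Lib.H23.DegreeDvd
import Cfsg.Agent.Lib.H24.CharBasic

set_option autoImplicit false

open Cfsg

namespace Cfsg.Agent.S4500

open Cfsg.Agent.Lib.H23 Cfsg.Agent.Lib.H24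
open scoped ComplexConjugate

/-- Weak block orthogonality: the principal `ℓ`-block of a group of order divisible by `ℓ`
contains a non-principal character of degree prime to any given prime `s`. -/
theorem exists_nonprincipal_not_dvd {G : Type*} [Group G] [Fintype G] (ℓ s : ℕ) (hℓ : ℓ.Prime)
    (hs : s.Prime) (M : Ideal AlgInt) (hM : IsPModular ℓ M) (hdvd : ℓ ∣ Nat.card G) :
    ∃ χ : IrrCharacter G, χ ∈ principalBlock M G ∧ (χ : G → ℂ) ≠ (fun _ => 1) ∧
      ¬ s ∣ charDegree (χ : G → ℂ) := by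
  classical
  haveI := Fintype.ofFinite (IrrCharacter G)
  haveI : Fact ℓ.Prime := ⟨hℓ⟩
  haveI hP := isPrime_of_isPModular hM
  obtain ⟨x, hx⟩ := exists_prime_orderOf_dvd_card' ℓ hdvd
  by_contra hcon
  push Not at hcon
  have h0 : blockCoeff (blockOf M ((trivialIrr G : IrrCharacter G) : G → ℂ)) x = 0 :=
    blockCoeff_eq_zero_of_dvd_orderOf hM (trivialIrr G) x (by rw [hx])
  rw [blockCoeff_eq_sum] at h0
  have hG0 : (Nat.card G : ℂ) ≠ 0 := by exact_mod_cast (Nat.card_pos (α := G)).ne'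
  have h1 : ∑ χ : IrrCharacter G,
      (if χ ∈ blockOf M ((trivialIrr G : IrrCharacter G) : G → ℂ) then
        (χ : G → ℂ) 1 * conj ((χ : G → ℂ) x) else 0) = 0 := by
    rcases mul_eq_zero.1 h0 with h | h
    · exact absurd (inv_eq_zero.1 h) hG0
    · exact h
  rw [← Finset.add_sum_erase _ _ (Finset.mem_univ (trivialIrr G))] at h1
  rw [if_pos (mem_blockOf_self _)] at h1
  simp only [trivialIrr_apply, map_one, mul_one] at h1
  have h2 : ∃ α : ℂ, IsIntegral ℤ α ∧
      ∑ χ ∈ Finset.univ.erase (trivialIrr G),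
        (if χ ∈ blockOf M ((trivialIrr G : IrrCharacter G) : G → ℂ) then
          (χ : G → ℂ) 1 * conj ((χ : G → ℂ) x) else 0) = (s : ℂ) * α := by
    refine ⟨∑ χ ∈ Finset.univ.erase (trivialIrr G),
        (if χ ∈ blockOf M ((trivialIrr G : IrrCharacter G) : G → ℂ) then
          ((charDegree (χ : G → ℂ) / s : ℕ) : ℂ) * conj ((χ : G → ℂ) x) else 0), ?_, ?_⟩
    · refine IsIntegral.sum _ fun χ _ => ?_
      split_ifs
      · have hnat : IsIntegral ℤ (((charDegree (χ : G → ℂ) / s : ℕ)) : ℂ) := by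
          obtain ⟨n, hn⟩ : ∃ n : ℕ, n = charDegree (χ : G → ℂ) / s := ⟨_, rfl⟩
          rw [← hn]
          have := isIntegral_algebraMap (R := ℤ) (A := ℂ) (x := (n : ℤ))
          simpa using this
        exact hnat.mul (isIntegral_conj (irr_isIntegral χ x))
      · exact isIntegral_zero
    · rw [Finset.mul_sum]
      refine Finset.sum_congr rfl fun χ hχ => ?_
      by_cases hB : χ ∈ blockOf M ((trivialIrr G : IrrCharacter G) : G → ℂ)
      · rw [if_pos hB, if_pos hB]
        have hne : (χ : G → ℂ) ≠ fun _ => 1 := fun h =>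
          (Finset.ne_of_mem_erase hχ) (Subtype.ext h)
        obtain ⟨c, hc⟩ := hcon χ hB hne
        rw [apply_one_eq_charDegree _ χ.2, hc, Nat.mul_div_cancel_left c hs.pos]
        push_cast
        ring
      · rw [if_neg hB, if_neg hB, mul_zero]
  obtain ⟨α, hα, hαeq⟩ := h2
  rw [hαeq] at h1
  apply not_isIntegral_neg_one_div_prime hs
  have hs0 : (s : ℂ) ≠ 0 := Nat.cast_ne_zero.2 hs.ne_zero
  have hα2 : α = (0 - 1 : ℂ) / (s : ℂ) := by
    rw [eq_div_iff hs0]
    linear_combination h1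
  rw [← hα2]
  exact hα

theorem exists_nonprincipal_not_dvd' {G : Type*} [Group G] [Fintype G] [Nontrivial G] (s : ℕ)
    (hs : s.Prime) :
    ∃ χ : IrrCharacter G, (χ : G → ℂ) ≠ (fun _ => 1) ∧ ¬ s ∣ charDegree (χ : G → ℂ) := by
  have hcard : Nat.card G ≠ 1 := by
    have := Finite.one_lt_card (α := G)
    omega
  obtain ⟨ℓ, hℓ, hℓd⟩ := Nat.exists_prime_and_dvd hcard
  obtain ⟨M, hM⟩ := Cfsg.Agent.Lib.L0.PRegP.exists_isPModular hℓ
  obtain ⟨χ, -, h1, h2⟩ := exists_nonprincipal_not_dvd ℓ s hℓ hs M hM hℓd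
  exact ⟨χ, h1, h2⟩

theorem exists_qpow_degree {G : Type*} [Group G] [Finite G] [Nontrivial G] (p q r a b c : ℕ)
    (hp : p.Prime) (hq : q.Prime) (hr : r.Prime) (hpq : p ≠ q) (hpr : p ≠ r)
    (ha : a ≤ 2) (hG : Nat.card G = p ^ a * q ^ b * r ^ c) :
    ∃ χ : IrrCharacter G, (χ : G → ℂ) ≠ (fun _ => 1) ∧
      ∃ k : ℕ, charDegree (χ : G → ℂ) = q ^ k := by
  classical
  haveI := Fintype.ofFinite G
  have key : ∃ χ : IrrCharacter G, (χ : G → ℂ) ≠ (fun _ => 1) ∧
      ¬ p ∣ charDegree (χ : G → ℂ) ∧ ¬ r ∣ charDegree (χ : G → ℂ) := by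
    by_cases hpG : p ∣ Nat.card G
    · obtain ⟨M, hM⟩ := Cfsg.Agent.Lib.L0.PRegP.exists_isPModular hp
      haveI hP := isPrime_of_isPModular hM
      obtain ⟨χ, hχB, h1, h2⟩ := exists_nonprincipal_not_dvd p r hp hr M hM hpG
      refine ⟨χ, h1, ?_, h2⟩
      intro hpχ
      haveI : Fact p.Prime := ⟨hp⟩
      have hB : χ ∈ blockOf M ((trivialIrr G : IrrCharacter G) : G → ℂ) := hχB
      have hpos : 0 < blockHeight p (blockOf M ((trivialIrr G : IrrCharacter G) : G → ℂ))
          (χ : G → ℂ) := by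
        unfold blockHeight
        have hinf : sInf ((fun ψ : IrrCharacter G =>
            (charDegree (ψ : G → ℂ)).factorization p) ''
            blockOf M ((trivialIrr G : IrrCharacter G) : G → ℂ)) = 0 := by
          apply Nat.eq_zero_of_le_zero
          apply Nat.sInf_le
          refine ⟨trivialIrr G, mem_blockOf_self _, ?_⟩
          have h3 : charDegree ((trivialIrr G : IrrCharacter G) : G → ℂ) = 1 :=
            charDegree_eq_of_apply_one (n := 1) (by simp)
          show (charDegree ((trivialIrr G : IrrCharacter G) : G → ℂ)).factorization p = 0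
          rw [h3]
          simp
        rw [hinf, Nat.sub_zero]
        exact hp.factorization_pos_of_dvd (charDegree_pos _ χ.2).ne' hpχ
      have h3 := Cfsg.Agent.Lib.L0.BrauerFeit.height_add_two_le hM (trivialIrr G) χ hB hpos
      have h4 : blockDefect p (blockOf M ((trivialIrr G : IrrCharacter G) : G → ℂ)) ≤
          (Nat.card G).factorization p := by
        unfold blockDefect
        exact Nat.sub_le _ _
      have h5 : (Nat.card G).factorization p ≤ 2 := by
        have hqp : ¬ p ∣ q := fun h => hpq ((Nat.prime_dvd_prime_iff_eq hp hq).1 h)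
        have hrp : ¬ p ∣ r := fun h => hpr ((Nat.prime_dvd_prime_iff_eq hp hr).1 h)
        have hpa : p ^ a ≠ 0 := pow_ne_zero _ hp.ne_zero
        have hqb : q ^ b ≠ 0 := pow_ne_zero _ hq.ne_zero
        have hrc : r ^ c ≠ 0 := pow_ne_zero _ hr.ne_zero
        rw [hG, Nat.factorization_mul (mul_ne_zero hpa hqb) hrc, Nat.factorization_mul hpa hqb]
        simp only [Finsupp.add_apply, Nat.factorization_pow, Finsupp.smul_apply, smul_eq_mul,
          hp.factorization_self, Nat.factorization_eq_zero_of_not_dvd hqp,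
          Nat.factorization_eq_zero_of_not_dvd hrp]
        omega
      omega
    · obtain ⟨χ, h1, h2⟩ := exists_nonprincipal_not_dvd' (G := G) r hr
      refine ⟨χ, h1, ?_, h2⟩
      intro hpχ
      exact hpG (hpχ.trans (charDegree_dvd_card _ χ.2))
  obtain ⟨χ, h1, hnp, hnr⟩ := key
  refine ⟨χ, h1, ?_⟩
  have hd : charDegree (χ : G → ℂ) ∣ p ^ a * q ^ b * r ^ c := hG ▸ charDegree_dvd_card _ χ.2
  have hcr : (charDegree (χ : G → ℂ)).Coprime (r ^ c) :=
    Nat.Coprime.pow_right c ((Nat.Prime.coprime_iff_not_dvd hr).2 hnr).symm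
  have hcp : (charDegree (χ : G → ℂ)).Coprime (p ^ a) :=
    Nat.Coprime.pow_right a ((Nat.Prime.coprime_iff_not_dvd hp).2 hnp).symm
  have hd2 : charDegree (χ : G → ℂ) ∣ p ^ a * q ^ b := hcr.dvd_of_dvd_mul_right hd
  have hd3 : charDegree (χ : G → ℂ) ∣ q ^ b := hcp.dvd_of_dvd_mul_left hd2
  obtain ⟨k, -, hk⟩ := (Nat.dvd_prime_pow hq).1 hd3
  exact ⟨k, hk⟩

/-- Let G be a non-trivial finite group of order p^a · q^b · r^c with p, q, r distinct primes and a ≤ 2. Then G has a non-principal irreducible character whose degree is a power of q, and a non-principal irreducible character whose degree is a power of r; the power may be the zeroth, so a non-principal linear character serves for both. -/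
theorem result {G : Type*} [Group G] [Finite G] [Nontrivial G] (p q r a b c : ℕ) (hp : p.Prime) (hq : q.Prime) (hr : r.Prime) (hpq : p ≠ q) (hpr : p ≠ r) (hqr : q ≠ r) (ha : a ≤ 2) (hG : Nat.card G = p ^ a * q ^ b * r ^ c) : (∃ χ : Cfsg.IrrCharacter G, (χ : G → ℂ) ≠ (fun _ => 1) ∧ ∃ k : ℕ, Cfsg.charDegree (χ : G → ℂ) = q ^ k) ∧ ∃ χ : Cfsg.IrrCharacter G, (χ : G → ℂ) ≠ (fun _ => 1) ∧ ∃ k : ℕ, Cfsg.charDegree (χ : G → ℂ) = r ^ k := by
  have _ := hqr
  refine ⟨exists_qpow_degree p q r a b c hp hq hr hpq hpr ha hG,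
    exists_qpow_degree p r q a c b hp hr hq hpr hpq ha ?_⟩
  rw [hG]
  ring

end Cfsg.Agent.S4500
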