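import Cfsg.Statements.S4506
import Mathlib
import Cfsg.Agent.Lib.H24.PConjC

set_option autoImplicit false
open Cfsg

namespace Cfsg.Agent.S4506

/-- Let G be a finite group, p a prime, p^a the p-part of the order of G and g′ its p′-part. Call two irreducible characters p-conjugate when one is obtained from the other by applying a field automorphism of ℂ that fixes the g′-th roots of unity, and let r be the number of characters p-conjugate to the irreducible character χ (χ included). Then the exponent of p in r·χ(1) is at most a; and if p^a divides r·χ(1) then p^a already divides χ(1). -/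
theorem result {G : Type*} [Group G] [Finite G] (p : ℕ) (hp : p.Prime) (χ : Cfsg.IrrCharacter G) (r : ℕ) (hr : Nat.card {ψ : Cfsg.IrrCharacter G // ∃ σ : ℂ ≃+* ℂ, σ (Complex.exp (2 * Real.pi * Complex.I / ((Nat.card G / p ^ (Nat.card G).factorization p) : ℕ))) = Complex.exp (2 * Real.pi * Complex.I / ((Nat.card G / p ^ (Nat.card G).factorization p) : ℕ)) ∧ (ψ : G → ℂ) = fun g => σ ((χ : G → ℂ) g)} = r) : (r * Cfsg.charDegree (χ : G → ℂ)).factorization p ≤ (Nat.card G).factorization p ∧ (p ^ (Nat.card G).factorization p ∣ r * Cfsg.charDegree (χ : G → ℂ) → p ^ (Nat.card G).factorization p ∣ Cfsg.charDegree (χ : G → ℂ)) := by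
  classical
  have := Fintype.ofFinite G
  have := Fintype.ofFinite (Cfsg.IrrCharacter G)
  obtain ⟨n', hn'⟩ : ∃ n' : ℕ, n' = Nat.card G / p ^ (Nat.card G).factorization p := ⟨_, rfl⟩
  rw [← hn'] at hr
  have hn0 : n' ≠ 0 := by
    rw [hn']
    exact (Nat.ordCompl_pos p Nat.card_pos.ne').ne'
  obtain ⟨S, hSdef⟩ : ∃ S : Finset (Cfsg.IrrCharacter G), S = Finset.univ.filter
      (fun ψ : Cfsg.IrrCharacter G => ∃ σ : ℂ ≃+* ℂ,
        σ (Complex.exp (2 * Real.pi * Complex.I / (n' : ℂ)))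
          = Complex.exp (2 * Real.pi * Complex.I / (n' : ℂ)) ∧
        (ψ : G → ℂ) = fun g => σ ((χ : G → ℂ) g)) := ⟨_, rfl⟩
  have hcard : S.card = r := by
    rw [← hr, hSdef, Nat.card_eq_fintype_card, Fintype.card_subtype]
  have hχS : χ ∈ S := by
    rw [hSdef, Finset.mem_filter]
    exact ⟨Finset.mem_univ _, RingEquiv.refl ℂ, rfl, rfl⟩
  have hS2 : ∀ ψ ∈ S, ∃ σ : ℂ ≃+* ℂ, (ψ : G → ℂ) = fun g => σ ((χ : G → ℂ) g) := by
    intro ψ hψ
    rw [hSdef, Finset.mem_filter] at hψ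
    obtain ⟨_, σ, _, hσ⟩ := hψ
    exact ⟨σ, hσ⟩
  have hS1 : ∀ ψ ∈ S, ∀ g : G, ¬ p ∣ orderOf g → (ψ : G → ℂ) g = (χ : G → ℂ) g := by
    intro ψ hψ g hg
    rw [hSdef, Finset.mem_filter] at hψ
    obtain ⟨_, σ, hσ1, hσ⟩ := hψ
    obtain ⟨n, ρ, hρ, hχρ⟩ := Cfsg.Agent.Lib.H24.irr_exists_rep χ
    rw [hσ]
    simp only
    rw [← hχρ]
    apply Cfsg.Agent.Lib.H24.PConj.ringEquiv_char_eq_of_pow_eq_one σ n' hn0 hσ1 ρ g
    rw [hn']
    exact Cfsg.Agent.Lib.H24.PConj.pow_ordCompl_eq_one hp g hg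
  obtain ⟨z, hz0, hdvd, hle, heq⟩ := Cfsg.Agent.Lib.H24.PConj.pconj_ineq hp χ S hχS hS1
  rw [hcard] at hle heq
  have hr0 : r ≠ 0 := by
    rw [← hcard]
    exact (Finset.card_pos.2 ⟨χ, hχS⟩).ne'
  have hd0 : Cfsg.charDegree (χ : G → ℂ) ≠ 0 :=
    (Cfsg.Agent.Lib.H23.charDegree_pos _ χ.2).ne'
  have hfac : (r * Cfsg.charDegree (χ : G → ℂ)).factorization p
      = r.factorization p + (Cfsg.charDegree (χ : G → ℂ)).factorization p := by
    rw [Nat.factorization_mul hr0 hd0]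
    rfl
  have h1 : p ^ r.factorization p ≤ r := Nat.le_of_dvd (Nat.pos_of_ne_zero hr0) (Nat.ordProj_dvd r p)
  have h2 : p ^ (Cfsg.charDegree (χ : G → ℂ)).factorization p ≤ z := Nat.le_of_dvd hz0 hdvd
  have h3 : p ^ (r.factorization p + (Cfsg.charDegree (χ : G → ℂ)).factorization p) ≤ r * z := by
    rw [pow_add]
    exact Nat.mul_le_mul h1 h2
  refine ⟨?_, ?_⟩
  · rw [hfac]
    exact (Nat.pow_le_pow_iff_right hp.one_lt).1 (h3.trans hle)
  · intro hdiv
    have h4 : (Nat.card G).factorization p ≤ (r * Cfsg.charDegree (χ : G → ℂ)).factorization p :=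
      (Nat.Prime.pow_dvd_iff_le_factorization hp (Nat.mul_ne_zero hr0 hd0)).1 hdiv
    rw [hfac] at h4
    have h5 : p ^ (Nat.card G).factorization p ≤ r * z :=
      (Nat.pow_le_pow_right hp.pos h4).trans h3
    have h6 : r * z = p ^ (Nat.card G).factorization p := le_antisymm hle h5
    exact Cfsg.Agent.Lib.H24.PConj.pconj_vanish hp χ S hχS hS2 (heq h6)

end Cfsg.Agent.S4506
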