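import Cfsg.Statements.S4508
import Mathlib
import Cfsg.Agent.Lib.H24.BrauerP3
import Cfsg.Agent.Lib.H24.BrauerP6
import Cfsg.Agent.Lib.H24.DetCyclic
import Cfsg.Agent.Lib.H24.SelfCentClasses
import Cfsg.Agent.Lib.H24.SelfCentGen
import Cfsg.Agent.Lib.L0.CyclicSylowTwo

set_option autoImplicit false
open Cfsg

namespace Cfsg.Agent.S4508

/-- Let the finite group G contain an element x of prime order p with C_G(x) = ⟨x⟩, and let t be the number of conjugacy classes of elements of order p. If G has an irreducible character of degree p − 1, then t is even or the commutator subgroup has even index. -/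
theorem result {G : Type*} [Group G] [Finite G] (p : ℕ) (hp : p.Prime) (x : G) (hx : orderOf x = p) (hC : Subgroup.centralizer ({x} : Set G) = Subgroup.zpowers x) (t : ℕ) (ht : Nat.card {C : ConjClasses G // ∃ g ∈ C.carrier, orderOf g = p} = t) (χ : Cfsg.IrrCharacter G) (hχ : Cfsg.charDegree (χ : G → ℂ) + 1 = p) : Even t ∨ Even (commutator G).index := by
  classical
  haveI : Fact p.Prime := ⟨hp⟩
  by_cases hte : Even t
  · exact Or.inl hte
  right
  rw [Nat.not_even_iff_odd] at hte
  rcases hp.eq_two_or_odd' with hp2 | hpodd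
  · -- `p = 2`: cyclic Sylow 2-subgroup
    subst hp2
    obtain ⟨P, hxP⟩ := Cfsg.Agent.Lib.H5.exists_sylow_mem_of_orderOf_eq x hx
    have hPz := Cfsg.Agent.S0995.sylow_eq_zpowers 2 x hx hC P hxP
    have hPcard : Nat.card (P : Subgroup G) = 2 := by rw [hPz, Nat.card_zpowers, hx]
    have hcyc : IsCyclic (P : Subgroup G) := isCyclic_of_prime_card hPcard
    have h2 : 2 ∣ Nat.card G := by
      have := orderOf_dvd_natCard x
      rwa [hx] at this
    obtain ⟨Kc, hKn, hcompl, -⟩ :=
      Cfsg.Agent.Lib.L0.exists_odd_normal_complement_of_cyclic_sylow P hcyc h2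
    have hidx : Kc.index = 2 := by rw [hcompl.symm.index_eq_card, hPcard]
    have hQcard : Nat.card (G ⧸ Kc) = 2 := by rw [← Subgroup.index_eq_card, hidx]
    have : IsCyclic (G ⧸ Kc) := isCyclic_of_prime_card hQcard
    letI : CommGroup (G ⧸ Kc) := IsCyclic.commGroup
    have hle : commutator G ≤ Kc := by
      have := Abelianization.commutator_subset_ker (QuotientGroup.mk' Kc)
      rwa [QuotientGroup.ker_mk'] at this
    have := Subgroup.index_dvd_of_le hle
    rw [hidx] at this
    exact even_iff_two_dvd.2 this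
  · -- `p` odd
    set K : Subgroup G := Subgroup.zpowers x with hKdef
    have hK : Nat.card K = p := by rw [hKdef, Nat.card_zpowers, hx]
    have hCK : Subgroup.centralizer (K : Set G) = K := by
      rw [hKdef, Cfsg.Agent.Lib.H24.centralizer_zpowers_eq, hC]
    have hcount := Cfsg.Agent.Lib.H24.card_classes_mul_relIndex p x hx hC
    rw [ht] at hcount
    haveI : Fintype G := Fintype.ofFinite G
    haveI : Fintype (Cfsg.Agent.Lib.L0.FrobTI.nz K) := Fintype.ofFinite _
    set e := (K.subgroupOf (Cfsg.Agent.Lib.L0.FrobTI.nz K)).index with hedef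
    have hte' : t * e = p - 1 := hcount
    have hp2 : 2 ≤ p := hp.two_le
    have heven : Even e := by
      have h1 : Even (p - 1) := by
        obtain ⟨k, hk⟩ := hpodd
        exact ⟨k, by omega⟩
      rw [← hte', Nat.even_mul] at h1
      rcases h1 with h1 | h1
      · exact absurd h1 (Nat.not_even_iff_odd.2 hte)
      · exact h1
    obtain ⟨f, hf⟩ := heven
    have hf0 : 0 < f := by
      rcases Nat.eq_zero_or_pos f with h0 | h0
      · exfalso
        rw [h0] at hf
        rw [hf] at hte'
        omega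
      · exact h0
    have he2 : 2 ≤ e := by omega
    have hF := Cfsg.Agent.Lib.H24.BrP.frobTI_of_prime_card hK hCK
    have hab := Cfsg.Agent.Lib.H24.BrP.comm_of_prime_card hK
    have hcardRel : Nat.card (Cfsg.Agent.Lib.H8.RelT K) = t := by
      have h1 := Cfsg.Agent.Lib.H4.Feit.card_K_eq hF hab
      rw [hK, ← hedef] at h1
      have h2 : Nat.card (Cfsg.Agent.Lib.H8.RelT K) * e = t * e := by omega
      exact Nat.eq_of_mul_eq_mul_right (by omega) h2
    have hdeg : (χ : G → ℂ) 1 = (Nat.card K : ℂ) - 1 := by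
      rw [Cfsg.Agent.Lib.H23.apply_one_eq_charDegree _ χ.2, hK, ← hχ]
      push_cast
      ring
    have hpi : Cfsg.classInner (Cfsg.Agent.Lib.H8.piFun K)
        (fun n : Cfsg.Agent.Lib.L0.FrobTI.nz K => (χ : G → ℂ) n) = 0 := by
      have ht13 : t = 1 ∨ 3 ≤ t := by
        obtain ⟨k, hk⟩ := hte
        omega
      rcases ht13 with h1 | h1
      · exact Cfsg.Agent.Lib.H24.BrP.pi_inner_eq_zero_of_degree_one hF hab
          (by rw [hcardRel, h1]) he2 χ hdeg
      · exact Cfsg.Agent.Lib.H24.BrP.pi_inner_eq_zero_of_degree_ge hF hab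
          (by rw [hcardRel]; exact h1) he2 χ hdeg
    have hχchar : Cfsg.IsCharacter G (χ : G → ℂ) := Cfsg.Agent.Lib.L0.isCharacter_of_irr χ.2
    have hvan := Cfsg.Agent.Lib.H24.BrP.vanish_of_pi_inner_zero hF _
      (Cfsg.Agent.Lib.L0.isCharacter_restrict _ hχchar) hpi
    obtain ⟨h, hhN, hord, -, hcK⟩ := Cfsg.Agent.Lib.H24.exists_generator_complement K hK hCK
    -- the cyclic group generated by `h`
    set C : Subgroup G := Subgroup.zpowers h with hCdef
    have hCN : C ≤ Subgroup.normalizer (K : Set G) := by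
      rw [hCdef, Subgroup.zpowers_le]
      exact hhN
    set h' : C := ⟨h, Subgroup.mem_zpowers h⟩ with hh'
    have hgen : ∀ c : C, c ∈ Subgroup.zpowers h' := by
      intro c
      obtain ⟨k, hk⟩ := Subgroup.mem_zpowers_iff.1 c.2
      rw [Subgroup.mem_zpowers_iff]
      refine ⟨k, ?_⟩
      apply Subtype.ext
      rw [Subgroup.coe_zpow]
      exact hk
    have hordh' : orderOf h' = 2 * f := by
      rw [← Subgroup.orderOf_coe, hh', hord, ← hedef, hf]
      ring
    have hθ1 : (fun c : C => (χ : G → ℂ) c) 1 = (t : ℂ) * ((2 * f : ℕ) : ℂ) := by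
      change (χ : G → ℂ) ((1 : C) : G) = _
      rw [Subgroup.coe_one, hdeg, hK]
      have h3 : 2 * f = e := by omega
      rw [h3]
      have h4 : ((p - 1 : ℕ) : ℂ) = (p : ℂ) - 1 := by
        rw [Nat.cast_sub (by omega)]
        simp
      rw [← h4, ← hte']
      push_cast
      ring
    have hθ0 : ∀ c : C, c ≠ 1 → (fun c : C => (χ : G → ℂ) c) c = 0 := by
      intro c hc
      have hc1 : (c : G) ≠ 1 := fun h1 => hc (Subtype.ext h1)
      have hcnK : (c : G) ∉ K := hcK c c.2 hc1
      exact hvan ⟨(c : G), hCN c.2⟩ hcnK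
    have hdet := Cfsg.Agent.Lib.H24.detChar_regular_cyclic h' hgen f hf0 hordh' t
      (fun c : C => (χ : G → ℂ) c) hθ1 hθ0
    rw [Cfsg.Agent.Lib.H23.detChar_restrict C hχchar, hte.neg_one_pow] at hdet
    obtain ⟨φ, hφ⟩ := Cfsg.Agent.Lib.H23.exists_hom_detChar hχchar
    rw [hφ] at hdet
    have hdet' : (φ h : ℂ) = -1 := hdet
    -- the abelianization has even order
    have h1 : φ h = -1 := Units.ext hdet'
    have h2 : (Abelianization.lift φ) (Abelianization.of h) = -1 := by
      rw [Abelianization.lift_apply_of]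
      exact h1
    have h3 : orderOf (-1 : ℂˣ) = 2 := by
      apply orderOf_eq_prime
      · simp
      · intro h4
        have := congrArg Units.val h4
        norm_num at this
    have h4 : 2 ∣ Nat.card (Abelianization G) := by
      rw [← h3, ← h2]
      exact (orderOf_map_dvd _ _).trans (orderOf_dvd_natCard _)
    rw [Subgroup.index_eq_card]
    exact even_iff_two_dvd.2 h4

end Cfsg.Agent.S4508
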