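import Mathlib
import Cfsg.Statements.S4509
import Cfsg.Agent.S4497

set_option autoImplicit false
open Cfsg

namespace Cfsg.Agent.S4509

open Cfsg.Agent.S4496 Cfsg.Agent.S4495 Cfsg.Agent.S4497 Cfsg.Agent.Lib.H22
open scoped Pointwise commutatorElement

section main
variable {G : Type*} [Group G] [Finite G] {p : ℕ} (hp : p.Prime) {x : G} (hx : orderOf x = p)
  (hC : Subgroup.centralizer ({x} : Set G) = Subgroup.zpowers x)

include hp hx hC

/-- the number of subgroups of order `p` is the index of the normalizer of `⟨x⟩` -/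
theorem card_subgroups_eq_index :
    Nat.card {H : Subgroup G // Nat.card H = p} =
      (Subgroup.normalizer ((Subgroup.zpowers x : Subgroup G) : Set G)).index := by
  haveI : Fact p.Prime := ⟨hp⟩
  obtain ⟨P, hP⟩ := exists_sylow hp hx hC
  have hf := factorization_card hp hx hC
  have e : {H : Subgroup G // Nat.card H = p} ≃ Sylow p G :=
    { toFun := fun H => Sylow.ofCard H.1 (by rw [hf, pow_one]; exact H.2)
      invFun := fun Q => ⟨Q.1, by rw [Q.card_eq_multiplicity, hf, pow_one]⟩
      left_inv := fun H => rfl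
      right_inv := fun Q => Sylow.ext rfl }
  rw [Nat.card_congr e, Sylow.card_eq_index_normalizer P]
  change (Subgroup.normalizer ((P : Subgroup G) : Set G)).index = _
  rw [hP]

theorem card_normalizer :
    Nat.card (Subgroup.normalizer ((Subgroup.zpowers x : Subgroup G) : Set G)) =
      p * (Subgroup.zpowers x).relIndex (Subgroup.normalizer ((Subgroup.zpowers x : Subgroup G) : Set G)) := by
  have := Subgroup.relIndex_mul_relIndex ⊥ (Subgroup.zpowers x)
    (Subgroup.normalizer ((Subgroup.zpowers x : Subgroup G) : Set G)) bot_le Subgroup.le_normalizer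
  rw [Subgroup.relIndex_bot_left, Subgroup.relIndex_bot_left, Nat.card_zpowers, hx] at this
  exact this.symm

theorem card_group :
    Nat.card G = Nat.card {H : Subgroup G // Nat.card H = p} *
      (p * (Subgroup.zpowers x).relIndex (Subgroup.normalizer ((Subgroup.zpowers x : Subgroup G) : Set G))) := by
  rw [card_subgroups_eq_index hp hx hC, ← card_normalizer hp hx hC]
  exact (Subgroup.index_mul_card _).symm

/-- `|G : G'| = |N ∩ G' : ... |` : the index of the commutator subgroup when `x ∈ G'` -/
theorem index_commutator (hxD : x ∈ commutator G) :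
    (commutator G).index =
      (commutator G ⊓ Subgroup.normalizer ((Subgroup.zpowers x : Subgroup G) : Set G)).relIndex
        (Subgroup.normalizer ((Subgroup.zpowers x : Subgroup G) : Set G)) := by
  have hfr := frattini hp hx hC (commutator G) hxD hx
  rw [Subgroup.inf_relIndex_right, ← Subgroup.relIndex_sup_right (K := commutator G)
    (H := Subgroup.normalizer ((Subgroup.zpowers x : Subgroup G) : Set G)), hfr,
    Subgroup.relIndex_top_right]

/-- a normal subgroup whose order is the number of subgroups of order `p` contains `G''` -/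
theorem derived2_le_of_normal (S : Subgroup G) [S.Normal] (hpS : ¬ p ∣ Nat.card S)
    (hcard : Nat.card S = Nat.card {H : Subgroup G // Nat.card H = p}) :
    derivedSeries G 2 ≤ S := by
  haveI : Fact p.Prime := ⟨hp⟩
  have hx' := part_b2 hp hx hC S hpS
  have hC' := part_b5 hp hx hC S hpS
  have hE := card_classes_mul_relIndex hp hx hC
  set e := (Subgroup.zpowers x).relIndex (Subgroup.normalizer ((Subgroup.zpowers x : Subgroup G) : Set G)) with he
  have hedvd : e ∣ p - 1 := Dvd.intro_left _ hE
  have hp1 : 0 < p - 1 := Nat.sub_pos_of_lt hp.one_lt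
  -- order of the quotient
  have hcardQ : Nat.card (G ⧸ S) = p * e := by
    have h1 := Subgroup.card_eq_card_quotient_mul_card_subgroup S
    have h2 := card_group hp hx hC
    rw [← hcard, ← he] at h2
    rw [h2, mul_comm] at h1
    exact (Nat.eq_of_mul_eq_mul_right Nat.card_pos h1).symm
  obtain ⟨Q, hQ⟩ := exists_sylow hp hx' hC'
  have hQidx : (Q : Subgroup (G ⧸ S)).index = e := by
    have h1 := Subgroup.card_mul_index (Q : Subgroup (G ⧸ S))
    rw [hQ, Nat.card_zpowers, hx', hcardQ, ← hQ] at h1
    exact Nat.eq_of_mul_eq_mul_left hp.pos h1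
  have h1 : Nat.card (Sylow p (G ⧸ S)) ∣ e := by
    rw [← hQidx]; exact Q.card_dvd_index
  have h2 : Nat.card (Sylow p (G ⧸ S)) ≡ 1 [MOD p] := card_sylow_modEq_one p (G ⧸ S)
  have h3 : Nat.card (Sylow p (G ⧸ S)) ≤ p - 1 := Nat.le_of_dvd hp1 (h1.trans hedvd)
  have h4 : Nat.card (Sylow p (G ⧸ S)) = 1 := by
    have h5 : Nat.card (Sylow p (G ⧸ S)) < p := by omega
    have h6 : Nat.card (Sylow p (G ⧸ S)) % p = 1 % p := h2
    rw [Nat.mod_eq_of_lt h5, Nat.mod_eq_of_lt hp.one_lt] at h6
    exact h6
  haveI : Subsingleton (Sylow p (G ⧸ S)) := (Nat.card_eq_one_iff_unique.1 h4).1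
  haveI hQn : (Q : Subgroup (G ⧸ S)).Normal := Sylow.normal_of_subsingleton Q
  rw [hQ] at hQn
  have hcomm : commutator (G ⧸ S) ≤ Subgroup.zpowers (QuotientGroup.mk x : G ⧸ S) := by
    rw [commutator_def, Subgroup.commutator_le]
    intro a _ b _
    have hn : Subgroup.normalizer ((Subgroup.zpowers (QuotientGroup.mk x : G ⧸ S) : Subgroup (G ⧸ S)) : Set (G ⧸ S)) = ⊤ :=
      Subgroup.normalizer_eq_top _
    exact commutator_normalizer_le hp hx' hC' hx' a (by rw [hn]; trivial) b (by rw [hn]; trivial)
  have hd2 : derivedSeries (G ⧸ S) 2 = ⊥ := by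
    rw [eq_bot_iff]
    have : derivedSeries (G ⧸ S) 2 = ⁅commutator (G ⧸ S), commutator (G ⧸ S)⁆ := rfl
    rw [this]
    calc ⁅commutator (G ⧸ S), commutator (G ⧸ S)⁆
        ≤ ⁅Subgroup.zpowers (QuotientGroup.mk x : G ⧸ S), Subgroup.zpowers (QuotientGroup.mk x : G ⧸ S)⁆ :=
          Subgroup.commutator_mono hcomm hcomm
      _ = ⊥ := by
          rw [Subgroup.commutator_eq_bot_iff_le_centralizer]
          intro a ha
          rw [Subgroup.mem_centralizer_iff]
          intro b hb
          obtain ⟨i, rfl⟩ := Subgroup.mem_zpowers_iff.1 ha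
          obtain ⟨j, rfl⟩ := Subgroup.mem_zpowers_iff.1 hb
          exact ((Commute.refl _).zpow_zpow j i).eq
  have h5 := map_derivedSeries_le_derivedSeries (QuotientGroup.mk' S) 2
  rw [hd2, le_bot_iff] at h5
  intro g hg
  have h6 : QuotientGroup.mk' S g ∈ (derivedSeries G 2).map (QuotientGroup.mk' S) := ⟨g, hg, rfl⟩
  rw [h5, Subgroup.mem_bot] at h6
  exact (QuotientGroup.eq_one_iff g).1 h6

omit [Finite G] hp hx hC in
theorem mem_zpowers_subtype (D : Subgroup G) (hxD : x ∈ D) (h : D) :
    h ∈ Subgroup.zpowers (⟨x, hxD⟩ : D) ↔ (h : G) ∈ Subgroup.zpowers x := by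
  rw [Subgroup.mem_zpowers_iff, Subgroup.mem_zpowers_iff]
  constructor
  · rintro ⟨k, hk⟩
    exact ⟨k, by rw [← hk, Subgroup.coe_zpow]⟩
  · rintro ⟨k, hk⟩
    exact ⟨k, Subtype.ext (by rw [Subgroup.coe_zpow]; exact hk)⟩

/-- the case `t < p - 1`, `G'' ≠ G'` -/
theorem derived_case
    (hne : Nat.card {C : ConjClasses G // ∃ g ∈ C.carrier, orderOf g = p} ≠ p - 1)
    (hne2 : derivedSeries G 2 ≠ derivedSeries G 1) :
    Nat.card (derivedSeries G 2) = Nat.card {H : Subgroup G // Nat.card H = p} ∧
      Nat.card (commutator G) = p * Nat.card {H : Subgroup G // Nat.card H = p} := by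
  haveI : Fact p.Prime := ⟨hp⟩
  have hp1 : 0 < p - 1 := Nat.sub_pos_of_lt hp.one_lt
  have hxD : x ∈ commutator G := zpowers_le_commutator hp hx hC hne (Subgroup.mem_zpowers x)
  obtain ⟨hxD1, hxD2⟩ := hyp_subgroup hp hx hC (commutator G) hxD
  have hd2 : derivedSeries G 2 = (commutator (commutator G)).map (commutator G).subtype := by
    rw [Subgroup.map_subtype_commutator]; rfl
  have hD'ne : commutator (commutator G) ≠ ⊤ := by
    intro h
    apply hne2
    rw [hd2, h, ← MonoidHom.range_eq_map, Subgroup.range_subtype]; rfl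
  -- the number of classes of elements of order p in D is p - 1
  have htD : Nat.card {C : ConjClasses (commutator G) // ∃ g ∈ C.carrier, orderOf g = p} = p - 1 := by
    by_contra htD
    have h1 := zpowers_le_commutator hp hxD1 hxD2 htD
    have h2 : p ∣ Nat.card (commutator (commutator G)) := by
      have h3 : Nat.card (Subgroup.zpowers (⟨x, hxD⟩ : commutator G)) ∣ Nat.card (commutator (commutator G)) :=
        Subgroup.card_dvd_of_le h1
      rwa [Nat.card_zpowers, hxD1] at h3
    exact hD'ne (eq_top_of_dvd hp hx hC hxD _ h2)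
  have hidxD' : (commutator (commutator G)).index = p :=
    (Cfsg.Agent.S4495.result p hp _ hxD1 hxD2 _ rfl).2 htD
  have hED := card_classes_mul_relIndex hp hxD1 hxD2
  rw [htD] at hED
  have heD : (Subgroup.zpowers (⟨x, hxD⟩ : commutator G)).relIndex
      (Subgroup.normalizer ((Subgroup.zpowers (⟨x, hxD⟩ : commutator G) : Subgroup (commutator G)) : Set (commutator G))) = 1 :=
    Nat.eq_of_mul_eq_mul_left hp1 (hED.trans (mul_one _).symm)
  have hND := Subgroup.relIndex_eq_one.1 heD
  -- D ⊓ N = zpowers x
  have hDN : commutator G ⊓ Subgroup.normalizer ((Subgroup.zpowers x : Subgroup G) : Set G) = Subgroup.zpowers x := by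
    apply le_antisymm
    · rintro g ⟨hgD, hgN⟩
      have h1 : (⟨g, hgD⟩ : commutator G) ∈ Subgroup.normalizer
          ((Subgroup.zpowers (⟨x, hxD⟩ : commutator G) : Subgroup (commutator G)) : Set (commutator G)) := by
        rw [Subgroup.mem_normalizer_iff]
        intro h
        rw [mem_zpowers_subtype, mem_zpowers_subtype]
        exact (Subgroup.mem_normalizer_iff.1 hgN) h
      have h2 := hND h1
      rwa [mem_zpowers_subtype] at h2
    · exact le_inf (Subgroup.zpowers_le.2 hxD) Subgroup.le_normalizer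
  have hidxD := index_commutator hp hx hC hxD
  rw [hDN] at hidxD
  have hG := card_group hp hx hC
  set e := (Subgroup.zpowers x).relIndex (Subgroup.normalizer ((Subgroup.zpowers x : Subgroup G) : Set G)) with he
  set m := Nat.card {H : Subgroup G // Nat.card H = p} with hm
  have hE := card_classes_mul_relIndex hp hx hC
  have he0 : e ≠ 0 := by
    intro h0
    rw [← he, h0, mul_zero] at hE
    omega
  have hcardD : Nat.card (commutator G) = p * m := by
    have h1 := Subgroup.card_mul_index (commutator G)
    rw [hidxD, hG] at h1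
    have h2 : Nat.card (commutator G) * e = (p * m) * e := by rw [h1]; ring
    exact Nat.eq_of_mul_eq_mul_right (Nat.pos_of_ne_zero he0) h2
  refine ⟨?_, hcardD⟩
  have h1 := Subgroup.card_mul_index (commutator (commutator G))
  rw [hidxD', hcardD, mul_comm p m] at h1
  have h2 : Nat.card (commutator (commutator G)) = m := Nat.eq_of_mul_eq_mul_right hp.pos h1
  rw [hd2, ← h2]
  exact Nat.card_congr ((commutator (commutator G)).equivMapOfInjective (commutator G).subtype
    (commutator G).subtype_injective).toEquiv.symm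

end main

/-- Let the finite group G contain an element x of prime order p with C_G(x) = ⟨x⟩; let t be the number of conjugacy classes of elements of order p and 1 + n·p the number of subgroups of order p. Then G has a normal subgroup of order 1 + n·p if and only if either t = p − 1, or t < p − 1 and G″ ≠ G′. Moreover, if t = p − 1 then G′ has order 1 + n·p and G/G′ is cyclic of order p; and if t < p − 1 and G″ ≠ G′ then G″ has order 1 + n·p and G′ has order p·(1 + n·p). -/
theorem result {G : Type*} [Group G] [Finite G] (p : ℕ) (hp : p.Prime) (x : G) (hx : orderOf x = p) (hC : Subgroup.centralizer ({x} : Set G) = Subgroup.zpowers x) (t : ℕ) (ht : Nat.card {C : ConjClasses G // ∃ g ∈ C.carrier, orderOf g = p} = t) (n : ℕ) (hn : Nat.card {H : Subgroup G // Nat.card H = p} = 1 + n * p) : ((∃ S : Subgroup G, S.Normal ∧ Nat.card S = 1 + n * p) ↔ (t = p - 1 ∨ (t < p - 1 ∧ derivedSeries G 2 ≠ derivedSeries G 1))) ∧ (t = p - 1 → Nat.card (commutator G) = 1 + n * p ∧ IsCyclic (G ⧸ commutator G) ∧ (commutator G).index = p) ∧ (t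 < p - 1 → derivedSeries G 2 ≠ derivedSeries G 1 → Nat.card (derivedSeries G 2) = 1 + n * p ∧ Nat.card (commutator G) = p * (1 + n * p)) := by
  haveI : Fact p.Prime := ⟨hp⟩
  have hp1 : 0 < p - 1 := Nat.sub_pos_of_lt hp.one_lt
  have hE := card_classes_mul_relIndex hp hx hC
  rw [ht] at hE
  have hG := card_group hp hx hC
  rw [hn] at hG
  -- part 2
  have part2 : t = p - 1 → Nat.card (commutator G) = 1 + n * p ∧ IsCyclic (G ⧸ commutator G) ∧ (commutator G).index = p := by
    intro heq
    have hidx := (Cfsg.Agent.S4495.result p hp x hx hC t ht).2 heq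
    rw [heq] at hE
    have he1 : (Subgroup.zpowers x).relIndex (Subgroup.normalizer ((Subgroup.zpowers x : Subgroup G) : Set G)) = 1 :=
      Nat.eq_of_mul_eq_mul_left hp1 (hE.trans (mul_one _).symm)
    rw [he1, mul_one] at hG
    refine ⟨?_, ?_, hidx⟩
    · have h1 := Subgroup.card_mul_index (commutator G)
      rw [hidx, hG] at h1
      exact Nat.eq_of_mul_eq_mul_right hp.pos h1
    · apply isCyclic_of_prime_card (p := p)
      rw [← Subgroup.index_eq_card]; exact hidx
  -- part 3
  have part3 : t < p - 1 → derivedSeries G 2 ≠ derivedSeries G 1 → Nat.card (derivedSeries G 2) = 1 + n * p ∧ Nat.card (commutator G) = p * (1 + n * p) := by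
    intro hlt hne2
    have := derived_case hp hx hC (by rw [ht]; exact hlt.ne) hne2
    rwa [hn] at this
  refine ⟨⟨?_, ?_⟩, part2, part3⟩
  · rintro ⟨S, hSn, hScard⟩
    have htle : t ≤ p - 1 := Nat.le_of_dvd hp1 (Dvd.intro _ hE)
    rcases htle.eq_or_lt with h | h
    · left; exact h
    · right
      refine ⟨h, ?_⟩
      intro heq
      have hpS : ¬ p ∣ Nat.card S := by
        rw [hScard]
        intro hd
        have : p ∣ 1 := (Nat.dvd_add_left (Dvd.intro_left n rfl)).1 hd
        exact hp.one_lt.ne' (Nat.dvd_one.1 this)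
      have h1 := derived2_le_of_normal hp hx hC S hpS (by rw [hScard, hn])
      rw [heq, derivedSeries_one] at h1
      have hxD : x ∈ commutator G :=
        zpowers_le_commutator hp hx hC (by rw [ht]; exact h.ne) (Subgroup.mem_zpowers x)
      have hxS : x ∈ S ⊓ Subgroup.zpowers x := ⟨h1 hxD, Subgroup.mem_zpowers x⟩
      rw [inf_zpowers_eq_bot hp hx hC S hpS hx, Subgroup.mem_bot] at hxS
      rw [hxS, orderOf_one] at hx
      exact hp.one_lt.ne hx
  · rintro (h | ⟨h, hne2⟩)
    · exact ⟨commutator G, inferInstance, (part2 h).1⟩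
    · exact ⟨derivedSeries G 2, derivedSeries_normal (G := G) 2, (part3 h hne2).1⟩

end Cfsg.Agent.S4509
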