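import Cfsg.Statements.S4510
import Cfsg.Agent.Lib.L0.BlockMinMax

set_option autoImplicit false
open Cfsg

namespace Cfsg.Agent.S4510

open Cfsg.Agent.Lib.H23 Cfsg.Agent.Lib.L0.BlockMinMax in
/-- Let G be a finite group, p a prime, M a maximal ideal of the algebraic integers containing p, and call the defect of a conjugacy class the exponent of p in the order of the centralizer of its elements. Two irreducible characters lying in p-blocks of defect exactly d lie in the same block if and only if their central characters (class size times χ(x)/χ(1)) agree modulo the local ideal at M at every p-regular element x whose class has defect exactly d. -/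
theorem result {G : Type*} [Group G] [Finite G] (p : ℕ) [Fact p.Prime] (M : Ideal Cfsg.AlgInt) (hM : Cfsg.IsPModular p M) (d : ℕ) (χ ψ : Cfsg.IrrCharacter G) (hχ : Cfsg.blockDefect p (Cfsg.blockOf M (χ : G → ℂ)) = d) (hψ : Cfsg.blockDefect p (Cfsg.blockOf M (ψ : G → ℂ)) = d) : Cfsg.SameBlock M (χ : G → ℂ) (ψ : G → ℂ) ↔ ∀ x : G, ¬ p ∣ orderOf x → (Nat.card (Subgroup.centralizer ({x} : Set G))).factorization p = d → Cfsg.MemLocalIdeal M (Cfsg.centralChar (χ : G → ℂ) x - Cfsg.centralChar (ψ : G → ℂ) x) := by
  classical
  haveI := Fintype.ofFinite G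
  haveI := Fintype.ofFinite (ConjClasses G)
  haveI hP := isPrime_of_isPModular hM
  constructor
  · intro h x _ _
    exact h x
  · intro h
    set B := blockOf M (χ : G → ℂ) with hB
    have h1 := omega_blockIdem_sub_sum_mem hM χ χ d hχ hχ
    have h2 := omega_blockIdem_sub_sum_mem hM χ ψ d hχ hψ
    rw [omega_blockIdem, if_pos (mem_blockOf_self χ)] at h1
    rw [omega_blockIdem] at h2
    have h3 : MemLocalIdeal M
        ((∑ c : ConjClasses G, if IsRegDefect p d c then
          blockCoeff B (classRep c) * centralChar (χ : G → ℂ) (classRep c) else 0) -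
        ∑ c : ConjClasses G, if IsRegDefect p d c then
          blockCoeff B (classRep c) * centralChar (ψ : G → ℂ) (classRep c) else 0) := by
      rw [← Finset.sum_sub_distrib]
      refine memLocalIdeal_sum _ _ fun c _ => ?_
      by_cases hc : IsRegDefect p d c
      · rw [if_pos hc, if_pos hc, ← mul_sub]
        exact memLocalIdeal_mul_left (memLocalRing_blockCoeff hM χ _) (h _ hc.1 hc.2)
      · rw [if_neg hc, if_neg hc, sub_self]
        exact memLocalIdeal_zero hP.ne_top
    by_contra hne
    have hψB : ψ ∉ B := hne
    rw [if_neg hψB] at h2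
    -- 1 = (1 - S_χ) + (S_χ - S_ψ) - (0 - S_ψ)
    have h4 := memLocalIdeal_sub (memLocalIdeal_add h1 h3) h2
    refine not_memLocalIdeal_one (M := M) ?_
    convert h4 using 1
    ring

end Cfsg.Agent.S4510
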