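import Cfsg.Statements.S4512
import Mathlib
import Cfsg.Agent.Lib.H22.KleinOrder
import Cfsg.Agent.Lib.H22.FSParity
import Cfsg.Agent.Lib.L0.BlockRankTrace
import Cfsg.Agent.Lib.L0.SectionSum
import Cfsg.Agent.Lib.H23.BlockLocal
import Cfsg.Agent.Lib.H23.BlockPrincipal

set_option autoImplicit false
open Cfsg

namespace Cfsg.Agent.S4512

open Cfsg.Agent.Lib.H22.KleinGroup Cfsg.Agent.Lib.H22.KleinOrder Cfsg.Agent.Lib.H22.FSParity
  Cfsg.Agent.Lib.H23 Cfsg.Agent.Lib.H24 Cfsg.Agent.Lib.L0.BlockRankTrace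
  Cfsg.Agent.Lib.L0.SectionSum
open scoped ComplexConjugate

section GroupTheory

variable {G : Type*} [Group G] [Finite G]

theorem coe_orderOf_two (P : Sylow 2 G) (hexp : ∀ x : P, x * x = 1) {x : G}
    (hx : x ∈ (P : Subgroup G)) (hx1 : x ≠ 1) : orderOf x = 2 := by
  haveI : Fact (Nat.Prime 2) := ⟨Nat.prime_two⟩
  have h := hexp ⟨x, hx⟩
  have h2 : x * x = 1 := congrArg Subtype.val h
  exact orderOf_eq_prime (by rw [pow_two]; exact h2) hx1

theorem klein_setup (P : Sylow 2 G) (hP : Nat.card P = 4) (hexp : ∀ x : P, x * x = 1)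
    (hone : ∀ s t : G, orderOf s = 2 → orderOf t = 2 → IsConj s t) :
    ∃ g₀ : ℕ, Odd g₀ ∧ Nat.card G = 4 * g₀ ∧
      (¬ ∃ N : Subgroup G, N.Normal ∧ Nat.card N = g₀) ∧
      ∃ J : G, J ∈ (P : Subgroup G) ∧ orderOf J = 2 := by
  classical
  haveI : Fact (Nat.Prime 2) := ⟨Nat.prime_two⟩
  haveI := Fintype.ofFinite G
  have hidx : ¬ 2 ∣ (P : Subgroup G).index := P.not_dvd_index
  have hodd : Odd (P : Subgroup G).index := Nat.odd_iff.2 (Nat.two_dvd_ne_zero.1 hidx)
  have hG : Nat.card G = 4 * (P : Subgroup G).index := by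
    rw [← (P : Subgroup G).card_mul_index]
    rw [show Nat.card ↥(P : Subgroup G) = 4 from hP]
  haveI : Fintype P := Fintype.ofFinite P
  have hcard : Fintype.card P = 4 := by rw [← Nat.card_eq_fintype_card]; exact hP
  have h1 : ∃ x : P, x ≠ 1 := by
    by_contra h
    push Not at h
    have : Fintype.card P ≤ 1 := Fintype.card_le_one_iff.2 (fun a b => by rw [h a, h b])
    omega
  obtain ⟨x, hx⟩ := h1
  have h2 : ∃ y : P, y ≠ 1 ∧ y ≠ x := by
    by_contra h
    push Not at h
    have hsub : (Finset.univ : Finset P) ⊆ {1, x} := by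
      intro y _
      by_cases hy : y = 1
      · simp [hy]
      · simp [h y hy]
    have h3 := Finset.card_le_card hsub
    have h4 : ({1, x} : Finset P).card ≤ 2 := Finset.card_le_two
    rw [Finset.card_univ, hcard] at h3
    omega
  obtain ⟨y, hy, hyx⟩ := h2
  have hx2 : orderOf (x : G) = 2 :=
    coe_orderOf_two P hexp x.2 (fun h => hx (Subtype.ext h))
  have hy2 : orderOf (y : G) = 2 :=
    coe_orderOf_two P hexp y.2 (fun h => hy (Subtype.ext h))
  refine ⟨(P : Subgroup G).index, hodd, hG, ?_, (x : G), x.2, hx2⟩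
  rintro ⟨N, hN, hNc⟩
  haveI := hN
  have hq : Nat.card (G ⧸ N) = 2 ^ 2 := by
    have h := Subgroup.card_eq_card_quotient_mul_card_subgroup N
    rw [hG, hNc] at h
    have hpos : 0 < (P : Subgroup G).index := hodd.pos
    have h5 : Nat.card (G ⧸ N) = 4 := (Nat.eq_of_mul_eq_mul_right hpos h).symm
    rw [h5]; norm_num
  have hcomm := IsPGroup.commutative_of_card_eq_prime_sq (p := 2) hq
  obtain ⟨c, hc⟩ := isConj_iff.1 (hone (x : G) (y : G) hx2 hy2)
  have hmk : (QuotientGroup.mk (x : G) : G ⧸ N) = QuotientGroup.mk (y : G) := by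
    rw [← hc]
    have e : (QuotientGroup.mk (c * (x : G) * c⁻¹) : G ⧸ N) =
        QuotientGroup.mk c * QuotientGroup.mk (x : G) * (QuotientGroup.mk c)⁻¹ := rfl
    rw [e, hcomm (QuotientGroup.mk c) (QuotientGroup.mk (x : G)), mul_assoc, mul_inv_cancel,
      mul_one]
  have hmem : (x : G)⁻¹ * (y : G) ∈ N := QuotientGroup.eq.1 hmk
  have hz2 : orderOf ((x : G)⁻¹ * (y : G)) = 2 :=
    coe_orderOf_two P hexp ((P : Subgroup G).mul_mem ((P : Subgroup G).inv_mem x.2) y.2) (by
      intro h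
      apply hyx
      have h6 : (x : G) = (y : G) := inv_mul_eq_one.1 h
      exact Subtype.ext h6.symm)
  have hdvd : 2 ∣ Nat.card N := by
    rw [← hz2]
    have h7 := orderOf_dvd_natCard (⟨_, hmem⟩ : N)
    rwa [Subgroup.orderOf_mk] at h7
  rw [hNc] at hdvd
  exact hidx hdvd

theorem two_elt_rep [DecidableEq G] (P : Sylow 2 G) (hexp : ∀ x : P, x * x = 1)
    (hone : ∀ s t : G, orderOf s = 2 → orderOf t = 2 → IsConj s t) {J : G}
    (hJ2 : orderOf J = 2) :
    ∀ g : G, (∃ k : ℕ, orderOf g = 2 ^ k) → ∃! x, x ∈ ({1, J} : Finset G) ∧ IsConj g x := by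
  haveI : Fact (Nat.Prime 2) := ⟨Nat.prime_two⟩
  rintro g ⟨k, hk⟩
  have hpow : g ^ (2 ^ k) = 1 := by rw [← hk]; exact pow_orderOf_eq_one g
  obtain ⟨c, hc⟩ := exists_conj_mem_sylow P hpow
  have hsq := hexp ⟨c⁻¹ * g * c, hc⟩
  have hsq' : (c⁻¹ * g * c) * (c⁻¹ * g * c) = 1 := congrArg Subtype.val hsq
  have hgg : g * g = 1 := by
    calc g * g = c * ((c⁻¹ * g * c) * (c⁻¹ * g * c)) * c⁻¹ := by group
      _ = 1 := by rw [hsq']; group
  by_cases hg1 : g = 1
  · subst hg1
    refine ⟨1, ⟨by simp, IsConj.refl _⟩, ?_⟩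
    rintro x ⟨_, hx⟩
    exact isConj_one_right.1 hx
  · have hg2 : orderOf g = 2 := orderOf_eq_prime (by rw [pow_two]; exact hgg) hg1
    refine ⟨J, ⟨by simp, hone g J hg2 hJ2⟩, ?_⟩
    rintro x ⟨hx, hconj⟩
    rcases Finset.mem_insert.1 hx with rfl | hx
    · exact absurd (isConj_one_left.1 hconj) hg1
    · exact Finset.mem_singleton.1 hx

end GroupTheory

section Chars

variable {G : Type*} [Group G] [Fintype G] {M : Ideal AlgInt}

/-- `χ(k₀ J) = χ(J)` for `χ` in the principal block and `k₀ ∈ K`. -/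
theorem apply_mul_eq (hM : IsPModular 2 M) {J : G} (hJ2 : orderOf J = 2)
    [Fintype ↥(Subgroup.centralizer ({J} : Set G))]
    (K : Subgroup ↥(Subgroup.centralizer ({J} : Set G))) [K.Normal] (hK : Odd (Nat.card K))
    (hcard : 4 * Nat.card K = Nat.card ↥(Subgroup.centralizer ({J} : Set G)))
    (χ : IrrCharacter G) (hχ : χ ∈ principalBlock M G)
    (k₀ : ↥(Subgroup.centralizer ({J} : Set G))) (hk₀ : k₀ ∈ K) :
    (χ : G → ℂ) ((k₀ : G) * J) = (χ : G → ℂ) J := by
  classical
  haveI hPr := isPrime_of_isPModular hM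
  have hJH : J ∈ Subgroup.centralizer ({J} : Set G) := Subgroup.mem_centralizer_singleton_iff.2 rfl
  have hidx : K.index = 2 ^ 2 := by
    have h1 := K.card_mul_index
    rw [← hcard] at h1
    have hpos : 0 < Nat.card K := Nat.card_pos
    have : K.index = 4 := Nat.eq_of_mul_eq_mul_left hpos (by rw [h1, mul_comm])
    rw [this]; norm_num
  have hK2 : ¬ 2 ∣ Nat.card K := hK.not_two_dvd_nat
  have hx : ∃ k : ℕ, orderOf J = 2 ^ k := ⟨1, by rw [hJ2, pow_one]⟩
  have hKne : (Nat.card K : ℂ) ≠ 0 := by exact_mod_cast (Nat.card_pos (α := K)).ne'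
  have hcomm : J * (k₀ : G) = (k₀ : G) * J :=
    (Subgroup.mem_centralizer_singleton_iff.1 k₀.2).symm
  have hk₀ord : ¬ 2 ∣ orderOf (k₀ : G) := by
    rw [Subgroup.orderOf_coe]
    intro h
    apply hK2
    have h1 : orderOf (⟨k₀, hk₀⟩ : K) ∣ Nat.card K := orderOf_dvd_natCard _
    rw [Subgroup.orderOf_mk] at h1
    exact h.trans h1
  have hCcond : ∀ z : G,
      IsPPart 2 ((k₀ * ⟨J, hJH⟩ : ↥(Subgroup.centralizer ({J} : Set G))) : G) z →
      Subgroup.centralizer ({z} : Set G) ≤ Subgroup.centralizer ({J} : Set G) := by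
    intro z hz
    have hz' : IsPPart 2 ((k₀ : G) * J) z := hz
    have hJpart : IsPPart 2 ((k₀ : G) * J) J := ⟨(k₀ : G), hcomm, hcomm, hx, hk₀ord⟩
    have : J = z := IsPPart.unique Nat.prime_two hJpart hz'
    rw [← this]
  have h1 := principal_local hM (Subgroup.zpowers J) (zpowers_isPGroup hx)
    (Subgroup.centralizer ({J} : Set G)) (zpowers_le_centralizer_self J)
    (le_of_eq (centralizer_zpowers_eq J)) (centralizer_le_normalizer_zpowers J) χ hχ
    (k₀ * ⟨J, hJH⟩) hCcond
  have h1' : (χ : G → ℂ) ((k₀ : G) * J) = ∑ k : ↥(Subgroup.centralizer ({J} : Set G)),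
      blockCoeff (principalBlock M ↥(Subgroup.centralizer ({J} : Set G))) k *
        (χ : G → ℂ) ((k : G) * ((k₀ : G) * J)) := h1
  have e1 : ∑ k : ↥(Subgroup.centralizer ({J} : Set G)),
      blockCoeff (principalBlock M ↥(Subgroup.centralizer ({J} : Set G))) k *
        (χ : G → ℂ) ((k : G) * ((k₀ : G) * J)) =
      (Nat.card K : ℂ)⁻¹ * ∑ k : ↥(Subgroup.centralizer ({J} : Set G)),
        (if k ∈ K then (χ : G → ℂ) ((k : G) * ((k₀ : G) * J)) else 0) := by
    rw [Finset.mul_sum]
    refine Finset.sum_congr rfl fun k _ => ?_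
    rw [blockCoeff_principal hM K hK2 hidx k]
    split_ifs <;> simp
  have e2 : ∑ k : ↥(Subgroup.centralizer ({J} : Set G)),
      (if k ∈ K then (χ : G → ℂ) ((k : G) * ((k₀ : G) * J)) else 0) =
      ∑ k : ↥(Subgroup.centralizer ({J} : Set G)),
        (if k ∈ K then (χ : G → ℂ) ((k : G) * J) else 0) := by
    refine Fintype.sum_equiv (Equiv.mulRight k₀) _ _ fun k => ?_
    show (if k ∈ K then (χ : G → ℂ) ((k : G) * ((k₀ : G) * J)) else 0) =
      (if k * k₀ ∈ K then
        (χ : G → ℂ) (((k * k₀ : ↥(Subgroup.centralizer ({J} : Set G))) : G) * J) else 0)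
    have hmem : k * k₀ ∈ K ↔ k ∈ K :=
      ⟨fun h => by simpa using K.mul_mem h (K.inv_mem hk₀), fun h => K.mul_mem h hk₀⟩
    by_cases hk : k ∈ K
    · rw [if_pos hk, if_pos (hmem.2 hk), Subgroup.coe_mul, mul_assoc]
    · rw [if_neg hk, if_neg (fun h => hk (hmem.1 h))]
  rw [h1', e1, e2, sum_coset hM hJ2 K hK hcard χ, if_pos hχ, ← mul_assoc, inv_mul_cancel₀ hKne,
    one_mul]

open scoped Classical in
/-- `∑_{χ ∈ B₀} |χ(J)|² = 4`. -/
theorem sum_sq_eq_four (hM : IsPModular 2 M) {J : G} (hJ2 : orderOf J = 2)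
    [Fintype ↥(Subgroup.centralizer ({J} : Set G))] [Fintype (IrrCharacter G)]
    (K : Subgroup ↥(Subgroup.centralizer ({J} : Set G))) [K.Normal] (hK : Odd (Nat.card K))
    (hcard : 4 * Nat.card K = Nat.card ↥(Subgroup.centralizer ({J} : Set G)))
    (hK1 : ∀ k ∈ K, k * k = 1 → k = 1) :
    ∑ χ : IrrCharacter G, (if χ ∈ principalBlock M G then
      (χ : G → ℂ) J * conj ((χ : G → ℂ) J) else 0) = 4 := by
  classical
  have hKne : (Nat.card K : ℂ) ≠ 0 := by exact_mod_cast (Nat.card_pos (α := K)).ne'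
  have hJJ : J * J = 1 := by rw [← pow_two, ← hJ2, pow_orderOf_eq_one]
  have h1 : ∑ χ : IrrCharacter G, (∑ k : ↥(Subgroup.centralizer ({J} : Set G)),
      (if k ∈ K then (χ : G → ℂ) ((k : G) * J) else 0)) * conj ((χ : G → ℂ) J) =
      (Nat.card K : ℂ) * ∑ χ : IrrCharacter G, (if χ ∈ principalBlock M G then
        (χ : G → ℂ) J * conj ((χ : G → ℂ) J) else 0) := by
    rw [Finset.mul_sum]
    refine Finset.sum_congr rfl fun χ _ => ?_
    rw [sum_coset hM hJ2 K hK hcard χ]
    split_ifs <;> ring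
  have hk : ∀ k : ↥(Subgroup.centralizer ({J} : Set G)),
      ∑ χ : IrrCharacter G, (if k ∈ K then (χ : G → ℂ) ((k : G) * J) else 0) *
        conj ((χ : G → ℂ) J) =
      if k = 1 then (Nat.card ↥(Subgroup.centralizer ({J} : Set G)) : ℂ) else 0 := by
    intro k
    by_cases hkK : k ∈ K
    · simp only [if_pos hkK]
      rw [second_orthogonality]
      by_cases hk1 : k = 1
      · subst hk1
        rw [if_pos rfl, Subgroup.coe_one, one_mul, if_pos (IsConj.refl J)]
      · rw [if_neg hk1, if_neg]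
        intro hconj
        apply hk1
        apply hK1 k hkK
        obtain ⟨c, hc⟩ := isConj_iff.1 hconj
        have hsq : ((k : G) * J) * ((k : G) * J) = 1 := by
          calc ((k : G) * J) * ((k : G) * J)
              = c⁻¹ * ((c * ((k : G) * J) * c⁻¹) * (c * ((k : G) * J) * c⁻¹)) * c := by group
            _ = c⁻¹ * (J * J) * c := by rw [hc]
            _ = 1 := by rw [hJJ]; group
        have hkJ : (k : G) * J = J * (k : G) := Subgroup.mem_centralizer_singleton_iff.1 k.2
        have hkk : (k : G) * (k : G) = 1 := by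
          calc (k : G) * (k : G) = (k : G) * (k : G) * (J * J) := by rw [hJJ, mul_one]
            _ = (k : G) * ((k : G) * J) * J := by group
            _ = (k : G) * (J * (k : G)) * J := by rw [hkJ]
            _ = ((k : G) * J) * ((k : G) * J) := by group
            _ = 1 := hsq
        exact Subtype.ext (by simpa using hkk)
    · simp only [if_neg hkK, zero_mul, Finset.sum_const_zero]
      rw [if_neg]
      rintro rfl
      exact hkK K.one_mem
  have h2 : ∑ χ : IrrCharacter G, (∑ k : ↥(Subgroup.centralizer ({J} : Set G)),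
      (if k ∈ K then (χ : G → ℂ) ((k : G) * J) else 0)) * conj ((χ : G → ℂ) J) =
      (Nat.card ↥(Subgroup.centralizer ({J} : Set G)) : ℂ) := by
    simp only [Finset.sum_mul]
    rw [Finset.sum_comm]
    simp only [hk]
    simp
  have h3 : (Nat.card ↥(Subgroup.centralizer ({J} : Set G)) : ℂ) = (Nat.card K : ℂ) * 4 := by
    rw [← hcard]; push_cast; ring
  rw [h2, h3] at h1
  exact (mul_left_cancel₀ hKne h1).symm

theorem exists_int_value (χ : IrrCharacter G) {J : G} (hJJ : J * J = 1) :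
    ∃ a : ℤ, (χ : G → ℂ) J = a := by
  obtain ⟨d, hd⟩ := irr_sub_involution χ hJJ
  have hx := apply_one_eq_charDegree (χ : G → ℂ) χ.2
  refine ⟨(Cfsg.charDegree (χ : G → ℂ) : ℤ) - 2 * d, ?_⟩
  push_cast
  rw [← hx]
  linear_combination -hd

theorem value_ne_zero (hM : IsPModular 2 M) {J : G}
    (hodd : ¬ 2 ∣ (Subgroup.centralizer ({J} : Set G)).index) (χ : IrrCharacter G)
    (hχ : χ ∈ principalBlock M G) : (χ : G → ℂ) J ≠ 0 := by
  intro h0
  have h : MemLocalIdeal M (centralChar (fun _ : G => (1 : ℂ)) J - centralChar (χ : G → ℂ) J) :=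
    hχ J
  have e : centralChar (fun _ : G => (1 : ℂ)) J - centralChar (χ : G → ℂ) J =
      ((Subgroup.centralizer ({J} : Set G)).index : ℂ) := by
    unfold centralChar
    rw [h0]
    simp
  rw [e] at h
  exact hodd ((natCast_memLocalIdeal_iff hM _).1 h)

/-- `⟨χ, χ⟩⁰ + |χ(J)|²/4 = 1` for `χ` in the principal block. -/
theorem inner0_add (hM : IsPModular 2 M) {J : G} (hJ2 : orderOf J = 2)
    [Fintype ↥(Subgroup.centralizer ({J} : Set G))] [DecidableEq G]
    (K : Subgroup ↥(Subgroup.centralizer ({J} : Set G))) [K.Normal] (hK : Odd (Nat.card K))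
    (hcard : 4 * Nat.card K = Nat.card ↥(Subgroup.centralizer ({J} : Set G)))
    (hXrep : ∀ g : G, (∃ k : ℕ, orderOf g = 2 ^ k) →
      ∃! x, x ∈ ({1, J} : Finset G) ∧ IsConj g x)
    (χ : IrrCharacter G) (hχ : χ ∈ principalBlock M G) :
    inner0 2 (χ : G → ℂ) (χ : G → ℂ) + (χ : G → ℂ) J * conj ((χ : G → ℂ) J) / 4 = 1 := by
  classical
  have hJ1 : (1 : G) ≠ J := by
    intro h
    rw [← h, orderOf_one] at hJ2
    norm_num at hJ2
  obtain ⟨f, hfapp⟩ : ∃ f : G → ℂ, ∀ g, f g = (χ : G → ℂ) g * conj ((χ : G → ℂ) g) :=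
    ⟨_, fun _ => rfl⟩
  have hf : IsClassFunction G f := by
    intro g h
    rw [hfapp, hfapp, isClassFunction_irr χ g h]
  have hx : ∃ k : ℕ, orderOf J = 2 ^ k := ⟨1, by rw [hJ2, pow_one]⟩
  have hX : ∀ x ∈ ({1, J} : Finset G), ∃ k : ℕ, orderOf x = 2 ^ k := by
    intro x hx'
    rcases Finset.mem_insert.1 hx' with rfl | hx'
    · exact ⟨0, by simp⟩
    · rw [Finset.mem_singleton.1 hx']; exact hx
  have hsec := section_sum Nat.prime_two ({1, J} : Finset G) hX hXrep hf
  rw [Finset.sum_pair hJ1] at hsec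
  have hL : (Nat.card G : ℂ)⁻¹ * ∑ g : G, f g = 1 := by
    have h2 := irr_orthonormal χ χ
    rw [if_pos rfl, classInner] at h2
    calc (Nat.card G : ℂ)⁻¹ * ∑ g : G, f g
        = (Nat.card G : ℂ)⁻¹ * ∑ g : G, (χ : G → ℂ) g * conj ((χ : G → ℂ) g) := by
          simp only [hfapp]
      _ = 1 := h2
  rw [hL] at hsec
  have hT1 : (Nat.card ↥(Subgroup.centralizer ({(1 : G)} : Set G)) : ℂ)⁻¹ * secSum 2 f 1 =
      inner0 2 (χ : G → ℂ) (χ : G → ℂ) := by
    have hc1 : Subgroup.centralizer ({(1 : G)} : Set G) = ⊤ := by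
      ext g
      simp [Subgroup.mem_centralizer_singleton_iff]
    rw [hc1, Subgroup.card_top]
    unfold secSum inner0
    congr 1
    refine Finset.sum_congr rfl fun g _ => ?_
    by_cases h : 2 ∣ orderOf g
    · rw [if_pos h, if_neg]
      rintro ⟨y, hy1, _, _, hy⟩
      rw [one_mul] at hy1
      rw [hy1] at hy
      exact hy h
    · rw [if_neg h, if_pos ⟨g, one_mul g, Commute.one_left g, ⟨0, by simp⟩, h⟩, hfapp]
  have hidx : K.index = 2 ^ 2 := by
    have h1 := K.card_mul_index
    rw [← hcard] at h1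
    have hpos : 0 < Nat.card K := Nat.card_pos
    have : K.index = 4 := Nat.eq_of_mul_eq_mul_left hpos (by rw [h1, mul_comm])
    rw [this]; norm_num
  have hK2 : ¬ 2 ∣ Nat.card K := hK.not_two_dvd_nat
  have hKne : (Nat.card K : ℂ) ≠ 0 := by exact_mod_cast (Nat.card_pos (α := K)).ne'
  have hmemK : ∀ s : ↥(Subgroup.centralizer ({J} : Set G)), ¬ 2 ∣ orderOf s ↔ s ∈ K := by
    intro s
    constructor
    · intro hs
      exact mem_of_pRegular Nat.prime_two K hidx hs
    · intro hs h
      apply hK2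
      have h1 : orderOf (⟨s, hs⟩ : K) ∣ Nat.card K := orderOf_dvd_natCard _
      rw [Subgroup.orderOf_mk] at h1
      exact h.trans h1
  have hT2 : (Nat.card ↥(Subgroup.centralizer ({J} : Set G)) : ℂ)⁻¹ * secSum 2 f J =
      (χ : G → ℂ) J * conj ((χ : G → ℂ) J) / 4 := by
    rw [secSum_eq f hx]
    have h1 : ∑ s : ↥(Subgroup.centralizer ({J} : Set G)),
        (if 2 ∣ orderOf s then 0 else f (J * (s : G))) =
        ∑ s : ↥(Subgroup.centralizer ({J} : Set G)),
          (if s ∈ K then (1 : ℂ) else 0) * ((χ : G → ℂ) J * conj ((χ : G → ℂ) J)) := by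
      refine Finset.sum_congr rfl fun s _ => ?_
      by_cases hs : s ∈ K
      · have hns : ¬ 2 ∣ orderOf s := (hmemK s).2 hs
        have hcomm : J * (s : G) = (s : G) * J :=
          (Subgroup.mem_centralizer_singleton_iff.1 s.2).symm
        rw [if_neg hns, if_pos hs, one_mul, hfapp, hcomm,
          apply_mul_eq hM hJ2 K hK hcard χ hχ s hs]
      · have hns : 2 ∣ orderOf s := by
          by_contra h
          exact hs ((hmemK s).1 h)
        rw [if_pos hns, if_neg hs, zero_mul]
    rw [h1, ← Finset.sum_mul, Finset.sum_boole]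
    have hcK : Nat.card K = (Finset.univ.filter
        (fun s : ↥(Subgroup.centralizer ({J} : Set G)) => s ∈ K)).card :=
      Nat.subtype_card _ (fun x => by simp)
    rw [← hcK, ← hcard]
    push_cast
    field_simp
  rw [hT1, hT2] at hsec
  exact hsec.symm

end Chars

/-- If G is a finite group with a Sylow 2-subgroup that is a Klein four-group and a single conjugacy class of involutions, then its principal 2-block (relative to a maximal ideal M of the algebraic integers containing 2) has 2-regular rank 3: the restrictions of its irreducible characters to the elements of odd order span a space of dimension 3 (it has three irreducible Brauer characters). -/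
theorem result {G : Type*} [Group G] [Finite G] (M : Ideal Cfsg.AlgInt) (hM : Cfsg.IsPModular 2 M) (P : Sylow 2 G)
    (hP : Nat.card P = 4) (hexp : ∀ x : P, x * x = 1)
    (hone : ∀ s t : G, orderOf s = 2 → orderOf t = 2 → IsConj s t) :
    Cfsg.blockRank 2 (Cfsg.principalBlock M G) = 3 := by
  classical
  haveI := Fintype.ofFinite G
  haveI : Fintype (IrrCharacter G) := Fintype.ofFinite _
  haveI : Fact (Nat.Prime 2) := ⟨Nat.prime_two⟩
  haveI hPr := isPrime_of_isPModular hM
  obtain ⟨g₀, hg₀, hG, hnc, J, hJ, hJ2⟩ := klein_setup P hP hexp hone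
  haveI : Fintype ↥(Subgroup.centralizer ({J} : Set G)) := Fintype.ofFinite _
  obtain ⟨K, hdata, hKcard⟩ := exists_kdata hg₀ hG hnc P hJ hJ2
  haveI := hdata.normal
  have hJJ : J * J = 1 := by rw [← pow_two, ← hJ2, pow_orderOf_eq_one]
  have hKodd := hdata.odd
  have hidxodd : ¬ 2 ∣ (Subgroup.centralizer ({J} : Set G)).index := by
    intro h
    have h1 := Subgroup.card_mul_index (Subgroup.centralizer ({J} : Set G))
    rw [hG, ← hKcard] at h1
    have h2 : Nat.card K * (Subgroup.centralizer ({J} : Set G)).index = g₀ := by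
      apply Nat.eq_of_mul_eq_mul_left (by norm_num : 0 < 4)
      rw [← h1]; ring
    have h3 : 2 ∣ g₀ := by rw [← h2]; exact Dvd.dvd.mul_left h _
    exact hg₀.not_two_dvd_nat h3
  have hint : ∀ χ : IrrCharacter G, ∃ a : ℤ, (χ : G → ℂ) J = a :=
    fun χ => exists_int_value χ hJJ
  choose a ha using hint
  have hne : ∀ χ ∈ principalBlock M G, a χ ≠ 0 := by
    intro χ hχ h0
    apply value_ne_zero hM hidxodd χ hχ
    rw [ha χ, h0, Int.cast_zero]
  have hsq := sum_sq_eq_four hM hJ2 K hKodd hKcard (fun k hk h => hdata.eq_one_of_sq hk h)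
  have hsqZ : ∑ χ : IrrCharacter G, (if χ ∈ principalBlock M G then (a χ) ^ 2 else 0) = 4 := by
    have h : ((∑ χ : IrrCharacter G, (if χ ∈ principalBlock M G then (a χ) ^ 2 else 0) : ℤ) : ℂ) =
        ((4 : ℤ) : ℂ) := by
      push_cast
      rw [← hsq]
      refine Finset.sum_congr rfl fun χ _ => ?_
      split_ifs
      · rw [ha χ, map_intCast]; ring
      · rfl
    exact_mod_cast h
  have htriv : trivialIrr G ∈ principalBlock M G := trivialIrr_mem_principalBlock
  have hatriv : a (trivialIrr G) = 1 := by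
    have h := ha (trivialIrr G)
    rw [trivialIrr_apply] at h
    exact_mod_cast h.symm
  have hall : ∀ χ ∈ principalBlock M G, (a χ) ^ 2 = 1 := by
    intro χ hχ
    by_contra hne1
    have h4 : 4 ≤ (a χ) ^ 2 := by
      have h0 := hne χ hχ
      rcases lt_trichotomy (a χ) 0 with h | h | h
      · by_cases h' : a χ = -1
        · exfalso; apply hne1; rw [h']; norm_num
        · have h5 : a χ ≤ -2 := by omega
          nlinarith
      · exact absurd h h0
      · by_cases h' : a χ = 1
        · exfalso; apply hne1; rw [h']; norm_num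
        · have h5 : 2 ≤ a χ := by omega
          nlinarith
    have hχt : χ ≠ trivialIrr G := by
      rintro rfl
      apply hne1; rw [hatriv]; norm_num
    have hle : (a (trivialIrr G)) ^ 2 + (a χ) ^ 2 ≤
        ∑ ψ : IrrCharacter G, (if ψ ∈ principalBlock M G then (a ψ) ^ 2 else 0) := by
      have hsub : ({trivialIrr G, χ} : Finset (IrrCharacter G)) ⊆ Finset.univ :=
        Finset.subset_univ _
      have h := Finset.sum_le_sum_of_subset_of_nonneg hsub
        (f := fun ψ => if ψ ∈ principalBlock M G then (a ψ) ^ 2 else 0)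
        (fun ψ _ _ => by
          show (0 : ℤ) ≤ if ψ ∈ principalBlock M G then (a ψ) ^ 2 else 0
          split_ifs
          · exact sq_nonneg _
          · exact le_refl _)
      rw [Finset.sum_pair hχt.symm] at h
      simp only [if_pos htriv, if_pos hχ] at h
      exact h
    rw [hsqZ, hatriv, one_pow] at hle
    linarith
  have hcardS : ∑ χ : IrrCharacter G, (if χ ∈ principalBlock M G then (1 : ℤ) else 0) = 4 := by
    rw [← hsqZ]
    refine Finset.sum_congr rfl fun χ _ => ?_
    split_ifs with h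
    · rw [hall χ h]
    · rfl
  have hXrep := two_elt_rep P hexp hone hJ2
  have hper : ∀ χ ∈ principalBlock M G,
      inner0 2 (χ : G → ℂ) (χ : G → ℂ) = 1 - ((a χ : ℤ) : ℂ) ^ 2 / 4 := by
    intro χ hχ
    have h := inner0_add hM hJ2 K hKodd hKcard hXrep χ hχ
    rw [ha χ, map_intCast] at h
    linear_combination h
  have hrank := sum_inner0_eq_blockRank (p := 2) hM (trivialIrr G)
  change ∑ ξ ∈ Finset.univ.filter (· ∈ principalBlock M G),
    inner0 2 (ξ : G → ℂ) (ξ : G → ℂ) = (blockRank 2 (principalBlock M G) : ℂ) at hrank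
  rw [Finset.sum_filter] at hrank
  have hsum : ∑ ξ : IrrCharacter G, (if ξ ∈ principalBlock M G then
      inner0 2 (ξ : G → ℂ) (ξ : G → ℂ) else 0) = 3 := by
    have h1 : ∀ ξ : IrrCharacter G, (if ξ ∈ principalBlock M G then
        inner0 2 (ξ : G → ℂ) (ξ : G → ℂ) else 0) =
        (if ξ ∈ principalBlock M G then (1 : ℂ) else 0) -
          (if ξ ∈ principalBlock M G then ((a ξ : ℤ) : ℂ) ^ 2 else 0) / 4 := by
      intro ξ
      split_ifs with h
      · exact hper ξ h
      · simp
    simp only [h1]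
    rw [Finset.sum_sub_distrib, ← Finset.sum_div]
    have e1 : ∑ ξ : IrrCharacter G, (if ξ ∈ principalBlock M G then (1 : ℂ) else 0) = 4 := by
      exact_mod_cast hcardS
    have e2 : ∑ ξ : IrrCharacter G,
        (if ξ ∈ principalBlock M G then ((a ξ : ℤ) : ℂ) ^ 2 else 0) = 4 := by
      exact_mod_cast hsqZ
    rw [e1, e2]; norm_num
  rw [hsum] at hrank
  exact_mod_cast hrank.symm

end Cfsg.Agent.S4512
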