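import Cfsg.Statements.S4513
import Mathlib
import Cfsg.Agent.Lib.L0.SubsectionTrace
import Cfsg.Agent.Lib.L0.BlockParseval
import Cfsg.Agent.Lib.L0.BlockRankTrace
import Cfsg.Agent.Lib.L0.CharBasic
import Cfsg.Agent.Lib.L0.CharDecomp
import Cfsg.Agent.Lib.L0.CharOps
import Cfsg.Agent.Lib.H23.BlockVanishP
import Cfsg.Agent.Lib.H23.BlockVanish
import Cfsg.Agent.Lib.H23.BlockFirstMain
import Cfsg.Agent.Lib.H23.BlockDefectGroups
import Cfsg.Agent.Lib.H23.BlockDefectConj
import Cfsg.Agent.Lib.H23.BlockDefectZero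
import Cfsg.Agent.Lib.H23.BlockDefect
import Cfsg.Agent.Lib.H23.PCPBlock
import Cfsg.Agent.Lib.H23.PCPRank
import Cfsg.Agent.Lib.H23.BlockGenDecomp
import Cfsg.Agent.Lib.H23.DegreeDvd
import Cfsg.Agent.Lib.H22.KleinGroup

set_option autoImplicit false
open Cfsg

namespace Cfsg.Agent.S4513

open MonoidAlgebra Cfsg.Agent.Lib.H23 Cfsg.Agent.Lib.H24
  Cfsg.Agent.Lib.L0.BlockRankTrace Cfsg.Agent.Lib.L0.SubsectionTrace
  Cfsg.Agent.Lib.L0.BlockParseval Cfsg.Agent.Lib.H22.KleinGroup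
open scoped ComplexConjugate

section GroupTheory

variable {G : Type*} [Group G]

theorem mem_zpowers_involution {x : G} (hx : orderOf x = 2) {y : G}
    (hy : y ∈ Subgroup.zpowers x) : y = 1 ∨ y = x := by
  obtain ⟨k, rfl⟩ := Subgroup.mem_zpowers_iff.1 hy
  have e : x ^ k = x ^ (k % 2) := by
    have h := zpow_mod_orderOf x k
    rw [hx] at h
    exact_mod_cast h.symm
  rw [e]
  rcases Int.emod_two_eq_zero_or_one k with h | h
  · left; rw [h, zpow_zero]
  · right; rw [h, zpow_one]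

theorem sq_eq_one_of_orderOf_two {x : G} (hx : orderOf x = 2) : x * x = 1 := by
  rw [← pow_two, ← hx, pow_orderOf_eq_one]

theorem ne_one_of_orderOf_two {x : G} (hx : orderOf x = 2) : x ≠ 1 := by
  intro h
  rw [h, orderOf_one] at hx
  norm_num at hx

theorem central_mem_sylow {H : Type*} [Group H] [Finite H] (R : Sylow 2 H) {z : H}
    (hz : ∀ g : H, g * z = z * g) (hz2 : z * z = 1) : z ∈ (R : Subgroup H) := by
  obtain ⟨g, hg⟩ := exists_conj_mem_sylow R (y := z) (e := 1)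
    (by rw [pow_one, pow_two]; exact hz2)
  have h : g⁻¹ * z * g = z := by
    rw [mul_assoc, ← hz g, ← mul_assoc, inv_mul_cancel, one_mul]
  rwa [h] at hg

end GroupTheory

section Main

variable {G : Type*} [Group G] [Fintype G] {M : Ideal AlgInt}

theorem centralizer_eq_normalizer {x : G} (hx : orderOf x = 2) :
    Subgroup.centralizer ({x} : Set G) =
      Subgroup.normalizer ((Subgroup.zpowers x : Subgroup G) : Set G) := by
  apply le_antisymm
  · exact centralizer_le_normalizer_zpowers x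
  · intro g hg
    rw [Subgroup.mem_centralizer_singleton_iff]
    have h1 : g * x * g⁻¹ ∈ Subgroup.zpowers x :=
      (Subgroup.mem_normalizer_iff.1 hg x).1 (Subgroup.mem_zpowers x)
    rcases mem_zpowers_involution hx h1 with h | h
    · exfalso
      apply ne_one_of_orderOf_two hx
      calc x = g⁻¹ * (g * x * g⁻¹) * g := by group
        _ = 1 := by rw [h]; group
    · calc g * x = (g * x * g⁻¹) * g := by group
        _ = x * g := by rw [h]

theorem card_subgroupOf_zpowers {x : G} (hx : orderOf x = 2) :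
    Nat.card ((Subgroup.zpowers x).subgroupOf (Subgroup.centralizer ({x} : Set G))) = 2 := by
  rw [Nat.card_congr (Subgroup.subgroupOfEquivOfLe (zpowers_le_centralizer_self x)).toEquiv,
    Nat.card_zpowers, hx]

theorem isDefectGroup_of_induced (hM : IsPModular 2 M) {x : G} (hx : orderOf x = 2)
    [Fintype ↥(Subgroup.centralizer ({x} : Set G))]
    (χ₀ : IrrCharacter G)
    (hBD : IsDefectGroup 2 M (blockOf M (χ₀ : G → ℂ)) (Subgroup.zpowers x))
    (ξ : IrrCharacter ↥(Subgroup.centralizer ({x} : Set G)))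
    (hind : IsInducedBlock M (Subgroup.centralizer ({x} : Set G))
      (blockOf M (ξ : ↥(Subgroup.centralizer ({x} : Set G)) → ℂ)) (blockOf M (χ₀ : G → ℂ))) :
    IsDefectGroup 2 M (blockOf M (ξ : ↥(Subgroup.centralizer ({x} : Set G)) → ℂ))
      ((Subgroup.zpowers x).subgroupOf (Subgroup.centralizer ({x} : Set G))) := by
  classical
  haveI : Fact (Nat.Prime 2) := ⟨Nat.prime_two⟩
  have hxx := sq_eq_one_of_orderOf_two hx
  obtain ⟨Db, hDb⟩ := exists_isDefectGroup hM ξ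
  obtain ⟨E, hE, hDE⟩ :=
    defectGroup_le_of_induced (Subgroup.centralizer ({x} : Set G)) hM hind Db hDb
  obtain ⟨c, hc⟩ := isDefectGroup_conj hM χ₀ hBD hE
  have hcardE : Nat.card E = 2 := by
    rw [hc, Subgroup.card_map_of_injective (MulAut.conj c).injective, Nat.card_zpowers, hx]
  have hcardDb : Nat.card Db ≤ 2 := by
    have h1 : Nat.card (Db.map (Subgroup.centralizer ({x} : Set G)).subtype) ≤ Nat.card E :=
      Subgroup.card_le_of_le hDE
    rwa [Subgroup.card_map_of_injective (Subgroup.centralizer ({x} : Set G)).subtype_injective,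
      hcardE] at h1
  have hle : (Subgroup.zpowers x).subgroupOf (Subgroup.centralizer ({x} : Set G)) ≤ Db := by
    obtain ⟨k, hk, R, hR⟩ := hDb
    intro z hz
    rcases mem_zpowers_involution hx (Subgroup.mem_subgroupOf.1 hz) with h | h
    · have h1 : z = 1 := Subtype.ext h
      rw [h1]; exact Db.one_mem
    · rw [hR]
      have hzk : z ∈ Subgroup.centralizer
          ({k} : Set ↥(Subgroup.centralizer ({x} : Set G))) := by
        rw [Subgroup.mem_centralizer_singleton_iff]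
        apply Subtype.ext
        rw [Subgroup.coe_mul, Subgroup.coe_mul, h]
        exact (Subgroup.mem_centralizer_singleton_iff.1 k.2).symm
      refine ⟨⟨z, hzk⟩, ?_, rfl⟩
      apply central_mem_sylow R
      · intro g
        apply Subtype.ext
        apply Subtype.ext
        show ((g : ↥(Subgroup.centralizer ({x} : Set G))) : G) * (z : G) =
          (z : G) * ((g : ↥(Subgroup.centralizer ({x} : Set G))) : G)
        rw [h]
        exact Subgroup.mem_centralizer_singleton_iff.1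
          (g : ↥(Subgroup.centralizer ({x} : Set G))).2
      · apply Subtype.ext
        apply Subtype.ext
        show (z : G) * (z : G) = 1
        rw [h]; exact hxx
  have heq : (Subgroup.zpowers x).subgroupOf (Subgroup.centralizer ({x} : Set G)) = Db :=
    Subgroup.eq_of_le_of_card_ge hle (by rw [card_subgroupOf_zpowers hx]; exact hcardDb)
  rw [heq]; exact hDb

theorem height_zero_of_defect_one (hM : IsPModular 2 M) (χ₀ : IrrCharacter G) (D : Subgroup G)
    (hD : IsDefectGroup 2 M (blockOf M (χ₀ : G → ℂ)) D) (hcard : Nat.card D = 2)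
    (ζ : IrrCharacter G) (hζ : ζ ∈ blockOf M (χ₀ : G → ℂ)) :
    blockHeight 2 (blockOf M (χ₀ : G → ℂ)) (ζ : G → ℂ) = 0 := by
  haveI : Fact (Nat.Prime 2) := ⟨Nat.prime_two⟩
  haveI hPr := isPrime_of_isPModular hM
  have h1 := card_defectGroup hM χ₀ D hD
  rw [hcard] at h1
  have hd : blockDefect 2 (blockOf M (χ₀ : G → ℂ)) = 1 := by
    have h2 : 2 ^ 1 = 2 ^ blockDefect 2 (blockOf M (χ₀ : G → ℂ)) := by rw [pow_one]; exact h1
    exact (Nat.pow_right_injective (le_refl 2) h2).symm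
  unfold blockDefect at hd
  unfold blockHeight
  obtain ⟨m, hm⟩ : ∃ m, m = sInf ((fun ψ : IrrCharacter G =>
      (charDegree (ψ : G → ℂ)).factorization 2) '' blockOf M (χ₀ : G → ℂ)) := ⟨_, rfl⟩
  rw [← hm] at hd ⊢
  rw [Nat.sub_eq_zero_iff_le]
  by_contra hlt
  push Not at hlt
  have hdvd := charDegree_dvd_card (ζ : G → ℂ) ζ.2
  have hpos := charDegree_pos (ζ : G → ℂ) ζ.2
  have hle : (charDegree (ζ : G → ℂ)).factorization 2 ≤ (Nat.card G).factorization 2 :=
    (Nat.factorization_le_iff_dvd hpos.ne' Nat.card_pos.ne').2 hdvd 2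
  have heq : (charDegree (ζ : G → ℂ)).factorization 2 = (Nat.card G).factorization 2 := by omega
  have hnd : ¬ 2 ∣ Nat.card G / charDegree (ζ : G → ℂ) := by
    intro h2
    have hq0 : Nat.card G / charDegree (ζ : G → ℂ) ≠ 0 :=
      (Nat.div_pos (Nat.le_of_dvd Nat.card_pos hdvd) hpos).ne'
    have h3 : 0 < (Nat.card G / charDegree (ζ : G → ℂ)).factorization 2 :=
      Nat.Prime.factorization_pos_of_dvd Nat.prime_two hq0 h2
    rw [Nat.factorization_div hdvd] at h3
    simp only [Finsupp.coe_tsub, Pi.sub_apply] at h3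
    omega
  have hsing := (not_dvd_iff_blockOf_eq_singleton hM ζ).1 hnd
  rw [blockOf_eq_of_mem hζ] at hsing
  rw [hsing, Set.image_singleton, csInf_singleton] at hm
  omega

theorem exists_int_proj {K : Type*} [Group K] [Fintype K] (b : Set (IrrCharacter K))
    [DecidablePred (· ∈ b)] {z : K} (hz : z ∈ Subgroup.center K) (hzz : z * z = 1) (θ : K → ℂ)
    (l : List (K → ℂ)) (hl : ∀ φ ∈ l, IsIrrCharacter K φ) :
    ∃ d : ℤ, ∀ y : K, (∀ ψ ∈ b, (ψ : K → ℂ) y = θ y) →
      ∑ k : K, blockCoeff b k * l.sum (k * (z * y)) = d * θ y := by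
  induction l with
  | nil =>
    refine ⟨0, fun y _ => ?_⟩
    simp
  | cons φ l ih =>
    have hφ : IsIrrCharacter K φ := hl φ List.mem_cons_self
    obtain ⟨d, hd⟩ := ih (fun φ' h => hl φ' (List.mem_cons_of_mem _ h))
    obtain ⟨Φ, hΦ⟩ : ∃ Φ : IrrCharacter K, (Φ : K → ℂ) = φ := ⟨⟨φ, hφ⟩, rfl⟩
    have h0 : φ 1 ≠ 0 := by rw [← hΦ]; exact irr_one_ne_zero Φ
    have hε : φ z / φ 1 = 1 ∨ φ z / φ 1 = -1 := by
      have h1 := irr_central_mul Φ hz z
      rw [hzz, hΦ] at h1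
      have h2 : (φ z / φ 1) * (φ z / φ 1) = 1 := by
        calc (φ z / φ 1) * (φ z / φ 1) = (φ z / φ 1 * φ z) / φ 1 := by ring
          _ = φ 1 / φ 1 := by rw [← h1]
          _ = 1 := div_self h0
      exact mul_self_eq_one_iff.1 h2
    have e1 : ∀ y, ∑ k : K, blockCoeff b k * φ (k * (z * y)) =
        if Φ ∈ b then φ (z * y) else 0 := by
      intro y
      have h := sum_blockCoeff_mul_irr b Φ (z * y)
      rwa [hΦ] at h
    have e2 : ∀ y, φ (z * y) = φ z / φ 1 * φ y := by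
      intro y
      have h := irr_central_mul Φ hz y
      rwa [hΦ] at h
    by_cases hmem : Φ ∈ b
    · rcases hε with h | h
      · refine ⟨d + 1, fun y hy => ?_⟩
        have e3 : φ y = θ y := by rw [← hΦ]; exact hy Φ hmem
        simp only [List.sum_cons, Pi.add_apply, mul_add, Finset.sum_add_distrib]
        rw [hd y hy, e1 y, if_pos hmem, e2 y, h, one_mul, e3]
        push_cast; ring
      · refine ⟨d - 1, fun y hy => ?_⟩
        have e3 : φ y = θ y := by rw [← hΦ]; exact hy Φ hmem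
        simp only [List.sum_cons, Pi.add_apply, mul_add, Finset.sum_add_distrib]
        rw [hd y hy, e1 y, if_pos hmem, e2 y, h, e3]
        push_cast; ring
    · refine ⟨d, fun y hy => ?_⟩
      simp only [List.sum_cons, Pi.add_apply, mul_add, Finset.sum_add_distrib]
      rw [hd y hy, e1 y, if_neg hmem, zero_add]

theorem exists_int_sec {x : G} (hxx : x * x = 1)
    [Fintype ↥(Subgroup.centralizer ({x} : Set G))]
    (b : Set (IrrCharacter ↥(Subgroup.centralizer ({x} : Set G))))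
    (θ : ↥(Subgroup.centralizer ({x} : Set G)) → ℂ) (ζ : IrrCharacter G) :
    ∃ d : ℤ, ∀ s : ↥(Subgroup.centralizer ({x} : Set G)),
      (∀ ψ ∈ b, (ψ : ↥(Subgroup.centralizer ({x} : Set G)) → ℂ) s = θ s) →
      proj b (sec x (Subgroup.centralizer ({x} : Set G)) (ζ : G → ℂ)) s = d * θ s := by
  classical
  have hxC : x ∈ Subgroup.centralizer ({x} : Set G) :=
    Subgroup.mem_centralizer_singleton_iff.2 rfl
  have hzc : (⟨x, hxC⟩ : ↥(Subgroup.centralizer ({x} : Set G))) ∈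
      Subgroup.center ↥(Subgroup.centralizer ({x} : Set G)) := by
    rw [Subgroup.mem_center_iff]
    intro g
    apply Subtype.ext
    rw [Subgroup.coe_mul, Subgroup.coe_mul]
    exact Subgroup.mem_centralizer_singleton_iff.1 g.2
  have hzz : (⟨x, hxC⟩ : ↥(Subgroup.centralizer ({x} : Set G))) * ⟨x, hxC⟩ = 1 :=
    Subtype.ext hxx
  obtain ⟨l, hl, hsum⟩ := Cfsg.Agent.Lib.L0.isCharacter_exists_irr_decomp
    (Cfsg.Agent.Lib.L0.isCharacter_restrict (Subgroup.centralizer ({x} : Set G))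
      (Cfsg.Agent.Lib.L0.isCharacter_of_irr ζ.2))
  obtain ⟨d, hd⟩ := exists_int_proj b hzc hzz θ l hl
  refine ⟨d, fun s hs => ?_⟩
  rw [← hd s hs]
  unfold proj sec
  refine Finset.sum_congr rfl fun k _ => ?_
  congr 1
  rw [← hsum]
  show (ζ : G → ℂ) (x * ((k * s : ↥(Subgroup.centralizer ({x} : Set G))) : G)) =
    (ζ : G → ℂ) ((k * (⟨x, hxC⟩ * s) : ↥(Subgroup.centralizer ({x} : Set G))) : G)
  refine congrArg (ζ : G → ℂ) ?_
  have hk : (k : G) * x = x * (k : G) := Subgroup.mem_centralizer_singleton_iff.1 k.2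
  show x * ((k : G) * (s : G)) = (k : G) * (x * (s : G))
  calc x * ((k : G) * (s : G)) = (x * (k : G)) * (s : G) := by group
    _ = ((k : G) * x) * (s : G) := by rw [hk]
    _ = (k : G) * (x * (s : G)) := by group

end Main

/-- Blocks of defect one for p = 2. Let M be a maximal ideal of the algebraic integers containing 2, B a 2-block of the finite group G whose defect group is the subgroup generated by an involution x, C = C_G(x), b a block of C inducing B and θ a member of b taking the same value at x as at 1 (there is exactly one). Then B consists of exactly two irreducible characters, which agree on every element of odd order, and they can be labelled χ₁, χ₂ with signs ε₁, ε₂ = ±1, ε₁ε₂ = −1, such that χᵢ(x y) = εᵢ θ(y) for every element y of C of odd order. -/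
theorem result {G : Type*} [Group G] [Finite G] (M : Ideal Cfsg.AlgInt) (hM : Cfsg.IsPModular 2 M) (x : G) (hx : orderOf x = 2)
    (B : Set (Cfsg.IrrCharacter G)) (hB : Cfsg.IsPBlock M B) (hBD : Cfsg.IsDefectGroup 2 M B (Subgroup.zpowers x))
    (b : Set (Cfsg.IrrCharacter ↥(Subgroup.centralizer ({x} : Set G)))) (hb : Cfsg.IsInducedBlock M (Subgroup.centralizer ({x} : Set G)) b B)
    (θ : Cfsg.IrrCharacter ↥(Subgroup.centralizer ({x} : Set G))) (hθ : θ ∈ b)
    (hθx : ∀ z : ↥(Subgroup.centralizer ({x} : Set G)), (z : G) = x → (θ : ↥(Subgroup.centralizer ({x} : Set G)) → ℂ) z = (θ : ↥(Subgroup.centralizer ({x} : Set G)) → ℂ) 1) :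
    Nat.card B = 2 ∧ (∀ χ ∈ B, ∀ ψ ∈ B, ∀ g : G, ¬ 2 ∣ orderOf g → (χ : G → ℂ) g = (ψ : G → ℂ) g) ∧
      ∃ χ₁ ∈ B, ∃ χ₂ ∈ B, χ₁ ≠ χ₂ ∧ ∃ ε₁ ε₂ : ℤ, (ε₁ = 1 ∨ ε₁ = -1) ∧ (ε₂ = 1 ∨ ε₂ = -1) ∧ ε₁ * ε₂ = -1 ∧
        ∀ y : ↥(Subgroup.centralizer ({x} : Set G)), ¬ 2 ∣ orderOf y →
          (χ₁ : G → ℂ) (x * y) = (ε₁ : ℂ) * (θ : ↥(Subgroup.centralizer ({x} : Set G)) → ℂ) y ∧ (χ₂ : G → ℂ) (x * y) = (ε₂ : ℂ) * (θ : ↥(Subgroup.centralizer ({x} : Set G)) → ℂ) y := by
  classical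
  haveI := Fintype.ofFinite G
  haveI : Fintype (IrrCharacter G) := Fintype.ofFinite _
  haveI : Fintype ↥(Subgroup.centralizer ({x} : Set G)) := Fintype.ofFinite _
  haveI : Fintype (IrrCharacter ↥(Subgroup.centralizer ({x} : Set G))) := Fintype.ofFinite _
  haveI : Fact (Nat.Prime 2) := ⟨Nat.prime_two⟩
  haveI hPr := isPrime_of_isPModular hM
  obtain ⟨χ₀, rfl⟩ := hB
  obtain ⟨ξ₀, rfl⟩ := hb.1
  have hxx := sq_eq_one_of_orderOf_two hx
  have hx2 : ∃ k : ℕ, orderOf x = 2 ^ k := ⟨1, by rw [hx, pow_one]⟩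
  have hC : Subgroup.centralizer ({x} : Set G) = Subgroup.centralizer ({x} : Set G) := rfl
  have hNN := centralizer_eq_normalizer hx
  have hDp : IsPGroup 2 (Subgroup.zpowers x) := zpowers_isPGroup hx2
  have hDb₀ := isDefectGroup_of_induced hM hx χ₀ hBD ξ₀ hb
  have huniq : ∀ ξ : IrrCharacter ↥(Subgroup.centralizer ({x} : Set G)),
      IsInducedBlock M (Subgroup.centralizer ({x} : Set G))
        (blockOf M (ξ : ↥(Subgroup.centralizer ({x} : Set G)) → ℂ)) (blockOf M (χ₀ : G → ℂ)) →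
      blockOf M (ξ : ↥(Subgroup.centralizer ({x} : Set G)) → ℂ) =
        blockOf M (ξ₀ : ↥(Subgroup.centralizer ({x} : Set G)) → ℂ) :=
    fun ξ h => block_down_unique (Subgroup.zpowers x) (Subgroup.centralizer ({x} : Set G)) hNN hM
      hDp χ₀ ξ ξ₀ hDb₀ h hb
  -- the central subgroup
  have hDCcent : ∀ z ∈ (Subgroup.zpowers x).subgroupOf (Subgroup.centralizer ({x} : Set G)),
      ∀ g : ↥(Subgroup.centralizer ({x} : Set G)), g * z = z * g := by
    intro z hz g
    apply Subtype.ext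
    rw [Subgroup.coe_mul, Subgroup.coe_mul]
    rcases mem_zpowers_involution hx (Subgroup.mem_subgroupOf.1 hz) with h | h
    · rw [h, mul_one, one_mul]
    · rw [h]; exact Subgroup.mem_centralizer_singleton_iff.1 g.2
  have hcent : Subgroup.centralizer
      (((Subgroup.zpowers x).subgroupOf (Subgroup.centralizer ({x} : Set G)) :
        Subgroup ↥(Subgroup.centralizer ({x} : Set G))) :
        Set ↥(Subgroup.centralizer ({x} : Set G))) = ⊤ := by
    rw [eq_top_iff]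
    intro g _
    rw [Subgroup.mem_centralizer_iff]
    intro u hu
    exact (hDCcent u hu g).symm
  have hG : (Subgroup.zpowers x).subgroupOf (Subgroup.centralizer ({x} : Set G)) ⊔
      Subgroup.centralizer
      (((Subgroup.zpowers x).subgroupOf (Subgroup.centralizer ({x} : Set G)) :
        Subgroup ↥(Subgroup.centralizer ({x} : Set G))) :
        Set ↥(Subgroup.centralizer ({x} : Set G))) = ⊤ := by
    rw [hcent]; simp
  have hcomm : ∀ a b : ↥((Subgroup.zpowers x).subgroupOf (Subgroup.centralizer ({x} : Set G))),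
      a * b = b * a := by
    intro a b
    apply Subtype.ext
    exact hDCcent b b.2 a
  obtain ⟨ψ₀, hψ₀, hall⟩ := Cfsg.Agent.Lib.H23.PCP.pRegularPart_eq_of_comm hM ξ₀ _ hG hcomm hDb₀
  have hagree : ∀ ψ ∈ blockOf M (ξ₀ : ↥(Subgroup.centralizer ({x} : Set G)) → ℂ),
      ∀ s : ↥(Subgroup.centralizer ({x} : Set G)), ¬ 2 ∣ orderOf s →
      (ψ : ↥(Subgroup.centralizer ({x} : Set G)) → ℂ) s =
        (θ : ↥(Subgroup.centralizer ({x} : Set G)) → ℂ) s := by
    intro ψ hψ s hs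
    have h1 := congrFun (hall ψ hψ) s
    have h2 := congrFun (hall θ hθ) s
    rw [pRegularPart_apply, pRegularPart_apply, if_neg hs, if_neg hs] at h1 h2
    rw [h1, h2]
  -- the block `b` has two members
  haveI hDn : ((Subgroup.zpowers x).subgroupOf (Subgroup.centralizer ({x} : Set G))).Normal :=
    Cfsg.Agent.Lib.H23.PCP.normal_of_sup_eq_top _ hG
  haveI : Fintype ↥((Subgroup.zpowers x).subgroupOf (Subgroup.centralizer ({x} : Set G))) :=
    Fintype.ofFinite _
  have hPp : IsPGroup 2 ((Subgroup.zpowers x).subgroupOf (Subgroup.centralizer ({x} : Set G))) :=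
    hDp.comap_subtype
  obtain ⟨-, -, hcardb⟩ := Cfsg.Agent.Lib.H23.PCP.pcp_main
    ((Subgroup.zpowers x).subgroupOf (Subgroup.centralizer ({x} : Set G))) hM ξ₀ hPp hG hDb₀
  have hconjcard : Nat.card (ConjClasses
      ↥((Subgroup.zpowers x).subgroupOf (Subgroup.centralizer ({x} : Set G)))) = 2 := by
    have hbij : Function.Bijective (ConjClasses.mk :
        ↥((Subgroup.zpowers x).subgroupOf (Subgroup.centralizer ({x} : Set G))) →
        ConjClasses ↥((Subgroup.zpowers x).subgroupOf (Subgroup.centralizer ({x} : Set G)))) := by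
      refine ⟨?_, ConjClasses.mk_surjective⟩
      intro a b' hab
      obtain ⟨c, hc⟩ := isConj_iff.1 (ConjClasses.mk_eq_mk_iff_isConj.1 hab)
      rw [← hc, hcomm c a, mul_inv_cancel_right]
    rw [← Nat.card_congr (Equiv.ofBijective _ hbij), card_subgroupOf_zpowers hx]
  -- sections
  have hD1 : ∀ ζ ∈ blockOf M (χ₀ : G → ℂ), ∀ s : ↥(Subgroup.centralizer ({x} : Set G)),
      ¬ 2 ∣ orderOf s →
      proj (blockOf M (ξ₀ : ↥(Subgroup.centralizer ({x} : Set G)) → ℂ))
        (sec x (Subgroup.centralizer ({x} : Set G)) (ζ : G → ℂ)) s = (ζ : G → ℂ) (x * (s : G)) := by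
    intro ζ hζ s hs
    have h1 := sum_proj_eq (M := M) (sec x (Subgroup.centralizer ({x} : Set G)) (ζ : G → ℂ)) s
    rw [Finset.sum_eq_single
      (blockOf M (ξ₀ : ↥(Subgroup.centralizer ({x} : Set G)) → ℂ))] at h1
    · exact h1
    · intro b' hb' hne
      obtain ⟨ξ', rfl⟩ := mem_blocks.1 hb'
      obtain ⟨χ₁, hind₁⟩ := exists_isInducedBlock_centralizer hM hx2 ξ'
      by_cases hζ₁ : ζ ∈ blockOf M (χ₁ : G → ℂ)
      · exfalso
        apply hne
        have e1 : blockOf M (ζ : G → ℂ) = blockOf M (χ₀ : G → ℂ) := blockOf_eq_of_mem hζ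
        have e2 : blockOf M (ζ : G → ℂ) = blockOf M (χ₁ : G → ℂ) := blockOf_eq_of_mem hζ₁
        rw [← e2, e1] at hind₁
        exact huniq ξ' hind₁
      · exact proj_sec_eq_zero hx2 hC hM hind₁ ζ hζ₁ hs
    · intro h
      exact absurd (mem_blocks.2 ⟨ξ₀, rfl⟩) h
  have hD2 : ∀ ζ : IrrCharacter G, ζ ∉ blockOf M (χ₀ : G → ℂ) →
      ∀ s : ↥(Subgroup.centralizer ({x} : Set G)), ¬ 2 ∣ orderOf s →
      proj (blockOf M (ξ₀ : ↥(Subgroup.centralizer ({x} : Set G)) → ℂ))
        (sec x (Subgroup.centralizer ({x} : Set G)) (ζ : G → ℂ)) s = 0 :=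
    fun ζ hζ s hs => proj_sec_eq_zero hx2 hC hM hb ζ hζ hs
  have hD3 : ∀ ζ : IrrCharacter G, ∃ d : ℤ, ∀ s : ↥(Subgroup.centralizer ({x} : Set G)),
      (∀ ψ ∈ blockOf M (ξ₀ : ↥(Subgroup.centralizer ({x} : Set G)) → ℂ),
        (ψ : ↥(Subgroup.centralizer ({x} : Set G)) → ℂ) s =
          (θ : ↥(Subgroup.centralizer ({x} : Set G)) → ℂ) s) →
      proj (blockOf M (ξ₀ : ↥(Subgroup.centralizer ({x} : Set G)) → ℂ))
        (sec x (Subgroup.centralizer ({x} : Set G)) (ζ : G → ℂ)) s =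
        d * (θ : ↥(Subgroup.centralizer ({x} : Set G)) → ℂ) s :=
    fun ζ => exists_int_sec hxx _ _ ζ
  choose d hd using hD3
  have hval : ∀ ζ ∈ blockOf M (χ₀ : G → ℂ), ∀ s : ↥(Subgroup.centralizer ({x} : Set G)),
      ¬ 2 ∣ orderOf s → (ζ : G → ℂ) (x * (s : G)) =
        (d ζ : ℂ) * (θ : ↥(Subgroup.centralizer ({x} : Set G)) → ℂ) s := by
    intro ζ hζ s hs
    rw [← hD1 ζ hζ s hs]
    exact hd ζ s (fun ψ hψ => hagree ψ hψ s hs)
  -- the sum of squares
  have h1reg : ¬ 2 ∣ orderOf (1 : ↥(Subgroup.centralizer ({x} : Set G))) := by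
    rw [orderOf_one]; norm_num
  have hdag := dagger hx2 hC hM ξ₀ h1reg h1reg
  obtain ⟨n, hn⟩ : ∃ n : ℕ, (θ : ↥(Subgroup.centralizer ({x} : Set G)) → ℂ) 1 = n :=
    ⟨_, apply_one_eq_charDegree _ θ.2⟩
  have hn0 : (n : ℂ) ≠ 0 := by rw [← hn]; exact irr_one_ne_zero θ
  have hL : ∑ ζ : IrrCharacter G,
      conj ((ζ : G → ℂ) (x * ((1 : ↥(Subgroup.centralizer ({x} : Set G))) : G))) *
        proj (blockOf M (ξ₀ : ↥(Subgroup.centralizer ({x} : Set G)) → ℂ))
          (sec x (Subgroup.centralizer ({x} : Set G)) (ζ : G → ℂ)) 1 =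
      (∑ ζ : IrrCharacter G, (if ζ ∈ blockOf M (χ₀ : G → ℂ) then ((d ζ : ℤ) : ℂ) ^ 2 else 0)) *
        (n : ℂ) ^ 2 := by
    rw [Finset.sum_mul]
    refine Finset.sum_congr rfl fun ζ _ => ?_
    by_cases hζ : ζ ∈ blockOf M (χ₀ : G → ℂ)
    · rw [if_pos hζ, hD1 ζ hζ 1 h1reg, hval ζ hζ 1 h1reg, hn, map_mul, map_intCast, map_natCast]
      ring
    · rw [if_neg hζ, hD2 ζ hζ 1 h1reg, mul_zero, zero_mul]
  have hR : ∑ ξ : IrrCharacter ↥(Subgroup.centralizer ({x} : Set G)),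
      (if ξ ∈ blockOf M (ξ₀ : ↥(Subgroup.centralizer ({x} : Set G)) → ℂ) then
        conj ((ξ : ↥(Subgroup.centralizer ({x} : Set G)) → ℂ) 1) *
          (ξ : ↥(Subgroup.centralizer ({x} : Set G)) → ℂ) 1 else 0) = 2 * (n : ℂ) ^ 2 := by
    have h2 : ∀ ξ : IrrCharacter ↥(Subgroup.centralizer ({x} : Set G)),
        (if ξ ∈ blockOf M (ξ₀ : ↥(Subgroup.centralizer ({x} : Set G)) → ℂ) then
          conj ((ξ : ↥(Subgroup.centralizer ({x} : Set G)) → ℂ) 1) *
            (ξ : ↥(Subgroup.centralizer ({x} : Set G)) → ℂ) 1 else 0) =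
        (if ξ ∈ blockOf M (ξ₀ : ↥(Subgroup.centralizer ({x} : Set G)) → ℂ) then (1 : ℂ) else 0) *
          (n : ℂ) ^ 2 := by
      intro ξ
      split_ifs with h
      · rw [hagree ξ h 1 h1reg, hn, map_natCast]; ring
      · simp
    simp only [h2]
    rw [← Finset.sum_mul, Finset.sum_boole]
    have hcb : Nat.card ↥(blockOf M (ξ₀ : ↥(Subgroup.centralizer ({x} : Set G)) → ℂ)) =
        (Finset.univ.filter (fun ξ : IrrCharacter ↥(Subgroup.centralizer ({x} : Set G)) =>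
          ξ ∈ blockOf M (ξ₀ : ↥(Subgroup.centralizer ({x} : Set G)) → ℂ))).card :=
      Nat.subtype_card _ (fun ξ => by simp)
    rw [← hcb, hcardb, hconjcard]
    push_cast; ring
  have hsumd : ∑ ζ : IrrCharacter G,
      (if ζ ∈ blockOf M (χ₀ : G → ℂ) then (d ζ) ^ 2 else 0) = 2 := by
    have h3 : (∑ ζ : IrrCharacter G,
        (if ζ ∈ blockOf M (χ₀ : G → ℂ) then ((d ζ : ℤ) : ℂ) ^ 2 else 0)) * (n : ℂ) ^ 2 =
        2 * (n : ℂ) ^ 2 := by rw [← hL, hdag, hR]
    have h4 := mul_right_cancel₀ (pow_ne_zero 2 hn0) h3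
    exact_mod_cast h4
  -- nonvanishing
  have hh0 : ∀ ζ ∈ blockOf M (χ₀ : G → ℂ),
      blockHeight 2 (blockOf M (χ₀ : G → ℂ)) (ζ : G → ℂ) = 0 :=
    fun ζ hζ => height_zero_of_defect_one hM χ₀ _ hBD (by rw [Nat.card_zpowers, hx]) ζ hζ
  have hdne : ∀ ζ ∈ blockOf M (χ₀ : G → ℂ), d ζ ≠ 0 := by
    intro ζ hζ hd0
    obtain ⟨u, ⟨z, ⟨y, hzy, hcomm', -, hy⟩, hconj⟩, hne⟩ :=
      (conj_mem_defectGroup_iff hM _ ⟨χ₀, rfl⟩ _ hBD ζ hζ (hh0 ζ hζ) x hx2).1
        ⟨1, by rw [one_mul, inv_one, mul_one]; exact Subgroup.mem_zpowers x⟩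
    obtain ⟨c, hc⟩ := isConj_iff.1 hconj
    have hzc : z = c * x * c⁻¹ := hc.symm
    have h8 : z * y = y * z := hcomm'.eq
    have hy'x : (c⁻¹ * y * c) * x = x * (c⁻¹ * y * c) := by
      calc (c⁻¹ * y * c) * x = c⁻¹ * (y * (c * x * c⁻¹)) * c := by group
        _ = c⁻¹ * ((c * x * c⁻¹) * y) * c := by rw [← hzc, h8]
        _ = x * (c⁻¹ * y * c) := by group
    have hy'C : c⁻¹ * y * c ∈ Subgroup.centralizer ({x} : Set G) :=
      Subgroup.mem_centralizer_singleton_iff.2 hy'x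
    have hord : orderOf (c⁻¹ * y * c) = orderOf y := by
      have h9 := (MulAut.conj c⁻¹).orderOf_eq y
      simpa [MulAut.conj_apply] using h9
    have hs : ¬ 2 ∣ orderOf (⟨c⁻¹ * y * c, hy'C⟩ : ↥(Subgroup.centralizer ({x} : Set G))) := by
      rw [Subgroup.orderOf_mk, hord]; exact hy
    have h5 := hval ζ hζ ⟨c⁻¹ * y * c, hy'C⟩ hs
    rw [hd0, Int.cast_zero, zero_mul] at h5
    apply hne
    have h6 : c⁻¹ * u * c⁻¹⁻¹ = x * (c⁻¹ * y * c) := by
      rw [← hzy, hzc]; group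
    have h7 := isClassFunction_irr ζ u c⁻¹
    rw [← h7, h6]; exact h5
  -- each `d ζ` is a sign
  have hdsq : ∀ ζ ∈ blockOf M (χ₀ : G → ℂ), (d ζ) ^ 2 = 1 := by
    intro ζ hζ
    have h0 := hdne ζ hζ
    have hle : (d ζ) ^ 2 ≤ 2 := by
      rw [← hsumd]
      have h := Finset.single_le_sum
        (f := fun ζ' : IrrCharacter G => if ζ' ∈ blockOf M (χ₀ : G → ℂ) then (d ζ') ^ 2 else 0)
        (fun ζ' _ => by
          show (0 : ℤ) ≤ if ζ' ∈ blockOf M (χ₀ : G → ℂ) then (d ζ') ^ 2 else 0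
          split_ifs
          · exact sq_nonneg _
          · exact le_refl _) (Finset.mem_univ ζ)
      simp only [if_pos hζ] at h
      exact h
    have h1 : -1 ≤ d ζ := by
      by_contra hlt
      push Not at hlt
      have h2 : d ζ ≤ -2 := by omega
      nlinarith
    have h2 : d ζ ≤ 1 := by
      by_contra hlt
      push Not at hlt
      have h3 : 2 ≤ d ζ := by omega
      nlinarith
    have h3 : d ζ = 1 ∨ d ζ = -1 := by omega
    rcases h3 with h | h <;> rw [h] <;> norm_num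
  have hpm : ∀ ζ ∈ blockOf M (χ₀ : G → ℂ), d ζ = 1 ∨ d ζ = -1 := by
    intro ζ hζ
    have h := hdsq ζ hζ
    have h2 : (d ζ - 1) * (d ζ + 1) = 0 := by linear_combination h
    rcases mul_eq_zero.1 h2 with h3 | h3
    · left; linarith
    · right; linarith
  have hcardB : (Finset.univ.filter
      (fun ζ : IrrCharacter G => ζ ∈ blockOf M (χ₀ : G → ℂ))).card = 2 := by
    have h1 : ∑ ζ : IrrCharacter G,
        (if ζ ∈ blockOf M (χ₀ : G → ℂ) then (1 : ℤ) else 0) = 2 := by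
      rw [← hsumd]
      refine Finset.sum_congr rfl fun ζ _ => ?_
      split_ifs with h
      · rw [hdsq ζ h]
      · rfl
    rw [Finset.sum_boole] at h1
    exact_mod_cast h1
  obtain ⟨χ₁, χ₂, hne12, hS⟩ := Finset.card_eq_two.1 hcardB
  have hmem : ∀ ζ : IrrCharacter G, ζ ∈ blockOf M (χ₀ : G → ℂ) ↔ ζ = χ₁ ∨ ζ = χ₂ := by
    intro ζ
    have h : ζ ∈ Finset.univ.filter (fun ζ : IrrCharacter G => ζ ∈ blockOf M (χ₀ : G → ℂ)) ↔
        ζ ∈ ({χ₁, χ₂} : Finset (IrrCharacter G)) := by rw [hS]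
    simpa using h
  have hχ₁ : χ₁ ∈ blockOf M (χ₀ : G → ℂ) := (hmem χ₁).2 (Or.inl rfl)
  have hχ₂ : χ₂ ∈ blockOf M (χ₀ : G → ℂ) := (hmem χ₂).2 (Or.inr rfl)
  -- orthogonality with the 2-regular columns
  have hxv : ∀ ζ ∈ blockOf M (χ₀ : G → ℂ), (ζ : G → ℂ) x = (d ζ : ℂ) * (n : ℂ) := by
    intro ζ hζ
    have h := hval ζ hζ 1 h1reg
    rwa [Subgroup.coe_one, mul_one, hn] at h
  have horth : ∀ g : G, ¬ 2 ∣ orderOf g →
      (d χ₁ : ℂ) * (χ₁ : G → ℂ) g + (d χ₂ : ℂ) * (χ₂ : G → ℂ) g = 0 := by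
    intro g hg
    have h := weak_block_orthogonality hM χ₀ g x hg (by rw [hx])
    rw [← Finset.sum_filter, hS, Finset.sum_pair hne12, hxv χ₁ hχ₁, hxv χ₂ hχ₂] at h
    simp only [map_mul, map_intCast, map_natCast] at h
    have h2 : (n : ℂ) * ((d χ₁ : ℂ) * (χ₁ : G → ℂ) g + (d χ₂ : ℂ) * (χ₂ : G → ℂ) g) = 0 := by
      linear_combination h
    exact (mul_eq_zero.1 h2).resolve_left hn0
  have h1G : ¬ 2 ∣ orderOf (1 : G) := by rw [orderOf_one]; norm_num
  have hdeg := horth 1 h1G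
  rw [apply_one_eq_charDegree _ χ₁.2, apply_one_eq_charDegree _ χ₂.2] at hdeg
  have hdegZ : d χ₁ * (charDegree (χ₁ : G → ℂ) : ℤ) + d χ₂ * (charDegree (χ₂ : G → ℂ) : ℤ) = 0 := by
    exact_mod_cast hdeg
  have hp1 : 0 < (charDegree (χ₁ : G → ℂ) : ℤ) := by exact_mod_cast charDegree_pos _ χ₁.2
  have hp2 : 0 < (charDegree (χ₂ : G → ℂ) : ℤ) := by exact_mod_cast charDegree_pos _ χ₂.2
  have hprod : d χ₁ * d χ₂ = -1 := by
    rcases hpm χ₁ hχ₁ with h1 | h1 <;> rcases hpm χ₂ hχ₂ with h2 | h2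
    · exfalso; rw [h1, h2] at hdegZ; linarith
    · rw [h1, h2]; norm_num
    · rw [h1, h2]; norm_num
    · exfalso; rw [h1, h2] at hdegZ; linarith
  have h12 : ∀ g : G, ¬ 2 ∣ orderOf g → (χ₁ : G → ℂ) g = (χ₂ : G → ℂ) g := by
    intro g hg
    have h := horth g hg
    rcases hpm χ₁ hχ₁ with h1 | h1 <;> rcases hpm χ₂ hχ₂ with h2 | h2
    · exfalso; rw [h1, h2] at hprod; norm_num at hprod
    · rw [h1, h2] at h; push_cast at h; linear_combination h
    · rw [h1, h2] at h; push_cast at h; linear_combination -h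
    · exfalso; rw [h1, h2] at hprod; norm_num at hprod
  have hcB : Nat.card ↥(blockOf M (χ₀ : G → ℂ)) =
      (Finset.univ.filter (fun ζ : IrrCharacter G => ζ ∈ blockOf M (χ₀ : G → ℂ))).card :=
    Nat.subtype_card _ (fun ζ => by simp)
  refine ⟨by rw [hcB]; exact hcardB, ?_, χ₁, hχ₁, χ₂, hχ₂, hne12, d χ₁, d χ₂, hpm χ₁ hχ₁,
    hpm χ₂ hχ₂, hprod, fun y hy => ⟨hval χ₁ hχ₁ y hy, hval χ₂ hχ₂ y hy⟩⟩
  intro χ hχ ψ hψ g hg
  rcases (hmem χ).1 hχ with h | h <;> rcases (hmem ψ).1 hψ with h' | h'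
  · rw [h, h']
  · rw [h, h']; exact h12 g hg
  · rw [h, h']; exact (h12 g hg).symm
  · rw [h, h']

end Cfsg.Agent.S4513
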