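import Cfsg.Statements.S4518
import Mathlib
import Cfsg.Agent.Lib.H24.ChiefFactor
import Cfsg.Agent.Lib.H8.GaloisConj

set_option autoImplicit false
open Cfsg

namespace Cfsg.Agent.S4518

open scoped ComplexConjugate
open Cfsg.Agent.Lib.H24 Cfsg.Agent.Lib.L0 Cfsg.Agent.Lib.H8

section action

variable {G : Type*} [Group G] (N : Subgroup G) [hN : N.Normal]

theorem conj_mem' (g : G) (n : N) : g⁻¹ * (n : G) * g ∈ N := by
  have := hN.conj_mem n n.2 g⁻¹
  simpa using this

/-- the left action of `G` on the functions on a normal subgroup -/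
@[reducible] def conjMulAction : MulAction G (N → ℂ) where
  smul g φ := fun n => φ ⟨g⁻¹ * n * g, conj_mem' N g n⟩
  one_smul φ := by
    funext n
    show φ ⟨(1 : G)⁻¹ * n * 1, _⟩ = φ n
    congr 1
    apply Subtype.ext
    simp
  mul_smul g h φ := by
    funext n
    show φ ⟨(g * h)⁻¹ * n * (g * h), _⟩ = φ ⟨h⁻¹ * (g⁻¹ * n * g) * h, _⟩
    congr 1
    apply Subtype.ext
    simp [mul_assoc]

theorem smul_apply (g : G) (φ : N → ℂ) (n : N) :
    (letI := conjMulAction N; g • φ) n = φ ⟨g⁻¹ * n * g, conj_mem' N g n⟩ := rfl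

theorem conjChar_eq_smul (φ : N → ℂ) (g : G) :
    conjChar N φ g = (letI := conjMulAction N; g⁻¹ • φ) := by
  funext n
  rw [smul_apply]
  show φ ⟨g * n * g⁻¹, _⟩ = φ ⟨g⁻¹⁻¹ * n * g⁻¹, _⟩
  congr 1
  apply Subtype.ext
  simp

end action

/-- Let N be a normal subgroup of the finite group G whose index is not divisible by the prime p, and let k be coprime to the order of G with k ^ (p ^ e) ≡ 1 modulo the order of G for some e (so g ↦ g ^ k induces a field automorphism of p-power order on character values). If an irreducible character χ of G satisfies χ (g ^ k) = χ g for all g, then every irreducible constituent θ of the restriction of χ to N satisfies θ (n ^ k) = θ n for all n. -/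
theorem result {G : Type*} [Group G] [Fintype G] (p : ℕ) [Fact p.Prime] (N : Subgroup G) [N.Normal] [Fintype N] (hidx : ¬ p ∣ N.index) (k e : ℕ) (hk : Nat.Coprime k (Nat.card G)) (hke : k ^ (p ^ e) ≡ 1 [MOD Nat.card G]) (χ : Cfsg.IrrCharacter G) (hχ : ∀ g : G, (χ : G → ℂ) (g ^ k) = (χ : G → ℂ) g) (θ : Cfsg.IrrCharacter N) (hθ : Cfsg.classInner (fun n : N => (χ : G → ℂ) n) (θ : N → ℂ) ≠ 0) : ∀ n : N, (θ : N → ℂ) (n ^ k) = (θ : N → ℂ) n := by
  classical
  let _ := conjMulAction N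
  have hkN : Nat.Coprime k (Nat.card N) :=
    Nat.Coprime.coprime_dvd_right (Subgroup.card_subgroup_dvd_card N) hk
  -- the Galois conjugate of θ is again a constituent
  have hθσ_irr : IsIrrCharacter N (fun n : N => (θ : N → ℂ) (n ^ k)) :=
    isIrrCharacter_galoisConj θ.2 k hkN
  have hθσ : classInner (fun n : N => (χ : G → ℂ) n) (fun n : N => (θ : N → ℂ) (n ^ k)) ≠ 0 := by
    have h1 := classInner_comp_pow (fun n : N => (χ : G → ℂ) n) (θ : N → ℂ) k hkN
    have h2 : (fun n : N => (χ : G → ℂ) ((n ^ k : N) : G)) = fun n : N => (χ : G → ℂ) n := by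
      funext n
      rw [Subgroup.coe_pow, hχ]
    rw [h2] at h1
    rw [h1]
    exact hθ
  obtain ⟨g₁, hg₁⟩ := conj_of_constituent N χ χ.2 θ (fun n : N => (θ : N → ℂ) (n ^ k)) θ.2
    hθσ_irr hθ hθσ
  rw [conjChar_eq_smul] at hg₁
  -- Galois conjugation commutes with the action
  have hcomm : ∀ (g : G) (φ : N → ℂ), (fun n : N => (g • φ) (n ^ k)) =
      g • (fun n : N => φ (n ^ k)) := by
    intro g φ
    funext n
    rw [smul_apply, smul_apply]
    congr 1
    apply Subtype.ext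
    simp only [Subgroup.coe_pow]
    have h := conj_pow (a := g⁻¹) (b := (n : G)) (i := k)
    rw [inv_inv] at h
    exact h.symm
  -- the orbit of θ
  have hσ_orbit : ∀ ψ : MulAction.orbit G (θ : N → ℂ),
      (fun n : N => (ψ : N → ℂ) (n ^ k)) ∈ MulAction.orbit G (θ : N → ℂ) := by
    rintro ⟨ψ, g, rfl⟩
    show (fun n : N => (g • (θ : N → ℂ)) (n ^ k)) ∈ MulAction.orbit G (θ : N → ℂ)
    rw [hcomm, hg₁, ← mul_smul]
    exact MulAction.mem_orbit _ _
  have hfin : Finite (MulAction.orbit G (θ : N → ℂ)) := Set.finite_range _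
  have := Fintype.ofFinite (MulAction.orbit G (θ : N → ℂ))
  -- the size of the orbit is prime to p
  have hcard : ¬ p ∣ Fintype.card (MulAction.orbit G (θ : N → ℂ)) := by
    have h1 := MulAction.index_stabilizer G (θ : N → ℂ)
    rw [← Nat.card_coe_set_eq, Nat.card_eq_fintype_card] at h1
    rw [← h1]
    intro hdvd
    apply hidx
    refine hdvd.trans (Subgroup.index_dvd_of_le ?_)
    intro g hg
    rw [MulAction.mem_stabilizer_iff]
    funext n
    rw [smul_apply]
    have hcf := isClassFunction_of_isCharacter (isCharacter_of_irr θ.2)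
    have h2 := hcf n (⟨g, hg⟩⁻¹ : N)
    rw [← h2]
    exact congrArg _ (Subtype.ext (by simp))
  -- the Galois action on the orbit
  obtain ⟨f, hf⟩ : ∃ f : Function.End (MulAction.orbit G (θ : N → ℂ)),
      ∀ ψ, ((f ψ : MulAction.orbit G (θ : N → ℂ)) : N → ℂ) = fun n : N => (ψ : N → ℂ) (n ^ k) :=
    ⟨fun ψ => ⟨_, hσ_orbit ψ⟩, fun ψ => rfl⟩
  have hfpow : ∀ (m : ℕ) (ψ : MulAction.orbit G (θ : N → ℂ)),
      (((f ^ m) ψ : MulAction.orbit G (θ : N → ℂ)) : N → ℂ) =
        fun n : N => (ψ : N → ℂ) (n ^ (k ^ m)) := by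
    intro m
    induction m with
    | zero =>
      intro ψ
      funext n
      rw [pow_zero, pow_zero, pow_one]
      rfl
    | succ m ih =>
      intro ψ
      have h1 : (f ^ (m + 1)) ψ = (f ^ m) (f ψ) := by rw [pow_succ]; rfl
      rw [h1, ih, hf]
      funext n
      show (ψ : N → ℂ) ((n ^ k ^ m) ^ k) = (ψ : N → ℂ) (n ^ k ^ (m + 1))
      rw [← pow_mul, pow_succ]
  have hf1 : f ^ p ^ e = 1 := by
    funext ψ
    apply Subtype.ext
    rw [hfpow]
    funext n
    show (ψ : N → ℂ) (n ^ (k ^ (p ^ e))) = (ψ : N → ℂ) n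
    have h1 : k ^ (p ^ e) ≡ 1 [MOD orderOf n] :=
      hke.of_dvd ((orderOf_dvd_natCard n).trans (Subgroup.card_subgroup_dvd_card N))
    have h2 := (pow_eq_pow_iff_modEq (x := n)).mpr h1
    rw [h2, pow_one]
  have hmod := Equiv.Perm.card_fixedPoints_modEq (f := f) (p := p) (n := e) hf1
  have hex : ∃ ψ₀, f ψ₀ = ψ₀ := by
    by_contra hno
    push Not at hno
    have hempty : IsEmpty (Function.fixedPoints f) := ⟨fun ψ => hno ψ.1 ψ.2⟩
    have h0 : ∀ (inst : Fintype (Function.fixedPoints f)),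
        @Fintype.card (Function.fixedPoints f) inst = 0 :=
      fun inst => (@Fintype.card_eq_zero_iff _ inst).mpr hempty
    rw [h0] at hmod
    exact hcard ((Nat.modEq_zero_iff_dvd).mp hmod)
  obtain ⟨ψ₀, hψ₀⟩ := hex
  have hfix : (fun n : N => (ψ₀ : N → ℂ) (n ^ k)) = (ψ₀ : N → ℂ) := by
    rw [← hf ψ₀]
    exact congrArg Subtype.val hψ₀
  obtain ⟨ψ, g₀, hg₀⟩ := ψ₀
  simp only at hfix hg₀
  -- transport back to θ
  have hθeq : (θ : N → ℂ) = g₀⁻¹ • ψ := by
    rw [← hg₀]
    show (θ : N → ℂ) = g₀⁻¹ • (g₀ • (θ : N → ℂ))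
    rw [← mul_smul, inv_mul_cancel, one_smul]
  intro n
  have h1 := congrFun (hcomm g₀⁻¹ ψ) n
  rw [hfix, ← hθeq] at h1
  exact h1

end Cfsg.Agent.S4518
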