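import Cfsg.Statements.S4520
import Cfsg.Agent.S4517
import Cfsg.Agent.Lib.L0.PrincipalCover
import Cfsg.Agent.Lib.L0.Knorr
import Cfsg.Agent.Lib.L0.PrincipalBrauerPair
import Cfsg.Agent.Lib.L0.BlockMinMax
import Cfsg.Agent.Lib.H23.BlockVanishP
import Cfsg.Agent.Lib.H23.BlockDefect
import Cfsg.Agent.Lib.H23.BlockGalois

set_option autoImplicit false
open Cfsg

namespace Cfsg.Agent.S4520

open Cfsg.Agent.Lib.H23 Cfsg.Agent.Lib.H24 Cfsg.Agent.Lib.L0 Cfsg.Agent.Lib.L0.SigmaBlock2
  Cfsg.Agent.Lib.L0.PrincipalCrit Cfsg.Agent.S4664 Cfsg.Agent.Lib.L0.BlockMinMax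
  Cfsg.Agent.Lib.L0.PrincipalCover Cfsg.Agent.Lib.L0.Knorr Cfsg.Agent.Lib.L0.PrincipalBrauerPair

/-- Let N be a normal subgroup of odd index in the finite group G, M a maximal ideal of the algebraic integers containing 2, and k coprime to the order of G with k ^ (2 ^ e) ≡ 1 modulo the order of G for some e and g ^ k = g⁻¹ for every element g of odd order. Let θ be an irreducible character of N and χ an irreducible character of G over θ, both unchanged by composing with g ↦ g ^ k. Then χ lies in the principal 2-block of G if and only if θ lies in the principal 2-block of N. -/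
theorem result {G : Type*} [Group G] [Fintype G] (M : Ideal Cfsg.AlgInt) (hM : Cfsg.IsPModular 2 M) (N : Subgroup G) [N.Normal] [Fintype N] (hidx : Odd N.index) (k e : ℕ) (hk : Nat.Coprime k (Nat.card G)) (hke : k ^ (2 ^ e) ≡ 1 [MOD Nat.card G]) (hk₂ : ∀ g : G, Odd (orderOf g) → g ^ k = g⁻¹) (θ : Cfsg.IrrCharacter N) (hθ : ∀ n : N, (θ : N → ℂ) (n ^ k) = (θ : N → ℂ) n) (χ : Cfsg.IrrCharacter G) (hχ : ∀ g : G, (χ : G → ℂ) (g ^ k) = (χ : G → ℂ) g) (hover : Cfsg.classInner (fun n : N => (χ : G → ℂ) n) (θ : N → ℂ) ≠ 0) : χ ∈ Cfsg.principalBlock M G ↔ θ ∈ Cfsg.principalBlock M N := by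
  classical
  haveI hPr := isPrime_of_isPModular hM
  haveI : Fact (Nat.Prime 2) := ⟨Nat.prime_two⟩
  constructor
  · intro h
    exact constituent_mem_principalBlock N hM h θ hover
  · intro hθB
    have hχB : χ ∈ Cfsg.blockOf M (χ : G → ℂ) := mem_blockOf_self χ
    -- stability
    have hstab : ∀ ψ ∈ Cfsg.blockOf M (χ : G → ℂ), ∃ ψ' ∈ Cfsg.blockOf M (χ : G → ℂ),
        ∀ g : G, (ψ' : G → ℂ) g = (ψ : G → ℂ) (g ^ k) := by
      intro ψ hψ
      refine ⟨gc k hk ψ, ?_, fun g => gc_apply k hk ψ g⟩
      intro g
      have h1 := hψ (g ^ k)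
      have hcop : k.Coprime (orderOf g) :=
        Nat.Coprime.coprime_dvd_right (orderOf_dvd_natCard g) hk
      have e1 : Cfsg.centralChar (χ : G → ℂ) (g ^ k) = Cfsg.centralChar (χ : G → ℂ) g := by
        unfold Cfsg.centralChar
        rw [centralizer_pow_of_coprime g hcop, hχ]
      have e2 : Cfsg.centralChar (gc k hk ψ : G → ℂ) g =
          Cfsg.centralChar (ψ : G → ℂ) (g ^ k) := by
        unfold Cfsg.centralChar
        rw [centralizer_pow_of_coprime g hcop, gc_apply,
          gc_apply, one_pow]
      rw [e2, ← e1]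
      exact h1
    -- full defect
    have hdef : Cfsg.blockDefect 2 (Cfsg.blockOf M (χ : G → ℂ)) =
        (Nat.card G).factorization 2 := by
      apply le_antisymm
      · unfold Cfsg.blockDefect
        exact Nat.sub_le _ _
      · -- defect group of the principal block of N
        obtain ⟨Q', hQ'⟩ := exists_isDefectGroup hM
          (trivIrr N)
        have hcardQ' := card_defectGroup hM (trivIrr N) Q' hQ'
        have hdef0 : Cfsg.blockDefect 2
            (Cfsg.blockOf M (trivIrr N : N → ℂ)) =
            (Nat.card N).factorization 2 := by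
          have h1 : minDeg 2
              (Cfsg.blockOf M (trivIrr N : N → ℂ)) ≤
              (Cfsg.charDegree (trivIrr N : N → ℂ)).factorization 2 :=
            minDeg_le (trivIrr N)
              (mem_blockOf_self (trivIrr N))
          have h2 : Cfsg.charDegree (trivIrr N : N → ℂ) = 1 := by
            have := apply_one_eq_charDegree
              (trivIrr N : N → ℂ) (trivIrr N).2
            rw [trivIrr_apply] at this
            exact_mod_cast this.symm
          rw [h2, Nat.factorization_one, Finsupp.zero_apply] at h1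
          rw [Cfsg.blockDefect]
          have : sInf ((fun χ : Cfsg.IrrCharacter N =>
              (Cfsg.charDegree (χ : N → ℂ)).factorization 2) ''
              Cfsg.blockOf M (trivIrr N : N → ℂ)) = 0 := Nat.le_zero.mp h1
          rw [this, Nat.sub_zero]
        rw [hdef0] at hcardQ'
        set Q : Subgroup G := Q'.map N.subtype with hQ
        have hQN : Q ≤ N := by
          rintro x ⟨y, -, rfl⟩
          exact y.2
        have hQsub : Q.subgroupOf N = Q' := by
          rw [hQ, Subgroup.subgroupOf, Subgroup.comap_map_eq_self_of_injective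
            (Subgroup.subtype_injective N)]
        have hcov : ∃ χ' ∈ Cfsg.blockOf M (χ : G → ℂ), ∃ θ' ∈ Cfsg.principalBlock M N,
            Cfsg.classInner (fun n : N => (χ' : G → ℂ) n) (θ' : N → ℂ) ≠ 0 :=
          ⟨χ, hχB, θ, hθB, hover⟩
        obtain ⟨P, hP, hQP⟩ := exists_defectGroup_ge N hM
          (B := Cfsg.blockOf M (χ : G → ℂ)) ⟨χ, rfl⟩
          (b := Cfsg.principalBlock M N)
          (isPBlock_principalBlock M N) hcov Q hQN
          (by rw [hQsub]; exact hQ')
        have hcardP := card_defectGroup hM χ P hP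
        have hcardQ : Nat.card Q = 2 ^ (Nat.card N).factorization 2 := by
          rw [hQ, Subgroup.card_map_of_injective (Subgroup.subtype_injective N), hcardQ']
        have hdvd : Nat.card Q ∣ Nat.card P := Subgroup.card_dvd_of_le hQP
        rw [hcardQ, hcardP] at hdvd
        have hle : (Nat.card N).factorization 2 ≤
            Cfsg.blockDefect 2 (Cfsg.blockOf M (χ : G → ℂ)) :=
          (Nat.pow_dvd_pow_iff_le_right (by norm_num)).mp hdvd
        have hGN : (Nat.card G).factorization 2 = (Nat.card N).factorization 2 := by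
          rw [← Subgroup.card_mul_index N, Nat.factorization_mul Nat.card_pos.ne'
            (Subgroup.index_ne_zero_of_finite), Finsupp.add_apply]
          have : N.index.factorization 2 = 0 := by
            apply Nat.factorization_eq_zero_of_not_dvd
            exact fun h => (Nat.not_even_iff_odd.mpr hidx) (even_iff_two_dvd.mpr h)
          rw [this, add_zero]
        rw [hGN]
        exact hle
    have hfin := Cfsg.Agent.S4517.result M hM k hk hk₂ (Cfsg.blockOf M (χ : G → ℂ)) ⟨χ, rfl⟩
      hdef hstab
    rw [← hfin]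
    exact hχB

end Cfsg.Agent.S4520
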