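import Cfsg.Statements.S4539
import Cfsg.Agent.Lib.H28.KB.GS
import Cfsg.Agent.Lib.H28.KB.ABS
import Cfsg.Agent.Lib.H11.KBREDLATCore
import Cfsg.Agent.Lib.H9.KBLAT
import Cfsg.Agent.Lib.H22.KBFACTS
import Cfsg.Agent.Lib.H24.KBFORM
import Cfsg.Agent.Lib.H23.ContribT

set_option autoImplicit false
open Cfsg

namespace Cfsg.Agent.S4539

open Cfsg.Agent.Lib.H23 Cfsg.Agent.Lib.H23.Contrib Cfsg.Agent.Lib.H28.KB
open scoped ComplexConjugate

theorem galW_add {K : Type*} [Group K] [Fintype (IrrCharacter K)] (z : K)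
    (c c' : IrrCharacter K → ℤ) (k : ℕ) :
    galW z (fun ξ => c ξ + c' ξ) k = galW z c k + galW z c' k := by
  unfold galW
  rw [← Finset.sum_add_distrib]
  refine Finset.sum_congr rfl fun ξ _ => ?_
  push_cast
  ring

/-- The case `l(b) ≤ 1`. -/
theorem card_le_of_rank_le_one {ι κ : Type*} [Fintype ι] [Fintype κ] [Nonempty κ]
    (N : ι → κ → ℝ) (P : ℝ) (hP : 0 ≤ P) (l : ℕ) (hl : l ≤ 1) (p : ℕ) (hp : 1 ≤ p) (h : ι → ℕ)
    (hT : ∀ k, ∑ i, N i k ≤ (l : ℝ) * P)
    (hH : ∀ i, (Fintype.card κ : ℝ) * (p : ℝ) ^ h i ≤ ∑ k, N i k) :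
    (Fintype.card ι : ℝ) ≤ P := by
  have hφ : (0 : ℝ) < Fintype.card κ := by exact_mod_cast Fintype.card_pos
  have h1 : (Fintype.card ι : ℝ) * (Fintype.card κ : ℝ) ≤ ∑ i, ∑ k, N i k := by
    have : (Fintype.card ι : ℝ) * (Fintype.card κ : ℝ) = ∑ _i : ι, (Fintype.card κ : ℝ) := by
      rw [Finset.sum_const, Finset.card_univ, nsmul_eq_mul]
    rw [this]
    refine Finset.sum_le_sum fun i _ => le_trans ?_ (hH i)
    have : (1 : ℝ) ≤ (p : ℝ) ^ h i := one_le_pow₀ (by exact_mod_cast hp)
    nlinarith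
  have h2 : ∑ i, ∑ k, N i k ≤ (Fintype.card κ : ℝ) * P := by
    rw [Finset.sum_comm]
    have : (Fintype.card κ : ℝ) * P = ∑ _k : κ, P := by
      rw [Finset.sum_const, Finset.card_univ, nsmul_eq_mul]
    rw [this]
    refine Finset.sum_le_sum fun k _ => le_trans (hT k) ?_
    have : (l : ℝ) ≤ 1 := by exact_mod_cast hl
    nlinarith
  have h3 := h1.trans h2
  rw [mul_comm] at h3
  exact le_of_mul_le_mul_left h3 hφ

/-- Let B be a p-block of the finite group G (relative to a maximal ideal M of the algebraic integers containing p) of defect d with defect group D. Let z be an element of D commuting with every element of D, and let b be a block of the centralizer C of z with defect group D that induces B (a major subsection (z, b)). If b has p-regular rank at most two, then B contains at most p ^ d irreducible characters. -/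
theorem result {G : Type*} [Group G] [Finite G] (p : ℕ) [Fact p.Prime] (M : Ideal Cfsg.AlgInt) (hM : Cfsg.IsPModular p M) (B : Set (Cfsg.IrrCharacter G)) (hB : Cfsg.IsPBlock M B) (D : Subgroup G) (hD : Cfsg.IsDefectGroup p M B D) (z : G) (hzD : z ∈ D) (hzc : ∀ d ∈ D, d * z = z * d) (b : Set (Cfsg.IrrCharacter ↥(Subgroup.centralizer ({z} : Set G)))) (hb : Cfsg.IsInducedBlock M (Subgroup.centralizer ({z} : Set G)) b B) (hbD : Cfsg.IsDefectGroup p M b (D.subgroupOf (Subgroup.centralizer ({z} : Set G)))) (hl : Cfsg.blockRank p b ≤ 2) : Nat.card B ≤ p ^ Cfsg.blockDefect p B := by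
  classical
  haveI := Fintype.ofFinite G
  haveI := Fintype.ofFinite (IrrCharacter G)
  have hp : p.Prime := Fact.out
  set H : Subgroup G := Subgroup.centralizer ({z} : Set G) with hH
  haveI : Fintype H := Fintype.ofFinite H
  haveI : Fintype (IrrCharacter H) := Fintype.ofFinite _
  obtain ⟨ξ₁, hξ₁⟩ := hb.1
  subst hξ₁
  obtain ⟨χ₁, hχ₁⟩ := hb.2.1
  -- `D ≤ H`
  have hDH : D ≤ H := by
    intro x hx
    rw [hH, Subgroup.mem_centralizer_singleton_iff]
    exact hzc x hx
  -- the defects agree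
  have hdef : blockDefect p (blockOf M (ξ₁ : H → ℂ)) = blockDefect p B := by
    have h1 : Nat.card D = p ^ blockDefect p B := by
      have := card_defectGroup hM χ₁ D (hχ₁ ▸ hD)
      rw [← hχ₁] at this
      exact this
    have h2 := card_defectGroup hM ξ₁ (D.subgroupOf H) hbD
    have h3 : Nat.card (D.subgroupOf H) = Nat.card D :=
      Nat.card_congr (Subgroup.subgroupOfEquivOfLe hDH).toEquiv
    exact Nat.pow_right_injective hp.two_le (h2.symm.trans (h3.trans h1))
  -- the central element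
  have hzH : z ∈ H := Subgroup.mem_centralizer_singleton_iff.2 rfl
  set zH : H := ⟨z, hzH⟩ with hzHdef
  have hyc : zH ∈ Subgroup.center H := by
    rw [Subgroup.mem_center_iff]
    intro g
    apply Subtype.ext
    simp only [Subgroup.coe_mul, hzHdef]
    exact Subgroup.mem_centralizer_singleton_iff.1 g.2
  have hzord : ∃ k : ℕ, orderOf z = p ^ k := by
    obtain ⟨k, hk⟩ := (isPGroup_of_isDefectGroup hD) ⟨z, hzD⟩
    have h1 : z ^ p ^ k = 1 := by
      have := congrArg Subtype.val hk
      simpa using this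
    obtain ⟨k', -, hk'⟩ := (Nat.dvd_prime_pow hp).1 (orderOf_dvd_of_pow_eq_one h1)
    exact ⟨k', hk'⟩
  have hyord : ∃ k : ℕ, orderOf zH = p ^ k := by
    obtain ⟨k, hk⟩ := hzord
    exact ⟨k, by rw [← hk, ← Subgroup.orderOf_coe]⟩
  have hC : ∀ g : G, g * (zH : G) * g⁻¹ = (zH : G) → g ∈ H := by
    intro g hg
    have h1 : g * z * g⁻¹ = z := hg
    have h2 : g * z = z * g := mul_inv_eq_iff_eq_mul.1 h1
    exact Subgroup.mem_centralizer_singleton_iff.2 h2
  set m := Nat.card G with hm
  haveI : NeZero m := ⟨Nat.card_pos.ne'⟩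
  have hHm : ∀ h : H, h ^ m = 1 := by
    intro h
    rw [hm]
    obtain ⟨q, hq⟩ := Subgroup.card_subgroup_dvd_card H
    rw [hq, pow_mul, pow_card_eq_one', one_pow]
  obtain ⟨fT, fI, fNZ, fH, f0⟩ := Cfsg.Agent.Lib.H22.KB.pcontrib_facts hM H ξ₁ hb hdef zH hyc hyord hC m hm
  set d := blockDefect p B with hd
  have hcardB : Nat.card B = Fintype.card {χ : IrrCharacter G // χ ∈ B} := by
    rw [Nat.card_eq_fintype_card]
  have hPpos : (0 : ℝ) < (p : ℝ) ^ d := pow_pos (by exact_mod_cast hp.pos) d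
  suffices hmain : (Fintype.card {χ : IrrCharacter G // χ ∈ B} : ℝ) ≤ (p : ℝ) ^ d by
    rw [hcardB]
    exact_mod_cast hmain
  rcases Nat.lt_or_ge (blockRank p (blockOf M (ξ₁ : H → ℂ))) 2 with hl1 | hl2
  · -- `l(b) ≤ 1`
    exact card_le_of_rank_le_one
      (fun (χ : {χ : IrrCharacter G // χ ∈ B}) (k : (ZMod m)ˣ) =>
        (pcontrib p H (blockOf M (ξ₁ : H → ℂ)) d zH m k
          ((χ : IrrCharacter G) : G → ℂ) ((χ : IrrCharacter G) : G → ℂ)).re)
      ((p : ℝ) ^ d) hPpos.le (blockRank p (blockOf M (ξ₁ : H → ℂ))) (by omega) p hp.one_le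
      (fun χ => blockHeight p B ((χ : IrrCharacter G) : G → ℂ)) fT fH
  · -- `l(b) = 2`
    have hl2' : blockRank p (blockOf M (ξ₁ : H → ℂ)) = 2 := le_antisymm hl hl2
    set bb : Set (IrrCharacter H) := blockOf M (ξ₁ : H → ℂ) with hbb
    -- the reduced integer coordinates
    have hred := Cfsg.Agent.Lib.H11.KB.reduced_coords_of_coords _
      (Cfsg.Agent.Lib.H9.KB.exists_int_coords (E := H → ℂ) (I := {ξ : IrrCharacter H // ξ ∈ bb})
      (fun u w => classInner u w)
      (by
        intro u v w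
        unfold classInner
        rw [← mul_add, ← Finset.sum_add_distrib]
        congr 1
        refine Finset.sum_congr rfl fun g _ => ?_
        rw [Pi.add_apply, add_mul])
      (by
        intro r u w
        unfold classInner
        simp only [Pi.smul_apply, smul_eq_mul, mul_assoc]
        rw [← Finset.mul_sum]
        ring)
      (by
        intro u w
        unfold classInner
        rw [map_mul, map_inv₀, Complex.conj_natCast, map_sum]
        congr 1
        refine Finset.sum_congr rfl fun g _ => ?_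
        rw [map_mul, Complex.conj_conj, mul_comm])
      (by
        intro u hu
        unfold classInner
        have hne : ∃ g, u g ≠ 0 := by
          by_contra hcon
          push_neg at hcon
          exact hu (funext hcon)
        obtain ⟨g₀, hg₀⟩ := hne
        have hterm : ∀ g : H, u g * conj (u g) = ((Complex.normSq (u g) : ℝ) : ℂ) :=
          fun g => Complex.mul_conj (u g)
        simp only [hterm]
        rw [← Complex.ofReal_sum, ← Complex.ofReal_natCast, ← Complex.ofReal_inv,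
          ← Complex.ofReal_mul, Complex.ofReal_re]
        apply mul_pos
        · exact inv_pos.2 (by exact_mod_cast Nat.card_pos)
        · exact Finset.sum_pos' (fun g _ => Complex.normSq_nonneg _)
            ⟨g₀, Finset.mem_univ _, Complex.normSq_pos.2 hg₀⟩)
      (fun ξ => pRegularPart p ((ξ : IrrCharacter H) : H → ℂ)) (p ^ d) (pow_pos hp.pos d)
      (by
        intro ξ ξ'
        obtain ⟨n, hn⟩ := exists_int_pow_mul_pin (p := p) hM ξ₁ (ξ := (ξ : IrrCharacter H))
          (ξ' := (ξ' : IrrCharacter H)) ξ.2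
        refine ⟨n, ?_⟩
        rw [classInner_pRegularPart_both, ← hn, hdef]
        push_cast
        rfl)
      (by
        have h := hl2'
        unfold blockRank at h
        have hrange : Set.range (fun ξ : {ξ : IrrCharacter H // ξ ∈ bb} =>
            pRegularPart p ((ξ : IrrCharacter H) : H → ℂ)) =
            (fun χ : IrrCharacter H => pRegularPart p (χ : H → ℂ)) '' bb := by
          ext f
          constructor
          · rintro ⟨ξ, rfl⟩
            exact ⟨ξ.1, ξ.2, rfl⟩
          · rintro ⟨ξ, hξ, rfl⟩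
            exact ⟨⟨ξ, hξ⟩, rfl⟩
        rw [hrange]
        exact h))
    obtain ⟨D₁', D₂', α, β, γ, hα, hβ0, hβα, hαγ, hGram⟩ := hred
    set D₁ : IrrCharacter H → ℤ := fun ξ => if h : ξ ∈ bb then D₁' ⟨ξ, h⟩ else 0 with hD₁
    set D₂ : IrrCharacter H → ℤ := fun ξ => if h : ξ ∈ bb then D₂' ⟨ξ, h⟩ else 0 with hD₂
    have hG : ∀ ξ ξ' : IrrCharacter H, ξ ∈ bb → ξ' ∈ bb →
        (p : ℂ) ^ d * pin p (ξ : H → ℂ) (ξ' : H → ℂ) =
          ((α * D₁ ξ * D₁ ξ' + β * (D₁ ξ * D₂ ξ' + D₂ ξ * D₁ ξ') + γ * D₂ ξ * D₂ ξ' : ℤ) : ℂ) := by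
      intro ξ ξ' hξ hξ'
      have h := hGram ⟨ξ, hξ⟩ ⟨ξ', hξ'⟩
      simp only [classInner_pRegularPart_both] at h
      rw [hD₁, hD₂]
      simp only [dif_pos hξ, dif_pos hξ']
      rw [← h]
      push_cast
      rfl
    -- the form
    have hF : ∀ (χ ψ : IrrCharacter G) (k : (ZMod m)ˣ),
        pcontrib p H bb d zH m k (χ : G → ℂ) (ψ : G → ℂ) =
          formH α β γ (galW zH (cfD H bb D₁ χ) (k : ZMod m).val)
            (galW zH (cfD H bb D₂ χ) (k : ZMod m).val)
            (galW zH (cfD H bb D₁ ψ) (k : ZMod m).val)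
            (galW zH (cfD H bb D₂ ψ) (k : ZMod m).val) := by
      intro χ ψ k
      unfold pcontrib
      exact Cfsg.Agent.Lib.H24.KB.pow_mul_contrib_eq_formH hM H ξ₁ hyc d D₁ D₂ α β γ hG χ ψ (k : ZMod m).val
    simp only [hF] at fT fI fNZ fH
    have hXY : ∀ (χ : IrrCharacter G) (k : ℕ),
        galW zH (cfD H bb D₁ χ) k + galW zH (cfD H bb D₂ χ) k =
          galW zH (fun ξ => cfD H bb D₁ χ ξ + cfD H bb D₂ χ ξ) k :=
      fun χ k => (galW_add zH _ _ k).symm
    refine Cfsg.Agent.Lib.H28.KB.card_le_of_form_bounds (1 : (ZMod m)ˣ) α β γ hα hβ0 hβα hαγ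
      (fun (χ : {χ : IrrCharacter G // χ ∈ B}) (k : (ZMod m)ˣ) =>
        galW zH (cfD H bb D₁ (χ : IrrCharacter G)) (k : ZMod m).val)
      (fun (χ : {χ : IrrCharacter G // χ ∈ B}) (k : (ZMod m)ˣ) =>
        galW zH (cfD H bb D₂ (χ : IrrCharacter G)) (k : ZMod m).val)
      ((p : ℝ) ^ d) hPpos p hp.two_le
      (fun χ => blockHeight p B ((χ : IrrCharacter G) : G → ℂ))
      (fun χ => Cfsg.Agent.Lib.H28.KB.galW_galois m hHm hyc _) (fun χ => Cfsg.Agent.Lib.H28.KB.galW_galois m hHm hyc _)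
      (fun χ => by
        simp only [hXY]
        exact Cfsg.Agent.Lib.H28.KB.galW_galois m hHm hyc _)
      (fun k => by
        have := fT k
        rw [hl2'] at this
        exact_mod_cast this)
      fI fNZ fH f0

end Cfsg.Agent.S4539
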