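import Cfsg.Statements.S4540
import Cfsg.Agent.Lib.H28.KY.AINT
import Cfsg.Agent.Lib.H22.KBFACTS
import Cfsg.Agent.Lib.H22.KYG
import Cfsg.Agent.Lib.H4.KZCNT
import Cfsg.Agent.Lib.H23.KZPAR
import Cfsg.Agent.Lib.H23.ContribT

set_option autoImplicit false
open Cfsg

namespace Cfsg.Agent.S4540

open Cfsg.Agent.Lib.H23 Cfsg.Agent.Lib.H23.Contrib Cfsg.Agent.Lib.H28.KB
open scoped ComplexConjugate

/-- Let B be a 2-block of the finite group G (relative to a maximal ideal M of the algebraic integers containing 2) of defect d with defect group D. Let z be an element of D commuting with every element of D, and let b be a block of the centralizer C of z with defect group D that induces B (a major subsection (z, b)). If b has 2-regular rank at most three, then 3·k(B) ≤ 3·k₀(B) + 2·Σ 2 ^ h(χ), where k(B) is the number of members of B, k₀(B) the number of members of height zero, and the sum runs over the members χ of B of positive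 height h(χ); this bound is at most 3·2 ^ d, so in particular B contains at most 2 ^ d irreducible characters. -/
theorem result {G : Type*} [Group G] [Finite G] (M : Ideal Cfsg.AlgInt) (hM : Cfsg.IsPModular 2 M) (B : Set (Cfsg.IrrCharacter G)) (hB : Cfsg.IsPBlock M B) (D : Subgroup G) (hD : Cfsg.IsDefectGroup 2 M B D) (z : G) (hzD : z ∈ D) (hzc : ∀ d ∈ D, d * z = z * d) (b : Set (Cfsg.IrrCharacter ↥(Subgroup.centralizer ({z} : Set G)))) (hb : Cfsg.IsInducedBlock M (Subgroup.centralizer ({z} : Set G)) b B) (hbD : Cfsg.IsDefectGroup 2 M b (D.subgroupOf (Subgroup.centralizer ({z} : Set G)))) (hl : Cfsg.blockRank 2 b ≤ 3) : 3 * Nat.card B ≤ 3 * Nat.card {χ : Cfsg.IrrCharacter G // χ ∈ B ∧ Cfsg.blockHeight 2 B (χ : G → ℂ) = 0} + 2 * (∑ᶠ χ ∈ {χ : Cfsg.IrrCharacter G | χ ∈ B ∧ 1 ≤ Cfsg.blockHeight 2 B (χ : G → ℂ)}, 2 ^ Cfsg.blockHeight 2 B (χ : G → ℂ)) ∧ 3 * Nat.card {χ : Cfsg.IrrCharacter G // χ ∈ B ∧ Cfsg.blockHeight 2 B (χ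 : G → ℂ) = 0} + 2 * (∑ᶠ χ ∈ {χ : Cfsg.IrrCharacter G | χ ∈ B ∧ 1 ≤ Cfsg.blockHeight 2 B (χ : G → ℂ)}, 2 ^ Cfsg.blockHeight 2 B (χ : G → ℂ)) ≤ 3 * 2 ^ Cfsg.blockDefect 2 B := by
  classical
  haveI := Fintype.ofFinite G
  haveI := Fintype.ofFinite (IrrCharacter G)
  have hp : (2 : ℕ).Prime := Nat.prime_two
  set H : Subgroup G := Subgroup.centralizer ({z} : Set G) with hH
  haveI : Fintype H := Fintype.ofFinite H
  haveI : Fintype (IrrCharacter H) := Fintype.ofFinite _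
  obtain ⟨ξ₁, hξ₁⟩ := hb.1
  subst hξ₁
  obtain ⟨χ₁, hχ₁⟩ := hb.2.1
  -- `D ≤ H`
  have hDH : D ≤ H := by
    intro x hx
    rw [hH, Subgroup.mem_centralizer_singleton_iff]
    exact hzc x hx
  -- the defects agree
  have hdef : blockDefect 2 (blockOf M (ξ₁ : H → ℂ)) = blockDefect 2 B := by
    have h1 : Nat.card D = 2 ^ blockDefect 2 B := by
      have := card_defectGroup hM χ₁ D (hχ₁ ▸ hD)
      rw [← hχ₁] at this
      exact this
    have h2 := card_defectGroup hM ξ₁ (D.subgroupOf H) hbD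
    have h3 : Nat.card (D.subgroupOf H) = Nat.card D :=
      Nat.card_congr (Subgroup.subgroupOfEquivOfLe hDH).toEquiv
    exact Nat.pow_right_injective hp.two_le (h2.symm.trans (h3.trans h1))
  -- the central element
  have hzH : z ∈ H := Subgroup.mem_centralizer_singleton_iff.2 rfl
  set zH : H := ⟨z, hzH⟩ with hzHdef
  have hyc : zH ∈ Subgroup.center H := by
    rw [Subgroup.mem_center_iff]
    intro g
    apply Subtype.ext
    simp only [Subgroup.coe_mul, hzHdef]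
    exact Subgroup.mem_centralizer_singleton_iff.1 g.2
  have hzord : ∃ k : ℕ, orderOf z = 2 ^ k := by
    obtain ⟨k, hk⟩ := (isPGroup_of_isDefectGroup hD) ⟨z, hzD⟩
    have h1 : z ^ 2 ^ k = 1 := by
      have := congrArg Subtype.val hk
      simpa using this
    obtain ⟨k', -, hk'⟩ := (Nat.dvd_prime_pow hp).1 (orderOf_dvd_of_pow_eq_one h1)
    exact ⟨k', hk'⟩
  have hyord : ∃ k : ℕ, orderOf zH = 2 ^ k := by
    obtain ⟨k, hk⟩ := hzord
    exact ⟨k, by rw [← hk, ← Subgroup.orderOf_coe]⟩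
  have hC : ∀ g : G, g * (zH : G) * g⁻¹ = (zH : G) → g ∈ H := by
    intro g hg
    have h1 : g * z * g⁻¹ = z := hg
    have h2 : g * z = z * g := mul_inv_eq_iff_eq_mul.1 h1
    exact Subgroup.mem_centralizer_singleton_iff.2 h2
  set m := Nat.card G with hm
  haveI : NeZero m := ⟨Nat.card_pos.ne'⟩
  obtain ⟨fT, fI, -, fH, -⟩ :=
    Cfsg.Agent.Lib.H22.KB.pcontrib_facts hM H ξ₁ hb hdef zH hyc hyord hC m hm
  set d := blockDefect 2 B with hd
  set bb : Set (IrrCharacter H) := blockOf M (ξ₁ : H → ℂ) with hbb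
  set φ : ℝ := (Fintype.card (ZMod m)ˣ : ℝ) with hφ
  have hφpos : 0 < φ := by
    rw [hφ]
    exact_mod_cast Fintype.card_pos
  have hφC : (Fintype.card (ZMod m)ˣ : ℂ) ≠ 0 := Nat.cast_ne_zero.2 Fintype.card_ne_zero
  -- the integers `A χ`
  have hAex : ∀ χ : {χ : IrrCharacter G // χ ∈ B}, ∃ A : ℤ,
      (∑ k : (ZMod m)ˣ, pcontrib 2 H bb d zH m k ((χ : IrrCharacter G) : G → ℂ)
        ((χ : IrrCharacter G) : G → ℂ)) = (Fintype.card (ZMod m)ˣ : ℂ) * (A : ℂ) ∧
      (2 : ℤ) ^ blockHeight 2 B ((χ : IrrCharacter G) : G → ℂ) ∣ A ∧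
      (1 ≤ blockHeight 2 B ((χ : IrrCharacter G) : G → ℂ) →
        (2 : ℤ) ^ (blockHeight 2 B ((χ : IrrCharacter G) : G → ℂ) + 1) ∣ A) := fun χ =>
    Cfsg.Agent.Lib.H28.KY.exists_int_avg_contrib_self hM H ξ₁ hb hdef zH hyc hyord hC χ.2 m hm
  choose A hA1 hA2 hA3 using hAex
  -- the real form of the sum
  have hAre : ∀ χ : {χ : IrrCharacter G // χ ∈ B},
      ∑ k : (ZMod m)ˣ, (pcontrib 2 H bb d zH m k ((χ : IrrCharacter G) : G → ℂ)
        ((χ : IrrCharacter G) : G → ℂ)).re = φ * (A χ : ℝ) := by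
    intro χ
    have h3 := congrArg Complex.re (hA1 χ)
    rw [Complex.re_sum] at h3
    rw [h3, ← Complex.ofReal_natCast, ← Complex.ofReal_intCast, ← Complex.ofReal_mul,
      Complex.ofReal_re]
  have hApos : ∀ χ : {χ : IrrCharacter G // χ ∈ B}, 0 < A χ := by
    intro χ
    have h1 := fH χ
    rw [hAre χ] at h1
    have h2 : (0 : ℝ) < φ * (A χ : ℝ) := lt_of_lt_of_le (by positivity) h1
    have h3 : (0 : ℝ) < (A χ : ℝ) := by
      by_contra hneg
      have : φ * (A χ : ℝ) ≤ 0 := mul_nonpos_of_nonneg_of_nonpos hφpos.le (not_lt.1 hneg)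
      linarith
    exact_mod_cast h3
  refine Cfsg.Agent.Lib.H4.KZ.cnt_frozen_int B (fun χ : IrrCharacter G => blockHeight 2 B (χ : G → ℂ))
    d A ?_ ?_ ?_ ?_
  · -- hT
    have e1 : φ * ∑ χ : {χ : IrrCharacter G // χ ∈ B}, (A χ : ℝ) ≤ φ * (3 * 2 ^ d) := by
      rw [Finset.mul_sum]
      have : ∀ χ : {χ : IrrCharacter G // χ ∈ B}, φ * (A χ : ℝ) =
          ∑ k : (ZMod m)ˣ, (pcontrib 2 H bb d zH m k ((χ : IrrCharacter G) : G → ℂ)
            ((χ : IrrCharacter G) : G → ℂ)).re := fun χ => (hAre χ).symm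
      rw [Finset.sum_congr rfl fun χ _ => this χ, Finset.sum_comm]
      have e2 : φ * (3 * 2 ^ d) = ∑ _k : (ZMod m)ˣ, ((3 : ℝ) * 2 ^ d) := by
        rw [Finset.sum_const, Finset.card_univ, nsmul_eq_mul]
      rw [e2]
      refine Finset.sum_le_sum fun k _ => le_trans (fT k) ?_
      have hl' : ((blockRank 2 bb : ℕ) : ℝ) ≤ 3 := by exact_mod_cast hl
      have h2d : (0 : ℝ) ≤ (2 : ℝ) ^ d := by positivity
      push_cast
      exact mul_le_mul_of_nonneg_right hl' h2d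
    have e3 := le_of_mul_le_mul_left e1 hφpos
    have e4 : ((∑ χ : {χ : IrrCharacter G // χ ∈ B}, A χ : ℤ) : ℝ) ≤ ((3 * 2 ^ d : ℤ) : ℝ) := by
      push_cast
      exact e3
    exact_mod_cast e4
  · -- h0
    intro χ h0
    refine ⟨?_, hApos χ⟩
    obtain ⟨A', hA'1, hA'2⟩ := Cfsg.Agent.Lib.H23.KZ.exists_odd_sum_units_contrib_self H hM ξ₁ hb zH hyc
      hyord χ.2 h0 m hm
    rw [hdef] at hA'2
    have h3 : (Fintype.card (ZMod m)ˣ : ℂ) * (A χ : ℂ) = (Fintype.card (ZMod m)ˣ : ℂ) * (A' : ℂ) := by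
      rw [← hA1 χ, ← hA'2]
      rfl
    have h4 : (A χ : ℂ) = (A' : ℂ) := mul_left_cancel₀ hφC h3
    have h5 : A χ = A' := by exact_mod_cast h4
    rw [h5]
    exact hA'1
  · -- h1
    intro χ h1
    obtain ⟨c, hc⟩ := hA3 χ h1
    refine ⟨2 * c, ?_, ?_⟩
    · have hpos := hApos χ
      rw [hc] at hpos
      have h2 : (0 : ℤ) < 2 ^ (blockHeight 2 B ((χ : IrrCharacter G) : G → ℂ) + 1) := by positivity
      have h3 : 0 < c := pos_of_mul_pos_left (by rwa [mul_comm] at hpos) h2.le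
      omega
    · rw [hc, pow_succ]
      ring
  · -- hOFF
    intro ψ₀ h0
    have e1 : φ * ∑ χ : {χ : IrrCharacter G // χ ∈ B},
        (4 : ℝ) ^ blockHeight 2 B ((χ : IrrCharacter G) : G → ℂ) ≤ φ * (2 ^ d * (A ψ₀ : ℝ)) := by
      rw [Finset.mul_sum]
      have hG : ∀ χ : {χ : IrrCharacter G // χ ∈ B},
          φ * (4 : ℝ) ^ blockHeight 2 B ((χ : IrrCharacter G) : G → ℂ) ≤
          ∑ k : (ZMod m)ˣ, ‖pcontrib 2 H bb d zH m k ((ψ₀ : IrrCharacter G) : G → ℂ)
            ((χ : IrrCharacter G) : G → ℂ)‖ ^ 2 := by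
        intro χ
        have := Cfsg.Agent.Lib.H22.KY.card_units_mul_pow_sq_le_sum_contrib hM H ξ₁ hb hdef zH hyc hyord
          hC ψ₀.2 h0 χ.2 m hm
        have e : (((2 : ℕ) : ℝ) ^ blockHeight 2 B ((χ : IrrCharacter G) : G → ℂ)) ^ 2 =
            (4 : ℝ) ^ blockHeight 2 B ((χ : IrrCharacter G) : G → ℂ) := by
          rw [← pow_mul, mul_comm, pow_mul]
          norm_num
        rw [e] at this
        exact this
      refine le_trans (Finset.sum_le_sum fun χ _ => hG χ) ?_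
      rw [Finset.sum_comm]
      have e2 : φ * (2 ^ d * (A ψ₀ : ℝ)) = ∑ k : (ZMod m)ˣ, ((2 : ℕ) : ℝ) ^ d *
          (pcontrib 2 H bb d zH m k ((ψ₀ : IrrCharacter G) : G → ℂ)
            ((ψ₀ : IrrCharacter G) : G → ℂ)).re := by
        rw [← Finset.mul_sum, hAre ψ₀]
        push_cast
        ring
      rw [e2]
      exact Finset.sum_le_sum fun k _ => fI ψ₀ k
    exact le_of_mul_le_mul_left e1 hφpos

end Cfsg.Agent.S4540
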