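import Cfsg.Statements.S4550
import Cfsg.Agent.S4664
import Cfsg.Agent.Lib.L0.PrincipalCrit
import Cfsg.Agent.Lib.L0.PRegCong
import Cfsg.Agent.Lib.H23.BlockVanish
import Cfsg.Agent.Lib.H23.BlockDefect

set_option autoImplicit false
open Cfsg

namespace Cfsg.Agent.S4550

open Cfsg.Agent.Lib.H23 Cfsg.Agent.Lib.H24 Cfsg.Agent.Lib.L0
  Cfsg.Agent.Lib.L0.PrincipalCrit Cfsg.Agent.S4664
open scoped ComplexConjugate

section
variable {G : Type*} [Group G] [Fintype G] {M : Ideal AlgInt}

/-- In a group of even order, every `2`-block contains an even number of characters of odd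
degree. -/
theorem even_card_odd_degree [Fintype (IrrCharacter G)] (hM : IsPModular 2 M)
    (hev : Even (Nat.card G)) (χ₀ : IrrCharacter G)
    [DecidablePred (· ∈ blockOf M (χ₀ : G → ℂ))] :
    Even ((Finset.univ.filter (· ∈ blockOf M (χ₀ : G → ℂ))).filter
      (fun χ : IrrCharacter G => Odd (charDegree (χ : G → ℂ)))).card := by
  classical
  haveI hPr := isPrime_of_isPModular hM
  haveI : Fact (Nat.Prime 2) := ⟨Nat.prime_two⟩
  obtain ⟨t, ht⟩ := exists_prime_orderOf_dvd_card' (G := G) 2 (even_iff_two_dvd.mp hev)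
  have htinv : t⁻¹ = t := by
    rw [inv_eq_iff_mul_eq_one, ← sq, ← ht]
    exact pow_orderOf_eq_one t
  have h0 := blockCoeff_eq_zero_of_dvd_orderOf hM χ₀ t (ht ▸ dvd_rfl)
  rw [blockCoeff_eq_sum] at h0
  have hG : (Nat.card G : ℂ)⁻¹ ≠ 0 := by
    apply inv_ne_zero
    exact_mod_cast (Nat.card_pos (α := G)).ne'
  have h1 : ∑ χ : IrrCharacter G, (if χ ∈ blockOf M (χ₀ : G → ℂ) then
      (χ : G → ℂ) 1 * conj ((χ : G → ℂ) t) else 0) = 0 := by
    rcases mul_eq_zero.mp h0 with h | h
    · exact absurd h hG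
    · exact h
  rw [← Finset.sum_filter] at h1
  set Bf := Finset.univ.filter (· ∈ blockOf M (χ₀ : G → ℂ)) with hBf
  -- as algebraic integers
  set c : IrrCharacter G → AlgInt := fun χ => ⟨(χ : G → ℂ) t, irr_isIntegral χ t⟩ with hc
  set d : IrrCharacter G → ℕ := fun χ => charDegree (χ : G → ℂ) with hd
  have h2 : ∑ χ ∈ Bf, (d χ : AlgInt) * c χ = 0 := by
    apply Subtype.ext
    have : ((∑ χ ∈ Bf, (d χ : AlgInt) * c χ : AlgInt) : ℂ) =
        ∑ χ ∈ Bf, (χ : G → ℂ) 1 * conj ((χ : G → ℂ) t) := by
      push_cast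
      refine Finset.sum_congr rfl fun χ _ => ?_
      rw [← irr_inv, htinv, apply_one_eq_charDegree _ χ.2]
    rw [this, h1]
    rfl
  have hcong : ∀ χ : IrrCharacter G, c χ - (d χ : AlgInt) ∈ M := by
    intro χ
    have hpp : IsPPart 2 t t :=
      ⟨1, mul_one t, Commute.one_right t, ⟨1, by rw [ht, pow_one]⟩,
        by rw [orderOf_one]; norm_num⟩
    have h := Cfsg.Agent.Lib.L0.PReg.char_ppart_congr hM (isCharacter_of_irr χ.2) hpp
    rw [inv_mul_cancel, apply_one_eq_charDegree _ χ.2] at h
    rw [← memLocalIdeal_coe_iff]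
    push_cast
    exact h
  have h3 : ((∑ χ ∈ Bf, d χ ^ 2 : ℕ) : AlgInt) ∈ M := by
    have : ((∑ χ ∈ Bf, d χ ^ 2 : ℕ) : AlgInt) =
        ∑ χ ∈ Bf, (d χ : AlgInt) * c χ - ∑ χ ∈ Bf, (d χ : AlgInt) * (c χ - (d χ : AlgInt)) := by
      rw [← Finset.sum_sub_distrib]
      push_cast
      refine Finset.sum_congr rfl fun χ _ => ?_
      ring
    rw [this, h2, zero_sub]
    refine M.neg_mem (M.sum_mem fun χ _ => M.mul_mem_left _ (hcong χ))
  rw [natCast_mem_iff hM] at h3
  have h4 : Even (∑ χ ∈ Bf, d χ ^ 2) := even_iff_two_dvd.mpr h3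
  rw [Finset.even_sum_iff_even_card_odd] at h4
  have : Bf.filter (fun χ => Odd (d χ ^ 2)) =
      Bf.filter (fun χ : IrrCharacter G => Odd (charDegree (χ : G → ℂ))) := by
    refine Finset.filter_congr fun χ _ => ?_
    rw [Nat.odd_pow_iff (by norm_num)]
  rw [this] at h4
  exact h4

theorem iterate_gc_apply (k : ℕ) (hk : k.Coprime (Nat.card G)) (n : ℕ) (χ : IrrCharacter G)
    (g : G) : (((gc k hk)^[n] χ : IrrCharacter G) : G → ℂ) g = (χ : G → ℂ) (g ^ (k ^ n)) := by
  induction n generalizing g with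
  | zero => simp
  | succ n ih =>
    rw [Function.iterate_succ_apply', gc_apply, ih, ← pow_mul, pow_succ, mul_comm]

end

/-- Let G be a finite group of even order and M a maximal ideal of the algebraic integers containing 2. Let k be a natural number with g ^ k = g ^ 3 for every 2-element g and g ^ k = g for every element g of odd order (such k exist); an irreducible character χ is unchanged by g ↦ g ^ k exactly when it is fixed by the field automorphism that cubes the 2-power roots of unity and fixes the roots of unity of odd order. Then the number of members χ of the principal 2-block of odd degree with χ (g ^ k) = χ g for all g is even. -/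
theorem result {G : Type*} [Group G] [Finite G] (M : Ideal Cfsg.AlgInt) (hM : Cfsg.IsPModular 2 M) (hev : Even (Nat.card G)) (k : ℕ) (hk₁ : ∀ g : G, (∃ j : ℕ, orderOf g = 2 ^ j) → g ^ k = g ^ 3) (hk₂ : ∀ g : G, Odd (orderOf g) → g ^ k = g) : Even (Nat.card {χ : Cfsg.IrrCharacter G // χ ∈ Cfsg.principalBlock M G ∧ Odd (Cfsg.charDegree (χ : G → ℂ)) ∧ ∀ g : G, (χ : G → ℂ) (g ^ k) = (χ : G → ℂ) g}) := by
  classical
  haveI := Fintype.ofFinite G
  haveI := Fintype.ofFinite (IrrCharacter G)
  haveI hPr := isPrime_of_isPModular hM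
  haveI : Fact (Nat.Prime 2) := ⟨Nat.prime_two⟩
  -- k is prime to |G|
  have hkcop : k.Coprime (Nat.card G) := by
    by_contra h
    obtain ⟨q, hq, hqk, hqn⟩ := Nat.Prime.not_coprime_iff_dvd.mp h
    haveI : Fact q.Prime := ⟨hq⟩
    obtain ⟨g, hg⟩ := exists_prime_orderOf_dvd_card' (G := G) q hqn
    have hgk : g ^ k = 1 := orderOf_dvd_iff_pow_eq_one.mp (hg ▸ hqk)
    have hg1 : g ≠ 1 := by
      intro h1
      rw [h1, orderOf_one] at hg
      exact hq.one_lt.ne hg
    rcases eq_or_ne q 2 with rfl | hq2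
    · have h3 := hk₁ g ⟨1, by rw [hg, pow_one]⟩
      have hg2 : g ^ 2 = 1 := by rw [← hg]; exact pow_orderOf_eq_one g
      have : g ^ 3 = g := by rw [pow_succ, hg2, one_mul]
      rw [hgk, this] at h3
      exact hg1 h3.symm
    · have hodd : Odd (orderOf g) := hg ▸ hq.odd_of_ne_two hq2
      have := hk₂ g hodd
      rw [hgk] at this
      exact hg1 this.symm
  set a := (Nat.card G).factorization 2 with ha
  -- the 2^a-th iterate of g ↦ g^k is the identity
  have hK : ∀ g : G, g ^ (k ^ (2 ^ a)) = g := by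
    intro g
    have hn0 : orderOf g ≠ 0 := (orderOf_pos g).ne'
    obtain ⟨s, m, hm, hn⟩ := Nat.exists_eq_two_pow_mul_odd hn0
    have hm0 : m ≠ 0 := fun h => by rw [h] at hm; exact absurd hm (by decide)
    have hcop : (2 ^ s).Coprime m := by
      apply Nat.Coprime.pow_left
      rw [Nat.coprime_two_left]
      exact hm
    -- modulo m
    have h1 : k ≡ 1 [MOD m] := by
      have hy : orderOf (g ^ 2 ^ s) = m := by
        rw [orderOf_pow' g (pow_ne_zero s (by norm_num)), hn,
          Nat.gcd_eq_right (Dvd.intro _ rfl),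
          Nat.mul_div_cancel_left _ (pow_pos (by norm_num) s)]
      have h := hk₂ (g ^ 2 ^ s) (hy ▸ hm)
      have h' : (g ^ 2 ^ s) ^ k = (g ^ 2 ^ s) ^ 1 := by rw [h, pow_one]
      rw [pow_eq_pow_iff_modEq, hy] at h'
      exact h'
    have h1' : k ^ (2 ^ a) ≡ 1 [MOD m] := by
      have := h1.pow (2 ^ a)
      rwa [one_pow] at this
    -- modulo 2^s
    have h2' : k ^ (2 ^ a) ≡ 1 [MOD 2 ^ s] := by
      rcases Nat.eq_zero_or_pos s with hs | hs
      · rw [hs, pow_zero]; exact Nat.modEq_one
      · have hsa : s ≤ a := by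
          have hdvd : 2 ^ s ∣ Nat.card G :=
            (Dvd.intro _ hn.symm).trans (orderOf_dvd_natCard g)
          exact (Nat.prime_two.pow_dvd_iff_le_factorization Nat.card_pos.ne').mp hdvd
        have hk2 : k.Coprime (2 ^ s) := by
          have : (2 ^ s) ∣ Nat.card G :=
            (Dvd.intro _ hn.symm).trans (orderOf_dvd_natCard g)
          exact Nat.Coprime.coprime_dvd_right this hkcop
        have he := Nat.ModEq.pow_totient hk2
        rw [Nat.totient_prime_pow Nat.prime_two hs] at he
        simp only [Nat.add_one_sub_one, mul_one] at he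
        have hsplit : 2 ^ a = 2 ^ (s - 1) * 2 ^ (a - (s - 1)) := by
          rw [← pow_add]; congr 1; omega
        rw [hsplit, pow_mul]
        have := he.pow (2 ^ (a - (s - 1)))
        rwa [one_pow] at this
    have h3 : k ^ (2 ^ a) ≡ 1 [MOD orderOf g] := by
      rw [hn]
      exact (Nat.modEq_and_modEq_iff_modEq_mul hcop).mp ⟨h2', h1'⟩
    have := (pow_eq_pow_iff_modEq (x := g)).mpr h3
    rwa [pow_one] at this
  -- the principal block is stable
  have hB0 : ∀ χ : IrrCharacter G, χ ∈ principalBlock M G →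
      gc k hkcop χ ∈ principalBlock M G := by
    intro χ hχ
    rw [mem_principalBlock_iff hM, charEval_regSum] at hχ ⊢
    have : ∑ x : G, (if 2 ∣ orderOf x then 0 else (gc k hkcop χ : G → ℂ) x) =
        ∑ x : G, (if 2 ∣ orderOf x then 0 else (χ : G → ℂ) x) := by
      refine Finset.sum_congr rfl fun x _ => ?_
      split_ifs with h
      · rfl
      · rw [gc_apply, hk₂ x (Nat.odd_iff.mpr (Nat.two_dvd_ne_zero.mp h))]
    rw [this]
    exact hχ
  have hdeg : ∀ χ : IrrCharacter G, charDegree (gc k hkcop χ : G → ℂ) =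
      charDegree (χ : G → ℂ) := by
    intro χ
    unfold charDegree
    rw [gc_apply, one_pow]
  -- the action on the odd-degree members of B₀
  let α := {χ : IrrCharacter G // χ ∈ principalBlock M G ∧ Odd (charDegree (χ : G → ℂ))}
  let f : Function.End α := fun x => ⟨gc k hkcop x.1, hB0 x.1 x.2.1, by rw [hdeg]; exact x.2.2⟩
  have hiter : ∀ (n : ℕ) (x : α), ((f^[n]) x).1 = (gc k hkcop)^[n] x.1 := by
    intro n
    induction n with
    | zero => intro x; rfl
    | succ n ih =>
      intro x
      rw [Function.iterate_succ_apply', Function.iterate_succ_apply', ← ih]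
  have hf : f ^ 2 ^ a = 1 := by
    funext x
    apply Subtype.ext
    show ((f^[2 ^ a]) x).1 = x.1
    rw [hiter]
    apply Subtype.ext
    funext g
    rw [iterate_gc_apply, hK]
  have hmod := Equiv.Perm.card_fixedPoints_modEq (p := 2) (n := a) hf
  have hα : Even (Fintype.card α) := by
    rw [Fintype.card_subtype]
    have h := even_card_odd_degree hM hev (trivIrr G)
    rw [Finset.filter_filter] at h
    exact h
  have hfixeven : Even (Fintype.card (Function.fixedPoints f)) := by
    rw [Nat.even_iff] at hα ⊢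
    rw [← hα]
    exact hmod.symm
  have hequiv : Function.fixedPoints f ≃ {χ : IrrCharacter G // χ ∈ principalBlock M G ∧
      Odd (charDegree (χ : G → ℂ)) ∧ ∀ g : G, (χ : G → ℂ) (g ^ k) = (χ : G → ℂ) g} := by
    refine (Equiv.subtypeEquivRight (q := fun x : α =>
      ∀ g : G, (x.1 : G → ℂ) (g ^ k) = (x.1 : G → ℂ) g) ?_).trans
      ((Equiv.subtypeSubtypeEquivSubtypeInter
        (fun χ : IrrCharacter G => χ ∈ principalBlock M G ∧ Odd (charDegree (χ : G → ℂ)))
        (fun χ : IrrCharacter G => ∀ g : G, (χ : G → ℂ) (g ^ k) = (χ : G → ℂ) g)).trans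
        (Equiv.subtypeEquivRight fun χ => and_assoc))
    intro x
    constructor
    · intro hx g
      have h1 : (f x).1 = x.1 := congrArg Subtype.val hx
      have := congrArg (fun θ : IrrCharacter G => (θ : G → ℂ) g) h1
      exact this
    · intro hx
      apply Subtype.ext
      apply Subtype.ext
      funext g
      exact hx g
  rw [← Nat.card_congr hequiv, Nat.card_eq_fintype_card]
  exact hfixeven

end Cfsg.Agent.S4550
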