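import Cfsg.Statements.S4551
import Cfsg.Agent.Lib.H21.AD.Defs
import Cfsg.Agent.Lib.H10.APPART2
import Cfsg.Agent.Lib.H6.APPART1
import Cfsg.Agent.Lib.H23.ADBR

set_option autoImplicit false
open Cfsg

namespace Cfsg.Agent.S4551

open Cfsg.Agent.Lib.H21.AD

theorem sSum_top {G : Type*} [Group G] (p : ℕ) (f : G → ℂ) :
    sSum p (⊤ : Subgroup G) f = ∑ᶠ x : G, if p ∣ orderOf x then 0 else f x := by
  classical
  unfold sSum
  refine finsum_congr (fun g => ?_)
  by_cases hg : p ∣ orderOf g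
  · rw [if_neg (fun h => h.2 hg), if_pos hg]
  · rw [if_pos ⟨Subgroup.mem_top g, hg⟩, if_neg hg]

/-- a Sylow `p`-subgroup lies in every normal subgroup of index prime to `p` -/
theorem sylow_le_normal {G : Type*} [Group G] [Finite G] (p : ℕ) [Fact p.Prime] (N : Subgroup G)
    [N.Normal] (hidx : ¬ p ∣ N.index) (P : Sylow p G) :
    (P : Subgroup G) ≤ N ∧ ¬ p ∣ (P : Subgroup G).relIndex N := by
  have h1 : N.relIndex (P : Subgroup G) ∣ N.index := Subgroup.relIndex_dvd_index_of_normal N _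
  have hPN : (P : Subgroup G) ≤ N := by
    rw [← Subgroup.relIndex_eq_one]
    obtain ⟨k, hk⟩ : ∃ k : ℕ, N.relIndex (P : Subgroup G) = p ^ k := by
      have hpg : IsPGroup p (P : Subgroup G) := P.isPGroup'
      have := hpg.index (N.subgroupOf (P : Subgroup G))
      exact this
    rcases Nat.eq_zero_or_pos k with hk0 | hk0
    · rw [hk, hk0, pow_zero]
    · exfalso
      apply hidx
      refine dvd_trans ?_ h1
      rw [hk]
      exact dvd_pow_self p hk0.ne'
  refine ⟨hPN, fun hd => P.not_dvd_index ?_⟩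
  rw [← Subgroup.relIndex_mul_index hPN]
  exact Dvd.dvd.mul_right hd _

/-- Let N be a normal subgroup of the finite group G of index prime to p, P a Sylow p-subgroup of G with G = N·C_G(P), and M a maximal ideal of the algebraic integers containing p. Then restriction to N is a bijection from the principal p-block of G onto the principal p-block of N: every member of the principal block of G restricts to a member of the principal block of N, and every member of the principal block of N is the restriction of exactly one member of the principal block of G. -/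
theorem result {G : Type*} [Group G] [Finite G] (p : ℕ) [Fact p.Prime] (M : Ideal Cfsg.AlgInt) (hM : Cfsg.IsPModular p M) (N : Subgroup G) [N.Normal] (hidx : ¬ p ∣ N.index) (P : Sylow p G) (hsup : N ⊔ Subgroup.centralizer ((P : Subgroup G) : Set G) = ⊤) : (∀ χ ∈ Cfsg.principalBlock M G, ∃ θ ∈ Cfsg.principalBlock M ↥N, ∀ n : N, (χ : G → ℂ) n = (θ : N → ℂ) n) ∧ ∀ θ ∈ Cfsg.principalBlock M ↥N, ∃! χ : Cfsg.IrrCharacter G, χ ∈ Cfsg.principalBlock M G ∧ ∀ n : N, (χ : G → ℂ) n = (θ : N → ℂ) n := by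
  classical
  have hpp : p.Prime := Fact.out
  obtain ⟨hQN, hQ⟩ := sylow_le_normal p N hidx P
  have hcov : ∀ g : G, ∃ n ∈ N, ∃ z ∈ Subgroup.centralizer (((P : Subgroup G) : Subgroup G) : Set G),
      g = n * z := by
    intro g
    have hg : g ∈ N ⊔ Subgroup.centralizer ((P : Subgroup G) : Set G) := by
      rw [hsup]; exact Subgroup.mem_top g
    obtain ⟨n, hn, c, hc, h⟩ := Subgroup.mem_sup_of_normal_left.1 hg
    exact ⟨n, hn, c, hc, h.symm⟩
  constructor
  · intro χ hχ
    have hχB : sSum p ⊤ (χ : G → ℂ) ≠ 0 := by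
      rw [Cfsg.Agent.Lib.H23.AD.br0 hM] at hχ
      rwa [sSum_top]
    obtain ⟨h1, h2⟩ := Cfsg.Agent.Lib.H6.AP.restrict_principal hM N (P : Subgroup G) hQN hQ hcov hidx
      (Cfsg.Agent.Lib.H10.AP.hpart2 hpp hM N (P : Subgroup G) hQN hQ hidx hcov)
      (χ : G → ℂ) χ.2 hχB
    exact ⟨⟨fun n : N => (χ : G → ℂ) n, h1⟩, (Cfsg.Agent.Lib.H23.AD.br hM N (χ : G → ℂ) h1).2 h2,
      fun n => rfl⟩
  · intro θ hθ
    -- `θ` as a function on `G`
    set θG : G → ℂ := fun g => if h : g ∈ N then (θ : N → ℂ) ⟨g, h⟩ else 0 with hθG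
    have hθGN : (fun n : N => θG n) = (θ : N → ℂ) := by
      funext n
      rw [hθG]
      simp only [dif_pos n.2]
    have hirr : IsIrrCharacter N (fun n : N => θG n) := by rw [hθGN]; exact θ.2
    have hB : sSum p N θG ≠ 0 := by
      rw [← Cfsg.Agent.Lib.H23.AD.br hM N θG hirr]
      have h : (⟨fun n : N => θG n, hirr⟩ : IrrCharacter N) = θ := Subtype.ext hθGN
      rw [h]; exact hθ
    obtain ⟨χ, ⟨hχ, hχB, hχN⟩, huniq⟩ := Cfsg.Agent.Lib.H10.AP.exists_unique_principal_ext hpp hM N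
      (P : Subgroup G) hQN hQ hidx hcov θG hirr hB
    have hval : ∀ n : N, θG n = (θ : N → ℂ) n := fun n => congrFun hθGN n
    refine ⟨⟨χ, hχ⟩, ⟨?_, fun n => (hχN n n.2).trans (hval n)⟩, ?_⟩
    · rw [Cfsg.Agent.Lib.H23.AD.br0 hM]
      rwa [sSum_top] at hχB
    · rintro χ' ⟨hχ'B, hχ'N⟩
      apply Subtype.ext
      refine huniq (χ' : G → ℂ) ⟨χ'.2, ?_, fun n hn => ?_⟩
      · rw [Cfsg.Agent.Lib.H23.AD.br0 hM] at hχ'B
        rwa [sSum_top]
      · rw [hχ'N ⟨n, hn⟩]; exact (hval ⟨n, hn⟩).symm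

end Cfsg.Agent.S4551
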