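import Cfsg.Statements.S4553
import Cfsg.Agent.Lib.L0.SigmaResidualC

set_option autoImplicit false
open Cfsg
open Cfsg.Agent.Lib.L0 Cfsg.Agent.Lib.L0.SigmaRes Cfsg.Agent.Lib.H23 Cfsg.Agent.Lib.H24

namespace Cfsg.Agent.S4553

/-- Let G be a finite group, p a prime, P a Sylow p-subgroup, N the p-residual of G (the subgroup generated by the elements of order prime to p, the smallest normal subgroup with G/N a p-group), and M a maximal ideal of the algebraic integers containing p; suppose G/N is cyclic and nontrivial. Let k be a natural number with g ^ k = g ^ (1 + p) for every p-element g and g ^ k = g for every element g of order prime to p (so that χ (g ^ k) is the image of χ g under the field automorphism that raises p-power roots of unity to the power 1 + p and fixes the roots of unity of order prime to p). Then the number of members χ of the principal block of G of degree prime to p with χ (g ^ k) = χ g for all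 g equals p times the number of members θ of the principal block of N of degree prime to p that are invariant under conjugation by P and satisfy θ (n ^ k) = θ n for all n. -/
theorem result {G : Type*} [Group G] [Finite G] (p : ℕ) [Fact p.Prime] (M : Ideal Cfsg.AlgInt) (hM : Cfsg.IsPModular p M) (P : Sylow p G) (N : Subgroup G) [hN : N.Normal] (hNres : N = Cfsg.pResidual p G) (hcyc : IsCyclic (G ⧸ N)) (hnt : N ≠ ⊤) (k : ℕ) (hk₁ : ∀ g : G, (∃ j : ℕ, orderOf g = p ^ j) → g ^ k = g ^ (1 + p)) (hk₂ : ∀ g : G, Nat.Coprime (orderOf g) p → g ^ k = g) : Nat.card {χ : Cfsg.IrrCharacter G // χ ∈ Cfsg.principalBlock M G ∧ ¬ p ∣ Cfsg.charDegree (χ : G → ℂ) ∧ ∀ g : G, (χ : G → ℂ) (g ^ k) = (χ : G → ℂ) g} = p * Nat.card {θ : Cfsg.IrrCharacter ↥N // θ ∈ Cfsg.principalBlock M ↥N ∧ ¬ p ∣ Cfsg.charDegree (θ : ↥N → ℂ) ∧ (∀ x ∈ (P : Subgroup G), ∀ n : ↥N, (θ : ↥N → ℂ) ⟨x * n * x⁻¹, hN.conj_mem n n.2 x⟩ = (θ : ↥N → ℂ) n) ∧ ∀ n : ↥N, (θ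 : ↥N → ℂ) (n ^ k) = (θ : ↥N → ℂ) n} := by
  classical
  have hp : Fact p.Prime := inferInstance
  have := Fintype.ofFinite G
  have := Fintype.ofFinite N
  haveI hPr := isPrime_of_isPModular hM
  obtain ⟨x, hxP, a, hS⟩ := sigmaHyp_of p P N hNres hcyc hnt k hk₁ hk₂
  have hidxa : N.index = p ^ a := by rw [Subgroup.index_eq_card]; exact hS.card
  have hidx : ∃ j : ℕ, N.index = p ^ j := ⟨a, hidxa⟩
  -- the restriction map
  have hr : ∀ χ : {χ : Cfsg.IrrCharacter G // χ ∈ Cfsg.principalBlock M G ∧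
      ¬ p ∣ Cfsg.charDegree (χ : G → ℂ) ∧ ∀ g : G, (χ : G → ℂ) (g ^ k) = (χ : G → ℂ) g},
      ∃ θ : {θ : Cfsg.IrrCharacter ↥N // θ ∈ Cfsg.principalBlock M ↥N ∧
        ¬ p ∣ Cfsg.charDegree (θ : ↥N → ℂ) ∧ (∀ x ∈ (P : Subgroup G), ∀ n : ↥N,
          (θ : ↥N → ℂ) ⟨x * n * x⁻¹, hN.conj_mem n n.2 x⟩ = (θ : ↥N → ℂ) n) ∧
        ∀ n : ↥N, (θ : ↥N → ℂ) (n ^ k) = (θ : ↥N → ℂ) n},
        ∀ n : N, (θ.1 : ↥N → ℂ) n = (χ.1 : G → ℂ) n := by
    rintro ⟨χ, hχB, hχd, hχσ⟩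
    have hirr : IsIrrCharacter N (fun n : N => (χ : G → ℂ) n) :=
      isIrrCharacter_restrict_of_index_pow N p hp.out a hidxa (χ : G → ℂ) χ.2 hχd
    have hcf := isClassFunction_of_isCharacter (isCharacter_of_irr χ.2)
    refine ⟨⟨⟨fun n : N => (χ : G → ℂ) n, hirr⟩, ?_, ?_, ?_, ?_⟩, fun n => rfl⟩
    · apply restrict_mem_principalBlock N hM χ hχB
      show classInner (fun n : N => (χ : G → ℂ) n) (fun n : N => (χ : G → ℂ) n) ≠ 0
      rw [irr_classInner_self hirr]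
      exact one_ne_zero
    · exact hχd
    · intro y _ n
      exact hcf n y
    · intro n
      show (χ : G → ℂ) ((n ^ k : N) : G) = (χ : G → ℂ) n
      rw [SubmonoidClass.coe_pow]
      exact hχσ n
  choose r hr using hr
  have := Fintype.ofFinite {θ : Cfsg.IrrCharacter ↥N // θ ∈ Cfsg.principalBlock M ↥N ∧
        ¬ p ∣ Cfsg.charDegree (θ : ↥N → ℂ) ∧ (∀ x ∈ (P : Subgroup G), ∀ n : ↥N,
          (θ : ↥N → ℂ) ⟨x * n * x⁻¹, hN.conj_mem n n.2 x⟩ = (θ : ↥N → ℂ) n) ∧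
        ∀ n : ↥N, (θ : ↥N → ℂ) (n ^ k) = (θ : ↥N → ℂ) n}
  rw [Nat.card_congr (Equiv.sigmaFiberEquiv r).symm, Nat.card_sigma]
  have hfib : ∀ θ : {θ : Cfsg.IrrCharacter ↥N // θ ∈ Cfsg.principalBlock M ↥N ∧
        ¬ p ∣ Cfsg.charDegree (θ : ↥N → ℂ) ∧ (∀ x ∈ (P : Subgroup G), ∀ n : ↥N,
          (θ : ↥N → ℂ) ⟨x * n * x⁻¹, hN.conj_mem n n.2 x⟩ = (θ : ↥N → ℂ) n) ∧
        ∀ n : ↥N, (θ : ↥N → ℂ) (n ^ k) = (θ : ↥N → ℂ) n},
      Nat.card {χ // r χ = θ} = p := by
    rintro ⟨θ, hθB, hθd, hθP, hθσ⟩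
    have hθcf := isClassFunction_of_isCharacter (isCharacter_of_irr θ.2)
    have hθinv := invariant_of_sylow_invariant p P N hNres (θ : ↥N → ℂ) hθcf hθP
    have hθ1 := apply_one_eq_charDegree (θ : ↥N → ℂ) θ.2
    refine Eq.trans (Nat.card_congr ?_)
      (card_sigma_fixed_extensions hS (θ : ↥N → ℂ) θ.2 hθinv _ hθ1 hθd hθσ)
    refine
      { toFun := fun χ => ⟨χ.1.1, fun n => ?_, χ.1.2.2.2⟩
        invFun := fun χ => ⟨⟨χ.1, ?_, ?_, χ.2.2⟩, ?_⟩
        left_inv := fun χ => Subtype.ext (Subtype.ext rfl)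
        right_inv := fun χ => Subtype.ext rfl }
    · have h1 := hr χ.1 n
      rw [χ.2] at h1
      exact h1.symm
    · apply mem_principalBlock_of_over N hM hidx χ.1 θ hθB
      have h1 : (fun n : N => (χ.1 : G → ℂ) n) = (θ : ↥N → ℂ) := funext χ.2.1
      rw [h1, irr_classInner_self θ.2]
      exact one_ne_zero
    · have h1 : Cfsg.charDegree (χ.1 : G → ℂ) = Cfsg.charDegree (θ : ↥N → ℂ) := by
        unfold Cfsg.charDegree
        have h2 : (χ.1 : G → ℂ) 1 = (θ : ↥N → ℂ) 1 := χ.2.1 1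
        rw [h2]
      rw [h1]
      exact hθd
    · apply Subtype.ext
      apply Subtype.ext
      funext n
      rw [hr]
      exact χ.2.1 n
  rw [Finset.sum_congr rfl (fun θ _ => hfib θ), Finset.sum_const, Finset.card_univ, smul_eq_mul,
    Nat.card_eq_fintype_card, mul_comm]

end Cfsg.Agent.S4553
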