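import Cfsg.Statements.S4560
import Cfsg.Agent.Lib.H23.PermIrrH

set_option autoImplicit false
open Cfsg

namespace Cfsg.Agent.S4560

open Cfsg.Agent.Lib.H23.PermIrr

/-- For n ≥ 7 the alternating group on n letters has an irreducible character that vanishes at some 2-element and is the restriction of an irreducible character of the symmetric group, and an irreducible character that vanishes at some element of order 3 and is the restriction of an irreducible character of the symmetric group. -/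
theorem result (n : ℕ) (hn : 7 ≤ n) : (∃ χ : Cfsg.IrrCharacter (alternatingGroup (Fin n)), (∃ x : alternatingGroup (Fin n), (∃ j : ℕ, orderOf x = 2 ^ j) ∧ (χ : alternatingGroup (Fin n) → ℂ) x = 0) ∧ ∃ ψ : Cfsg.IrrCharacter (Equiv.Perm (Fin n)), ∀ x : alternatingGroup (Fin n), (ψ : Equiv.Perm (Fin n) → ℂ) x = (χ : alternatingGroup (Fin n) → ℂ) x) ∧ (∃ χ : Cfsg.IrrCharacter (alternatingGroup (Fin n)), (∃ y : alternatingGroup (Fin n), orderOf y = 3 ∧ (χ : alternatingGroup (Fin n) → ℂ) y = 0) ∧ ∃ ψ : Cfsg.IrrCharacter (Equiv.Perm (Fin n)), ∀ x : alternatingGroup (Fin n), (ψ : Equiv.Perm (Fin n) → ℂ) x = (χ : alternatingGroup (Fin n) → ℂ) x) := by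
  have hn6 : 6 ≤ n := by omega
  refine ⟨?_, ?_⟩
  · -- a 2-element
    have key : ∃ g : Equiv.Perm (Fin n), ∃ hA : g ∈ alternatingGroup (Fin n),
        (∃ j : ℕ, orderOf g = 2 ^ j) ∧
        ((fixF (H := Equiv.Perm (Fin n)) (Ω := Fin n) g).card = 1 ∨
          (N2 (H := Equiv.Perm (Fin n)) (Ω := Fin n) g ∧
            ((fixF (H := Equiv.Perm (Fin n)) (Ω := Fin n) g).card = 0 ∨
             (fixF (H := Equiv.Perm (Fin n)) (Ω := Fin n) g).card = 2 ∨
             (fixF (H := Equiv.Perm (Fin n)) (Ω := Fin n) g).card = 3))) := by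
      rcases Nat.even_or_odd n with he | ho
      · obtain ⟨k, hk⟩ := he
        obtain ⟨g, hA, ho2, hN, hf⟩ := exists_two_elt_aux n (n / 4) (by omega) (by omega)
        refine ⟨g, hA, ho2, Or.inr ⟨hN, ?_⟩⟩
        omega
      · obtain ⟨k, hk⟩ := ho
        obtain ⟨g, hA, ho2, hf⟩ := exists_two_elt_odd n k (by omega) hk
        exact ⟨g, hA, ho2, Or.inl hf⟩
    obtain ⟨g, hA, ⟨j, hj⟩, hfix⟩ := key
    obtain ⟨χ, hχ0, ψ, hψ⟩ := exists_irr_vanishing n hn6 g hA hfix
    refine ⟨χ, ⟨⟨g, hA⟩, ⟨j, ?_⟩, hχ0⟩, ψ, hψ⟩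
    rw [Subgroup.orderOf_mk]
    exact hj
  · -- an element of order 3
    obtain ⟨g, hA, ho3, hN, hf⟩ := exists_three_elt_aux n (n / 3) (by omega) (by omega)
    have hfix : (fixF (H := Equiv.Perm (Fin n)) (Ω := Fin n) g).card = 1 ∨
          (N2 (H := Equiv.Perm (Fin n)) (Ω := Fin n) g ∧
            ((fixF (H := Equiv.Perm (Fin n)) (Ω := Fin n) g).card = 0 ∨
             (fixF (H := Equiv.Perm (Fin n)) (Ω := Fin n) g).card = 2 ∨
             (fixF (H := Equiv.Perm (Fin n)) (Ω := Fin n) g).card = 3)) := by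
      have h3 : n - 3 * (n / 3) = 0 ∨ n - 3 * (n / 3) = 1 ∨ n - 3 * (n / 3) = 2 := by omega
      rcases h3 with h | h | h
      · exact Or.inr ⟨hN, Or.inl (hf.trans h)⟩
      · exact Or.inl (hf.trans h)
      · exact Or.inr ⟨hN, Or.inr (Or.inl (hf.trans h))⟩
    obtain ⟨χ, hχ0, ψ, hψ⟩ := exists_irr_vanishing n hn6 g hA hfix
    refine ⟨χ, ⟨⟨g, hA⟩, ?_, hχ0⟩, ψ, hψ⟩
    rw [Subgroup.orderOf_mk]
    exact ho3

end Cfsg.Agent.S4560
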