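import Cfsg.Statements.S4563
import Cfsg.Agent.Lib.H23.FRSTail
import Cfsg.Agent.Lib.H23.FRSFR1
import Cfsg.Agent.Lib.H5.FRSGLUE
import Cfsg.Agent.Lib.H15.FRSAMB
import Cfsg.Agent.Lib.H1.FRSDIV
import Cfsg.Agent.Lib.H1.HallConverse

set_option autoImplicit false
set_option linter.style.haveILetI false
open Cfsg

namespace Cfsg.Agent.S4563

open Cfsg.Agent.Lib.H23.FRS

theorem result {H : Type*} [Group H] [Fintype H] (Z : Subgroup H) [Z.Normal] (χ : Cfsg.IrrCharacter H) (hfr : ∃ (θ : Cfsg.IrrCharacter ↥Z) (e : ℕ), e ^ 2 = Z.index ∧ ∀ z : ↥Z, (χ : H → ℂ) z = (e : ℂ) * (θ : ↥Z → ℂ) z) (K : Subgroup H) [K.Normal] [Fintype K] (hZK : Z ≤ K) (hK : K ≠ ⊤) (φ : ↥K → ℂ) (hφ : Cfsg.IsCharacter ↥K φ) (hind : Cfsg.indFun K φ = (χ : H → ℂ)) : Group.IsSolvable (H ⧸ K) ∧ (Group.IsSolvable ↥K → Group.IsSolvable H) := by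
  classical
  obtain ⟨θ, e, he, hχ⟩ := hfr
  have hsolv : Group.IsSolvable (H ⧸ K) := by
    apply Cfsg.Agent.Lib.H1.isSolvable_of_hasPComplements
    intro p hp
    haveI : Fact p.Prime := ⟨hp⟩
    obtain ⟨S⟩ := (inferInstance : Nonempty (Sylow p H))
    obtain ⟨W₀, hW₀⟩ : ∃ W₀ : Subgroup H, W₀ = ((S : Subgroup H) ⊓ K) ⊔ Z := ⟨_, rfl⟩
    obtain ⟨W₁, hW₁⟩ : ∃ W₁ : Subgroup H, W₁ = (S : Subgroup H) ⊔ Z := ⟨_, rfl⟩
    haveI : Fintype ↥Z := Fintype.ofFinite _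
    haveI : Fintype ↥W₀ := Fintype.ofFinite _
    haveI : Fintype ↥W₁ := Fintype.ofFinite _
    obtain ⟨hZW₀, hW, hW₀K, hnorm, hnormZ, hinf, m, hm⟩ := Cfsg.Agent.Lib.H5.FRS.sylow_glue Z K hZK p S W₀ W₁ hW₀ hW₁
    obtain ⟨ζ₁, c, a, hc, hpa, hζ₁, hχW⟩ := fr_sylow Z χ θ e he hχ p S W₁ hW₁
    obtain ⟨ζ₀, g, T', hover, hg, hT1, hT2, hTmem, hcard, htrans⟩ :=
      Cfsg.Agent.Lib.H15.FRS.exists_ramified_constituent Z W₀ W₁ hZW₀ hW hnorm hnormZ θ ζ₁ c hc hζ₁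
    have hTK : T' ⊓ K ≤ W₀ := by
      rw [← hinf]
      exact inf_le_inf_right K hT2
    have hfix : ∀ t ∈ T', ∀ (w : H) (hw : w ∈ W₀), ∃ hw' : t * w * t⁻¹ ∈ W₀,
        (ζ₀ : ↥W₀ → ℂ) ⟨t * w * t⁻¹, hw'⟩ = (ζ₀ : ↥W₀ → ℂ) ⟨w, hw⟩ := by
      intro t ht w hw
      have hw' : t * w * t⁻¹ ∈ W₀ := (Subgroup.mem_normalizer_iff.mp (hnorm (hT2 ht)) w).mp hw
      exact ⟨hw', ((hTmem t).mp ht).2 w hw hw'⟩
    obtain ⟨k, hk⟩ := Cfsg.Agent.Lib.H1.FRS.index_dvd_classInner_indFun K φ hφ W₀ hW₀K ζ₀ T' hT1 hTK hfix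
    -- `[χ_{W₀}, ζ₀] = a g`
    have hag : classInner (fun w : ↥W₀ => indFun K φ (w : H)) (ζ₀ : ↥W₀ → ℂ) = (a : ℂ) * (g : ℂ) := by
      rw [← hg, hind]
      have hfun : (fun w : ↥W₀ => (χ : H → ℂ) (w : H)) =
          fun w : ↥W₀ => (a : ℂ) * (ζ₁ : ↥W₁ → ℂ) ⟨(w : H), hW w.2⟩ :=
        funext fun w => hχW ⟨(w : H), hW w.2⟩
      rw [hfun]
      unfold classInner
      have h6 : ∀ w : ↥W₀, (a : ℂ) * (ζ₁ : ↥W₁ → ℂ) ⟨(w : H), hW w.2⟩ *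
          (starRingEnd ℂ) ((ζ₀ : ↥W₀ → ℂ) w) =
          (a : ℂ) * ((ζ₁ : ↥W₁ → ℂ) ⟨(w : H), hW w.2⟩ * (starRingEnd ℂ) ((ζ₀ : ↥W₀ → ℂ) w)) :=
        fun w => by ring
      simp only [h6]
      rw [← Finset.mul_sum]
      ring
    -- `|T' : W₀| = g²`
    have hrel : W₀.relIndex T' = g ^ 2 := by
      have h2 : Nat.card ↥W₀ * W₀.relIndex T' = Nat.card ↥T' := by
        have := Subgroup.relIndex_mul_relIndex (⊥ : Subgroup H) W₀ T' bot_le hT1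
        rwa [Subgroup.relIndex_bot_left, Subgroup.relIndex_bot_left] at this
      have hpos : 0 < Nat.card ↥W₀ := Nat.card_pos
      rw [← hcard, mul_comm] at h2
      exact Nat.eq_of_mul_eq_mul_right hpos h2
    have hg0 : g ≠ 0 := by
      rintro rfl
      have : 0 < Nat.card ↥T' := Nat.card_pos
      rw [← hcard] at this
      simp at this
    have hg1 : g = 1 := by
      rw [hk, hrel] at hag
      have h1 : k * g ^ 2 = a * g := by exact_mod_cast hag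
      have h2 : k * g = a := by
        have : (k * g) * g = a * g := by rw [← h1]; ring
        exact Nat.eq_of_mul_eq_mul_right (Nat.pos_of_ne_zero hg0) this
      -- `g` is a power of `p` and divides `a`, `p ∤ a`
      have h3 : g ^ 2 ∣ p ^ m := by
        rw [← hm, ← hrel]
        exact Dvd.intro _ (Subgroup.relIndex_mul_relIndex W₀ T' W₁ hT1 hT2)
      have h4 : g ∣ p ^ m := (dvd_pow_self g two_ne_zero).trans h3
      obtain ⟨j, -, hj⟩ := (Nat.dvd_prime_pow hp).mp h4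
      rcases j with _ | j
      · simpa using hj
      · exfalso
        apply hpa
        rw [← h2, hj, pow_succ]
        exact ⟨k * p ^ j, by ring⟩
    have hθ := fun (h : H) (z : ↥Z) => Cfsg.Agent.Lib.H24.fr_invariant (χ := χ) (θ := θ) he hχ h z
    exact tail Z K hZK p S W₀ W₁ hW₀ hW₁ hZW₀ hW hnorm θ hθ ζ₀ g hg1 T' hover hT1 hTmem hcard htrans
  refine ⟨hsolv, fun hKs => ?_⟩
  haveI := hKs
  haveI := hsolv
  exact Group.isSolvable_of_ker_le_range K.subtype (QuotientGroup.mk' K) (by simp)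

end Cfsg.Agent.S4563
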