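import Cfsg.Statements.S4564
import Cfsg.Agent.Lib.H23.FRSTail
import Cfsg.Agent.Lib.H23.FRSFR1
import Cfsg.Agent.Lib.H5.FRSGLUE
import Cfsg.Agent.Lib.H15.FRSAMB
import Cfsg.Agent.Lib.H4.FRSAMBCYC

set_option autoImplicit false
set_option linter.style.haveILetI false
open Cfsg

namespace Cfsg.Agent.S4564

open Cfsg.Agent.Lib.H23.FRS

theorem result {H : Type*} [Group H] [Finite H] (Z : Subgroup H) [Z.Normal] (χ : Cfsg.IrrCharacter H) (hfr : ∃ (θ : Cfsg.IrrCharacter ↥Z) (e : ℕ), e ^ 2 = Z.index ∧ ∀ z : ↥Z, (χ : H → ℂ) z = (e : ℂ) * (θ : ↥Z → ℂ) z) (K : Subgroup H) [K.Normal] (hZK : Z ≤ K) (p : ℕ) [Fact p.Prime] (P : Sylow p (H ⧸ K)) (hcyc : IsCyclic P) : ∃ M : Subgroup (H ⧸ K), M.IsComplement' (P : Subgroup (H ⧸ K)) := by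
  classical
  obtain ⟨θ, e, he, hχ⟩ := hfr
  haveI : Fintype H := Fintype.ofFinite H
  obtain ⟨S⟩ := (inferInstance : Nonempty (Sylow p H))
  obtain ⟨W₀, hW₀⟩ : ∃ W₀ : Subgroup H, W₀ = ((S : Subgroup H) ⊓ K) ⊔ Z := ⟨_, rfl⟩
  obtain ⟨W₁, hW₁⟩ : ∃ W₁ : Subgroup H, W₁ = (S : Subgroup H) ⊔ Z := ⟨_, rfl⟩
  haveI : Fintype ↥Z := Fintype.ofFinite _
  haveI : Fintype ↥W₀ := Fintype.ofFinite _
  haveI : Fintype ↥W₁ := Fintype.ofFinite _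
  obtain ⟨hZW₀, hW, hW₀K, hnorm, hnormZ, hinf, m, hm⟩ := Cfsg.Agent.Lib.H5.FRS.sylow_glue Z K hZK p S W₀ W₁ hW₀ hW₁
  obtain ⟨ζ₁, c, a, hc, hpa, hζ₁, hχW⟩ := fr_sylow Z χ θ e he hχ p S W₁ hW₁
  obtain ⟨ζ₀, g, T', hover, hg, hT1, hT2, hTmem, hcard, htrans⟩ :=
    Cfsg.Agent.Lib.H15.FRS.exists_ramified_constituent Z W₀ W₁ hZW₀ hW hnorm hnormZ θ ζ₁ c hc hζ₁
  obtain ⟨x, hx, hgen⟩ := Cfsg.Agent.Lib.H5.FRS.cyclic_glue Z K hZK p S W₀ W₁ hW₀ hW₁ P hcyc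
  have hg01 := Cfsg.Agent.Lib.H4.FRS.mult_le_one_of_cyclic_sub W₀ W₁ hW hnorm x hx hgen ζ₁ ζ₀
  have hg1 : g = 1 := by
    rcases hg01 with h0 | h1
    · exfalso
      rw [hg] at h0
      have h00 : g = 0 := by exact_mod_cast h0
      rw [h00] at hcard
      have : 0 < Nat.card ↥T' := Nat.card_pos
      omega
    · rw [hg] at h1
      exact_mod_cast h1
  have hθ := fun (h : H) (z : ↥Z) => Cfsg.Agent.Lib.H24.fr_invariant (χ := χ) (θ := θ) he hχ h z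
  obtain ⟨M, hM⟩ := tail Z K hZK p S W₀ W₁ hW₀ hW₁ hZW₀ hW hnorm θ hθ ζ₀ g hg1 T' hover hT1 hTmem hcard
    htrans
  refine ⟨M, ?_⟩
  have hp : p.Prime := Fact.out
  have hPcard : Nat.card ↥(P : Subgroup (H ⧸ K)) = p ^ (Nat.card (H ⧸ K)).factorization p :=
    P.card_eq_multiplicity
  have hnd : ¬ p ^ ((Nat.card (H ⧸ K)).factorization p + 1) ∣ Nat.card (H ⧸ K) :=
    Nat.pow_succ_factorization_not_dvd (Nat.card_pos (α := H ⧸ K)).ne' hp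
  obtain ⟨v, hv⟩ : ∃ v : ℕ, v = (Nat.card (H ⧸ K)).factorization p := ⟨_, rfl⟩
  rw [← hv] at hPcard hM hnd
  have hmul : Nat.card ↥M * Nat.card ↥(P : Subgroup (H ⧸ K)) = Nat.card (H ⧸ K) := by
    rw [hPcard, ← hM]
    exact M.card_mul_index
  apply Subgroup.isComplement'_of_coprime hmul
  rw [hPcard]
  apply Nat.Coprime.pow_right
  rw [Nat.coprime_comm, Nat.Prime.coprime_iff_not_dvd hp]
  rintro ⟨k, hk⟩
  apply hnd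
  refine ⟨k, ?_⟩
  rw [← hmul, hPcard, hk]
  ring

end Cfsg.Agent.S4564
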