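import Cfsg.Statements.S4566
import Cfsg.Agent.Lib.H23.CentralMul

set_option autoImplicit false
open Cfsg

namespace Cfsg.Agent.S4566

open Cfsg.Agent.Lib.H23 Cfsg.Agent.Lib.H24
open scoped ComplexConjugate

/-- Let N be a central subgroup of the finite group G, ψ a faithful irreducible (hence degree-one) character of N, and χ an irreducible character of G whose restriction to N contains ψ. If g ∈ G and some x ∈ G has commutator x⁻¹ g⁻¹ x g in N but different from 1, then χ g = 0. -/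
theorem result {G : Type*} [Group G] [Fintype G] (N : Subgroup G) [Fintype N] (hN : N ≤ Subgroup.center G) (ψ : Cfsg.IrrCharacter ↥N) (hfaith : ∀ n : ↥N, (ψ : ↥N → ℂ) n = (ψ : ↥N → ℂ) 1 → n = 1) (χ : Cfsg.IrrCharacter G) (hover : Cfsg.classInner (fun n : ↥N => (χ : G → ℂ) n) (ψ : ↥N → ℂ) ≠ 0) (g x : G) (hcomm : x⁻¹ * g⁻¹ * x * g ∈ N) (hne : x⁻¹ * g⁻¹ * x * g ≠ 1) : (χ : G → ℂ) g = 0 := by
  classical
  by_contra hg0
  set c : G := x⁻¹ * g⁻¹ * x * g with hc
  have hcZ : c ∈ Subgroup.center G := hN hcomm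
  have hχ1 : (χ : G → ℂ) 1 ≠ 0 := irr_one_ne_zero χ
  have hψ1 : (ψ : ↥N → ℂ) 1 ≠ 0 := irr_one_ne_zero ψ
  -- `x g x⁻¹ = g c`
  have hconj : x * g * x⁻¹ = g * c := by
    have h1 : c * x⁻¹ = x⁻¹ * c := ((Subgroup.mem_center_iff.mp hcZ) x⁻¹).symm
    have h2 : g * c = g * c * x * x⁻¹ := by group
    rw [h2, mul_assoc g c x, ← (Subgroup.mem_center_iff.mp hcZ) x, hc]
    group
  -- so `χ c = χ 1`
  have h1 : (χ : G → ℂ) (g * c) = (χ : G → ℂ) g := by
    rw [← hconj]; exact irr_conj χ g x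
  have h2 := irr_mul_center χ g hcZ
  rw [h1] at h2
  have hχc : (χ : G → ℂ) c = (χ : G → ℂ) 1 := by
    have : (χ : G → ℂ) g * ((χ : G → ℂ) 1 - (χ : G → ℂ) c) = 0 := by linear_combination h2
    rcases mul_eq_zero.mp this with h | h
    · exact absurd h hg0
    · exact (sub_eq_zero.mp h).symm
  -- translation invariance of `χ` on `N`
  have hχN : ∀ n : G, (χ : G → ℂ) (n * c) = (χ : G → ℂ) n := by
    intro n
    have h3 := irr_mul_center χ n hcZ
    rw [hχc, mul_comm] at h3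
    exact mul_left_cancel₀ hχ1 h3
  -- `ψ (n c') ψ 1 = ψ c' ψ n`
  set c' : ↥N := ⟨c, hcomm⟩ with hc'
  have hc'Z : c' ∈ Subgroup.center ↥N := by
    rw [Subgroup.mem_center_iff]
    intro n
    apply Subtype.ext
    exact (Subgroup.mem_center_iff.mp hcZ) (n : G)
  have hψN : ∀ n : ↥N, (ψ : ↥N → ℂ) (n * c') = (ψ : ↥N → ℂ) c' / (ψ : ↥N → ℂ) 1 * (ψ : ↥N → ℂ) n := by
    intro n
    have h3 := irr_mul_center ψ n hc'Z
    field_simp
    linear_combination h3
  -- reindex the inner product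
  unfold Cfsg.classInner at hover
  have hS : ∑ n : ↥N, (χ : G → ℂ) n * conj ((ψ : ↥N → ℂ) n) ≠ 0 := by
    intro h0
    apply hover
    rw [h0, mul_zero]
  have hre : ∑ n : ↥N, (χ : G → ℂ) n * conj ((ψ : ↥N → ℂ) n) =
      conj ((ψ : ↥N → ℂ) c' / (ψ : ↥N → ℂ) 1) *
        ∑ n : ↥N, (χ : G → ℂ) n * conj ((ψ : ↥N → ℂ) n) := by
    rw [Finset.mul_sum]
    have hF := (Equiv.sum_comp (Equiv.mulRight c')
      (fun n : ↥N => (χ : G → ℂ) n * conj ((ψ : ↥N → ℂ) n))).symm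
    rw [hF]
    refine Finset.sum_congr rfl (fun n _ => ?_)
    simp only [Equiv.coe_mulRight]
    rw [hψN n, map_mul]
    have : ((n * c' : ↥N) : G) = (n : G) * c := rfl
    rw [this, hχN]
    ring
  have hψc : conj ((ψ : ↥N → ℂ) c' / (ψ : ↥N → ℂ) 1) = 1 := by
    have : (1 - conj ((ψ : ↥N → ℂ) c' / (ψ : ↥N → ℂ) 1)) *
        ∑ n : ↥N, (χ : G → ℂ) n * conj ((ψ : ↥N → ℂ) n) = 0 := by
      linear_combination hre
    rcases mul_eq_zero.mp this with h | h
    · exact (sub_eq_zero.mp h).symm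
    · exact absurd h hS
  have hψc2 : (ψ : ↥N → ℂ) c' = (ψ : ↥N → ℂ) 1 := by
    have h4 := congrArg conj hψc
    rw [Complex.conj_conj, map_one] at h4
    rw [div_eq_one_iff_eq hψ1] at h4
    exact h4
  have hc1 := hfaith c' hψc2
  apply hne
  have := congrArg (Subtype.val) hc1
  exact this

end Cfsg.Agent.S4566
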