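import Cfsg.Statements.S4571
import Cfsg.Agent.Lib.H23.BlockRankQuot
import Cfsg.Agent.Lib.H23.PCPChar

set_option autoImplicit false
open Cfsg

namespace Cfsg.Agent.S4571

/-- Let Q be a normal p-subgroup of the finite group G with G = Q·C_G(Q), and M a maximal ideal of the algebraic integers containing p. Then the principal p-blocks of G and of G/Q have the same p-regular rank (the same number of irreducible Brauer characters). -/
theorem result {G : Type*} [Group G] [Finite G] (p : ℕ) [Fact p.Prime] (M : Ideal Cfsg.AlgInt) (hM : Cfsg.IsPModular p M) (Q : Subgroup G) [Q.Normal] (hQ : IsPGroup p Q) (hsup : Q ⊔ Subgroup.centralizer (Q : Set G) = ⊤) : Cfsg.blockRank p (Cfsg.principalBlock M G) = Cfsg.blockRank p (Cfsg.principalBlock M (G ⧸ Q)) := by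
  classical
  haveI : Fintype G := Fintype.ofFinite G
  haveI : Fintype Q := Fintype.ofFinite Q
  haveI hPr := Cfsg.Agent.Lib.H23.isPrime_of_isPModular hM
  have hp : p.Prime := Fact.out
  have hidx : ∃ k : ℕ, (Subgroup.centralizer (Q : Set G)).index = p ^ k := by
    have h1 := Subgroup.relIndex_sup_right Q (Subgroup.centralizer (Q : Set G))
    rw [hsup, Subgroup.relIndex_top_right] at h1
    obtain ⟨n, hn⟩ := IsPGroup.iff_card.1 hQ
    have h2 : (Subgroup.centralizer (Q : Set G)).relIndex Q ∣ p ^ n := by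
      rw [← hn]
      exact Subgroup.index_dvd_card _
    rw [← h1] at h2
    obtain ⟨k, -, hk⟩ := (Nat.dvd_prime_pow hp).1 h2
    exact ⟨k, hk⟩
  obtain ⟨k, hk⟩ := hidx
  have hcent : ∀ x : G, ¬ p ∣ orderOf x → x ∈ Subgroup.centralizer (Q : Set G) := by
    intro x hx
    rw [Subgroup.mem_centralizer_iff]
    exact Cfsg.Agent.Lib.H23.PCP.commute_of_pRegular Q hQ hsup hx
  set χ₀ : Cfsg.IrrCharacter G := ⟨fun _ => 1, Cfsg.Agent.Lib.H24.isIrrCharacter_one⟩ with hχ₀
  set χ₁ : Cfsg.IrrCharacter (G ⧸ Q) := ⟨fun _ => 1, Cfsg.Agent.Lib.H24.isIrrCharacter_one⟩ with hχ₁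
  have h1 := Cfsg.Agent.Lib.H23.RankQuot.blockRank_quotient Q hM hQ hcent χ₀
  have h2 : {θ : Cfsg.IrrCharacter (G ⧸ Q) | Cfsg.Agent.Lib.H24.inflIrr Q θ ∈
      Cfsg.blockOf M (χ₀ : G → ℂ)} = Cfsg.principalBlock M (G ⧸ Q) := by
    ext θ
    have := Cfsg.Agent.Lib.H23.sameBlock_infl_iff Q hM hQ hk χ₁ θ
    exact this.symm
  rw [h2] at h1
  exact h1

end Cfsg.Agent.S4571
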