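import Cfsg.Statements.S4574
import Cfsg.Agent.Lib.H23.ZerosCount
import Cfsg.Agent.Lib.H23.DegreeDvd

set_option autoImplicit false
open Cfsg

namespace Cfsg.Agent.S4574

open Module Cfsg.Agent.Lib.H23 Cfsg.Agent.Lib.L0

/-- The key identity: with `F g = ‖χ g‖² - 1`, the sums over the zero set, the maximal set and the
middle set add up to zero. -/
theorem key {G : Type*} [Group G] [Fintype G] {V : Type*} [AddCommGroup V] [Module ℂ V]
    [FiniteDimensional ℂ V] (ρ : Representation ℂ G V) [ρ.IsIrreducible]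
    (Z V0 : Finset G) (hZ : ∀ g, g ∈ Z ↔ ‖ρ.character g‖ = (finrank ℂ V : ℝ))
    (hV0 : ∀ g, g ∈ V0 ↔ ρ.character g = 0) :
    ((finrank ℂ V : ℝ) ^ 2 - 1) * (Z.card : ℝ) - (V0.card : ℝ) +
      (∑ g ∈ midFinset ρ, ‖ρ.character g‖ ^ 2 - ((midFinset ρ).card : ℝ)) = 0 := by
  classical
  have hnpos : 0 < finrank ℂ V := finrank_pos_of_isIrreducible ρ
  have hn : (0 : ℝ) < finrank ℂ V := by exact_mod_cast hnpos
  have htotal : ∑ g : G, (‖ρ.character g‖ ^ 2 - 1) = 0 := by
    rw [Finset.sum_sub_distrib, sum_normSq_char_eq_card]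
    simp [Nat.card_eq_fintype_card]
  have hV0eq : V0 = Finset.univ.filter (fun g => ρ.character g = 0) := by
    ext g; simp [hV0]
  have hZeq : Z = (Finset.univ.filter (fun g => ¬ ρ.character g = 0)).filter
      (fun g => ‖ρ.character g‖ = (finrank ℂ V : ℝ)) := by
    ext g
    simp only [hZ, Finset.mem_filter, Finset.mem_univ, true_and]
    constructor
    · intro h
      refine ⟨?_, h⟩
      intro h0
      rw [h0, norm_zero] at h
      exact hn.ne h
    · exact fun h => h.2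
  have hMeq : midFinset ρ = (Finset.univ.filter (fun g => ¬ ρ.character g = 0)).filter
      (fun g => ¬ ‖ρ.character g‖ = (finrank ℂ V : ℝ)) := by
    ext g
    simp [mem_midFinset]
  have h1 := Finset.sum_filter_add_sum_filter_not Finset.univ
    (fun g : G => ρ.character g = 0) (fun g => ‖ρ.character g‖ ^ 2 - 1)
  have h2 := Finset.sum_filter_add_sum_filter_not
    (Finset.univ.filter (fun g : G => ¬ ρ.character g = 0))
    (fun g : G => ‖ρ.character g‖ = (finrank ℂ V : ℝ)) (fun g => ‖ρ.character g‖ ^ 2 - 1)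
  rw [← hV0eq] at h1
  rw [← hZeq, ← hMeq] at h2
  have hsV0 : ∑ g ∈ V0, (‖ρ.character g‖ ^ 2 - 1) = -(V0.card : ℝ) := by
    rw [Finset.sum_congr rfl (g := fun _ => (-1 : ℝ))]
    · simp
    · intro g hg
      rw [(hV0 g).mp hg]; simp
  have hsZ : ∑ g ∈ Z, (‖ρ.character g‖ ^ 2 - 1) =
      ((finrank ℂ V : ℝ) ^ 2 - 1) * (Z.card : ℝ) := by
    rw [Finset.sum_congr rfl (g := fun _ => ((finrank ℂ V : ℝ) ^ 2 - 1))]
    · rw [Finset.sum_const, nsmul_eq_mul]; ring
    · intro g hg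
      rw [(hZ g).mp hg]
  have hsM : ∑ g ∈ midFinset ρ, (‖ρ.character g‖ ^ 2 - 1) =
      ∑ g ∈ midFinset ρ, ‖ρ.character g‖ ^ 2 - ((midFinset ρ).card : ℝ) := by
    rw [Finset.sum_sub_distrib]; simp
  rw [hsV0, ← h2, hsZ, hsM, htotal] at h1
  linarith

/-- Let χ be an irreducible character of the finite group G, of degree d, and let Z(χ) be the set of elements g with |χ g| = d (the centre of χ). Then χ vanishes on at least (d ^ 2 - 1) · |Z(χ)| elements of G, with equality when every value |χ g| is 0, 1 or d. -/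
theorem result {G : Type*} [Group G] [Fintype G] [DecidableEq G] (χ : G → ℂ) (hχ : Cfsg.IsIrrCharacter G χ) : (Cfsg.charDegree χ ^ 2 - 1) * (Finset.univ.filter (fun g : G => ‖χ g‖ = (Cfsg.charDegree χ : ℝ))).card ≤ (Finset.univ.filter (fun g : G => χ g = 0)).card ∧ ((∀ g : G, ‖χ g‖ = 0 ∨ ‖χ g‖ = 1 ∨ ‖χ g‖ = (Cfsg.charDegree χ : ℝ)) → (Cfsg.charDegree χ ^ 2 - 1) * (Finset.univ.filter (fun g : G => ‖χ g‖ = (Cfsg.charDegree χ : ℝ))).card = (Finset.univ.filter (fun g : G => χ g = 0)).card) := by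
  obtain ⟨n, ρ, hirr, rfl⟩ := hχ
  have : ρ.IsIrreducible := hirr
  have hd : Cfsg.charDegree ρ.character = finrank ℂ (Fin n → ℂ) :=
    charDegree_eq_of_apply_one (Representation.char_one ρ)
  rw [hd]
  set Z := Finset.univ.filter (fun g : G => ‖ρ.character g‖ = ((finrank ℂ (Fin n → ℂ) : ℕ) : ℝ))
    with hZdef
  set V0 := Finset.univ.filter (fun g : G => ρ.character g = 0) with hV0def
  have hk := key ρ Z V0 (by intro g; simp [hZdef]) (by intro g; simp [hV0def])
  have hnpos : 0 < finrank ℂ (Fin n → ℂ) := finrank_pos_of_isIrreducible ρ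
  have hsq : 1 ≤ finrank ℂ (Fin n → ℂ) ^ 2 := Nat.one_le_pow _ _ hnpos
  have hcast : (((finrank ℂ (Fin n → ℂ) ^ 2 - 1 : ℕ) * Z.card : ℕ) : ℝ) =
      ((finrank ℂ (Fin n → ℂ) : ℝ) ^ 2 - 1) * (Z.card : ℝ) := by
    rw [Nat.cast_mul, Nat.cast_sub hsq]; push_cast; ring
  have hmid := card_midFinset_le ρ
  constructor
  · have : (((finrank ℂ (Fin n → ℂ) ^ 2 - 1 : ℕ) * Z.card : ℕ) : ℝ) ≤ (V0.card : ℝ) := by
      rw [hcast]; linarith
    exact_mod_cast this
  · intro hall
    have hmid_eq : ∑ g ∈ midFinset ρ, ‖ρ.character g‖ ^ 2 = ((midFinset ρ).card : ℝ) := by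
      rw [Finset.sum_congr rfl (g := fun _ => (1 : ℝ))]
      · simp
      · intro g hg
        rw [mem_midFinset] at hg
        rcases hall g with h | h | h
        · exact absurd (norm_eq_zero.mp h) hg.1
        · rw [h]; norm_num
        · exact absurd h hg.2
    have : (((finrank ℂ (Fin n → ℂ) ^ 2 - 1 : ℕ) * Z.card : ℕ) : ℝ) = (V0.card : ℝ) := by
      rw [hcast]; linarith
    exact_mod_cast this

end Cfsg.Agent.S4574
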