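import Cfsg.Statements.S4575
import Cfsg.Agent.Lib.H9.KXFIN
import Cfsg.Agent.Lib.H9.KXAINT
import Cfsg.Agent.Lib.H23.ContribT

set_option autoImplicit false
open Cfsg

namespace Cfsg.Agent.S4575

open Cfsg.Agent.Lib.H23

/-- Let B be a 2-block of the finite group G (relative to a maximal ideal M of the algebraic integers containing 2) of defect d with defect group D. Let z be an element of D commuting with every element of D, and let b be a block of the centralizer of z with defect group D that induces B (a major subsection (z, b)). If the number of irreducible characters in B exceeds the 2-regular rank of b by at most three, then B contains at most 2 ^ d irreducible characters. -/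
theorem result {G : Type*} [Group G] [Finite G] (M : Ideal Cfsg.AlgInt) (hM : Cfsg.IsPModular 2 M) (B : Set (Cfsg.IrrCharacter G)) (hB : Cfsg.IsPBlock M B) (D : Subgroup G) (hD : Cfsg.IsDefectGroup 2 M B D) (z : G) (hzD : z ∈ D) (hzc : ∀ d ∈ D, d * z = z * d) (b : Set (Cfsg.IrrCharacter ↥(Subgroup.centralizer ({z} : Set G)))) (hb : Cfsg.IsInducedBlock M (Subgroup.centralizer ({z} : Set G)) b B) (hbD : Cfsg.IsDefectGroup 2 M b (D.subgroupOf (Subgroup.centralizer ({z} : Set G)))) (h : Nat.card B ≤ Cfsg.blockRank 2 b + 3) : Nat.card B ≤ 2 ^ Cfsg.blockDefect 2 B := by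
  classical
  haveI := Fintype.ofFinite G
  haveI := Fintype.ofFinite (IrrCharacter G)
  have : Fact (Nat.Prime 2) := ⟨Nat.prime_two⟩
  have hp : (2 : ℕ).Prime := Nat.prime_two
  set H : Subgroup G := Subgroup.centralizer ({z} : Set G) with hH
  haveI : Fintype H := Fintype.ofFinite H
  haveI : Fintype (IrrCharacter H) := Fintype.ofFinite _
  obtain ⟨ξ₁, hξ₁⟩ := hb.1
  subst hξ₁
  obtain ⟨χ₁, hχ₁⟩ := hb.2.1
  -- `D ≤ H`
  have hDH : D ≤ H := by
    intro x hx
    rw [hH, Subgroup.mem_centralizer_singleton_iff]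
    exact hzc x hx
  -- the defects agree
  have hdef : blockDefect 2 (blockOf M (ξ₁ : H → ℂ)) = blockDefect 2 B := by
    have h1 : Nat.card D = 2 ^ blockDefect 2 B := by
      have := card_defectGroup hM χ₁ D (hχ₁ ▸ hD)
      rw [← hχ₁] at this
      exact this
    have h2 := card_defectGroup hM ξ₁ (D.subgroupOf H) hbD
    have h3 : Nat.card (D.subgroupOf H) = Nat.card D :=
      Nat.card_congr (Subgroup.subgroupOfEquivOfLe hDH).toEquiv
    exact Nat.pow_right_injective hp.two_le (h2.symm.trans (h3.trans h1))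
  -- the central element
  have hzH : z ∈ H := Subgroup.mem_centralizer_singleton_iff.2 rfl
  set zH : H := ⟨z, hzH⟩ with hzHdef
  have hyc : zH ∈ Subgroup.center H := by
    rw [Subgroup.mem_center_iff]
    intro g
    apply Subtype.ext
    simp only [Subgroup.coe_mul, hzHdef]
    exact Subgroup.mem_centralizer_singleton_iff.1 g.2
  have hzord : ∃ k : ℕ, orderOf z = 2 ^ k := by
    obtain ⟨k, hk⟩ := (isPGroup_of_isDefectGroup hD) ⟨z, hzD⟩
    have h1 : z ^ 2 ^ k = 1 := by
      have := congrArg Subtype.val hk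
      simpa using this
    obtain ⟨k', -, hk'⟩ := (Nat.dvd_prime_pow hp).1 (orderOf_dvd_of_pow_eq_one h1)
    exact ⟨k', hk'⟩
  have hyord : ∃ k : ℕ, orderOf zH = 2 ^ k := by
    obtain ⟨k, hk⟩ := hzord
    exact ⟨k, by rw [← hk, ← Subgroup.orderOf_coe]⟩
  have hC : ∀ g : G, g * (zH : G) * g⁻¹ = (zH : G) → g ∈ H := by
    intro g hg
    have h1 : g * z * g⁻¹ = z := hg
    have h2 : g * z = z * g := mul_inv_eq_iff_eq_mul.1 h1
    exact Subgroup.mem_centralizer_singleton_iff.2 h2
  set m := Nat.card G with hm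
  haveI : NeZero m := ⟨Nat.card_pos.ne'⟩
  -- the per-character integers (AINT)
  have hAINT : ∀ χ : IrrCharacter G, χ ∈ B → ∃ A : ℤ,
      (∑ k : (ZMod m)ˣ, (2 : ℂ) ^ blockDefect 2 B *
        Contrib.contrib 2 H (blockOf M (ξ₁ : H → ℂ)) (zH ^ (k : ZMod m).val) (χ : G → ℂ) (χ : G → ℂ) =
          (Fintype.card (ZMod m)ˣ : ℂ) * (A : ℂ)) ∧
      (blockHeight 2 B (χ : G → ℂ) = 0 → Odd A) ∧
      (1 ≤ blockHeight 2 B (χ : G → ℂ) → (2 : ℤ) ^ (blockHeight 2 B (χ : G → ℂ) + 1) ∣ A) :=
    fun χ hχ => Cfsg.Agent.Lib.H9.KX.exists_int_diag hM H ξ₁ hb hdef zH hyc hyord hχ m hm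
  choose! A hA1 hA2 hA3 using hAINT
  exact Cfsg.Agent.Lib.H9.KX.card_le_two_pow_of_aint hM H ξ₁ hb hdef zH hyc hyord hC m hm A
    hA1 hA2 hA3 h

end Cfsg.Agent.S4575
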