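import Cfsg.Statements.S4580
import Cfsg.Agent.S4517
import Cfsg.Agent.Lib.H23.ExtDet
import Cfsg.Agent.Lib.H23.BlockGalois
import Cfsg.Agent.Lib.H23.BlockDefect
import Cfsg.Agent.Lib.L0.BlockMinMax

set_option autoImplicit false
open Cfsg

namespace Cfsg.Agent.S4580

open Cfsg.Agent.Lib.H23 Cfsg.Agent.Lib.H24 Cfsg.Agent.Lib.L0 Cfsg.Agent.Lib.L0.SigmaBlock2
  Cfsg.Agent.Lib.L0.PrincipalCrit Cfsg.Agent.S4664 Cfsg.Agent.Lib.L0.BlockMinMax
open scoped ComplexConjugate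

/-- If `x ^ (2 ^ a) - 1` lies in the local ideal above `2`, so does `x - 1`. -/
theorem sub_one_memLocalIdeal_of_two_pow {M : Ideal AlgInt} (hM : IsPModular 2 M) {x : ℂ}
    (hx : MemLocalRing M x) :
    ∀ a : ℕ, MemLocalIdeal M (x ^ (2 ^ a) - 1) → MemLocalIdeal M (x - 1) := by
  haveI hPr := isPrime_of_isPModular hM
  intro a
  induction a with
  | zero =>
    intro h
    simpa using h
  | succ a ih =>
    intro h
    apply ih
    have hy : MemLocalRing M (x ^ (2 ^ a)) := memLocalRing_pow hx _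
    have h2 : MemLocalIdeal M ((x ^ (2 ^ a)) ^ 2 - 1) := by
      rw [← pow_mul, ← pow_succ]; exact h
    have hy1 : MemLocalRing M (x ^ (2 ^ a) - 1) := memLocalRing_sub hy (memLocalRing_one hPr.ne_top)
    have h3 : MemLocalIdeal M ((x ^ (2 ^ a) - 1) ^ 2) := by
      have e : (x ^ (2 ^ a) - 1) ^ 2 = ((x ^ (2 ^ a)) ^ 2 - 1) - ((2 : ℕ) : ℂ) * (x ^ (2 ^ a) - 1) := by
        push_cast; ring
      rw [e]
      exact memLocalIdeal_sub h2 (memLocalIdeal_mul_right (memLocalIdeal_p hM) hy1)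
    exact memLocalIdeal_of_pow hy1 h3

/-- Let N be a normal subgroup of the finite group G, M a maximal ideal of the algebraic integers containing 2, and θ a real-valued irreducible character of N of odd degree that extends to G (some irreducible character of G restricts to θ). Then θ has an extension to G lying in the principal 2-block of G. -/
theorem result {G : Type*} [Group G] [Finite G] (N : Subgroup G) [N.Normal] (M : Ideal Cfsg.AlgInt) (hM : Cfsg.IsPModular 2 M) (θ : Cfsg.IrrCharacter N) (hreal : ∀ n : N, ((θ : N → ℂ) n).im = 0) (hodd : Odd (Cfsg.charDegree (θ : N → ℂ))) (hext : ∃ η : Cfsg.IrrCharacter G, ∀ n : N, (η : G → ℂ) n = (θ : N → ℂ) n) :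
    ∃ η : Cfsg.IrrCharacter G, (∀ n : N, (η : G → ℂ) n = (θ : N → ℂ) n) ∧ η ∈ Cfsg.principalBlock M G := by
  classical
  haveI := Fintype.ofFinite G
  haveI hPr := isPrime_of_isPModular hM
  haveI : Fact (Nat.Prime 2) := ⟨Nat.prime_two⟩
  obtain ⟨η₀, hη₀⟩ := hext
  have hGpos : 0 < Nat.card G := Nat.card_pos
  set k := Nat.card G - 1 with hk
  have hkcop : k.Coprime (Nat.card G) := by
    have : Nat.card G = k + 1 := by omega
    rw [this]
    simp
  have hpow : ∀ g : G, g ^ k = g⁻¹ := by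
    intro g
    rw [eq_inv_iff_mul_eq_one, ← pow_succ]
    have : k + 1 = Nat.card G := by omega
    rw [this]
    exact pow_card_eq_one'
  have hres : (fun n : N => (η₀ : G → ℂ) n) = (θ : N → ℂ) := funext hη₀
  have hηN : IsIrrCharacter N (fun n : N => (η₀ : G → ℂ) n) := by rw [hres]; exact θ.2
  have hres1 : ∀ n : N, (gc k hkcop η₀ : G → ℂ) n = (η₀ : G → ℂ) n := by
    intro n
    rw [gc_apply, hpow, hη₀ n]
    have e : ((n : G))⁻¹ = ((n⁻¹ : N) : G) := rfl
    rw [e, hη₀, irr_inv θ]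
    exact Complex.conj_eq_iff_im.mpr (hreal n)
  obtain ⟨β, hβN, hβ⟩ := exists_hom_of_restrict_eq N η₀.2 (gc k hkcop η₀).2 hηN hres1
  -- |G| = 2^a * m
  set a := (Nat.card G).factorization 2 with ha
  set m := Nat.card G / 2 ^ a with hm
  have hGam : 2 ^ a * m = Nat.card G := Nat.ordProj_mul_ordCompl_eq_self (Nat.card G) 2
  have hmodd : Odd m := by
    rw [← Nat.not_even_iff_odd, even_iff_two_dvd]
    exact Nat.not_dvd_ordCompl Nat.prime_two hGpos.ne'
  obtain ⟨s, hs⟩ : ∃ s, m + 1 = 2 * s := by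
    obtain ⟨t, ht⟩ := hmodd
    exact ⟨t + 1, by omega⟩
  -- the twisted extension
  set η : IrrCharacter G := ⟨fun g => (η₀ : G → ℂ) g * ((β ^ s) g : ℂ),
    isIrrCharacter_mul_hom _ η₀.2 (β ^ s)⟩ with hηdef
  have hηapp : ∀ g : G, (η : G → ℂ) g = (η₀ : G → ℂ) g * ((β g : ℂ)) ^ s := by
    intro g
    show (η₀ : G → ℂ) g * ((β ^ s) g : ℂ) = _
    rw [MonoidHom.pow_apply, Units.val_pow_eq_pow_val]
  have hηN' : ∀ n : N, (η : G → ℂ) n = (θ : N → ℂ) n := by
    intro n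
    rw [hηapp, hβN n, hη₀ n]
    simp
  refine ⟨η, hηN', ?_⟩
  -- values of β
  have hβinv : ∀ g : G, ((β g⁻¹ : ℂˣ) : ℂ) = ((β g : ℂˣ) : ℂ)⁻¹ := by
    intro g
    rw [map_inv, Units.val_inv_eq_inv_val]
  have hβne : ∀ g : G, ((β g : ℂˣ) : ℂ) ≠ 0 := fun g => (β g).ne_zero
  have hβcard : ∀ g : G, ((β g : ℂˣ) : ℂ) ^ Nat.card G = 1 := by
    intro g
    rw [← Units.val_pow_eq_pow_val, ← map_pow, pow_card_eq_one', map_one, Units.val_one]
  -- conj η = η * ν with ν = β^{-m}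
  have hconj : ∀ g : G, (gc k hkcop η : G → ℂ) g = (η : G → ℂ) g * (((β g : ℂˣ) : ℂ)⁻¹) ^ m := by
    intro g
    rw [gc_apply, hpow, hηapp, hηapp]
    have h1 : (η₀ : G → ℂ) g⁻¹ = (η₀ : G → ℂ) g * ((β g : ℂˣ) : ℂ) := by
      have := congrFun hβ g
      rw [gc_apply, hpow] at this
      rw [this, Pi.mul_apply, homToFun_apply]
    rw [h1, hβinv]
    have hb := hβne g
    have h2 : ((β g : ℂˣ) : ℂ) * (((β g : ℂˣ) : ℂ)⁻¹) ^ s =
        ((β g : ℂˣ) : ℂ) ^ s * (((β g : ℂˣ) : ℂ)⁻¹) ^ m := by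
      have h3 : ((β g : ℂˣ) : ℂ) ^ (m + 1) * (((β g : ℂˣ) : ℂ)⁻¹) ^ m = ((β g : ℂˣ) : ℂ) := by
        rw [pow_succ, mul_assoc, mul_comm ((β g : ℂˣ) : ℂ), ← mul_assoc, ← mul_pow,
          mul_inv_cancel₀ hb, one_pow, one_mul]
      have h4 : ((β g : ℂˣ) : ℂ) ^ s * (((β g : ℂˣ) : ℂ)⁻¹) ^ s = 1 := by
        rw [← mul_pow, mul_inv_cancel₀ hb, one_pow]
      calc ((β g : ℂˣ) : ℂ) * (((β g : ℂˣ) : ℂ)⁻¹) ^ s
          = (((β g : ℂˣ) : ℂ) ^ (m + 1) * (((β g : ℂˣ) : ℂ)⁻¹) ^ m) * (((β g : ℂˣ) : ℂ)⁻¹) ^ s := by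
            rw [h3]
        _ = ((β g : ℂˣ) : ℂ) ^ s * (((β g : ℂˣ) : ℂ)⁻¹) ^ m *
              (((β g : ℂˣ) : ℂ) ^ s * (((β g : ℂˣ) : ℂ)⁻¹) ^ s) := by
            rw [hs, two_mul, pow_add]; ring
        _ = _ := by rw [h4, mul_one]
    rw [mul_assoc, h2, mul_assoc]
  -- ν(g) - 1 in the local ideal
  have hν : ∀ g : G, MemLocalIdeal M ((((β g : ℂˣ) : ℂ)⁻¹) ^ m - 1) := by
    intro g
    have hint : IsIntegral ℤ ((((β g : ℂˣ) : ℂ)⁻¹) ^ m) := by
      refine ⟨Polynomial.X ^ (2 ^ a) - 1, Polynomial.monic_X_pow_sub_C 1 (by positivity), ?_⟩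
      simp only [Polynomial.eval₂_sub, Polynomial.eval₂_pow, Polynomial.eval₂_X,
        Polynomial.eval₂_one]
      rw [← pow_mul, mul_comm, hGam, inv_pow, hβcard, inv_one, sub_self]
    have hloc : MemLocalRing M ((((β g : ℂˣ) : ℂ)⁻¹) ^ m) := memLocalRing_coe hPr.ne_top ⟨_, hint⟩
    apply sub_one_memLocalIdeal_of_two_pow hM hloc a
    rw [← pow_mul, mul_comm, hGam, inv_pow, hβcard, inv_one, sub_self]
    exact memLocalIdeal_zero hPr.ne_top
  -- conj η in the block of η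
  have hη1 : (η : G → ℂ) 1 ≠ 0 := Cfsg.Agent.Lib.H24.irr_one_ne_zero η
  have hsame : gc k hkcop η ∈ blockOf M (η : G → ℂ) := by
    intro g
    have e1 : centralChar (η : G → ℂ) g - centralChar (gc k hkcop η : G → ℂ) g =
        - (centralChar (η : G → ℂ) g * ((((β g : ℂˣ) : ℂ)⁻¹) ^ m - 1)) := by
      unfold centralChar
      rw [hconj g, hconj 1]
      have : ((β 1 : ℂˣ) : ℂ) = 1 := by rw [map_one, Units.val_one]
      rw [this, inv_one, one_pow, mul_one]
      field_simp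
      ring
    rw [e1]
    exact memLocalIdeal_neg (memLocalIdeal_mul_left (coe_mem_localRing (omegaInt η g)) (hν g))
  -- stability
  have hstab : ∀ ψ ∈ blockOf M (η : G → ℂ), ∃ ψ' ∈ blockOf M (η : G → ℂ),
      ∀ g : G, (ψ' : G → ℂ) g = (ψ : G → ℂ) (g ^ k) := by
    intro ψ hψ
    refine ⟨gc k hkcop ψ, ?_, fun g => gc_apply k hkcop ψ g⟩
    refine sameBlock_trans hsame ?_
    intro g
    have h1 := hψ (g ^ k)
    have hcop : k.Coprime (orderOf g) :=
      Nat.Coprime.coprime_dvd_right (orderOf_dvd_natCard g) hkcop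
    have e1 : centralChar (gc k hkcop η : G → ℂ) g = centralChar (η : G → ℂ) (g ^ k) := by
      unfold centralChar
      rw [centralizer_pow_of_coprime g hcop, gc_apply, gc_apply, one_pow]
    have e2 : centralChar (gc k hkcop ψ : G → ℂ) g = centralChar (ψ : G → ℂ) (g ^ k) := by
      unfold centralChar
      rw [centralizer_pow_of_coprime g hcop, gc_apply, gc_apply, one_pow]
    rw [e1, e2]
    exact h1
  -- full defect
  have hdef : blockDefect 2 (blockOf M (η : G → ℂ)) = (Nat.card G).factorization 2 := by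
    have h1 : minDeg 2 (blockOf M (η : G → ℂ)) ≤ (charDegree (η : G → ℂ)).factorization 2 :=
      minDeg_le η (mem_blockOf_self η)
    have h2 : charDegree (η : G → ℂ) = charDegree (θ : N → ℂ) := by
      unfold charDegree
      have := hηN' 1
      rw [show ((1 : N) : G) = 1 from rfl] at this
      rw [this]
    have h3 : (charDegree (θ : N → ℂ)).factorization 2 = 0 := by
      apply Nat.factorization_eq_zero_of_not_dvd
      exact fun h => (Nat.not_even_iff_odd.mpr hodd) (even_iff_two_dvd.mpr h)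
    rw [h2, h3] at h1
    rw [blockDefect]
    have : sInf ((fun χ : IrrCharacter G => (charDegree (χ : G → ℂ)).factorization 2) ''
        blockOf M (η : G → ℂ)) = 0 := Nat.le_zero.mp h1
    rw [this, Nat.sub_zero]
  have hfin := Cfsg.Agent.S4517.result M hM k hkcop (fun g _ => hpow g) (blockOf M (η : G → ℂ))
    ⟨η, rfl⟩ hdef hstab
  rw [← hfin]
  exact mem_blockOf_self η

end Cfsg.Agent.S4580
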