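import Cfsg.Statements.S4582
import Cfsg.Agent.Lib.H22.TransferMod

set_option autoImplicit false
open Cfsg

namespace Cfsg.Agent.S4582

open Cfsg.Agent.Lib.H22.TransferMod

/-- Let N be a normal subgroup of the finite group G, P a Sylow 2-subgroup of G and Q = P ∩ N. Suppose that P/QP' and Q/Q' are elementary abelian (every square of an element of P lies in the subgroup generated by Q and the derived subgroup of P, and every square of an element of Q lies in the derived subgroup of Q), and that the commutator factor group N/N' has odd order. Then P/P' is elementary abelian. -/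
theorem result {G : Type*} [Group G] [Finite G] (N : Subgroup G) [N.Normal] (P : Sylow 2 G)
    (hP : ∀ x ∈ (P : Subgroup G), x ^ 2 ∈ ((P : Subgroup G) ⊓ N) ⊔ ⁅(P : Subgroup G), (P : Subgroup G)⁆)
    (hQ : ∀ x ∈ (P : Subgroup G) ⊓ N, x ^ 2 ∈ ⁅(P : Subgroup G) ⊓ N, (P : Subgroup G) ⊓ N⁆)
    (hodd : Odd (Nat.card (Abelianization N))) :
    ∀ x ∈ (P : Subgroup G), x ^ 2 ∈ ⁅(P : Subgroup G), (P : Subgroup G)⁆ := by
  classical
  have : Fact (Nat.Prime 2) := ⟨Nat.prime_two⟩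
  set P₀ : Subgroup G := (P : Subgroup G) with hP₀
  set K : Subgroup G := P₀ ⊔ N with hK
  have hPK : P₀ ≤ K := le_sup_left
  have hNK : N ≤ K := le_sup_right
  let H : Subgroup ↥K := P₀.subgroupOf K
  let e : ↥H ≃* ↥P₀ := Subgroup.subgroupOfEquivOfLe hPK
  let ϕ : ↥H →* Abelianization ↥P₀ := Abelianization.of.comp e.toMonoidHom
  have hϕ : ∀ z : ↥H, ϕ z = 1 ↔ ((z : ↥K) : G) ∈ ⁅P₀, P₀⁆ := by
    intro z
    change Abelianization.of (e z) = 1 ↔ _
    rw [abelianization_of_eq_one_iff]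
    rfl
  -- the target is a 2-group
  have hA : IsPGroup 2 (Abelianization ↥P₀) := P.isPGroup'.to_quotient _
  -- elements of odd order dividing something odd are trivial
  have hkill : ∀ (a : Abelianization ↥P₀) (M : ℕ), Odd M → a ^ M = 1 → a = 1 := by
    intro a M hM haM
    obtain ⟨k, hk⟩ := hA a
    have h1 : orderOf a ∣ 2 ^ k := orderOf_dvd_of_pow_eq_one hk
    have h2 : orderOf a ∣ M := orderOf_dvd_of_pow_eq_one haM
    have hcop : Nat.Coprime (2 ^ k) M := Nat.Coprime.pow_left k (Nat.coprime_two_left.mpr hM)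
    have : orderOf a ∣ Nat.gcd (2 ^ k) M := Nat.dvd_gcd h1 h2
    rw [hcop] at this
    exact orderOf_eq_one_iff.mp (Nat.dvd_one.mp this)
  let V : ↥K →* Abelianization ↥P₀ := ϕ.transfer
  -- V kills N
  have hVN : ∀ (n : G) (hn : n ∈ N), V ⟨n, hNK hn⟩ = 1 := by
    intro n hn
    let ψ : ↥N →* Abelianization ↥P₀ := V.comp (Subgroup.inclusion hNK)
    have h1 : ψ ⟨n, hn⟩ = Abelianization.lift ψ (Abelianization.of ⟨n, hn⟩) := by
      rw [Abelianization.lift_apply_of]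
    have h2 : (Abelianization.of (⟨n, hn⟩ : ↥N)) ^ Nat.card (Abelianization ↥N) = 1 :=
      pow_card_eq_one'
    have h3 : (ψ ⟨n, hn⟩) ^ Nat.card (Abelianization ↥N) = 1 := by
      rw [h1, ← map_pow, h2, map_one]
    exact hkill _ _ hodd h3
  -- the kernel of V seen in G
  let L : Subgroup G := V.ker.map K.subtype
  have hNL : N ≤ L := fun n hn => ⟨⟨n, hNK hn⟩, hVN n hn, rfl⟩
  have hcL : ⁅P₀, P₀⁆ ≤ L := by
    calc ⁅P₀, P₀⁆ ≤ ⁅K, K⁆ := Subgroup.commutator_mono hPK hPK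
      _ = (commutator ↥K).map K.subtype := (Subgroup.map_subtype_commutator K).symm
      _ ≤ L := Subgroup.map_mono (Abelianization.commutator_subset_ker V)
  have hsqL : ∀ x ∈ P₀, x ^ 2 ∈ L := by
    intro x hx
    have := hP x hx
    exact (sup_le (inf_le_right.trans hNL) hcL) this
  -- V(x)^2 = 1 for x ∈ P
  have hVsq : ∀ (x : G) (hx : x ∈ P₀), (V ⟨x, hPK hx⟩) ^ 2 = 1 := by
    intro x hx
    obtain ⟨w, hw, hwx⟩ := hsqL x hx
    have : w = (⟨x, hPK hx⟩ : ↥K) ^ 2 := Subtype.ext hwx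
    rw [← map_pow, ← this]
    exact hw
  -- the subgroup B of A
  let ι : ↥H →* G := K.subtype.comp H.subtype
  let Qh : Subgroup ↥H := N.comap ι
  let B : Subgroup (Abelianization ↥P₀) := Qh.map ϕ
  have hB : ∀ b ∈ B, b ^ 2 = 1 := by
    rintro b ⟨c, hc, rfl⟩
    rw [← map_pow, hϕ]
    have hcP : ((c : ↥K) : G) ∈ P₀ := c.2
    have hcN : ((c : ↥K) : G) ∈ N := hc
    have := hQ _ ⟨hcP, hcN⟩
    exact Subgroup.commutator_mono inf_le_left inf_le_left this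
  -- index is odd
  have hm : Odd H.index := by
    have h1 : ¬ 2 ∣ P₀.index := P.not_dvd_index
    have h2 : H.index ∣ P₀.index := by
      have := Subgroup.relIndex_mul_index hPK
      exact Dvd.intro _ this
    rw [← Nat.not_even_iff_odd, even_iff_two_dvd]
    exact fun h => h1 (h.trans h2)
  -- the transfer of y ∈ P modulo B
  have hkey : ∀ (y : G) (hy : y ∈ P₀),
      V ⟨y, hPK hy⟩ * ((ϕ ⟨⟨y, hPK hy⟩, hy⟩) ^ H.index)⁻¹ ∈ B := by
    intro y hy
    apply transfer_mul_inv_pow_mem ϕ B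
    intro k g₀ hk
    -- decompose g₀ = h * n
    have hg₀ : (g₀ : G) ∈ P₀ ⊔ N := g₀.2
    rw [← SetLike.mem_coe, Subgroup.mul_normal, Set.mem_mul] at hg₀
    obtain ⟨h, hh, n, hn, hhn⟩ := hg₀
    let h' : ↥K := ⟨h, hPK hh⟩
    let n' : ↥K := ⟨n, hNK hn⟩
    let y' : ↥K := ⟨y, hPK hy⟩
    have hg : g₀ = h' * n' := Subtype.ext hhn.symm
    have hh' : h' ∈ H := hh
    have hy' : y' ∈ H := hy
    let u : ↥K := h'⁻¹ * y' ^ k * h'
    have hu : u ∈ H := H.mul_mem (H.mul_mem (H.inv_mem hh') (H.pow_mem hy' k)) hh'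
    let c : ↥K := u⁻¹ * (g₀⁻¹ * y' ^ k * g₀)
    have hcH : c ∈ H := H.mul_mem (H.inv_mem hu) hk
    have hcN : ((c : ↥K) : G) ∈ N := by
      have hnN : n ∈ N := hn
      have : (c : G) = ((u : G)⁻¹ * n⁻¹ * (u : G)) * n := by
        change ((u⁻¹ * (g₀⁻¹ * y' ^ k * g₀) : ↥K) : G) = _
        rw [hg]
        simp only [u, Subgroup.coe_mul, Subgroup.coe_inv, Subgroup.coe_pow, h', n', y']
        group
      rw [this]
      refine N.mul_mem ?_ hnN
      have := ‹N.Normal›.conj_mem n⁻¹ (N.inv_mem hnN) (u : G)⁻¹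
      simpa using this
    have hprod : (⟨g₀⁻¹ * y' ^ k * g₀, hk⟩ : ↥H) = ⟨u, hu⟩ * ⟨c, hcH⟩ := by
      apply Subtype.ext
      change g₀⁻¹ * y' ^ k * g₀ = u * (u⁻¹ * (g₀⁻¹ * y' ^ k * g₀))
      group
    have hϕu : ϕ ⟨u, hu⟩ = (ϕ ⟨y', hy'⟩) ^ k := by
      have : (⟨u, hu⟩ : ↥H) = (⟨h', hh'⟩ : ↥H)⁻¹ * (⟨y', hy'⟩ : ↥H) ^ k * ⟨h', hh'⟩ := by
        apply Subtype.ext
        rfl
      rw [this, map_mul, map_mul, map_inv, map_pow, mul_comm, mul_inv_cancel_left]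
    rw [hprod, map_mul, hϕu]
    have : ϕ ⟨y', hy'⟩ ^ k * ϕ ⟨c, hcH⟩ * (ϕ ⟨y', hy'⟩ ^ k)⁻¹ = ϕ ⟨c, hcH⟩ := by
      rw [mul_comm, inv_mul_cancel_left]
    rw [this]
    exact ⟨⟨c, hcH⟩, hcN, rfl⟩
  -- conclude
  intro y hy
  have h1 := hkey y hy
  have h2 := hB _ h1
  have h3 := hVsq y hy
  set a := ϕ ⟨⟨y, hPK hy⟩, hy⟩ with ha
  have h4 : (a ^ 2) ^ H.index = 1 := by
    rw [mul_pow, h3, one_mul, inv_pow, inv_eq_one, ← pow_mul, mul_comm, pow_mul] at h2
    exact h2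
  have h5 : a ^ 2 = 1 := hkill _ _ hm h4
  rw [ha, ← map_pow, hϕ] at h5
  exact h5

end Cfsg.Agent.S4582
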