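import Cfsg.Statements.S4583
import Cfsg.Agent.Lib.L0.PrincipalCover
import Cfsg.Agent.Lib.L0.CharOps
import Cfsg.Agent.Lib.H23.DegreeDvd

set_option autoImplicit false
open Cfsg

namespace Cfsg.Agent.S4583

open Cfsg.Agent.Lib.H23 Cfsg.Agent.Lib.H24 Cfsg.Agent.Lib.L0 Cfsg.Agent.Lib.L0.PrincipalCover
  Cfsg.Agent.Lib.L0.PrincipalCrit
open scoped ComplexConjugate

/-- A `p`-regular element of `N ⊔ P` (`N` normal, `P` a `p`-group) lies in `N`. -/
theorem mem_of_pRegular_of_mem_sup {G : Type*} [Group G] [Finite G] (N : Subgroup G) [N.Normal]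
    {p : ℕ} [Fact p.Prime] (P : Subgroup G) (hP : IsPGroup p P) {k : G} (hk : k ∈ N ⊔ P)
    (hreg : ¬ p ∣ orderOf k) : k ∈ N := by
  have hp : p.Prime := Fact.out
  have h0 : k ∈ ((N ⊔ P : Subgroup G) : Set G) := hk
  rw [Subgroup.normal_mul] at h0
  obtain ⟨n, hn, x, hx, rfl⟩ := Set.mem_mul.mp h0
  obtain ⟨j, hj⟩ := (IsPGroup.iff_orderOf.mp hP) ⟨x, hx⟩
  have hj' : orderOf x = p ^ j := by
    rw [← Subgroup.orderOf_coe] at hj; exact hj
  set π := QuotientGroup.mk' N with hπ
  have h1 : π (n * x) = π x := by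
    rw [map_mul]
    have : π n = 1 := (QuotientGroup.eq_one_iff n).mpr hn
    rw [this, one_mul]
  have h2 : orderOf (π x) ∣ p ^ j := hj' ▸ orderOf_map_dvd π x
  have h3 : orderOf (π (n * x)) ∣ orderOf (n * x) := orderOf_map_dvd π _
  rw [h1] at h3
  obtain ⟨i, _, hi⟩ := (Nat.dvd_prime_pow hp).mp h2
  have hi0 : i = 0 := by
    by_contra hne
    apply hreg
    have : p ∣ orderOf (π x) := by rw [hi]; exact dvd_pow_self p hne
    exact this.trans h3
  rw [hi0, pow_zero, orderOf_eq_one_iff] at hi
  rw [← h1] at hi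
  exact (QuotientGroup.eq_one_iff _).mp hi

theorem main {G : Type*} [Group G] [Finite G] (N : Subgroup G) [N.Normal] (p : ℕ) [Fact p.Prime]
    (M : Ideal Cfsg.AlgInt) (hM : Cfsg.IsPModular p M) (P : Sylow p G)
    (θ : Cfsg.IrrCharacter N) (hθ : θ ∈ Cfsg.principalBlock M N)
    (hdeg : ¬ p ∣ Cfsg.charDegree (θ : N → ℂ))
    (K : Subgroup G) (hNK : N ≤ K) (hPK : (P : Subgroup G) ≤ K)
    (hregK : ∀ k : G, k ∈ K → ¬ p ∣ orderOf k → k ∈ N)
    (η : Cfsg.IrrCharacter K)
    (hη : ∀ n : N, (η : K → ℂ) (Subgroup.inclusion hNK n) = (θ : N → ℂ) n) :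
    ∃ χ : Cfsg.IrrCharacter G, χ ∈ Cfsg.principalBlock M G ∧ ¬ p ∣ Cfsg.charDegree (χ : G → ℂ) ∧
      haveI := Fintype.ofFinite N; Cfsg.classInner (fun n : N => (χ : G → ℂ) n) (θ : N → ℂ) ≠ 0 := by
  classical
  haveI := Fintype.ofFinite G
  letI instN : Fintype N := Fintype.ofFinite N
  haveI := Fintype.ofFinite (IrrCharacter G)
  haveI hPr := isPrime_of_isPModular hM
  have hp : p.Prime := Fact.out
  haveI : Fintype K := Fintype.ofFinite K
  haveI := Fintype.ofFinite (IrrCharacter K)
  have hG0 : (Nat.card G : ℂ) ≠ 0 := by exact_mod_cast (Nat.card_pos (α := G)).ne'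
  have hK0 : (Nat.card K : ℂ) ≠ 0 := by exact_mod_cast (Nat.card_pos (α := K)).ne'
  set ψ := indFun K (η : K → ℂ) with hψ
  have hψc : IsClassFunction G ψ := indFun_isClassFunction K _
  -- the sum of ψ over the p-regular elements
  have h2 : classInner ψ (regInd p G) =
      (Nat.card K : ℂ)⁻¹ * charEval (θ : N → ℂ) (regSum p N) := by
    rw [hψ, frobenius_reciprocity K _ _ regInd_isClassFunction]
    have : (fun k : K => regInd p G (k : G)) = regInd p K := by
      funext k; simp only [regInd, Subgroup.orderOf_coe]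
    rw [this, classInner_regInd]
    congr 1
    rw [charEval_regSum, charEval_regSum]
    symm
    refine Fintype.sum_of_injective (Subgroup.inclusion hNK)
      (Subgroup.inclusion_injective _) _ _ ?_ ?_
    · intro k hk
      by_cases hreg : p ∣ orderOf k
      · rw [if_pos hreg]
      · exfalso; apply hk
        have hkN : (k : G) ∈ N := hregK k k.2 (by rwa [Subgroup.orderOf_coe])
        exact ⟨⟨k, hkN⟩, Subtype.ext rfl⟩
    · intro n
      rw [hη n]
      have : orderOf (Subgroup.inclusion hNK n : K) = orderOf n := by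
        rw [← Subgroup.orderOf_coe, ← Subgroup.orderOf_coe n]; rfl
      rw [this]
  -- multiplicities
  have haex : ∀ χ : IrrCharacter G, ∃ k : ℕ, classInner ψ (χ : G → ℂ) = k := fun χ =>
    classInner_char_irr_nat (isCharacter_indFun K (isCharacter_of_irr η.2)) χ.2
  choose a ha using haex
  have hexp := classFunction_expansion ψ hψc
  have h3 : classInner ψ (regInd p G) = (Nat.card G : ℂ)⁻¹ *
      ∑ χ : IrrCharacter G, (a χ : ℂ) * charEval (χ : G → ℂ) (regSum p G) := by
    conv_lhs => rw [hexp]
    rw [classInner_sum_left, Finset.mul_sum]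
    refine Finset.sum_congr rfl fun χ _ => ?_
    rw [classInner_smul_left, classInner_regInd, ha]
    ring
  -- the key non-membership
  have hkey : ¬ MemLocalIdeal M (∑ χ : IrrCharacter G,
      (a χ : ℂ) * charEval (χ : G → ℂ) (regSum p G)) := by
    have e1 : ∑ χ : IrrCharacter G, (a χ : ℂ) * charEval (χ : G → ℂ) (regSum p G) =
        (K.index : ℂ) * ((θ : N → ℂ) 1 * omega (θ : N → ℂ) (regSum p N)) := by
      have h4 := h2.symm.trans h3
      have hidx : (Nat.card G : ℂ) = (K.index : ℂ) * (Nat.card K : ℂ) := by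
        exact_mod_cast (K.index_mul_card).symm
      rw [omega, mul_div_cancel₀ _ (irr_one_ne_zero θ)]
      have : ∑ χ : IrrCharacter G, (a χ : ℂ) * charEval (χ : G → ℂ) (regSum p G) =
          (Nat.card G : ℂ) * ((Nat.card K : ℂ)⁻¹ * charEval (θ : N → ℂ) (regSum p N)) := by
        rw [h4, ← mul_assoc, mul_inv_cancel₀ hG0, one_mul]
      rw [this, hidx]
      field_simp
    rw [e1]
    intro hmem
    have hidx : ¬ p ∣ K.index := by
      intro hdvd
      exact P.not_dvd_index (hdvd.trans (Subgroup.index_dvd_of_le hPK))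
    have h5 := memLocalIdeal_of_mul (natCast_mem_localRing _)
      (fun h => hidx ((natCast_memLocalIdeal_iff hM _).mp h)) hmem
    rw [apply_one_eq_charDegree _ θ.2] at h5
    have h6 := memLocalIdeal_of_mul (natCast_mem_localRing _)
      (fun h => hdeg ((natCast_memLocalIdeal_iff hM _).mp h)) h5
    exact omega_regSum_not_mem hM hθ h6
  -- so some χ in the principal block with a χ ≠ 0 has degree prime to p
  have hex : ∃ χ : IrrCharacter G, χ ∈ principalBlock M G ∧ a χ ≠ 0 ∧
      ¬ p ∣ charDegree (χ : G → ℂ) := by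
    by_contra hno
    push Not at hno
    apply hkey
    refine memLocalIdeal_sum _ _ fun χ _ => ?_
    by_cases hχ : χ ∈ principalBlock M G
    · by_cases haχ : a χ = 0
      · rw [haχ, Nat.cast_zero, zero_mul]; exact memLocalIdeal_zero hPr.ne_top
      · have hdvd := hno χ hχ haχ
        have e2 : (a χ : ℂ) * charEval (χ : G → ℂ) (regSum p G) =
            ((a χ * charDegree (χ : G → ℂ) : ℕ) : ℂ) * omega (χ : G → ℂ) (regSum p G) := by
          rw [omega]
          push_cast
          rw [← apply_one_eq_charDegree _ χ.2]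
          have h1 := irr_one_ne_zero χ
          field_simp
        rw [e2]
        refine memLocalIdeal_mul_right ?_
          (omega_memLocalRing χ (regSum_mem_center p) (regSum_mem_intCoeff p))
        exact (natCast_memLocalIdeal_iff hM _).mpr (Dvd.dvd.mul_left hdvd _)
    · have : charEval (χ : G → ℂ) (regSum p G) = 0 := by
        by_contra hne
        exact hχ ((mem_principalBlock_iff hM χ).mpr hne)
      rw [this, mul_zero]; exact memLocalIdeal_zero hPr.ne_top
  obtain ⟨χ, hχB, haχ, hχp⟩ := hex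
  refine ⟨χ, hχB, hχp, ?_⟩
  -- χ lies over θ
  have h7 : classInner (fun k : K => (χ : G → ℂ) k) (η : K → ℂ) ≠ 0 := by
    have := ha χ
    rw [hψ, frobenius_reciprocity K _ _ (irr_isClassFunction χ)] at this
    intro h0
    apply haχ
    have h8 : classInner (η : K → ℂ) (fun k : K => (χ : G → ℂ) k) = 0 := by
      rw [← classInner_conj_symm, h0, map_zero]
    rw [h8] at this
    exact_mod_cast this.symm
  have hbex : ∀ η' : IrrCharacter K, ∃ k : ℕ,
      classInner (fun k : K => (χ : G → ℂ) k) (η' : K → ℂ) = k := fun η' =>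
    classInner_char_irr_nat (isCharacter_restrict K (isCharacter_of_irr χ.2)) η'.2
  choose b hb using hbex
  have hcex : ∀ η' : IrrCharacter K, ∃ k : ℕ,
      classInner (fun n : N => (η' : K → ℂ) (Subgroup.inclusion hNK n)) (θ : N → ℂ) = k := by
    intro η'
    refine classInner_char_irr_nat ?_ θ.2
    exact isCharacter_comp (Subgroup.inclusion hNK) (isCharacter_of_irr η'.2)
  choose c hc using hcex
  have hχKc : IsClassFunction K (fun k : K => (χ : G → ℂ) k) := by
    intro g h; exact irr_isClassFunction χ (g : G) (h : G)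
  have hexpK := classFunction_expansion _ hχKc
  have h9 : (fun n : N => (χ : G → ℂ) n) =
      ∑ η' : IrrCharacter K, (b η' : ℂ) •
        (fun n : N => (η' : K → ℂ) (Subgroup.inclusion hNK n)) := by
    funext n
    have := congrFun hexpK (Subgroup.inclusion hNK n)
    simp only [Finset.sum_apply, Pi.smul_apply, smul_eq_mul, hb] at this ⊢
    exact this
  have h10 : classInner (fun n : N => (χ : G → ℂ) n) (θ : N → ℂ) =
      ((∑ η' : IrrCharacter K, b η' * c η' : ℕ) : ℂ) := by
    rw [h9, classInner_sum_left]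
    push_cast
    refine Finset.sum_congr rfl fun η' _ => ?_
    rw [classInner_smul_left, hc]
  have hbη : b η ≠ 0 := by
    intro h0
    apply h7
    rw [hb η, h0, Nat.cast_zero]
  have hcη : c η = 1 := by
    have := hc η
    have e : (fun n : N => (η : K → ℂ) (Subgroup.inclusion hNK n)) = (θ : N → ℂ) :=
      funext hη
    rw [e, irr_orthonormal, if_pos rfl] at this
    exact_mod_cast this.symm
  have h11 : 1 ≤ ∑ η' : IrrCharacter K, b η' * c η' := by
    have := Finset.single_le_sum (f := fun η' : IrrCharacter K => b η' * c η')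
      (fun _ _ => Nat.zero_le _) (Finset.mem_univ η)
    simp only [hcη, mul_one] at this
    exact (Nat.one_le_iff_ne_zero.mpr hbη).trans this
  show classInner (fun n : N => (χ : G → ℂ) n) (θ : N → ℂ) ≠ 0
  rw [h10]
  exact_mod_cast (Nat.one_le_iff_ne_zero.mp h11)

/-- Let N be a normal subgroup of the finite group G, p a prime, M a maximal ideal of the algebraic integers containing p, and P a Sylow p-subgroup of G. Let θ be an irreducible character of N of degree prime to p lying in the principal p-block of N, and suppose θ extends to the subgroup NP (some irreducible character of NP restricts to θ). Then some irreducible character χ of G of degree prime to p in the principal p-block of G lies over θ (θ is a constituent of the restriction of χ to N). -/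
theorem result {G : Type*} [Group G] [Finite G] (N : Subgroup G) [N.Normal] (p : ℕ) [Fact p.Prime] (M : Ideal Cfsg.AlgInt) (hM : Cfsg.IsPModular p M) (P : Sylow p G)
    (θ : Cfsg.IrrCharacter N) (hθ : θ ∈ Cfsg.principalBlock M N) (hdeg : ¬ p ∣ Cfsg.charDegree (θ : N → ℂ))
    (hext : ∃ η : Cfsg.IrrCharacter ↥(N ⊔ (P : Subgroup G)), ∀ n : N, (η : ↥(N ⊔ (P : Subgroup G)) → ℂ) (Subgroup.inclusion le_sup_left n) = (θ : N → ℂ) n) :
    ∃ χ : Cfsg.IrrCharacter G, χ ∈ Cfsg.principalBlock M G ∧ ¬ p ∣ Cfsg.charDegree (χ : G → ℂ) ∧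
      haveI := Fintype.ofFinite N; Cfsg.classInner (fun n : N => (χ : G → ℂ) n) (θ : N → ℂ) ≠ 0 := by
  obtain ⟨η, hη⟩ := hext
  exact main N p M hM P θ hθ hdeg (N ⊔ (P : Subgroup G)) le_sup_left le_sup_right
    (fun k hk hreg => mem_of_pRegular_of_mem_sup N (P : Subgroup G) P.2 hk hreg) η hη

end Cfsg.Agent.S4583
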