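import Cfsg.Statements.S4591
import Mathlib
import Cfsg.Agent.Lib.H20.KPPDefs
import Cfsg.Agent.Lib.H1.KPPB1
import Cfsg.Agent.Lib.H1.KPPE
import Cfsg.Agent.Lib.H12.KPPB2
import Cfsg.Agent.Lib.H24.KPPB3
import Cfsg.Agent.Lib.H24.KPPC2
import Cfsg.Agent.Lib.H27.KPPTRIV
import Cfsg.Agent.Lib.H27.KPPSYLP
import Cfsg.Agent.Lib.H6.KPPCOREa
import Cfsg.Agent.Lib.H26.KPPCENTa
import Cfsg.Agent.Lib.H12.KPPF2

set_option autoImplicit false
open Cfsg

namespace Cfsg.Agent.S4591

open Cfsg.Agent.Lib.H20.KPP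

/-- NKER: a normal subgroup meeting `C_G(P)` trivially lies in the kernel of every `p'`-degree
irreducible character. -/
theorem normal_le_kerPP {G : Type*} [Group G] [Fintype G] (p : ℕ) [hp : Fact p.Prime]
    (P : Sylow p G) (L : Subgroup G) [L.Normal]
    (hL : L ⊓ Subgroup.centralizer ((P : Subgroup G) : Set G) = ⊥) : L ≤ kerPP p := by
  classical
  intro x hx
  rw [mem_kerPP]
  intro χ hdeg
  have hc := Cfsg.Agent.Lib.H1.KPP.card_coprime_of_inf_centralizer p P L hL
  obtain ⟨θ, hcon, hinv⟩ :=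
    Cfsg.Agent.Lib.H24.KPP.exists_invariant_constituent p P L (χ : G → ℂ) χ.2 hdeg
  have h1 := Cfsg.Agent.Lib.H12.KPP.invariant_irr_eq_one p P L hc hL θ hinv
  rw [h1] at hcon
  exact Cfsg.Agent.Lib.H27.KPP.eq_of_trivial_constituent L (χ : G → ℂ) χ.2 hcon x hx

theorem main {G : Type*} [Group G] [Fintype G] (p : ℕ) [hp : Fact p.Prime]
    (P : Sylow p G) (N : Subgroup G) [N.Normal]
    (hN : N ⊓ Subgroup.centralizer ((P : Subgroup G) : Set G) = ⊥)
    (hmax : ∀ L : Subgroup G, L.Normal →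
      L ⊓ Subgroup.centralizer ((P : Subgroup G) : Set G) = ⊥ → L ≤ N) :
    (kerPP (G := G) p) = (N ⊔ ⁅(P : Subgroup G), (P : Subgroup G)⁆).normalCore := by
  classical
  apply le_antisymm
  · have hD := Cfsg.Agent.Lib.H27.KPP.kerPP_inf_sylow_le p P
    obtain ⟨N₀, hN₀n, hN₀M, hN₀c, hM⟩ :=
      Cfsg.Agent.Lib.H1.KPP.exists_normal_complement p P (kerPP p) hD
    have := hN₀n
    have hF := Cfsg.Agent.Lib.H26.KPP.inf_centralizer_eq_bot_of_le_kerPP_of p
      (fun P L _ _ hc θ hinv =>
        Cfsg.Agent.Lib.H12.KPP.exists_pprime_over_invariant p P L hc θ hinv)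
      P N₀ hN₀c hN₀M
    have hN₀N : N₀ ≤ N := hmax N₀ hN₀n hF
    have hle : kerPP (G := G) p ≤ N ⊔ ⁅(P : Subgroup G), (P : Subgroup G)⁆ :=
      hM.trans (sup_le_sup hN₀N hD)
    exact Subgroup.normal_le_normalCore.mpr hle
  · have hNc := Cfsg.Agent.Lib.H1.KPP.card_coprime_of_inf_centralizer p P N hN
    exact Cfsg.Agent.Lib.H6.KPP.core_le_kerPP_of p
      (fun P χ hχ hdeg R _ hR =>
        Cfsg.Agent.Lib.H24.KPP.sum_ne_zero_of_le_commutator p P χ hχ hdeg R hR)
      (fun L _ _ χ hχ h => Cfsg.Agent.Lib.H27.KPP.eq_of_trivial_constituent L χ hχ h)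
      P N hNc (normal_le_kerPP p P N hN)

/-- Let G be a finite group, p a prime and P a Sylow p-subgroup, and let N be the largest normal subgroup of G in which P has trivial centralizer (N is normal with C_N(P) = 1 and contains every normal subgroup with that property). Then the intersection of the kernels of the irreducible characters of G of degree prime to p is the normal core in G of the subgroup N·P' (P' the derived subgroup of P). In particular, when G has no nontrivial normal subgroup of order prime to p, that intersection is the normal core of P'. -/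
theorem result {G : Type*} [Group G] [Finite G] (p : ℕ) [Fact p.Prime] (P : Sylow p G) (N : Subgroup G) [N.Normal]
    (hN : N ⊓ Subgroup.centralizer ((P : Subgroup G) : Set G) = ⊥)
    (hmax : ∀ L : Subgroup G, L.Normal → L ⊓ Subgroup.centralizer ((P : Subgroup G) : Set G) = ⊥ → L ≤ N) :
    {g : G | ∀ χ : Cfsg.IrrCharacter G, ¬ p ∣ Cfsg.charDegree (χ : G → ℂ) → (χ : G → ℂ) g = (χ : G → ℂ) 1} =
      ((N ⊔ ⁅(P : Subgroup G), (P : Subgroup G)⁆).normalCore : Set G) := by
  classical
  have := Fintype.ofFinite G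
  rw [← main p P N hN hmax]
  ext g
  simp only [Set.mem_ofPred_eq, SetLike.mem_coe, mem_kerPP]

end Cfsg.Agent.S4591
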