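import Cfsg.Statements.S4604
import Cfsg.Agent.Lib.L0.PRegCongP
import Cfsg.Agent.S0876

set_option autoImplicit false
open Cfsg

namespace Cfsg.Agent.S4604

open Cfsg.Agent.Lib.H23 Cfsg.Agent.Lib.L0 Cfsg.Agent.Lib.L0.PReg Cfsg.Agent.Lib.L0.PRegP

/-- Let G be a finite group, p a prime and p^a the p-part of the order of G. Let x, y ∈ G and let x′, y′ be their p-regular parts: x′ has order prime to p, commutes with x·x′⁻¹, and x·x′⁻¹ has p-power order (likewise for y). Then x′ and y′ are conjugate in G if and only if for every irreducible character χ of G the algebraic integer χ(x)^(p^a) − χ(y)^(p^a) is p times an algebraic integer. -/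
theorem result {G : Type*} [Group G] [Finite G] (p : ℕ) [Fact p.Prime] (x y x' y' : G)
    (hx : (∃ k : ℕ, orderOf (x * x'⁻¹) = p ^ k) ∧ Commute (x * x'⁻¹) x' ∧ ¬ p ∣ orderOf x')
    (hy : (∃ k : ℕ, orderOf (y * y'⁻¹) = p ^ k) ∧ Commute (y * y'⁻¹) y' ∧ ¬ p ∣ orderOf y') :
    IsConj x' y' ↔ ∀ χ : Cfsg.IrrCharacter G, ∃ γ : Cfsg.AlgInt,
      (χ : G → ℂ) x ^ (p ^ (Nat.card G).factorization p) - (χ : G → ℂ) y ^ (p ^ (Nat.card G).factorization p) = (p : ℂ) * (γ : ℂ) := by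
  classical
  haveI := Fintype.ofFinite G
  have hp : p.Prime := Fact.out
  set a := (Nat.card G).factorization p with ha
  -- `x ^ p^a = x' ^ p^a`
  have hpow : ∀ z z' : G, (∃ k : ℕ, orderOf (z * z'⁻¹) = p ^ k) → Commute (z * z'⁻¹) z' →
      z ^ (p ^ a) = z' ^ (p ^ a) := by
    intro z z' ⟨k, hk⟩ hc
    have hz : z = (z * z'⁻¹) * z' := by group
    have hka : k ≤ a := by
      have hdvd : p ^ k ∣ Nat.card G := hk ▸ orderOf_dvd_natCard _
      exact (hp.pow_dvd_iff_le_factorization Nat.card_pos.ne').mp hdvd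
    have h1 : (z * z'⁻¹) ^ (p ^ a) = 1 := by
      rw [← orderOf_dvd_iff_pow_eq_one, hk]
      exact pow_dvd_pow p hka
    conv_lhs => rw [hz, hc.mul_pow, h1, one_mul]
  constructor
  · intro hc χ
    obtain ⟨A, B, hA, hB, hAB⟩ := char_pow_congr_pIdeal hp (isCharacter_of_irr χ.2) x a
    obtain ⟨A', B', hA', hB', hAB'⟩ := char_pow_congr_pIdeal hp (isCharacter_of_irr χ.2) y a
    have hBB : B = B' := by
      apply Subtype.ext
      rw [hB, hB', hpow x x' hx.1 hx.2.1, hpow y y' hy.1 hy.2.1]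
      obtain ⟨c, hc⟩ := isConj_iff.mp hc
      rw [← hc, conj_pow]
      exact (isClassFunction_of_isCharacter (isCharacter_of_irr χ.2) _ _).symm
    have h1 : A ^ (p ^ a) - A' ^ (p ^ a) ∈ pIdeal p := by
      have h := (pIdeal p).sub_mem hAB hAB'
      rw [hBB] at h
      have e2 : A ^ p ^ a - B' - (A' ^ p ^ a - B') = A ^ (p ^ a) - A' ^ (p ^ a) := by ring
      rwa [e2] at h
    obtain ⟨γ, hγ⟩ := Ideal.mem_span_singleton'.mp h1
    refine ⟨γ, ?_⟩
    rw [← hA, ← hA']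
    have h2 : ((γ * (p : AlgInt) : AlgInt) : ℂ) = ((A ^ p ^ a - A' ^ p ^ a : AlgInt) : ℂ) := by
      rw [hγ]
    push_cast at h2
    rw [← h2, mul_comm]
  · intro h
    obtain ⟨M, hM⟩ := exists_isPModular hp
    have hP : M.IsPrime := isPrime_of_isPModular hM
    have hpx : IsPPart p x (x * x'⁻¹) := ⟨x', by group, hx.2.1, hx.1, hx.2.2⟩
    have hpy : IsPPart p y (y * y'⁻¹) := ⟨y', by group, hy.2.1, hy.1, hy.2.2⟩
    have key := (Cfsg.Agent.S0876.result p M hM x y (x * x'⁻¹) (y * y'⁻¹) hpx hpy).mpr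
    have e1 : (x * x'⁻¹)⁻¹ * x = x' := by group
    have e2 : (y * y'⁻¹)⁻¹ * y = y' := by group
    rw [e1, e2] at key
    apply key
    intro χ
    obtain ⟨γ, hγ⟩ := h χ
    set A : AlgInt := ⟨(χ : G → ℂ) x, irr_isIntegral χ x⟩ with hAdef
    set A' : AlgInt := ⟨(χ : G → ℂ) y, irr_isIntegral χ y⟩ with hA'def
    have h1 : A ^ (p ^ a) - A' ^ (p ^ a) = (p : AlgInt) * γ := by
      apply Subtype.ext
      push_cast
      exact hγ
    have h2 : A ^ (p ^ a) - A' ^ (p ^ a) ∈ M := by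
      rw [h1]; exact M.mul_mem_right _ hM.2.2
    have h3 := mem_of_pow_sub_pow_mem hM a h2
    have h4 := (memLocalIdeal_coe_iff (M := M) (A - A')).2 h3
    exact_mod_cast h4

end Cfsg.Agent.S4604
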