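import Cfsg.Statements.S4611
import Cfsg.Agent.S0915
import Cfsg.Agent.Lib.L0.PrincipalQuot
import Cfsg.Agent.Lib.H9.PPrimeCore
import Cfsg.Agent.Lib.H10.PSolvable2
import Cfsg.Agent.Lib.H1.PSolvOfSolv
import Cfsg.Agent.Lib.H24.CharKer
import Cfsg.Agent.Lib.H24.CharOrth

set_option autoImplicit false
open Cfsg

namespace Cfsg.Agent.S4611

open Cfsg.Agent.Lib.H23 Cfsg.Agent.Lib.H24 Cfsg.Agent.Lib.L0
  Cfsg.Agent.Lib.L0.PrincipalCrit Cfsg.Agent.Lib.L0.PrincipalQuot

/-- Fong: in a `p`-solvable group the principal block consists of the irreducible characters with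
`O_{p'}(G)` in their kernel. -/
theorem mem_principalBlock_iff_of_isPSolvable {G : Type*} [Group G] [Finite G] {p : ℕ}
    [Fact p.Prime] {M : Ideal AlgInt} (hM : IsPModular p M) (hsolv : IsPSolvable p G)
    (χ : IrrCharacter G) :
    χ ∈ principalBlock M G ↔ ∀ n ∈ pPrimeCore p G, (χ : G → ℂ) n = (χ : G → ℂ) 1 := by
  classical
  haveI := Fintype.ofFinite G
  have hp : p.Prime := Fact.out
  have hN : ¬ p ∣ Nat.card (pPrimeCore p G) := Cfsg.Agent.Lib.H22.not_dvd_card_pPrimeCore hp
  constructor
  · intro hχ
    exact principalBlock_ker hM (pPrimeCore p G) hN χ hχ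
  · intro hker
    haveI := Fintype.ofFinite (G ⧸ pPrimeCore p G)
    obtain ⟨ψ, hψ⟩ := exists_deflation χ (pPrimeCore p G) hker
    have hχψ : χ = inflIrr (pPrimeCore p G) ψ := by
      apply Subtype.ext
      funext g
      rw [inflIrr_apply, hψ]
    rw [hχψ, inflIrr_mem_principalBlock_iff hM _ hN]
    have hq : IsPSolvable p (G ⧸ pPrimeCore p G) :=
      Cfsg.Agent.Lib.H10.isPSolvable_quotient hsolv _
    have hcore := Cfsg.Agent.Lib.H9.pPrimeCore_quotient_eq_bot (G := G) p
    exact Cfsg.Agent.S0915.result p M hM hq hcore (trivIrr _) ψ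

/-- Let G be a finite solvable group and π a nonempty set of primes, each dividing the order of G; fix for each p in π a maximal ideal M p of the algebraic integers containing p. Then the only irreducible character lying in the principal p-block for every p in π is the principal character if and only if G is generated by the subgroups O_{p'}(G), p in π (the largest normal subgroups of order prime to p). -/
theorem result {G : Type*} [Group G] [Finite G] [Group.IsSolvable G] (π : Set ℕ) (hπ : ∀ p ∈ π, p.Prime ∧ p ∣ Nat.card G) (hne : π.Nonempty) (M : ℕ → Ideal Cfsg.AlgInt) (hM : ∀ p ∈ π, Cfsg.IsPModular p (M p)) :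
    (∀ χ : Cfsg.IrrCharacter G, (∀ p ∈ π, χ ∈ Cfsg.principalBlock (M p) G) → (χ : G → ℂ) = fun _ => 1) ↔
      ⨆ p ∈ π, Cfsg.pPrimeCore p G = ⊤ := by
  classical
  haveI := Fintype.ofFinite G
  have hmem : ∀ p ∈ π, ∀ χ : IrrCharacter G, χ ∈ principalBlock (M p) G ↔
      ∀ n ∈ pPrimeCore p G, (χ : G → ℂ) n = (χ : G → ℂ) 1 := by
    intro p hp χ
    haveI : Fact p.Prime := ⟨(hπ p hp).1⟩
    exact mem_principalBlock_iff_of_isPSolvable (hM p hp)
      (Cfsg.Agent.Lib.H1.PSolvOfSolv.isPSolvable_of_isSolvable p G) χ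
  constructor
  · intro h
    by_contra hK
    set K : Subgroup G := ⨆ p ∈ π, pPrimeCore p G with hKdef
    haveI hKn : K.Normal := by
      rw [hKdef]
      exact Subgroup.biSup_normal π (fun p => pPrimeCore p G) (fun p _ => inferInstance)
    -- G ⧸ K is nontrivial, hence has a nontrivial irreducible character
    haveI : Fintype (G ⧸ K) := Fintype.ofFinite _
    have hnt : Nontrivial (G ⧸ K) := by
      obtain ⟨g, hg⟩ : ∃ g : G, g ∉ K := by
        by_contra hall
        push Not at hall
        exact hK (eq_top_iff.mpr fun g _ => hall g)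
      refine ⟨⟨(g : G ⧸ K), 1, ?_⟩⟩
      intro h1
      exact hg ((QuotientGroup.eq_one_iff g).mp h1)
    have hcard : 1 < Nat.card (IrrCharacter (G ⧸ K)) := by
      rw [card_irr_eq_card_conjClasses]
      haveI : Finite (ConjClasses (G ⧸ K)) := inferInstance
      rw [Finite.one_lt_card_iff_nontrivial]
      obtain ⟨a, b, hab⟩ := hnt
      by_cases ha : a = 1
      · refine ⟨⟨ConjClasses.mk b, ConjClasses.mk 1, ?_⟩⟩
        intro hb
        have := ConjClasses.mk_eq_mk_iff_isConj.mp hb
        exact hab (ha.trans (isConj_one_left.mp this).symm)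
      · refine ⟨⟨ConjClasses.mk a, ConjClasses.mk 1, ?_⟩⟩
        intro hb
        have := ConjClasses.mk_eq_mk_iff_isConj.mp hb
        exact ha (isConj_one_left.mp this)
    haveI : Finite (IrrCharacter (G ⧸ K)) := finite_irr
    obtain ⟨ψ, hψ⟩ : ∃ ψ : IrrCharacter (G ⧸ K), ψ ≠ trivIrr (G ⧸ K) := by
      rw [Finite.one_lt_card_iff_nontrivial] at hcard
      exact exists_ne _
    have hχ := h (inflIrr K ψ) (by
      intro p hp
      rw [hmem p hp]
      intro n hn
      have hnK : n ∈ K := by
        have : pPrimeCore p G ≤ K := le_iSup₂ (f := fun p (_ : p ∈ π) => pPrimeCore p G) p hp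
        exact this hn
      rw [inflIrr_apply, inflIrr_apply, (QuotientGroup.eq_one_iff n).mpr hnK,
        QuotientGroup.mk_one])
    apply hψ
    apply Subtype.ext
    funext q
    obtain ⟨g, rfl⟩ := QuotientGroup.mk_surjective q
    have := congrFun hχ g
    rw [inflIrr_apply] at this
    rw [this]
    rfl
  · intro htop χ hχ
    have hker : ∀ g : G, (χ : G → ℂ) g = (χ : G → ℂ) 1 := by
      intro g
      have hle : (⨆ p ∈ π, pPrimeCore p G) ≤ charKer (χ : G → ℂ) (isCharacter_of_irr χ.2) := by
        refine iSup₂_le fun p hp => ?_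
        intro n hn
        rw [mem_charKer]
        exact (hmem p hp χ).mp (hχ p hp) n hn
      rw [htop] at hle
      exact mem_charKer.mp (hle (Subgroup.mem_top g))
    -- χ is constant and irreducible, hence trivial
    have h1 : (χ : G → ℂ) 1 = 1 := by
      have horth := irr_orthonormal χ χ
      rw [if_pos rfl, classInner] at horth
      have hG : (Nat.card G : ℂ) ≠ 0 := by exact_mod_cast (Nat.card_pos (α := G)).ne'
      have hd := apply_one_eq_charDegree (χ : G → ℂ) χ.2
      simp only [hker] at horth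
      rw [hd, Finset.sum_const, Finset.card_univ, nsmul_eq_mul, ← Nat.card_eq_fintype_card,
        Complex.conj_natCast, ← mul_assoc, inv_mul_cancel₀ hG, one_mul] at horth
      have hsq : (charDegree (χ : G → ℂ)) * (charDegree (χ : G → ℂ)) = 1 := by
        exact_mod_cast horth
      rw [hd, Nat.eq_one_of_mul_eq_one_right hsq]
      simp
    funext g
    rw [hker g, h1]

end Cfsg.Agent.S4611
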