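import Cfsg.Statements.S4620
import Cfsg.Agent.Lib.H10.SylowIn
import Cfsg.Agent.Lib.H1.PCore
import Cfsg.Agent.Lib.H22.PPrimeCore
import Cfsg.Agent.Lib.H9.UpperPAmb
-- import your own Cfsg.Agent.* helpers here

set_option autoImplicit false
open scoped Pointwise
open Cfsg

namespace Cfsg.Agent.S4620

open Cfsg.Agent.Lib

section
variable {H : Type*} [Group H] [Finite H] {p : ℕ} [Fact p.Prime]

/-- TI for one Sylow subgroup gives: distinct Sylow subgroups meet trivially. -/
theorem ti_all (P : Sylow p H)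
    (hTI : ∀ g : H, g ∉ Subgroup.normalizer ((P : Subgroup H) : Set H) →
      (P : Subgroup H) ⊓ (MulAut.conj g • (P : Subgroup H)) = ⊥)
    (S T : Sylow p H) (hST : S ≠ T) : (S : Subgroup H) ⊓ (T : Subgroup H) = ⊥ := by
  obtain ⟨a, rfl⟩ := MulAction.exists_smul_eq H P S
  obtain ⟨b, rfl⟩ := MulAction.exists_smul_eq H P T
  have hg : a⁻¹ * b ∉ Subgroup.normalizer ((P : Subgroup H) : Set H) := by
    intro hg
    apply hST
    have := Sylow.smul_eq_iff_mem_normalizer.mpr hg
    calc a • P = a • ((a⁻¹ * b) • P) := by rw [this]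
      _ = b • P := by rw [smul_smul, mul_inv_cancel_left]
  have h0 := hTI _ hg
  rw [eq_bot_iff]
  intro x hx
  rw [Subgroup.mem_bot]
  have hx1 : a⁻¹ * x * a ∈ (P : Subgroup H) := (H10.mem_smul_sylow P a x).mp hx.1
  have hx2 : b⁻¹ * x * b ∈ (P : Subgroup H) := (H10.mem_smul_sylow P b x).mp hx.2
  have hy : a⁻¹ * x * a ∈ (P : Subgroup H) ⊓ (MulAut.conj (a⁻¹ * b) • (P : Subgroup H)) := by
    refine ⟨hx1, ?_⟩
    have : (a⁻¹ * b)⁻¹ * (a⁻¹ * x * a) * (a⁻¹ * b) = b⁻¹ * x * b := by group
    exact H1.mem_conj_smul_iff.mpr (by rw [this]; exact hx2)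
  rw [h0, Subgroup.mem_bot] at hy
  calc x = a * (a⁻¹ * x * a) * a⁻¹ := by group
    _ = 1 := by rw [hy]; group

/-- With the TI property, the centralizer of a nontrivial element of a Sylow subgroup `S`
normalizes `S`. -/
theorem cent_le (hTI' : ∀ S T : Sylow p H, S ≠ T → (S : Subgroup H) ⊓ (T : Subgroup H) = ⊥)
    (S : Sylow p H) {x : H} (hx : x ∈ (S : Subgroup H)) (hx1 : x ≠ 1) {c : H}
    (hc : c * x = x * c) : c ∈ Subgroup.normalizer ((S : Subgroup H) : Set H) := by
  by_contra hcn
  have hne : S ≠ c • S := by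
    intro h
    exact hcn (Sylow.smul_eq_iff_mem_normalizer.mp h.symm)
  have h0 := hTI' S (c • S) hne
  have hx2 : x ∈ ((c • S : Sylow p H) : Subgroup H) := by
    rw [H10.mem_smul_sylow]
    have : c⁻¹ * x * c = x := by rw [mul_assoc, ← hc]; group
    rw [this]; exact hx
  have : x ∈ (S : Subgroup H) ⊓ ((c • S : Sylow p H) : Subgroup H) := ⟨hx, hx2⟩
  rw [h0, Subgroup.mem_bot] at this
  exact hx1 this

/-- An element of order `p` normalizing a Sylow `p`-subgroup lies in it. -/
theorem mem_sylow_of_normalizes (S : Sylow p H) {y : H} (hy : orderOf y = p)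
    (hyn : y ∈ Subgroup.normalizer ((S : Subgroup H) : Set H)) : y ∈ (S : Subgroup H) := by
  have hz : IsPGroup p (Subgroup.zpowers y) := by
    apply IsPGroup.of_card (n := 1)
    rw [Nat.card_zpowers, hy, pow_one]
  have hzn : Subgroup.zpowers y ≤ Subgroup.normalizer ((S : Subgroup H) : Set H) := by
    rw [Subgroup.zpowers_le]; exact hyn
  have hsup : IsPGroup p (Subgroup.zpowers y ⊔ (S : Subgroup H) : Subgroup H) :=
    IsPGroup.to_sup_of_normal_right' hz S.isPGroup' hzn
  have := S.is_maximal' hsup le_sup_right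
  have h2 : Subgroup.zpowers y ≤ (S : Subgroup H) := by
    rw [← this]; exact le_sup_left
  exact h2 (Subgroup.mem_zpowers y)

/-- Key contradiction: a subgroup `M ≤ N` normal in `N`, of order divisible by `p`, cannot
normalize a Sylow subgroup when `N` has no nontrivial normal `p`-subgroups. -/
theorem lemmaA (N : Subgroup H)
    (h2b : ∀ R : Subgroup H, R ≤ N → N ≤ Subgroup.normalizer (R : Set H) → IsPGroup p R → R = ⊥)
    (M : Subgroup H) (hMN : M ≤ N) (hNM : N ≤ Subgroup.normalizer (M : Set H))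
    (hpM : p ∣ Nat.card M) (S : Sylow p H)
    (hMS : M ≤ Subgroup.normalizer ((S : Subgroup H) : Set H)) : False := by
  -- elements of order p in M lie in S
  have hel : ∀ y ∈ M, orderOf y = p → y ∈ (S : Subgroup H) := fun y hy ho =>
    mem_sylow_of_normalizes S ho (hMS hy)
  -- p-elements of M lie in S
  have hpel : ∀ y ∈ M, (∃ k : ℕ, orderOf y = p ^ k) → y ∈ (S : Subgroup H) := by
    intro y hy ⟨k, hk⟩
    have hz : IsPGroup p (Subgroup.zpowers y) := by
      apply IsPGroup.of_card (n := k)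
      rw [Nat.card_zpowers, hk]
    have hzn : Subgroup.zpowers y ≤ Subgroup.normalizer ((S : Subgroup H) : Set H) := by
      rw [Subgroup.zpowers_le]; exact hMS hy
    have hsup : IsPGroup p (Subgroup.zpowers y ⊔ (S : Subgroup H) : Subgroup H) :=
      IsPGroup.to_sup_of_normal_right' hz S.isPGroup' hzn
    have := S.is_maximal' hsup le_sup_right
    have h2 : Subgroup.zpowers y ≤ (S : Subgroup H) := by
      rw [← this]; exact le_sup_left
    exact h2 (Subgroup.mem_zpowers y)
  set R := (S : Subgroup H) ⊓ M with hR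
  have hRp : IsPGroup p R := S.isPGroup'.to_le inf_le_left
  have hNR : N ≤ Subgroup.normalizer (R : Set H) := by
    have key : ∀ n ∈ N, ∀ y ∈ R, n * y * n⁻¹ ∈ R := by
      intro n hn y hy
      have h1 : n * y * n⁻¹ ∈ M := (Subgroup.mem_normalizer_iff.mp (hNM hn) y).mp hy.2
      refine ⟨hpel _ h1 ?_, h1⟩
      obtain ⟨k, hk⟩ := (IsPGroup.iff_orderOf.mp hRp) ⟨y, hy⟩
      rw [Subgroup.orderOf_mk] at hk
      refine ⟨k, ?_⟩
      rw [← hk]
      have := orderOf_injective (MulAut.conj n).toMonoidHom (MulAut.conj n).injective y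
      simpa using this
    intro n hn
    rw [Subgroup.mem_normalizer_iff]
    intro y
    constructor
    · exact key n hn y
    · intro h
      have := key n⁻¹ (N.inv_mem hn) _ h
      have e : n⁻¹ * (n * y * n⁻¹) * n⁻¹⁻¹ = y := by group
      rwa [e] at this
  have hRbot := h2b R (inf_le_right.trans hMN) hNR hRp
  have : Fact p.Prime := inferInstance
  obtain ⟨y, hy⟩ := exists_prime_orderOf_dvd_card' (G := M) p hpM
  have hy' : orderOf (y : H) = p := by rw [Subgroup.orderOf_coe]; exact hy
  have hyR : (y : H) ∈ R := ⟨hel _ y.2 hy', y.2⟩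
  rw [hRbot, Subgroup.mem_bot] at hyR
  rw [hyR, orderOf_one] at hy'
  exact (Fact.out : p.Prime).one_lt.ne hy'

end


/-- Let H be a finite group with no nontrivial normal p-subgroup and no nontrivial normal subgroup of order prime to p, whose Sylow p-subgroup P is nontrivial and a trivial-intersection set (P meets its conjugates by elements outside N_H(P) trivially). Then H has a unique minimal normal subgroup N; N is non-abelian simple with trivial centralizer in H (so H embeds in Aut(N)), and a Sylow p-subgroup of N is again a nontrivial trivial-intersection set in N. -/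
theorem result {H : Type*} [Group H] [Finite H] (p : ℕ) [Fact p.Prime] (hOp : Cfsg.pCore p H = ⊥) (hOp' : Cfsg.pPrimeCore p H = ⊥) (P : Sylow p H) (hP1 : (P : Subgroup H) ≠ ⊥)
    (hTI : ∀ g : H, g ∉ Subgroup.normalizer ((P : Subgroup H) : Set H) → (P : Subgroup H) ⊓ (MulAut.conj g • (P : Subgroup H)) = ⊥) :
    ∃ N : Subgroup H, N.Normal ∧ N ≠ ⊥ ∧ (∀ K : Subgroup H, K.Normal → K ≠ ⊥ → N ≤ K) ∧
      IsSimpleGroup N ∧ ¬ IsMulCommutative N ∧ Subgroup.centralizer (N : Set H) = ⊥ ∧
      ∀ Q : Sylow p N, (Q : Subgroup N) ≠ ⊥ ∧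
        ∀ n : N, n ∉ Subgroup.normalizer ((Q : Subgroup N) : Set N) → (Q : Subgroup N) ⊓ (MulAut.conj n • (Q : Subgroup N)) = ⊥ := by
  classical
  have hp : p.Prime := Fact.out
  have hTI' := ti_all P hTI
  -- Step 1: a minimal normal subgroup
  have hfin : {K : Subgroup H | K.Normal ∧ K ≠ ⊥}.Finite := Set.toFinite _
  have htop : (⊤ : Subgroup H) ∈ {K : Subgroup H | K.Normal ∧ K ≠ ⊥} := by
    refine ⟨inferInstance, ?_⟩
    intro h; apply hP1; rw [eq_bot_iff, ← h]; exact le_top
  obtain ⟨N, -, ⟨hNn, hN1⟩, hNm⟩ := hfin.exists_le_minimal htop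
  have hNm' : ∀ K : Subgroup H, K.Normal → K ≠ ⊥ → K ≤ N → N ≤ K := fun K h1 h2 h3 =>
    hNm ⟨h1, h2⟩ h3
  -- facts
  have hnotp' : ∀ K : Subgroup H, K.Normal → K ≠ ⊥ → p ∣ Nat.card K := by
    intro K hKn hK1
    by_contra hnd
    apply hK1
    rw [eq_bot_iff, ← hOp']
    exact H22.le_pPrimeCore p K hKn ((Nat.Prime.coprime_iff_not_dvd hp).mpr hnd).symm
  have hpN : p ∣ Nat.card N := hnotp' N hNn hN1
  have h2b : ∀ R : Subgroup H, R ≤ N → N ≤ Subgroup.normalizer (R : Set H) → IsPGroup p R → R = ⊥ := by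
    intro R hRN hNR hRp
    have hn : (R.subgroupOf N).Normal := H9.subgroupOf_normal_of_le_normalizer hNR
    have hp' : IsPGroup p (R.subgroupOf N) := hRp.comap_subtype
    have h1 : R.subgroupOf N ≤ Cfsg.pCore p ↥N := H1.le_pCore hn hp'
    have hchar := H1.pCore_characteristic p ↥N
    have hQn : ((Cfsg.pCore p ↥N).map N.subtype).Normal := ConjAct.normal_of_characteristic_of_normal
    have hQp : IsPGroup p ((Cfsg.pCore p ↥N).map N.subtype) := (H1.pCore_isPGroup p ↥N).map _
    have h2 := H1.le_pCore hQn hQp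
    rw [hOp] at h2
    rw [eq_bot_iff]
    intro x hx
    exact h2 ⟨⟨x, hRN hx⟩, h1 (Subgroup.mem_subgroupOf.mpr hx), rfl⟩
  have h2c : ∀ R : Subgroup H, R ≤ N → N ≤ Subgroup.normalizer (R : Set H) →
      (Nat.card R).Coprime p → R = ⊥ := by
    intro R hRN hNR hRc
    have h1 := H9.le_opAmb hRN hNR hRc
    have hchar : (Cfsg.pPrimeCore p ↥N).Characteristic := by
      rw [Subgroup.characteristic_iff_map_le]
      intro φ
      exact H22.pPrimeCore_map_le p φ
    have hQn : (H9.opAmb p N).Normal := by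
      unfold H9.opAmb
      exact ConjAct.normal_of_characteristic_of_normal
    have h2 := H22.le_pPrimeCore p _ hQn (H9.card_opAmb_coprime p N)
    rw [hOp'] at h2
    rw [eq_bot_iff]
    exact h1.trans h2
  -- a nontrivial p-element of a subgroup with order divisible by p lies in a Sylow subgroup
  have hcauchy : ∀ M : Subgroup H, p ∣ Nat.card M → ∃ x ∈ M, x ≠ 1 ∧ ∃ S : Sylow p H, x ∈ (S : Subgroup H) := by
    intro M hpM
    obtain ⟨y, hy⟩ := exists_prime_orderOf_dvd_card' (G := M) p hpM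
    have hy' : orderOf (y : H) = p := by rw [Subgroup.orderOf_coe]; exact hy
    have hz : IsPGroup p (Subgroup.zpowers (y : H)) := by
      apply IsPGroup.of_card (n := 1)
      rw [Nat.card_zpowers, hy', pow_one]
    obtain ⟨S, hS⟩ := hz.exists_le_sylow
    refine ⟨y, y.2, ?_, S, hS (Subgroup.mem_zpowers _)⟩
    intro h1
    rw [h1, orderOf_one] at hy'
    exact hp.one_lt.ne hy'
  -- Step 3: N is simple
  have hsimple : IsSimpleGroup N := by
    have hnt : Nontrivial ↥N := (Subgroup.nontrivial_iff_ne_bot N).mpr hN1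
    refine { toNontrivial := hnt, eq_bot_or_eq_top_of_normal := ?_ }
    intro M₀ hM₀n
    by_contra hcon
    push Not at hcon
    obtain ⟨hM₀1, hM₀2⟩ := hcon
    set M₁ := M₀.map N.subtype with hM₁
    have hM₁N : M₁ ≤ N := Subgroup.map_subtype_le _
    have hNM₁ : N ≤ Subgroup.normalizer (M₁ : Set H) := H9.le_normalizer_map_subtype_of_normal M₀
    have hM₁1 : M₁ ≠ ⊥ := by
      intro h
      apply hM₀1
      rw [eq_bot_iff]
      intro x hx
      have : (x : H) ∈ M₁ := ⟨x, hx, rfl⟩
      rw [h, Subgroup.mem_bot] at this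
      rw [Subgroup.mem_bot]
      exact Subtype.ext this
    have hM₁ne : M₁ ≠ N := by
      intro h
      apply hM₀2
      rw [eq_top_iff]
      intro x _
      have : (x : H) ∈ M₁ := by rw [h]; exact x.2
      obtain ⟨y, hy, hyx⟩ := this
      have : y = x := Subtype.ext hyx
      rw [← this]; exact hy
    have hfin2 : {M : Subgroup H | M ≤ M₁ ∧ N ≤ Subgroup.normalizer (M : Set H) ∧ M ≠ ⊥}.Finite :=
      Set.toFinite _
    obtain ⟨M, -, ⟨hMM₁, hNM, hM1⟩, hMm⟩ := hfin2.exists_le_minimal
      (show M₁ ∈ {M : Subgroup H | M ≤ M₁ ∧ N ≤ Subgroup.normalizer (M : Set H) ∧ M ≠ ⊥} from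
        ⟨le_rfl, hNM₁, hM₁1⟩)
    have hMN : M ≤ N := hMM₁.trans hM₁N
    have hpM : p ∣ Nat.card M := by
      by_contra hnd
      exact hM1 (h2c M hMN hNM ((Nat.Prime.coprime_iff_not_dvd hp).mpr hnd).symm)
    -- M is not normal in H
    obtain ⟨h, hh⟩ : ∃ h : H, M.map (MulAut.conj h).toMonoidHom ≠ M := by
      by_contra hall
      push Not at hall
      have hMn : M.Normal := by
        rw [← Subgroup.normalizer_eq_top_iff, eq_top_iff]
        intro g _
        rw [H10.mem_normalizer_iff_map_conj]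
        exact hall g
      have := hNm' M hMn hM1 hMN
      exact hM₁ne (le_antisymm hM₁N (this.trans hMM₁))
    set M' := M.map (MulAut.conj h).toMonoidHom with hM'
    have hM'N : M' ≤ N := by
      intro y hy
      rw [hM', H10.mem_map_conj] at hy
      have h1 : h⁻¹ * y * h ∈ N := hMN hy
      have h2 := hNn.conj_mem _ h1 h
      have e : h * (h⁻¹ * y * h) * h⁻¹ = y := by group
      rwa [e] at h2
    have hNM' : N ≤ Subgroup.normalizer (M' : Set H) := by
      rw [hM', H10.normalizer_map_conj]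
      intro n hn
      rw [H10.mem_map_conj]
      apply hNM
      have h2 := hNn.conj_mem _ hn h⁻¹
      rwa [inv_inv] at h2
    have hD : M ⊓ M' = ⊥ := by
      by_contra hD1
      have hND : N ≤ Subgroup.normalizer ((M ⊓ M' : Subgroup H) : Set H) :=
        (le_inf hNM hNM').trans (Subgroup.inf_normalizer_le_normalizer_inf)
      have h1 : M ≤ M ⊓ M' := hMm ⟨inf_le_left.trans hMM₁, hND, hD1⟩ inf_le_left
      have h2 : M ≤ M' := h1.trans inf_le_right
      have h3 : M = M' := Subgroup.eq_of_le_of_card_ge h2 (by rw [hM', H10.card_map_conj])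
      exact hh h3.symm
    have hcomm : ∀ x ∈ M, ∀ y ∈ M', x * y = y * x := by
      intro x hx y hy
      have hxN : x ∈ Subgroup.normalizer (M' : Set H) := hNM' (hMN hx)
      have hyN : y ∈ Subgroup.normalizer (M : Set H) := hNM (hM'N hy)
      have h1 : x * y * x⁻¹ * y⁻¹ ∈ M' :=
        Subgroup.mul_mem _ ((Subgroup.mem_normalizer_iff.mp hxN y).mp hy) (Subgroup.inv_mem _ hy)
      have h2 : x * y * x⁻¹ * y⁻¹ ∈ M := by
        have := (Subgroup.mem_normalizer_iff.mp hyN x⁻¹).mp (Subgroup.inv_mem _ hx)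
        have h3 := Subgroup.mul_mem _ hx this
        have h4 : x * (y * x⁻¹ * y⁻¹) = x * y * x⁻¹ * y⁻¹ := by group
        rw [h4] at h3; exact h3
      have h5 : x * y * x⁻¹ * y⁻¹ = 1 := by
        have : x * y * x⁻¹ * y⁻¹ ∈ M ⊓ M' := ⟨h2, h1⟩
        rwa [hD, Subgroup.mem_bot] at this
      calc x * y = (x * y * x⁻¹ * y⁻¹) * (y * x) := by group
        _ = y * x := by rw [h5, one_mul]
    have hpM' : p ∣ Nat.card M' := by rw [hM', H10.card_map_conj]; exact hpM
    obtain ⟨x', hx'M, hx'1, S, hx'S⟩ := hcauchy M' hpM'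
    have hMS : M ≤ Subgroup.normalizer ((S : Subgroup H) : Set H) := by
      intro m hm
      exact cent_le hTI' S hx'S hx'1 (hcomm m hm x' hx'M)
    exact lemmaA N h2b M hMN hNM hpM S hMS
  -- Step 4: N is not abelian
  have hnab : ¬ IsMulCommutative N := by
    intro hab
    obtain ⟨x, hxN, hx1, S, hxS⟩ := hcauchy N hpN
    have hNS : N ≤ Subgroup.normalizer ((S : Subgroup H) : Set H) := by
      intro n hn
      apply cent_le hTI' S hxS hx1
      have := mul_comm' (⟨n, hn⟩ : ↥N) ⟨x, hxN⟩
      exact congrArg Subtype.val this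
    exact lemmaA N h2b N le_rfl Subgroup.le_normalizer hpN S hNS
  -- Step 5: uniqueness
  have huniq : ∀ K : Subgroup H, K.Normal → K ≠ ⊥ → N ≤ K := by
    intro K hKn hK1
    by_cases hD : N ⊓ K = ⊥
    · exfalso
      have hdis : Disjoint N K := disjoint_iff.mpr hD
      have hpK := hnotp' K hKn hK1
      obtain ⟨y, hyK, hy1, S, hyS⟩ := hcauchy K hpK
      have hNS : N ≤ Subgroup.normalizer ((S : Subgroup H) : Set H) := by
        intro n hn
        apply cent_le hTI' S hyS hy1
        exact (Subgroup.commute_of_normal_of_disjoint N K hNn hKn hdis n y hn hyK).eq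
      exact lemmaA N h2b N le_rfl Subgroup.le_normalizer hpN S hNS
    · have hDn : (N ⊓ K).Normal := inferInstance
      exact (hNm' (N ⊓ K) hDn hD inf_le_left).trans inf_le_right
  -- Step 6: centralizer
  have hcent : Subgroup.centralizer (N : Set H) = ⊥ := by
    by_contra hc
    have hCn : (Subgroup.centralizer (N : Set H)).Normal := Subgroup.normal_centralizer
    have hle := huniq _ hCn hc
    apply hnab
    refine ⟨⟨fun a b => ?_⟩⟩
    apply Subtype.ext
    have := (Subgroup.mem_centralizer_iff.mp (hle b.2)) a a.2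
    exact this
  refine ⟨N, hNn, hN1, huniq, hsimple, hnab, hcent, ?_⟩
  intro Q
  constructor
  · intro hQ
    have h1 := Q.card_eq_multiplicity
    rw [hQ, Subgroup.card_bot] at h1
    have hpos : 0 < (Nat.card N).factorization p :=
      Nat.Prime.factorization_pos_of_dvd hp Nat.card_pos.ne' hpN
    have := Nat.one_lt_pow hpos.ne' hp.one_lt
    omega
  · intro n hn
    have hQ₁ : IsPGroup p ((Q : Subgroup N).map N.subtype) := Q.isPGroup'.map _
    obtain ⟨S, hS⟩ := hQ₁.exists_le_sylow
    have key : ∀ x : ↥N, x ∈ (Q : Subgroup N) ↔ (x : H) ∈ (S : Subgroup H) := by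
      intro x
      constructor
      · intro hx
        exact hS ⟨x, hx, rfl⟩
      · intro hx
        have hR : IsPGroup p (((S : Subgroup H) ⊓ N).subgroupOf N) :=
          (S.isPGroup'.to_le inf_le_left).comap_subtype
        have hle : (Q : Subgroup N) ≤ ((S : Subgroup H) ⊓ N).subgroupOf N := by
          intro y hy
          rw [Subgroup.mem_subgroupOf]
          exact ⟨hS ⟨y, hy, rfl⟩, y.2⟩
        have := Q.is_maximal' hR hle
        rw [← this, Subgroup.mem_subgroupOf]
        exact ⟨hx, x.2⟩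
    have hnS : (n : H) ∉ Subgroup.normalizer ((S : Subgroup H) : Set H) := by
      intro hnS
      apply hn
      rw [Subgroup.mem_normalizer_iff]
      intro x
      rw [key, key]
      exact Subgroup.mem_normalizer_iff.mp hnS (x : H)
    have hne : S ≠ (n : H) • S := by
      intro h
      exact hnS (Sylow.smul_eq_iff_mem_normalizer.mp h.symm)
    have h0 := hTI' S ((n : H) • S) hne
    rw [eq_bot_iff]
    intro x hx
    rw [Subgroup.mem_bot]
    have hx1 : (x : H) ∈ (S : Subgroup H) := (key x).mp hx.1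
    have hx2 : n⁻¹ * x * n ∈ (Q : Subgroup N) := H1.mem_conj_smul_iff.mp hx.2
    have hx3 : ((n⁻¹ * x * n : ↥N) : H) ∈ (S : Subgroup H) := (key _).mp hx2
    have hx4 : (x : H) ∈ (((n : H) • S : Sylow p H) : Subgroup H) := by
      rw [H10.mem_smul_sylow]
      simpa using hx3
    have : (x : H) ∈ (S : Subgroup H) ⊓ (((n : H) • S : Sylow p H) : Subgroup H) := ⟨hx1, hx4⟩
    rw [h0, Subgroup.mem_bot] at this
    exact Subtype.ext this


end Cfsg.Agent.S4620
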