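import Cfsg.Statements.S4623
import Cfsg.Agent.Lib.H9.SylSymC
-- import your own Cfsg.Agent.* helpers here

set_option autoImplicit false
open Cfsg

namespace Cfsg.Agent.S4623

open Equiv Cfsg.Agent.Lib.H9.SylSym

theorem not_dvd_relIndex_of_normal {G : Type*} [Group G] [Finite G] {p : ℕ} [Fact p.Prime]
    (P : Sylow p G) (N : Subgroup G) [N.Normal] : ¬ p ∣ (P : Subgroup G).relIndex N := by
  have h1 := Subgroup.relIndex_mul_index (inf_le_right : (P : Subgroup G) ⊓ N ≤ N)
  have h2 := Subgroup.relIndex_mul_index (inf_le_left : (P : Subgroup G) ⊓ N ≤ (P : Subgroup G))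
  rw [Subgroup.inf_relIndex_right] at h1
  rw [Subgroup.inf_relIndex_left] at h2
  obtain ⟨a', ha'⟩ := Subgroup.relIndex_dvd_index_of_normal (H := N) (K := (P : Subgroup G))
  have hd : N.relIndex (P : Subgroup G) ≠ 0 := by
    intro h0
    rw [h0, zero_mul] at h2
    exact Subgroup.index_ne_zero_of_finite h2.symm
  have h3 : (P : Subgroup G).relIndex N * a' = (P : Subgroup G).index := by
    apply Nat.eq_of_mul_eq_mul_left (Nat.pos_of_ne_zero hd)
    calc N.relIndex (P : Subgroup G) * ((P : Subgroup G).relIndex N * a')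
        = (P : Subgroup G).relIndex N * (N.relIndex (P : Subgroup G) * a') := by ring
      _ = (P : Subgroup G).relIndex N * N.index := by rw [← ha']
      _ = N.relIndex (P : Subgroup G) * (P : Subgroup G).index := h1.trans h2.symm
  intro hdvd
  apply P.not_dvd_index
  rw [← h3]
  exact Dvd.dvd.mul_right hdvd a'

theorem genP_sylow_perm {p : ℕ} [Fact p.Prime] (n : ℕ) (P : Sylow p (Perm (Fin n))) :
    GenP p ↥(P : Subgroup (Perm (Fin n))) := by
  obtain ⟨P0, hP0, -⟩ := exists_sylow_genIn (p := p) n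
  exact hP0.genP.of_surjective (Sylow.equiv P0 P).toMonoidHom (Sylow.equiv P0 P).surjective

theorem genP_sylow_alt_odd {p : ℕ} [Fact p.Prime] (hp2 : p ≠ 2) (n : ℕ)
    (Q : Sylow p (alternatingGroup (Fin n))) :
    GenP p ↥(Q : Subgroup (alternatingGroup (Fin n))) := by
  let Q1 : Subgroup (Perm (Fin n)) :=
    (Q : Subgroup (alternatingGroup (Fin n))).map (alternatingGroup (Fin n)).subtype
  have hQ1 : IsPGroup p Q1 := Q.2.map _
  have hidx : ¬ p ∣ Q1.index := by
    rw [Subgroup.index_map_subtype]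
    intro h
    rcases (Nat.Prime.dvd_mul (Fact.out : p.Prime)).mp h with h | h
    · exact Q.not_dvd_index h
    · have h2 : (alternatingGroup (Fin n)).index ∣ 2 := by
        have : alternatingGroup (Fin n) = (Perm.sign : Perm (Fin n) →* ℤˣ).ker := rfl
        rw [this, Subgroup.index_ker]
        have := Subgroup.card_subgroup_dvd_card (Perm.sign : Perm (Fin n) →* ℤˣ).range
        rwa [Nat.card_eq_fintype_card (α := ℤˣ), Fintype.card_units_int] at this
      have h3 := (Nat.prime_dvd_prime_iff_eq (Fact.out : p.Prime) Nat.prime_two).mp (h.trans h2)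
      exact hp2 h3
  let P1 : Sylow p (Perm (Fin n)) := hQ1.toSylow hidx
  have hP1 : GenP p ↥(P1 : Subgroup (Perm (Fin n))) := genP_sylow_perm n P1
  have hcoe : (P1 : Subgroup (Perm (Fin n))) = Q1 := hQ1.toSylow_coe hidx
  have hQ1g : GenP p ↥Q1 := hcoe ▸ hP1
  let e : ↥(Q : Subgroup (alternatingGroup (Fin n))) ≃* ↥Q1 :=
    Subgroup.equivMapOfInjective _ _ (Subgroup.subtype_injective _)
  exact hQ1g.of_surjective e.symm.toMonoidHom e.symm.surjective

theorem genP_sylow_alt_two (n : ℕ) (Q : Sylow 2 (alternatingGroup (Fin n))) :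
    GenP 2 ↥(Q : Subgroup (alternatingGroup (Fin n))) := by
  have : Fact (Nat.Prime 2) := ⟨Nat.prime_two⟩
  obtain ⟨P0, -, hP0⟩ := exists_sylow_genIn (p := 2) n
  have hgen := (hP0 rfl).genP
  let A := alternatingGroup (Fin n)
  let R : Subgroup ↥A := (P0 : Subgroup (Perm (Fin n))).subgroupOf A
  have hR : IsPGroup 2 R := P0.2.comap_subtype
  have hidx : ¬ 2 ∣ R.index := not_dvd_relIndex_of_normal P0 A
  let R' : Sylow 2 ↥A := hR.toSylow hidx
  have hcoe : (R' : Subgroup ↥A) = R := hR.toSylow_coe hidx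
  have e1 : ↥((P0 : Subgroup (Perm (Fin n))) ⊓ A) ≃* ↥R := by
    have h1 : ((P0 : Subgroup (Perm (Fin n))) ⊓ A).subgroupOf A = R :=
      Subgroup.inf_subgroupOf_right _ _
    exact (Subgroup.subgroupOfEquivOfLe (inf_le_right : (P0 : Subgroup (Perm (Fin n))) ⊓ A ≤ A)).symm.trans
      (MulEquiv.subgroupCongr h1)
  have hRg : GenP 2 ↥R := hgen.of_surjective e1.toMonoidHom e1.surjective
  have hR'g : GenP 2 ↥(R' : Subgroup ↥A) := hcoe ▸ hRg
  exact hR'g.of_surjective (Sylow.equiv R' Q).toMonoidHom (Sylow.equiv R' Q).surjective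


/-- For every prime p and every n, a Sylow p-subgroup P of the symmetric group on n letters has P/P' elementary abelian (the p-th power of every element of P lies in the derived subgroup of P), and the same holds for a Sylow p-subgroup of the alternating group on n letters. -/
theorem result (p : ℕ) [Fact p.Prime] (n : ℕ) (P : Sylow p (Equiv.Perm (Fin n))) (Q : Sylow p (alternatingGroup (Fin n))) :
    (∀ x : (P : Subgroup (Equiv.Perm (Fin n))), x ^ p ∈ commutator (P : Subgroup (Equiv.Perm (Fin n)))) ∧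
    (∀ x : (Q : Subgroup (alternatingGroup (Fin n))), x ^ p ∈ commutator (Q : Subgroup (alternatingGroup (Fin n)))) := by
  refine ⟨fun x => (genP_sylow_perm n P).pow_mem_commutator x, fun x => ?_⟩
  by_cases hp2 : p = 2
  · subst hp2
    exact (genP_sylow_alt_two n Q).pow_mem_commutator x
  · exact (genP_sylow_alt_odd hp2 n Q).pow_mem_commutator x

end Cfsg.Agent.S4623
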