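import Cfsg.Statements.S4626
import Cfsg.Agent.Lib.H23.BlockDefect
import Cfsg.Agent.Lib.H24.CharDefl

set_option autoImplicit false
open Cfsg

namespace Cfsg.Agent.S4626

open Cfsg.Agent.Lib.H23 Cfsg.Agent.Lib.H24
open scoped ComplexConjugate

/-- Let G be a finite group, p a prime, M a maximal ideal of the algebraic integers containing p, P a Sylow p-subgroup of G and N a normal subgroup of index prime to p containing the centralizer C_G(P). Then every irreducible character of G whose kernel contains N lies in the principal p-block of G. -/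
theorem result {G : Type*} [Group G] [Finite G] (p : ℕ) [Fact p.Prime] (M : Ideal Cfsg.AlgInt) (hM : Cfsg.IsPModular p M) (P : Sylow p G) (N : Subgroup G) [N.Normal] (hidx : ¬ p ∣ N.index)
    (hC : Subgroup.centralizer ((P : Subgroup G) : Set G) ≤ N) (χ : Cfsg.IrrCharacter G) (hker : ∀ n ∈ N, (χ : G → ℂ) n = (χ : G → ℂ) 1) :
    χ ∈ Cfsg.principalBlock M G := by
  classical
  haveI := Fintype.ofFinite G
  haveI hP := isPrime_of_isPModular hM
  have hp : p.Prime := Fact.out
  have hdeg : ¬ p ∣ charDegree (χ : G → ℂ) := fun h =>
    hidx (h.trans (charDegree_dvd_index χ N hker))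
  have hχ1 : (χ : G → ℂ) 1 = (charDegree (χ : G → ℂ) : ℂ) := apply_one_eq_charDegree _ χ.2
  have hd0 : (charDegree (χ : G → ℂ) : ℂ) ≠ 0 := by
    have := charDegree_pos _ χ.2
    exact_mod_cast this.ne'
  show SameBlock M (fun _ : G => (1 : ℂ)) (χ : G → ℂ)
  intro g
  set C := Subgroup.centralizer ({g} : Set G) with hCdef
  by_cases hdvd : p ∣ C.index
  · -- both central characters are in the local ideal
    have h1 : MemLocalIdeal M (C.index : ℂ) := (natCast_memLocalIdeal_iff hM _).mpr hdvd
    refine memLocalIdeal_sub ?_ ?_
    · show MemLocalIdeal M ((C.index : ℂ) * 1 / 1)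
      rw [mul_one, div_one]; exact h1
    · show MemLocalIdeal M ((C.index : ℂ) * (χ : G → ℂ) g / (χ : G → ℂ) 1)
      rw [hχ1]
      have e : (C.index : ℂ) * (χ : G → ℂ) g / (charDegree (χ : G → ℂ) : ℂ) =
          (C.index : ℂ) * ((χ : G → ℂ) g * (charDegree (χ : G → ℂ) : ℂ)⁻¹) := by
        field_simp
      rw [e]
      refine memLocalIdeal_mul_right h1 (memLocalRing_mul ?_ (memLocalRing_inv_natCast hM hdeg))
      exact isIntegral_mem_localRing (irr_isIntegral χ g)
  · -- a conjugate of P centralizes g, so g ∈ N
    have hgN : g ∈ N := by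
      -- a Sylow subgroup of C is a Sylow subgroup of G
      obtain ⟨Q⟩ : Nonempty (Sylow p C) := inferInstance
      have hQcard : Nat.card (Q : Subgroup C) = p ^ (Nat.card G).factorization p := by
        rw [Sylow.card_eq_multiplicity]
        congr 1
        have h := Subgroup.index_mul_card C
        have h2 : (Nat.card G).factorization p = C.index.factorization p +
            (Nat.card C).factorization p := by
          rw [← h, Nat.factorization_mul]
          · rfl
          · intro h0; rw [h0, zero_mul] at h; exact Nat.card_pos.ne' h.symm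
          · exact Nat.card_pos.ne'
        rw [h2, Nat.factorization_eq_zero_of_not_dvd hdvd, zero_add]
      set Q' : Subgroup G := (Q : Subgroup C).map C.subtype with hQ'
      have hQ'card : Nat.card Q' = p ^ (Nat.card G).factorization p := by
        rw [hQ', Subgroup.card_map_of_injective (Subgroup.subtype_injective _), hQcard]
      have hQ'p : IsPGroup p Q' := IsPGroup.of_card hQ'card
      obtain ⟨S, hS⟩ := hQ'p.exists_le_sylow
      have hSQ : (S : Subgroup G) = Q' := by
        refine (Subgroup.eq_of_le_of_card_ge hS ?_).symm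
        rw [Sylow.card_eq_multiplicity, hQ'card]
      obtain ⟨x, hx⟩ := MulAction.exists_smul_eq G S P
      have hQ'le : Q' ≤ C := by
        rw [hQ']; exact Subgroup.map_subtype_le _
      -- x⁻¹ g x centralizes P... rather: x g x⁻¹ ∈ C_G(P)
      have hmem : x * g * x⁻¹ ∈ Subgroup.centralizer ((P : Subgroup G) : Set G) := by
        rw [Subgroup.mem_centralizer_iff]
        intro s hs
        have hs' : s ∈ (P : Subgroup G) := hs
        rw [← hx, Sylow.coe_subgroup_smul, Subgroup.mem_pointwise_smul_iff_inv_smul_mem,
          MulAut.smul_def, MulAut.conj_inv_apply, hSQ] at hs'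
        have hc := hQ'le hs'
        rw [hCdef, Subgroup.mem_centralizer_singleton_iff] at hc
        -- hc : x⁻¹ * s * x * g = g * (x⁻¹ * s * x)
        calc s * (x * g * x⁻¹) = x * (x⁻¹ * s * x * g) * x⁻¹ := by group
          _ = x * (g * (x⁻¹ * s * x)) * x⁻¹ := by rw [hc]
          _ = x * g * x⁻¹ * s := by group
      have := hC hmem
      have h2 := Subgroup.Normal.conj_mem (inferInstance : N.Normal) _ this x⁻¹
      simpa [mul_assoc] using h2
    have e : centralChar (fun _ : G => (1 : ℂ)) g - centralChar (χ : G → ℂ) g = 0 := by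
      unfold centralChar
      rw [hker g hgN, hχ1]
      field_simp
      ring
    rw [e]
    exact memLocalIdeal_zero hP.ne_top

end Cfsg.Agent.S4626
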