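import Cfsg.Statements.S4629
import Cfsg.Agent.Lib.H9.OmSylK
import Cfsg.Agent.S0286
-- import your own Cfsg.Agent.* helpers here

set_option autoImplicit false
open Cfsg

namespace Cfsg.Agent.S4629

open Cfsg.Agent.Lib.H9.OmSyl Cfsg.Agent.Lib.H9.SqC


/-- Let F be a finite field of odd order and m ≥ 3. For the commutator subgroup Ω of the isometry group of the non-singular quadratic form x₀² + Σ x_i y_i in dimension 2m + 1 over F, a Sylow 2-subgroup P of Ω has P/P' elementary abelian: the square of every element of P lies in the derived subgroup of P. -/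
theorem result {F : Type*} [Field F] [Fintype F] (hF : Odd (Fintype.card F)) (m : ℕ) (hm : 3 ≤ m) (P : Sylow 2 (Cfsg.Omega F (Cfsg.quadFormOdd m F))) : ∀ x : (P : Subgroup (Cfsg.Omega F (Cfsg.quadFormOdd m F))), x ^ 2 ∈ commutator (P : Subgroup (Cfsg.Omega F (Cfsg.quadFormOdd m F))) := by
  intro x
  have h2 := two_ne_zero_of_odd_card hF
  have hq1 : 1 < Fintype.card F := Fintype.one_lt_card
  have hcardι : Fintype.card (Unit ⊕ (Fin m ⊕ Fin m)) = 2 * m + 1 := by
    simp
    ring
  let e : Unit ⊕ (Fin m ⊕ Fin m) ≃ Fin (2 * m + 1) := Fintype.equivFinOfCardEq hcardι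
  have hval := (val_rotT (F := F) hF).1
  refine sylow_general_last (Cfsg.Agent.S0286.oddQF F m) (Cfsg.quadFormOdd m F)
    (Cfsg.Agent.S0286.coe_oddQF m) (Cfsg.Agent.S0286.nondeg h2 m) h2 e (k := m) (l := 1)
    (by omega) le_rfl rfl ?_ P x
  rw [Cfsg.Agent.S0286.result rfl hF m, v2_order_odd _ hF hq1, hval]
  apply le_of_eq
  ring


end Cfsg.Agent.S4629
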