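import Cfsg.Statements.S4630
import Cfsg.Agent.Lib.H9.OmSylK
import Cfsg.Agent.S0287
import Cfsg.Agent.S2620
-- import your own Cfsg.Agent.* helpers here

set_option autoImplicit false
open Cfsg

namespace Cfsg.Agent.S4630

open Cfsg.Agent.Lib.H9.OmSyl Cfsg.Agent.Lib.H9.SqC


/-- Let F be a finite field of odd order and m ≥ 1 with m even or m ≥ 4. For the commutator subgroup Ω of the isometry group of the plus-type quadratic form Σ_{i<m} x_i y_i in dimension 2m over F, a Sylow 2-subgroup P of Ω has P/P' elementary abelian: the square of every element of P lies in the derived subgroup of P. -/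
theorem result {F : Type*} [Field F] [Fintype F] (hF : Odd (Fintype.card F)) (m : ℕ) (hm : 1 ≤ m) (hm' : Even m ∨ 4 ≤ m) (P : Sylow 2 (Cfsg.Omega F (Cfsg.quadFormPlus m F))) : ∀ x : (P : Subgroup (Cfsg.Omega F (Cfsg.quadFormPlus m F))), x ^ 2 ∈ commutator (P : Subgroup (Cfsg.Omega F (Cfsg.quadFormPlus m F))) := by
  intro x
  have h2 := two_ne_zero_of_odd_card hF
  have hq1 : 1 < Fintype.card F := Fintype.one_lt_card
  have hcardι : Fintype.card (Fin m ⊕ Fin m) = 2 * m := by
    simp
    ring
  let e : Fin m ⊕ Fin m ≃ Fin (2 * m) := Fintype.equivFinOfCardEq hcardι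
  have hval := (val_rotT (F := F) hF).1
  have hord := Cfsg.Agent.S0287.result (F := F) rfl m hm
  have hv2 := v2_order_plus _ hF hq1 m hm
  have hfac := v2_factorial_pred _ hF hq1 m hm
  have hcoe : ⇑(Cfsg.Agent.Lib.H13.plusQF F m) = Cfsg.quadFormPlus m F :=
    funext (Cfsg.Agent.Lib.H13.plusQF_apply F m)
  have hmod : Fintype.card F % 4 = 1 ∨ Fintype.card F % 4 = 3 := by
    rcases hF with ⟨t, ht⟩
    omega
  by_cases hbig : Even m ∨ Fintype.card F % 4 = 1
  · -- big case
    have hk : 2 ≤ m := by
      rcases hm' with h | h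
      · rcases h with ⟨j, hj⟩
        omega
      · omega
    refine sylow_general_big (Cfsg.Agent.Lib.H13.plusQF F m) (Cfsg.quadFormPlus m F) hcoe
      (Cfsg.Agent.S0287.nondeg m) h2 e (k := m) hk (by ring) ?_ ?_ P x
    · intro b
      rw [Cfsg.Agent.S2620.result rfl hF hm b]
      rcases hbig with ⟨j, hj⟩ | h4
      · obtain ⟨t, ht⟩ : ∃ t, Fintype.card F - 1 = 2 * t := by
          rcases hF with ⟨t, ht⟩
          exact ⟨t, by omega⟩
        have : m * (Fintype.card F - 1) / 2 = 2 * (j * t) := by
          rw [hj, ht]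
          have : (j + j) * (2 * t) = 2 * (2 * (j * t)) := by ring
          rw [this, Nat.mul_div_cancel_left _ (by norm_num : 0 < 2)]
        rw [this]
        exact even_two_mul _
      · obtain ⟨t, ht⟩ : ∃ t, Fintype.card F - 1 = 4 * t := ⟨Fintype.card F / 4, by omega⟩
        have : m * (Fintype.card F - 1) / 2 = 2 * (m * t) := by
          rw [ht]
          have : m * (4 * t) = 2 * (2 * (m * t)) := by ring
          rw [this, Nat.mul_div_cancel_left _ (by norm_num : 0 < 2)]
        rw [this]
        exact even_two_mul _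
    · rw [hord, hv2, hval, hfac]
      obtain ⟨r, rfl⟩ : ∃ r, m = r + 1 := ⟨m - 1, by omega⟩
      simp only [Nat.add_sub_cancel]
      rcases Nat.even_or_odd (r + 1) with hev | hodd
      · obtain ⟨j, hj⟩ := hev
        have hj0 : j ≠ 0 := by omega
        have h1 : Fintype.card F ^ (r + 1) - 1 = Fintype.card F ^ (2 * j) - 1 := by
          rw [hj, two_mul]
        have h3 : padicValNat 2 (r + 1) = 1 + padicValNat 2 j := by
          rw [hj, ← two_mul, padicValNat.mul (by norm_num) hj0, padicValNat_self]
        rw [h1, v2_pow_sub_one_even _ hF hq1 j hj0, h3]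
        apply le_of_eq
        ring
      · have h4 : Fintype.card F % 4 = 1 := by
          rcases hbig with h | h
          · exact absurd h (Nat.not_even_iff_odd.2 hodd)
          · exact h
        have hA2 : padicValNat 2 (Fintype.card F + 1) = 1 :=
          padicValNat_two_of_mod_four (by omega)
        have h3 : padicValNat 2 (r + 1) = 0 := by
          apply padicValNat.eq_zero_of_not_dvd
          rcases hodd with ⟨j, hj⟩
          omega
        rw [v2_pow_sub_one_odd _ hF hq1 (r + 1) hodd, h3, hA2]
        apply le_of_eq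
        ring
  · -- small case
    push Not at hbig
    obtain ⟨hmodd, h4⟩ := hbig
    have hmodd' : Odd m := Nat.not_even_iff_odd.1 hmodd
    have h43 : Fintype.card F % 4 = 3 := by omega
    have hm4 : 4 ≤ m := by
      rcases hm' with h | h
      · exact absurd h hmodd
      · exact h
    refine sylow_general_last (Cfsg.Agent.Lib.H13.plusQF F m) (Cfsg.quadFormPlus m F) hcoe
      (Cfsg.Agent.S0287.nondeg m) h2 e (k := m - 1) (l := 2) (by omega) (by norm_num) (by omega)
      ?_ P x
    have hA1 : padicValNat 2 (Fintype.card F - 1) = 1 :=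
      padicValNat_two_of_mod_four (by omega)
    rw [hord, hv2, hval, v2_pow_sub_one_odd _ hF hq1 m hmodd', hA1]
    apply le_of_eq
    ring


end Cfsg.Agent.S4630
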