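import Cfsg.Statements.S4631
import Cfsg.Agent.Lib.H9.OmSylK
import Cfsg.Agent.S0288
import Cfsg.Agent.S2621
-- import your own Cfsg.Agent.* helpers here

set_option autoImplicit false
open Cfsg

namespace Cfsg.Agent.S4631

open Cfsg.Agent.Lib.H9.OmSyl Cfsg.Agent.Lib.H9.SqC


/-- Let F be a finite field of odd order, m ≥ 4, and a, b ∈ F with z₁² + a z₁ z₂ + b z₂² anisotropic. For the commutator subgroup Ω of the isometry group of the minus-type quadratic form Σ_{i<m−1} x_i y_i + (z₁² + a z₁ z₂ + b z₂²) in dimension 2m over F, a Sylow 2-subgroup P of Ω has P/P' elementary abelian: the square of every element of P lies in the derived subgroup of P. -/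
theorem result {F : Type*} [Field F] [Fintype F] (hF : Odd (Fintype.card F)) (m : ℕ) (hm : 4 ≤ m) (a b : F) (hab : ∀ z₁ z₂ : F, z₁ ^ 2 + a * z₁ * z₂ + b * z₂ ^ 2 = 0 → z₁ = 0 ∧ z₂ = 0) (P : Sylow 2 (Cfsg.Omega F (Cfsg.quadFormMinus (m - 1) F a b))) : ∀ x : (P : Subgroup (Cfsg.Omega F (Cfsg.quadFormMinus (m - 1) F a b))), x ^ 2 ∈ commutator (P : Subgroup (Cfsg.Omega F (Cfsg.quadFormMinus (m - 1) F a b))) := by
  intro x
  have h2 := two_ne_zero_of_odd_card hF
  have hq1 : 1 < Fintype.card F := Fintype.one_lt_card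
  have hcardι : Fintype.card ((Fin (m - 1) ⊕ Fin (m - 1)) ⊕ Fin 2) = 2 * m := by
    simp
    omega
  let e : (Fin (m - 1) ⊕ Fin (m - 1)) ⊕ Fin 2 ≃ Fin (2 * m) := Fintype.equivFinOfCardEq hcardι
  have hval := (val_rotT (F := F) hF).1
  have hord := Cfsg.Agent.S0288.result (F := F) rfl m (by omega) a b hab
  have hv2 := v2_order_minus _ hF hq1 m
  have hfac := v2_factorial_pred _ hF hq1 m (by omega)
  have hcoe : ⇑(Cfsg.Agent.Lib.H13.minusQF F (m - 1) a b) = Cfsg.quadFormMinus (m - 1) F a b :=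
    funext (Cfsg.Agent.Lib.H13.minusQF_apply F (m - 1) a b)
  have hnd := Cfsg.Agent.S0288.nondeg a b hab (m - 1)
  have hmod : Fintype.card F % 4 = 1 ∨ Fintype.card F % 4 = 3 := by
    rcases hF with ⟨t, ht⟩
    omega
  by_cases hbig : Odd m ∧ Fintype.card F % 4 = 3
  · -- big case
    obtain ⟨hmodd, h43⟩ := hbig
    refine sylow_general_big (Cfsg.Agent.Lib.H13.minusQF F (m - 1) a b)
      (Cfsg.quadFormMinus (m - 1) F a b) hcoe hnd h2 e (k := m) (by omega) (by ring) ?_ ?_ P x
    · intro bb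
      rw [Cfsg.Agent.S2621.result rfl hF (by omega) a b hab bb]
      obtain ⟨t, ht⟩ : ∃ t, Fintype.card F - 1 = 2 * (2 * t + 1) :=
        ⟨Fintype.card F / 4, by omega⟩
      have : m * (Fintype.card F - 1) / 2 = m * (2 * t + 1) := by
        rw [ht]
        have : m * (2 * (2 * t + 1)) = 2 * (m * (2 * t + 1)) := by ring
        rw [this, Nat.mul_div_cancel_left _ (by norm_num : 0 < 2)]
      rw [this, Nat.not_even_iff_odd]
      exact hmodd.mul ⟨t, rfl⟩
    · have hA1 : padicValNat 2 (Fintype.card F - 1) = 1 :=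
        padicValNat_two_of_mod_four (by omega)
      have h3 : padicValNat 2 m = 0 := by
        apply padicValNat.eq_zero_of_not_dvd
        rcases hmodd with ⟨j, hj⟩
        omega
      rw [hord, hv2, hval, hfac, v2_pow_add_one_odd _ hF hq1 m hmodd, hA1, h3]
      obtain ⟨r, rfl⟩ : ∃ r, m = r + 1 := ⟨m - 1, by omega⟩
      simp only [Nat.add_sub_cancel]
      apply le_of_eq
      ring
  · -- small case
    have hpow : Fintype.card F ^ m % 4 = 1 := by
      rcases Nat.even_or_odd m with hev | hodd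
      · exact pow_mod_four_of_even _ hF hq1 m hev
      · have h41 : Fintype.card F % 4 = 1 := by
          rcases hmod with h | h
          · exact h
          · exact absurd ⟨hodd, h⟩ hbig
        exact pow_mod_four_of_one _ hF hq1 m h41
    refine sylow_general_last (Cfsg.Agent.Lib.H13.minusQF F (m - 1) a b)
      (Cfsg.quadFormMinus (m - 1) F a b) hcoe hnd h2 e (k := m - 1) (l := 2) (by omega)
      (by norm_num) (by omega) ?_ P x
    rw [hord, hv2, hval, v2_pow_add_one_of_mod _ hF hq1 m hpow]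
    apply le_of_eq
    ring


end Cfsg.Agent.S4631
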