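import Cfsg.Statements.S4632
import Cfsg.Agent.Lib.H9.G2OctE
import Cfsg.Agent.Lib.H9.G2OctF
import Cfsg.Agent.Lib.H9.G2OctH
-- import your own Cfsg.Agent.* helpers here

set_option autoImplicit false
open Cfsg

namespace Cfsg.Agent.S4632

open Cfsg.Agent.Lib.H9.G2Oct Cfsg.Agent.Lib.H9.SqC

/-- the embedding of `G₂(F)` into the linear automorphisms of `F⁸` -/
noncomputable def iotaG (F : Type*) [Field F] :
    ↥(Cfsg.Lie.G2 F) →* ((Fin 8 → F) ≃ₗ[F] (Fin 8 → F)) :=
  (AutO F).subtype.comp (g2Equiv F).toMonoidHom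

theorem iotaG_injective (F : Type*) [Field F] : Function.Injective (iotaG F) := by
  intro a b h
  apply (g2Equiv F).injective
  apply Subtype.ext
  exact h

theorem iotaG_range (F : Type*) [Field F] : (iotaG F).range = AutO F := by
  ext f
  constructor
  · rintro ⟨g, rfl⟩
    exact (g2Equiv F g).2
  · intro hf
    refine ⟨(g2Equiv F).symm ⟨f, hf⟩, ?_⟩
    change ((g2Equiv F) ((g2Equiv F).symm ⟨f, hf⟩)).1 = f
    rw [MulEquiv.apply_symm_apply]

theorem exists_large {F : Type*} [Field F] [Fintype F] (hF : Odd (Fintype.card F)) :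
    ∃ H : Subgroup ((Fin 8 → F) ≃ₗ[F] (Fin 8 → F)), IsPGroup 2 ↥H ∧ H ≤ AutO F ∧ SqComm H ∧
      2 ^ (2 * (padicValNat 2 (Fintype.card F - 1) + padicValNat 2 (Fintype.card F + 1))) ≤
        Nat.card ↥H := by
  have hq := Nat.odd_iff.1 hF
  have h4 : Fintype.card F % 4 = 1 ∨ Fintype.card F % 4 = 3 := by omega
  rcases h4 with h1 | h3
  · have Z : Sylow 2 Fˣ := default
    refine ⟨P2 (F := F) (Z : Subgroup Fˣ), P2_isPGroup _ (two_ne_zero_of_odd_card hF) Z.isPGroup',
      P2_le_AutO _, P2_sqComm _, ?_⟩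
    refine le_trans ?_ (card_P2 (Z : Subgroup Fˣ) (two_ne_zero_of_odd_card hF))
    rw [card_units_sylow Z, padicValNat_two_of_mod_four (n := Fintype.card F + 1) (by omega)]
    apply le_of_eq
    rw [mul_add, pow_add, two_mul (padicValNat 2 (Fintype.card F - 1)), pow_add]
    norm_num
    ring
  · have S : Sylow 2 (GL (Fin 2) F) := default
    exact ⟨P3 S, P3_isPGroup S, P3_le_AutO S, P3_sqComm S h3, card_P3 S h3⟩


/-- Let F be a finite field of odd order and G₂(F) the automorphism group of the split octonion algebra over F (realized on F⁸ with the Zorn vector-matrix multiplication). A Sylow 2-subgroup P of G₂(F) has P/P' elementary abelian: the square of every element of P lies in the derived subgroup of P. -/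
theorem result {F : Type*} [Field F] [Fintype F] (hF : Odd (Fintype.card F)) (P : Sylow 2 (Cfsg.Lie.G2 F)) : ∀ x : (P : Subgroup (Cfsg.Lie.G2 F)), x ^ 2 ∈ commutator (P : Subgroup (Cfsg.Lie.G2 F)) := by
  obtain ⟨H, hH, hle, hsq, hcard⟩ := exists_large hF
  have hfin : Finite ↥(Cfsg.Lie.G2 F) := inferInstance
  have hc : 2 ^ padicValNat 2 (Nat.card ↥(Cfsg.Lie.G2 F)) ≤ Nat.card ↥H :=
    le_trans (Nat.pow_le_pow_right (by norm_num) (v2_card_G2 hF)) hcard
  obtain ⟨e⟩ := sylow_equiv_of_card_le (iotaG F) (iotaG_injective F) H hH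
    (by rw [iotaG_range]; exact hle) hc P
  exact (sqComm_of_mulEquiv e.symm hsq).subtype

end Cfsg.Agent.S4632
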