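import Cfsg.Statements.S4633
import Cfsg.Agent.Lib.H23.MaxPairC
import Cfsg.Agent.Lib.H23.CycAut
open Cfsg.Agent.Lib.H23 Cfsg.Agent.Lib.H23.MaxPair Cfsg.Agent.Lib.L0 Cfsg.Agent.Lib.L0.BrauerCentric

set_option autoImplicit false
open Cfsg

namespace Cfsg.Agent.S4633

/-- Let B be a block of the finite group G relative to a maximal ideal M of the algebraic integers containing the prime p, with a nontrivial cyclic defect group P. Let c be a block of C_G(P) inducing B and T the stabilizer of c in N_G(P) (the elements of N_G(P) conjugating c to itself); T contains C_G(P). Then T/C_G(P) is cyclic of order dividing p − 1, and it acts freely on the non-identity elements of P: an element of T fixing some non-identity element of P under conjugation lies in C_G(P). -/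
theorem result {G : Type*} [Group G] [Finite G] (p : ℕ) [Fact p.Prime] (M : Ideal Cfsg.AlgInt) (hM : Cfsg.IsPModular p M) (B : Set (Cfsg.IrrCharacter G)) (hB : Cfsg.IsPBlock M B) (P : Subgroup G) (hPD : Cfsg.IsDefectGroup p M B P) (hP1 : P ≠ ⊥) (hcyc : IsCyclic P) (c : Set (Cfsg.IrrCharacter (Subgroup.centralizer (P : Set G)))) (hc : Cfsg.IsInducedBlock M (Subgroup.centralizer (P : Set G)) c B) (T : Subgroup G) (hT : ∀ g : G, g ∈ T ↔ (g ∈ Subgroup.normalizer (P : Set G) ∧ Cfsg.StabilizesBlock (Subgroup.centralizer (P : Set G)) c g)) [hn : ((Subgroup.centralizer (P : Set G)).subgroupOf T).Normal] : IsCyclic (T ⧸ (Subgroup.centralizer (P : Set G)).subgroupOf T) ∧ (Subgroup.centralizer (P : Set G)).relIndex T ∣ p - 1 ∧ ∀ g ∈ T, ∀ x ∈ P, x ≠ 1 → g * x * g⁻¹ = x → g ∈ Subgroup.centralizer (P : Set G) := by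
  classical
  haveI := Fintype.ofFinite G
  haveI hPr := isPrime_of_isPModular hM
  have hPp : IsPGroup p P := isPGroup_of_isDefectGroup hPD
  haveI : Fintype (CC P) := Fintype.ofFinite _
  have hpair := isBrauerPairOf_of_induced hM hPp hc
  have hmax := isMaximal_of_defectGroup hM hpair hPD
  have hab : ∀ a ∈ P, ∀ b ∈ P, a * b = b * a := by
    intro a ha b hb
    have := isMulCommutative_iff.1 (IsCyclic.isMulCommutative (α := P)) ⟨a, ha⟩ ⟨b, hb⟩
    exact congrArg Subtype.val this
  have hPC : P ≤ CC P := by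
    intro a ha
    rw [Subgroup.mem_centralizer_iff]
    intro b hb
    exact hab b hb a ha
  have hHH : HH P = Subgroup.centralizer (P : Set G) := sup_eq_right.2 hPC
  have hnd := not_dvd_relIndex_of_maximal hM hmax T hT
  have hnd' : ¬ p ∣ (Subgroup.centralizer (P : Set G)).relIndex T := by
    rwa [hHH] at hnd
  have hCT : Subgroup.centralizer (P : Set G) ≤ T := fun g hg =>
    (hT g).2 ⟨CC_le_LL P hg, stabilizesBlock_of_mem_sup P c (Subgroup.mem_sup_right hg)⟩
  have hTN : T ≤ Subgroup.normalizer (P : Set G) := fun g hg => ((hT g).1 hg).1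
  exact Cfsg.Agent.Lib.H23.CycAut.cyclic_quotient P hPp hP1 hcyc T hCT hTN hnd' 

end Cfsg.Agent.S4633
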