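import Cfsg.Statements.S4636
import Mathlib

set_option autoImplicit false
open scoped Pointwise
open Cfsg

namespace Cfsg.Agent.S4636

/-- In a cyclic subgroup `P`, a subgroup `Z ≤ P` of prime order `p` contains every element of `P`
whose `p`-th power is trivial. -/
theorem mem_of_pow_eq_one {G : Type*} [Group G] [Finite G] (p : ℕ) [hp : Fact p.Prime]
    (P : Subgroup G) (hcyc : IsCyclic P) (Z : Subgroup G) (hZ : Z ≤ P) (hZcard : Nat.card Z = p)
    (y : G) (hyP : y ∈ P) (hy : y ^ p = 1) : y ∈ Z := by
  classical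
  haveI : Fintype P := Fintype.ofFinite P
  have hle := IsCyclic.card_pow_eq_one_le (α := P) (n := p) hp.out.pos
  -- the image of Z in P
  let S : Finset P := Finset.univ.filter (fun a : P => a ^ p = 1)
  let T : Finset P := Finset.univ.filter (fun a : P => (a : G) ∈ Z)
  have hTS : T ⊆ S := by
    intro a ha
    simp only [T, S, Finset.mem_filter, Finset.mem_univ, true_and] at ha ⊢
    have : (⟨(a : G), ha⟩ : Z) ^ p = 1 := by
      have := pow_card_eq_one' (G := Z) (x := ⟨(a : G), ha⟩)
      rwa [hZcard] at this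
    have h2 : ((a : G)) ^ p = 1 := by
      have := congrArg (fun z : Z => (z : G)) this
      simpa using this
    exact Subtype.ext (by simpa using h2)
  have hTcard : T.card = p := by
    rw [← hZcard]
    have : Nat.card Z = Nat.card {a : P // (a : G) ∈ Z} := by
      apply Nat.card_congr
      exact
        { toFun := fun z => ⟨⟨(z : G), hZ z.2⟩, z.2⟩
          invFun := fun a => ⟨(a.1 : G), a.2⟩
          left_inv := fun z => rfl
          right_inv := fun a => rfl }
    rw [this, Nat.card_eq_fintype_card, Fintype.card_subtype]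
  have hST : S = T := by
    symm
    apply Finset.eq_of_subset_of_card_le hTS
    rw [hTcard]
    exact hle
  have : (⟨y, hyP⟩ : P) ∈ S := by
    simp only [S, Finset.mem_filter, Finset.mem_univ, true_and]
    exact Subtype.ext (by simpa using hy)
  rw [hST] at this
  simpa [T] using this

/-- A nontrivial subgroup `Q` of a cyclic `p`-group `P` contains the subgroup `Z` of order `p`. -/
theorem le_of_ne_bot {G : Type*} [Group G] [Finite G] (p : ℕ) [hp : Fact p.Prime]
    (P : Subgroup G) (hP : IsPGroup p P) (hcyc : IsCyclic P) (Z : Subgroup G) (hZ : Z ≤ P)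
    (hZcard : Nat.card Z = p) (Q : Subgroup G) (hQ : Q ≤ P) (hQ1 : Q ≠ ⊥) : Z ≤ Q := by
  have hQp : IsPGroup p Q := hP.to_le hQ
  have hdvd : p ∣ Nat.card Q := by
    rcases hQp.card_eq_or_dvd with h | h
    · exact absurd (Subgroup.card_eq_one.mp h) hQ1
    · exact h
  obtain ⟨w, hw⟩ := exists_prime_orderOf_dvd_card' p hdvd
  have hwG : orderOf (w : G) = p := by rw [Subgroup.orderOf_coe]; exact hw
  have hwZ : (w : G) ∈ Z := by
    apply mem_of_pow_eq_one p P hcyc Z hZ hZcard _ (hQ w.2)
    rw [← hwG]; exact pow_orderOf_eq_one _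
  have hzp : Subgroup.zpowers (w : G) = Z := by
    apply Subgroup.eq_of_le_of_card_ge
    · exact Subgroup.zpowers_le.mpr hwZ
    · rw [Nat.card_zpowers, hwG, hZcard]
  rw [← hzp]
  exact Subgroup.zpowers_le.mpr w.2

/-- Let P be a nontrivial cyclic p-subgroup of the finite group G and Z its subgroup of order p. For every x outside N_G(Z), P meets its conjugate xPx⁻¹ trivially; consequently N_G(Q) ≤ N_G(Z) for every nontrivial subgroup Q of P. -/
theorem result {G : Type*} [Group G] [Finite G] (p : ℕ) [Fact p.Prime] (P : Subgroup G) (hP : IsPGroup p P) (hP1 : P ≠ ⊥) (hcyc : IsCyclic P) (Z : Subgroup G) (hZ : Z ≤ P) (hZcard : Nat.card Z = p) : (∀ x : G, x ∉ Subgroup.normalizer (Z : Set G) → P ⊓ MulAut.conj x • P = ⊥) ∧ ∀ Q : Subgroup G, Q ≤ P → Q ≠ ⊥ → Subgroup.normalizer (Q : Set G) ≤ Subgroup.normalizer (Z : Set G) := by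
  -- every element of Z has trivial p-th power
  have hZpow : ∀ z ∈ Z, z ^ p = 1 := by
    intro z hz
    have := pow_card_eq_one' (G := Z) (x := ⟨z, hz⟩)
    rw [hZcard] at this
    have := congrArg (fun z : Z => (z : G)) this
    simpa using this
  -- conjugation by an element normalizing a nontrivial Q ≤ P maps Z into Z
  have hconj : ∀ Q : Subgroup G, Q ≤ P → Q ≠ ⊥ → ∀ g ∈ Subgroup.normalizer (Q : Set G),
      ∀ z ∈ Z, g * z * g⁻¹ ∈ Z := by
    intro Q hQ hQ1 g hg z hz
    have hZQ : Z ≤ Q := le_of_ne_bot p P hP hcyc Z hZ hZcard Q hQ hQ1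
    have h1 : g * z * g⁻¹ ∈ Q := (Subgroup.mem_normalizer_iff.mp hg z).mp (hZQ hz)
    apply mem_of_pow_eq_one p P hcyc Z hZ hZcard _ (hQ h1)
    rw [conj_pow, hZpow z hz]; simp
  constructor
  · intro x hx
    by_contra hne
    apply hx
    set R := P ⊓ MulAut.conj x • P with hR
    have hRP : R ≤ P := inf_le_left
    have hRxP : R ≤ MulAut.conj x • P := inf_le_right
    -- the conjugate data
    have hxP : IsPGroup p (MulAut.conj x • P : Subgroup G) :=
      hP.of_equiv (Subgroup.equivSMul (MulAut.conj x) P)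
    have hxcyc : IsCyclic (MulAut.conj x • P : Subgroup G) :=
      isCyclic_of_surjective (Subgroup.equivSMul (MulAut.conj x) P)
        (Subgroup.equivSMul (MulAut.conj x) P).surjective
    have hxZ : MulAut.conj x • Z ≤ MulAut.conj x • P :=
      Subgroup.pointwise_smul_le_pointwise_smul_iff.mpr hZ
    have hxZcard : Nat.card (MulAut.conj x • Z : Subgroup G) = p := by
      rw [← hZcard]
      exact (Nat.card_congr (Subgroup.equivSMul (MulAut.conj x) Z).toEquiv).symm
    have h1 : Z ≤ R := le_of_ne_bot p P hP hcyc Z hZ hZcard R hRP hne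
    have h2 : MulAut.conj x • Z ≤ R :=
      le_of_ne_bot p _ hxP hxcyc _ hxZ hxZcard R hRxP hne
    -- x • Z ≤ Z
    have h3 : MulAut.conj x • Z ≤ Z := by
      intro y hy
      apply mem_of_pow_eq_one p P hcyc Z hZ hZcard y (hRP (h2 hy))
      obtain ⟨z, hz, rfl⟩ := hy
      simp only [MulDistribMulAction.toMonoidEnd_apply, MulDistribMulAction.toMonoidHom_apply,
        MulAut.smul_def, MulAut.conj_apply]
      rw [conj_pow, hZpow z hz]; simp
    have h4 : MulAut.conj x • Z = Z := by
      apply Subgroup.eq_of_le_of_card_ge h3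
      rw [hxZcard, hZcard]
    rw [Subgroup.mem_normalizer_iff_map_conj_eq]
    rw [Subgroup.pointwise_smul_def] at h4
    exact h4
  · intro Q hQ hQ1 g hg
    rw [Subgroup.mem_normalizer_iff]
    intro z
    constructor
    · exact hconj Q hQ hQ1 g hg z
    · intro h
      have := hconj Q hQ hQ1 g⁻¹ (inv_mem hg) _ h
      simpa [mul_assoc] using this

end Cfsg.Agent.S4636
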