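import Cfsg.Statements.S4637
import Mathlib
import Cfsg.Agent.Lib.H22.KleinE1
import Cfsg.Agent.Lib.H22.KleinGroup

set_option autoImplicit false
open Cfsg

namespace Cfsg.Agent.S4637

open Cfsg.Agent.Lib.H23 Cfsg.Agent.Lib.H24 Cfsg.Agent.Lib.L0
  Cfsg.Agent.Lib.L0.BrauerSubpair Cfsg.Agent.Lib.L0.BrauerConj
  Cfsg.Agent.Lib.L0.BrauerCentric Cfsg.Agent.Lib.L0.BrauerFully
  Cfsg.Agent.Lib.L0.BrauerAutomizer Cfsg.Agent.Lib.L0.BrauerAbelian
  Cfsg.Agent.Lib.H22.Subsec Cfsg.Agent.Lib.H22.KleinGroup

/-- `e ∣ 24` and `e` odd force `e ∈ {1, 3}`. -/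
theorem one_or_three {e : ℕ} (hdvd : e ∣ 24) (hodd : ¬ 2 ∣ e) : e = 1 ∨ e = 3 := by
  have h1 := Nat.le_of_dvd (by norm_num) hdvd
  have h2 := Nat.pos_of_dvd_of_pos hdvd (by norm_num)
  interval_cases e <;> omega

/-- `|N(P) : C(P)|` divides `(#P)!`. -/
theorem relIndex_dvd_factorial {G : Type*} [Group G] [Finite G] (P : Subgroup G) :
    (Subgroup.centralizer (P : Set G)).relIndex (Subgroup.normalizer (P : Set G)) ∣
      (Nat.card P).factorial := by
  have key := Subgroup.card_dvd_of_injective _
    (QuotientGroup.kerLift_injective P.normalizerMonoidHom)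
  rw [Subgroup.normalizerMonoidHom_ker, ← Subgroup.index, ← Subgroup.relIndex] at key
  refine key.trans ?_
  have hinj : Function.Injective (MulAut.toPerm P) := by
    intro a b hab
    apply MulEquiv.ext
    intro x
    exact congrArg (fun σ : Equiv.Perm P => σ x) hab
  have h := Subgroup.card_dvd_of_injective (MulAut.toPerm P) hinj
  rwa [Nat.card_perm] at h

section Klein

variable {G : Type*} [Group G] {P : Subgroup G}

/-- An element of the normalizer of a Klein four group `P` whose cube centralizes `P` and which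
fixes a non-identity element of `P` centralizes `P`. -/
theorem mem_centralizer_of_fix [Finite G] (hcard : Nat.card P = 4) (hexp : ∀ x ∈ P, x * x = 1)
    {y : G} (hyN : y ∈ Subgroup.normalizer (P : Set G))
    (hy3 : y ^ 3 ∈ Subgroup.centralizer (P : Set G)) {u : G} (hu : u ∈ P) (hu1 : u ≠ 1)
    (hfix : y * u * y⁻¹ = u) : y ∈ Subgroup.centralizer (P : Set G) := by
  classical
  haveI : Fintype G := Fintype.ofFinite G
  -- a second generator
  have hU := card_nonidentity hcard
  have hne : ((Finset.univ.filter (fun g : G => g ∈ P ∧ g ≠ 1)).erase u).Nonempty := by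
    rw [← Finset.card_pos, Finset.card_erase_of_mem
      (Finset.mem_filter.2 ⟨Finset.mem_univ _, hu, hu1⟩), hU]
    norm_num
  obtain ⟨v, hv⟩ := hne
  obtain ⟨hvu, hv'⟩ := Finset.mem_erase.1 hv
  obtain ⟨hvP, hv1⟩ := (Finset.mem_filter.1 hv').2
  have henum := klein_enum P hcard hexp hu hu1 hvP hv1 hvu
  have hwP : y * v * y⁻¹ ∈ P := (Subgroup.mem_normalizer_iff.1 hyN v).1 hvP
  have hcent : y * v * y⁻¹ = v → y ∈ Subgroup.centralizer (P : Set G) := by
    intro hvfix
    rw [Subgroup.mem_centralizer_iff]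
    intro x hx
    have hcu : u * y = y * u := by
      calc u * y = (y * u * y⁻¹) * y := by rw [hfix]
        _ = y * u := by group
    have hcv : v * y = y * v := by
      calc v * y = (y * v * y⁻¹) * y := by rw [hvfix]
        _ = y * v := by group
    rcases henum x hx with rfl | rfl | rfl | rfl
    · simp
    · exact hcu
    · exact hcv
    · calc v * u * y = v * (u * y) := by group
        _ = v * (y * u) := by rw [hcu]
        _ = (v * y) * u := by group
        _ = (y * v) * u := by rw [hcv]
        _ = y * (v * u) := by group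
  rcases henum _ hwP with h | h | h | h
  · exfalso
    apply hv1
    have e1 : v = y⁻¹ * (y * v * y⁻¹) * y := by group
    rw [e1, h]
    group
  · exfalso
    apply hvu
    have e1 : y * v * y⁻¹ = y * u * y⁻¹ := h.trans hfix.symm
    exact mul_left_cancel (mul_right_cancel e1)
  · exact hcent h
  · exfalso
    apply hu1
    have h2 : y * (v * u) * y⁻¹ = v := by
      calc y * (v * u) * y⁻¹ = (y * v * y⁻¹) * (y * u * y⁻¹) := by group
        _ = v * u * u := by rw [h, hfix]
        _ = v * (u * u) := by group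
        _ = v := by rw [hexp u hu, mul_one]
    have h3 : y ^ 3 * v * (y ^ 3)⁻¹ = v * u := by
      calc y ^ 3 * v * (y ^ 3)⁻¹ = y * (y * (y * v * y⁻¹) * y⁻¹) * y⁻¹ := by
            rw [pow_succ, pow_two]; group
        _ = y * (y * (v * u) * y⁻¹) * y⁻¹ := by rw [h]
        _ = y * v * y⁻¹ := by rw [h2]
        _ = v * u := h
    have h4 : v * y ^ 3 = y ^ 3 * v := Subgroup.mem_centralizer_iff.1 hy3 v hvP
    have h5 : y ^ 3 * v * (y ^ 3)⁻¹ = v := by
      rw [← h4]
      group
    rw [h5] at h3
    have h6 : v * 1 = v * u := by rw [mul_one]; exact h3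
    exact (mul_left_cancel h6).symm

end Klein

/-- Let B be a block of the finite group G relative to a maximal ideal M of the algebraic integers containing 2, with a Klein four defect group P. Let c be a block of C_G(P) inducing B, T the stabilizer of c in N_G(P) and e the index of C_G(P) in T (the inertial index). Then e is 1 or 3, B contains exactly four irreducible characters, and the 2-regular rank of B (its number of irreducible Brauer characters) equals e. -/
theorem result {G : Type*} [Group G] [Finite G] (M : Ideal Cfsg.AlgInt) (hM : Cfsg.IsPModular 2 M) (B : Set (Cfsg.IrrCharacter G)) (hB : Cfsg.IsPBlock M B) (P : Subgroup G) (hPD : Cfsg.IsDefectGroup 2 M B P) (hV : IsKleinFour P) (c : Set (Cfsg.IrrCharacter (Subgroup.centralizer (P : Set G)))) (hc : Cfsg.IsInducedBlock M (Subgroup.centralizer (P : Set G)) c B) (T : Subgroup G) (hT : ∀ g : G, g ∈ T ↔ (g ∈ Subgroup.normalizer (P : Set G) ∧ Cfsg.StabilizesBlock (Subgroup.centralizer (P : Set G)) c g)) (e : ℕ) (he : (Subgroup.centralizer (P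 : Set G)).relIndex T = e) : (e = 1 ∨ e = 3) ∧ Nat.card B = 4 ∧ Cfsg.blockRank 2 B = e := by
  classical
  haveI : Fintype G := Fintype.ofFinite G
  haveI hPr := isPrime_of_isPModular hM
  haveI : Fact (Nat.Prime 2) := ⟨Nat.prime_two⟩
  haveI := hV
  have hmax := Cfsg.Agent.Lib.L0.AbelianInertial.isMaximal_of_induced hM hPD hc
  have hcard : Nat.card P = 4 := IsKleinFour.card_four
  have hexp : ∀ x ∈ P, x * x = 1 := fun x hx => by
    have h := IsKleinFour.mul_self (⟨x, hx⟩ : P)
    exact congrArg Subtype.val h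
  have hab := comm_of_sq hexp
  have hPe : IsBrauerPair 2 M P c := hmax.1.1
  have hPC : P ≤ Subgroup.centralizer (P : Set G) := le_centralizer_of_abelian hab le_rfl
  have hCN : Subgroup.centralizer (P : Set G) ≤ Subgroup.normalizer (P : Set G) :=
    Subgroup.centralizer_le_normalizer _
  have hCT : Subgroup.centralizer (P : Set G) ≤ T := fun g hg =>
    (hT g).2 ⟨hCN hg, stabilizesBlock_of_mem_sup _ _ (Subgroup.mem_sup_right hg)⟩
  have hTN : T ≤ Subgroup.normalizer (P : Set G) := fun g hg => ((hT g).1 hg).1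
  -- `e` is odd
  have hodd : ¬ 2 ∣ e := by
    obtain ⟨_, hidx⟩ := fong_of_localMax hM hPe hPe.2 (Relation.ReflTransGen.refl)
      (localMax_of_maximal hM hmax _) T hT
    have hsup : (P ⊓ Subgroup.normalizer (P : Set G)).subgroupOf T ⊔
        (Subgroup.centralizer (P : Set G)).subgroupOf T =
        (Subgroup.centralizer (P : Set G)).subgroupOf T := by
      apply sup_eq_right.2
      intro x hx
      rw [Subgroup.mem_subgroupOf] at hx ⊢
      exact hPC hx.1
    rw [hsup] at hidx
    rw [← he]
    exact hidx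
  -- `e ∣ 24`
  have hdvd : e ∣ 24 := by
    have h1 : (Subgroup.centralizer (P : Set G)).relIndex T ∣
        (Subgroup.centralizer (P : Set G)).relIndex (Subgroup.normalizer (P : Set G)) :=
      ⟨_, (Subgroup.relIndex_mul_relIndex _ T _ hCT hTN).symm⟩
    have h2 := relIndex_dvd_factorial P
    rw [hcard] at h2
    rw [← he]
    exact h1.trans h2
  have he13 := one_or_three hdvd hodd
  refine ⟨he13, natCard_eq_four hM hmax hcard, ?_⟩
  rcases he13 with h1 | h3
  · rw [h1]
    apply blockRank_eq_one_of_klein hM hmax hcard hexp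
    intro y hyN hyst
    have hyT : y ∈ T := (hT y).2 ⟨hyN, hyst⟩
    have hTC : T ≤ Subgroup.centralizer (P : Set G) := Subgroup.relIndex_eq_one.1 (he.trans h1)
    exact hTC hyT
  · rw [h3]
    have hcube : ∀ y ∈ T, y ^ 3 ∈ Subgroup.centralizer (P : Set G) := by
      intro y hy
      haveI : ((Subgroup.centralizer (P : Set G)).subgroupOf T).Normal :=
        Subgroup.normal_subgroupOf_of_le_normalizer
          (hTN.trans (normalizer_le_normalizer_centralizer P))
      have h := Subgroup.pow_index_mem ((Subgroup.centralizer (P : Set G)).subgroupOf T)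
        (⟨y, hy⟩ : T)
      have hidx : ((Subgroup.centralizer (P : Set G)).subgroupOf T).index = 3 := he.trans h3
      rw [hidx] at h
      exact Subgroup.mem_subgroupOf.1 h
    have hfreeT : ∀ y ∈ T, ∀ u ∈ P, u ≠ 1 → y * u * y⁻¹ = u →
        y ∈ Subgroup.centralizer (P : Set G) :=
      fun y hy u hu hu1 hfix => mem_centralizer_of_fix hcard hexp (hTN hy) (hcube y hy) hu hu1 hfix
    -- an element of `T` outside `C_G(P)`
    have hTC : ¬ T ≤ Subgroup.centralizer (P : Set G) := by
      intro h
      have := Subgroup.relIndex_eq_one.2 h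
      omega
    obtain ⟨y, hyT, hyC⟩ := SetLike.not_le_iff_exists.1 hTC
    have hy2T : y ^ 2 ∈ T := T.pow_mem hyT 2
    have hy2C : y ^ 2 ∉ Subgroup.centralizer (P : Set G) := by
      intro h
      apply hyC
      have e1 : y = y ^ 3 * (y ^ 2)⁻¹ := by rw [pow_succ y 2]; group
      rw [e1]
      exact Subgroup.mul_mem _ (hcube y hyT) (Subgroup.inv_mem _ h)
    apply blockRank_eq_three_of_klein hM hmax hcard hexp
    · intro u hu hu1 u' hu' hu'1
      have hconjP : ∀ z ∈ T, ∀ w ∈ P, z * w * z⁻¹ ∈ P := fun z hz w hw =>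
        (Subgroup.mem_normalizer_iff.1 (hTN hz) w).1 hw
      have hconj1 : ∀ z w : G, w ≠ 1 → z * w * z⁻¹ ≠ 1 := by
        intro z w hw h
        apply hw
        have e1 : w = z⁻¹ * (z * w * z⁻¹) * z := by group
        rw [e1, h]
        group
      have hu₂P := hconjP y hyT u hu
      have hu₂1 := hconj1 y u hu1
      have hu₂u : y * u * y⁻¹ ≠ u := fun h => hyC (hfreeT y hyT u hu hu1 h)
      have hu₃u : y ^ 2 * u * (y ^ 2)⁻¹ ≠ u := fun h => hy2C (hfreeT _ hy2T u hu hu1 h)
      have hu₃P := hconjP _ hy2T u hu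
      have hu₃1 := hconj1 (y ^ 2) u hu1
      have hu₃eq : y ^ 2 * u * (y ^ 2)⁻¹ = y * (y * u * y⁻¹) * y⁻¹ := by rw [pow_two]; group
      have hu₃u₂ : y ^ 2 * u * (y ^ 2)⁻¹ ≠ y * u * y⁻¹ := by
        rw [hu₃eq]
        exact fun h => hyC (hfreeT y hyT _ hu₂P hu₂1 h)
      have henum := klein_enum P hcard hexp hu hu1 hu₂P hu₂1 hu₂u
      have hu₃ : y ^ 2 * u * (y ^ 2)⁻¹ = y * u * y⁻¹ * u := by
        rcases henum _ hu₃P with h | h | h | h
        · exact absurd h hu₃1
        · exact absurd h hu₃u
        · exact absurd h hu₃u₂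
        · exact h
      rcases henum u' hu' with h | h | h | h
      · exact absurd h hu'1
      · exact ⟨1, (hT 1).1 T.one_mem, by rw [h]; group⟩
      · exact ⟨y, (hT y).1 hyT, h.symm⟩
      · exact ⟨y ^ 2, (hT _).1 hy2T, by rw [h, hu₃]⟩
    · intro z hzN hzst u hu hu1 hfix
      exact hfreeT z ((hT z).2 ⟨hzN, hzst⟩) u hu hu1 hfix

end Cfsg.Agent.S4637
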