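import Cfsg.Statements.S4640
import Cfsg.Agent.Lib.H2.KKCOVER
import Cfsg.Agent.Lib.H23.KKNV
import Cfsg.Agent.Lib.H5.KKRANK
import Cfsg.Agent.Lib.H18.KKDUAL
import Cfsg.Agent.Lib.H18.KKTW
import Cfsg.Agent.Lib.H28.KK.FIB
import Cfsg.Agent.Lib.H23.BlockCovering
import Cfsg.Agent.Lib.H24.CharOrth
import Cfsg.Agent.Lib.L0.CharBasic

set_option autoImplicit false
open Cfsg

namespace Cfsg.Agent.S4640

open Cfsg.Agent.Lib.H2.KK Cfsg.Agent.Lib.H23.KK Cfsg.Agent.Lib.H5.KK Cfsg.Agent.Lib.H18.KK Cfsg.Agent.Lib.H28.KK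

/-- Let N be a normal subgroup of the finite group G of index a power of the prime p, M a maximal ideal of the algebraic integers containing p, b a block of N stabilized by every element of G, and B a block of G covering b (some member of B has a member of b as a constituent of its restriction to N). Suppose that B has a commutative defect group P. Then G = NP and P ∩ N is a defect group of b; every member of B restricts to a member of b; every member of b is the restriction of exactly [G : N] members of B; B contains exactly [G : N] times as many irreducible characters as b; and B and b have the same p-regular rank. -/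
theorem result {G : Type*} [Group G] [Fintype G] (p : ℕ) [Fact p.Prime] (M : Ideal Cfsg.AlgInt) (hM : Cfsg.IsPModular p M) (N : Subgroup G) [N.Normal] [Fintype N] (hNi : ∃ k : ℕ, N.index = p ^ k) (b : Set (Cfsg.IrrCharacter N)) (hb : Cfsg.IsPBlock M b) (hstab : ∀ g : G, Cfsg.StabilizesBlock N b g) (B : Set (Cfsg.IrrCharacter G)) (hB : Cfsg.IsPBlock M B) (hcov : ∃ χ ∈ B, ∃ θ ∈ b, Cfsg.classInner (fun n : N => (χ : G → ℂ) n) (θ : N → ℂ) ≠ 0) (P : Subgroup G) (hPD : Cfsg.IsDefectGroup p M B P) (hPab : ∀ x ∈ P, ∀ y ∈ P, x * y = y * x) : N ⊔ P = ⊤ ∧ Cfsg.IsDefectGroup p M b ((P ⊓ N).subgroupOf N) ∧ (∀ χ ∈ B, ∃ θ ∈ b, ∀ n : N, (χ : G → ℂ) n = (θ : N → ℂ) n) ∧ (∀ θ ∈ b, Nat.card {χ : Cfsg.IrrCharacter G // χ ∈ B ∧ ∀ n : N, (χ : G → ℂ) n = (θ : N → ℂ) n} = N.index) ∧ Nat.card B = N.index * Nat.card b ∧ Cfsg.blockRank p B = Cfsg.blockRank p b := by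
  classical
  have hp : p.Prime := Fact.out
  obtain ⟨hBiff, hsup, hdef⟩ := cover_facts hM N hNi b hb hstab B hB hcov P hPD
  -- every element of `G` is `n * x`
  have hdec : ∀ g : G, ∃ n ∈ N, ∃ x ∈ P, g = n * x := by
    intro g
    have hg : g ∈ N ⊔ P := hsup ▸ Subgroup.mem_top g
    have hg' : g ∈ ((N ⊔ P : Subgroup G) : Set G) := hg
    rw [Subgroup.normal_mul] at hg'
    obtain ⟨n, hn, x, hx, rfl⟩ := Set.mem_mul.1 hg'
    exact ⟨n, hn, x, hx, rfl⟩
  -- `G/N` is abelian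
  have hab : ∀ a c : G, a * c * a⁻¹ * c⁻¹ ∈ N := by
    intro a c
    rw [← QuotientGroup.eq_one_iff]
    obtain ⟨n, hn, x, hx, rfl⟩ := hdec a
    obtain ⟨m, hm, y, hy, rfl⟩ := hdec c
    have h1 : ((n : G) : G ⧸ N) = 1 := (QuotientGroup.eq_one_iff n).2 hn
    have h2 : ((m : G) : G ⧸ N) = 1 := (QuotientGroup.eq_one_iff m).2 hm
    simp only [QuotientGroup.mk_mul, QuotientGroup.mk_inv, h1, h2, one_mul]
    rw [← QuotientGroup.mk_mul, ← QuotientGroup.mk_inv, ← QuotientGroup.mk_inv,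
      ← QuotientGroup.mk_mul, ← QuotientGroup.mk_mul, hPab x hx y hy]
    simp
  -- the `p`-regular elements lie in `N`
  have hreg : ∀ s : G, ¬ p ∣ orderOf s → s ∈ N := by
    intro s hs
    obtain ⟨k, hk⟩ := hNi
    rw [← QuotientGroup.eq_one_iff]
    have h1 : ((s : G) : G ⧸ N) ^ (p ^ k) = 1 := by
      have : Nat.card (G ⧸ N) = p ^ k := by rw [← hk]; rfl
      rw [← this]
      exact pow_card_eq_one'
    have h2 : ((s : G) : G ⧸ N) ^ orderOf s = 1 := by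
      rw [← QuotientGroup.mk_pow, pow_orderOf_eq_one]; rfl
    have hcop : Nat.Coprime (p ^ k) (orderOf s) :=
      Nat.Coprime.pow_left k ((Nat.Prime.coprime_iff_not_dvd hp).2 hs)
    have := pow_gcd_eq_one.2 ⟨h1, h2⟩
    rwa [hcop, pow_one] at this
  -- no nontrivial twist fixes a member of `B`
  have hno : ∀ χ ∈ B, ∀ β : G →* ℂˣ, (∀ n ∈ N, β n = 1) →
      (∀ g, (χ : G → ℂ) g * ((β g : ℂˣ) : ℂ) = (χ : G → ℂ) g) → β = 1 := by
    intro χ hχ β hβN hfix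
    have hP : ∀ u ∈ P, β u = 1 := by
      intro u hu
      obtain ⟨s, hs, hne⟩ := exists_apply_ne_zero hM B hB P hPD hPab χ hχ u hu
      have h1 := hfix (u * s)
      have h2 : ((β (u * s) : ℂˣ) : ℂ) = 1 :=
        mul_left_cancel₀ hne (h1.trans (mul_one _).symm)
      have h3 : β (u * s) = 1 := Units.ext h2
      rwa [map_mul, hβN s (hreg s hs), mul_one] at h3
    ext g : 1
    obtain ⟨n, hn, x, hx, rfl⟩ := hdec g
    rw [map_mul, hβN n hn, hP x hx, mul_one, MonoidHom.one_apply]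
  have hirrB : ∀ χ ∈ B, Cfsg.IsIrrCharacter N (fun n : N => (χ : G → ℂ) n) :=
    fun χ hχ => restrict_irr_of_no_twist N hab χ χ.2 (hno χ hχ)
  -- restriction of a member of `B` lying over `θ` is `θ`
  have hres : ∀ χ ∈ B, ∀ θ : Cfsg.IrrCharacter N,
      Cfsg.classInner (fun n : N => (χ : G → ℂ) n) (θ : N → ℂ) ≠ 0 →
      ∀ n : N, (χ : G → ℂ) n = (θ : N → ℂ) n := by
    intro χ hχ θ hcon n
    by_contra hne
    apply hcon
    apply Cfsg.Agent.Lib.L0.irr_classInner_ne (hirrB χ hχ) θ.2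
    intro h
    exact hne (congrFun h n)
  have h3 : ∀ χ ∈ B, ∃ θ ∈ b, ∀ n : N, (χ : G → ℂ) n = (θ : N → ℂ) n := by
    intro χ hχ
    obtain ⟨θ, hθ, hcon⟩ := (hBiff χ).1 hχ
    exact ⟨θ, hθ, hres χ hχ θ hcon⟩
  have h2' : ∀ θ ∈ b, ∃ χ ∈ B, ∀ n : N, (χ : G → ℂ) n = (θ : N → ℂ) n := by
    intro θ hθ
    obtain ⟨χ, hχ⟩ := Cfsg.Agent.Lib.H23.exists_irr_over_restrict N θ
    have hχB : χ ∈ B := (hBiff χ).2 ⟨θ, hθ, hχ⟩
    exact ⟨χ, hχB, hres χ hχB θ hχ⟩
  -- a character restricting to `θ ∈ b` lies in `B`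
  have hmemB : ∀ θ ∈ b, ∀ χ : Cfsg.IrrCharacter G, (∀ n : N, (χ : G → ℂ) n = (θ : N → ℂ) n) →
      χ ∈ B := by
    intro θ hθ χ h
    apply (hBiff χ).2 ⟨θ, hθ, ?_⟩
    have : (fun n : N => (χ : G → ℂ) n) = (θ : N → ℂ) := funext h
    rw [this, Cfsg.Agent.Lib.L0.irr_classInner_self θ.2]
    exact one_ne_zero
  have hfib : ∀ θ ∈ b, Nat.card {χ : Cfsg.IrrCharacter G // χ ∈ B ∧
      ∀ n : N, (χ : G → ℂ) n = (θ : N → ℂ) n} = N.index := by
    intro θ hθ
    obtain ⟨χ₀, hχ₀B, hχ₀⟩ := h2' θ hθ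
    rw [← card_extensions N hab χ₀ (hirrB χ₀ hχ₀B) (hno χ₀ hχ₀B)]
    apply Nat.card_congr
    refine Equiv.subtypeEquivRight (fun χ => ?_)
    constructor
    · rintro ⟨_, h⟩ n
      rw [h n, hχ₀ n]
    · intro h
      have h' : ∀ n : N, (χ : G → ℂ) n = (θ : N → ℂ) n := fun n => by rw [h n, hχ₀ n]
      exact ⟨hmemB θ hθ χ h', h'⟩
  refine ⟨hsup, hdef, h3, hfib, ?_, blockRank_eq_of_restrict N hNi B b h3 h2'⟩
  -- `|B| = |G : N| |b|`
  haveI : Finite (Cfsg.IrrCharacter G) := Cfsg.Agent.Lib.H24.finite_irr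
  haveI : Finite (Cfsg.IrrCharacter N) := Cfsg.Agent.Lib.H24.finite_irr
  haveI : Fintype b := Fintype.ofFinite b
  choose f hfb hf using h3
  let F : B → b := fun χ => ⟨f χ.1 χ.2, hfb χ.1 χ.2⟩
  have hsig : Nat.card B = Nat.card (Σ θ : b, {χ : B // F χ = θ}) :=
    Nat.card_congr (Equiv.sigmaFiberEquiv F).symm
  have hfibre : ∀ θ : b, Nat.card {χ : B // F χ = θ} = N.index := by
    intro θ
    rw [← hfib θ.1 θ.2]
    apply Nat.card_congr
    refine ⟨fun χ => ⟨χ.1.1, χ.1.2, fun n => ?_⟩, fun χ => ⟨⟨χ.1, χ.2.1⟩, ?_⟩, ?_, ?_⟩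
    · have h1 := hf χ.1.1 χ.1.2 n
      have h2 : f χ.1.1 χ.1.2 = θ.1 := congrArg Subtype.val χ.2
      rw [h1, h2]
    · apply Subtype.ext
      apply Subtype.ext
      funext n
      have h1 := hf χ.1 χ.2.1 n
      rw [← h1, χ.2.2 n]
    · intro χ; rfl
    · intro χ; rfl
  rw [hsig, Nat.card_sigma]
  simp only [hfibre]
  rw [Finset.sum_const, Finset.card_univ, smul_eq_mul, mul_comm, Nat.card_eq_fintype_card]

end Cfsg.Agent.S4640
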