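import Cfsg.Statements.S4642
import Cfsg.Agent.Lib.H23.FongPrincipalA
import Cfsg.Agent.Lib.H23.FongPrincipalB
import Cfsg.Agent.Lib.H22.SubsecBasic

set_option autoImplicit false
open Cfsg

namespace Cfsg.Agent.S4642

open Cfsg.Agent.Lib.H23 Cfsg.Agent.Lib.H24 Cfsg.Agent.Lib.L0 Cfsg.Agent.Lib.H23.FongPrincipal

/-- Let G be a finite group, p a prime, M a maximal ideal of the algebraic integers containing p, K the largest normal subgroup of G of order prime to p, and L the preimage in G of the largest normal p-subgroup of G/K. Let Q be a Sylow p-subgroup of L and suppose C_G(Q) ≤ L. Let θ be an irreducible character of K invariant under conjugation by every element of G, and let B be the set of irreducible characters of G whose restriction to K contains θ. Then B is a block of G, every Sylow p-subgroup of G is a defect group of B, and B is of principal type: for every p-subgroup R of G exactly one block of C_G(R) induces B. -/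
theorem result {G : Type*} [Group G] [Fintype G] (p : ℕ) [Fact p.Prime] (M : Ideal Cfsg.AlgInt) (hM : Cfsg.IsPModular p M) (K : Subgroup G) (hK : K = Cfsg.pPrimeCore p G) [Fintype K] (L : Subgroup G) (hL : L = Cfsg.pPrimePCore p G) (Q : Subgroup G) (hQL : Q ≤ L) (hQp : IsPGroup p Q) (hQS : ¬ p ∣ Q.relIndex L) (hCQ : Subgroup.centralizer (Q : Set G) ≤ L) (θ : Cfsg.IrrCharacter K) (hθ : ∀ g : G, Cfsg.IsConjCharOf K g (θ : K → ℂ) (θ : K → ℂ)) (B : Set (Cfsg.IrrCharacter G)) (hBdef : ∀ χ : Cfsg.IrrCharacter G, χ ∈ B ↔ Cfsg.classInner (fun k : K => (χ : G → ℂ) k) (θ : K → ℂ) ≠ 0) : Cfsg.IsPBlock M B ∧ (∀ S : Sylow p G, Cfsg.IsDefectGroup p M B S) ∧ ∀ R : Subgroup G, IsPGroup p R → ∃! f : Set (Cfsg.IrrCharacter (Subgroup.centralizer (R : Set G))), Cfsg.IsInducedBlock M (Subgroup.centralizer (R : Set G)) f B := by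
  classical
  haveI hPr := isPrime_of_isPModular hM
  subst hL
  haveI hKn : K.Normal := by
    rw [hK]
    exact Cfsg.Agent.Lib.H22.pPrimeCore_normal p
  have hKp : ¬ p ∣ Nat.card K := by
    rw [hK]
    exact Cfsg.Agent.Lib.H22.not_dvd_card_pPrimeCore (Fact.out : p.Prime)
  have hcon : IsPConstrained p G := isPConstrained_of_sylow p Q hQL hQp hQS hCQ
  have hinv : ∀ (g : G) (n : K),
      (θ : K → ℂ) ⟨g * n * g⁻¹, hKn.conj_mem n n.2 g⟩ = (θ : K → ℂ) n :=
    fun g n => hθ g n ⟨g * n * g⁻¹, hKn.conj_mem n n.2 g⟩ rfl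
  obtain ⟨B', hB'b, hB'mem, hB'syl, _⟩ := fong_block_pConstrained hM hcon K hK θ hinv
  have hBB' : B = B' := Set.ext fun χ => by rw [hBdef, hB'mem]
  subst hBB'
  refine ⟨hB'b, hB'syl, ?_⟩
  intro R hR
  haveI : Fintype (Subgroup.centralizer (R : Set G)) := Fintype.ofFinite _
  haveI : Fintype (K.subgroupOf (Subgroup.centralizer (R : Set G))) := Fintype.ofFinite _
  haveI hK'n : (K.subgroupOf (Subgroup.centralizer (R : Set G))).Normal :=
    Subgroup.normal_subgroupOf
  obtain ⟨ν, hνinv, ⟨ξ₀, hξ₀⟩, hover⟩ := local_main K hM hKp θ hinv B hBdef hB'b R hR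
  have hconC : IsPConstrained p ↥(Subgroup.centralizer (R : Set G)) :=
    (Cfsg.Agent.S0631.result hcon R hR).2
  have hK'def : K.subgroupOf (Subgroup.centralizer (R : Set G)) =
      pPrimeCore p ↥(Subgroup.centralizer (R : Set G)) := by
    rw [hK]
    exact (pPrimeCore_centralizer_eq p hcon R hR).symm
  obtain ⟨B₁, hB₁b, hB₁mem, _, _⟩ := fong_block_pConstrained hM hconC
    (K.subgroupOf (Subgroup.centralizer (R : Set G))) hK'def ν hνinv
  have hpair : ∀ f : Set (IrrCharacter (Subgroup.centralizer (R : Set G))),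
      IsBrauerPairOf p M B R f → f = B₁ := by
    intro f hf
    obtain ⟨ξ, hξ⟩ := Cfsg.Agent.Lib.L0.BrauerNormal.block_nonempty hf.1.2
    have h1 := hover ξ (hf.2.2 ξ hξ)
    have h2 : ξ ∈ B₁ := (hB₁mem ξ).2 h1
    exact Cfsg.Agent.Lib.L0.BrauerNormal.block_eq_of_mem hf.1.2 hB₁b hξ h2
  have hex : IsBrauerPairOf p M B R B₁ := by
    have hξ₀B₁ : ξ₀ ∈ B₁ := (hB₁mem ξ₀).2 (hover ξ₀ hξ₀)
    refine ⟨⟨hR, hB₁b⟩, hB'b, fun ξ hξ => ?_⟩
    rw [Cfsg.Agent.Lib.L0.BrauerPairHom.brauerOmega_blockCoeff] at hξ₀ ⊢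
    obtain ⟨ξ', rfl⟩ := hB₁b
    have hs : SameBlock M (ξ : Subgroup.centralizer (R : Set G) → ℂ)
        (ξ₀ : Subgroup.centralizer (R : Set G) → ℂ) :=
      sameBlock_trans (sameBlock_symm hξ) hξ₀B₁
    obtain ⟨χ₁, rfl⟩ := hB'b
    have hei : blockIdem (blockOf M (χ₁ : G → ℂ)) ∈ intCoeff (G := G) M :=
      fun g => blockIdem_memLocalRing hM χ₁ g
    have h2 := omega_sub_memLocalIdeal hs
      (Cfsg.Agent.Lib.H23.resAlg_mem_center (Subgroup.centralizer (R : Set G))
        (blockIdem_mem_center (blockOf M (χ₁ : G → ℂ))))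
      (resAlg_mem_intCoeff (Subgroup.centralizer (R : Set G)) hei)
    have h3 := memLocalIdeal_add h2 hξ₀
    rwa [sub_add_sub_cancel] at h3
  refine ⟨B₁, (Cfsg.Agent.Lib.H22.Subsec.isBrauerPairOf_iff_isInducedBlock hM hR).1 hex,
    fun f hf => hpair f ((Cfsg.Agent.Lib.H22.Subsec.isBrauerPairOf_iff_isInducedBlock hM hR).2 hf)⟩

end Cfsg.Agent.S4642
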