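import Cfsg.Statements.S4645
import Cfsg.Agent.Lib.L0.AbelianInertial
import Cfsg.Agent.Lib.H22.KleinE1
import Cfsg.Agent.Lib.H22.CYE1
import Cfsg.Agent.Lib.H22.CYE3
import Cfsg.Agent.Lib.H8.CYA
import Cfsg.Agent.Lib.H8.CYB3
import Cfsg.Agent.Lib.H21.CYD
import Cfsg.Agent.Lib.H22.CYE2

set_option autoImplicit false
open Cfsg

namespace Cfsg.Agent.S4645

/-- Let B be a block of the finite group G relative to a maximal ideal M of the algebraic integers containing the prime p, with a nontrivial cyclic defect group P; let c be a block of C_G(P) inducing B and T the stabilizer of c in N_G(P). Let Q be a nontrivial subgroup of P (so C_G(P) ≤ C_G(Q)), f the block of C_G(Q) induced by c inside C_G(Q), and T' the stabilizer of f in N_G(Q). Then T' = T·C_G(Q), the index of C_G(Q) in T' equals the index of C_G(P) in T, f has p-regular rank 1, and f is a nilpotent block of C_G(Q). -/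
theorem result {G : Type*} [Group G] [Finite G] (p : ℕ) [Fact p.Prime] (M : Ideal Cfsg.AlgInt) (hM : Cfsg.IsPModular p M) (B : Set (Cfsg.IrrCharacter G)) (hB : Cfsg.IsPBlock M B) (P : Subgroup G) (hPD : Cfsg.IsDefectGroup p M B P) (hP1 : P ≠ ⊥) (hcyc : IsCyclic P) (c : Set (Cfsg.IrrCharacter (Subgroup.centralizer (P : Set G)))) (hc : Cfsg.IsInducedBlock M (Subgroup.centralizer (P : Set G)) c B) (T : Subgroup G) (hT : ∀ g : G, g ∈ T ↔ (g ∈ Subgroup.normalizer (P : Set G) ∧ Cfsg.StabilizesBlock (Subgroup.centralizer (P : Set G)) c g)) (Q : Subgroup G) (hQP : Q ≤ P) (hQ1 : Q ≠ ⊥) (f : Set (Cfsg.IrrCharacter (Subgroup.centralizer (Q : Set G)))) (hf : Cfsg.IsInducedBlockIn M (Subgroup.centralizer (Q : Set G)) (Subgroup.centralizer (P : Set G)) c f) (T' : Subgroup G) (hT' : ∀ g : G, g ∈ T' ↔ (g ∈ Subgroup.normalizer (Q : Set G) ∧ Cfsg.StabilizesBlock (Subgroup.centralizer (Q : Set G)) f g)) : T' = T ⊔ Subgroup.centralizer (Q : Set G) ∧ (Subgroup.centralizer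 (Q : Set G)).relIndex T' = (Subgroup.centralizer (P : Set G)).relIndex T ∧ Cfsg.blockRank p f = 1 ∧ Cfsg.IsNilpotentBlock p M f := by
  classical
  haveI : Fintype G := Fintype.ofFinite G
  haveI hPr := Cfsg.Agent.Lib.H23.isPrime_of_isPModular hM
  have hab : ∀ x ∈ P, ∀ y ∈ P, x * y = y * x := by
    intro x hx y hy
    obtain ⟨g, hg⟩ := hcyc.exists_generator
    obtain ⟨m, hm⟩ := Subgroup.mem_zpowers_iff.1 (hg ⟨x, hx⟩)
    obtain ⟨n, hn⟩ := Subgroup.mem_zpowers_iff.1 (hg ⟨y, hy⟩)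
    have h1 : (⟨x, hx⟩ : P) * ⟨y, hy⟩ = ⟨y, hy⟩ * ⟨x, hx⟩ := by
      rw [← hm, ← hn]
      exact ((Commute.refl g).zpow_zpow m n).eq
    exact congrArg Subtype.val h1
  have hmax := Cfsg.Agent.Lib.L0.AbelianInertial.isMaximal_of_induced hM hPD hc
  obtain ⟨hfB, hle⟩ := Cfsg.Agent.Lib.H8.CY.subpair_of_inducedIn hM hmax hab hQP f hf
  have hfree := Cfsg.Agent.Lib.H8.CY.cyclic_free hM hmax hcyc hQP hQ1
  refine ⟨Cfsg.Agent.Lib.H21.CY.inertial_eq_sup hM hmax hcyc hfB hle T hT T' hT',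
    Cfsg.Agent.Lib.H21.CY.relIndex_eq hM hmax hcyc hfB hle hfree T hT T' hT', ?_, ?_⟩
  · -- claim (3)
    obtain ⟨b', hb1, hmax', hT''⟩ :=
      Cfsg.Agent.Lib.H22.Subsec.exists_descent hM hmax hab hfB hle hfree
    haveI : Fintype (Subgroup.centralizer (Q : Set G)) := Fintype.ofFinite _
    have hPK : P ≤ Subgroup.centralizer (Q : Set G) := by
      intro x hx
      rw [Subgroup.mem_centralizer_iff]
      intro q hq
      exact hab q (hQP hq) x hx
    have hcyc' : IsCyclic b'.1 := by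
      rw [hb1]
      haveI := hcyc
      exact isCyclic_of_surjective (Subgroup.subgroupOfEquivOfLe hPK).symm.toMonoidHom
        (Subgroup.subgroupOfEquivOfLe hPK).symm.surjective
    have hab' : ∀ x ∈ b'.1, ∀ y ∈ b'.1, x * y = y * x := by
      rw [hb1]
      intro x hx y hy
      apply Subtype.ext
      exact hab _ (Subgroup.mem_subgroupOf.1 hx) _ (Subgroup.mem_subgroupOf.1 hy)
    have h1 := Cfsg.Agent.Lib.H22.CY.rank_add_le_card hM hmax' hab' hT''
    have h2 := Cfsg.Agent.Lib.H22.CY.heights_zero hM hmax' hab' hT''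
    have h3 := Cfsg.Agent.Lib.H22.CY.card_le_of_cyclic hM hmax' hcyc' h2
    have h4 := Cfsg.Agent.Lib.H22.Subsec.blockRank_pos hfB (p := p) Fact.out
    have h5 : 0 < Nat.card b'.1 := Nat.card_pos
    omega
  · -- claim (4)
    obtain ⟨f₁, _, huniq, hiff⟩ := Cfsg.Agent.Lib.L0.AbelianInertial.core hM hmax hab hQP
    rw [huniq f hf, hiff]
    exact hfree

end Cfsg.Agent.S4645
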