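import Cfsg.Statements.S4691
import Cfsg.Agent.Lib.L0.PrincipalBrauerPair
import Cfsg.Agent.Lib.L0.FrobeniusPC

set_option autoImplicit false
open Cfsg

namespace Cfsg.Agent.S4691

open Cfsg.Agent.Lib.H23 Cfsg.Agent.Lib.H24 Cfsg.Agent.Lib.L0
  Cfsg.Agent.Lib.L0.PrincipalBrauerPair

/-- The normalizer of `Q` normalizes the centralizer of `Q`. -/
theorem mem_normalizer_centralizer {G : Type*} [Group G] {Q : Subgroup G} {x : G}
    (hx : x ∈ Subgroup.normalizer (Q : Set G)) :
    x ∈ Subgroup.normalizer ((Subgroup.centralizer (Q : Set G) : Subgroup G) : Set G) := by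
  have key : ∀ y : G, y ∈ Subgroup.normalizer (Q : Set G) →
      ∀ c ∈ Subgroup.centralizer (Q : Set G), y * c * y⁻¹ ∈ Subgroup.centralizer (Q : Set G) := by
    intro y hy c hc
    rw [Subgroup.mem_centralizer_iff]
    intro q hq
    have h1 : y⁻¹ * q * y ∈ Q := by
      have := (Subgroup.mem_normalizer_iff.1 (Subgroup.inv_mem _ hy) q).1 hq
      rwa [inv_inv] at this
    have h2 := Subgroup.mem_centralizer_iff.1 hc _ h1
    calc q * (y * c * y⁻¹) = y * ((y⁻¹ * q * y) * c) * y⁻¹ := by group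
      _ = y * (c * (y⁻¹ * q * y)) * y⁻¹ := by rw [h2]
      _ = y * c * y⁻¹ * q := by group
  rw [Subgroup.mem_normalizer_iff]
  intro c
  constructor
  · exact key x hx c
  · intro h
    have := key x⁻¹ (Subgroup.inv_mem _ hx) _ h
    rw [inv_inv] at this
    have e : x⁻¹ * (x * c * x⁻¹) * x = c := by group
    rwa [e] at this

/-- In a group with a normal `p`-complement, `p`-regular elements normalizing a `p`-subgroup
centralize it. -/
theorem mem_centralizer_of_hasNormalPComplement {G : Type*} [Group G] [Finite G] {p : ℕ}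
    [hp : Fact p.Prime] (h : HasNormalPComplement p G) {Q : Subgroup G} (hQ : IsPGroup p Q)
    {x : G} (hx : x ∈ Subgroup.normalizer (Q : Set G)) (hreg : ¬ p ∣ orderOf x) :
    x ∈ Subgroup.centralizer (Q : Set G) := by
  obtain ⟨P, N, hN, hcompl⟩ := h
  have hidx : N.index = Nat.card (P : Subgroup G) := hcompl.symm.index_eq_card
  have hNcard : Nat.card N = (P : Subgroup G).index := hcompl.index_eq_card.symm
  obtain ⟨k, hk⟩ := (IsPGroup.iff_card.1 P.2)
  have hcop : (N.index).Coprime (orderOf x) := by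
    rw [hidx, hk]
    exact Nat.Coprime.pow_left k ((Nat.Prime.coprime_iff_not_dvd hp.out).2 hreg)
  have hxN : x ∈ N := by
    obtain ⟨m, hm⟩ := exists_pow_eq_self_of_coprime hcop
    rw [← hm]
    exact N.pow_mem (N.pow_index_mem x) m
  have hpN : ¬ p ∣ Nat.card N := by
    rw [hNcard]
    exact P.not_dvd_index
  rw [Subgroup.mem_centralizer_iff]
  intro q hq
  have h1 : x * q * x⁻¹ * q⁻¹ ∈ N := by
    have : q * x⁻¹ * q⁻¹ ∈ N := hN.conj_mem _ (N.inv_mem hxN) q
    have e : x * q * x⁻¹ * q⁻¹ = x * (q * x⁻¹ * q⁻¹) := by group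
    rw [e]
    exact N.mul_mem hxN this
  have h2 : x * q * x⁻¹ * q⁻¹ ∈ Q :=
    Q.mul_mem ((Subgroup.mem_normalizer_iff.1 hx q).1 hq) (Q.inv_mem hq)
  have h3 : x * q * x⁻¹ * q⁻¹ = 1 := by
    obtain ⟨j, hj⟩ := (IsPGroup.iff_orderOf.1 hQ) ⟨_, h2⟩
    rw [Subgroup.orderOf_mk] at hj
    have hdvd := Subgroup.orderOf_dvd_natCard N h1
    rw [hj] at hdvd
    rcases Nat.eq_zero_or_pos j with rfl | hjpos
    · rw [pow_zero] at hj
      exact orderOf_eq_one_iff.1 hj
    · exact absurd (dvd_trans (dvd_pow_self p hjpos.ne') hdvd) hpN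
  calc q * x = (x * q * x⁻¹ * q⁻¹)⁻¹ * (x * q) := by group
    _ = x * q := by rw [h3, inv_one, one_mul]

/-- Fix a prime p and a maximal ideal M of the algebraic integers containing p. A finite group G has a normal p-complement if and only if its principal p-block is nilpotent. -/
theorem result {G : Type*} [Group G] [Fintype G] (p : ℕ) [Fact p.Prime] (M : Ideal Cfsg.AlgInt) (hM : Cfsg.IsPModular p M) : Cfsg.HasNormalPComplement p G ↔ Cfsg.IsNilpotentBlock p M (Cfsg.principalBlock M G) := by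
  constructor
  · intro h
    refine ⟨isPBlock_principalBlock M G, ?_⟩
    intro Q e hQe x hx _ hreg
    exact mem_centralizer_of_hasNormalPComplement h hQe.1.1 hx hreg
  · intro hnil
    apply hasNormalPComplement_of_frobHyp
    intro Q hQ g hg hcop
    have hreg : IsPRegular p g :=
      (Nat.Prime.coprime_iff_not_dvd (Fact.out : p.Prime)).1 hcop.symm
    exact hnil.2 Q _ (isBrauerPairOf_principal hM Q hQ) g hg
      (stabilizesBlock_principal M _ g (mem_normalizer_centralizer hg)) hreg

end Cfsg.Agent.S4691
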