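import Cfsg.Statements.S4646
import Cfsg.Agent.S4691
import Cfsg.Agent.Lib.L0.BlockRankTrace
import Cfsg.Agent.Lib.L0.BlockKer
import Cfsg.Agent.Lib.L0.TransferPC
import Cfsg.Agent.Lib.H23.BlockPrincipalLocal
import Cfsg.Agent.Lib.H23.PPart
import Cfsg.Agent.Lib.H24.CharKer

set_option autoImplicit false
open Cfsg

namespace Cfsg.Agent.S4646

open Cfsg.Agent.Lib.H23 Cfsg.Agent.Lib.H24 Cfsg.Agent.Lib.L0
  Cfsg.Agent.Lib.L0.PrincipalBrauerPair Cfsg.Agent.Lib.L0.PrincipalCrit
  Cfsg.Agent.Lib.L0.BlockRankTrace Cfsg.Agent.Lib.L0.BlockKer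

variable {G : Type*} [Group G] [Fintype G] {p : ℕ} [hpF : Fact p.Prime] {M : Ideal AlgInt}

theorem pRegularPart_trivIrr_ne_zero : pRegularPart p (trivIrr G : G → ℂ) ≠ 0 := by
  intro h
  have h1 := congrFun h 1
  rw [pRegularPart_apply, orderOf_one, if_neg] at h1
  · exact one_ne_zero h1
  · exact fun h2 => hpF.out.one_lt.ne' (Nat.dvd_one.1 h2)

/-- If every member of a set `B` containing the trivial character is constant on the `p`-regular
elements, then `B` has `p`-regular rank one. -/
theorem blockRank_eq_one_of_const {B : Set (IrrCharacter G)} (h1 : trivIrr G ∈ B)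
    (h : ∀ χ ∈ B, ∀ g : G, ¬ p ∣ orderOf g → (χ : G → ℂ) g = (χ : G → ℂ) 1) :
    blockRank p B = 1 := by
  unfold blockRank
  have hspan : Submodule.span ℂ ((fun χ : IrrCharacter G => pRegularPart p (χ : G → ℂ)) '' B) =
      Submodule.span ℂ {pRegularPart p (trivIrr G : G → ℂ)} := by
    apply le_antisymm
    · rw [Submodule.span_le]
      rintro _ ⟨χ, hχ, rfl⟩
      have e : pRegularPart p (χ : G → ℂ) =
          (χ : G → ℂ) 1 • pRegularPart p (trivIrr G : G → ℂ) := by
        funext g
        rw [Pi.smul_apply, pRegularPart_apply, pRegularPart_apply, smul_eq_mul]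
        split_ifs with hg
        · rw [mul_zero]
        · rw [h χ hχ g hg]
          show _ = _ * (1 : ℂ)
          rw [mul_one]
      show pRegularPart p (χ : G → ℂ) ∈ _
      rw [e]
      exact Submodule.smul_mem _ _ (Submodule.mem_span_singleton_self _)
    · rw [Submodule.span_le, Set.singleton_subset_iff]
      exact Submodule.subset_span ⟨trivIrr G, h1, rfl⟩
  rw [hspan]
  exact finrank_span_singleton pRegularPart_trivIrr_ne_zero

/-- If `B` contains the trivial character and has `p`-regular rank one, every member is constant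
on the `p`-regular elements. -/
theorem const_of_blockRank_eq_one {B : Set (IrrCharacter G)} (h1 : trivIrr G ∈ B)
    (h : blockRank p B = 1) :
    ∀ χ ∈ B, ∀ g : G, ¬ p ∣ orderOf g → (χ : G → ℂ) g = (χ : G → ℂ) 1 := by
  intro χ hχ g hg
  unfold blockRank at h
  set V := Submodule.span ℂ ((fun χ : IrrCharacter G => pRegularPart p (χ : G → ℂ)) '' B) with hV
  have hv : pRegularPart p (trivIrr G : G → ℂ) ∈ V :=
    Submodule.subset_span ⟨trivIrr G, h1, rfl⟩
  have hw : pRegularPart p (χ : G → ℂ) ∈ V := Submodule.subset_span ⟨χ, hχ, rfl⟩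
  have hv0 : (⟨_, hv⟩ : V) ≠ 0 := by
    intro h0
    exact pRegularPart_trivIrr_ne_zero (congrArg Subtype.val h0)
  obtain ⟨c, hc⟩ := (finrank_eq_one_iff_of_nonzero' (⟨_, hv⟩ : V) hv0).1 h ⟨_, hw⟩
  have hc' : c • pRegularPart p (trivIrr G : G → ℂ) = pRegularPart p (χ : G → ℂ) :=
    congrArg Subtype.val hc
  have hp1 : ¬ p ∣ orderOf (1 : G) := by
    rw [orderOf_one]
    exact fun h2 => hpF.out.one_lt.ne' (Nat.dvd_one.1 h2)
  have e1 := congrFun hc' 1
  have eg := congrFun hc' g
  rw [Pi.smul_apply, pRegularPart_apply, pRegularPart_apply, if_neg hp1, if_neg hp1,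
    smul_eq_mul] at e1
  rw [Pi.smul_apply, pRegularPart_apply, pRegularPart_apply, if_neg hg, if_neg hg,
    smul_eq_mul] at eg
  rw [← eg, ← e1]
  rfl

theorem hasNormalPComplement_iff_blockRank (hM : IsPModular p M) :
    HasNormalPComplement p G ↔ blockRank p (principalBlock M G) = 1 := by
  haveI hPr := isPrime_of_isPModular hM
  have hp : p.Prime := hpF.out
  have htriv : trivIrr G ∈ principalBlock M G := sameBlock_refl _
  constructor
  · intro h
    obtain ⟨N, hN, hpN, k, hk⟩ := Cfsg.Agent.Lib.L0.HasNormalPComplement.exists_normal h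
    refine blockRank_eq_one_of_const htriv fun χ hχ g hg => ?_
    have hcop : (N.index).Coprime (orderOf g) := by
      rw [hk]
      exact Nat.Coprime.pow_left k ((Nat.Prime.coprime_iff_not_dvd hp).2 hg)
    have hgN : g ∈ N := by
      obtain ⟨m, hm⟩ := exists_pow_eq_self_of_coprime hcop
      rw [← hm]
      exact N.pow_mem (N.pow_index_mem g) m
    exact principalBlock_ker hM N hpN χ hχ g hgN
  · intro h
    have hconst := const_of_blockRank_eq_one htriv h
    set K : Subgroup G := ⨅ χ : {χ : IrrCharacter G // χ ∈ principalBlock M G},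
      charKer ((χ : IrrCharacter G) : G → ℂ) (isCharacter_of_irr (χ : IrrCharacter G).2) with hK
    haveI hKn : K.Normal := Subgroup.normal_iInf_normal fun χ => inferInstance
    have hmemK : ∀ g : G, g ∈ K ↔ ∀ χ ∈ principalBlock M G,
        (χ : G → ℂ) g = (χ : G → ℂ) 1 := by
      intro g
      rw [hK, Subgroup.mem_iInf]
      constructor
      · intro hg χ hχ
        exact hg ⟨χ, hχ⟩
      · intro hg χ
        exact hg χ.1 χ.2
    have hregK : ∀ g : G, ¬ p ∣ orderOf g → g ∈ K := by
      intro g hg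
      rw [hmemK]
      intro χ hχ
      exact hconst χ hχ g hg
    have hpK : ¬ p ∣ Nat.card K :=
      not_dvd_card_of_le_charKer hM (trivIrr G) K
        (fun ψ hψ k hk => (hmemK k).1 hk ψ hψ)
    have hquot : IsPGroup p (G ⧸ K) := by
      intro q
      obtain ⟨g, rfl⟩ := QuotientGroup.mk_surjective q
      obtain ⟨z, y, hzy, _, ⟨k, hk⟩, hy⟩ := exists_isPPart hp g (isOfFinOrder_of_finite g)
      refine ⟨k, ?_⟩
      have hyK : y ∈ K := hregK y hy
      have e : (g : G ⧸ K) = (z : G ⧸ K) := by
        rw [← hzy, QuotientGroup.mk_mul, (QuotientGroup.eq_one_iff y).2 hyK, mul_one]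
      rw [e, ← QuotientGroup.mk_pow, ← hk, pow_orderOf_eq_one, QuotientGroup.mk_one]
    obtain ⟨k, hk⟩ := IsPGroup.iff_card.1 hquot
    exact hasNormalPComplement_of_normal K hpK ⟨k, by rw [Subgroup.index_eq_card, hk]⟩

/-- For a finite group G, a prime p and a maximal ideal M of the algebraic integers containing p: the principal block of G is nilpotent if and only if its p-regular rank is 1 (the trivial Brauer character is its only irreducible Brauer character). -/
theorem result {G : Type*} [Group G] [Finite G] (p : ℕ) [Fact p.Prime] (M : Ideal Cfsg.AlgInt) (hM : Cfsg.IsPModular p M) : Cfsg.IsNilpotentBlock p M (Cfsg.principalBlock M G) ↔ Cfsg.blockRank p (Cfsg.principalBlock M G) = 1 := by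
  classical
  haveI := Fintype.ofFinite G
  rw [← Cfsg.Agent.S4691.result p M hM]
  exact hasNormalPComplement_iff_blockRank hM

end Cfsg.Agent.S4646
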