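import Cfsg.Statements.S4651
import Cfsg.Agent.Lib.H2.KRK7
import Cfsg.Agent.Lib.H28.KRC6Core
import Cfsg.Agent.Lib.H15.KRC1
import Cfsg.Agent.Lib.H8.KRC2
import Cfsg.Agent.Lib.H28.KRC3

set_option autoImplicit false
open Cfsg Cfsg.Agent.Lib.H2

namespace Cfsg.Agent.S4651

/-- An alternating-sum identity over chains of p-subgroups (the character-count form behind the chain reformulation of Alperin's weight conjecture, which holds unconditionally for the difference k − l). Let b be a block of the finite group G relative to a maximal ideal M of the algebraic integers containing the prime p. Consider the nonempty chains s = {Q_0 < Q_1 < ⋯ < Q_m} of nontrivial p-subgroups of G in which every member is normal in the largest member; let N_G(s) be the intersection of the normalizers of the members (the stabilizer of the chain), and let b_s be the set of irreducible characters of N_G(s) lying in blocks of N_G(s) that induce b. Then #G · (k(b)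 − l(b)) equals the sum over all such chains s of (−1)^m · #N_G(s) · (k(b_s) − l(b_s)), where k counts irreducible characters and l is the p-regular rank; equivalently, k(b) − l(b) is the alternating sum of k(b_s) − l(b_s) over representatives of the conjugacy classes of such chains. -/
theorem result {G : Type*} [Group G] [Finite G] (p : ℕ) [Fact p.Prime] (M : Ideal Cfsg.AlgInt) (hM : Cfsg.IsPModular p M) (b : Set (Cfsg.IrrCharacter G)) (hb : Cfsg.IsPBlock M b) : (Nat.card G : ℤ) * ((Nat.card b : ℤ) - (Cfsg.blockRank p b : ℤ)) = ∑ᶠ s ∈ {s : Finset (Subgroup G) | s.Nonempty ∧ (∀ Q ∈ s, ∀ R ∈ s, Q ≤ R ∨ R ≤ Q) ∧ (∀ Q ∈ s, Q ≠ ⊥ ∧ IsPGroup p Q) ∧ ∃ T ∈ s, ∀ Q ∈ s, Q ≤ T ∧ T ≤ Subgroup.normalizer ((Q : Subgroup G) : Set G)}, (-1 : ℤ) ^ (s.card - 1) * (Nat.card (((⨅ Q ∈ s, Subgroup.normalizer ((Q : Subgroup G) : Set G) : Subgroup G))) : ℤ) * ((Nat.card {ψ : Cfsg.IrrCharacter (((⨅ Q ∈ s, Subgroup.normalizer ((Q : Subgroup G) : Set G) : Subgroup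 G))) | ∃ β : Set (Cfsg.IrrCharacter (((⨅ Q ∈ s, Subgroup.normalizer ((Q : Subgroup G) : Set G) : Subgroup G)))), ψ ∈ β ∧ Cfsg.IsInducedBlock M (((⨅ Q ∈ s, Subgroup.normalizer ((Q : Subgroup G) : Set G) : Subgroup G))) β b} : ℤ) - (Cfsg.blockRank p {ψ : Cfsg.IrrCharacter (((⨅ Q ∈ s, Subgroup.normalizer ((Q : Subgroup G) : Set G) : Subgroup G))) | ∃ β : Set (Cfsg.IrrCharacter (((⨅ Q ∈ s, Subgroup.normalizer ((Q : Subgroup G) : Set G) : Subgroup G)))), ψ ∈ β ∧ Cfsg.IsInducedBlock M (((⨅ Q ∈ s, Subgroup.normalizer ((Q : Subgroup G) : Set G) : Subgroup G))) β b} : ℤ)) := by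
  classical
  haveI : Fintype G := Fintype.ofFinite G
  haveI : Fintype (Subgroup G) := Fintype.ofFinite _
  haveI : Fintype (Finset (Subgroup G)) := Fintype.ofFinite _
  -- the index set as a finset
  have hS : {s : Finset (Subgroup G) | s.Nonempty ∧ (∀ Q ∈ s, ∀ R ∈ s, Q ≤ R ∨ R ≤ Q) ∧
      (∀ Q ∈ s, Q ≠ ⊥ ∧ IsPGroup p Q) ∧ ∃ T ∈ s, ∀ Q ∈ s, Q ≤ T ∧
        T ≤ Subgroup.normalizer ((Q : Subgroup G) : Set G)} =
      ↑(Finset.univ.filter (fun s : Finset (Subgroup G) => KR.IsNChain p s)) := by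
    ext s
    simp only [Finset.coe_filter, Finset.mem_univ, true_and]
    rfl
  rw [hS, finsum_mem_coe_finset]
  -- each term by `count_sub`
  have hterm : ∀ s : Finset (Subgroup G),
      (-1 : ℤ) ^ (s.card - 1) * (Nat.card (((⨅ Q ∈ s, Subgroup.normalizer ((Q : Subgroup G) : Set G) : Subgroup G))) : ℤ) * ((Nat.card {ψ : Cfsg.IrrCharacter (((⨅ Q ∈ s, Subgroup.normalizer ((Q : Subgroup G) : Set G) : Subgroup G))) | ∃ β : Set (Cfsg.IrrCharacter (((⨅ Q ∈ s, Subgroup.normalizer ((Q : Subgroup G) : Set G) : Subgroup G)))), ψ ∈ β ∧ Cfsg.IsInducedBlock M (((⨅ Q ∈ s, Subgroup.normalizer ((Q : Subgroup G) : Set G) : Subgroup G))) β b} : ℤ) - (Cfsg.blockRank p {ψ : Cfsg.IrrCharacter (((⨅ Q ∈ s, Subgroup.normalizer ((Q : Subgroup G) : Set G) : Subgroup G))) | ∃ β : Set (Cfsg.IrrCharacter (((⨅ Q ∈ s, Subgroup.normalizer ((Q : Subgroup G) : Set G) : Subgroup G)))), ψ ∈ β ∧ Cfsg.IsInducedBlock M (((⨅ Q ∈ s, Subgroup.normalizer ((Q : Subgroup G) :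 Set G) : Subgroup G))) β b} : ℤ)) =
      ∑ u ∈ Finset.univ.filter (fun u : G => u ≠ 1 ∧ ∃ k : ℕ, orderOf u = p ^ k),
        if u ∈ KR.stab s then (-1 : ℤ) ^ (s.card - 1) *
          KR.Phi p M b (KR.stab s ⊓ Subgroup.centralizer ({u} : Set G)) else 0 := by
    intro s
    have h := KR.count_sub hM b hb (KR.stab s)
    rw [mul_assoc]
    change (-1 : ℤ) ^ (s.card - 1) * ((Nat.card (KR.stab s) : ℤ) *
      ((Nat.card (KR.bsub M (KR.stab s) b) : ℤ) - (blockRank p (KR.bsub M (KR.stab s) b) : ℤ))) = _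
    rw [h, Finset.mul_sum, ← Finset.sum_filter, Finset.filter_filter]
  refine Eq.trans ?_ (Finset.sum_congr
    (s₁ := Finset.univ.filter (fun s : Finset (Subgroup G) => KR.IsNChain p s)) rfl
    fun s _ => (hterm s).symm)
  rw [Finset.sum_comm, KR.count_top hM b hb]
  refine Finset.sum_congr rfl fun u hu => ?_
  obtain ⟨hu1, hup⟩ := (Finset.mem_filter.mp hu).2
  rw [← Cfsg.Agent.Lib.H28.KR.chain_sum_core (p := p) (u := u)
    (fun _ hs => Cfsg.Agent.Lib.H15.KR.flip_isUChain hup hu1 hs)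
    (fun _ hs hX => Cfsg.Agent.Lib.H8.KR.piv_flip_of_not_mem hup hu1 hs hX)
    (fun _ hs hX => Cfsg.Agent.Lib.H28.KR.piv_flip_of_mem hup hu1 hs hX) (KR.Phi p M b), Finset.sum_filter, Finset.sum_filter]
  refine Finset.sum_congr rfl fun s _ => ?_
  by_cases h1 : KR.IsNChain p s
  · rw [if_pos h1]
    by_cases h2 : u ∈ KR.stab s
    · rw [if_pos h2, if_pos ⟨h1, h2⟩]
    · rw [if_neg h2, if_neg (fun h => h2 h.2)]
  · rw [if_neg h1, if_neg (fun h => h1 h.1)]

end Cfsg.Agent.S4651
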