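import Cfsg.Statements.S4652
import Cfsg.Agent.Lib.H23.BlockDefect
import Cfsg.Agent.Lib.H23.BlockIdem
import Cfsg.Agent.Lib.L0.BlockMinMax

set_option autoImplicit false
open Cfsg

namespace Cfsg.Agent.S4652

open Cfsg.Agent.Lib.H23 Cfsg.Agent.Lib.H24 Cfsg.Agent.Lib.L0.BlockMinMax
open scoped ComplexConjugate

variable {G : Type*} [Group G] [Fintype G]

/-- The principal character as an irreducible character. -/
noncomputable def triv (G : Type*) [Group G] [Fintype G] : IrrCharacter G :=
  ⟨fun _ => 1, isIrrCharacter_one⟩

theorem principalBlock_eq (M : Ideal AlgInt) :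
    principalBlock M G = blockOf M ((triv G : IrrCharacter G) : G → ℂ) := rfl

theorem charDegree_triv : charDegree ((triv G : IrrCharacter G) : G → ℂ) = 1 := by
  have h := apply_one_eq_charDegree ((triv G : IrrCharacter G) : G → ℂ) (triv G).2
  have h1 : ((triv G : IrrCharacter G) : G → ℂ) 1 = 1 := rfl
  rw [h1] at h
  exact_mod_cast h.symm

theorem blockDefect_principal (p : ℕ) [Fact p.Prime] (M : Ideal AlgInt) [M.IsPrime] :
    blockDefect p (principalBlock M G) = (Nat.card G).factorization p := by
  have h := minDeg_le (p := p) (M := M) (triv G) (mem_blockOf_self (triv G))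
  rw [charDegree_triv, Nat.factorization_one, Finsupp.zero_apply] at h
  have h2 := minDeg_eq_sub_blockDefect (p := p) (M := M) (triv G)
  rw [principalBlock_eq, blockDefect]
  unfold minDeg at h
  omega

theorem isDefectClass_conj (M : Ideal AlgInt) (B : Set (IrrCharacter G)) (g x : G)
    (h : IsDefectClass M B g) : IsDefectClass M B (x * g * x⁻¹) := by
  obtain ⟨h1, h2, h3⟩ := h
  refine ⟨by rwa [blockCoeff_conj], by rwa [blockCoeff_conj], fun χ hχ => ?_⟩
  have := h3 χ hχ
  have hcj : IsConj g (x * g * x⁻¹) := isConj_iff.mpr ⟨x, rfl⟩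
  have hc : centralChar (χ : G → ℂ) (x * g * x⁻¹) = centralChar (χ : G → ℂ) g := by
    unfold centralChar
    rw [irr_conj, index_centralizer_eq_card_conj g, index_centralizer_eq_card_conj (x * g * x⁻¹)]
    have : {y : G // IsConj (x * g * x⁻¹) y} = {y : G // IsConj g y} := by
      congr 1
      ext y
      exact ⟨fun hy => hcj.trans hy, fun hy => hcj.symm.trans hy⟩
    rw [this]
  rwa [hc]


/-- Fix a prime p and a maximal ideal M of the algebraic integers containing p. The defect groups of the principal p-block of a finite group G are exactly the Sylow p-subgroups of G: a subgroup D is a defect group of the principal block if and only if D is a Sylow p-subgroup. -/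
theorem result {G : Type*} [Group G] [Fintype G] (p : ℕ) [Fact p.Prime] (M : Ideal Cfsg.AlgInt) (hM : Cfsg.IsPModular p M) (D : Subgroup G) : Cfsg.IsDefectGroup p M (Cfsg.principalBlock M G) D ↔ ∃ S : Sylow p G, (S : Subgroup G) = D := by
  classical
  haveI hP := isPrime_of_isPModular hM
  have hp : p.Prime := Fact.out
  have hcard : ∀ D : Subgroup G, IsDefectGroup p M (principalBlock M G) D →
      Nat.card D = p ^ (Nat.card G).factorization p := by
    intro D hD
    have h := card_defectGroup hM (triv G) D hD
    rw [← principalBlock_eq, blockDefect_principal] at h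
    exact h
  have hsyl : ∀ D : Subgroup G, Nat.card D = p ^ (Nat.card G).factorization p →
      ∃ S : Sylow p G, (S : Subgroup G) = D := by
    intro D hD
    have hDp : IsPGroup p D := IsPGroup.of_card hD
    obtain ⟨S, hS⟩ := hDp.exists_le_sylow
    refine ⟨S, ?_⟩
    have h2 : Nat.card (S : Subgroup G) = Nat.card D := by
      rw [Sylow.card_eq_multiplicity, hD]
    exact (Subgroup.eq_of_le_of_card_ge hS h2.le).symm
  constructor
  · intro hD
    exact hsyl D (hcard D hD)
  · rintro ⟨S, rfl⟩
    obtain ⟨g₀, hg₀⟩ := exists_isDefectClass hM (triv G)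
    rw [← principalBlock_eq] at hg₀
    -- a Sylow subgroup of the centralizer of g₀
    obtain ⟨P₀⟩ : Nonempty (Sylow p (Subgroup.centralizer ({g₀} : Set G))) := inferInstance
    set D₀ : Subgroup G := (P₀ : Subgroup (Subgroup.centralizer ({g₀} : Set G))).map
      (Subgroup.centralizer ({g₀} : Set G)).subtype with hD₀
    have hD₀def : IsDefectGroup p M (principalBlock M G) D₀ := ⟨g₀, hg₀, P₀, rfl⟩
    obtain ⟨S₀, hS₀⟩ := hsyl D₀ (hcard D₀ hD₀def)
    obtain ⟨x, hx⟩ := MulAction.exists_smul_eq G S₀ S
    -- the conjugate class representative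
    set g : G := x * g₀ * x⁻¹ with hg
    have hgdef : IsDefectClass M (principalBlock M G) g := isDefectClass_conj M _ g₀ x hg₀
    have hSle : (S : Subgroup G) ≤ Subgroup.centralizer ({g} : Set G) := by
      intro s hs
      rw [← hx, Sylow.coe_subgroup_smul, Subgroup.mem_pointwise_smul_iff_inv_smul_mem] at hs
      rw [hS₀] at hs
      obtain ⟨c, _, hc⟩ := hs
      have hc2 : (c : G) * g₀ = g₀ * c := by
        have := c.2
        rw [Subgroup.mem_centralizer_singleton_iff] at this
        exact this
      rw [Subgroup.mem_centralizer_singleton_iff]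
      have hs' : s = x * (c : G) * x⁻¹ := by
        have : (c : G) = x⁻¹ * s * x := by
          have h := hc
          rw [MulAut.smul_def, MulAut.conj_inv_apply] at h
          exact h
        rw [this]; group
      rw [hs', hg]
      calc x * (c : G) * x⁻¹ * (x * g₀ * x⁻¹) = x * ((c : G) * g₀) * x⁻¹ := by group
        _ = x * (g₀ * (c : G)) * x⁻¹ := by rw [hc2]
        _ = x * g₀ * x⁻¹ * (x * (c : G) * x⁻¹) := by group
    -- S pulled back to the centralizer is a Sylow subgroup there
    set P' : Subgroup (Subgroup.centralizer ({g} : Set G)) :=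
      (S : Subgroup G).subgroupOf (Subgroup.centralizer ({g} : Set G)) with hP'
    have hP'map : P'.map (Subgroup.centralizer ({g} : Set G)).subtype = (S : Subgroup G) := by
      rw [hP', Subgroup.map_subgroupOf_eq_of_le hSle]
    have hP'p : IsPGroup p P' := by
      have : IsPGroup p (S : Subgroup G) := S.isPGroup'
      exact this.comap_subtype
    obtain ⟨Q, hQ⟩ := hP'p.exists_le_sylow
    have hQcard : Nat.card (Q : Subgroup (Subgroup.centralizer ({g} : Set G))) ≤ Nat.card P' := by
      have h1 : Nat.card P' = Nat.card (S : Subgroup G) := by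
        rw [← hP'map, Subgroup.card_map_of_injective (Subgroup.subtype_injective _)]
      rw [h1, Sylow.card_eq_multiplicity, Sylow.card_eq_multiplicity]
      refine Nat.pow_le_pow_right hp.pos ?_
      have hdvd : Nat.card (Subgroup.centralizer ({g} : Set G)) ∣ Nat.card G :=
        Subgroup.card_subgroup_dvd_card _
      exact (Nat.factorization_le_iff_dvd Nat.card_pos.ne' Nat.card_pos.ne').mpr hdvd p
    have hPQ : P' = (Q : Subgroup (Subgroup.centralizer ({g} : Set G))) :=
      Subgroup.eq_of_le_of_card_ge hQ hQcard
    refine ⟨g, hgdef, Q, ?_⟩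
    rw [← hPQ, hP'map]

end Cfsg.Agent.S4652
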