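import Cfsg.Statements.S4657
import Cfsg.Agent.Lib.L0.BrauerPairHom

set_option autoImplicit false
open Cfsg

namespace Cfsg.Agent.S4657

open MonoidAlgebra Cfsg.Agent.Lib.H23 Cfsg.Agent.Lib.H24 Cfsg.Agent.Lib.L0
  Cfsg.Agent.Lib.L0.BrauerPairHom

/-- Fix a prime p and a maximal ideal M of the algebraic integers containing p. Every Brauer pair (P, e) of the finite group G is a Brauer pair of exactly one p-block B of G. -/
theorem result {G : Type*} [Group G] [Fintype G] (p : ℕ) [Fact p.Prime] (M : Ideal Cfsg.AlgInt) (hM : Cfsg.IsPModular p M) (P : Subgroup G) (e : Set (Cfsg.IrrCharacter (Subgroup.centralizer (P : Set G)))) (hPe : Cfsg.IsBrauerPair p M P e) : ∃! B : Set (Cfsg.IrrCharacter G), Cfsg.IsBrauerPairOf p M B P e := by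
  classical
  haveI hPr := isPrime_of_isPModular hM
  haveI : Fintype (Subgroup.centralizer (P : Set G)) := Fintype.ofFinite _
  obtain ⟨hP, ξ₀, rfl⟩ := hPe
  obtain ⟨χ₀, hcorr⟩ := exists_corr P hM hP ξ₀
  refine ⟨blockOf M (χ₀ : G → ℂ), ?_, ?_⟩
  · exact (isBrauerPairOf_iff P hM hP ξ₀ χ₀ hcorr χ₀).2 (mem_blockOf_self χ₀)
  · intro B' hB'
    obtain ⟨χ₁, rfl⟩ := hB'.2.1
    have := (isBrauerPairOf_iff P hM hP ξ₀ χ₀ hcorr χ₁).1 hB'
    exact (blockOf_eq_of_mem this).symm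

end Cfsg.Agent.S4657
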