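import Cfsg.Statements.S4663
import Cfsg.Agent.Lib.L0.BrauerPairHom
import Cfsg.Agent.Lib.L0.PrincipalBrauerPair
import Cfsg.Agent.Lib.H23.BlockPrincipal

set_option autoImplicit false
open Cfsg

namespace Cfsg.Agent.S4663

open MonoidAlgebra Cfsg.Agent.Lib.H23 Cfsg.Agent.Lib.H24 Cfsg.Agent.Lib.L0
  Cfsg.Agent.Lib.L0.PrincipalBrauerPair Cfsg.Agent.Lib.L0.BrauerPairHom

/-- Fix a prime p and a maximal ideal M of the algebraic integers containing p. Brauer's Third Main Theorem in the language of Brauer pairs: for the principal p-block B₀ of the finite group G and any p-subgroup Q, a p-block e of C_G(Q) makes (Q, e) a Brauer pair of B₀ if and only if e is the principal p-block of C_G(Q). Equivalently, modulo M the truncation to C_G(Q) of the idempotent of B₀ is the idempotent of the principal block of C_G(Q). -/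
theorem result {G : Type*} [Group G] [Fintype G] (p : ℕ) [Fact p.Prime] (M : Ideal Cfsg.AlgInt) (hM : Cfsg.IsPModular p M) (Q : Subgroup G) (hQ : IsPGroup p Q) (e : Set (Cfsg.IrrCharacter (Subgroup.centralizer (Q : Set G)))) (he : Cfsg.IsPBlock M e) : Cfsg.IsBrauerPairOf p M (Cfsg.principalBlock M G) Q e ↔ e = Cfsg.principalBlock M (Subgroup.centralizer (Q : Set G)) := by
  classical
  haveI hPr := isPrime_of_isPModular hM
  haveI : Fintype (Subgroup.centralizer (Q : Set G)) := Fintype.ofFinite _
  constructor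
  · intro h
    obtain ⟨ξ₀, rfl⟩ := he
    have hξ₀ : ξ₀ ∈ blockOf M (ξ₀ : Subgroup.centralizer (Q : Set G) → ℂ) := mem_blockOf_self ξ₀
    have htriv : Cfsg.Agent.Lib.H24.trivialIrr G ∈ principalBlock M G := sameBlock_refl _
    have h1 := omega_resAlg_sub_of_isBrauerPairOf Q hM h hξ₀ htriv
      (pRegSum_mem_center (G := G) p) (pRegSum_mem_intCoeff p)
    rw [resAlg_pRegSum] at h1
    have h2 := omega_pRegSum_not_memLocalIdeal hM (Cfsg.Agent.Lib.H24.trivialIrr G) htriv
    have h3 : ¬ MemLocalIdeal M (omega (ξ₀ : Subgroup.centralizer (Q : Set G) → ℂ)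
        (pRegSum (Subgroup.centralizer (Q : Set G)) p)) := by
      intro h4
      apply h2
      have := memLocalIdeal_sub h4 h1
      rwa [sub_sub_cancel] at this
    exact principalBlock_eq_blockOf (mem_principalBlock_of_omega hM ξ₀ h3)
  · intro h
    rw [h]
    exact isBrauerPairOf_principal hM Q hQ

end Cfsg.Agent.S4663
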