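import Cfsg.Statements.S4665
import Cfsg.Agent.Lib.H24.CharOrth

set_option autoImplicit false
open Cfsg

namespace Cfsg.Agent.S4665

open Cfsg.Agent.Lib.H24

/-- The sum of a character over a subgroup is the order of the subgroup times a natural number. -/
theorem sum_subgroup_irr {G : Type*} [Group G] (P : Subgroup G) [Fintype P]
    (ψ : Cfsg.IrrCharacter G) : ∃ d : ℕ, ∑ h : P, (ψ : G → ℂ) h = (Nat.card P : ℂ) * d := by
  obtain ⟨n, ρ, _, hψ⟩ := ψ.2
  let σ : Representation ℂ P (Fin n → ℂ) := ρ.comp P.subtype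
  have hP : (Nat.card P : ℂ) ≠ 0 := by exact_mod_cast (Nat.card_pos (α := P)).ne'
  let _ : Invertible (Nat.card P : ℂ) := invertibleOfNonzero hP
  have h := Representation.card_inv_mul_sum_char_eq_finrank σ
  refine ⟨Module.finrank ℂ (Representation.invariants σ), ?_⟩
  rw [← h, ← mul_assoc, mul_inv_cancel₀ hP, one_mul, ← hψ]
  rfl

/-- Fix a prime p, a maximal ideal M of the algebraic integers containing p, and a p-block B of the finite group G, and let p^a be the p-part of the order of G. Let χ be an integer combination of the irreducible characters in B. If the function that agrees with χ on p-regular elements and vanishes on p-singular elements is again an integer combination of the irreducible characters in B, then p^a divides χ(1). -/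
theorem result {G : Type*} [Group G] [Fintype G] (p : ℕ) [Fact p.Prime] (M : Ideal Cfsg.AlgInt) (hM : Cfsg.IsPModular p M) (B : Set (Cfsg.IrrCharacter G)) (hB : Cfsg.IsPBlock M B) (χ : G → ℂ) (hχ : (∃ n : Cfsg.IrrCharacter G → ℤ, ∀ g : G, χ g = ∑ᶠ ψ ∈ B, (n ψ : ℂ) * (ψ : G → ℂ) g)) (h0 : (∃ n : Cfsg.IrrCharacter G → ℤ, ∀ g : G, Cfsg.pRegularPart p χ g = ∑ᶠ ψ ∈ B, (n ψ : ℂ) * (ψ : G → ℂ) g)) : ∃ k : ℤ, χ 1 = (p ^ (Nat.card G).factorization p : ℂ) * k := by
  classical
  obtain ⟨n', hn'⟩ := h0
  obtain ⟨P⟩ : Nonempty (Sylow p G) := inferInstance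
  have hPcard : Nat.card P = p ^ (Nat.card G).factorization p := P.card_eq_multiplicity
  have : Fintype (P : Subgroup G) := Fintype.ofFinite _
  -- the sum of the p-regular part over P is χ 1
  have hsum1 : ∑ h : (P : Subgroup G), Cfsg.pRegularPart p χ (h : G) = χ 1 := by
    rw [Finset.sum_eq_single (1 : (P : Subgroup G))]
    · unfold Cfsg.pRegularPart
      rw [if_pos]
      · rfl
      · unfold Cfsg.IsPRegular
        rw [Subgroup.coe_one, orderOf_one]
        exact (Fact.out : p.Prime).one_lt.ne' ∘ Nat.dvd_one.mp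
    · intro h _ hne
      unfold Cfsg.pRegularPart
      rw [if_neg]
      unfold Cfsg.IsPRegular
      rw [not_not]
      obtain ⟨k, hk⟩ := (IsPGroup.iff_orderOf.mp P.isPGroup') h
      rw [Subgroup.orderOf_coe, hk]
      have hk0 : k ≠ 0 := by
        intro hk0
        rw [hk0, pow_zero, orderOf_eq_one_iff] at hk
        exact hne hk
      exact dvd_pow_self p hk0
    · intro h; exact absurd (Finset.mem_univ _) h
  -- expand through the given decomposition
  choose d hd using fun ψ : Cfsg.IrrCharacter G => sum_subgroup_irr (P : Subgroup G) ψ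
  have hsum2 : ∑ h : (P : Subgroup G), Cfsg.pRegularPart p χ (h : G) =
      (Nat.card P : ℂ) * ((∑ ψ ∈ (Set.toFinite B).toFinset, n' ψ * (d ψ : ℤ) : ℤ) : ℂ) := by
    simp only [hn']
    simp only [finsum_mem_eq_finite_toFinset_sum _ (Set.toFinite B)]
    rw [Finset.sum_comm]
    push_cast
    rw [Finset.mul_sum]
    refine Finset.sum_congr rfl (fun ψ _ => ?_)
    rw [← Finset.mul_sum, hd ψ]
    ring
  rw [hsum1] at hsum2
  refine ⟨∑ ψ ∈ (Set.toFinite B).toFinset, n' ψ * (d ψ : ℤ), ?_⟩
  rw [hsum2, hPcard]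
  push_cast
  rfl

end Cfsg.Agent.S4665
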