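import Cfsg.Statements.S4666
import Cfsg.Agent.Lib.L0.TildeVal

set_option autoImplicit false
open Cfsg

namespace Cfsg.Agent.S4666

open Cfsg.Agent.Lib.H23 Cfsg.Agent.Lib.H24 Cfsg.Agent.Lib.L0 Cfsg.Agent.Lib.L0.Tilde
  Cfsg.Agent.Lib.L0.BlockMinMax
open scoped ComplexConjugate

/-- Fix a prime p and a maximal ideal M of the algebraic integers containing p, and a p-block B of the finite group G of defect d. For every integer combination χ of the irreducible characters in B, p^d times the function that agrees with χ on p-regular elements and vanishes elsewhere is again an integer combination of the irreducible characters in B. -/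
theorem result {G : Type*} [Group G] [Fintype G] (p : ℕ) [Fact p.Prime] (M : Ideal Cfsg.AlgInt) (hM : Cfsg.IsPModular p M) (B : Set (Cfsg.IrrCharacter G)) (hB : Cfsg.IsPBlock M B) (χ : G → ℂ) (hχ : (∃ n : Cfsg.IrrCharacter G → ℤ, ∀ g : G, χ g = ∑ᶠ ψ ∈ B, (n ψ : ℂ) * (ψ : G → ℂ) g)) : (∃ n : Cfsg.IrrCharacter G → ℤ, ∀ g : G, (p ^ Cfsg.blockDefect p B : ℂ) * Cfsg.pRegularPart p χ g = ∑ᶠ ψ ∈ B, (n ψ : ℂ) * (ψ : G → ℂ) g) := by
  classical
  haveI := Fintype.ofFinite (IrrCharacter G)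
  haveI hP := isPrime_of_isPModular hM
  have hp : p.Prime := Fact.out
  obtain ⟨χ₀, rfl⟩ := hB
  set B := blockOf M (χ₀ : G → ℂ) with hBdef
  set a := (Nat.card G).factorization p with ha
  set e := minDeg p B with he
  have hea : e ≤ a := minDeg_le_card (p := p) (M := M) χ₀
  have hd : blockDefect p B = a - e := rfl
  obtain ⟨n, hn⟩ := hχ
  -- the integers `[ψ̃, ξ] / p^e`
  have hc : ∀ ψ ξ : IrrCharacter G, ∃ c : ℤ, ψ ∈ B →
      AA p (ψ : G → ℂ) (ξ : G → ℂ) = ((p : ℂ) ^ e) * (c : ℂ) := by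
    intro ψ ξ
    by_cases hψ : ψ ∈ B
    · obtain ⟨k, hk⟩ := AA_int hp (isCharacter_of_irr ψ.2) ξ
      have h1 := pow_dvd_AA hp ψ ξ k hk
      have h2 : e ≤ (charDegree (ψ : G → ℂ)).factorization p := minDeg_le (p := p) χ₀ hψ
      obtain ⟨c, hc⟩ := (pow_dvd_pow (p : ℤ) h2).trans h1
      refine ⟨c, fun _ => ?_⟩
      rw [hk, hc]
      push_cast
      rfl
    · exact ⟨0, fun h => absurd h hψ⟩
  choose c hc using hc
  refine ⟨fun ξ => ∑ ψ : IrrCharacter G, if ψ ∈ B then n ψ * c ψ ξ else 0, ?_⟩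
  intro g
  rw [finsum_mem_eq_sum_ite]
  have hpe : ((p : ℂ)) ^ e ≠ 0 := pow_ne_zero _ (Nat.cast_ne_zero.2 hp.ne_zero)
  -- expansion of `ψ̃`
  have hexp : ∀ ψ : IrrCharacter G, ψ ∈ B →
      tilde p (ψ : G → ℂ) g = (p : ℂ) ^ e *
        ∑ ξ : IrrCharacter G, if ξ ∈ B then (c ψ ξ : ℂ) * (ξ : G → ℂ) g else 0 := by
    intro ψ hψ
    have h1 := congrFun (classFunction_expansion (tilde p (ψ : G → ℂ))
      (tilde_isClassFunction p (irr_isClassFunction ψ))) g
    rw [Finset.sum_apply] at h1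
    simp only [Pi.smul_apply, smul_eq_mul] at h1
    rw [h1, Finset.mul_sum]
    refine Finset.sum_congr rfl fun ξ _ => ?_
    by_cases hξ : ξ ∈ B
    · rw [if_pos hξ]
      have := hc ψ ξ hψ
      unfold AA at this
      rw [this]; ring
    · rw [if_neg hξ]
      have h0 : AA p (ψ : G → ℂ) (ξ : G → ℂ) = 0 := by
        refine AA_eq_zero_of_not_sameBlock hM ψ ξ fun h => hξ ?_
        exact sameBlock_trans hψ h
      unfold AA at h0
      rw [h0]; ring
  -- the right-hand side
  have hR : ∑ ξ : IrrCharacter G, (if ξ ∈ B then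
      (((∑ ψ : IrrCharacter G, if ψ ∈ B then n ψ * c ψ ξ else 0 : ℤ)) : ℂ) * (ξ : G → ℂ) g else 0) =
      ∑ ψ : IrrCharacter G, if ψ ∈ B then
        (n ψ : ℂ) * (tilde p (ψ : G → ℂ) g / (p : ℂ) ^ e) else 0 := by
    have h1 : ∀ ξ : IrrCharacter G, (if ξ ∈ B then
        (((∑ ψ : IrrCharacter G, if ψ ∈ B then n ψ * c ψ ξ else 0 : ℤ)) : ℂ) * (ξ : G → ℂ) g else 0) =
        ∑ ψ : IrrCharacter G, if ψ ∈ B then (if ξ ∈ B then
          (n ψ : ℂ) * ((c ψ ξ : ℂ) * (ξ : G → ℂ) g) else 0) else 0 := by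
      intro ξ
      by_cases hξ : ξ ∈ B
      · simp only [if_pos hξ]
        push_cast
        rw [Finset.sum_mul]
        refine Finset.sum_congr rfl fun ψ _ => ?_
        split_ifs
        · push_cast; ring
        · simp
      · simp only [if_neg hξ]
        symm
        refine Finset.sum_eq_zero fun ψ _ => ?_
        split_ifs <;> rfl
    rw [Finset.sum_congr rfl fun ξ _ => h1 ξ, Finset.sum_comm]
    refine Finset.sum_congr rfl fun ψ _ => ?_
    by_cases hψ : ψ ∈ B
    · simp only [if_pos hψ]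
      rw [hexp ψ hψ, mul_div_cancel_left₀ _ hpe, Finset.mul_sum]
      refine Finset.sum_congr rfl fun ξ _ => ?_
      split_ifs
      · rfl
      · ring
    · simp only [if_neg hψ]
      exact Finset.sum_const_zero
  rw [hR]
  -- the left-hand side
  have hχg : χ g = ∑ ψ : IrrCharacter G, if ψ ∈ B then (n ψ : ℂ) * (ψ : G → ℂ) g else 0 := by
    rw [hn g, finsum_mem_eq_sum_ite]
  rw [hd]
  unfold pRegularPart IsPRegular
  by_cases hg : p ∣ orderOf g
  · rw [if_neg (not_not.mpr hg), mul_zero]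
    symm
    refine Finset.sum_eq_zero fun ψ _ => ?_
    split_ifs
    · simp only [tilde, if_pos hg, zero_div, mul_zero]
    · rfl
  · rw [if_pos hg, hχg, Finset.mul_sum]
    refine Finset.sum_congr rfl fun ψ _ => ?_
    split_ifs
    · simp only [tilde, if_neg hg]
      rw [← ha]
      have : a = (a - e) + e := (Nat.sub_add_cancel hea).symm
      conv_rhs => rw [this, pow_add]
      push_cast
      field_simp
    · ring

end Cfsg.Agent.S4666
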