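import Cfsg.Statements.S4667
import Cfsg.Agent.Lib.L0.TildeChar

set_option autoImplicit false
open Cfsg

namespace Cfsg.Agent.S4667

open Cfsg.Agent.Lib.H23 Cfsg.Agent.Lib.H24 Cfsg.Agent.Lib.L0 Cfsg.Agent.Lib.L0.Tilde
open scoped ComplexConjugate TensorProduct

variable {G : Type*} [Group G] [Fintype G]

/-- The inner product with `ψ`, as a linear functional. -/
noncomputable def innerFun (ψ : G → ℂ) : (G → ℂ) →ₗ[ℂ] ℂ where
  toFun f := classInner f ψ
  map_add' f g := classInner_add_left f g ψ
  map_smul' c f := by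
    rw [classInner_smul_left]; rfl

theorem pRegularPart_eq (p : ℕ) (χ : G → ℂ) (g : G) :
    pRegularPart p χ g = if p ∣ orderOf g then 0 else χ g := by
  unfold pRegularPart IsPRegular
  by_cases h : p ∣ orderOf g
  · rw [if_neg (not_not.mpr h), if_pos h]
  · rw [if_pos h, if_neg h]

theorem pRegularPart_sum (p : ℕ) {ι : Type*} (s : Finset ι) (c : ι → ℂ) (f : ι → G → ℂ) :
    pRegularPart p (∑ i ∈ s, c i • f i) = ∑ i ∈ s, c i • pRegularPart p (f i) := by
  funext x
  simp only [pRegularPart_eq, Finset.sum_apply, Pi.smul_apply, smul_eq_mul]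
  split_ifs
  · simp
  · rfl

theorem pRegularPart_idem (p : ℕ) (χ : G → ℂ) :
    pRegularPart p (pRegularPart p χ) = pRegularPart p χ := by
  funext x
  simp only [pRegularPart_eq]
  split_ifs <;> rfl

theorem pRegularPart_isClassFunction (p : ℕ) {θ : G → ℂ} (hθ : IsClassFunction G θ) :
    IsClassFunction G (pRegularPart p θ) := by
  intro g h
  have h1 : orderOf (h * g * h⁻¹) = orderOf g := (MulAut.conj h).orderOf_eq g
  simp only [pRegularPart_eq, h1, hθ g h]

theorem classInner_pRegularPart (p : ℕ) (hp : p.Prime) (χ ψ : G → ℂ) :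
    classInner (pRegularPart p χ) ψ =
      ((p ^ (Nat.card G).factorization p : ℕ) : ℂ)⁻¹ * AA p χ ψ := by
  have hpa : ((p ^ (Nat.card G).factorization p : ℕ) : ℂ) ≠ 0 := by
    exact_mod_cast (pow_pos hp.pos _).ne'
  rw [AA_eq, classInner]
  have : ∑ g : G, pRegularPart p χ g * conj (ψ g) =
      ∑ x : G, (if p ∣ orderOf x then 0 else χ x * conj (ψ x)) := by
    refine Finset.sum_congr rfl fun x _ => ?_
    rw [pRegularPart_eq]
    split_ifs
    · simp
    · rfl
  rw [this]
  field_simp

/-- Fix a prime p and a maximal ideal M of the algebraic integers containing p, and a p-block B of the finite group G. The p-regular rank of B (the number of irreducible Brauer characters in B) times the order of G equals the sum over the p-regular elements x of G of Σ_{χ ∈ B} χ(x) χ(x⁻¹) (written with the restriction of χ to p-regular elements, which vanishes at p-singular x). -/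
theorem result {G : Type*} [Group G] [Fintype G] (p : ℕ) [Fact p.Prime] (M : Ideal Cfsg.AlgInt) (hM : Cfsg.IsPModular p M) (B : Set (Cfsg.IrrCharacter G)) (hB : Cfsg.IsPBlock M B) : (Nat.card G : ℂ) * (Cfsg.blockRank p B : ℂ) = ∑ x : G, ∑ᶠ χ ∈ B, Cfsg.pRegularPart p (χ : G → ℂ) x * (χ : G → ℂ) x⁻¹ := by
  classical
  haveI := Fintype.ofFinite (IrrCharacter G)
  haveI hP := isPrime_of_isPModular hM
  have hp : p.Prime := Fact.out
  obtain ⟨χ₀, rfl⟩ := hB
  set B := blockOf M (χ₀ : G → ℂ) with hBdef
  set V : Submodule ℂ (G → ℂ) :=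
    Submodule.span ℂ ((fun χ : IrrCharacter G => pRegularPart p (χ : G → ℂ)) '' B) with hV
  -- the projection
  set Pr : (G → ℂ) →ₗ[ℂ] (G → ℂ) := ∑ χ : IrrCharacter G, if χ ∈ B then
    dualTensorHom ℂ (G → ℂ) (G → ℂ) (innerFun (χ : G → ℂ) ⊗ₜ pRegularPart p (χ : G → ℂ)) else 0
    with hPrdef
  have hPrdefapply : ∀ f : G → ℂ, Pr f = ∑ χ : IrrCharacter G, if χ ∈ B then
      classInner f (χ : G → ℂ) • pRegularPart p (χ : G → ℂ) else 0 := by
    intro f
    rw [hPrdef, LinearMap.sum_apply]
    refine Finset.sum_congr rfl fun χ _ => ?_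
    split_ifs
    · rw [dualTensorHom_apply]; rfl
    · rfl
  have hmem : ∀ χ : IrrCharacter G, χ ∈ B → pRegularPart p (χ : G → ℂ) ∈ V :=
    fun χ hχ => Submodule.subset_span ⟨χ, hχ, rfl⟩
  have hproj : LinearMap.IsProj V Pr := by
    constructor
    · intro f
      rw [hPrdefapply]
      refine Submodule.sum_mem _ fun χ _ => ?_
      split_ifs with h
      · exact Submodule.smul_mem _ _ (hmem χ h)
      · exact Submodule.zero_mem _
    · intro v hv
      have hgen : ∀ ψ : IrrCharacter G, ψ ∈ B →
          Pr (pRegularPart p (ψ : G → ℂ)) = pRegularPart p (ψ : G → ℂ) := by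
        intro ψ hψ
        rw [hPrdefapply]
        have hcl : IsClassFunction G (pRegularPart p (ψ : G → ℂ)) :=
          pRegularPart_isClassFunction p (irr_isClassFunction ψ)
        have hexp := classFunction_expansion _ hcl
        have h2 : pRegularPart p (pRegularPart p (ψ : G → ℂ)) =
            ∑ χ : IrrCharacter G, classInner (pRegularPart p (ψ : G → ℂ)) (χ : G → ℂ) •
              pRegularPart p (χ : G → ℂ) := by
          conv_lhs => rw [hexp]
          exact pRegularPart_sum p _ _ _
        rw [pRegularPart_idem] at h2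
        conv_rhs => rw [h2]
        refine Finset.sum_congr rfl fun χ _ => ?_
        by_cases hχ : χ ∈ B
        · rw [if_pos hχ]
        · rw [if_neg hχ, classInner_pRegularPart p hp]
          have h0 : AA p (ψ : G → ℂ) (χ : G → ℂ) = 0 := by
            refine AA_eq_zero_of_not_sameBlock hM ψ χ fun h => hχ ?_
            exact sameBlock_trans hψ h
          rw [h0, mul_zero, zero_smul]
      refine Submodule.span_induction (p := fun w _ => Pr w = w) ?_ ?_ ?_ ?_ hv
      · rintro _ ⟨ψ, hψ, rfl⟩
        exact hgen ψ hψ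
      · exact map_zero _
      · intro x y _ _ hx hy
        rw [map_add, hx, hy]
      · intro c x _ hx
        rw [map_smul, hx]
  have htr := hproj.trace
  -- compute the trace
  have htr2 : LinearMap.trace ℂ (G → ℂ) Pr = ∑ χ : IrrCharacter G, if χ ∈ B then
      classInner (pRegularPart p (χ : G → ℂ)) (χ : G → ℂ) else 0 := by
    rw [hPrdef, map_sum]
    refine Finset.sum_congr rfl fun χ _ => ?_
    split_ifs
    · rw [LinearMap.trace_eq_contract_apply, contractLeft_apply]; rfl
    · exact map_zero _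
  have hrank : (blockRank p B : ℂ) = ∑ χ : IrrCharacter G, if χ ∈ B then
      classInner (pRegularPart p (χ : G → ℂ)) (χ : G → ℂ) else 0 := by
    rw [← htr2, htr]
    rfl
  rw [hrank]
  have hG : (Nat.card G : ℂ) ≠ 0 := by exact_mod_cast (Nat.card_pos (α := G)).ne'
  have hrhs : ∀ x : G, ∑ᶠ χ ∈ B, pRegularPart p (χ : G → ℂ) x * (χ : G → ℂ) x⁻¹ =
      ∑ χ : IrrCharacter G, if χ ∈ B then
        pRegularPart p (χ : G → ℂ) x * conj ((χ : G → ℂ) x) else 0 := by
    intro x
    rw [finsum_mem_eq_sum_ite]
    refine Finset.sum_congr rfl fun χ _ => ?_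
    split_ifs
    · rw [irr_inv]
    · rfl
  rw [Finset.sum_congr rfl fun x _ => hrhs x, Finset.sum_comm, Finset.mul_sum]
  refine Finset.sum_congr rfl fun χ _ => ?_
  by_cases hχ : χ ∈ B
  · simp only [if_pos hχ]
    rw [classInner]
    field_simp
  · simp only [if_neg hχ]
    rw [mul_zero, Finset.sum_const_zero]

end Cfsg.Agent.S4667
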