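import Cfsg.Statements.S4668
import Cfsg.Agent.S4653
import Cfsg.Agent.Lib.H7.PPrimeLayer
import Cfsg.Agent.Lib.H23.BlockVanish

set_option autoImplicit false
open Cfsg

namespace Cfsg.Agent.S4668

/-- Fix a prime p and a maximal ideal M of the algebraic integers containing p. Let Q₀ < Q₁ < ⋯ < Q_m be a strictly increasing chain of p-subgroups of the finite group G and N the intersection of their normalizers. Then every block idempotent of N is supported on C_G(Q_m): for every p-block E of N, the idempotent coefficient of E vanishes at every element of N outside C_G(Q_m). -/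
theorem result {G : Type*} [Group G] [Fintype G] (p : ℕ) [Fact p.Prime] (M : Ideal Cfsg.AlgInt) (hM : Cfsg.IsPModular p M) (m : ℕ) (Q : Fin (m + 1) → Subgroup G) (hQ : StrictMono Q) (hQp : ∀ i, IsPGroup p (Q i)) (N : Subgroup G) (hN : ∀ g : G, g ∈ N ↔ ∀ i, g ∈ Subgroup.normalizer (Q i : Set G)) (E : Set (Cfsg.IrrCharacter N)) (hE : Cfsg.IsPBlock M E) (n : N) (hn : (n : G) ∉ Subgroup.centralizer (Q (Fin.last m) : Set G)) : Cfsg.blockCoeff E n = 0 := by
  classical
  have hp : p.Prime := Fact.out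
  obtain ⟨χ₀, rfl⟩ := hE
  by_contra hne
  -- `n` is `p`-regular
  have hreg : ¬ p ∣ orderOf (n : G) := by
    intro h
    rw [Subgroup.orderOf_coe] at h
    exact hne (Cfsg.Agent.Lib.H23.blockCoeff_eq_zero_of_dvd_orderOf hM χ₀ n h)
  have hcop : (orderOf (n : G)).Coprime p :=
    (Nat.Coprime.symm ((Nat.Prime.coprime_iff_not_dvd hp).2 hreg))
  set Qm := Q (Fin.last m) with hQm
  have hmono : ∀ i j : Fin (m + 1), i ≤ j → Q i ≤ Q j := fun i j h => hQ.monotone h
  have hNle : ∀ i, N ≤ Subgroup.normalizer (Q i : Set G) := fun i g hg => (hN g).1 hg i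
  -- `Q_m ∩ N` is a normal `p`-subgroup of `N`
  haveI hRn : (Qm.subgroupOf N).Normal := Subgroup.normal_subgroupOf_of_le_normalizer (hNle _)
  have hRp : IsPGroup p (Qm.subgroupOf N) := (hQp _).comap_subtype
  have hnR : n ∈ Subgroup.centralizer ((Qm.subgroupOf N : Subgroup N) : Set N) := by
    by_contra h
    exact hne (Cfsg.Agent.S4653.result p M hM (Qm.subgroupOf N) hRp _ ⟨χ₀, rfl⟩ n h)
  have hnD : ∀ x : G, x ∈ Qm → x ∈ N → x * (n : G) = (n : G) * x := by
    intro x hx hxN
    have := Subgroup.mem_centralizer_iff.1 hnR ⟨x, hxN⟩ (Subgroup.mem_subgroupOf.2 hx)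
    exact congrArg Subtype.val this
  -- induction along the chain
  have key : ∀ k : ℕ, ∀ hk : k < m + 1,
      (n : G) ∈ Subgroup.centralizer ((Q ⟨k, hk⟩ : Subgroup G) : Set G) := by
    intro k
    induction k with
    | zero =>
      intro hk
      rw [Subgroup.mem_centralizer_iff]
      intro x hx
      refine hnD x (hmono _ _ (Fin.le_last _) hx) ((hN x).2 fun j => ?_)
      exact Subgroup.le_normalizer (hmono ⟨0, hk⟩ j (by rw [Fin.le_def]; exact Nat.zero_le _) hx)
    | succ k ih =>
      intro hk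
      have hk' : k < m + 1 := Nat.lt_of_succ_lt hk
      have hle : Q ⟨k, hk'⟩ ≤ Q ⟨k + 1, hk⟩ := hmono _ _ (by
        rw [Fin.mk_le_mk]; exact Nat.le_succ k)
      refine Cfsg.Agent.Lib.H7.mem_centralizer_of_AxB p (hQp ⟨k + 1, hk⟩) (hQp ⟨k, hk'⟩)
        (hle.trans Subgroup.le_normalizer) (hNle _ n.2) hcop (ih hk') ?_
      rw [Subgroup.mem_centralizer_iff]
      rintro x ⟨hx1, hx2⟩
      refine hnD x (hmono _ _ (Fin.le_last _) hx1) ((hN x).2 fun j => ?_)
      by_cases hj : j.val ≤ k
      · have hjle : Q j ≤ Q ⟨k, hk'⟩ := hmono _ _ (by rw [Fin.le_def]; exact hj)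
        have hxc : x ∈ Subgroup.centralizer ((Q j : Subgroup G) : Set G) :=
          Subgroup.centralizer_le (by exact_mod_cast hjle) hx2
        exact Subgroup.centralizer_le_normalizer _ hxc
      · have hjle : Q ⟨k + 1, hk⟩ ≤ Q j := hmono _ _ (by
          rw [Fin.le_def]; show k + 1 ≤ j.val; omega)
        exact Subgroup.le_normalizer (hjle hx1)
  exact hn (key m (Nat.lt_succ_self m))

end Cfsg.Agent.S4668
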