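import Cfsg.Statements.S4670
import Cfsg.Agent.Lib.H23.FMCoeff
open Cfsg.Agent.Lib.H23 Cfsg.Agent.Lib.L0

set_option autoImplicit false
open Cfsg

namespace Cfsg.Agent.S4670

/-- Fix a prime p and a maximal ideal M of the algebraic integers containing p. Let P be a p-subgroup of the finite group G and H a subgroup containing N_G(P). For every p-block B of G with defect group P there is exactly one p-block c of H with defect group P whose idempotent agrees with that of B, modulo the local ideal at M, at every element of C_G(P) (their Brauer-map images at P coincide); and every p-block c of H with defect group P arises in this way from exactly one such B. This is the Brauer correspondence over H. -/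
theorem result {G : Type*} [Group G] [Fintype G] (p : ℕ) [Fact p.Prime] (M : Ideal Cfsg.AlgInt) (hM : Cfsg.IsPModular p M) (P H : Subgroup G) (hP : IsPGroup p P) (hH : Subgroup.normalizer (P : Set G) ≤ H) : (∀ B : Set (Cfsg.IrrCharacter G), Cfsg.IsPBlock M B → Cfsg.IsDefectGroup p M B P → ∃! c : Set (Cfsg.IrrCharacter H), Cfsg.IsPBlock M c ∧ Cfsg.IsDefectGroup p M c (P.subgroupOf H) ∧ ∀ x : G, x ∈ Subgroup.centralizer (P : Set G) → Cfsg.MemLocalIdeal M (Cfsg.blockCoeff B x - Cfsg.subgroupBlockCoeff H c x)) ∧ (∀ c : Set (Cfsg.IrrCharacter H), Cfsg.IsPBlock M c → Cfsg.IsDefectGroup p M c (P.subgroupOf H) → ∃! B : Set (Cfsg.IrrCharacter G), Cfsg.IsPBlock M B ∧ Cfsg.IsDefectGroup p M B P ∧ ∀ x : G, x ∈ Subgroup.centralizer (P : Set G) → Cfsg.MemLocalIdeal M (Cfsg.blockCoeff B x - Cfsg.subgroupBlockCoeff H c x)) := by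
  classical
  haveI hPr := isPrime_of_isPModular hM
  have hPN : P ≤ Subgroup.normalizer (P : Set G) := Subgroup.le_normalizer
  have hPH : P ≤ H := hPN.trans hH
  haveI : Fintype H := Fintype.ofFinite _
  haveI : Fintype (Subgroup.normalizer (P : Set G)) := Fintype.ofFinite _
  haveI : Fintype ((Subgroup.normalizer (P : Set G)).subgroupOf H) := Fintype.ofFinite _
  have hNN₂ : (Subgroup.normalizer (P : Set G)).subgroupOf H =
      Subgroup.normalizer ((P.subgroupOf H : Subgroup H) : Set H) :=
    Subgroup.subgroupOf_normalizer_eq hPH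
  have hpgH : IsPGroup p (P.subgroupOf H) := hP.comap_subtype
  have hcard : Nat.card P = Nat.card (P.subgroupOf H) :=
    (Nat.card_congr (Subgroup.subgroupOfEquivOfLe hPH).toEquiv).symm
  have hCmem : ∀ h : H, h ∈ Subgroup.centralizer ((P.subgroupOf H : Subgroup H) : Set H) ↔
      (h : G) ∈ Subgroup.centralizer (P : Set G) := by
    intro h
    constructor
    · intro hc
      rw [Subgroup.mem_centralizer_iff]
      intro y hy
      have h1 := Subgroup.mem_centralizer_iff.1 hc ⟨y, hPH hy⟩ (Subgroup.mem_subgroupOf.2 hy)
      exact congrArg Subtype.val h1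
    · intro hc
      rw [Subgroup.mem_centralizer_iff]
      intro y hy
      apply Subtype.ext
      exact Subgroup.mem_centralizer_iff.1 hc (y : G) (Subgroup.mem_subgroupOf.1 hy)
  have hCN : Subgroup.centralizer (P : Set G) ≤ Subgroup.normalizer (P : Set G) :=
    Subgroup.centralizer_le_normalizer _
  have hsub : ∀ (c : Set (IrrCharacter H)) (x : G) (hx : x ∈ H),
      subgroupBlockCoeff H c x = blockCoeff c ⟨x, hx⟩ := by
    intro c x hx
    unfold subgroupBlockCoeff
    rw [dif_pos hx]
  constructor
  · intro B hB hBD
    have h := exists_unique_corr P (Subgroup.normalizer (P : Set G)) (P.subgroupOf H)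
      ((Subgroup.normalizer (P : Set G)).subgroupOf H) rfl hNN₂ hM hP hpgH
      (Subgroup.subgroupOfEquivOfLe hH) (fun n₂ => hCmem n₂) hcard B hB hBD
    refine (existsUnique_congr fun c => ?_).1 h
    refine and_congr_right fun _ => and_congr_right fun _ => ?_
    constructor
    · intro hcond x hx
      have hxN := hCN hx
      have := hcond ⟨⟨x, hH hxN⟩, hxN⟩ ((hCmem _).2 hx)
      rw [hsub c x (hH hxN)]
      exact this
    · intro hcond n₂ hn₂
      have hx : ((n₂ : H) : G) ∈ Subgroup.centralizer (P : Set G) := (hCmem _).1 hn₂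
      have := hcond _ hx
      rw [hsub c _ (n₂ : H).2] at this
      exact this
  · intro c hc hcD
    have h := exists_unique_corr (P.subgroupOf H)
      ((Subgroup.normalizer (P : Set G)).subgroupOf H) P (Subgroup.normalizer (P : Set G))
      hNN₂ rfl hM hpgH hP
      (Subgroup.subgroupOfEquivOfLe hH).symm (fun n => ((hCmem (((Subgroup.subgroupOfEquivOfLe hH).symm n :
        (Subgroup.normalizer (P : Set G)).subgroupOf H) : H)).symm)) hcard.symm c hc hcD
    refine (existsUnique_congr fun B => ?_).1 h
    refine and_congr_right fun _ => and_congr_right fun _ => ?_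
    constructor
    · intro hcond x hx
      have hxN := hCN hx
      have := hcond ⟨x, hxN⟩ hx
      rw [hsub c x (hH hxN)]
      have h2 := memLocalIdeal_neg this
      rw [neg_sub] at h2
      exact h2
    · intro hcond n hn
      have := hcond _ hn
      rw [hsub c _ (hH n.2)] at this
      have h2 := memLocalIdeal_neg this
      rw [neg_sub] at h2
      exact h2

end Cfsg.Agent.S4670
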