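import Cfsg.Statements.S4673
import Cfsg.Agent.Lib.H23.CoverStab
import Cfsg.Agent.Lib.L0.BrauerNormalP
import Cfsg.Agent.S4435
import Cfsg.Agent.S4436
open Cfsg.Agent.Lib.H23 Cfsg.Agent.Lib.H24 Cfsg.Agent.Lib.H23.FR Cfsg.Agent.Lib.L0 Cfsg.Agent.Lib.H23.CoverStab
  Cfsg.Agent.Lib.L0.BlockOrbitCover

set_option autoImplicit false
open Cfsg

namespace Cfsg.Agent.S4673

/-- Fix a prime p and a maximal ideal M of the algebraic integers containing p. Let N ≤ L be normal subgroups of the finite group G with L/N a p-group, let B be a p-block of G covering the p-block c of N (some member of B has a constituent in c on restriction to N), and suppose that N contains a defect group of B. Then the stabilizer T of c in G satisfies T ∩ L = N. -/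
theorem result {G : Type*} [Group G] [Fintype G] (p : ℕ) [Fact p.Prime] (M : Ideal Cfsg.AlgInt) (hM : Cfsg.IsPModular p M) (N L : Subgroup G) [N.Normal] [L.Normal] [Fintype N] (hNL : N ≤ L) (hLN : ∃ k : ℕ, (N.subgroupOf L).index = p ^ k) (B : Set (Cfsg.IrrCharacter G)) (hB : Cfsg.IsPBlock M B) (c : Set (Cfsg.IrrCharacter N)) (hc : Cfsg.IsPBlock M c) (hcov : (∃ χ ∈ B, ∃ θ ∈ c, Cfsg.classInner (fun n : N => (χ : G → ℂ) n) (θ : N → ℂ) ≠ 0)) (hD : ∃ D : Subgroup G, Cfsg.IsDefectGroup p M B D ∧ D ≤ N) (T : Subgroup G) (hT : ∀ x : G, x ∈ T ↔ Cfsg.StabilizesBlock N c x) : T ⊓ L = N := by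
  classical
  haveI hPr := isPrime_of_isPModular hM
  have hp : p.Prime := Fact.out
  have hN : N.Normal := inferInstance
  haveI : Fintype T := Fintype.ofFinite _
  -- `N ≤ T`
  have hNT : N ≤ T := by
    intro n hn
    rw [hT]
    refine ⟨by rw [Subgroup.normalizer_eq_top]; exact Subgroup.mem_top _, fun χ hχ => ⟨χ, hχ, ?_⟩⟩
    intro k k' hk
    have h1 : k' = (⟨n, hn⟩ : N) * k * (⟨n, hn⟩ : N)⁻¹ := Subtype.ext hk
    rw [h1]
    exact irr_conj χ k ⟨n, hn⟩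
  apply le_antisymm _ (le_inf hNT hNL)
  -- the stabilizer in Fong–Reynolds form
  obtain ⟨θ₀, hθ₀c⟩ : ∃ θ₀ : IrrCharacter N, θ₀ ∈ c := by
    obtain ⟨θ₀, rfl⟩ := hc
    exact ⟨θ₀, mem_blockOf_self θ₀⟩
  have hT' : ∀ g : G, g ∈ T ↔ ∀ θ ∈ c, ∀ θ' : Cfsg.IrrCharacter N,
      (∀ n : N, (θ' : N → ℂ) n = (θ : N → ℂ) ⟨g * n * g⁻¹, hN.conj_mem n n.2 g⟩) → θ' ∈ c := by
    intro g
    constructor
    · intro hg θ hθ θ' hθ'
      have h1 : StabilizesBlock N c g⁻¹ := (hT _).1 (T.inv_mem hg)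
      have h2 := (BrauerNormalP.stabilizesBlock_inv_iff N hc hθ g).1 h1
      have h3 : θ' = conjIrr N θ g := by
        apply Subtype.ext
        funext n
        rw [hθ' n, conjIrr_apply]
      rw [h3]
      exact h2
    · intro h
      have h1 := h θ₀ hθ₀c (conjIrr N θ₀ g) (fun n => conjIrr_apply N θ₀ g n)
      have h2 := (BrauerNormalP.stabilizesBlock_inv_iff N hc hθ₀c g).2 h1
      have h3 := (hT _).2 h2
      simpa using T.inv_mem h3
  obtain ⟨B', hB', hcov', hind⟩ := (Cfsg.Agent.S4435.result p M hM N c hc T hT' hNT).2.2 B hB hcov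
  have hdef := (Cfsg.Agent.S4436.result p M hM N c hc T hT' hNT B' hB' hcov' B hind).1
  -- move to the group `T`
  haveI : Fintype (N.subgroupOf T) := Fintype.ofFinite _
  haveI : Fintype (L.subgroupOf T) := Fintype.ofFinite _
  have hNL' : N.subgroupOf T ≤ L.subgroupOf T := fun x hx => hNL hx
  have hidx : ∃ j : ℕ, (N.subgroupOf T).relIndex (L.subgroupOf T) = p ^ j := by
    obtain ⟨k, hk⟩ := hLN
    have h1 : L.subgroupOf T = (L ⊓ T).subgroupOf T := (Subgroup.inf_subgroupOf_right L T).symm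
    rw [h1, Subgroup.relIndex_subgroupOf inf_le_right]
    have h2 := Subgroup.relIndex_mul_relIndex N (L ⊓ T) L (le_inf hNL hNT) inf_le_left
    have h3 : N.relIndex L = p ^ k := hk
    rw [h3] at h2
    obtain ⟨j, _, hj⟩ := (Nat.dvd_prime_pow hp).1 (Dvd.intro _ h2)
    exact ⟨j, hj⟩
  have hcT : IsPBlock M (irrEquiv (Subgroup.subgroupOfEquivOfLe hNT) '' c) :=
    isPBlock_irrEquiv_image _ hc
  have hstT : ∀ x : T, StabilizesBlock (N.subgroupOf T)
      (irrEquiv (Subgroup.subgroupOfEquivOfLe hNT) '' c) x :=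
    fun x => stabilizesBlock_subgroupOf N T hNT c x ((hT _).1 x.2)
  have hcovT : ∃ ψ ∈ B', ∃ θ' ∈ irrEquiv (Subgroup.subgroupOfEquivOfLe hNT) '' c,
      classInner (fun n : N.subgroupOf T => (ψ : T → ℂ) n) (θ' : N.subgroupOf T → ℂ) ≠ 0 := by
    obtain ⟨ψ, hψ, θ, hθ, hne⟩ := hcov'
    refine ⟨ψ, hψ, _, ⟨θ, hθ, rfl⟩, ?_⟩
    rw [classInner_subgroupOf N T hNT]
    exact hne
  obtain ⟨ψ₀, hψ₀⟩ := hB'
  obtain ⟨PT, hPT⟩ := exists_isDefectGroup (p := p) hM ψ₀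
  rw [← hψ₀] at hPT
  have hPTB := hdef PT hPT
  obtain ⟨D, hDB, hDN⟩ := hD
  obtain ⟨χ₀, hχ₀⟩ := hB
  rw [hχ₀] at hDB hPTB
  obtain ⟨g, hg⟩ := isDefectGroup_conj hM χ₀ hDB hPTB
  have hPTN : PT ≤ N.subgroupOf T := by
    intro x hx
    rw [Subgroup.mem_subgroupOf]
    have h1 : (x : G) ∈ PT.map T.subtype := ⟨x, hx, rfl⟩
    rw [hg] at h1
    obtain ⟨u, hu, hux⟩ := h1
    rw [← hux]
    exact hN.conj_mem u (hDN hu) g
  have hX := le_of_defectGroup_le hM (N.subgroupOf T) (L.subgroupOf T) hNL' hidx _ hcT hstT B'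
    ⟨ψ₀, hψ₀⟩ hcovT PT hPT hPTN
  intro x hx
  have h1 : (⟨x, hx.1⟩ : T) ∈ L.subgroupOf T := Subgroup.mem_subgroupOf.2 hx.2
  exact Subgroup.mem_subgroupOf.1 (hX h1)

end Cfsg.Agent.S4673
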