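import Cfsg.Statements.S4675
import Cfsg.Agent.S4491
import Cfsg.Agent.S4667
import Cfsg.Agent.Lib.L0.TildeGen
import Cfsg.Agent.Lib.H23.BlockDefect

set_option autoImplicit false
open Cfsg

namespace Cfsg.Agent.S4675

open Cfsg.Agent.Lib.H23 Cfsg.Agent.Lib.H24 Cfsg.Agent.Lib.L0 Cfsg.Agent.Lib.L0.Tilde
  Cfsg.Agent.Lib.L0.BlockMinMax
open scoped ComplexConjugate
open Module

/-- Fix a prime p and a maximal ideal M of the algebraic integers containing p. Let B be a p-block of the finite group G with defect group P and p-regular rank one (a single irreducible Brauer character). Then there are a function φ on G that is, on the p-regular elements, an integer combination of the members of B, and natural numbers d_χ (χ ∈ B), such that every χ ∈ B agrees with d_χ·φ on the p-regular elements and Σ_{χ ∈ B} d_χ² equals the order of P (the single Cartan invariant of B is the order of P). -/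
theorem result {G : Type*} [Group G] [Fintype G] (p : ℕ) [Fact p.Prime] (M : Ideal Cfsg.AlgInt) (hM : Cfsg.IsPModular p M) (B : Set (Cfsg.IrrCharacter G)) (hB : Cfsg.IsPBlock M B) (P : Subgroup G) (hP : Cfsg.IsDefectGroup p M B P) (hl : Cfsg.blockRank p B = 1) : ∃ φ : G → ℂ, ∃ d : Cfsg.IrrCharacter G → ℕ, (∃ n : Cfsg.IrrCharacter G → ℤ, ∀ x : G, Cfsg.IsPRegular p x → φ x = ∑ᶠ ψ ∈ B, (n ψ : ℂ) * (ψ : G → ℂ) x) ∧ (∀ χ ∈ B, ∀ x : G, Cfsg.IsPRegular p x → (χ : G → ℂ) x = (d χ : ℂ) * φ x) ∧ ∑ᶠ χ ∈ B, d χ ^ 2 = Nat.card P := by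
  classical
  haveI := Fintype.ofFinite (IrrCharacter G)
  haveI hPr := isPrime_of_isPModular hM
  have hp : p.Prime := Fact.out
  obtain ⟨χ₀, rfl⟩ := hB
  set B := blockOf M (χ₀ : G → ℂ) with hBdef
  set a := (Nat.card G).factorization p with ha
  have hχ₀B : χ₀ ∈ B := mem_blockOf_self χ₀
  have hreg1 : ¬ p ∣ orderOf (1 : G) := by
    rw [orderOf_one]; exact fun h => hp.one_lt.ne' (Nat.dvd_one.mp h)
  -- Step 1: a common shape on the p-regular elements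
  set V : Submodule ℂ (G → ℂ) :=
    Submodule.span ℂ ((fun χ : IrrCharacter G => pRegularPart p (χ : G → ℂ)) '' B) with hV
  have hfr : finrank ℂ V = 1 := hl
  obtain ⟨v, hv0, hv⟩ := finrank_eq_one_iff'.mp hfr
  have h1 : ∀ χ : IrrCharacter G, χ ∈ B → ∃ c : ℂ,
      pRegularPart p (χ : G → ℂ) = c • (v : G → ℂ) := by
    intro χ hχ
    have hmem : pRegularPart p (χ : G → ℂ) ∈ V := Submodule.subset_span ⟨χ, hχ, rfl⟩
    obtain ⟨c, hc⟩ := hv ⟨_, hmem⟩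
    exact ⟨c, (congrArg Subtype.val hc).symm⟩
  have hv1 : (v : G → ℂ) 1 ≠ 0 := by
    obtain ⟨c, hc⟩ := h1 χ₀ hχ₀B
    have := congrFun hc 1
    rw [S4667.pRegularPart_eq, if_neg hreg1, Pi.smul_apply, smul_eq_mul] at this
    intro h0
    rw [h0, mul_zero] at this
    exact irr_one_ne_zero χ₀ this
  set w : G → ℂ := fun x => (v : G → ℂ) x / (v : G → ℂ) 1 with hw
  have hwχ : ∀ χ : IrrCharacter G, χ ∈ B → ∀ x : G, ¬ p ∣ orderOf x →
      (χ : G → ℂ) x = (χ : G → ℂ) 1 * w x := by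
    intro χ hχ x hx
    obtain ⟨c, hc⟩ := h1 χ hχ
    have e1 := congrFun hc 1
    have ex := congrFun hc x
    rw [S4667.pRegularPart_eq, if_neg hreg1, Pi.smul_apply, smul_eq_mul] at e1
    rw [S4667.pRegularPart_eq, if_neg hx, Pi.smul_apply, smul_eq_mul] at ex
    rw [ex, e1, hw]
    field_simp
  -- Step 2: degrees, gcd, Bezout
  set Bf : Finset (IrrCharacter G) := Finset.univ.filter (· ∈ B) with hBf
  have hmemBf : ∀ χ : IrrCharacter G, χ ∈ Bf ↔ χ ∈ B := by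
    intro χ; rw [hBf, Finset.mem_filter]; simp
  set dg : IrrCharacter G → ℕ := fun χ => charDegree (χ : G → ℂ) with hdg
  have hdgc : ∀ χ : IrrCharacter G, (χ : G → ℂ) 1 = (dg χ : ℂ) :=
    fun χ => apply_one_eq_charDegree _ χ.2
  have hdg0 : ∀ χ : IrrCharacter G, dg χ ≠ 0 := fun χ => (charDegree_pos _ χ.2).ne'
  set g : ℕ := Bf.gcd dg with hg
  have hg0 : g ≠ 0 := by
    rw [hg, Finset.gcd_ne_zero_iff]
    exact ⟨χ₀, (hmemBf χ₀).mpr hχ₀B, hdg0 χ₀⟩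
  set d : IrrCharacter G → ℕ := fun χ => dg χ / g with hd
  have hdg_eq : ∀ χ : IrrCharacter G, χ ∈ B → dg χ = g * d χ := by
    intro χ hχ
    exact (Nat.mul_div_cancel' (Finset.gcd_dvd ((hmemBf χ).mpr hχ))).symm
  have hgcd1 : Bf.gcd d = 1 :=
    Finset.gcd_div_eq_one ((hmemBf χ₀).mpr hχ₀B) (hdg0 χ₀)
  obtain ⟨nn, hnn⟩ := Finset.gcd_eq_sum_mul Bf (fun χ => (d χ : ℤ))
  have hgcdZ : Bf.gcd (fun χ => (d χ : ℤ)) = 1 := by
    set z := Bf.gcd (fun χ => (d χ : ℤ)) with hz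
    have hz0 : 0 ≤ z := Finset.Int.finsetGcd_nonneg
    have hzd : z.natAbs ∣ Bf.gcd d := by
      apply Finset.dvd_gcd
      intro χ hχ
      have : z ∣ (d χ : ℤ) := Finset.gcd_dvd hχ
      exact Int.natAbs_dvd_natAbs.mpr this |>.trans (by simp)
    rw [hgcd1, Nat.dvd_one] at hzd
    have : z = (z.natAbs : ℤ) := (Int.natAbs_of_nonneg hz0).symm
    rw [this, hzd]; rfl
  rw [hgcdZ] at hnn
  have hbez : ∑ χ ∈ Bf, (d χ : ℂ) * (nn χ : ℂ) = 1 := by
    have := congrArg (fun z : ℤ => (z : ℂ)) hnn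
    simp only [Int.cast_one, Int.cast_sum, Int.cast_mul, Int.cast_natCast] at this
    exact this.symm
  -- the function φ
  set φ : G → ℂ := fun x => (g : ℂ) * w x with hφ
  have hχφ : ∀ χ : IrrCharacter G, χ ∈ B → ∀ x : G, ¬ p ∣ orderOf x →
      (χ : G → ℂ) x = (d χ : ℂ) * φ x := by
    intro χ hχ x hx
    rw [hwχ χ hχ x hx, hdgc, hdg_eq χ hχ, hφ]
    push_cast; ring
  refine ⟨φ, d, ⟨nn, ?_⟩, fun χ hχ x hx => hχφ χ hχ x hx, ?_⟩
  · intro x hx
    rw [finsum_mem_eq_sum_ite, ← Finset.sum_filter]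
    have : ∑ ψ ∈ Bf, (nn ψ : ℂ) * (ψ : G → ℂ) x = ∑ ψ ∈ Bf, ((d ψ : ℂ) * (nn ψ : ℂ)) * φ x := by
      refine Finset.sum_congr rfl fun ψ hψ => ?_
      rw [hχφ ψ ((hmemBf ψ).mp hψ) x hx]; ring
    rw [this, ← Finset.sum_mul, hbez, one_mul]
  -- Step 3: the Cartan invariant
  set c : ℕ := ∑ χ ∈ Bf, d χ ^ 2 with hc
  set pa : ℂ := ((p ^ a : ℕ) : ℂ) with hpa
  have hpa0 : pa ≠ 0 := by rw [hpa]; exact_mod_cast (pow_pos hp.pos a).ne'
  set K₀ : ℂ := pa * (Nat.card G : ℂ)⁻¹ *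
    ∑ x : G, (if p ∣ orderOf x then 0 else φ x * conj (φ x)) with hK₀
  have hAA : ∀ χ ψ : IrrCharacter G, χ ∈ B → ψ ∈ B →
      AA p (χ : G → ℂ) (ψ : G → ℂ) = (d χ : ℂ) * (d ψ : ℂ) * K₀ := by
    intro χ ψ hχ hψ
    rw [AA_eq, hK₀]
    have : ∑ x : G, (if p ∣ orderOf x then 0 else (χ : G → ℂ) x * conj ((ψ : G → ℂ) x)) =
        (d χ : ℂ) * (d ψ : ℂ) *
          ∑ x : G, (if p ∣ orderOf x then 0 else φ x * conj (φ x)) := by
      rw [Finset.mul_sum]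
      refine Finset.sum_congr rfl fun x _ => ?_
      by_cases hx : p ∣ orderOf x
      · rw [if_pos hx, if_pos hx, mul_zero]
      · rw [if_neg hx, if_neg hx, hχφ χ hχ x hx, hχφ ψ hψ x hx, map_mul, Complex.conj_natCast]
        ring
    rw [this]; ring
  have hAA0 : ∀ χ ψ : IrrCharacter G, χ ∈ B → ψ ∉ B → AA p (χ : G → ℂ) (ψ : G → ℂ) = 0 := by
    intro χ ψ hχ hψ
    refine AA_eq_zero_of_not_sameBlock hM χ ψ fun h => hψ ?_
    exact sameBlock_trans hχ h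
  -- K₀ * c = p^a
  have hKc : K₀ * (c : ℂ) = pa := by
    have h := sum_AA_mul_degree hp χ₀
    have e1 : ∑ ψ : IrrCharacter G, AA p (χ₀ : G → ℂ) (ψ : G → ℂ) * (ψ : G → ℂ) 1 =
        (d χ₀ : ℂ) * (g : ℂ) * (K₀ * (c : ℂ)) := by
      have : ∑ ψ : IrrCharacter G, AA p (χ₀ : G → ℂ) (ψ : G → ℂ) * (ψ : G → ℂ) 1 =
          ∑ ψ ∈ Bf, (d χ₀ : ℂ) * (g : ℂ) * K₀ * ((d ψ : ℂ) ^ 2) := by
        rw [hBf, Finset.sum_filter]
        refine Finset.sum_congr rfl fun ψ _ => ?_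
        by_cases hψ : ψ ∈ B
        · rw [if_pos hψ, hAA χ₀ ψ hχ₀B hψ, hdgc, hdg_eq ψ hψ]
          push_cast; ring
        · rw [if_neg hψ, hAA0 χ₀ ψ hχ₀B hψ, zero_mul]
      rw [this, ← Finset.mul_sum, hc]
      push_cast; ring
    rw [e1, hdgc, hdg_eq χ₀ hχ₀B] at h
    have hne : (d χ₀ : ℂ) * (g : ℂ) ≠ 0 := by
      have := hdg0 χ₀
      rw [hdg_eq χ₀ hχ₀B] at this
      exact_mod_cast (by rwa [mul_comm] at this : d χ₀ * g ≠ 0)
    apply mul_left_cancel₀ hne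
    rw [h, hpa]; push_cast; ring
  -- K₀ is an integer
  have hKint : ∃ k : ℤ, K₀ = k := by
    have hint : ∀ χ ψ : IrrCharacter G, ∃ n : ℤ, AA p (χ : G → ℂ) (ψ : G → ℂ) = n :=
      fun χ ψ => AA_int hp (isCharacter_of_irr χ.2) ψ
    choose N hN using hint
    refine ⟨∑ χ ∈ Bf, ∑ ψ ∈ Bf, nn χ * nn ψ * N χ ψ, ?_⟩
    push_cast
    have : ∑ χ ∈ Bf, ∑ ψ ∈ Bf, (nn χ : ℂ) * (nn ψ : ℂ) * (N χ ψ : ℂ) =
        (∑ χ ∈ Bf, (d χ : ℂ) * (nn χ : ℂ)) * (∑ ψ ∈ Bf, (d ψ : ℂ) * (nn ψ : ℂ)) * K₀ := by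
      rw [Finset.sum_mul_sum, Finset.sum_mul]
      refine Finset.sum_congr rfl fun χ hχ => ?_
      rw [Finset.sum_mul]
      refine Finset.sum_congr rfl fun ψ hψ => ?_
      rw [← hN, hAA χ ψ ((hmemBf χ).mp hχ) ((hmemBf ψ).mp hψ)]
      ring
    rw [this, hbez, one_mul, one_mul]
  obtain ⟨k, hk⟩ := hKint
  have hcdvd : c ∣ p ^ a := by
    have : (k * (c : ℤ) : ℤ) = ((p ^ a : ℕ) : ℤ) := by
      have h := hKc
      rw [hk, hpa] at h
      exact_mod_cast h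
    have h2 : (c : ℤ) ∣ ((p ^ a : ℕ) : ℤ) := ⟨k, by rw [← this]; ring⟩
    exact Int.natCast_dvd_natCast.mp h2
  obtain ⟨j, _, hj⟩ := (Nat.dvd_prime_pow hp).mp hcdvd
  -- valuations
  have hsum : ∑ᶠ χ ∈ B, charDegree (χ : G → ℂ) ^ 2 = g ^ 2 * c := by
    rw [S4491.finsum_mem_eq_sum_ite_nat, ← Finset.sum_filter, hc, Finset.mul_sum]
    refine Finset.sum_congr rfl fun χ hχ => ?_
    have := hdg_eq χ ((hmemBf χ).mp hχ)
    simp only [hdg] at this
    rw [this]; ring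
  have hval := S4491.result p M hM B ⟨χ₀, rfl⟩
  rw [hsum, hj] at hval
  have hc0 : p ^ j ≠ 0 := (pow_pos hp.pos j).ne'
  rw [Nat.factorization_mul (pow_ne_zero 2 hg0) hc0, Nat.factorization_pow] at hval
  simp only [Finsupp.add_apply, Finsupp.smul_apply, smul_eq_mul, hp.factorization_pow,
    Finsupp.single_eq_same] at hval
  set m := minDeg p B with hm
  have hma : m ≤ a := minDeg_le_card (p := p) (M := M) χ₀
  have hdB : blockDefect p B = a - m := rfl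
  have hgm : g.factorization p = m := by
    apply le_antisymm
    · -- g ∣ degree of a character of minimal valuation
      have hVne : ((fun χ : IrrCharacter G =>
          (charDegree (χ : G → ℂ)).factorization p) '' B).Nonempty :=
        ⟨_, χ₀, hχ₀B, rfl⟩
      obtain ⟨ψ₀, hψ₀, hψ₀e⟩ := Nat.sInf_mem hVne
      have hdvd : g ∣ dg ψ₀ := Finset.gcd_dvd ((hmemBf ψ₀).mpr hψ₀)
      have := (Nat.factorization_le_iff_dvd hg0 (hdg0 ψ₀)).mpr hdvd p
      calc g.factorization p ≤ (dg ψ₀).factorization p := this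
        _ = m := hψ₀e
    · have hdvd : p ^ m ∣ g := by
        apply Finset.dvd_gcd
        intro χ hχ
        have h1 : m ≤ (dg χ).factorization p := minDeg_le (p := p) χ₀ ((hmemBf χ).mp hχ)
        exact (pow_dvd_pow p h1).trans (Nat.ordProj_dvd _ _)
      exact (hp.pow_dvd_iff_le_factorization hg0).mp hdvd
  rw [hgm, hdB] at hval
  have hjd : j = a - m := by omega
  have hcard := card_defectGroup hM χ₀ P hP
  rw [hdB] at hcard
  rw [finsum_mem_eq_finite_toFinset_sum _ (Set.toFinite B)]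
  have : (Set.toFinite B).toFinset = Bf := by
    ext χ; rw [Set.Finite.mem_toFinset, hmemBf]
  rw [this, hcard, ← hjd, ← hj]

end Cfsg.Agent.S4675
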