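import Cfsg.Statements.S4708
import Cfsg.Agent.Lib.L0.PrincipalCover
import Cfsg.Agent.Lib.L0.CharDegree
import Cfsg.Agent.Lib.L0.CharOps
import Cfsg.Agent.Lib.H23.DegreeDvd

set_option autoImplicit false
open Cfsg

namespace Cfsg.Agent.S4708

open Cfsg.Agent.Lib.H23 Cfsg.Agent.Lib.H24 Cfsg.Agent.Lib.L0 Cfsg.Agent.Lib.L0.PrincipalCover
open scoped ComplexConjugate

theorem finsum_mem_eq_sum_ite_nat {ι : Type*} [Fintype ι] (B : Set ι) [DecidablePred (· ∈ B)]
    (f : ι → ℕ) : ∑ᶠ i ∈ B, f i = ∑ i, if i ∈ B then f i else 0 := by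
  rw [finsum_mem_eq_finite_toFinset_sum _ (Set.toFinite B), ← Finset.sum_filter]
  congr 1
  ext i
  simp

/-- Let p be a prime, M a maximal ideal of the algebraic integers containing p, G a finite group and H a normal subgroup. Write λ(X) for the sum of the squares of the degrees of the irreducible characters in the principal p-block of a group X. Then λ(H) ≤ λ(G) ≤ [G : H]·λ(H). -/
theorem result {G : Type*} [Group G] [Finite G] (p : ℕ) [Fact p.Prime] (M : Ideal Cfsg.AlgInt) (hM : Cfsg.IsPModular p M) (H : Subgroup G) [H.Normal] : (∑ᶠ θ ∈ Cfsg.principalBlock M H, Cfsg.charDegree (θ : H → ℂ) ^ 2) ≤ (∑ᶠ χ ∈ Cfsg.principalBlock M G, Cfsg.charDegree (χ : G → ℂ) ^ 2) ∧ (∑ᶠ χ ∈ Cfsg.principalBlock M G, Cfsg.charDegree (χ : G → ℂ) ^ 2) ≤ H.index * ∑ᶠ θ ∈ Cfsg.principalBlock M H, Cfsg.charDegree (θ : H → ℂ) ^ 2 := by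
  classical
  haveI := Fintype.ofFinite G
  haveI : Fintype H := Fintype.ofFinite H
  haveI := Fintype.ofFinite (IrrCharacter G)
  haveI := Fintype.ofFinite (IrrCharacter H)
  set BG := principalBlock M G with hBG
  set BH := principalBlock M H with hBH
  -- multiplicities
  have hmex : ∀ (χ : IrrCharacter G) (θ : IrrCharacter H), ∃ k : ℕ,
      classInner (fun n : H => (χ : G → ℂ) n) (θ : H → ℂ) = k := fun χ θ =>
    classInner_char_irr_nat (isCharacter_restrict H (isCharacter_of_irr χ.2)) θ.2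
  choose m hm using hmex
  set dG : IrrCharacter G → ℕ := fun χ => charDegree (χ : G → ℂ) with hdG
  set dH : IrrCharacter H → ℕ := fun θ => charDegree (θ : H → ℂ) with hdH
  have hdGc : ∀ χ : IrrCharacter G, (χ : G → ℂ) 1 = (dG χ : ℂ) :=
    fun χ => apply_one_eq_charDegree _ χ.2
  have hdHc : ∀ θ : IrrCharacter H, (θ : H → ℂ) 1 = (dH θ : ℂ) :=
    fun θ => apply_one_eq_charDegree _ θ.2
  -- (a)
  have ha : ∀ χ : IrrCharacter G, dG χ = ∑ θ : IrrCharacter H, m χ θ * dH θ := by
    intro χ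
    have hfc : IsClassFunction H (fun n : H => (χ : G → ℂ) n) := by
      intro g h
      exact irr_isClassFunction χ (g : G) (h : G)
    have hexp := congrFun (classFunction_expansion _ hfc) 1
    simp only [Finset.sum_apply, Pi.smul_apply, smul_eq_mul, Subgroup.coe_one] at hexp
    have : ((dG χ : ℕ) : ℂ) = ((∑ θ : IrrCharacter H, m χ θ * dH θ : ℕ) : ℂ) := by
      rw [← hdGc, hexp]
      push_cast
      refine Finset.sum_congr rfl fun θ _ => ?_
      rw [hm, hdHc]
    exact_mod_cast this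
  -- (b)
  have hb : ∀ θ : IrrCharacter H, ∑ χ : IrrCharacter G, dG χ * m χ θ = H.index * dH θ := by
    intro θ
    have hfc : IsClassFunction G (indFun H (θ : H → ℂ)) := indFun_isClassFunction H _
    have hexp := congrFun (classFunction_expansion _ hfc) 1
    simp only [Finset.sum_apply, Pi.smul_apply, smul_eq_mul] at hexp
    rw [indFun_apply_one] at hexp
    have : ((∑ χ : IrrCharacter G, dG χ * m χ θ : ℕ) : ℂ) = ((H.index * dH θ : ℕ) : ℂ) := by
      push_cast
      rw [← hdHc, hexp]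
      refine Finset.sum_congr rfl fun χ _ => ?_
      rw [frobenius_reciprocity H _ _ (irr_isClassFunction χ), ← classInner_conj_symm, hm,
        Complex.conj_natCast, hdGc]
      ring
    exact_mod_cast this
  -- covering
  have hdown : ∀ χ : IrrCharacter G, χ ∈ BG → ∀ θ : IrrCharacter H, θ ∉ BH → m χ θ = 0 := by
    intro χ hχ θ hθ
    by_contra hne
    apply hθ
    refine constituent_mem_principalBlock H hM hχ θ ?_
    rw [hm]
    exact_mod_cast hne
  have hup : ∀ θ : IrrCharacter H, θ ∈ BH → ∃ χ : IrrCharacter G, χ ∈ BG ∧ m χ θ ≠ 0 := by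
    intro θ hθ
    obtain ⟨χ, hχ, hne⟩ := exists_mem_principalBlock_over H hM hθ
    refine ⟨χ, hχ, ?_⟩
    rw [hm] at hne
    exact_mod_cast hne
  -- the partial sums
  set c : IrrCharacter H → ℕ := fun θ =>
    ∑ χ : IrrCharacter G, (if χ ∈ BG then dG χ * m χ θ else 0) with hc
  have hlam : ∑ χ : IrrCharacter G, (if χ ∈ BG then dG χ ^ 2 else 0) =
      ∑ θ : IrrCharacter H, (if θ ∈ BH then dH θ * c θ else 0) := by
    calc ∑ χ : IrrCharacter G, (if χ ∈ BG then dG χ ^ 2 else 0)
        = ∑ χ : IrrCharacter G, ∑ θ : IrrCharacter H,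
            (if χ ∈ BG then dG χ * m χ θ * dH θ else 0) := by
          refine Finset.sum_congr rfl fun χ _ => ?_
          by_cases hχ : χ ∈ BG
          · simp only [if_pos hχ]
            have e : dG χ ^ 2 = dG χ * ∑ θ : IrrCharacter H, m χ θ * dH θ := by
              rw [← ha χ, sq]
            rw [e, Finset.mul_sum]
            exact Finset.sum_congr rfl fun θ _ => by ring
          · simp only [if_neg hχ, Finset.sum_const_zero]
      _ = ∑ θ : IrrCharacter H, ∑ χ : IrrCharacter G,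
            (if χ ∈ BG then dG χ * m χ θ * dH θ else 0) := Finset.sum_comm
      _ = ∑ θ : IrrCharacter H, (if θ ∈ BH then dH θ * c θ else 0) := by
          refine Finset.sum_congr rfl fun θ _ => ?_
          by_cases hθ : θ ∈ BH
          · rw [if_pos hθ, hc, Finset.mul_sum]
            refine Finset.sum_congr rfl fun χ _ => ?_
            split_ifs
            · ring
            · rfl
          · rw [if_neg hθ]
            refine Finset.sum_eq_zero fun χ _ => ?_
            by_cases hχ : χ ∈ BG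
            · rw [if_pos hχ, hdown χ hχ θ hθ]; ring
            · rw [if_neg hχ]
  have hc_le : ∀ θ : IrrCharacter H, c θ ≤ H.index * dH θ := by
    intro θ
    rw [← hb θ, hc]
    refine Finset.sum_le_sum fun χ _ => ?_
    split_ifs
    · exact le_rfl
    · exact Nat.zero_le _
  have hc_ge : ∀ θ : IrrCharacter H, θ ∈ BH → dH θ ≤ c θ := by
    intro θ hθ
    obtain ⟨χ, hχ, hne⟩ := hup θ hθ
    have h1 : dG χ * m χ θ ≤ c θ := by
      rw [hc]
      have := Finset.single_le_sum (f := fun χ : IrrCharacter G =>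
        (if χ ∈ BG then dG χ * m χ θ else 0)) (fun _ _ => Nat.zero_le _) (Finset.mem_univ χ)
      simpa [if_pos hχ] using this
    have h2 : m χ θ * dH θ ≤ dG χ := by
      rw [ha χ]
      exact Finset.single_le_sum (f := fun θ : IrrCharacter H => m χ θ * dH θ)
        (fun _ _ => Nat.zero_le _) (Finset.mem_univ θ)
    have h3 : 1 ≤ m χ θ := Nat.one_le_iff_ne_zero.mpr hne
    calc dH θ = 1 * dH θ := (one_mul _).symm
      _ ≤ m χ θ * dH θ := Nat.mul_le_mul_right _ h3
      _ ≤ dG χ := h2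
      _ = dG χ * 1 := (mul_one _).symm
      _ ≤ dG χ * m χ θ := Nat.mul_le_mul_left _ h3
      _ ≤ c θ := h1
  rw [finsum_mem_eq_sum_ite_nat, finsum_mem_eq_sum_ite_nat]
  show (∑ θ : IrrCharacter H, (if θ ∈ BH then dH θ ^ 2 else 0)) ≤
      (∑ χ : IrrCharacter G, (if χ ∈ BG then dG χ ^ 2 else 0)) ∧
    (∑ χ : IrrCharacter G, (if χ ∈ BG then dG χ ^ 2 else 0)) ≤
      H.index * ∑ θ : IrrCharacter H, (if θ ∈ BH then dH θ ^ 2 else 0)
  rw [hlam]
  constructor
  · refine Finset.sum_le_sum fun θ _ => ?_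
    by_cases hθ : θ ∈ BH
    · rw [if_pos hθ, if_pos hθ, sq]
      exact Nat.mul_le_mul_left _ (hc_ge θ hθ)
    · rw [if_neg hθ, if_neg hθ]
  · rw [Finset.mul_sum]
    refine Finset.sum_le_sum fun θ _ => ?_
    by_cases hθ : θ ∈ BH
    · rw [if_pos hθ, if_pos hθ, sq]
      calc dH θ * c θ ≤ dH θ * (H.index * dH θ) := Nat.mul_le_mul_left _ (hc_le θ)
        _ = H.index * (dH θ * dH θ) := by ring
    · rw [if_neg hθ, if_neg hθ, mul_zero]

end Cfsg.Agent.S4708
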