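import Cfsg.Statements.S4683
import Cfsg.Agent.Lib.L0.SubsectionTrace
import Cfsg.Agent.Lib.L0.BlockCentralizerInd

set_option autoImplicit false
open Cfsg

namespace Cfsg.Agent.S4683

open MonoidAlgebra Cfsg.Agent.Lib.H23 Cfsg.Agent.Lib.H24 Cfsg.Agent.Lib.L0
  Cfsg.Agent.Lib.L0.BlockRankTrace Cfsg.Agent.Lib.L0.InducedBlockPart
  Cfsg.Agent.Lib.L0.SubsectionTrace Cfsg.Agent.Lib.L0.BlockCentralizerInd
open scoped ComplexConjugate

/-- A Brauer pair `(Q, e)` of `B` with `Q` abelian has `e^G = B`. -/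
theorem isInducedBlock_of_isBrauerPairOf {G : Type*} [Group G] [Fintype G] {p : ℕ}
    {M : Ideal AlgInt} (hM : IsPModular p M) {B : Set (IrrCharacter G)} {Q : Subgroup G}
    (hQC : Q ≤ Subgroup.centralizer (Q : Set G))
    {e : Set (IrrCharacter (Subgroup.centralizer (Q : Set G)))}
    (h : IsBrauerPairOf p M B Q e) :
    IsInducedBlock M (Subgroup.centralizer (Q : Set G)) e B := by
  classical
  haveI hPr := isPrime_of_isPModular hM
  obtain ⟨⟨hQ, ξ₀, he⟩, ⟨χ₀, hB⟩, hω⟩ := h
  haveI : Fintype (Subgroup.centralizer (Q : Set G)) := Fintype.ofFinite _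
  obtain ⟨χ', hind⟩ := exists_isInducedBlock Q (Subgroup.centralizer (Q : Set G)) hM hQ hQC le_rfl
    (Subgroup.centralizer_le_normalizer _) ξ₀
  have hξ₀ : ξ₀ ∈ e := by rw [he]; exact mem_blockOf_self ξ₀
  have hec : blockIdem B ∈ Subalgebra.center ℂ (MonoidAlgebra ℂ G) := blockIdem_mem_center B
  have hei : blockIdem B ∈ intCoeff (G := G) M := by
    intro g
    rw [hB]
    exact blockIdem_memLocalRing hM χ₀ g
  have h1 := omega_resAlg_sub_memLocalIdeal (Subgroup.centralizer (Q : Set G)) hind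
    (mem_blockOf_self ξ₀) (mem_blockOf_self χ') hec hei
  have h2 : omega (ξ₀ : Subgroup.centralizer (Q : Set G) → ℂ)
      (resAlg (Subgroup.centralizer (Q : Set G)) (blockIdem B)) =
      brauerOmega Q (blockCoeff B) (ξ₀ : Subgroup.centralizer (Q : Set G) → ℂ) := by
    unfold brauerOmega omega resAlg
    rw [charEval_ofFun, finsum_eq_sum_of_fintype, Finset.sum_div]
    refine Finset.sum_congr rfl fun x _ => ?_
    rfl
  have hχ' : χ' ∈ B := by
    by_contra hnot
    rw [omega_blockIdem, if_neg hnot, sub_zero, h2] at h1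
    have h3 := memLocalIdeal_sub h1 (hω ξ₀ hξ₀)
    rw [sub_sub_cancel] at h3
    exact not_memLocalIdeal_one h3
  have hBeq : blockOf M (χ' : G → ℂ) = B := by
    rw [hB] at hχ' ⊢
    exact blockOf_eq_of_mem hχ'
  rw [hBeq, ← he] at hind
  exact hind

/-- Fix a prime p and a maximal ideal M of the algebraic integers containing p, a p-block B of the finite group G, a p-element u and a p-block e of C = C_G(u) such that (⟨u⟩, e) is a Brauer pair of B (a Brauer element of B). For χ ∈ B let χ_u be the e-part of the class function c ↦ χ(u c) on C and χ_u' the e-part of c ↦ χ(u⁻¹ c). Then the sum over χ ∈ B and over the p-regular elements s of C of χ_u(s)·χ_u'(s⁻¹) equals the order of C times the p-regular rank of e (the number of irreducible Brauer characters of e). -/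
theorem result {G : Type*} [Group G] [Fintype G] (p : ℕ) [Fact p.Prime] (M : Ideal Cfsg.AlgInt) (hM : Cfsg.IsPModular p M) (B : Set (Cfsg.IrrCharacter G)) (u : G) (hu : ∃ k : ℕ, orderOf u = p ^ k) (e : Set (Cfsg.IrrCharacter (Subgroup.centralizer (Subgroup.zpowers u : Set G)))) (hBe : Cfsg.IsBrauerPairOf p M B (Subgroup.zpowers u) e) : ∑ᶠ χ ∈ B, ∑ᶠ s : Subgroup.centralizer (Subgroup.zpowers u : Set G), Cfsg.pRegularPart p (Cfsg.blockPart e (fun c : Subgroup.centralizer (Subgroup.zpowers u : Set G) => (χ : G → ℂ) (u * c))) s * Cfsg.blockPart e (fun c : Subgroup.centralizer (Subgroup.zpowers u : Set G) => (χ : G → ℂ) (u⁻¹ * c)) s⁻¹ = (Nat.card (Subgroup.centralizer (Subgroup.zpowers u : Set G)) : ℂ) * (Cfsg.blockRank p e : ℂ) := by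
  classical
  haveI hPr := isPrime_of_isPModular hM
  haveI : Fintype (IrrCharacter G) := Fintype.ofFinite _
  set C := Subgroup.centralizer (Subgroup.zpowers u : Set G) with hCdef
  haveI : Fintype C := Fintype.ofFinite C
  have hC : C = Subgroup.centralizer ({u} : Set G) := centralizer_zpowers u
  have hQC : Subgroup.zpowers u ≤ C := by
    rw [hC]; exact zpowers_le_centralizer u
  have hind := isInducedBlock_of_isBrauerPairOf hM hQC hBe
  obtain ⟨ξ₀, he⟩ := hBe.1.2
  subst he
  have hcf : ∀ χ : IrrCharacter G, IsClassFunction C (sec u C (χ : G → ℂ)) :=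
    fun χ => sec_isClassFunction hC χ
  have h1 : ∀ χ : IrrCharacter G, ∑ᶠ s : C,
      pRegularPart p (blockPart (blockOf M (ξ₀ : C → ℂ))
        (fun c : C => (χ : G → ℂ) (u * c))) s *
      blockPart (blockOf M (ξ₀ : C → ℂ)) (fun c : C => (χ : G → ℂ) (u⁻¹ * c)) s⁻¹ =
      ∑ s : C, (if p ∣ orderOf s then 0 else
        conj (proj (blockOf M (ξ₀ : C → ℂ)) (sec u C (χ : G → ℂ)) s) *
          proj (blockOf M (ξ₀ : C → ℂ)) (sec u C (χ : G → ℂ)) s) := by
    intro χ
    rw [finsum_eq_sum_of_fintype]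
    refine Finset.sum_congr rfl fun s _ => ?_
    rw [pRegularPart_apply]
    have hcf' : IsClassFunction C (fun c : C => (χ : G → ℂ) (u⁻¹ * c)) := by
      intro g h
      have h1 := comm_of_mem hC h
      have h2 : u⁻¹ * ((h * g * h⁻¹ : C) : G) = (h : G) * (u⁻¹ * (g : G)) * (h : G)⁻¹ := by
        simp only [Subgroup.coe_mul, Subgroup.coe_inv]
        have h3 : u⁻¹ * (h : G) = (h : G) * u⁻¹ := by
          calc u⁻¹ * (h : G) = u⁻¹ * ((h : G) * u) * u⁻¹ := by group
            _ = u⁻¹ * (u * (h : G)) * u⁻¹ := by rw [h1]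
            _ = (h : G) * u⁻¹ := by group
        calc u⁻¹ * ((h : G) * (g : G) * (h : G)⁻¹) = (u⁻¹ * (h : G)) * (g : G) * (h : G)⁻¹ := by
              group
          _ = ((h : G) * u⁻¹) * (g : G) * (h : G)⁻¹ := by rw [h3]
          _ = (h : G) * (u⁻¹ * (g : G)) * (h : G)⁻¹ := by group
      simp only
      rw [h2, irr_conj]
    have hsec : (fun c : C => (χ : G → ℂ) (u * c)) = sec u C (χ : G → ℂ) := rfl
    rw [hsec, ← proj_eq_blockPart _ hcf', ← proj_eq_blockPart (blockOf M (ξ₀ : C → ℂ)) (hcf χ)]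
    have hinv : ∀ c : C, (fun c : C => (χ : G → ℂ) (u⁻¹ * c)) c⁻¹ =
        conj (sec u C (χ : G → ℂ) c) := by
      intro c
      simp only [sec, Subgroup.coe_inv]
      have h1 := comm_of_mem hC c
      have h2 : u⁻¹ * (c : G)⁻¹ = (u * (c : G))⁻¹ := by
        rw [← h1]; group
      rw [h2, irr_inv]
    rw [proj_inv _ (hcf χ) hinv s]
    split_ifs
    · rw [zero_mul]
    · rw [mul_comm]
  rw [finsum_mem_eq_sum_ite, ← sum_block_bpart_eq_card_mul_blockRank hu hC hM ξ₀ hind]
  refine Finset.sum_congr rfl fun χ _ => ?_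
  split_ifs
  · exact h1 χ
  · rfl

end Cfsg.Agent.S4683
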