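import Cfsg.Statements.S4694
import Cfsg.Agent.Lib.H23.MaxPairC
import Cfsg.Agent.Lib.H23.WeightCoreB
open Cfsg.Agent.Lib.H23 Cfsg.Agent.Lib.H23.MaxPair Cfsg.Agent.Lib.H23.WeightCore Cfsg.Agent.Lib.L0 Cfsg.Agent.Lib.L0.BrauerCentric Cfsg.Agent.Lib.H24

set_option autoImplicit false
open Cfsg

namespace Cfsg.Agent.S4694

/-- Fix a prime p and a maximal ideal M of the algebraic integers containing p, a p-block B of the finite group G and a Brauer pair (Q, e) of B. Let T be the stabilizer of e in N_G(Q) and suppose that (Q, e) carries a weight: the block of T whose idempotent is that of e contains an irreducible character χ that is constant on the cosets of Q and whose degree has p-part equal to the p-part of the index of Q in T. Then Z(Q) is a defect group of e as a block of C_G(Q), and Q is the largest normal p-subgroup of T: every p-subgroup of T normalized by T lies in Q. -/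
theorem result {G : Type*} [Group G] [Fintype G] (p : ℕ) [Fact p.Prime] (M : Ideal Cfsg.AlgInt) (hM : Cfsg.IsPModular p M) (B : Set (Cfsg.IrrCharacter G)) (Q : Subgroup G) (e : Set (Cfsg.IrrCharacter (Subgroup.centralizer (Q : Set G)))) (hQe : Cfsg.IsBrauerPairOf p M B Q e) (T : Subgroup G) (hT : ∀ y : G, y ∈ T ↔ y ∈ Subgroup.normalizer (Q : Set G) ∧ Cfsg.StabilizesBlock (Subgroup.centralizer (Q : Set G)) e y) (F' : Set (Cfsg.IrrCharacter T)) (hF' : Cfsg.IsPBlock M F') (hF'e : ∀ t : T, Cfsg.blockCoeff F' t = Cfsg.subgroupBlockCoeff (Subgroup.centralizer (Q : Set G)) e (t : G)) (χ : Cfsg.IrrCharacter T) (hχ : χ ∈ F') (hχQ : ∀ q : G, q ∈ Q → ∀ t : T, ∀ t' : T, (t' : G) = q * (t : G) → (χ : T → ℂ) t' = (χ : T → ℂ) t) (hdeg : (Cfsg.charDegree (χ : T → ℂ)).factorization p + (Nat.card Q).factorization p = (Nat.card T).factorization p) : Cfsg.IsDefectGroup p M e ((Q ⊓ Subgroup.centralizer (Q : Set G)).subgroupOf (Subgroup.centralizer (Q : Set G))) ∧ ∀ R : Subgroup G, R ≤ T → IsPGroup p R → (∀ t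 ∈ T, t ∈ Subgroup.normalizer (R : Set G)) → R ≤ Q := by
  classical
  haveI hPr := isPrime_of_isPModular hM
  obtain ⟨⟨hQp, he⟩, hB, hbr⟩ := hQe
  have hCT : CC Q ≤ T := fun g hg =>
    (hT g).2 ⟨CC_le_LL Q hg, stabilizesBlock_of_mem_sup Q e (Subgroup.mem_sup_right hg)⟩
  have hQT : Q ≤ T := fun g hg =>
    (hT g).2 ⟨Subgroup.le_normalizer hg, stabilizesBlock_of_mem_sup Q e (Subgroup.mem_sup_left hg)⟩
  have hTN : T ≤ Subgroup.normalizer (Q : Set G) := fun g hg => ((hT g).1 hg).1
  haveI : Fintype T := Fintype.ofFinite _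
  haveI : Fintype (CC Q) := Fintype.ofFinite _
  haveI hQkn : (Q.subgroupOf T).Normal := by
    refine ⟨fun n hn t => ?_⟩
    rw [Subgroup.mem_subgroupOf] at hn ⊢
    have := (Subgroup.mem_normalizer_iff.1 (hTN t.2) (n : G)).1 hn
    simpa using this
  have hker : ∀ q ∈ Q.subgroupOf T, (χ : T → ℂ) q = (χ : T → ℂ) 1 := fun q hq =>
    hχQ (q : G) hq 1 q (by simp)
  have hcardQ : Nat.card (Q.subgroupOf T) = Nat.card Q :=
    Nat.card_congr (Subgroup.subgroupOfEquivOfLe hQT).toEquiv
  have hdeg' : (charDegree (χ : T → ℂ)).factorization p +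
      (Nat.card (Q.subgroupOf T)).factorization p = (Nat.card T).factorization p := by
    rw [hcardQ]; exact hdeg
  constructor
  · set j : CC Q →* T := Subgroup.inclusion hCT with hjdef
    have hjinj : Function.Injective j := Subgroup.inclusion_injective hCT
    have hjcoe : ∀ c : CC Q, ((j c : T) : G) = (c : G) := fun c => rfl
    have hj : j.range.Normal := by
      refine ⟨fun n hn t => ?_⟩
      obtain ⟨c, rfl⟩ := hn
      have h1 : (t : G) * (c : G) * (t : G)⁻¹ ∈ CC Q :=
        (Subgroup.mem_normalizer_iff.1 (LL_le_normalizer_CC Q (hTN t.2)) (c : G)).1 c.2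
      exact ⟨⟨_, h1⟩, Subtype.ext rfl⟩
    obtain ⟨θ, hcon, hθker, hθdeg⟩ := weight_core (p := p) (Q.subgroupOf T) χ hker hdeg' j hj
    have hθe : θ ∈ e := by
      apply constituent_mem_of_sum_blockCoeff e ((χ : T → ℂ) ∘ j)
        (isCharacter_comp j (isCharacter_of_irr χ.2)) ?_ θ hcon
      have h1 := omega_blockIdem F' χ
      rw [if_pos hχ, omega, blockIdem, charEval_ofFun] at h1
      have h2 := (div_eq_one_iff_eq (irr_one_ne_zero χ)).1 h1
      rw [Function.comp_apply, map_one, ← h2]
      apply Fintype.sum_of_injective j hjinj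
      · intro t ht
        rw [hF'e t]
        have h3 : (t : G) ∉ CC Q := fun h => ht ⟨⟨(t : G), h⟩, Subtype.ext rfl⟩
        unfold subgroupBlockCoeff
        rw [dif_neg h3, zero_mul]
      · intro c
        rw [hF'e (j c)]
        unfold subgroupBlockCoeff
        rw [dif_pos (show ((j c : T) : G) ∈ CC Q from c.2)]
        rfl
    have hZ : (Q.subgroupOf T).comap j = (Q ⊓ CC Q).subgroupOf (CC Q) := by
      ext z
      rw [Subgroup.mem_comap, Subgroup.mem_subgroupOf, Subgroup.mem_subgroupOf, hjcoe,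
        Subgroup.mem_inf]
      exact ⟨fun h => ⟨h, z.2⟩, fun h => h.1⟩
    rw [hZ] at hθdeg
    have hblock : e = blockOf M (θ : CC Q → ℂ) := Cfsg.Agent.Lib.H23.FR.isPBlock_eq_blockOf he hθe
    rw [hblock]
    refine isDefectGroup_of_degree hM _ ?_ ?_ θ hθdeg
    · exact (hQp.to_le inf_le_left).comap_of_injective _ (Subgroup.subtype_injective _)
    · intro z hz
      rw [Subgroup.mem_subgroupOf, Subgroup.mem_inf] at hz
      rw [Subgroup.mem_center_iff]
      intro c
      apply Subtype.ext
      have := Subgroup.mem_centralizer_iff.1 c.2 (z : G) hz.1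
      simpa using this.symm
  · intro R hRT hRp hRn
    haveI : (R.subgroupOf T).Normal := by
      refine ⟨fun n hn t => ?_⟩
      rw [Subgroup.mem_subgroupOf] at hn ⊢
      have := (Subgroup.mem_normalizer_iff.1 (hRn t t.2) (n : G)).1 hn
      simpa using this
    have h1 := normal_pSubgroup_le_of_weight (M := M) (Q.subgroupOf T) hM χ hker hdeg'
      (R.subgroupOf T) (hRp.comap_of_injective _ (Subgroup.subtype_injective _))
    intro r hr
    exact h1 (show (⟨r, hRT hr⟩ : T) ∈ R.subgroupOf T from hr)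

end Cfsg.Agent.S4694
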