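import Cfsg.Statements.S4702
-- import your own Cfsg.Agent.* helpers here
import Cfsg.Agent.Lib.H4.S3T.Small
import Cfsg.Agent.Lib.H18.SL2Char2Action
import Mathlib

set_option autoImplicit false
open Cfsg

namespace Cfsg.Agent.S4702

/-- Let G be a triply transitive permutation group on a finite set of odd size m ≥ 3 in which only the identity fixes three or more points. Then m = 2^a + 1 for some a ≥ 1 and G is isomorphic to SL(2, 2^a). -/
theorem result {α : Type*} [Fintype α] [DecidableEq α] (hm : 3 ≤ Fintype.card α) (hodd : Odd (Fintype.card α)) (G : Subgroup (Equiv.Perm α)) (h3 : MulAction.IsMultiplyPretransitive G α 3) (hfix : ∀ g : G, 3 ≤ Nat.card (MulAction.fixedBy α g) → g = 1) : ∃ a : ℕ, 1 ≤ a ∧ Fintype.card α = 2 ^ a + 1 ∧ ∃ (F : Type) (_ : Field F) (_ : Fintype F), Fintype.card F = 2 ^ a ∧ Nonempty (G ≃* Matrix.SpecialLinearGroup (Fin 2) F) := by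
  classical
  have hS : Cfsg.Agent.Lib.H4.S3T.Sharp3 G α := by
    constructor
    · intro u v w u' v' w' huv huw hvw huv' huw' hvw'
      let x : Fin 3 ↪ α := ⟨![u, v, w], by
        intro i j hij
        fin_cases i <;> fin_cases j <;> simp_all⟩
      let y : Fin 3 ↪ α := ⟨![u', v', w'], by
        intro i j hij
        fin_cases i <;> fin_cases j <;> simp_all⟩
      obtain ⟨g, hg⟩ := h3.exists_smul_eq x y
      refine ⟨g, ?_, ?_, ?_⟩
      · exact DFunLike.congr_fun hg 0
      · exact DFunLike.congr_fun hg 1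
      · exact DFunLike.congr_fun hg 2
    · intro g u v w huv huw hvw h1 h2 h3'
      apply hfix
      have hsub : ({u, v, w} : Set α) ⊆ MulAction.fixedBy α g := by
        intro z hz
        simp only [Set.mem_insert_iff, Set.mem_singleton_iff] at hz
        rcases hz with rfl | rfl | rfl
        · exact h1
        · exact h2
        · exact h3'
      have hc : ({u, v, w} : Set α).ncard = 3 := by
        rw [Set.ncard_eq_three]
        exact ⟨u, v, w, huv, huw, hvw, rfl⟩
      rw [Nat.card_coe_set_eq, ← hc]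
      exact Set.ncard_le_ncard hsub (Set.toFinite _)
  obtain ⟨F, fld, fin, hF, ⟨φ⟩⟩ := Cfsg.Agent.Lib.H4.S3T.exists_PGL_small hS hodd hm
  have heven : Even (Fintype.card F) := by
    rcases hodd with ⟨k, hk⟩
    exact ⟨k, by omega⟩
  obtain ⟨n, hp, hn⟩ := FiniteField.card F (ringChar F)
  have hchar : ringChar F = 2 := by
    rw [hn] at heven
    have h2 : 2 ∣ ringChar F ^ (n : ℕ) := even_iff_two_dvd.1 heven
    have := Nat.prime_two.dvd_of_dvd_pow h2
    exact ((Nat.prime_dvd_prime_iff_eq Nat.prime_two hp).1 this).symm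
  rw [hchar] at hn
  have hn1 : 1 ≤ (n : ℕ) := n.pos
  refine ⟨n, hn1, by omega, F, fld, fin, hn, ?_⟩
  haveI : CharP F 2 := by
    have := ringChar.charP F
    rwa [hchar] at this
  obtain ⟨ψ⟩ := Cfsg.Agent.Lib.H4.S3T.nonempty_PSL_mulEquiv_PGL hn1 hn
  exact ⟨(φ.trans ψ.symm).trans Cfsg.Agent.Lib.H18.psl2EquivSl2⟩

end Cfsg.Agent.S4702
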