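import Cfsg.Statements.S4709
import Cfsg.Agent.Lib.H23.AbSylI

set_option autoImplicit false
open Cfsg

namespace Cfsg.Agent.S4709

open Cfsg.Agent.Lib.H23.AbSyl Cfsg.Agent.Lib.L0.PrincipalCrit

/-- Let p be a prime, M a maximal ideal of the algebraic integers containing p, and G a finite group with a nontrivial abelian Sylow p-subgroup P; put N = N_G(P), C = C_G(P). Suppose N/C is cyclic of order m with 1 < m < #P − 1 (C has index m in N and N is generated by C and one element), and C_G(y) ∩ N = C for every non-identity y ∈ P. Put r = (#P − 1)/m. Then there is s ≤ m such that the principal p-block is the disjoint union of a set X of s characters containing the principal character and a set Y of r characters, with integers a_χ ≠ 0 (χ ∈ X), d and a sign δ = ±1, such that: every χ ∈ X takes the value a_χ at every element whose p-part is a non-identity element of P; there is a map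 ζ from the non-principal linear characters ψ of P onto Y, constant on N-conjugacy classes, with ζ_ψ(z) = d + δ·Σ ψ'(y) for every z whose p-part y is a non-identity element of P, the sum running over the N-conjugates ψ' of ψ; (d − δ)^2 + (r − 1) d^2 + Σ_{χ ∈ X} a_χ^2 = m + 1; all members of Y agree on p-regular elements; and (r d − δ) η(g) + Σ_{χ ∈ X} a_χ χ(g) = 0 for every η ∈ Y and every p-regular g. -/
theorem result {G : Type*} [Group G] [Finite G] (p : ℕ) [Fact p.Prime] (M : Ideal Cfsg.AlgInt) (hM : Cfsg.IsPModular p M) (P : Sylow p G) (hab : IsMulCommutative P) (hP1 : Nat.card P ≠ 1) (m : ℕ) (hm1 : 1 < m) (hm2 : m + 1 < Nat.card P) (hCN : (Subgroup.centralizer ((P : Subgroup G) : Set G)).relIndex (Subgroup.normalizer ((P : Subgroup G) : Set G)) = m) (hcyc : ∃ g : G, g ∈ Subgroup.normalizer ((P : Subgroup G) : Set G) ∧ Subgroup.centralizer ((P : Subgroup G) : Set G) ⊔ Subgroup.zpowers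 g = Subgroup.normalizer ((P : Subgroup G) : Set G)) (hfrob : ∀ y : G, y ∈ (P : Subgroup G) → y ≠ 1 → Subgroup.centralizer ({y} : Set G) ⊓ Subgroup.normalizer ((P : Subgroup G) : Set G) = Subgroup.centralizer ((P : Subgroup G) : Set G)) : ∃ (s : ℕ) (X Y : Set (Cfsg.IrrCharacter G)), s ≤ m ∧ Cfsg.principalBlock M G = X ∪ Y ∧ Disjoint X Y ∧ Nat.card X = s ∧ Nat.card Y = (Nat.card P - 1) / m ∧ (∃ χ₁ ∈ X, (χ₁ : G → ℂ) = fun _ => 1) ∧ ∃ (a : Cfsg.IrrCharacter G → ℤ) (d δ : ℤ) (ζ : (↥(P : Subgroup G) →* ℂˣ) → Cfsg.IrrCharacter G), (δ = 1 ∨ δ = -1) ∧ (∀ χ ∈ X, a χ ≠ 0 ∧ ∀ z y : G, Cfsg.IsPPart p z y → y ∈ (P : Subgroup G) → y ≠ 1 → (χ : G → ℂ) z = (a χ : ℂ)) ∧ (∀ ψ : ↥(P : Subgroup G) →* ℂˣ, ψ ≠ 1 → ζ ψ ∈ Y) ∧ (∀ η ∈ Y, ∃ ψ : ↥(P : Subgroup G) →* ℂˣ, ψ ≠ 1 ∧ ζ ψ = η) ∧ (∀ ψ ψ' : ↥(P : Subgroup G) →* ℂˣ, ψ ≠ 1 → (∃ n : G, n ∈ Subgroup.normalizer ((P : Subgroup G) : Set G) ∧ ∀ w w' : ↥(P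 : Subgroup G), (w' : G) = n * w * n⁻¹ → ψ' w' = ψ w) → ζ ψ' = ζ ψ) ∧ (∀ ψ : ↥(P : Subgroup G) →* ℂˣ, ψ ≠ 1 → ∀ (z : G) (y : ↥(P : Subgroup G)), Cfsg.IsPPart p z (y : G) → (y : G) ≠ 1 → (ζ ψ : G → ℂ) z = (d : ℂ) + (δ : ℂ) * ∑ᶠ ψ' ∈ {ψ' : ↥(P : Subgroup G) →* ℂˣ | ∃ n : G, n ∈ Subgroup.normalizer ((P : Subgroup G) : Set G) ∧ ∀ w w' : ↥(P : Subgroup G), (w' : G) = n * w * n⁻¹ → ψ' w' = ψ w}, ((ψ' y : ℂˣ) : ℂ)) ∧ ((d - δ) ^ 2 + ((Nat.card P - 1) / m - 1 : ℤ) * d ^ 2 + ∑ᶠ χ ∈ X, a χ ^ 2 = (m : ℤ) + 1) ∧ (∀ η ∈ Y, ∀ η' ∈ Y, ∀ g : G, ¬ p ∣ orderOf g → (η : G → ℂ) g = (η' : G → ℂ) g) ∧ (∀ η ∈ Y, ∀ g : G, ¬ p ∣ orderOf g → ((((Nat.card P - 1) / m : ℕ) : ℂ) * d - δ) * (η : G → ℂ) g + ∑ᶠ χ ∈ X, (a χ : ℂ) * (χ : G → ℂ) g = 0) := by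
  classical
  have hcomm : ∀ a ∈ P, ∀ b ∈ P, a * b = b * a := by
    intro a ha b hb
    have := hab.is_comm.comm (⟨a, ha⟩ : ↥P) ⟨b, hb⟩
    exact congrArg Subtype.val this
  have hm0 : 0 < m := by omega
  obtain ⟨XF, YF, a, d, δ, ζ, hB, hdisj, hYcard, hXcard, htriv, hδ, hX, hζY, hYζ, hrel, hval,
    hnorm, hagree, hlast⟩ := main hM P hcomm hfrob m hm2 hCN
  have hYdiv : (Nat.card ↥(P : Subgroup G) - 1) / m = YF.card :=
    Nat.div_eq_of_eq_mul_left hm0 hYcard.symm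
  refine ⟨XF.card, (XF : Set (IrrCharacter G)), (YF : Set (IrrCharacter G)), hXcard, ?_, ?_, ?_, ?_,
    ?_, a, d, δ, ζ, hδ, ?_, ?_, ?_, ?_, ?_, ?_, ?_, ?_⟩
  · ext χ
    rw [Set.mem_union, Finset.mem_coe, Finset.mem_coe]
    exact hB χ
  · rw [Finset.disjoint_coe]
    exact hdisj
  · rw [Nat.card_coe_set_eq, Set.ncard_coe_finset]
  · rw [Nat.card_coe_set_eq, Set.ncard_coe_finset, hYdiv]
  · exact ⟨trivIrr G, Finset.mem_coe.2 htriv, rfl⟩
  · intro χ hχ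
    have hχ' : χ ∈ XF := Finset.mem_coe.1 hχ
    refine ⟨(hX χ hχ').1, ?_⟩
    intro z y hzy hy hy1
    have hχB : χ ∈ principalBlock M G := (hB χ).2 (Or.inl hχ')
    rw [const_isPPart hM P hcomm hfrob z y hzy hy hy1 χ hχB]
    exact (hX χ hχ').2 y hy hy1
  · intro ψ hψ
    exact Finset.mem_coe.2 (hζY ψ hψ)
  · intro η hη
    exact hYζ η (Finset.mem_coe.1 hη)
  · intro ψ ψ' hψ hr
    exact hrel ψ ψ' hψ hr
  · intro ψ hψ z y hzy hy1
    have hχB : ζ ψ ∈ principalBlock M G := (hB _).2 (Or.inr (hζY ψ hψ))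
    rw [const_isPPart hM P hcomm hfrob z (y : G) hzy y.2 hy1 (ζ ψ) hχB]
    exact hval ψ hψ y (fun h => hy1 (by rw [h]; rfl))
  · rw [finsum_mem_coe_finset]
    have h1 : ((Nat.card ↥(P : Subgroup G) : ℤ) - 1) / (m : ℤ) = (YF.card : ℤ) := by
      have h2 : ((Nat.card ↥(P : Subgroup G) : ℤ) - 1) = ((YF.card * m : ℕ) : ℤ) := by
        rw [hYcard]
        have : 1 ≤ Nat.card ↥(P : Subgroup G) := by omega
        push_cast [Nat.cast_sub this]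
        ring
      rw [h2]
      push_cast
      exact Int.mul_ediv_cancel _ (by exact_mod_cast hm0.ne')
    rw [h1]
    exact hnorm
  · intro η hη η' hη' g hg
    exact hagree η (Finset.mem_coe.1 hη) η' (Finset.mem_coe.1 hη') g hg
  · intro η hη g hg
    rw [finsum_mem_coe_finset, hYdiv]
    exact hlast η (Finset.mem_coe.1 hη) g hg

end Cfsg.Agent.S4709
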