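import Cfsg.Statements.S4710
import Cfsg.Agent.Lib.L0.BrauerFeit3

set_option autoImplicit false
open Cfsg

namespace Cfsg.Agent.S4710

open Cfsg.Agent.Lib.H23 Cfsg.Agent.Lib.H24 Cfsg.Agent.Lib.L0 Cfsg.Agent.Lib.L0.BrauerFeit

/-- Let p be a prime, M a maximal ideal of the algebraic integers containing p, and B a p-block of defect d of the finite group G containing k irreducible characters. If B contains a character of positive height then 2k ≤ p^(2d − 2); and every character in B has height 0 when d ≤ 1 and height at most d − 2 when d ≥ 2. -/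
theorem result {G : Type*} [Group G] [Finite G] (p : ℕ) [Fact p.Prime] (M : Ideal Cfsg.AlgInt) (hM : Cfsg.IsPModular p M) (B : Set (Cfsg.IrrCharacter G)) (hB : Cfsg.IsPBlock M B) (d : ℕ) (hd : Cfsg.blockDefect p B = d) : ((∃ χ ∈ B, 0 < Cfsg.blockHeight p B (χ : G → ℂ)) → 2 * Nat.card B ≤ p ^ (2 * d - 2)) ∧ ∀ χ ∈ B, (d ≤ 1 → Cfsg.blockHeight p B (χ : G → ℂ) = 0) ∧ (2 ≤ d → Cfsg.blockHeight p B (χ : G → ℂ) ≤ d - 2) := by
  classical
  haveI := Fintype.ofFinite G
  haveI := Fintype.ofFinite (IrrCharacter G)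
  obtain ⟨χ₁, rfl⟩ := hB
  subst hd
  constructor
  · rintro ⟨ψ₁, hψ₁, hpos⟩
    have hcard : Nat.card (blockOf M (χ₁ : G → ℂ)) =
        (Finset.univ.filter (· ∈ blockOf M (χ₁ : G → ℂ))).card := by
      rw [Nat.card_eq_fintype_card, Fintype.card_subtype]
    rw [hcard]
    set Bf := Finset.univ.filter (· ∈ blockOf M (χ₁ : G → ℂ)) with hBf
    have hsplit := Finset.card_filter_add_card_filter_not (s := Bf)
      (fun ψ : IrrCharacter G => blockHeight p (blockOf M (χ₁ : G → ℂ)) (ψ : G → ℂ) = 0)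
    have h0 := four_mul_card_height_zero_le hM χ₁ ψ₁ hψ₁ hpos
      (Bf.filter (fun ψ : IrrCharacter G =>
        blockHeight p (blockOf M (χ₁ : G → ℂ)) (ψ : G → ℂ) = 0))
      (fun ψ hψ => by
        rw [Finset.mem_filter, hBf, Finset.mem_filter] at hψ
        exact ⟨hψ.1.2, hψ.2⟩)
    have h1 := four_mul_card_pos_height_le hM χ₁
      (Bf.filter (fun ψ : IrrCharacter G =>
        ¬ blockHeight p (blockOf M (χ₁ : G → ℂ)) (ψ : G → ℂ) = 0))
      (fun ψ hψ => by
        rw [Finset.mem_filter, hBf, Finset.mem_filter] at hψ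
        exact ⟨hψ.1.2, Nat.pos_of_ne_zero hψ.2⟩)
    omega
  · intro χ hχ
    by_cases hpos : 0 < blockHeight p (blockOf M (χ₁ : G → ℂ)) (χ : G → ℂ)
    · have := height_add_two_le hM χ₁ χ hχ hpos
      constructor
      · intro h; omega
      · intro h; omega
    · have h0 : blockHeight p (blockOf M (χ₁ : G → ℂ)) (χ : G → ℂ) = 0 := by omega
      rw [h0]
      exact ⟨fun _ => rfl, fun _ => Nat.zero_le _⟩

end Cfsg.Agent.S4710
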