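import Cfsg.Statements.S4713
import Mathlib
import Cfsg.Agent.S4493
import Cfsg.Agent.Lib.H24.CoprimeClasses
import Cfsg.Agent.Lib.H10.PSolvable2
import Cfsg.Agent.Lib.H4.PSolvSub

set_option autoImplicit false
open Cfsg

namespace Cfsg.Agent.S4713

open Cfsg.Agent.Lib.H24 Cfsg.Agent.Lib.L0 Cfsg.Agent.Lib.H23 Cfsg.Agent.Lib.H3 Cfsg.Agent.S4493

/-- If `G = P M` with `M` a normal subgroup and all degrees prime to `p`, then the Sylow
`p`-subgroup `P` fixes every irreducible character of `M`. -/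
theorem fixes_irr_of_sup_eq_top {G : Type*} [Group G] [Finite G] (p : ℕ) [Fact p.Prime]
    (hdeg : ∀ χ : IrrCharacter G, ¬ p ∣ charDegree (χ : G → ℂ)) (M : Subgroup G) [hM : M.Normal]
    (P : Sylow p G) (htop : (P : Subgroup G) ⊔ M = ⊤) (lam : IrrCharacter M) :
    ∀ x ∈ (P : Subgroup G), x ∈ Cfsg.Agent.Lib.H23.inertia M (lam : M → ℂ) := by
  classical
  have := Fintype.ofFinite G
  have := Fintype.ofFinite M
  set T := Cfsg.Agent.Lib.H23.inertia M (lam : M → ℂ) with hT
  have hMT : M ≤ T :=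
    le_inertia M (isClassFunction_of_isCharacter (isCharacter_of_irr lam.2))
  obtain ⟨χ, hχ, hc⟩ := Cfsg.Agent.S0855.exists_irr_over M lam.1 lam.2
  have hidx : ¬ p ∣ T.index := fun h =>
    hdeg ⟨χ, hχ⟩ (dvd_trans h (index_inertia_dvd_degree M lam.1 lam.2 χ hχ hc))
  have hfix := (P.isPGroup').nonempty_fixed_point_of_prime_not_dvd_card (G ⧸ T)
    (by rwa [← Subgroup.index_eq_card])
  obtain ⟨q, hq⟩ := hfix
  obtain ⟨g, rfl⟩ := QuotientGroup.mk_surjective q
  have hg : ∀ x ∈ (P : Subgroup G), g⁻¹ * x * g ∈ T := by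
    intro x hx
    have h1 := MulAction.mem_fixedPoints.mp hq ⟨x, hx⟩
    have h2 : ((x * g : G) : G ⧸ T) = (g : G ⧸ T) := h1
    rw [QuotientGroup.eq] at h2
    have h3 := T.inv_mem h2
    convert h3 using 1
    group
  have hgmem : g ∈ ((P : Subgroup G) ⊔ M : Subgroup G) := by rw [htop]; trivial
  rw [← SetLike.mem_coe, Subgroup.mul_normal] at hgmem
  obtain ⟨a, ha, m, hm, rfl⟩ := hgmem
  intro x hx
  have h1 := hg (a * x * a⁻¹) ((P : Subgroup G).mul_mem ((P : Subgroup G).mul_mem ha hx)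
    ((P : Subgroup G).inv_mem ha))
  have h2 : (a * m)⁻¹ * (a * x * a⁻¹) * (a * m) = m⁻¹ * x * m := by group
  rw [h2] at h1
  have h3 := T.mul_mem (T.mul_mem (hMT hm) h1) (T.inv_mem (hMT hm))
  convert h3 using 1
  group

/-- If `G = P M` with `M` a normal `p'`-subgroup and all degrees prime to `p`, then the Sylow
`p`-subgroup `P` centralizes `M`. -/
theorem centralizes_of_sup_eq_top_coprime {G : Type*} [Group G] [Finite G] (p : ℕ) [Fact p.Prime]
    (hdeg : ∀ χ : IrrCharacter G, ¬ p ∣ charDegree (χ : G → ℂ)) (M : Subgroup G) [hM : M.Normal]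
    (hMcop : (Nat.card M).Coprime p) (P : Sylow p G) (htop : (P : Subgroup G) ⊔ M = ⊤) :
    ∀ x ∈ (P : Subgroup G), ∀ n ∈ M, x * n * x⁻¹ = n := by
  classical
  have := Fintype.ofFinite G
  have := Fintype.ofFinite M
  have hA := fixes_irr_of_sup_eq_top p hdeg M P htop
  refine centralizes_of_stabilizes_classes p M hMcop (P : Subgroup G) P.isPGroup' ?_
  intro x hx
  -- conjugation by `x` on `M`
  set τ : M → M := fun n => ⟨x * n * x⁻¹, hM.conj_mem n n.2 x⟩ with hτdef
  have hfix : ∀ χ : IrrCharacter M, (χ : M → ℂ) ∘ τ = (χ : M → ℂ) := by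
    intro χ
    funext n
    exact hA χ x hx n
  have hτ : ∀ χ : IrrCharacter M, IsIrrCharacter M ((χ : M → ℂ) ∘ τ) := by
    intro χ
    rw [hfix χ]
    exact χ.2
  have hperm := perm_lemma τ hτ
  have h1 : Nat.card {χ : IrrCharacter M // (χ : M → ℂ) ∘ τ = (χ : M → ℂ)} =
      Nat.card (IrrCharacter M) :=
    Nat.card_congr (Equiv.subtypeUnivEquiv hfix)
  rw [h1, card_irr_eq_card_conjClasses] at hperm
  -- hence every class is stabilized
  have hall : ∀ C : ConjClasses M, ∀ g : M, ConjClasses.mk g = C → IsConj (τ g) g := by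
    by_contra hcon
    push Not at hcon
    obtain ⟨C, hC⟩ := hcon
    have : Fintype (ConjClasses M) := Fintype.ofFinite _
    have hlt := Fintype.card_subtype_lt
      (p := fun C : ConjClasses M => ∀ g : M, ConjClasses.mk g = C → IsConj (τ g) g) (x := C)
      (by
        intro h
        obtain ⟨g, hg1, hg2⟩ := hC
        exact hg2 (h g hg1))
    rw [← Nat.card_eq_fintype_card, ← Nat.card_eq_fintype_card] at hlt
    omega
  intro n
  exact hall _ n rfl

universe u

/-- Under the hypothesis that no degree is divisible by `p`, the Sylow `p`-subgroups of a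
`p`-solvable group are normal. -/
theorem normal_sylow_psolv_aux (p : ℕ) [hpF : Fact p.Prime] :
    ∀ (n : ℕ) (G : Type u) [Group G] [Finite G], Nat.card G = n → Cfsg.IsPSolvable p G →
      (∀ χ : IrrCharacter G, ¬ p ∣ charDegree (χ : G → ℂ)) →
      ∀ P : Sylow p G, (P : Subgroup G).Normal := by
  intro n
  induction n using Nat.strong_induction_on with
  | _ n ih =>
  intro G _ _ hcard hsolv hdeg P
  classical
  have hp : p.Prime := hpF.out
  by_cases hnt : Nontrivial G
  swap
  · rw [not_nontrivial_iff_subsingleton] at hnt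
    constructor
    intro x hx g
    have : g * x * g⁻¹ = x := Subsingleton.elim _ _
    rwa [this]
  obtain ⟨M, hMn, hM1, hMp⟩ := Cfsg.Agent.Lib.H10.exists_normal_of_isPSolvable hsolv
  have hMcard2 : 2 ≤ Nat.card M := by
    have h1 : Nat.card M ≠ 1 := fun h => hM1 (Subgroup.card_eq_one.mp h)
    have h0 : 0 < Nat.card M := Nat.card_pos
    omega
  have hlt : Nat.card (G ⧸ M) < n := by
    rw [← hcard, Subgroup.card_eq_card_quotient_mul_card_subgroup M]
    have : 0 < Nat.card (G ⧸ M) := Nat.card_pos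
    nlinarith
  have hPbar := ih _ hlt (G ⧸ M) rfl (Cfsg.Agent.Lib.H10.isPSolvable_quotient hsolv M)
    (not_dvd_degree_quotient p M hdeg) (P.mapSurjective (QuotientGroup.mk'_surjective M))
  have hP₁ : ((P : Subgroup G) ⊔ M).Normal := by
    rw [Sylow.coe_mapSurjective] at hPbar
    have h2 := Subgroup.Normal.comap hPbar (QuotientGroup.mk' M)
    rwa [Subgroup.comap_map_eq, QuotientGroup.ker_mk'] at h2
  rcases hMp with hMp | hMcop
  · have hMP : M ≤ P := hMp.le_sylow_of_normal P
    rwa [sup_eq_left.mpr hMP] at hP₁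
  by_cases htop : (P : Subgroup G) ⊔ M = ⊤
  · have hcent := centralizes_of_sup_eq_top_coprime p hdeg M hMcop P htop
    constructor
    intro x hx g
    have hg : g ∈ ((P : Subgroup G) ⊔ M : Subgroup G) := by rw [htop]; trivial
    rw [← SetLike.mem_coe, Subgroup.mul_normal] at hg
    obtain ⟨a, ha, m, hm, rfl⟩ := hg
    have h1 : m * x * m⁻¹ = x := by
      have h2 := hcent x hx m hm
      calc m * x * m⁻¹ = m * (x * m⁻¹ * x⁻¹) * x := by group
        _ = m * (x * m * x⁻¹)⁻¹ * x := by group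
        _ = x := by rw [h2]; group
    have h3 : a * m * x * (a * m)⁻¹ = a * (m * x * m⁻¹) * a⁻¹ := by group
    rw [h3, h1]
    exact (P : Subgroup G).mul_mem ((P : Subgroup G).mul_mem ha hx) ((P : Subgroup G).inv_mem ha)
  · set P₁ : Subgroup G := (P : Subgroup G) ⊔ M with hP₁def
    have hlt1 : Nat.card P₁ < n := by
      rw [← hcard]
      have h1 := Subgroup.card_mul_index P₁
      have h2 : P₁.index ≠ 1 := fun h => htop (Subgroup.index_eq_one.mp h)
      have h3 : 0 < P₁.index := Nat.pos_of_ne_zero Subgroup.index_ne_zero_of_finite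
      have h4 : 2 ≤ P₁.index := by omega
      have h5 : 0 < Nat.card P₁ := Nat.card_pos
      nlinarith
    have hP₁deg := not_dvd_degree_normal p P₁ hdeg
    have hle : (P : Subgroup G) ≤ P₁ := le_sup_left
    have hnorm := ih _ hlt1 P₁ rfl (Cfsg.Agent.Lib.H4.PSolvSub.isPSolvable_subgroup hsolv P₁)
      hP₁deg (P.subtype hle)
    have huniq := Sylow.unique_of_normal (P.subtype hle) hnorm
    constructor
    intro x hx g
    have hy : g * x * g⁻¹ ∈ P₁ := hP₁.conj_mem x (hle hx) g
    have hpg : IsPGroup p (Subgroup.zpowers (⟨g * x * g⁻¹, hy⟩ : P₁)) := by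
      obtain ⟨k, hk⟩ := (IsPGroup.iff_orderOf.mp P.isPGroup') ⟨x, hx⟩
      apply IsPGroup.of_card (n := k)
      rw [Nat.card_zpowers, ← Subgroup.orderOf_coe]
      show orderOf (g * x * g⁻¹) = p ^ k
      rw [← hk, ← Subgroup.orderOf_coe]
      show orderOf (g * x * g⁻¹) = orderOf x
      symm
      apply SemiconjBy.orderOf_eq g
      show g * x = g * x * g⁻¹ * g
      group
    obtain ⟨Q, hQ⟩ := hpg.exists_le_sylow
    have hQP : Q = P.subtype hle := Subsingleton.elim _ _
    have hmem : (⟨g * x * g⁻¹, hy⟩ : P₁) ∈ ((P.subtype hle : Sylow p P₁) : Subgroup P₁) := by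
      rw [← hQP]
      exact hQ (Subgroup.mem_zpowers _)
    rw [Sylow.coe_subtype, Subgroup.mem_subgroupOf] at hmem
    exact hmem


/-- Let p be a prime and G a finite p-solvable group. Then G has a normal abelian Sylow p-subgroup if and only if the degree of every irreducible character of G is prime to p. -/
theorem result {G : Type*} [Group G] [Finite G] (p : ℕ) [Fact p.Prime] (hsolv : Cfsg.IsPSolvable p G) (P : Sylow p G) : ((P : Subgroup G).Normal ∧ IsMulCommutative P) ↔ ∀ χ : Cfsg.IrrCharacter G, ¬ p ∣ Cfsg.charDegree (χ : G → ℂ) := by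
  classical
  have hp : p.Prime := Fact.out
  have := Fintype.ofFinite G
  constructor
  · rintro ⟨hPn, hPc⟩ χ hdvd
    have hPc' : ∀ x ∈ (P : Subgroup G), ∀ y ∈ (P : Subgroup G), x * y = y * x := by
      intro x hx y hy
      have := hPc.is_comm.comm (⟨x, hx⟩ : ↥(P : Subgroup G)) ⟨y, hy⟩
      exact congrArg Subtype.val this
    obtain ⟨d, hd, hdvd2⟩ := ito_char (P : Subgroup G) hPc' χ.2
    rw [charDegree_eq_of_apply_one hd] at hdvd
    exact P.not_dvd_index (dvd_trans hdvd hdvd2)
  · intro hdeg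
    have hPn := normal_sylow_psolv_aux p (Nat.card G) G rfl hsolv hdeg P
    refine ⟨hPn, ?_⟩
    have hPdeg := not_dvd_degree_normal p (P : Subgroup G) hdeg
    have hlin : ∀ ϑ : IrrCharacter ↥(P : Subgroup G), (ϑ : ↥(P : Subgroup G) → ℂ) 1 = 1 := by
      intro ϑ
      have h1 := charDegree_dvd_card ϑ.1 ϑ.2
      obtain ⟨K, hK⟩ := IsPGroup.iff_card.mp P.isPGroup'
      rw [hK] at h1
      obtain ⟨j, -, hj⟩ := (Nat.dvd_prime_pow hp).mp h1
      have h2 := hPdeg ϑ
      have hj0 : j = 0 := by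
        by_contra hne
        apply h2
        rw [hj]
        exact dvd_pow_self p hne
      rw [apply_one_eq_charDegree ϑ.1 ϑ.2, hj, hj0, pow_zero, Nat.cast_one]
    exact ⟨⟨fun x y => comm_of_forall_irr_one hlin x y⟩⟩

end Cfsg.Agent.S4713
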