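import Cfsg.Statements.S4717
import Cfsg.Agent.S0917
import Cfsg.Agent.S0919
import Cfsg.Agent.S0936
import Cfsg.Agent.Lib.L0.BlockCentralizerInd
import Cfsg.Agent.Lib.H23.BlockDefect

set_option autoImplicit false
open Cfsg

namespace Cfsg.Agent.S4717

open Cfsg.Agent.Lib.H23 Cfsg.Agent.Lib.H24 Cfsg.Agent.Lib.L0
  Cfsg.Agent.Lib.L0.BlockCentralizerInd

section
variable {G : Type*} [Group G] [Fintype G] {p : ℕ} [Fact p.Prime] {M : Ideal AlgInt}

/-- Every block has a defect group. -/
theorem exists_isDefectGroup (hM : IsPModular p M) (χ₀ : IrrCharacter G) :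
    ∃ D : Subgroup G, IsDefectGroup p M (blockOf M (χ₀ : G → ℂ)) D := by
  obtain ⟨k, hk⟩ := exists_isDefectClass hM χ₀
  let S : Sylow p (Subgroup.centralizer ({k} : Set G)) := default
  exact ⟨_, k, hk, S, rfl⟩

/-- The defect does not decrease under block induction. -/
theorem blockDefect_le_of_induced (hM : IsPModular p M) (H : Subgroup G)
    (ξ₀ : IrrCharacter H) (χ₀ : IrrCharacter G)
    (hind : IsInducedBlock M H (blockOf M (ξ₀ : H → ℂ)) (blockOf M (χ₀ : G → ℂ))) :
    blockDefect p (blockOf M (ξ₀ : H → ℂ)) ≤ blockDefect p (blockOf M (χ₀ : G → ℂ)) := by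
  have hp : p.Prime := Fact.out
  haveI := Fintype.ofFinite H
  obtain ⟨D, hD⟩ := exists_isDefectGroup hM ξ₀
  obtain ⟨E, hE, hDE⟩ := Cfsg.Agent.S0917.result p M hM H _ ⟨ξ₀, rfl⟩ _ ⟨χ₀, rfl⟩ hind D hD
  have h1 := card_defectGroup hM ξ₀ D hD
  have h2 := card_defectGroup hM χ₀ E hE
  have h3 : Nat.card (D.map H.subtype) = Nat.card D :=
    Subgroup.card_map_of_injective H.subtype_injective
  have h4 : Nat.card (D.map H.subtype) ≤ Nat.card E := Subgroup.card_le_of_le hDE
  rw [h3, h1, h2] at h4
  exact (Nat.pow_le_pow_iff_right hp.one_lt).mp h4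

/-- The induced block is unique. -/
theorem induced_unique [hPr : M.IsPrime] (H : Subgroup G) {b : Set (IrrCharacter H)}
    {B₁ B₂ : Set (IrrCharacter G)} (h1 : IsInducedBlock M H b B₁)
    (h2 : IsInducedBlock M H b B₂) : B₁ = B₂ := by
  haveI := Fintype.ofFinite H
  obtain ⟨ξ₀, rfl⟩ := h1.1
  obtain ⟨χ₁, rfl⟩ := h1.2.1
  obtain ⟨χ₂, rfl⟩ := h2.2.1
  have hs : SameBlock M (χ₁ : G → ℂ) (χ₂ : G → ℂ) := by
    intro g
    have e1 := h1.2.2 ξ₀ (mem_blockOf_self ξ₀) χ₁ (mem_blockOf_self χ₁) g
    have e2 := h2.2.2 ξ₀ (mem_blockOf_self ξ₀) χ₂ (mem_blockOf_self χ₂) g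
    have := memLocalIdeal_sub e2 e1
    rwa [sub_sub_sub_cancel_left] at this
  exact (blockOf_eq_of_mem hs).symm

end

/-- Let p be a prime, M a maximal ideal of the algebraic integers containing p, and r a natural number; say that a finite group X has deficiency class r when X has no non-principal p-block of defect ≥ r. If G has deficiency class r then so does the centralizer of every p-element of G; conversely, if r > 0 and the centralizer of every element of order p has deficiency class r, then G has deficiency class r. -/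
theorem result {G : Type*} [Group G] [Finite G] (p : ℕ) [Fact p.Prime] (M : Ideal Cfsg.AlgInt) (hM : Cfsg.IsPModular p M) (r : ℕ) : ((∀ B' : Set (Cfsg.IrrCharacter G), Cfsg.IsPBlock M B' → B' ≠ Cfsg.principalBlock M G → Cfsg.blockDefect p B' < r) → ∀ y : G, (∃ k : ℕ, orderOf y = p ^ k) → (∀ B' : Set (Cfsg.IrrCharacter ↥(Subgroup.centralizer ({y} : Set G))), Cfsg.IsPBlock M B' → B' ≠ Cfsg.principalBlock M ↥(Subgroup.centralizer ({y} : Set G)) → Cfsg.blockDefect p B' < r)) ∧ (0 < r → (∀ y : G, orderOf y = p → (∀ B' : Set (Cfsg.IrrCharacter ↥(Subgroup.centralizer ({y} : Set G))), Cfsg.IsPBlock M B' → B' ≠ Cfsg.principalBlock M ↥(Subgroup.centralizer ({y} : Set G)) → Cfsg.blockDefect p B' < r)) → (∀ B' : Set (Cfsg.IrrCharacter G), Cfsg.IsPBlock M B' → B' ≠ Cfsg.principalBlock M G → Cfsg.blockDefect p B' < r)) := by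
  classical
  haveI := Fintype.ofFinite G
  haveI hPr := isPrime_of_isPModular hM
  have hp : p.Prime := Fact.out
  constructor
  · intro hG y hy b hb hbne
    set K := Subgroup.centralizer ({y} : Set G) with hK
    obtain ⟨ξ₀, rfl⟩ := hb
    have hyP : IsPGroup p (Subgroup.zpowers y) := by
      obtain ⟨kk, hkk⟩ := hy
      apply IsPGroup.of_card (n := kk)
      rw [Nat.card_zpowers, hkk]
    have hPK : Subgroup.zpowers y ≤ K := zpowers_le_centralizer y
    have hCK : Subgroup.centralizer ((Subgroup.zpowers y : Subgroup G) : Set G) ≤ K :=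
      le_of_eq (centralizer_zpowers y)
    have hKN : K ≤ Subgroup.normalizer ((Subgroup.zpowers y : Subgroup G) : Set G) := by
      rw [hK, ← centralizer_zpowers y]
      exact Subgroup.centralizer_le_normalizer _
    have hdef := Cfsg.Agent.S0919.result p M hM (Subgroup.zpowers y) K hyP hPK hCK hKN
      (blockOf M (ξ₀ : K → ℂ)) ⟨ξ₀, rfl⟩
    obtain ⟨B, hind⟩ := hdef
    have hBne : B ≠ principalBlock M G := by
      rintro rfl
      exact hbne ((Cfsg.Agent.S0936.result p M hM K _ ⟨_, hind⟩).mp hind)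
    have hlt := hG B hind.2.1 hBne
    obtain ⟨χ₀, rfl⟩ := hind.2.1
    exact lt_of_le_of_lt (blockDefect_le_of_induced hM K ξ₀ χ₀ hind) hlt
  · intro hr hC B hB hBne
    by_contra hnot
    push Not at hnot
    obtain ⟨χ₀, rfl⟩ := hB
    obtain ⟨k, hk⟩ := exists_isDefectClass hM χ₀
    let S : Sylow p (Subgroup.centralizer ({k} : Set G)) := default
    set D : Subgroup G := (S : Subgroup (Subgroup.centralizer ({k} : Set G))).map
      (Subgroup.centralizer ({k} : Set G)).subtype with hDdef
    have hDg : IsDefectGroup p M (blockOf M (χ₀ : G → ℂ)) D := ⟨k, hk, S, rfl⟩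
    have hcard := card_defectGroup hM χ₀ D hDg
    have hDp : IsPGroup p D := S.isPGroup'.map _
    have hDk : D ≤ Subgroup.centralizer ({k} : Set G) := by
      rintro _ ⟨x, _, rfl⟩
      exact x.2
    -- a central element of order `p`
    have hDnt : Nontrivial D := by
      rw [← Finite.one_lt_card_iff_nontrivial, hcard]
      exact Nat.one_lt_pow (by omega) hp.one_lt
    haveI := hDnt
    have hZnt : Nontrivial (Subgroup.center D) := hDp.center_nontrivial
    have hZp : IsPGroup p (Subgroup.center D) := hDp.to_subgroup _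
    have hpZ : p ∣ Nat.card (Subgroup.center D) := by
      rcases hZp.card_eq_or_dvd with h1 | h1
      · exfalso
        have := Finite.one_lt_card_iff_nontrivial.mpr hZnt
        omega
      · exact h1
    obtain ⟨y₀, hy₀⟩ := exists_prime_orderOf_dvd_card' p hpZ
    set y : G := ((y₀ : D) : G) with hy
    have hyord : orderOf y = p := by
      rw [hy, Subgroup.orderOf_coe, Subgroup.orderOf_coe, hy₀]
    have hyD : y ∈ D := (y₀ : D).2
    have hDy : D ≤ Subgroup.centralizer ({y} : Set G) := by
      intro d hd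
      rw [Subgroup.mem_centralizer_singleton_iff]
      have h1 := Subgroup.mem_center_iff.1 y₀.2 ⟨d, hd⟩
      have h2 := congrArg (Subtype.val : D → G) h1
      simpa using h2
    have hky : k ∈ Subgroup.centralizer ({y} : Set G) := by
      rw [Subgroup.mem_centralizer_singleton_iff]
      exact (Subgroup.mem_centralizer_singleton_iff.1 (hDk hyD)).symm
    have hyP : IsPGroup p (Subgroup.zpowers y) := by
      apply IsPGroup.of_card (n := 1)
      rw [Nat.card_zpowers, hyord, pow_one]
    set K := Subgroup.centralizer ({y} : Set G) with hK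
    haveI := Fintype.ofFinite K
    obtain ⟨ξ₀, hind, E, hE, hQE⟩ := exists_induced_defect_ge hM χ₀ y hyP k hk.2.1 D hDp hDk
      hDy hky
    have hbne : blockOf M (ξ₀ : K → ℂ) ≠ principalBlock M K := by
      intro heq
      apply hBne
      rw [heq] at hind
      have h2 := (Cfsg.Agent.S0936.result p M hM K _ ⟨_, hind⟩).mpr rfl
      exact induced_unique K hind h2
    have hlt := hC y hyord _ ⟨ξ₀, rfl⟩ hbne
    have hcE := card_defectGroup hM ξ₀ E hE
    have hcQ : Nat.card (D.subgroupOf K) = Nat.card D :=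
      Nat.card_congr (Subgroup.subgroupOfEquivOfLe hDy).toEquiv
    have hle : Nat.card (D.subgroupOf K) ≤ Nat.card E := Subgroup.card_le_of_le hQE
    rw [hcQ, hcard, hcE] at hle
    have := (Nat.pow_le_pow_iff_right hp.one_lt).mp hle
    omega

end Cfsg.Agent.S4717
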