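import Cfsg.Statements.S4720
import Cfsg.Agent.Lib.L0.PrincipalSection
import Cfsg.Agent.Lib.L0.CharInd
import Cfsg.Agent.Lib.L0.CharBasic
import Cfsg.Agent.Lib.H23.BlockOsima

set_option autoImplicit false
open Cfsg

namespace Cfsg.Agent.S4720

open Cfsg.Agent.Lib.H23 Cfsg.Agent.Lib.H24 Cfsg.Agent.Lib.L0 Cfsg.Agent.Lib.L0.PrincipalCrit
  Cfsg.Agent.Lib.L0.PrincipalBrauerPair Cfsg.Agent.Lib.L0.PrincipalSection
open scoped ComplexConjugate

/-- Let p be a prime, M a maximal ideal of the algebraic integers containing p, P a p-subgroup of the finite group G, N a subgroup with P ≤ N ≤ N_G(P), and U a nonempty subset of P normalized by N such that an element of U and an element of P that are conjugate in G are already conjugate in N, and such that λ(C_G(y)) = w·#C_N(y) for every y ∈ U with one rational number w, where λ(X) denotes the sum of the squares of the degrees of the irreducible characters in the principal p-block of X. For a complex function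 θ on P and χ in the principal block of G put a_χ(θ) = #P⁻¹ Σ_{y ∈ P} χ(y) θ(y⁻¹). Then for generalized characters θ, η of P with θ vanishing outside U, Σ_χ a_χ(θ)·conj(a_χ(η)) = (w/#P²)·Σ_{y ∈ P} θ(y)·conj(Σ_{x ∈ N} η(x y x⁻¹)) (η extended by zero off P; the conjugates lie in P), the first sum over the principal p-block of G. -/
theorem result {G : Type*} [Group G] [Finite G] (p : ℕ) [Fact p.Prime] (M : Ideal Cfsg.AlgInt) (hM : Cfsg.IsPModular p M) (P : Subgroup G) (hP : IsPGroup p P) (N : Subgroup G) (hPN : P ≤ N) (hNN : N ≤ Subgroup.normalizer (P : Set G)) (U : Set G) (hUne : U.Nonempty) (hUP : U ⊆ (P : Set G)) (hUN : ∀ n ∈ N, ∀ u ∈ U, n * u * n⁻¹ ∈ U) (hfus : ∀ u ∈ U, ∀ g : G, g * u * g⁻¹ ∈ (P : Set G) → ∃ n ∈ N, n * u * n⁻¹ = g * u * g⁻¹) (w : ℚ) (hw : ∀ y ∈ U, ((∑ᶠ ψ ∈ Cfsg.principalBlock M ↥(Subgroup.centralizer ({y} : Set G)), Cfsg.charDegree (ψ : ↥(Subgroup.centralizer ({y} : Set G)) → ℂ) ^ 2) : ℚ) = w * Nat.card ↥(N ⊓ Subgroup.centralizer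 ({y} : Set G))) (θ η : ↥P → ℂ) (hθ : Cfsg.IsGeneralizedCharacter ↥P θ) (hη : Cfsg.IsGeneralizedCharacter ↥P η) (hθU : ∀ y : ↥P, (y : G) ∉ U → θ y = 0) : ∑ᶠ χ ∈ Cfsg.principalBlock M G, ((Nat.card ↥P : ℂ)⁻¹ * ∑ᶠ y : ↥P, (χ : G → ℂ) (y : G) * θ y⁻¹) * (starRingEnd ℂ) ((Nat.card ↥P : ℂ)⁻¹ * ∑ᶠ y : ↥P, (χ : G → ℂ) (y : G) * η y⁻¹) = ((w : ℂ) / ((Nat.card ↥P : ℂ) ^ 2)) * ∑ᶠ y : ↥P, θ y * (starRingEnd ℂ) (∑ᶠ x : ↥N, Cfsg.extendByZero P η ((x : G) * (y : G) * (x : G)⁻¹)) := by
  classical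
  haveI := Fintype.ofFinite G
  haveI := Fintype.ofFinite (IrrCharacter G)
  haveI : Fintype P := Fintype.ofFinite P
  haveI : Fintype N := Fintype.ofFinite N
  haveI hPr := isPrime_of_isPModular hM
  have hp : p.Prime := Fact.out
  obtain ⟨θ₁, θ₂, hθ₁, hθ₂, hθeq⟩ := hθ
  obtain ⟨η₁, η₂, hη₁, hη₂, hηeq⟩ := hη
  have hθinv : ∀ y : P, θ y⁻¹ = conj (θ y) := by
    intro y
    rw [hθeq]
    simp only [Pi.sub_apply, map_sub]
    rw [isCharacter_apply_inv hθ₁, isCharacter_apply_inv hθ₂]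
  have hηinv : ∀ y : P, η y⁻¹ = conj (η y) := by
    intro y
    rw [hηeq]
    simp only [Pi.sub_apply, map_sub]
    rw [isCharacter_apply_inv hη₁, isCharacter_apply_inv hη₂]
  set S : Finset (IrrCharacter G) := Finset.univ.filter (· ∈ principalBlock M G) with hS
  set c : ℂ := (Nat.card P : ℂ)⁻¹ with hc
  have hcc : conj c = c := by rw [hc, map_inv₀, Complex.conj_natCast]
  set Ψ : G → G → ℂ := fun v v' => ∑ χ ∈ S, conj ((χ : G → ℂ) v) * (χ : G → ℂ) v' with hΨ
  have hPel : ∀ v : P, ∃ k : ℕ, orderOf (v : G) = p ^ k := by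
    intro v
    obtain ⟨k, hk⟩ := (IsPGroup.iff_orderOf.mp hP) v
    exact ⟨k, by rw [Subgroup.orderOf_coe]; exact hk⟩
  -- Step A
  have ha1 : ∀ χ : IrrCharacter G, (Nat.card P : ℂ)⁻¹ * ∑ᶠ y : P, (χ : G → ℂ) (y : G) * θ y⁻¹ =
      c * ∑ v : P, conj ((χ : G → ℂ) v) * θ v := by
    intro χ
    rw [finsum_eq_sum_of_fintype]
    congr 1
    rw [← Equiv.sum_comp (Equiv.inv P)]
    refine Finset.sum_congr rfl (fun v _ => ?_)
    simp only [Equiv.inv_apply, inv_inv]
    rw [Subgroup.coe_inv, irr_inv]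
  have ha2 : ∀ χ : IrrCharacter G, (Nat.card P : ℂ)⁻¹ * ∑ᶠ y : P, (χ : G → ℂ) (y : G) * η y⁻¹ =
      c * ∑ v : P, conj ((χ : G → ℂ) v) * η v := by
    intro χ
    rw [finsum_eq_sum_of_fintype]
    congr 1
    rw [← Equiv.sum_comp (Equiv.inv P)]
    refine Finset.sum_congr rfl (fun v _ => ?_)
    simp only [Equiv.inv_apply, inv_inv]
    rw [Subgroup.coe_inv, irr_inv]
  have hA : ∑ᶠ χ ∈ principalBlock M G,
      ((Nat.card ↥P : ℂ)⁻¹ * ∑ᶠ y : ↥P, (χ : G → ℂ) (y : G) * θ y⁻¹) *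
        (starRingEnd ℂ) ((Nat.card ↥P : ℂ)⁻¹ * ∑ᶠ y : ↥P, (χ : G → ℂ) (y : G) * η y⁻¹) =
      c ^ 2 * ∑ v : P, θ v * ∑ v' : P, conj (η v') * Ψ v v' := by
    rw [finsum_mem_eq_sum_ite, ← Finset.sum_filter]
    have h1 : ∀ χ : IrrCharacter G,
        ((Nat.card ↥P : ℂ)⁻¹ * ∑ᶠ y : ↥P, (χ : G → ℂ) (y : G) * θ y⁻¹) *
        (starRingEnd ℂ) ((Nat.card ↥P : ℂ)⁻¹ * ∑ᶠ y : ↥P, (χ : G → ℂ) (y : G) * η y⁻¹) =
        c ^ 2 * ∑ v : P, ∑ v' : P,
          θ v * (conj (η v') * (conj ((χ : G → ℂ) v) * (χ : G → ℂ) v')) := by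
      intro χ
      rw [ha1 χ, ha2 χ, map_mul, hcc, map_sum]
      have e : ∀ A B : ℂ, (c * A) * (c * B) = c ^ 2 * (A * B) := by intro A B; ring
      rw [e, Finset.sum_mul_sum]
      congr 1
      refine Finset.sum_congr rfl (fun v _ => ?_)
      refine Finset.sum_congr rfl (fun v' _ => ?_)
      rw [map_mul, Complex.conj_conj]
      ring
    rw [Finset.sum_congr rfl (fun χ _ => h1 χ), ← Finset.mul_sum]
    congr 1
    rw [Finset.sum_comm]
    refine Finset.sum_congr rfl (fun v _ => ?_)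
    rw [Finset.sum_comm, Finset.mul_sum]
    refine Finset.sum_congr rfl (fun v' _ => ?_)
    rw [hΨ]
    simp only
    rw [Finset.mul_sum, Finset.mul_sum]
  -- Ψ as an `ite`-sum
  have hΨite : ∀ v v' : G, Ψ v v' = ∑ χ : IrrCharacter G, (if χ ∈ principalBlock M G then
      conj ((χ : G → ℂ) v) * (χ : G → ℂ) v' else 0) := by
    intro v v'
    rw [hΨ]
    simp only
    rw [hS, Finset.sum_filter]
  -- Ψ is invariant under conjugation in the second variable
  have hΨconj : ∀ (v g n : G), Ψ v (n * g * n⁻¹) = Ψ v g := by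
    intro v g n
    rw [hΨ]
    simp only
    refine Finset.sum_congr rfl (fun χ _ => ?_)
    rw [Cfsg.Agent.Lib.H24.irr_isClassFunction χ g n]
  -- the value Λ
  have hΛ : ∀ v : P, (v : G) ∈ U → Ψ v v =
      (w : ℂ) * (Nat.card ↥(N ⊓ Subgroup.centralizer ({(v : G)} : Set G)) : ℂ) := by
    intro v hvU
    haveI : Fintype (Subgroup.centralizer ({(v : G)} : Set G)) := Fintype.ofFinite _
    haveI : Fintype (IrrCharacter (Subgroup.centralizer ({(v : G)} : Set G))) :=
      Fintype.ofFinite _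
    have hone : ¬ p ∣ orderOf (1 : Subgroup.centralizer ({(v : G)} : Set G)) := by
      rw [orderOf_one]
      exact hp.one_lt.ne' ∘ Nat.dvd_one.mp
    have h1 := sum_principal_section (M := M) (hPel v) (C := Subgroup.centralizer ({(v : G)} : Set G))
      rfl hM hone hone
    simp only [Subgroup.coe_one, mul_one] at h1
    rw [hΨite, h1]
    have h2 := hw (v : G) hvU
    have h3 := congrArg (fun q : ℚ => (q : ℂ)) h2
    simp only [Rat.cast_mul, Rat.cast_natCast] at h3
    rw [← h3, finsum_mem_eq_finite_toFinset_sum _ (Set.toFinite _), Rat.cast_sum,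
      ← Finset.sum_filter]
    refine Finset.sum_congr ?_ (fun ξ _ => ?_)
    · ext ξ
      simp
    · rw [Cfsg.Agent.Lib.H23.apply_one_eq_charDegree _ ξ.2, Complex.conj_natCast]
      push_cast
      ring
  -- Step B
  have hB : ∀ v : P, (v : G) ∈ U → ∑ v' : P, conj (η v') * Ψ v v' =
      (w : ℂ) * conj (∑ x : N, extendByZero P η ((x : G) * (v : G) * (x : G)⁻¹)) := by
    intro v hvU
    set ηc : P → ℂ := fun v' => conj (η v') with hηc
    have hext : ∀ g : G, extendByZero P ηc g = conj (extendByZero P η g) := by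
      intro g
      by_cases hg : g ∈ P
      · rw [extendByZero_apply_of_mem P ηc hg, extendByZero_apply_of_mem P η hg]
      · rw [extendByZero_apply_not_mem P ηc hg, extendByZero_apply_not_mem P η hg, map_zero]
    rw [← sum_extendByZero_mul P ηc (fun g => Ψ v g)]
    set O : Finset G := Finset.univ.filter (fun z : G => ∃ n ∈ N, n * (v : G) * n⁻¹ = z) with hO
    have h1 : ∀ g : G, extendByZero P ηc g * Ψ v g =
        if g ∈ O then extendByZero P ηc g * Ψ v v else 0 := by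
      intro g
      split_ifs with hgO
      · rw [hO, Finset.mem_filter] at hgO
        obtain ⟨n, hn, rfl⟩ := hgO.2
        rw [hΨconj]
      · by_cases hgP : g ∈ P
        · have hnc : ¬ IsConj (v : G) g := by
            intro hconj
            apply hgO
            obtain ⟨a, ha⟩ := isConj_iff.mp hconj
            rw [hO, Finset.mem_filter]
            refine ⟨Finset.mem_univ _, ?_⟩
            obtain ⟨n, hn, hn'⟩ := hfus (v : G) hvU a (by rw [ha]; exact hgP)
            exact ⟨n, hn, by rw [hn', ha]⟩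
          have h0 := sum_block_pElements_eq_zero hM (trivIrr G) (v : G) g (hPel v)
            (hPel ⟨g, hgP⟩) hnc
          rw [← principalBlock_eq] at h0
          rw [hΨite]
          rw [show (∑ χ : IrrCharacter G, (if χ ∈ principalBlock M G then
            conj ((χ : G → ℂ) (v : G)) * (χ : G → ℂ) g else 0)) = 0 from by convert h0, mul_zero]
        · rw [extendByZero_apply_not_mem P ηc hgP, zero_mul]
    rw [Finset.sum_congr rfl (fun g _ => h1 g), ← Finset.sum_filter, ← Finset.sum_mul,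
      hΛ v hvU]
    have hOC := sum_conj_sub N (v : G) (extendByZero P ηc)
    rw [map_sum]
    have h2 : ∑ x : N, conj (extendByZero P η ((x : G) * (v : G) * (x : G)⁻¹)) =
        ∑ x : N, extendByZero P ηc ((x : G) * (v : G) * (x : G)⁻¹) :=
      Finset.sum_congr rfl (fun x _ => (hext _).symm)
    rw [h2, hOC]
    have h3 : Finset.univ.filter (· ∈ O) = O := by
      ext g; simp
    rw [h3]
    ring
  -- Step C
  rw [hA, finsum_eq_sum_of_fintype]
  have hC1 : ∀ v : P, θ v * ∑ v' : P, conj (η v') * Ψ v v' =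
      (w : ℂ) * (θ v * conj (∑ᶠ x : N, extendByZero P η ((x : G) * (v : G) * (x : G)⁻¹))) := by
    intro v
    rw [finsum_eq_sum_of_fintype]
    by_cases hvU : (v : G) ∈ U
    · rw [hB v hvU]; ring
    · rw [hθU v hvU]; ring
  rw [Finset.sum_congr rfl (fun v _ => hC1 v), ← Finset.mul_sum, hc]
  have hP0 : (Nat.card P : ℂ) ≠ 0 := by exact_mod_cast (Nat.card_pos (α := P)).ne'
  field_simp

end Cfsg.Agent.S4720
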