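import Cfsg.Statements.S4721
import Cfsg.Agent.Lib.H23.AbSylQ

set_option autoImplicit false
open Cfsg

namespace Cfsg.Agent.S4721

open Cfsg.Agent.Lib.H23.AbSyl Cfsg.Agent.Lib.L0.PrincipalCrit

/-- Let p be a prime, M a maximal ideal of the algebraic integers containing p, and G a finite group with a nontrivial abelian Sylow p-subgroup P, N = N_G(P), C = C_G(P), such that N/C is cyclic of order 3, #P > 4, and C_G(y) ∩ N = C for every non-identity y ∈ P. Then the principal p-block is the disjoint union of a set X of exactly 3 characters containing the principal character and a set Y of (#P − 1)/3 characters, with signs a_χ = ±1 (χ ∈ X, a = 1 at the principal character) and δ = ±1 such that every χ ∈ X takes the value a_χ at every element whose p-part is a non-identity element of P, and there is a map ζ from the non-principal linear characters of P onto Y, constant on N-conjugacy classes, with ζ_ψ(z) = δ·Σ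 ψ'(y) over the N-orbit of ψ, for z with p-part y ≠ 1 in P. If moreover G has an involution lying in no proper normal subgroup of G, then exactly two of the three numbers −δ and a_χ (χ ∈ X non-principal) equal −1, and the product of the degrees of the two non-principal members of X and of any member of Y is a perfect square. -/
theorem result {G : Type*} [Group G] [Finite G] (p : ℕ) [Fact p.Prime] (M : Ideal Cfsg.AlgInt) (hM : Cfsg.IsPModular p M) (P : Sylow p G) (hab : IsMulCommutative P) (hP1 : Nat.card P ≠ 1) (hCN : (Subgroup.centralizer ((P : Subgroup G) : Set G)).relIndex (Subgroup.normalizer ((P : Subgroup G) : Set G)) = 3) (hcyc : ∃ g : G, g ∈ Subgroup.normalizer ((P : Subgroup G) : Set G) ∧ Subgroup.centralizer ((P : Subgroup G) : Set G) ⊔ Subgroup.zpowers g = Subgroup.normalizer ((P : Subgroup G) : Set G)) (hm2 : 3 + 1 < Nat.card P) (hfrob : ∀ y : G, y ∈ (P : Subgroup G) → y ≠ 1 → Subgroup.centralizer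 ({y} : Set G) ⊓ Subgroup.normalizer ((P : Subgroup G) : Set G) = Subgroup.centralizer ((P : Subgroup G) : Set G)) : ∃ (X Y : Set (Cfsg.IrrCharacter G)), Cfsg.principalBlock M G = X ∪ Y ∧ Disjoint X Y ∧ Nat.card X = 3 ∧ Nat.card Y = (Nat.card P - 1) / 3 ∧ (∃ χ₁ ∈ X, (χ₁ : G → ℂ) = fun _ => 1) ∧ ∃ (a : Cfsg.IrrCharacter G → ℤ) (δ : ℤ) (ζ : (↥(P : Subgroup G) →* ℂˣ) → Cfsg.IrrCharacter G), (δ = 1 ∨ δ = -1) ∧ (∀ χ ∈ X, (a χ = 1 ∨ a χ = -1) ∧ ∀ z y : G, Cfsg.IsPPart p z y → y ∈ (P : Subgroup G) → y ≠ 1 → (χ : G → ℂ) z = (a χ : ℂ)) ∧ (∀ ψ : ↥(P : Subgroup G) →* ℂˣ, ψ ≠ 1 → ζ ψ ∈ Y) ∧ (∀ η ∈ Y, ∃ ψ : ↥(P : Subgroup G) →* ℂˣ, ψ ≠ 1 ∧ ζ ψ = η) ∧ (∀ ψ ψ' : ↥(P : Subgroup G) →* ℂˣ, ψ ≠ 1 → (∃ n : G, n ∈ Subgroup.normalizer ((P : Subgroup G) : Set G) ∧ ∀ w w' : ↥(P : Subgroup G), (w' : G) = n * w * n⁻¹ → ψ' w' = ψ w) → ζ ψ' = ζ ψ) ∧ (∀ ψ : ↥(P : Subgroup G) →* ℂˣ, ψ ≠ 1 → ∀ (z : G) (y : ↥(P : Subgroup G)), Cfsg.IsPPart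 p z (y : G) → (y : G) ≠ 1 → (ζ ψ : G → ℂ) z = (δ : ℂ) * ∑ᶠ ψ' ∈ {ψ' : ↥(P : Subgroup G) →* ℂˣ | ∃ n : G, n ∈ Subgroup.normalizer ((P : Subgroup G) : Set G) ∧ ∀ w w' : ↥(P : Subgroup G), (w' : G) = n * w * n⁻¹ → ψ' w' = ψ w}, ((ψ' y : ℂˣ) : ℂ)) ∧ ((∃ t : G, orderOf t = 2 ∧ ∀ K : Subgroup G, K.Normal → t ∈ K → K = ⊤) → Nat.card {χ : Cfsg.IrrCharacter G // χ ∈ X ∧ (χ : G → ℂ) ≠ (fun _ => 1) ∧ a χ = -1} + (if δ = 1 then 1 else 0) = 2 ∧ ∀ η ∈ Y, IsSquare (Cfsg.charDegree (η : G → ℂ) * ∏ᶠ χ ∈ {χ : Cfsg.IrrCharacter G | χ ∈ X ∧ (χ : G → ℂ) ≠ fun _ => 1}, Cfsg.charDegree (χ : G → ℂ))) := by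
  classical
  have hcomm : ∀ a ∈ P, ∀ b ∈ P, a * b = b * a := by
    intro a ha b hb
    have := hab.is_comm.comm (⟨a, ha⟩ : ↥P) ⟨b, hb⟩
    exact congrArg Subtype.val this
  obtain ⟨χ₂, χ₃, YF, a₂, a₃, δ, ζ, h23, h2t, h3t, h2Y, h3Y, htY, hB, hYcard, ha₂, ha₃, hδ, hv₂,
    hv₃, hζY, hYζ, hrel, hval, hinv⟩ := main3_invol hM P hcomm hfrob hm2 hCN
  have hYdiv : (Nat.card ↥(P : Subgroup G) - 1) / 3 = YF.card :=
    Nat.div_eq_of_eq_mul_left (by norm_num) hYcard.symm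
  obtain ⟨XF, hXmem, hXcard⟩ : ∃ XF : Finset (IrrCharacter G),
      (∀ χ, χ ∈ XF ↔ χ = trivIrr G ∨ χ = χ₂ ∨ χ = χ₃) ∧ XF.card = 3 :=
    ⟨{trivIrr G, χ₂, χ₃}, fun χ => by simp,
      Finset.card_eq_three.2 ⟨_, _, _, Ne.symm h2t, Ne.symm h3t, h23, rfl⟩⟩
  obtain ⟨a, haχ₂, haχ₃, hat⟩ : ∃ a : IrrCharacter G → ℤ,
      a χ₂ = a₂ ∧ a χ₃ = a₃ ∧ a (trivIrr G) = 1 :=
    ⟨fun χ => if χ = χ₂ then a₂ else if χ = χ₃ then a₃ else 1, by simp, by simp [h23.symm],
      by simp [Ne.symm h2t, Ne.symm h3t]⟩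
  refine ⟨(XF : Set (IrrCharacter G)), (YF : Set (IrrCharacter G)), ?_, ?_, ?_, ?_, ?_, a, δ, ζ,
    hδ, ?_, ?_, ?_, ?_, ?_, ?_⟩
  · ext χ
    rw [Set.mem_union, Finset.mem_coe, Finset.mem_coe, hXmem, hB χ]
    simp only [or_assoc]
  · rw [Finset.disjoint_coe, Finset.disjoint_left]
    intro χ hχ hχY
    rcases (hXmem χ).1 hχ with h | h | h <;> rw [h] at hχY
    exacts [htY hχY, h2Y hχY, h3Y hχY]
  · rw [Nat.card_coe_set_eq, Set.ncard_coe_finset, hXcard]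
  · rw [Nat.card_coe_set_eq, Set.ncard_coe_finset, hYdiv]
  · exact ⟨trivIrr G, Finset.mem_coe.2 ((hXmem _).2 (Or.inl rfl)), rfl⟩
  · intro χ hχ
    have hχ' := (hXmem χ).1 (Finset.mem_coe.1 hχ)
    have hχB : χ ∈ principalBlock M G := by
      rw [hB χ]
      rcases hχ' with h | h | h
      · exact Or.inl h
      · exact Or.inr (Or.inl h)
      · exact Or.inr (Or.inr (Or.inl h))
    constructor
    · rcases hχ' with h | h | h
      · rw [h, hat]; left; rfl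
      · rw [h, haχ₂]; exact ha₂
      · rw [h, haχ₃]; exact ha₃
    · intro z y hzy hy hy1
      rw [const_isPPart hM P hcomm hfrob z y hzy hy hy1 χ hχB]
      rcases hχ' with h | h | h
      · rw [h, hat]
        show (1 : ℂ) = ((1 : ℤ) : ℂ)
        norm_num
      · rw [h, haχ₂]; exact hv₂ y hy hy1
      · rw [h, haχ₃]; exact hv₃ y hy hy1
  · intro ψ hψ
    exact Finset.mem_coe.2 (hζY ψ hψ)
  · intro η hη
    exact hYζ η (Finset.mem_coe.1 hη)
  · intro ψ ψ' hψ hr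
    exact hrel ψ ψ' hψ hr
  · intro ψ hψ z y hzy hy1
    have hχB : ζ ψ ∈ principalBlock M G := (hB _).2 (Or.inr (Or.inr (Or.inr (hζY ψ hψ))))
    rw [const_isPPart hM P hcomm hfrob z (y : G) hzy y.2 hy1 (ζ ψ) hχB]
    exact hval ψ hψ y (fun h => hy1 (by rw [h]; rfl))
  · intro hex
    obtain ⟨hpat, hsq⟩ := hinv hex
    have hne2 : (χ₂ : G → ℂ) ≠ fun _ => 1 := fun hf => h2t (Subtype.ext hf)
    have hne3 : (χ₃ : G → ℂ) ≠ fun _ => 1 := fun hf => h3t (Subtype.ext hf)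
    have hset2 : {χ : IrrCharacter G | χ ∈ (XF : Set (IrrCharacter G)) ∧
        (χ : G → ℂ) ≠ fun _ => 1} =
        (({χ₂, χ₃} : Finset (IrrCharacter G)) : Set (IrrCharacter G)) := by
      ext χ
      simp only [Set.mem_ofPred_eq, Finset.mem_coe, Finset.mem_insert, Finset.mem_singleton, hXmem]
      constructor
      · rintro ⟨h | h | h, hne⟩
        · exfalso; apply hne; rw [h]; rfl
        · left; exact h
        · right; exact h
      · rintro (h | h)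
        · exact ⟨Or.inr (Or.inl h), by rw [h]; exact hne2⟩
        · exact ⟨Or.inr (Or.inr h), by rw [h]; exact hne3⟩
    have hmemS : ∀ χ : IrrCharacter G, (χ ∈ (XF : Set (IrrCharacter G)) ∧
        (χ : G → ℂ) ≠ (fun _ => 1) ∧ a χ = -1) ↔ (χ = χ₂ ∧ a₂ = -1) ∨ (χ = χ₃ ∧ a₃ = -1) := by
      intro χ
      constructor
      · rintro ⟨hX, hne, haχ⟩
        rcases (hXmem χ).1 (Finset.mem_coe.1 hX) with h | h | h
        · exfalso; apply hne; rw [h]; rfl
        · left; refine ⟨h, ?_⟩; rw [← haχ₂, ← h]; exact haχ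
        · right; refine ⟨h, ?_⟩; rw [← haχ₃, ← h]; exact haχ
      · rintro (⟨h, h'⟩ | ⟨h, h'⟩)
        · exact ⟨Finset.mem_coe.2 ((hXmem χ).2 (Or.inr (Or.inl h))), by rw [h]; exact hne2,
            by rw [h, haχ₂]; exact h'⟩
        · exact ⟨Finset.mem_coe.2 ((hXmem χ).2 (Or.inr (Or.inr h))), by rw [h]; exact hne3,
            by rw [h, haχ₃]; exact h'⟩
    constructor
    · have hcard : Nat.card {χ : IrrCharacter G // χ ∈ (XF : Set (IrrCharacter G)) ∧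
          (χ : G → ℂ) ≠ (fun _ => 1) ∧ a χ = -1} =
          Set.ncard {χ : IrrCharacter G | χ ∈ (XF : Set (IrrCharacter G)) ∧
          (χ : G → ℂ) ≠ (fun _ => 1) ∧ a χ = -1} := Nat.card_coe_set_eq _
      rw [hcard]
      rcases hpat with ⟨h2', h3', h4'⟩ | ⟨h2', h3', h4'⟩ | ⟨h2', h3', h4'⟩
      · have hs : {χ : IrrCharacter G | χ ∈ (XF : Set (IrrCharacter G)) ∧
            (χ : G → ℂ) ≠ (fun _ => 1) ∧ a χ = -1} = {χ₂, χ₃} := by
          ext χ
          rw [Set.mem_ofPred_eq, hmemS]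
          simp [h2', h3']
        rw [hs, Set.ncard_pair h23, h4']
        norm_num
      · have hs : {χ : IrrCharacter G | χ ∈ (XF : Set (IrrCharacter G)) ∧
            (χ : G → ℂ) ≠ (fun _ => 1) ∧ a χ = -1} = {χ₂} := by
          ext χ
          rw [Set.mem_ofPred_eq, hmemS]
          simp [h2', h3']
        rw [hs, Set.ncard_singleton, h4']
        norm_num
      · have hs : {χ : IrrCharacter G | χ ∈ (XF : Set (IrrCharacter G)) ∧
            (χ : G → ℂ) ≠ (fun _ => 1) ∧ a χ = -1} = {χ₃} := by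
          ext χ
          rw [Set.mem_ofPred_eq, hmemS]
          simp [h2', h3']
        rw [hs, Set.ncard_singleton, h4']
        norm_num
    · intro η hη
      rw [hset2, finprod_mem_coe_finset, Finset.prod_pair h23]
      exact hsq η (Finset.mem_coe.1 hη)

end Cfsg.Agent.S4721
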