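import Cfsg.Statements.S4722
import Cfsg.Agent.Lib.H23.BlockTraceGroup
import Cfsg.Agent.Lib.H23.BlockPrincipalLocal
import Cfsg.Agent.Lib.H24.CharKer
import Cfsg.Agent.Lib.L0.PrincipalBrauerPair
import Cfsg.Agent.Lib.L0.CharOps

set_option autoImplicit false
open Cfsg

namespace Cfsg.Agent.S4722

open Cfsg.Agent.Lib.H23 Cfsg.Agent.Lib.H24 Cfsg.Agent.Lib.L0 Cfsg.Agent.Lib.L0.PrincipalCrit
  Cfsg.Agent.Lib.L0.PrincipalBrauerPair
open scoped ComplexConjugate

section Orth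

variable {G : Type*} [Group G] [Fintype G] {M : Ideal AlgInt}

/-- Block orthogonality in the principal 2-block between a 2-element not inverted by any conjugate
of `t` and an element inverted by some conjugate of `t`. -/
theorem sum_block_eq_zero [Fintype (IrrCharacter G)] (hM : IsPModular 2 M) (t y h : G)
    [DecidablePred (· ∈ principalBlock M G)]
    (hy2 : ∃ k : ℕ, orderOf y = 2 ^ k)
    (hyU : ∀ g : G, (g * t * g⁻¹) * y * (g * t * g⁻¹)⁻¹ ≠ y⁻¹)
    (hh : ∃ g : G, (g * t * g⁻¹) * h * (g * t * g⁻¹)⁻¹ = h⁻¹) :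
    ∑ χ : IrrCharacter G, (if χ ∈ principalBlock M G then
      (χ : G → ℂ) y * (χ : G → ℂ) h⁻¹ else 0) = 0 := by
  classical
  set e := (Nat.card G).factorization 2 with he
  set c := Nat.card G / 2 ^ e with hc
  have hce : c * 2 ^ e = Nat.card G := by
    rw [mul_comm]; exact Nat.ordProj_mul_ordCompl_eq_self (Nat.card G) 2
  have hcodd : ¬ 2 ∣ c := Nat.not_dvd_ordCompl Nat.prime_two Nat.card_pos.ne'
  have hpow : ∀ g : G, g ^ (c * 2 ^ e) = 1 := by
    intro g; rw [hce]; exact pow_card_eq_one'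
  have hnc : ¬ IsConj (y ^ c) (h ^ c) := by
    intro hconj
    obtain ⟨w, hw⟩ := isConj_iff.mp hconj
    obtain ⟨g, hg⟩ := hh
    obtain ⟨k, hk⟩ := hy2
    have hcop : c.Coprime (orderOf y) := by
      rw [hk]
      exact Nat.Coprime.pow_right _ ((Nat.Prime.coprime_iff_not_dvd Nat.prime_two).mpr hcodd).symm
    obtain ⟨c', hc'⟩ := exists_pow_eq_self_of_coprime hcop
    apply hyU (w⁻¹ * g)
    set s := g * t * g⁻¹ with hs
    have h1 : s * h ^ c * s⁻¹ = (h ^ c)⁻¹ := by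
      rw [← conj_pow, hg, inv_pow]
    set s' := (w⁻¹ * g) * t * (w⁻¹ * g)⁻¹ with hs'
    have hs'eq : s' = w⁻¹ * s * w := by rw [hs', hs]; group
    have h2 : s' * y ^ c * s'⁻¹ = (y ^ c)⁻¹ := by
      have h0 : y ^ c = w⁻¹ * h ^ c * w := by rw [← hw]; group
      have h3 : w⁻¹ * s * w * (w⁻¹ * h ^ c * w) * (w⁻¹ * s * w)⁻¹ =
          w⁻¹ * (s * h ^ c * s⁻¹) * w := by group
      rw [hs'eq]
      conv_lhs => rw [h0]
      rw [h3, h1, ← hw]; group
    conv_lhs => rw [← hc']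
    rw [← conj_pow, h2, inv_pow, hc']
  have := block_orthogonality_aux hM (trivIrr G) y h c e (hpow y) (hpow h) hnc
  refine Eq.trans ?_ this
  refine Finset.sum_congr rfl (fun χ _ => ?_)
  by_cases hχ : χ ∈ principalBlock M G
  · have hχ' : χ ∈ blockOf M (trivIrr G : G → ℂ) := hχ
    rw [if_pos hχ, if_pos hχ']
  · have hχ' : χ ∉ blockOf M (trivIrr G : G → ℂ) := hχ
    rw [if_neg hχ, if_neg hχ']

/-- Summation against a function on `P` vanishing off `U`. -/
theorem sum_a_eq_zero [Fintype (IrrCharacter G)] (P : Subgroup G) [Fintype P] (U : Set G)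
    (θ : P → ℂ) (hθU : ∀ y : P, (y : G) ∉ U → θ y = 0)
    (B₀ : Set (IrrCharacter G)) [DecidablePred (· ∈ B₀)] (F : IrrCharacter G → ℂ)
    (hF : ∀ y : P, ((y⁻¹ : P) : G) ∈ U →
      ∑ χ : IrrCharacter G, (if χ ∈ B₀ then (χ : G → ℂ) y * F χ else 0) = 0) :
    ∑ χ : IrrCharacter G, (if χ ∈ B₀ then
      ((Nat.card P : ℂ)⁻¹ * ∑ y : P, (χ : G → ℂ) y * θ y⁻¹) * F χ else 0) = 0 := by
  have h1 : ∀ χ : IrrCharacter G, (if χ ∈ B₀ then
      ((Nat.card P : ℂ)⁻¹ * ∑ y : P, (χ : G → ℂ) y * θ y⁻¹) * F χ else 0) =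
      (Nat.card P : ℂ)⁻¹ * ∑ y : P, θ y⁻¹ * (if χ ∈ B₀ then (χ : G → ℂ) y * F χ else 0) := by
    intro χ
    split_ifs with h
    · rw [mul_assoc, Finset.sum_mul]
      congr 1
      refine Finset.sum_congr rfl (fun y _ => ?_)
      ring
    · simp
  rw [Finset.sum_congr rfl (fun χ _ => h1 χ), ← Finset.mul_sum, Finset.sum_comm]
  rw [Finset.sum_eq_zero, mul_zero]
  intro y _
  rw [← Finset.mul_sum]
  by_cases hy : ((y⁻¹ : P) : G) ∈ U
  · rw [hF y hy, mul_zero]
  · rw [hθU _ hy, zero_mul]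

end Orth

section Sign

/-- Convexity argument: weights summing to zero with vanishing first and second moments. -/
theorem sign_dichotomy_pos {ι : Type*} [DecidableEq ι] (S : Finset ι) (w r : ι → ℝ) (i₀ : ι)
    (hi₀ : i₀ ∈ S) (h0 : ∑ i ∈ S, w i = 0) (h1 : ∑ i ∈ S, w i * r i = 0)
    (h2 : ∑ i ∈ S, w i * r i ^ 2 = 0) (hr0 : r i₀ = 1) (hw0 : 0 < w i₀) :
    (2 ≤ (S.filter (fun i => 0 < w i)).card ∧ 2 ≤ (S.filter (fun i => w i < 0)).card) ∨
      ∃ i ∈ S, i ≠ i₀ ∧ w i ≠ 0 ∧ r i = 1 := by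
  -- there is a negative weight
  have hexneg : ∃ ψ ∈ S, w ψ < 0 := by
    by_contra hcon
    push Not at hcon
    have : w i₀ ≤ ∑ i ∈ S, w i := Finset.single_le_sum (fun i hi => hcon i hi) hi₀
    linarith
  obtain ⟨ψ, hψS, hψ⟩ := hexneg
  by_cases hpos : 2 ≤ (S.filter (fun i => 0 < w i)).card
  · by_cases hneg : 2 ≤ (S.filter (fun i => w i < 0)).card
    · exact Or.inl ⟨hpos, hneg⟩
    · right
      have hle : (S.filter (fun i => w i < 0)).card ≤ 1 := by omega
      have huniq := Finset.card_le_one.mp hle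
      have hnn : ∀ i ∈ S, i ≠ ψ → 0 ≤ w i := by
        intro i hi hne
        by_contra hlt
        push Not at hlt
        exact hne (huniq i (Finset.mem_filter.mpr ⟨hi, hlt⟩) ψ (Finset.mem_filter.mpr ⟨hψS, hψ⟩))
      have hsum : ∑ i ∈ S, w i * (r i - r ψ) ^ 2 = 0 := by
        have : ∀ i, w i * (r i - r ψ) ^ 2 =
            w i * r i ^ 2 - 2 * r ψ * (w i * r i) + r ψ ^ 2 * w i := by intro i; ring
        rw [Finset.sum_congr rfl (fun i _ => this i), Finset.sum_add_distrib,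
          Finset.sum_sub_distrib, ← Finset.mul_sum, ← Finset.mul_sum, h0, h1, h2]
        ring
      have hterm : ∀ i ∈ S, 0 ≤ w i * (r i - r ψ) ^ 2 := by
        intro i hi
        by_cases hne : i = ψ
        · rw [hne, sub_self]; simp
        · exact mul_nonneg (hnn i hi hne) (sq_nonneg _)
      have hz := (Finset.sum_eq_zero_iff_of_nonneg hterm).mp hsum i₀ hi₀
      rw [hr0] at hz
      have h3 : (1 - r ψ) ^ 2 = 0 := by
        rcases mul_eq_zero.mp hz with h | h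
        · linarith
        · exact h
      have h4 : r ψ = 1 := by
        have := pow_eq_zero_iff (n := 2) (by norm_num) |>.mp h3
        linarith
      refine ⟨ψ, hψS, ?_, hψ.ne, h4⟩
      intro heq
      rw [heq] at hψ
      linarith
  · right
    have hle : (S.filter (fun i => 0 < w i)).card ≤ 1 := by omega
    have huniq := Finset.card_le_one.mp hle
    have hnp : ∀ i ∈ S, i ≠ i₀ → w i ≤ 0 := by
      intro i hi hne
      by_contra hlt
      push Not at hlt
      exact hne (huniq i (Finset.mem_filter.mpr ⟨hi, hlt⟩) i₀ (Finset.mem_filter.mpr ⟨hi₀, hw0⟩))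
    have hsum : ∑ i ∈ S, w i * (1 - r i) ^ 2 = 0 := by
      have : ∀ i, w i * (1 - r i) ^ 2 = w i - 2 * (w i * r i) + w i * r i ^ 2 := by
        intro i; ring
      rw [Finset.sum_congr rfl (fun i _ => this i), Finset.sum_add_distrib,
        Finset.sum_sub_distrib, ← Finset.mul_sum, h0, h1, h2]
      ring
    have hterm : ∀ i ∈ S, w i * (1 - r i) ^ 2 ≤ 0 := by
      intro i hi
      by_cases hne : i = i₀
      · rw [hne, hr0, sub_self]; simp
      · exact mul_nonpos_of_nonpos_of_nonneg (hnp i hi hne) (sq_nonneg _)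
    have hz := (Finset.sum_eq_zero_iff_of_nonpos hterm).mp hsum ψ hψS
    have h3 : (1 - r ψ) ^ 2 = 0 := by
      rcases mul_eq_zero.mp hz with h | h
      · linarith
      · exact h
    have h4 : r ψ = 1 := by
      have := pow_eq_zero_iff (n := 2) (by norm_num) |>.mp h3
      linarith
    refine ⟨ψ, hψS, ?_, hψ.ne, h4⟩
    intro heq
    rw [heq] at hψ
    linarith

theorem sign_dichotomy {ι : Type*} [DecidableEq ι] (S : Finset ι) (w r : ι → ℝ) (i₀ : ι)
    (hi₀ : i₀ ∈ S) (h0 : ∑ i ∈ S, w i = 0) (h1 : ∑ i ∈ S, w i * r i = 0)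
    (h2 : ∑ i ∈ S, w i * r i ^ 2 = 0) (hr0 : r i₀ = 1) (hw0 : w i₀ ≠ 0) :
    (2 ≤ (S.filter (fun i => 0 < w i)).card ∧ 2 ≤ (S.filter (fun i => w i < 0)).card) ∨
      ∃ i ∈ S, i ≠ i₀ ∧ w i ≠ 0 ∧ r i = 1 := by
  rcases lt_or_gt_of_ne hw0 with hneg | hpos
  · have h := sign_dichotomy_pos S (fun i => - w i) r i₀ hi₀
      (by simp only [Finset.sum_neg_distrib, h0, neg_zero])
      (by simp only [neg_mul, Finset.sum_neg_distrib, h1, neg_zero])
      (by simp only [neg_mul, Finset.sum_neg_distrib, h2, neg_zero])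
      hr0 (by simpa using hneg)
    rcases h with ⟨ha, hb⟩ | ⟨i, hi, hne, hw, hr⟩
    · left
      simp only [Left.neg_pos_iff, Left.neg_neg_iff] at ha hb
      exact ⟨hb, ha⟩
    · right
      exact ⟨i, hi, hne, by simpa using hw, hr⟩
  · exact sign_dichotomy_pos S w r i₀ hi₀ h0 h1 h2 hr0 hpos

end Sign

/-- Let M be a maximal ideal of the algebraic integers containing 2, P a 2-subgroup of the finite group G, U a subset of P, and t an involution of G such that no element of U is inverted by any conjugate of t. Let θ be a generalized character of P vanishing outside U, and for χ in the principal 2-block B₀ put a_χ = #P⁻¹ Σ_{y ∈ P} χ(y) θ(y⁻¹). Then Σ_{χ ∈ B₀} a_χ χ(t)^2/χ(1) = 0, Σ_{χ ∈ B₀} a_χ χ(1) = 0 and Σ_{χ ∈ B₀} a_χ χ(t) = 0. If moreover #P⁻¹ Σ_{y ∈ P} θ(y) ≠ 0, then either at least two of the a_χ have positive real part and at least two have negative real part, or G has a proper normal subgroup containing O_2'(G) and t.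 -/
theorem result {G : Type*} [Group G] [Finite G] (M : Ideal Cfsg.AlgInt) (hM : Cfsg.IsPModular 2 M) (P : Subgroup G) (hP : IsPGroup 2 P) (U : Set G) (hUP : U ⊆ (P : Set G)) (t : G) (ht : orderOf t = 2) (hinv : ∀ u ∈ U, ∀ g : G, (g * t * g⁻¹) * u * (g * t * g⁻¹)⁻¹ ≠ u⁻¹) (θ : ↥P → ℂ) (hθ : Cfsg.IsGeneralizedCharacter ↥P θ) (hθU : ∀ y : ↥P, (y : G) ∉ U → θ y = 0) : (∑ᶠ χ ∈ Cfsg.principalBlock M G, ((Nat.card ↥P : ℂ)⁻¹ * ∑ᶠ y : ↥P, (χ : G → ℂ) (y : G) * θ y⁻¹) * (χ : G → ℂ) t ^ 2 / (χ : G → ℂ) 1 = 0) ∧ (∑ᶠ χ ∈ Cfsg.principalBlock M G, ((Nat.card ↥P : ℂ)⁻¹ * ∑ᶠ y : ↥P, (χ : G → ℂ) (y : G) * θ y⁻¹) * (χ : G → ℂ) 1 = 0) ∧ (∑ᶠ χ ∈ Cfsg.principalBlock M G, ((Nat.card ↥P : ℂ)⁻¹ * ∑ᶠ y : ↥P, (χ : G → ℂ) (y : G) * θ y⁻¹) * (χ : G → ℂ) t = 0) ∧ ((Nat.card ↥P : ℂ)⁻¹ * ∑ᶠ y : ↥P, θ y ≠ 0 → (2 ≤ Nat.card {χ : Cfsg.IrrCharacter G // χ ∈ Cfsg.principalBlock M G ∧ 0 < (((Nat.card ↥P : ℂ)⁻¹ * ∑ᶠ y : ↥P, (χ : G → ℂ) (y : G) * θ y⁻¹)).re} ∧ 2 ≤ Nat.card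 {χ : Cfsg.IrrCharacter G // χ ∈ Cfsg.principalBlock M G ∧ (((Nat.card ↥P : ℂ)⁻¹ * ∑ᶠ y : ↥P, (χ : G → ℂ) (y : G) * θ y⁻¹)).re < 0}) ∨ ∃ K : Subgroup G, K.Normal ∧ K ≠ ⊤ ∧ Cfsg.pPrimeCore 2 G ≤ K ∧ t ∈ K) := by
  classical
  haveI := Fintype.ofFinite G
  haveI := Fintype.ofFinite (IrrCharacter G)
  haveI : Fintype P := Fintype.ofFinite P
  haveI hPr := isPrime_of_isPModular hM
  have ht2 : t * t = 1 := by rw [← sq, ← ht]; exact pow_orderOf_eq_one t
  have htinv : t⁻¹ = t := inv_eq_of_mul_eq_one_right ht2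
  have hGc : (Nat.card G : ℂ) ≠ 0 := by exact_mod_cast (Nat.card_pos (α := G)).ne'
  -- the coefficients
  have hfin : ∀ χ : IrrCharacter G, (Nat.card ↥P : ℂ)⁻¹ * ∑ᶠ y : ↥P, (χ : G → ℂ) (y : G) * θ y⁻¹ =
      (Nat.card P : ℂ)⁻¹ * ∑ y : P, (χ : G → ℂ) (y : G) * θ y⁻¹ := by
    intro χ
    rw [finsum_eq_sum_of_fintype]
  simp only [hfin]
  set a : IrrCharacter G → ℂ :=
    fun χ => (Nat.card P : ℂ)⁻¹ * ∑ y : P, (χ : G → ℂ) (y : G) * θ y⁻¹ with ha
  have hyU : ∀ y : P, ((y⁻¹ : P) : G) ∈ U → (∃ k : ℕ, orderOf (y : G) = 2 ^ k) ∧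
      ∀ g : G, (g * t * g⁻¹) * (y : G) * (g * t * g⁻¹)⁻¹ ≠ (y : G)⁻¹ := by
    intro y hy
    constructor
    · obtain ⟨k, hk⟩ := (IsPGroup.iff_orderOf.mp hP) y
      exact ⟨k, by rw [Subgroup.orderOf_coe]; exact hk⟩
    · intro g hcon
      apply hinv _ hy g
      have h1 : (g * t * g⁻¹) * ((y⁻¹ : P) : G) * (g * t * g⁻¹)⁻¹ =
          ((g * t * g⁻¹) * (y : G) * (g * t * g⁻¹)⁻¹)⁻¹ := by
        rw [Subgroup.coe_inv]; group
      rw [h1, hcon, Subgroup.coe_inv]
  -- (2)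
  have hF2 : ∀ y : P, ((y⁻¹ : P) : G) ∈ U → ∑ χ : IrrCharacter G,
      (if χ ∈ principalBlock M G then (χ : G → ℂ) y * (χ : G → ℂ) 1 else 0) = 0 := by
    intro y hy
    have := sum_block_eq_zero hM t (y : G) 1 (hyU y hy).1 (hyU y hy).2 ⟨1, by simp⟩
    rwa [inv_one] at this
  -- (3)
  have hF3 : ∀ y : P, ((y⁻¹ : P) : G) ∈ U → ∑ χ : IrrCharacter G,
      (if χ ∈ principalBlock M G then (χ : G → ℂ) y * (χ : G → ℂ) t else 0) = 0 := by
    intro y hy
    have := sum_block_eq_zero hM t (y : G) t (hyU y hy).1 (hyU y hy).2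
      ⟨1, by
        have e2 : 1 * t * (1 : G)⁻¹ = t := by group
        rw [e2, htinv, mul_assoc, ht2, mul_one]⟩
    rwa [htinv] at this
  -- (1)
  have hF1 : ∀ y : P, ((y⁻¹ : P) : G) ∈ U → ∑ χ : IrrCharacter G,
      (if χ ∈ principalBlock M G then
        (χ : G → ℂ) y * ((χ : G → ℂ) t ^ 2 / (χ : G → ℂ) 1) else 0) = 0 := by
    intro y hy
    have h1 : ∀ χ : IrrCharacter G, (χ : G → ℂ) t ^ 2 / (χ : G → ℂ) 1 =
        (Nat.card G : ℂ)⁻¹ * ∑ x : G, (χ : G → ℂ) (x⁻¹ * t * x * t) := by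
      intro χ
      rw [sum_irr_twist χ t t]
      field_simp
    have h2 : ∀ χ : IrrCharacter G, (if χ ∈ principalBlock M G then
        (χ : G → ℂ) y * ((χ : G → ℂ) t ^ 2 / (χ : G → ℂ) 1) else 0) =
        (Nat.card G : ℂ)⁻¹ * ∑ x : G, (if χ ∈ principalBlock M G then
          (χ : G → ℂ) y * (χ : G → ℂ) (x⁻¹ * t * x * t) else 0) := by
      intro χ
      split_ifs with h
      · rw [h1 χ, Finset.mul_sum, Finset.mul_sum, Finset.mul_sum]
        refine Finset.sum_congr rfl (fun x _ => ?_)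
        ring
      · simp
    rw [Finset.sum_congr rfl (fun χ _ => h2 χ), ← Finset.mul_sum, Finset.sum_comm]
    rw [Finset.sum_eq_zero, mul_zero]
    intro x _
    have h3 := sum_block_eq_zero hM t (y : G) (x⁻¹ * t * x * t)⁻¹ (hyU y hy).1 (hyU y hy).2
      ⟨1, by
        have e1 : (x⁻¹ * t * x * t)⁻¹ = t * x⁻¹ * t * x := by
          rw [mul_inv_rev, mul_inv_rev, mul_inv_rev, inv_inv, htinv]; group
        rw [inv_inv, e1]
        have e2 : 1 * t * (1 : G)⁻¹ = t := by group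
        rw [e2, htinv]
        have e3 : t * (t * x⁻¹ * t * x) * t = (t * t) * x⁻¹ * t * x * t := by group
        rw [e3, ht2, one_mul]⟩
    rwa [inv_inv] at h3
  have hS2 := sum_a_eq_zero (P : Subgroup G) U θ hθU (principalBlock M G)
    (fun χ => (χ : G → ℂ) 1) hF2
  have hS3 := sum_a_eq_zero (P : Subgroup G) U θ hθU (principalBlock M G)
    (fun χ => (χ : G → ℂ) t) hF3
  have hS1 := sum_a_eq_zero (P : Subgroup G) U θ hθU (principalBlock M G)
    (fun χ => (χ : G → ℂ) t ^ 2 / (χ : G → ℂ) 1) hF1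
  refine ⟨?_, ?_, ?_, ?_⟩
  · rw [finsum_mem_eq_sum_ite]
    refine Eq.trans (Finset.sum_congr rfl (fun χ _ => ?_)) hS1
    rw [mul_div_assoc]
  · rw [finsum_mem_eq_sum_ite]
    exact hS2
  · rw [finsum_mem_eq_sum_ite]
    exact hS3
  · intro hθ0
    have hS1' : ∑ χ : IrrCharacter G, (if χ ∈ principalBlock M G then
        a χ * ((χ : G → ℂ) t ^ 2 / (χ : G → ℂ) 1) else 0) = 0 := hS1
    have hS2' : ∑ χ : IrrCharacter G, (if χ ∈ principalBlock M G then
        a χ * (χ : G → ℂ) 1 else 0) = 0 := hS2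
    have hS3' : ∑ χ : IrrCharacter G, (if χ ∈ principalBlock M G then
        a χ * (χ : G → ℂ) t else 0) = 0 := hS3
    obtain ⟨φ₁, φ₂, hφ₁, hφ₂, hθeq⟩ := hθ
    have hθinv : ∀ y : P, θ y⁻¹ = conj (θ y) := by
      intro y
      rw [hθeq]
      simp only [Pi.sub_apply, map_sub]
      rw [isCharacter_apply_inv hφ₁, isCharacter_apply_inv hφ₂]
    have hPc : (Nat.card P : ℂ) ≠ 0 := by exact_mod_cast (Nat.card_pos (α := P)).ne'
    have haint : ∀ χ : IrrCharacter G, ∃ n : ℤ, a χ = ((n : ℝ) : ℂ) := by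
      intro χ
      obtain ⟨n₁, hn₁⟩ := classInner_char_char_nat
        (isCharacter_restrict P (isCharacter_of_irr χ.2)) hφ₁
      obtain ⟨n₂, hn₂⟩ := classInner_char_char_nat
        (isCharacter_restrict P (isCharacter_of_irr χ.2)) hφ₂
      refine ⟨(n₁ : ℤ) - n₂, ?_⟩
      push_cast
      rw [← hn₁, ← hn₂]
      unfold classInner
      rw [← mul_sub, ← Finset.sum_sub_distrib]
      show (Nat.card P : ℂ)⁻¹ * ∑ y : P, (χ : G → ℂ) y * θ y⁻¹ = _
      congr 1
      refine Finset.sum_congr rfl (fun y _ => ?_)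
      rw [hθinv, hθeq]
      simp only [Pi.sub_apply, map_sub]
      ring
    choose n hn using haint
    have hT : ∀ χ : IrrCharacter G, (χ : G → ℂ) t = ((((χ : G → ℂ) t).re : ℝ) : ℂ) := by
      intro χ
      have h1 : conj ((χ : G → ℂ) t) = (χ : G → ℂ) t := by rw [← irr_inv χ t, htinv]
      exact (Complex.conj_eq_iff_re.mp h1).symm
    have hD : ∀ χ : IrrCharacter G,
        (χ : G → ℂ) 1 = (((charDegree (χ : G → ℂ) : ℕ) : ℝ) : ℂ) := by
      intro χ
      rw [Cfsg.Agent.Lib.H23.apply_one_eq_charDegree _ χ.2]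
      push_cast
      rfl
    have hDpos : ∀ χ : IrrCharacter G, (0 : ℝ) < ((charDegree (χ : G → ℂ) : ℕ) : ℝ) := by
      intro χ
      exact_mod_cast Cfsg.Agent.Lib.H23.charDegree_pos _ χ.2
    set A : IrrCharacter G → ℝ := fun χ => ((n χ : ℤ) : ℝ) with hAdef
    set T : IrrCharacter G → ℝ := fun χ => ((χ : G → ℂ) t).re with hTdef
    set D : IrrCharacter G → ℝ := fun χ => ((charDegree (χ : G → ℂ) : ℕ) : ℝ) with hDdef
    set S : Finset (IrrCharacter G) := Finset.univ.filter (· ∈ principalBlock M G) with hSdef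
    have hR2 : ∑ χ ∈ S, A χ * D χ = 0 := by
      have h := hS2'
      rw [← Finset.sum_filter] at h
      have h' : ∑ χ ∈ S, ((A χ * D χ : ℝ) : ℂ) = 0 := by
        refine Eq.trans (Finset.sum_congr rfl (fun χ _ => ?_)) h
        rw [hn χ, hD χ]
        push_cast
        rfl
      exact_mod_cast h'
    have hR3 : ∑ χ ∈ S, A χ * T χ = 0 := by
      have h := hS3'
      rw [← Finset.sum_filter] at h
      have h' : ∑ χ ∈ S, ((A χ * T χ : ℝ) : ℂ) = 0 := by
        refine Eq.trans (Finset.sum_congr rfl (fun χ _ => ?_)) h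
        rw [hn χ, hT χ]
        push_cast
        rfl
      exact_mod_cast h'
    have hR1 : ∑ χ ∈ S, A χ * (T χ ^ 2 / D χ) = 0 := by
      have h := hS1'
      rw [← Finset.sum_filter] at h
      have h' : ∑ χ ∈ S, ((A χ * (T χ ^ 2 / D χ) : ℝ) : ℂ) = 0 := by
        refine Eq.trans (Finset.sum_congr rfl (fun χ _ => ?_)) h
        rw [hn χ, hT χ, hD χ]
        push_cast
        rfl
      exact_mod_cast h'
    have htrivS : trivIrr G ∈ S := by
      rw [hSdef, Finset.mem_filter]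
      exact ⟨Finset.mem_univ _, mem_blockOf_self (M := M) (trivIrr G)⟩
    have hDtriv : D (trivIrr G) = 1 := by
      have h1 := hD (trivIrr G)
      rw [trivIrr_apply] at h1
      have : ((1 : ℝ) : ℂ) = ((D (trivIrr G) : ℝ) : ℂ) := by rw [← h1]; simp
      exact (Complex.ofReal_injective this).symm
    have hTtriv : T (trivIrr G) = 1 := by
      rw [hTdef]
      simp only
      rw [trivIrr_apply]
      simp
    have hAtriv : A (trivIrr G) ≠ 0 := by
      intro h0
      apply hθ0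
      rw [finsum_eq_sum_of_fintype]
      have h1 : a (trivIrr G) = 0 := by rw [hn, show ((n (trivIrr G) : ℤ) : ℝ) = 0 from h0]; simp
      rw [ha] at h1
      simp only [trivIrr_apply, one_mul] at h1
      rw [← h1]
      congr 1
      exact (Equiv.sum_comp (Equiv.inv P) (fun y => θ y)).symm
    have hdich := sign_dichotomy S (fun χ => A χ * D χ) (fun χ => T χ / D χ) (trivIrr G) htrivS
      hR2
      (by
        refine Eq.trans (Finset.sum_congr rfl (fun χ _ => ?_)) hR3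
        have hDne : D χ ≠ 0 := (hDpos χ).ne'
        show A χ * D χ * (T χ / D χ) = A χ * T χ
        field_simp)
      (by
        refine Eq.trans (Finset.sum_congr rfl (fun χ _ => ?_)) hR1
        have hDne : D χ ≠ 0 := (hDpos χ).ne'
        show A χ * D χ * (T χ / D χ) ^ 2 = A χ * (T χ ^ 2 / D χ)
        field_simp)
      (by show T (trivIrr G) / D (trivIrr G) = 1; rw [hTtriv, hDtriv]; norm_num)
      (by show A (trivIrr G) * D (trivIrr G) ≠ 0; rw [hDtriv, mul_one]; exact hAtriv)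
    rcases hdich with ⟨hpos, hneg⟩ | ⟨χ, hχS, hχne, hχw, hχr⟩
    · left
      have hre : ∀ χ : IrrCharacter G, (a χ).re = A χ := by
        intro χ
        rw [hn χ, Complex.ofReal_re]
      constructor
      · rw [Nat.card_eq_fintype_card, Fintype.card_subtype]
        refine le_trans hpos (le_of_eq ?_)
        congr 1
        ext χ
        simp only [Finset.mem_filter, Finset.mem_univ, true_and, hSdef]
        rw [show ((Nat.card P : ℂ)⁻¹ * ∑ y : P, (χ : G → ℂ) (y : G) * θ y⁻¹) = a χ from rfl, hre χ]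
        constructor
        · rintro ⟨h1, h2⟩
          exact ⟨h1, (mul_pos_iff_of_pos_right (hDpos χ)).mp h2⟩
        · rintro ⟨h1, h2⟩
          exact ⟨h1, mul_pos h2 (hDpos χ)⟩
      · rw [Nat.card_eq_fintype_card, Fintype.card_subtype]
        refine le_trans hneg (le_of_eq ?_)
        congr 1
        ext χ
        simp only [Finset.mem_filter, Finset.mem_univ, true_and, hSdef]
        rw [show ((Nat.card P : ℂ)⁻¹ * ∑ y : P, (χ : G → ℂ) (y : G) * θ y⁻¹) = a χ from rfl, hre χ]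
        constructor
        · rintro ⟨h1, h2⟩
          refine ⟨h1, ?_⟩
          by_contra hge
          push Not at hge
          have := mul_nonneg hge (hDpos χ).le
          linarith
        · rintro ⟨h1, h2⟩
          exact ⟨h1, mul_neg_of_neg_of_pos h2 (hDpos χ)⟩
    · right
      have hχB : χ ∈ principalBlock M G := (Finset.mem_filter.mp hχS).2
      have hχt : (χ : G → ℂ) t = (χ : G → ℂ) 1 := by
        rw [hT χ, hD χ]
        have h1 : T χ = D χ := by
          have hDne : D χ ≠ 0 := (hDpos χ).ne'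
          have h2 : T χ / D χ = 1 := hχr
          rwa [div_eq_one_iff_eq hDne] at h2
        exact_mod_cast h1
      refine ⟨charKer (χ : G → ℂ) (isCharacter_of_irr χ.2), inferInstance, ?_, ?_, ?_⟩
      · intro htop
        apply hχne
        apply Subtype.ext
        exact irr_eq_trivial_of_charKer_eq_top χ.2 htop
      · unfold pPrimeCore
        apply sSup_le
        rintro N ⟨hNn, hNc⟩
        haveI := hNn
        intro x hx
        rw [mem_charKer]
        refine principalBlock_ker hM N ?_ χ hχB x hx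
        intro hdvd
        have := Nat.Coprime.eq_one_of_dvd hNc.symm hdvd
        norm_num at this
      · rw [mem_charKer]
        exact hχt

end Cfsg.Agent.S4722
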