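import Cfsg.Statements.S4723
import Cfsg.Agent.Lib.L0.BlockAut
import Cfsg.Agent.Lib.L0.BlockSylowSum
import Cfsg.Agent.Lib.H23.BlockNil

set_option autoImplicit false
open Cfsg

namespace Cfsg.Agent.S4723

open Cfsg.Agent.Lib.H23 Cfsg.Agent.Lib.H24 Cfsg.Agent.Lib.L0 Cfsg.Agent.Lib.L0.Tilde
  Cfsg.Agent.Lib.L0.BlockMinMax Cfsg.Agent.Lib.L0.BlockAut Cfsg.Agent.Lib.L0.BlockSylowSum

/-- Let p be a prime, M a maximal ideal of the algebraic integers containing p, H a normal subgroup of the finite group G and b a p-block of H. Let T be the stabilizer of b in G. Then b contains a character θ of height zero whose own stabilizer in G (the elements g with θ(g h g⁻¹) = θ(h) for all h ∈ H) has index prime to p in T, i.e. contains a Sylow p-subgroup of T. -/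
theorem result {G : Type*} [Group G] [Finite G] (p : ℕ) [Fact p.Prime] (M : Ideal Cfsg.AlgInt) (hM : Cfsg.IsPModular p M) (H : Subgroup G) [H.Normal] (b : Set (Cfsg.IrrCharacter ↥H)) (hb : Cfsg.IsPBlock M b) (T : Subgroup G) (hT : (∀ g : G, g ∈ T ↔ ∀ θ ∈ b, ∀ θ' : Cfsg.IrrCharacter ↥H, (∀ h h' : ↥H, (h' : G) = g * h * g⁻¹ → (θ' : ↥H → ℂ) h' = (θ : ↥H → ℂ) h) → θ' ∈ b)) : ∃ θ ∈ b, Cfsg.blockHeight p b (θ : ↥H → ℂ) = 0 ∧ ∃ S : Subgroup G, S ≤ T ∧ (∀ g : G, g ∈ S ↔ (g ∈ T ∧ ∀ h h' : ↥H, (h' : G) = g * h * g⁻¹ → (θ : ↥H → ℂ) h' = (θ : ↥H → ℂ) h)) ∧ ¬ p ∣ S.relIndex T := by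
  classical
  haveI : Fintype H := Fintype.ofFinite H
  haveI := Fintype.ofFinite (IrrCharacter H)
  haveI hPr := isPrime_of_isPModular hM
  have hp : p.Prime := Fact.out
  obtain ⟨χ₀, rfl⟩ := hb
  set b := blockOf M (χ₀ : H → ℂ) with hbdef
  set e := minDeg p b with he
  -- the action of `G`
  set act : G → IrrCharacter H → IrrCharacter H :=
    fun g θ => cj (MulAut.conjNormal g) θ with hact
  have hact_one : ∀ θ, act 1 θ = θ := by
    intro θ; simp only [hact, map_one, cj_one]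
  have hact_mul : ∀ g g' θ, act (g * g') θ = act g (act g' θ) := by
    intro g g' θ; simp only [hact, map_mul, cj_mul]
  have hact_spec : ∀ (g : G) (θ : IrrCharacter H) (h h' : H), (h' : G) = g * h * g⁻¹ →
      (act g θ : H → ℂ) h' = (θ : H → ℂ) h := by
    intro g θ h h' hh'
    have : h' = MulAut.conjNormal g h := Subtype.ext (by rw [hh', MulAut.conjNormal_apply])
    rw [this]; exact cj_apply_apply _ θ h
  have hact_uniq : ∀ (g : G) (θ θ' : IrrCharacter H),
      (∀ h h' : H, (h' : G) = g * h * g⁻¹ → (θ' : H → ℂ) h' = (θ : H → ℂ) h) →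
        θ' = act g θ := by
    intro g θ θ' hθ'
    apply Subtype.ext; funext x
    have hx : (x : G) = g * ((MulAut.conjNormal g⁻¹ x : H) : G) * g⁻¹ := by
      rw [MulAut.conjNormal_apply]; group
    rw [hθ' _ x hx, hact_spec g θ _ x hx]
  have hTmem : ∀ g, g ∈ T ↔ ∀ θ ∈ b, act g θ ∈ b := by
    intro g; rw [hT]
    constructor
    · intro h θ hθ; exact h θ hθ _ (hact_spec g θ)
    · intro h θ hθ θ' hθ'; rw [hact_uniq g θ θ' hθ']; exact h θ hθ
  have hdeg : ∀ (g : G) (θ : IrrCharacter H), charDegree (act g θ : H → ℂ) = charDegree (θ : H → ℂ) :=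
    fun g θ => charDegree_cj _ θ
  have hht : ∀ (g : G) (θ : IrrCharacter H), blockHeight p b (act g θ : H → ℂ) = blockHeight p b (θ : H → ℂ) := by
    intro g θ; unfold blockHeight; rw [hdeg]
  obtain ⟨Q⟩ : Nonempty (Sylow p H) := inferInstance
  set n : IrrCharacter H → ℕ := sylowMult Q with hn
  have hninv : ∀ g θ, n (act g θ) = n θ := fun g θ => sylowMult_cj Q _ θ
  set t : IrrCharacter H → ℕ := fun θ => charDegree (θ : H → ℂ) / p ^ e with ht
  have htinv : ∀ g θ, t (act g θ) = t θ := by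
    intro g θ; simp only [ht, hdeg]
  have hNp := not_dvd_sum_sylowMult hM χ₀ Q
  -- a Sylow subgroup of `T`
  obtain ⟨P₀⟩ : Nonempty (Sylow p T) := inferInstance
  set S₀ : Subgroup G := (P₀ : Subgroup T).map T.subtype with hS₀
  have hS₀T : S₀ ≤ T := by rw [hS₀]; exact Subgroup.map_subtype_le _
  suffices hfix : ∃ θ ∈ b, blockHeight p b (θ : H → ℂ) = 0 ∧ ∀ g ∈ S₀, act g θ = θ by
    obtain ⟨θ, hθb, hθ0, hθfix⟩ := hfix
    refine ⟨θ, hθb, hθ0, ?_⟩
    let S : Subgroup G :=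
      { carrier := {g | g ∈ T ∧ act g θ = θ}
        mul_mem' := by
          rintro g g' ⟨hg, hgθ⟩ ⟨hg', hg'θ⟩
          exact ⟨T.mul_mem hg hg', by rw [hact_mul, hg'θ, hgθ]⟩
        one_mem' := ⟨T.one_mem, hact_one θ⟩
        inv_mem' := by
          rintro g ⟨hg, hgθ⟩
          refine ⟨T.inv_mem hg, ?_⟩
          have h1 : act g⁻¹ (act g θ) = θ := by rw [← hact_mul, inv_mul_cancel, hact_one]
          rw [hgθ] at h1; exact h1 }
    have hSmem : ∀ g, g ∈ S ↔ g ∈ T ∧ act g θ = θ := fun g => Iff.rfl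
    refine ⟨S, fun g hg => hg.1, ?_, ?_⟩
    · intro g
      rw [hSmem]
      constructor
      · rintro ⟨hgT, hgθ⟩
        refine ⟨hgT, fun h h' hh' => ?_⟩
        have := hact_spec g θ h h' hh'
        rw [hgθ] at this; exact this
      · rintro ⟨hgT, hg⟩; exact ⟨hgT, (hact_uniq g θ θ hg).symm⟩
    · have hS₀S : S₀ ≤ S := fun g hg => ⟨hS₀T hg, hθfix g hg⟩
      have h1 := Subgroup.relIndex_mul_relIndex (H := S₀) (K := S) (L := T) hS₀S (fun g hg => hg.1)
      have h2 : S₀.relIndex T = (P₀ : Subgroup T).index := by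
        rw [Subgroup.relIndex, hS₀]
        congr 1
        ext x
        simp [Subgroup.mem_subgroupOf]
      intro hdvd
      apply P₀.not_dvd_index
      rw [← h2, ← h1]
      exact Dvd.dvd.mul_left hdvd _
  by_contra hno
  push Not at hno
  let W := {θ : IrrCharacter H // θ ∈ b ∧ blockHeight p b (θ : H → ℂ) = 0}
  have : Fintype W := Fintype.ofFinite W
  let _ : MulAction S₀ W :=
    { smul := fun s w => ⟨act s w.1, (hTmem s).1 (hS₀T s.2) w.1 w.2.1, by rw [hht]; exact w.2.2⟩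
      one_smul := fun w => Subtype.ext (hact_one w.1)
      mul_smul := fun s s' w => Subtype.ext (hact_mul s s' w.1) }
  have hsmul : ∀ (s : S₀) (w : W), ((s • w : W) : IrrCharacter H) = act s w.1 := fun _ _ => rfl
  have hS₀p : IsPGroup p S₀ := P₀.2.map _
  have horb : ∀ w : W, p ∣ Nat.card (MulAction.orbit S₀ w) := by
    intro w
    obtain ⟨k, hk⟩ := hS₀p.card_orbit w
    rcases Nat.eq_zero_or_pos k with rfl | hkpos
    · exfalso
      obtain ⟨g, hg, hne⟩ := hno w.1 w.2.1 w.2.2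
      rw [pow_zero] at hk
      have hsub : Subsingleton (MulAction.orbit S₀ w) :=
        (Nat.card_eq_one_iff_unique.mp hk).1
      have h1 : (⟨(⟨g, hg⟩ : S₀) • w, MulAction.mem_orbit _ _⟩ : MulAction.orbit S₀ w) =
          ⟨w, MulAction.mem_orbit_self w⟩ := Subsingleton.elim _ _
      have h2 : (⟨g, hg⟩ : S₀) • w = w := congrArg Subtype.val h1
      exact hne (congrArg Subtype.val h2)
    · rw [hk]; exact dvd_pow_self p hkpos.ne'
  have hsum := sum_eq_zero_of_orbit_card_dvd (Γ := S₀) (W := W) (A := ZMod p)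
    (fun w => ((n w.1 * t w.1 : ℕ) : ZMod p))
    (fun s w => by rw [hsmul, hninv, htinv]) p horb
    (fun a => by simp)
  apply hNp
  rw [← ZMod.natCast_eq_zero_iff, Nat.cast_sum]
  have hpos : ∀ θ : IrrCharacter H, θ ∈ b → blockHeight p b (θ : H → ℂ) ≠ 0 → p ∣ t θ := by
    intro θ hθ hne
    have h1 : e + 1 ≤ (charDegree (θ : H → ℂ)).factorization p := by
      have : blockHeight p b (θ : H → ℂ) =
        (charDegree (θ : H → ℂ)).factorization p - e := rfl
      omega
    have h2 : p ^ (e + 1) ∣ charDegree (θ : H → ℂ) :=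
      (pow_dvd_pow p h1).trans (Nat.ordProj_dvd _ _)
    obtain ⟨c, hc⟩ := h2
    refine ⟨c, ?_⟩
    simp only [ht]
    rw [hc, pow_succ, mul_assoc, Nat.mul_div_cancel_left _ (pow_pos hp.pos e)]
  calc ∑ θ : IrrCharacter H, (((if θ ∈ b then n θ * t θ else 0 : ℕ)) : ZMod p)
      = ∑ θ : IrrCharacter H, (if θ ∈ b ∧ blockHeight p b (θ : H → ℂ) = 0 then
          ((n θ * t θ : ℕ) : ZMod p) else 0) := by
        refine Finset.sum_congr rfl fun θ _ => ?_
        by_cases hθ : θ ∈ b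
        · by_cases h0 : blockHeight p b (θ : H → ℂ) = 0
          · rw [if_pos hθ, if_pos ⟨hθ, h0⟩]
          · rw [if_pos hθ, if_neg (fun h => h0 h.2)]
            rw [ZMod.natCast_eq_zero_iff]
            exact Dvd.dvd.mul_left (hpos θ hθ h0) _
        · rw [if_neg hθ, if_neg (fun h => hθ h.1)]; simp
    _ = ∑ w : W, ((n w.1 * t w.1 : ℕ) : ZMod p) := by
        rw [← Finset.sum_filter]
        exact (Finset.sum_subtype (Finset.univ.filter fun θ : IrrCharacter H =>
          θ ∈ b ∧ blockHeight p b (θ : H → ℂ) = 0) (by simp) _)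
    _ = 0 := hsum

end Cfsg.Agent.S4723
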