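import Cfsg.Statements.S4726
import Cfsg.Agent.Lib.H23.MaxPairD
import Cfsg.Agent.Lib.L0.BrauerRelative
import Cfsg.Agent.Lib.L0.BrauerAutomizer
open Cfsg.Agent.Lib.H23 Cfsg.Agent.Lib.H23.MaxPair Cfsg.Agent.Lib.L0 Cfsg.Agent.Lib.L0.BrauerCentric Cfsg.Agent.Lib.H24
  Cfsg.Agent.Lib.L0.BrauerSubpair Cfsg.Agent.Lib.L0.BrauerDefect Cfsg.Agent.Lib.L0.BrauerSylow
  Cfsg.Agent.Lib.L0.BrauerRelative Cfsg.Agent.Lib.L0.BrauerAutomizer Cfsg.Agent.Lib.L0.BrauerNormalizer

set_option autoImplicit false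
open Cfsg

namespace Cfsg.Agent.S4726

/-- Let p be a prime, M a maximal ideal of the algebraic integers containing p, H a subgroup of the finite group G and b a p-block of H with defect group D₀ such that C_G(D₀) ≤ H. Then b induces a block of G, and for every block B of G induced by b there is a defect group D of B with Z(D) ≤ Z(D₀) ≤ D₀ ≤ D (as subgroups of G). In particular, if the defect groups of B are abelian then D₀ is a defect group of B. -/
theorem result {G : Type*} [Group G] [Finite G] (p : ℕ) [Fact p.Prime] (M : Ideal Cfsg.AlgInt) (hM : Cfsg.IsPModular p M) (H : Subgroup G) (b : Set (Cfsg.IrrCharacter ↥H)) (hb : Cfsg.IsPBlock M b) (D₀ : Subgroup ↥H) (hD₀ : Cfsg.IsDefectGroup p M b D₀) (hC : Subgroup.centralizer ((D₀.map H.subtype : Subgroup G) : Set G) ≤ H) : Cfsg.InducedBlockDefined M H b ∧ ∀ B : Set (Cfsg.IrrCharacter G), Cfsg.IsInducedBlock M H b B → (∃ D : Subgroup G, Cfsg.IsDefectGroup p M B D ∧ (Subgroup.center ↥D).map D.subtype ≤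 ((Subgroup.center ↥D₀).map D₀.subtype).map H.subtype ∧ ((Subgroup.center ↥D₀).map D₀.subtype).map H.subtype ≤ D₀.map H.subtype ∧ D₀.map H.subtype ≤ D) ∧ (∀ D : Subgroup G, Cfsg.IsDefectGroup p M B D → IsMulCommutative ↥D → Cfsg.IsDefectGroup p M B (D₀.map H.subtype)) := by
  classical
  haveI := Fintype.ofFinite G
  haveI hPr := isPrime_of_isPModular hM
  haveI : Fintype H := Fintype.ofFinite _
  obtain ⟨ξb, rfl⟩ := hb
  have hD₀p : IsPGroup p D₀ := isPGroup_of_isDefectGroup hD₀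
  obtain ⟨θ', hmax'⟩ := exists_root_pair hM ξb D₀ hD₀
  have hZ' := isDefectGroup_center_of_maximal hM hmax'
  haveI : Fintype (CC D₀) := Fintype.ofFinite _
  have hind' := isInducedBlock_of_pair hM hmax'.1
  set P : Subgroup G := D₀.map H.subtype with hPdef
  have hPp : IsPGroup p P := hD₀p.map _
  set ι := centUp H D₀ hC with hι
  haveI : Fintype (CC P) := Fintype.ofFinite _
  set θ : IrrCharacter (CC P) := irrEquiv ι.symm θ' with hθ
  set e := blockOf M (θ : CC P → ℂ) with he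
  have hZ : IsDefectGroup p M e ((P ⊓ CC P).subgroupOf (CC P)) := by
    have h1 := isDefectGroup_irrEquiv_image (p := p) (M := M) ι.symm
      (blockOf M (θ' : CC D₀ → ℂ)) _ hZ'
    rw [irrEquiv_image_blockOf] at h1
    convert h1 using 1
    ext c
    rw [Subgroup.mem_subgroupOf, Subgroup.mem_comap, Subgroup.mem_subgroupOf, Subgroup.mem_inf,
      Subgroup.mem_inf]
    constructor
    · rintro ⟨⟨d, hd, hdc⟩, -⟩
      refine ⟨?_, (ι.symm c).2⟩
      have h2 : ((ι.symm c : CC D₀) : H) = d := by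
        apply Subtype.ext
        exact hdc.symm
      show ((ι.symm c : CC D₀) : H) ∈ D₀
      rw [h2]
      exact hd
    · rintro ⟨hd, -⟩
      exact ⟨⟨((ι.symm c : CC D₀) : H), hd, rfl⟩, c.2⟩
  obtain ⟨B₀, hB₀, -⟩ := exists_unique_block_of_brauerPair hM P e ⟨hPp, θ, rfl⟩
  have hind₀ := isInducedBlock_of_pair hM hB₀
  have hkey : ∀ z : MonoidAlgebra ℂ G, omega (θ' : CC D₀ → ℂ) (resAlg (CC D₀) (resAlg H z)) =
      omega (θ : CC P → ℂ) (resAlg (CC P) z) := by
    intro z
    unfold omega charEval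
    congr 1
    · refine Fintype.sum_equiv ι.toEquiv _ _ (fun c' => ?_)
      simp only [coeff_resAlg]
      rw [hθ, irrEquiv_apply]
      have h1 : ι.symm (ι.toEquiv c') = c' := ι.symm_apply_apply c'
      rw [h1]
      rfl
  have hbB₀ : IsInducedBlock M H (blockOf M (ξb : H → ℂ)) B₀ := by
    refine ⟨⟨ξb, rfl⟩, hB₀.2.1, fun ξ hξ χ hχ g => ?_⟩
    have h1 := omega_resAlg_sub_memLocalIdeal (CC D₀) hind' (mem_blockOf_self θ') hξ
      (resAlg_mem_center H (classSum_mem_center g))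
      (resAlg_mem_intCoeff H (classSum_mem_intCoeff (M := M) g))
    have h2 := omega_resAlg_sub_memLocalIdeal (CC P) hind₀ (mem_blockOf_self θ) hχ
      (classSum_mem_center g) (classSum_mem_intCoeff (M := M) g)
    rw [hkey] at h1
    rw [inducedCentralChar_eq_omega, ← omega_classSum (irr_isClassFunction χ)]
    have := memLocalIdeal_sub h2 h1
    convert this using 1
    ring
  refine ⟨⟨B₀, hbB₀⟩, fun B hB => ?_⟩
  have hBB₀ : B = B₀ := isInducedBlock_unique H hB hbB₀
  subst hBB₀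
  obtain ⟨D, eD, hDmax, hle⟩ := exists_maximal_above hM _ P e rfl hB₀
  have hDdef := isDefectGroup_of_maximal hM hDmax
  have hPD : P ≤ D := fst_le_of_reflTransGen (a := ⟨P, e⟩) (b := ⟨D, eD⟩) hle
  obtain ⟨D', hD', hle'⟩ := exists_defectGroup_ge_centralizer hM hDmax.1.1 hle
  have hD'eq : (P ⊓ CC P).subgroupOf (CC P) = D' := by
    haveI hZn : ((P ⊓ CC P).subgroupOf (CC P)).Normal := by
      refine ⟨fun n hn c => ?_⟩
      rw [Subgroup.mem_subgroupOf, Subgroup.mem_inf] at hn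
      have h1 : c * n * c⁻¹ = n := by
        apply Subtype.ext
        have := Subgroup.mem_centralizer_iff.1 c.2 (n : G) hn.1
        simp only [Subgroup.coe_mul, Subgroup.coe_inv]
        rw [← this, mul_inv_cancel_right]
      rw [h1, Subgroup.mem_subgroupOf, Subgroup.mem_inf]
      exact hn
    have h1 := normal_le_defectGroup hM θ ((P ⊓ CC P).subgroupOf (CC P))
      (hPp.to_le inf_le_left).comap_subtype D' hD'
    have h2 := card_defectGroup hM θ _ hZ
    have h3 := card_defectGroup hM θ _ hD'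
    exact Subgroup.eq_of_le_of_card_ge h1 (by rw [h2, h3])
  have hcen : (Subgroup.center ↥D).map D.subtype ≤
      ((Subgroup.center ↥D₀).map D₀.subtype).map H.subtype := by
    rintro _ ⟨z, hz, rfl⟩
    have hzC : ((z : D) : G) ∈ CC P := by
      rw [Subgroup.mem_centralizer_iff]
      intro x hx
      have := Subgroup.mem_center_iff.1 hz ⟨x, hPD hx⟩
      exact congrArg Subtype.val this
    have h1 : (⟨(z : G), hzC⟩ : CC P) ∈ (D ⊓ CC P).subgroupOf (CC P) := by
      rw [Subgroup.mem_subgroupOf, Subgroup.mem_inf]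
      exact ⟨z.2, hzC⟩
    have h2 := hle' h1
    rw [← hD'eq, Subgroup.mem_subgroupOf, Subgroup.mem_inf] at h2
    obtain ⟨⟨d, hd, hdz⟩, -⟩ := h2
    refine ⟨d, ⟨⟨d, hd⟩, ?_, rfl⟩, hdz⟩
    refine Subgroup.mem_center_iff.2 ?_
    intro y
    apply Subtype.ext
    apply Subtype.ext
    have h3 : ((d : H) : G) ∈ CC P := by
      have : ((d : H) : G) = (z : G) := hdz
      rw [this]; exact hzC
    have := Subgroup.mem_centralizer_iff.1 h3 ((y : H) : G) ⟨(y : H), y.2, rfl⟩
    simpa using this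
  have hmid : ((Subgroup.center ↥D₀).map D₀.subtype).map H.subtype ≤ D₀.map H.subtype :=
    Subgroup.map_mono (Subgroup.map_subtype_le _)
  refine ⟨⟨D, hDdef, hcen, hmid, hPD⟩, ?_⟩
  intro D₁ hD₁ hab
  obtain ⟨χ₀, rfl⟩ := hB₀.2.1
  obtain ⟨c, hc⟩ := isDefectGroup_conj hM χ₀ hD₁ hDdef
  have hDab : ∀ a ∈ D, ∀ b ∈ D, a * b = b * a := by
    intro a ha b hb
    rw [hc] at ha hb
    obtain ⟨a', ha', rfl⟩ := ha
    obtain ⟨b', hb', rfl⟩ := hb
    have := isMulCommutative_iff.1 hab ⟨a', ha'⟩ ⟨b', hb'⟩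
    have h2 : a' * b' = b' * a' := congrArg Subtype.val this
    simp only [MulEquiv.coe_toMonoidHom, MulAut.conj_apply]
    calc c * a' * c⁻¹ * (c * b' * c⁻¹) = c * (a' * b') * c⁻¹ := by group
      _ = c * (b' * a') * c⁻¹ := by rw [h2]
      _ = c * b' * c⁻¹ * (c * a' * c⁻¹) := by group
  have hDP : D ≤ P := by
    intro x hx
    apply hmid
    apply hcen
    refine ⟨⟨x, hx⟩, ?_, rfl⟩
    refine Subgroup.mem_center_iff.2 ?_
    intro y
    apply Subtype.ext
    exact hDab y y.2 x hx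
  have : P = D := le_antisymm hPD hDP
  rw [this]
  exact hDdef

end Cfsg.Agent.S4726
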