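import Cfsg.Statements.S4730
import Cfsg.Agent.Lib.H18.PrimeDegree
import Cfsg.Agent.Lib.H23.BlockOsima
import Cfsg.Agent.Lib.H23.DegreeDvd
import Cfsg.Agent.Lib.L0.CharOps

set_option autoImplicit false
open Cfsg

namespace Cfsg.Agent.S4730

open Cfsg.Agent.Lib.H23 Cfsg.Agent.Lib.H24 Cfsg.Agent.Lib.L0 Cfsg.Agent.Lib.H18
open scoped ComplexConjugate
open Module

/-- A faithful irreducible character of a group with trivial centre vanishes at every non-identity
element whose class size is prime to the degree. -/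
theorem eq_zero_of_coprime_of_faithful {G : Type*} [Group G] [Finite G]
    (hZ : Subgroup.center G = ⊥) (χ : IrrCharacter G)
    (hfaith : ∀ g : G, (χ : G → ℂ) g = (χ : G → ℂ) 1 → g = 1) (z : G) (hz : z ≠ 1)
    (hcop : Nat.Coprime (Subgroup.centralizer ({z} : Set G)).index (charDegree (χ : G → ℂ))) :
    (χ : G → ℂ) z = 0 := by
  obtain ⟨n', ρ, hirr, hρ⟩ := χ.2
  haveI := hirr
  have hfr : finrank ℂ (Fin n' → ℂ) = n' := by simp
  have h1 : (χ : G → ℂ) 1 = (n' : ℂ) := by
    rw [← hρ, Representation.char_one, hfr]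
  have hdeg : charDegree (χ : G → ℂ) = n' := by
    have := apply_one_eq_charDegree _ χ.2
    rw [h1] at this
    exact_mod_cast this.symm
  rw [hdeg, ← hfr] at hcop
  rcases char_eq_zero_or_scalar_of_coprime ρ z hcop with h | ⟨c, hc⟩
  · rw [← hρ]; exact h
  · exfalso
    apply hz
    have hcen : z ∈ Subgroup.center G := by
      rw [Subgroup.mem_center_iff]
      intro g
      have h2 : ρ (g * z) = ρ (z * g) := by
        rw [map_mul, map_mul, hc]
        ext v
        simp
      have h3 : ρ (g * z * (z * g)⁻¹) = 1 := by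
        rw [map_mul, h2, ← map_mul, mul_inv_cancel, map_one]
      have h4 : (χ : G → ℂ) (g * z * (z * g)⁻¹) = (χ : G → ℂ) 1 := by
        rw [← hρ]
        show LinearMap.trace ℂ _ (ρ _) = LinearMap.trace ℂ _ (ρ 1)
        rw [h3, (map_one ρ : ρ 1 = 1)]
      have h5 := hfaith _ h4
      exact mul_inv_eq_one.mp h5
    rw [hZ] at hcen
    exact Subgroup.mem_bot.mp hcen

/-- Let p be a prime, M a maximal ideal of the algebraic integers containing p, and G a finite group with trivial centre, Sylow p-subgroup P of order p^a and centre Z(P) of order p^b. If χ is a faithful irreducible character of G whose degree is a power of p, then the p-block of χ has defect at most a − b; in particular, if P is abelian then χ lies in a block of defect zero. -/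
theorem result {G : Type*} [Group G] [Finite G] (p : ℕ) [Fact p.Prime] (M : Ideal Cfsg.AlgInt) (hM : Cfsg.IsPModular p M) (hZ : Subgroup.center G = ⊥) (P : Sylow p G) (a b : ℕ) (ha : Nat.card P = p ^ a) (hb : Nat.card (Subgroup.center ↥(P : Subgroup G)) = p ^ b) (χ : Cfsg.IrrCharacter G) (hfaith : ∀ g : G, (χ : G → ℂ) g = (χ : G → ℂ) 1 → g = 1) (n : ℕ) (hdeg : Cfsg.charDegree (χ : G → ℂ) = p ^ n) : Cfsg.blockDefect p (Cfsg.blockOf M (χ : G → ℂ)) ≤ a - b ∧ (IsMulCommutative ↥(P : Subgroup G) → Cfsg.blockDefect p (Cfsg.blockOf M (χ : G → ℂ)) = 0) := by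
  classical
  haveI := Fintype.ofFinite G
  haveI := Fintype.ofFinite (IrrCharacter G)
  haveI hPr := isPrime_of_isPModular hM
  have hp : p.Prime := Fact.out
  set B := blockOf M (χ : G → ℂ) with hB
  have hcardG : (Nat.card G).factorization p = a := by
    have h1 := P.card_eq_multiplicity
    rw [ha] at h1
    exact (Nat.pow_right_injective hp.two_le h1).symm
  -- the centre of `P` inside `G`
  set Z' : Subgroup G := (Subgroup.center (P : Subgroup G)).map (P : Subgroup G).subtype with hZ'
  have hZ'card : Nat.card Z' = p ^ b := by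
    rw [hZ', Subgroup.card_map_of_injective (Subgroup.subtype_injective _), hb]
  have hZ'mem : ∀ z ∈ Z', z ∈ (P : Subgroup G) ∧ ∀ x ∈ (P : Subgroup G), x * z = z * x := by
    rintro z ⟨w, hw, rfl⟩
    refine ⟨w.2, fun x hx => ?_⟩
    have := Subgroup.mem_center_iff.mp hw ⟨x, hx⟩
    exact congrArg Subtype.val this
  have hidx : ∀ z ∈ Z', ¬ p ∣ (Subgroup.centralizer ({z} : Set G)).index := by
    intro z hz hdvd
    have hle : (P : Subgroup G) ≤ Subgroup.centralizer ({z} : Set G) := by
      intro x hx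
      rw [Subgroup.mem_centralizer_iff]
      intro y hy
      rw [Set.mem_singleton_iff] at hy
      subst hy
      exact ((hZ'mem y hz).2 x hx).symm
    exact P.not_dvd_index (hdvd.trans (Subgroup.index_dvd_of_le hle))
  -- χ vanishes on Z' minus 1
  have hχ0 : ∀ z ∈ Z', z ≠ 1 → (χ : G → ℂ) z = 0 := by
    intro z hz hz1
    refine eq_zero_of_coprime_of_faithful hZ χ hfaith z hz1 ?_
    rw [hdeg]
    exact Nat.Coprime.pow_right _ ((Nat.Prime.coprime_iff_not_dvd hp).mpr (hidx z hz)).symm
  -- key
  have key : ∀ ψ : IrrCharacter G, ψ ∈ B → b ≤ (charDegree (ψ : G → ℂ)).factorization p := by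
    intro ψ hψ
    by_contra hlt
    push Not at hlt
    set d := charDegree (ψ : G → ℂ) with hd
    have hd0 : d ≠ 0 := (charDegree_pos _ ψ.2).ne'
    have hψ1 : (ψ : G → ℂ) 1 = (d : ℂ) := apply_one_eq_charDegree _ ψ.2
    have hdC : (d : ℂ) ≠ 0 := by exact_mod_cast hd0
    -- ψ(z)/ψ(1) ∈ 𝔭
    have h2 : ∀ z ∈ Z', z ≠ 1 → MemLocalIdeal M ((ψ : G → ℂ) z / (d : ℂ)) := by
      intro z hz hz1
      have h := hψ z
      have e1 : centralChar (χ : G → ℂ) z = 0 := by
        unfold centralChar; rw [hχ0 z hz hz1, mul_zero, zero_div]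
      rw [e1, zero_sub] at h
      have h' := memLocalIdeal_neg h
      rw [neg_neg] at h'
      unfold centralChar at h'
      rw [hψ1, mul_div_assoc] at h'
      have hinv := memLocalRing_inv_natCast hM (hidx z hz)
      have hne0 : (((Subgroup.centralizer ({z} : Set G)).index : ℕ) : ℂ) ≠ 0 :=
        Nat.cast_ne_zero.mpr (fun h0 => hidx z hz (by rw [h0]; exact dvd_zero p))
      have := memLocalIdeal_mul_left hinv h'
      rwa [← mul_assoc, inv_mul_cancel₀ hne0, one_mul] at this
    -- the multiplicity of the trivial character of Z'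
    haveI : Fintype Z' := Fintype.ofFinite Z'
    obtain ⟨m, hm⟩ := classInner_char_irr_nat
      (isCharacter_restrict Z' (isCharacter_of_irr ψ.2))
      (Cfsg.Agent.Lib.H24.isIrrCharacter_one (G := Z'))
    have hsum : ∑ z : Z', (ψ : G → ℂ) z = ((p ^ b * m : ℕ) : ℂ) := by
      rw [classInner] at hm
      simp only [map_one, mul_one] at hm
      have hZ0 : (Nat.card Z' : ℂ) ≠ 0 := by
        exact_mod_cast (Nat.card_pos (α := Z')).ne'
      have : ∑ z : Z', (ψ : G → ℂ) z = (Nat.card Z' : ℂ) * m := by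
        rw [← hm, ← mul_assoc, mul_inv_cancel₀ hZ0, one_mul]
      rw [this, hZ'card]
      push_cast; ring
    -- u = p^b m / d ≡ 1
    have h3 : MemLocalIdeal M (((p ^ b * m : ℕ) : ℂ) / (d : ℂ) - 1) := by
      rw [← hsum, Finset.sum_div]
      rw [← Finset.sum_erase_add _ _ (Finset.mem_univ (1 : Z'))]
      rw [Subgroup.coe_one, hψ1, div_self hdC, add_sub_cancel_right]
      refine memLocalIdeal_sum _ _ fun z hz => ?_
      have hz1 : (z : G) ≠ 1 := by
        intro h
        exact (Finset.mem_erase.mp hz).1 (Subtype.ext h)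
      exact h2 z z.2 hz1
    -- but u ∈ 𝔭
    set e := d.factorization p with he
    have hde : d = p ^ e * (d / p ^ e) := (Nat.ordProj_mul_ordCompl_eq_self d p).symm
    have hd' : ¬ p ∣ d / p ^ e := Nat.not_dvd_ordCompl hp hd0
    have h4 : MemLocalIdeal M (((p ^ b * m : ℕ) : ℂ) / (d : ℂ)) := by
      have hpC : (p : ℂ) ≠ 0 := Nat.cast_ne_zero.mpr hp.ne_zero
      have hd'0 : ((d / p ^ e : ℕ) : ℂ) ≠ 0 :=
        Nat.cast_ne_zero.mpr (fun h0 => hd' (by rw [h0]; exact dvd_zero p))
      have e1 : ((p ^ b * m : ℕ) : ℂ) / (d : ℂ) =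
          ((d / p ^ e : ℕ) : ℂ)⁻¹ * ((p * (p ^ (b - e - 1) * m) : ℕ) : ℂ) := by
        have hb' : p ^ b = p ^ e * (p * p ^ (b - e - 1)) := by
          rw [← pow_succ', ← pow_add]
          congr 1; omega
        have hdC' : (d : ℂ) = (p : ℂ) ^ e * ((d / p ^ e : ℕ) : ℂ) := by
          exact_mod_cast hde
        have hbC : (p : ℂ) ^ b = (p : ℂ) ^ e * ((p : ℂ) * (p : ℂ) ^ (b - e - 1)) := by
          exact_mod_cast hb'
        push_cast
        rw [hdC', hbC]
        push_cast
        field_simp
      rw [e1]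
      refine memLocalIdeal_mul_left (memLocalRing_inv_natCast hM hd') ?_
      exact (natCast_memLocalIdeal_iff hM _).mpr (Dvd.intro _ rfl)
    have h5 := memLocalIdeal_sub h4 h3
    rw [sub_sub_cancel] at h5
    exact not_memLocalIdeal_one h5
  have hne : ((fun ψ : IrrCharacter G => (charDegree (ψ : G → ℂ)).factorization p) '' B).Nonempty :=
    ⟨_, χ, sameBlock_refl _, rfl⟩
  have hmin : b ≤ sInf ((fun ψ : IrrCharacter G =>
      (charDegree (ψ : G → ℂ)).factorization p) '' B) := by
    apply le_csInf hne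
    rintro _ ⟨ψ, hψ, rfl⟩
    exact key ψ hψ
  constructor
  · unfold blockDefect
    rw [hcardG]
    omega
  · intro hcomm
    have hba : b = a := by
      have h1 : Subgroup.center (P : Subgroup G) = ⊤ := by
        rw [eq_top_iff]
        intro x _
        rw [Subgroup.mem_center_iff]
        intro y
        exact (hcomm.is_comm.comm y x)
      rw [h1, Subgroup.card_top] at hb
      have : p ^ a = p ^ b := by rw [← ha, ← hb]
      exact (Nat.pow_right_injective hp.two_le this).symm
    unfold blockDefect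
    rw [hcardG]
    omega

end Cfsg.Agent.S4730
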