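import Cfsg.Statements.S4731
import Cfsg.Agent.Lib.L0.TildeChar
import Cfsg.Agent.S4498

set_option autoImplicit false
open Cfsg

namespace Cfsg.Agent.S4731

open Cfsg.Agent.Lib.H23 Cfsg.Agent.Lib.H24 Cfsg.Agent.Lib.L0 Cfsg.Agent.Lib.L0.Tilde
open scoped ComplexConjugate

/-- Let p ≠ q be primes, M_p and M_q maximal ideals of the algebraic integers containing p and q respectively, and G a finite group with no element of order pq; let q^b be the q-part of the order of G. For a p-block B_p (relative to M_p), a q-block B_q (relative to M_q) and a p-singular element y, the sum of χ(1)χ(y) over the irreducible characters χ lying in both B_p and B_q is q^b times an algebraic integer. -/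
theorem result {G : Type*} [Group G] [Finite G] (p q : ℕ) [Fact p.Prime] [Fact q.Prime] (hpq : p ≠ q) (Mp Mq : Ideal Cfsg.AlgInt) (hMp : Cfsg.IsPModular p Mp) (hMq : Cfsg.IsPModular q Mq) (hno : ∀ g : G, orderOf g ≠ p * q) (b : ℕ) (hb : (Nat.card G).factorization q = b) (Bp : Set (Cfsg.IrrCharacter G)) (hBp : Cfsg.IsPBlock Mp Bp) (Bq : Set (Cfsg.IrrCharacter G)) (hBq : Cfsg.IsPBlock Mq Bq) (y : G) (hy : p ∣ orderOf y) : ∃ ω : Cfsg.AlgInt, ∑ᶠ χ ∈ Bp ∩ Bq, (Cfsg.charDegree (χ : G → ℂ) : ℂ) * (χ : G → ℂ) y = (q : ℂ) ^ b * (ω : ℂ) := by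
  classical
  haveI := Fintype.ofFinite G
  haveI := Fintype.ofFinite (IrrCharacter G)
  haveI hPp := isPrime_of_isPModular hMp
  haveI hPq := isPrime_of_isPModular hMq
  have hp : p.Prime := Fact.out
  have hq : q.Prime := Fact.out
  obtain ⟨χp, rfl⟩ := hBp
  obtain ⟨χq, rfl⟩ := hBq
  subst hb
  set Bp := blockOf Mp (χp : G → ℂ) with hBpdef
  set Bq := blockOf Mq (χq : G → ℂ) with hBqdef
  set c : IrrCharacter G → ℂ := fun χ => if χ ∈ Bp then (χ : G → ℂ) y else 0 with hc
  set Θ : G → ℂ := ∑ χ : IrrCharacter G, c χ • (χ : G → ℂ) with hΘ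
  -- `Θ` vanishes on `p`-regular elements
  have hΘ0 : ∀ x : G, ¬ p ∣ orderOf x → Θ x = 0 := by
    intro x hx
    have h := weak_block_orthogonality hMp χp x y⁻¹ hx (by rwa [orderOf_inv])
    rw [hΘ, Finset.sum_apply]
    rw [← h]
    refine Finset.sum_congr rfl fun χ _ => ?_
    simp only [Pi.smul_apply, smul_eq_mul, hc]
    split_ifs
    · rw [irr_inv, Complex.conj_conj, mul_comm]
    · rw [zero_mul]
  -- `q`-singular elements are `p`-regular
  have hqs : ∀ x : G, q ∣ orderOf x → ¬ p ∣ orderOf x := by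
    intro x hxq hxp
    obtain ⟨h', hh'⟩ := Cfsg.Agent.S4498.exists_orderOf_eq_mul hp hq hpq x hxp hxq
    exact hno h' hh'
  set qb : ℂ := ((q ^ (Nat.card G).factorization q : ℕ) : ℂ) with hqb
  -- `tilde q Θ = q^b Θ`
  have h1 : tilde q Θ = qb • Θ := by
    funext x
    simp only [tilde, Pi.smul_apply, smul_eq_mul]
    split_ifs with hx
    · rw [hΘ0 x (hqs x hx), mul_zero]
    · rfl
  have h1' : tilde q Θ = ∑ χ : IrrCharacter G, c χ • tilde q (χ : G → ℂ) := tilde_sum q _ _ _
  -- comparing coefficients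
  have h2 : ∀ ψ : IrrCharacter G, qb * c ψ =
      ∑ χ : IrrCharacter G, c χ * AA q (χ : G → ℂ) (ψ : G → ℂ) := by
    intro ψ
    have e1 : classInner (tilde q Θ) (ψ : G → ℂ) = qb * c ψ := by
      rw [h1, classInner_smul_left, hΘ, classInner_sum_left]
      congr 1
      rw [Finset.sum_eq_single ψ]
      · rw [classInner_smul_left, irr_orthonormal, if_pos rfl, mul_one]
      · intro χ _ hχ
        rw [classInner_smul_left, irr_orthonormal, if_neg hχ, mul_zero]
      · intro h; exact absurd (Finset.mem_univ _) h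
    have e2 : classInner (tilde q Θ) (ψ : G → ℂ) =
        ∑ χ : IrrCharacter G, c χ * AA q (χ : G → ℂ) (ψ : G → ℂ) := by
      rw [h1', classInner_sum_left]
      refine Finset.sum_congr rfl fun χ _ => ?_
      rw [classInner_smul_left]; rfl
    rw [← e1, e2]
  -- the `B_q`-component
  set Ψ : G → ℂ := ∑ ψ : IrrCharacter G, (if ψ ∈ Bq then c ψ else 0) • (ψ : G → ℂ) with hΨ
  have hA0 : ∀ χ ψ : IrrCharacter G, χ ∈ Bq → ψ ∉ Bq → AA q (χ : G → ℂ) (ψ : G → ℂ) = 0 := by
    intro χ ψ hχ hψ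
    refine AA_eq_zero_of_not_sameBlock hMq χ ψ fun h => hψ ?_
    exact sameBlock_trans hχ h
  have hA0' : ∀ χ ψ : IrrCharacter G, χ ∉ Bq → ψ ∈ Bq → AA q (χ : G → ℂ) (ψ : G → ℂ) = 0 := by
    intro χ ψ hχ hψ
    refine AA_eq_zero_of_not_sameBlock hMq χ ψ fun h => hχ ?_
    exact sameBlock_trans hψ (sameBlock_symm h)
  have h3 : qb • Ψ = tilde q Ψ := by
    have e1 : tilde q Ψ = ∑ χ : IrrCharacter G, (if χ ∈ Bq then c χ else 0) •
        tilde q (χ : G → ℂ) := tilde_sum q _ _ _
    have e2 : ∀ χ : IrrCharacter G, tilde q (χ : G → ℂ) =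
        ∑ ψ : IrrCharacter G, AA q (χ : G → ℂ) (ψ : G → ℂ) • (ψ : G → ℂ) :=
      fun χ => classFunction_expansion _ (tilde_isClassFunction q (irr_isClassFunction χ))
    rw [e1, hΨ, Finset.smul_sum]
    have e3 : ∀ ψ : IrrCharacter G, qb • ((if ψ ∈ Bq then c ψ else 0) • (ψ : G → ℂ)) =
        ∑ χ : IrrCharacter G, (if χ ∈ Bq then (if ψ ∈ Bq then
          (c χ * AA q (χ : G → ℂ) (ψ : G → ℂ)) • (ψ : G → ℂ) else 0) else 0) := by
      intro ψ
      by_cases hψ : ψ ∈ Bq
      · simp only [if_pos hψ]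
        rw [smul_smul, h2 ψ, Finset.sum_smul]
        refine Finset.sum_congr rfl fun χ _ => ?_
        by_cases hχ : χ ∈ Bq
        · rw [if_pos hχ]
        · rw [if_neg hχ, hA0' χ ψ hχ hψ, mul_zero, zero_smul]
      · simp only [if_neg hψ, zero_smul, smul_zero]
        symm
        refine Finset.sum_eq_zero fun χ _ => ?_
        split_ifs <;> rfl
    rw [Finset.sum_congr rfl fun ψ _ => e3 ψ, Finset.sum_comm]
    refine Finset.sum_congr rfl fun χ _ => ?_
    by_cases hχ : χ ∈ Bq
    · simp only [if_pos hχ]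
      rw [e2 χ, Finset.smul_sum]
      refine Finset.sum_congr rfl fun ψ _ => ?_
      by_cases hψ : ψ ∈ Bq
      · rw [if_pos hψ, smul_smul]
      · rw [if_neg hψ, hA0 χ ψ hχ hψ, zero_smul, smul_zero]
    · simp only [if_neg hχ, zero_smul]
      exact Finset.sum_const_zero
  -- `Ψ` vanishes on `q`-singular elements
  have hqb0 : qb ≠ 0 := by
    rw [hqb]; exact_mod_cast (pow_pos hq.pos _).ne'
  have h4 : ∀ x : G, q ∣ orderOf x → Ψ x = 0 := by
    intro x hx
    have := congrFun h3 x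
    simp only [Pi.smul_apply, smul_eq_mul, tilde, if_pos hx] at this
    exact (mul_eq_zero.mp this).resolve_left hqb0
  -- restriction to a Sylow `q`-subgroup
  obtain ⟨Q⟩ : Nonempty (Sylow q G) := inferInstance
  haveI : Fintype (Q : Subgroup G) := Fintype.ofFinite _
  have hQcard : Nat.card (Q : Subgroup G) = q ^ (Nat.card G).factorization q :=
    Q.card_eq_multiplicity
  have h5 : ∑ u : (Q : Subgroup G), Ψ u = Ψ 1 := by
    rw [Finset.sum_eq_single (1 : (Q : Subgroup G))]
    · rfl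
    · intro u _ hu
      apply h4
      rw [Subgroup.orderOf_coe]
      obtain ⟨j, hj⟩ := Q.isPGroup' u
      have hdvd : orderOf u ∣ q ^ j := orderOf_dvd_of_pow_eq_one hj
      obtain ⟨i, _, hi⟩ := (Nat.dvd_prime_pow hq).mp hdvd
      rcases Nat.eq_zero_or_pos i with h0 | h0
      · rw [h0, pow_zero, orderOf_eq_one_iff] at hi
        exact absurd hi hu
      · exact hi ▸ dvd_pow_self q h0.ne'
    · intro h; exact absurd (Finset.mem_univ _) h
  -- multiplicities of the trivial character of `Q`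
  have hn : ∀ χ : IrrCharacter G, ∃ n : ℕ,
      ∑ u : (Q : Subgroup G), (χ : G → ℂ) u = qb * (n : ℂ) := by
    intro χ
    obtain ⟨n, hn⟩ := classInner_char_irr_nat
      (isCharacter_restrict (Q : Subgroup G) (isCharacter_of_irr χ.2))
      (Cfsg.Agent.Lib.H24.isIrrCharacter_one (G := (Q : Subgroup G)))
    refine ⟨n, ?_⟩
    rw [classInner] at hn
    simp only [Pi.one_apply, map_one, mul_one] at hn
    rw [← hn, hqb, ← hQcard]
    have hQ0 : (Nat.card (Q : Subgroup G) : ℂ) ≠ 0 := by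
      exact_mod_cast (Nat.card_pos (α := (Q : Subgroup G))).ne'
    field_simp
  choose n hn using hn
  have h6 : Ψ 1 = qb * ∑ χ : IrrCharacter G, (if χ ∈ Bq then c χ else 0) * (n χ : ℂ) := by
    rw [← h5, hΨ]
    simp only [Finset.sum_apply, Pi.smul_apply, smul_eq_mul]
    rw [Finset.sum_comm, Finset.mul_sum]
    refine Finset.sum_congr rfl fun χ _ => ?_
    rw [← Finset.mul_sum, hn χ]
    ring
  -- the algebraic integer
  have hint : IsIntegral ℤ (∑ χ : IrrCharacter G, (if χ ∈ Bq then c χ else 0) * (n χ : ℂ)) := by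
    refine IsIntegral.sum _ fun χ _ => ?_
    have hnat : IsIntegral ℤ ((n χ : ℂ)) := by
      have := isIntegral_algebraMap (R := ℤ) (A := ℂ) (x := (n χ : ℤ))
      simpa using this
    refine IsIntegral.mul ?_ hnat
    split_ifs
    · simp only [hc]
      split_ifs
      · exact irr_isIntegral χ y
      · exact isIntegral_zero
    · exact isIntegral_zero
  refine ⟨⟨_, hint⟩, ?_⟩
  have h7 : ∑ᶠ χ ∈ Bp ∩ Bq, (charDegree (χ : G → ℂ) : ℂ) * (χ : G → ℂ) y = Ψ 1 := by
    rw [finsum_mem_eq_sum_ite, hΨ]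
    simp only [Finset.sum_apply, Pi.smul_apply, smul_eq_mul]
    refine Finset.sum_congr rfl fun χ _ => ?_
    rw [apply_one_eq_charDegree _ χ.2]
    by_cases h1 : χ ∈ Bq
    · by_cases h2 : χ ∈ Bp
      · rw [if_pos (Set.mem_inter h2 h1), if_pos h1]
        simp only [hc, if_pos h2]
        ring
      · rw [if_neg (fun h => h2 h.1), if_pos h1]
        simp only [hc, if_neg h2, zero_mul]
    · rw [if_neg (fun h => h1 h.2), if_neg h1, zero_mul]
  rw [h7, h6, hqb]
  push_cast
  rfl

end Cfsg.Agent.S4731
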