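import Cfsg.Statements.S4733
import Cfsg.Agent.Lib.L0.TildeVal
import Cfsg.Agent.Lib.H23.BlockDefectZero
import Cfsg.Agent.S4667

set_option autoImplicit false
open Cfsg

namespace Cfsg.Agent.S4733

open Cfsg.Agent.Lib.H23 Cfsg.Agent.Lib.H24 Cfsg.Agent.Lib.L0 Cfsg.Agent.Lib.L0.Tilde
  Cfsg.Agent.Lib.L0.BlockMinMax Cfsg.Agent.S4667 Cfsg.Agent.Lib.H8
open scoped ComplexConjugate

/-- Let p be a prime, M a maximal ideal of the algebraic integers containing p, and B a p-block of the finite group G with k irreducible characters and p-regular rank l (the number of irreducible Brauer characters). Then l ≤ k, and the following are equivalent: B has defect 0; k = l = 1; k = l. -/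
theorem result {G : Type*} [Group G] [Finite G] (p : ℕ) [Fact p.Prime] (M : Ideal Cfsg.AlgInt) (hM : Cfsg.IsPModular p M) (B : Set (Cfsg.IrrCharacter G)) (hB : Cfsg.IsPBlock M B) : Cfsg.blockRank p B ≤ Nat.card B ∧ (Cfsg.blockDefect p B = 0 ↔ (Nat.card B = 1 ∧ Cfsg.blockRank p B = 1)) ∧ (Cfsg.blockDefect p B = 0 ↔ Nat.card B = Cfsg.blockRank p B) := by
  classical
  haveI := Fintype.ofFinite G
  haveI := Fintype.ofFinite (IrrCharacter G)
  haveI hP := isPrime_of_isPModular hM
  have hp : p.Prime := Fact.out
  obtain ⟨χ₀, rfl⟩ := hB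
  set B := blockOf M (χ₀ : G → ℂ) with hBdef
  set a := (Nat.card G).factorization p with ha
  set e := minDeg p B with he
  have hea : e ≤ a := minDeg_le_card (p := p) (M := M) χ₀
  have hd : blockDefect p B = a - e := rfl
  set f : IrrCharacter G → (G → ℂ) := fun χ => pRegularPart p (χ : G → ℂ) with hf
  have hrank : blockRank p B = (f '' B).finrank ℂ := rfl
  -- (1)
  have h1 : blockRank p B ≤ Nat.card B := by
    rw [hrank]
    have hcoe : (f '' B) = ((B.toFinset.image f : Finset (G → ℂ)) : Set (G → ℂ)) := by
      ext x; simp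
    rw [hcoe]
    refine (finrank_span_finset_le_card _).trans ?_
    refine Finset.card_image_le.trans ?_
    rw [Set.toFinset_card, Nat.card_eq_fintype_card]
  -- defect zero gives a singleton
  have h2 : blockDefect p B = 0 → Nat.card B = 1 ∧ blockRank p B = 1 := by
    intro h0
    have hVne : ((fun χ : IrrCharacter G =>
        (charDegree (χ : G → ℂ)).factorization p) '' B).Nonempty :=
      ⟨_, χ₀, mem_blockOf_self χ₀, rfl⟩
    obtain ⟨ψ, hψ, hψe⟩ := Nat.sInf_mem hVne
    have hψe' : (charDegree (ψ : G → ℂ)).factorization p = e := hψe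
    have hψa : (charDegree (ψ : G → ℂ)).factorization p = a := by omega
    have hnd : ¬ p ∣ Nat.card G / charDegree (ψ : G → ℂ) := by
      have hdvd := charDegree_dvd_card (ψ : G → ℂ) ψ.2
      have hdeg0 : charDegree (ψ : G → ℂ) ≠ 0 := (charDegree_pos _ ψ.2).ne'
      intro hdiv
      have h3 : (Nat.card G / charDegree (ψ : G → ℂ)).factorization p = 0 := by
        rw [Nat.factorization_div hdvd]
        simp only [Finsupp.coe_tsub, Pi.sub_apply]
        omega
      have h4 : 0 < (Nat.card G / charDegree (ψ : G → ℂ)).factorization p := by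
        apply Nat.Prime.factorization_pos_of_dvd hp _ hdiv
        exact (Nat.div_pos (Nat.le_of_dvd Nat.card_pos hdvd) (Nat.pos_of_ne_zero hdeg0)).ne'
      omega
    have hsing : blockOf M (ψ : G → ℂ) = {ψ} := (not_dvd_iff_blockOf_eq_singleton hM ψ).mp hnd
    have hBeq : B = {ψ} := by
      rw [← hsing]
      ext χ
      constructor
      · intro hχ
        exact sameBlock_trans (sameBlock_symm hψ) hχ
      · intro hχ
        exact sameBlock_trans hψ hχ
    constructor
    · rw [hBeq]; simp
    · rw [hrank, hBeq, Set.image_singleton]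
      apply finrank_span_singleton
      intro h0'
      have := congrFun h0' 1
      simp only [hf, pRegularPart_eq, Pi.zero_apply] at this
      rw [if_neg (by rw [orderOf_one]; exact fun h => hp.one_lt.ne' (Nat.dvd_one.mp h))] at this
      exact irr_one_ne_zero ψ this
  -- `k = l` gives defect zero
  have h3 : Nat.card B = blockRank p B → blockDefect p B = 0 := by
    intro hkl
    have hli : LinearIndependent ℂ (fun χ : B => f (χ : IrrCharacter G)) := by
      rw [linearIndependent_iff_card_eq_finrank_span]
      have hr : Set.range (fun χ : B => f (χ : IrrCharacter G)) = f '' B := by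
        ext x; simp
      rw [hr, ← hrank, ← hkl, Nat.card_eq_fintype_card]
    -- every member of `B` vanishes on `p`-singular elements
    have hvan : ∀ ψ : IrrCharacter G, ψ ∈ B → f ψ = (ψ : G → ℂ) := by
      intro ψ hψ
      have hcl : IsClassFunction G (f ψ) := pRegularPart_isClassFunction p (irr_isClassFunction ψ)
      have hexp := classFunction_expansion _ hcl
      have hz : ∀ χ : IrrCharacter G, χ ∉ B → classInner (f ψ) (χ : G → ℂ) = 0 := by
        intro χ hχ
        rw [hf, classInner_pRegularPart p hp]
        have h0 : AA p (ψ : G → ℂ) (χ : G → ℂ) = 0 := by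
          refine AA_eq_zero_of_not_sameBlock hM ψ χ fun h => hχ ?_
          exact sameBlock_trans hψ h
        rw [h0, mul_zero]
      have h2 : f ψ = ∑ χ : IrrCharacter G, classInner (f ψ) (χ : G → ℂ) • f χ := by
        have : pRegularPart p (f ψ) = f ψ := pRegularPart_idem p _
        conv_lhs => rw [← this, hexp]
        exact pRegularPart_sum p _ _ _
      -- as a sum over `B`
      have h3 : ∑ χ : B, (classInner (f ψ) ((χ : IrrCharacter G) : G → ℂ) -
          if (χ : IrrCharacter G) = ψ then 1 else 0) • f (χ : IrrCharacter G) = 0 := by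
        simp only [sub_smul, Finset.sum_sub_distrib]
        have e1 : ∑ χ : B, classInner (f ψ) ((χ : IrrCharacter G) : G → ℂ) • f (χ : IrrCharacter G)
            = f ψ := by
          conv_rhs => rw [h2]
          rw [← Finset.sum_subtype (s := B.toFinset) (p := fun χ => χ ∈ B) (by simp)
            (f := fun χ => classInner (f ψ) (χ : G → ℂ) • f χ)]
          apply Finset.sum_subset (Finset.subset_univ _)
          intro χ _ hχ
          rw [Set.mem_toFinset] at hχ
          rw [hz χ hχ, zero_smul]
        have e2 : ∑ χ : B, (if (χ : IrrCharacter G) = ψ then (1 : ℂ) else 0) • f (χ : IrrCharacter G)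
            = f ψ := by
          rw [Finset.sum_eq_single (⟨ψ, hψ⟩ : B)]
          · simp
          · intro χ _ hχ
            have : (χ : IrrCharacter G) ≠ ψ := fun h => hχ (Subtype.ext h)
            rw [if_neg this, zero_smul]
          · intro h; exact absurd (Finset.mem_univ _) h
        rw [e1, e2, sub_self]
      have h4 := Fintype.linearIndependent_iff.mp hli _ h3
      -- so the expansion of `f ψ` is `ψ`
      conv_lhs => rw [hexp]
      rw [Finset.sum_eq_single ψ]
      · have := h4 ⟨ψ, hψ⟩
        rw [if_pos rfl] at this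
        rw [sub_eq_zero.mp this, one_smul]
      · intro χ _ hχ
        by_cases hχB : χ ∈ B
        · have := h4 ⟨χ, hχB⟩
          simp only [if_neg hχ, sub_zero] at this
          rw [this, zero_smul]
        · rw [hz χ hχB, zero_smul]
      · intro h; exact absurd (Finset.mem_univ _) h
    -- degrees divisible by `p ^ a`
    have hdeg : ∀ ψ : IrrCharacter G, ψ ∈ B → a ≤ (charDegree (ψ : G → ℂ)).factorization p := by
      intro ψ hψ
      have hv := hvan ψ hψ
      have h0 : ∀ x : G, p ∣ orderOf x → (ψ : G → ℂ) x = 0 := by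
        intro x hx
        rw [← hv]
        simp only [hf, pRegularPart_eq, if_pos hx]
      obtain ⟨k, hk⟩ := exists_int_apply_one_of_vanish hp
        (isGeneralizedCharacter_of_isCharacter (isCharacter_of_irr ψ.2)) h0
      rw [apply_one_eq_charDegree _ ψ.2] at hk
      have hk' : (charDegree (ψ : G → ℂ) : ℤ) = k * ((p ^ a : ℕ) : ℤ) := by exact_mod_cast hk
      have hdvd : ((p ^ a : ℕ) : ℤ) ∣ (charDegree (ψ : G → ℂ) : ℤ) := ⟨k, by rw [hk', mul_comm]⟩
      have hdvd' : p ^ a ∣ charDegree (ψ : G → ℂ) := by exact_mod_cast hdvd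
      exact (hp.pow_dvd_iff_le_factorization (charDegree_pos _ ψ.2).ne').mp hdvd'
    have hVne : ((fun χ : IrrCharacter G =>
        (charDegree (χ : G → ℂ)).factorization p) '' B).Nonempty :=
      ⟨_, χ₀, mem_blockOf_self χ₀, rfl⟩
    obtain ⟨ψ, hψ, hψe⟩ := Nat.sInf_mem hVne
    have hψe' : (charDegree (ψ : G → ℂ)).factorization p = e := hψe
    have := hdeg ψ hψ
    omega
  refine ⟨h1, ⟨h2, fun h => h3 (by rw [h.1, h.2])⟩, ⟨fun h => ?_, h3⟩⟩
  obtain ⟨hk, hl⟩ := h2 h
  rw [hk, hl]

end Cfsg.Agent.S4733
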