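import Cfsg.Statements.S4735
import Cfsg.Agent.S4664
import Cfsg.Agent.S4517
import Cfsg.Agent.Lib.L0.PrincipalQuot
import Cfsg.Agent.Lib.L0.FrobTICoh
import Cfsg.Agent.Lib.H23.BlockDefect

set_option autoImplicit false
open Cfsg

namespace Cfsg.Agent.S4735

open Cfsg.Agent.Lib.H23 Cfsg.Agent.Lib.H24 Cfsg.Agent.Lib.L0
  Cfsg.Agent.Lib.L0.PrincipalCrit Cfsg.Agent.Lib.L0.PrincipalQuot Cfsg.Agent.S4664
open scoped ComplexConjugate

theorem finsum_mem_eq_sum_filter {ι α : Type*} [Fintype ι] [AddCommMonoid α] (B : Set ι)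
    [DecidablePred (· ∈ B)] (f : ι → α) :
    ∑ᶠ i ∈ B, f i = ∑ i ∈ Finset.univ.filter (· ∈ B), f i := by
  rw [finsum_mem_eq_finite_toFinset_sum _ (Set.toFinite B)]
  congr 1
  ext i
  simp

section
variable {G : Type*} [Group G] [Fintype G] {p : ℕ} [Fact p.Prime] {M : Ideal AlgInt}

/-- The principal block is stable under all Galois conjugations `χ ↦ χ ∘ (· ^ k)`. -/
theorem gc_mem_principalBlock (hM : IsPModular p M) {k : ℕ} (hk : k.Coprime (Nat.card G))
    {χ : IrrCharacter G} (hχ : χ ∈ principalBlock M G) : gc k hk χ ∈ principalBlock M G := by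
  classical
  rw [mem_principalBlock_iff hM, charEval_regSum] at hχ ⊢
  have h1 : ∑ x : G, (if p ∣ orderOf x then 0 else (gc k hk χ : G → ℂ) x) =
      ∑ x : G, (fun y : G => if p ∣ orderOf y then 0 else (χ : G → ℂ) y) (powCoprime hk.symm x) := by
    refine Finset.sum_congr rfl fun x _ => ?_
    have ho : orderOf (x ^ k) = orderOf x :=
      Nat.Coprime.orderOf_pow (hk.symm.coprime_dvd_left (orderOf_dvd_natCard x))
    simp only [powCoprime_apply, gc_apply, ho]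
  rw [h1, Equiv.sum_comp (powCoprime hk.symm)
    (fun y : G => if p ∣ orderOf y then 0 else (χ : G → ℂ) y)]
  exact hχ

theorem trivIrr_mem_principalBlock (hM : IsPModular p M) : trivIrr G ∈ principalBlock M G := by
  have hPr := isPrime_of_isPModular hM
  exact sameBlock_refl _

/-- `∑_{χ ∈ B₀} χ(x) χ(x⁻¹)` is a rational integer. -/
theorem exists_int_sum (hM : IsPModular p M) [Fintype (IrrCharacter G)]
    [DecidablePred (· ∈ principalBlock M G)] (x : G) :
    ∃ z : ℤ, ∑ χ ∈ Finset.univ.filter (· ∈ principalBlock M G),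
      (χ : G → ℂ) x * (χ : G → ℂ) x⁻¹ = (z : ℂ) := by
  classical
  set n := Nat.card G with hn
  have hn0 : 0 < n := Nat.card_pos
  haveI : NeZero n := ⟨hn0.ne'⟩
  set Bf : Finset (IrrCharacter G) := Finset.univ.filter (· ∈ principalBlock M G) with hBf
  have hgn : ∀ g : G, g ^ n = 1 := fun g => by rw [hn]; exact pow_card_eq_one'
  have hx : ∀ (g : G) (χ : IrrCharacter G), ∃ y : CyclotomicField n ℚ,
      ∀ σ : Gal(CyclotomicField n ℚ/ℚ),
        cycEmb n (σ y) = (χ : G → ℂ) (g ^ (cycPow n σ).val) := by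
    intro g χ
    obtain ⟨d, ρ, _, hρ⟩ := χ.2
    obtain ⟨y, hy⟩ := exists_cyc_char n ρ g (hgn g)
    exact ⟨y, fun σ => by rw [hy σ, hρ]⟩
  choose X hX using hx
  set y : CyclotomicField n ℚ := ∑ χ ∈ Bf, X x χ * X x⁻¹ χ with hy
  have hemb : ∀ σ : Gal(CyclotomicField n ℚ/ℚ), cycEmb n (σ y) =
      ∑ χ ∈ Bf, (χ : G → ℂ) (x ^ (cycPow n σ).val) * (χ : G → ℂ) (x⁻¹ ^ (cycPow n σ).val) := by
    intro σ
    rw [hy, map_sum, map_sum]
    refine Finset.sum_congr rfl fun χ _ => ?_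
    rw [map_mul, map_mul, hX x χ σ, hX x⁻¹ χ σ]
  have hemb1 : cycEmb n y = ∑ χ ∈ Bf, (χ : G → ℂ) x * (χ : G → ℂ) x⁻¹ := by
    have := hemb 1
    simpa [cycPow, pow_val_one_eq n x (hgn x), pow_val_one_eq n x⁻¹ (hgn x⁻¹)] using this
  have hfix : ∀ σ : Gal(CyclotomicField n ℚ/ℚ), σ y = y := by
    intro σ
    set k := (cycPow n σ).val with hk
    have hkcop : k.Coprime n := ZMod.val_coe_unit_coprime (cycGalEquiv n σ)
    apply cycEmb_injective n
    have h1 := hemb σ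
    rw [← hk] at h1
    rw [h1, hemb1]
    have hstab : ∀ χ ∈ Bf, gc k hkcop χ ∈ Bf := by
      intro χ hχ
      rw [hBf, Finset.mem_filter] at hχ ⊢
      exact ⟨Finset.mem_univ _, gc_mem_principalBlock hM hkcop hχ.2⟩
    have := sum_gc_eq Bf hkcop hstab (fun χ => (χ : G → ℂ) x * (χ : G → ℂ) x⁻¹)
    simp only [gc_apply] at this
    exact this
  have hbot : y ∈ (⊥ : IntermediateField ℚ (CyclotomicField n ℚ)) := by
    rw [IsGalois.mem_bot_iff_fixed]
    exact hfix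
  obtain ⟨q, hq⟩ := IntermediateField.mem_bot.mp hbot
  have hrat : ∑ χ ∈ Bf, (χ : G → ℂ) x * (χ : G → ℂ) x⁻¹ = (q : ℂ) := by
    rw [← hemb1, ← hq]
    simp
  have hint : IsIntegral ℤ (∑ χ ∈ Bf, (χ : G → ℂ) x * (χ : G → ℂ) x⁻¹) :=
    IsIntegral.sum _ fun χ _ => (irr_isIntegral χ x).mul (irr_isIntegral χ x⁻¹)
  exact FrobTI.int_of_isIntegral_of_rat hint q hrat

end

/-- Let p be a prime, M a maximal ideal of the algebraic integers containing p, G a finite group, H = O_p'(G) and Ḡ = G/H. For x ∈ G write λ(G, x) for the sum of |χ(x)|^2 over the irreducible characters χ in the principal p-block of G. Then λ(G, x) is a positive integer, λ(G, x) = λ(Ḡ, x̄) where x̄ is the image of x, and λ(G, x) ≤ #C_Ḡ(x̄). Moreover λ(G, 1) = [G : H] if and only if the principal block is the only p-block of Ḡ. -/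
theorem result {G : Type*} [Group G] [Finite G] (p : ℕ) [Fact p.Prime] (M : Ideal Cfsg.AlgInt) (hM : Cfsg.IsPModular p M) (x : G) : (∃ n : ℕ, 0 < n ∧ ∑ᶠ χ ∈ Cfsg.principalBlock M G, Complex.normSq ((χ : G → ℂ) x) = n) ∧ ∑ᶠ χ ∈ Cfsg.principalBlock M G, Complex.normSq ((χ : G → ℂ) x) = ∑ᶠ ψ ∈ Cfsg.principalBlock M (G ⧸ Cfsg.pPrimeCore p G), Complex.normSq ((ψ : G ⧸ Cfsg.pPrimeCore p G → ℂ) (QuotientGroup.mk x)) ∧ ∑ᶠ χ ∈ Cfsg.principalBlock M G, Complex.normSq ((χ : G → ℂ) x) ≤ (Nat.card ↥(Subgroup.centralizer ({(QuotientGroup.mk x : G ⧸ Cfsg.pPrimeCore p G)} : Set (G ⧸ Cfsg.pPrimeCore p G))) : ℝ) ∧ ((∑ᶠ χ ∈ Cfsg.principalBlock M G, Cfsg.charDegree (χ : G → ℂ) ^ 2) = (Cfsg.pPrimeCore p G).index ↔ ∀ B : Set (Cfsg.IrrCharacter (G ⧸ Cfsg.pPrimeCore p G)), Cfsg.IsPBlock M B → B = Cfsg.principalBlock M (G ⧸ Cfsg.pPrimeCore p G)) := by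
  classical
  haveI := Fintype.ofFinite G
  have hPr := isPrime_of_isPModular hM
  have hp : p.Prime := Fact.out
  set K := pPrimeCore p G with hK
  haveI := Fintype.ofFinite (G ⧸ K)
  haveI := Fintype.ofFinite (IrrCharacter G)
  haveI := Fintype.ofFinite (IrrCharacter (G ⧸ K))
  have hKp : ¬ p ∣ Nat.card K := Cfsg.Agent.Lib.H22.not_dvd_card_pPrimeCore hp
  set Bf : Finset (IrrCharacter G) := Finset.univ.filter (· ∈ principalBlock M G) with hBf
  set Bq : Finset (IrrCharacter (G ⧸ K)) :=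
    Finset.univ.filter (· ∈ principalBlock M (G ⧸ K)) with hBq
  have himg : Bf = Bq.image (inflIrr K) := by
    ext χ
    rw [hBf, Finset.mem_filter, Finset.mem_image]
    constructor
    · rintro ⟨-, hχ⟩
      obtain ⟨ψ, hψ, rfl⟩ := exists_of_mem_principalBlock hM K hKp χ hχ
      exact ⟨ψ, by rw [hBq, Finset.mem_filter]; exact ⟨Finset.mem_univ _, hψ⟩, rfl⟩
    · rintro ⟨ψ, hψ, rfl⟩
      rw [hBq, Finset.mem_filter] at hψ
      exact ⟨Finset.mem_univ _, (inflIrr_mem_principalBlock_iff hM K hKp ψ).mpr hψ.2⟩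
  have hsum : ∀ {α : Type} [AddCommMonoid α] (f : IrrCharacter G → α),
      ∑ χ ∈ Bf, f χ = ∑ ψ ∈ Bq, f (inflIrr K ψ) := by
    intro α _ f
    rw [himg, Finset.sum_image fun a _ b _ h => inflIrr_injective K h]
  -- clause 2
  have h2 : ∑ χ ∈ Bf, Complex.normSq ((χ : G → ℂ) x) =
      ∑ ψ ∈ Bq, Complex.normSq ((ψ : G ⧸ K → ℂ) (QuotientGroup.mk x)) := by
    rw [hsum]
    rfl
  -- clause 3
  have h3 : ∑ ψ ∈ Bq, Complex.normSq ((ψ : G ⧸ K → ℂ) (QuotientGroup.mk x)) ≤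
      (Nat.card ↥(Subgroup.centralizer ({(QuotientGroup.mk x : G ⧸ K)} : Set (G ⧸ K))) : ℝ) := by
    have hso := second_orthogonality (G := G ⧸ K) (QuotientGroup.mk x) (QuotientGroup.mk x)
    rw [if_pos (IsConj.refl _)] at hso
    have hall : ∑ ψ : IrrCharacter (G ⧸ K),
        Complex.normSq ((ψ : G ⧸ K → ℂ) (QuotientGroup.mk x)) =
        (Nat.card ↥(Subgroup.centralizer ({(QuotientGroup.mk x : G ⧸ K)} : Set (G ⧸ K))) : ℝ) := by
      apply Complex.ofReal_injective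
      rw [Complex.ofReal_sum, Complex.ofReal_natCast, ← hso]
      refine Finset.sum_congr rfl fun ψ _ => ?_
      rw [Complex.mul_conj]
    rw [← hall]
    exact Finset.sum_le_sum_of_subset_of_nonneg (Finset.filter_subset _ _)
      fun ψ _ _ => Complex.normSq_nonneg _
  -- clause 1
  have h1 : ∃ n : ℕ, 0 < n ∧ ∑ χ ∈ Bf, Complex.normSq ((χ : G → ℂ) x) = n := by
    obtain ⟨z, hz⟩ := exists_int_sum hM x
    have hS : ((∑ χ ∈ Bf, Complex.normSq ((χ : G → ℂ) x) : ℝ) : ℂ) = (z : ℂ) := by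
      rw [← hz, Complex.ofReal_sum]
      refine Finset.sum_congr rfl fun χ _ => ?_
      rw [irr_inv, Complex.mul_conj]
    have hS' : ∑ χ ∈ Bf, Complex.normSq ((χ : G → ℂ) x) = (z : ℝ) := by
      apply Complex.ofReal_injective
      rw [hS]
      simp
    have hge : (1 : ℝ) ≤ ∑ χ ∈ Bf, Complex.normSq ((χ : G → ℂ) x) := by
      have hmem : trivIrr G ∈ Bf := by
        rw [hBf, Finset.mem_filter]
        exact ⟨Finset.mem_univ _, trivIrr_mem_principalBlock hM⟩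
      have := Finset.single_le_sum (f := fun χ : IrrCharacter G => Complex.normSq ((χ : G → ℂ) x))
        (fun χ _ => Complex.normSq_nonneg _) hmem
      simpa [trivIrr_apply] using this
    rw [hS'] at hge
    have hz1 : 1 ≤ z := by exact_mod_cast hge
    refine ⟨z.toNat, by omega, ?_⟩
    rw [hS']
    have : ((z.toNat : ℤ) : ℝ) = (z : ℝ) := by rw [Int.toNat_of_nonneg (by omega)]
    exact_mod_cast this.symm
  have hfs : ∑ᶠ χ ∈ principalBlock M G, Complex.normSq ((χ : G → ℂ) x) =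
      ∑ χ ∈ Bf, Complex.normSq ((χ : G → ℂ) x) := finsum_mem_eq_sum_filter _ _
  have hfsq : ∑ᶠ ψ ∈ principalBlock M (G ⧸ K),
      Complex.normSq ((ψ : G ⧸ K → ℂ) (QuotientGroup.mk x)) =
      ∑ ψ ∈ Bq, Complex.normSq ((ψ : G ⧸ K → ℂ) (QuotientGroup.mk x)) :=
    finsum_mem_eq_sum_filter _ _
  have hfd : ∑ᶠ χ ∈ principalBlock M G, charDegree (χ : G → ℂ) ^ 2 =
      ∑ χ ∈ Bf, charDegree (χ : G → ℂ) ^ 2 := finsum_mem_eq_sum_filter _ _
  refine ⟨?_, ?_, ?_, ?_⟩
  · rw [hfs]; exact h1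
  · rw [hfs, hfsq]; exact h2
  · rw [hfs, h2]; exact h3
  · rw [hfd, hsum]
    simp only [charDegree_inflIrr]
    -- total sum of squares
    have htot : ∑ ψ : IrrCharacter (G ⧸ K), charDegree (ψ : G ⧸ K → ℂ) ^ 2 = K.index := by
      have h := sum_irr_one_sq (G := G ⧸ K)
      have h' : ((∑ ψ : IrrCharacter (G ⧸ K), charDegree (ψ : G ⧸ K → ℂ) ^ 2 : ℕ) : ℂ) =
          (Nat.card (G ⧸ K) : ℂ) := by
        rw [← h]
        push_cast
        refine Finset.sum_congr rfl fun ψ _ => ?_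
        rw [apply_one_eq_charDegree _ ψ.2]
      have h'' : ∑ ψ : IrrCharacter (G ⧸ K), charDegree (ψ : G ⧸ K → ℂ) ^ 2 =
          Nat.card (G ⧸ K) := by exact_mod_cast h'
      rw [h'', Subgroup.index]
    have hpos : ∀ ψ : IrrCharacter (G ⧸ K), 0 < charDegree (ψ : G ⧸ K → ℂ) ^ 2 := by
      intro ψ
      have : 0 < charDegree (ψ : G ⧸ K → ℂ) := Cfsg.Agent.Lib.H24.charDegree_pos ψ
      positivity
    constructor
    · intro heq B hB
      obtain ⟨ψ₀, rfl⟩ := hB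
      have hall : ∀ ψ : IrrCharacter (G ⧸ K), ψ ∈ Bq := by
        intro ψ
        by_contra hψ
        have hlt : ∑ ψ ∈ Bq, charDegree (ψ : G ⧸ K → ℂ) ^ 2 <
            ∑ ψ : IrrCharacter (G ⧸ K), charDegree (ψ : G ⧸ K → ℂ) ^ 2 :=
          Finset.sum_lt_sum_of_subset (Finset.subset_univ _) (Finset.mem_univ ψ) hψ (hpos ψ)
            fun _ _ _ => Nat.zero_le _
        rw [heq, htot] at hlt
        exact lt_irrefl _ hlt
      have h0 := hall ψ₀
      rw [hBq, Finset.mem_filter] at h0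
      exact Cfsg.Agent.S4517.blockOf_eq_principalBlock ψ₀ (sameBlock_symm h0.2)
    · intro hall
      have hBq' : Bq = Finset.univ := by
        rw [hBq, Finset.filter_eq_self]
        intro ψ _
        have := hall (blockOf M (ψ : G ⧸ K → ℂ)) ⟨ψ, rfl⟩
        rw [← this]
        exact sameBlock_refl _
      rw [hBq', htot]

end Cfsg.Agent.S4735
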