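import Cfsg.Statements.S4736
import Cfsg.Agent.Lib.H23.ItoMichlerPSolv
import Cfsg.Agent.Lib.H23.UniqueBlock
import Cfsg.Agent.Lib.H23.Ito
import Cfsg.Agent.Lib.L0.PrincipalQuot
import Cfsg.Agent.Lib.H9.PPrimeCore
import Cfsg.Agent.Lib.H10.PSolvable
import Cfsg.Agent.Lib.H10.PSolvable2
import Cfsg.Agent.Lib.H27.Basic
open Cfsg.Agent.Lib.H23 Cfsg.Agent.Lib.L0 Cfsg.Agent.Lib.H24 Cfsg.Agent.Lib.L0.PrincipalQuot

set_option autoImplicit false
open Cfsg

namespace Cfsg.Agent.S4736

/-- Let p be a prime, M a maximal ideal of the algebraic integers containing p, and G a finite p-solvable group with Sylow p-subgroup P. Then P is abelian if and only if every irreducible character in the principal p-block of G has height zero. -/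
theorem result {G : Type*} [Group G] [Finite G] (p : ℕ) [Fact p.Prime] (M : Ideal Cfsg.AlgInt) (hM : Cfsg.IsPModular p M) (hsolv : Cfsg.IsPSolvable p G) (P : Sylow p G) : IsMulCommutative P ↔ ∀ χ ∈ Cfsg.principalBlock M G, Cfsg.blockHeight p (Cfsg.principalBlock M G) (χ : G → ℂ) = 0 := by
  classical
  haveI := Fintype.ofFinite G
  haveI hPr := isPrime_of_isPModular hM
  have hp : p.Prime := Fact.out
  set N := pPrimeCore p G with hNdef
  haveI hNn : N.Normal := Cfsg.Agent.Lib.H22.pPrimeCore_normal p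
  have hNc : (Nat.card N).Coprime p := Cfsg.Agent.Lib.H22.card_pPrimeCore_coprime p
  have hN : ¬ p ∣ Nat.card N := fun h =>
    hp.one_lt.ne' (Nat.Coprime.eq_one_of_dvd hNc.symm h)
  haveI : Fintype (G ⧸ N) := Fintype.ofFinite _
  have hsolvq : IsPSolvable p (G ⧸ N) := Cfsg.Agent.Lib.H10.isPSolvable_quotient hsolv N
  have hOq : pPrimeCore p (G ⧸ N) = ⊥ := Cfsg.Agent.Lib.H9.pPrimeCore_quotient_eq_bot p
  have hHH := Cfsg.Agent.Lib.H10.centralizer_pCore_le_of_isPSolvable p hsolvq hOq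
  set Pq : Sylow p (G ⧸ N) := P.mapSurjective (QuotientGroup.mk'_surjective N) with hPq
  have hInf : sInf ((fun ψ : IrrCharacter G => (charDegree (ψ : G → ℂ)).factorization p) ''
      principalBlock M G) = 0 := by
    apply Nat.sInf_eq_zero.2
    left
    refine ⟨trivialIrr G, trivialIrr_mem_principalBlock, ?_⟩
    have h1 : charDegree (trivialIrr G : G → ℂ) = 1 :=
      charDegree_eq_of_apply_one (by simp)
    simp only [h1]
    simp
  have hheight : ∀ χ : IrrCharacter G,
      blockHeight p (principalBlock M G) (χ : G → ℂ) = 0 ↔ ¬ p ∣ charDegree (χ : G → ℂ) := by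
    intro χ
    unfold blockHeight
    rw [hInf, Nat.sub_zero, Nat.factorization_eq_zero_iff]
    have h0 : charDegree (χ : G → ℂ) ≠ 0 := (Cfsg.Agent.Lib.H24.charDegree_pos χ).ne'
    constructor
    · rintro (h | h | h)
      · exact absurd hp h
      · exact h
      · exact absurd h h0
    · intro h
      exact Or.inr (Or.inl h)
  constructor
  · intro hab χ hχ
    rw [hheight]
    obtain ⟨ψ, hψ, rfl⟩ := exists_of_mem_principalBlock hM N hN χ hχ
    rw [charDegree_inflIrr]
    have hPqab : ∀ a ∈ (Pq : Subgroup (G ⧸ N)), ∀ b ∈ (Pq : Subgroup (G ⧸ N)), a * b = b * a := by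
      rw [hPq, Sylow.coe_mapSurjective]
      rintro _ ⟨a, ha, rfl⟩ _ ⟨b, hb, rfl⟩
      rw [← map_mul, ← map_mul]
      congr 1
      exact congrArg Subtype.val (isMulCommutative_iff.1 hab ⟨a, ha⟩ ⟨b, hb⟩)
    have hle : pCore p (G ⧸ N) ≤ Pq := Cfsg.Agent.Lib.H27.pCore_le_sylow Pq
    have hPqle : (Pq : Subgroup (G ⧸ N)) ≤ pCore p (G ⧸ N) := by
      refine le_trans ?_ hHH
      intro x hx
      rw [Subgroup.mem_centralizer_iff]
      intro y hy
      exact hPqab y (hle hy) x hx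
    have hPqeq : (Pq : Subgroup (G ⧸ N)) = pCore p (G ⧸ N) := le_antisymm hPqle hle
    haveI : (Pq : Subgroup (G ⧸ N)).Normal := hPqeq ▸ Cfsg.Agent.Lib.H27.pCore_normal'
    obtain ⟨d, hd1, hd2⟩ := ito_char (Pq : Subgroup (G ⧸ N)) hPqab ψ.2
    have h1 : charDegree (ψ : G ⧸ N → ℂ) = d := charDegree_eq_of_apply_one hd1
    rw [h1]
    intro hpd
    exact Pq.not_dvd_index (hpd.trans hd2)
  · intro hall
    have hdegq : ∀ ψ : IrrCharacter (G ⧸ N), ¬ p ∣ charDegree (ψ : G ⧸ N → ℂ) := by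
      intro ψ
      haveI : (pCore p (G ⧸ N)).Normal := Cfsg.Agent.Lib.H27.pCore_normal'
      have h1 : ψ ∈ principalBlock M (G ⧸ N) :=
        Cfsg.Agent.Lib.H23.UniqueBlock.mem_blockOf_of_centralizer_le hM (pCore p (G ⧸ N))
          Cfsg.Agent.Lib.H27.pCore_isPGroup hHH (trivialIrr (G ⧸ N)) ψ
      have h2 := (inflIrr_mem_principalBlock_iff hM N hN ψ).2 h1
      have h3 := (hheight _).1 (hall _ h2)
      rwa [charDegree_inflIrr] at h3
    obtain ⟨-, hab⟩ := Cfsg.Agent.Lib.H23.ItoMichler.ito_michler_pSolvable hsolvq hdegq Pq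
    rw [isMulCommutative_iff]
    intro a b
    apply Subtype.ext
    have hma : QuotientGroup.mk' N (a : G) ∈ (Pq : Subgroup (G ⧸ N)) := by
      rw [hPq, Sylow.coe_mapSurjective]; exact Subgroup.mem_map_of_mem _ a.2
    have hmb : QuotientGroup.mk' N (b : G) ∈ (Pq : Subgroup (G ⧸ N)) := by
      rw [hPq, Sylow.coe_mapSurjective]; exact Subgroup.mem_map_of_mem _ b.2
    have h1 := hab _ hma _ hmb
    rw [← map_mul, ← map_mul] at h1
    have h2 : ((b : G) * (a : G))⁻¹ * ((a : G) * (b : G)) ∈ N := QuotientGroup.eq.1 h1.symm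
    have h3 : ((b : G) * (a : G))⁻¹ * ((a : G) * (b : G)) ∈ (P : Subgroup G) :=
      (P : Subgroup G).mul_mem ((P : Subgroup G).inv_mem ((P : Subgroup G).mul_mem b.2 a.2))
        ((P : Subgroup G).mul_mem a.2 b.2)
    have hPN : (P : Subgroup G) ⊓ N = ⊥ := by
      refine (Subgroup.disjoint_of_coprime_natCard ?_).eq_bot
      obtain ⟨m, hm⟩ := IsPGroup.iff_card.1 P.isPGroup'
      rw [hm]
      exact (Nat.Coprime.pow_left m hNc.symm)
    have h4 : ((b : G) * (a : G))⁻¹ * ((a : G) * (b : G)) ∈ (P : Subgroup G) ⊓ N := ⟨h3, h2⟩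
    rw [hPN, Subgroup.mem_bot] at h4
    have h5 : (a : G) * (b : G) = (b : G) * (a : G) := by
      have := congrArg (fun x => (b : G) * (a : G) * x) h4
      simpa [mul_assoc] using this
    exact h5

end Cfsg.Agent.S4736
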