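import Cfsg.Statements.S4737
import Mathlib
import Cfsg.Agent.Lib.H23.DefZero3D

set_option autoImplicit false
open Cfsg

namespace Cfsg.Agent.S4737

open scoped ComplexConjugate
open Cfsg.Agent.Lib.H23 Cfsg.Agent.Lib.H24 Cfsg.Agent.Lib.L0 Cfsg.Agent.Lib.H23.DefZero3

theorem main_aux {G : Type*} [Group G] [Fintype G] [Fintype (IrrCharacter G)]
    {M : Ideal AlgInt} (hM : IsPModular 2 M)
    [Fintype {C : ConjClasses G // ∃ g ∈ C.carrier, orderOf g = 3 ∧
      ∀ Q : Subgroup G, IsPGroup 2 ↥Q → g ∈ Subgroup.normalizer (Q : Set G) → Q = ⊥}]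
    [Fintype {χ : Cfsg.IrrCharacter G //
      (Cfsg.charDegree (χ : G → ℂ)).factorization 2 = (Nat.card G).factorization 2}] :
    Nat.card {C : ConjClasses G // ∃ g ∈ C.carrier, orderOf g = 3 ∧
      ∀ Q : Subgroup G, IsPGroup 2 ↥Q → g ∈ Subgroup.normalizer (Q : Set G) → Q = ⊥} ≤
    Nat.card {χ : Cfsg.IrrCharacter G //
      (Cfsg.charDegree (χ : G → ℂ)).factorization 2 = (Nat.card G).factorization 2} := by
  classical
  haveI : Fact (Nat.Prime 2) := ⟨Nat.prime_two⟩
  haveI hmax : M.IsMaximal := hM.2.1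
  haveI hPr : M.IsPrime := hmax.isPrime
  letI : Field (AlgInt ⧸ M) := Ideal.Quotient.field M
  -- representatives
  choose x hxmem hx3 hxP using (fun K : {C : ConjClasses G // ∃ g ∈ C.carrier, orderOf g = 3 ∧
      ∀ Q : Subgroup G, IsPGroup 2 ↥Q → g ∈ Subgroup.normalizer (Q : Set G) → Q = ⊥} => K.2)
  have hxconj : ∀ K L, IsConj (x K) (x L) ↔ K = L := by
    intro K L
    have hK : ConjClasses.mk (x K) = K.1 := ConjClasses.mem_carrier_iff_mk_eq.1 (hxmem K)
    have hL : ConjClasses.mk (x L) = L.1 := ConjClasses.mem_carrier_iff_mk_eq.1 (hxmem L)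
    rw [← ConjClasses.mk_eq_mk_iff_isConj, hK, hL, Subtype.ext_iff]
  -- the matrices
  let a : {C : ConjClasses G // ∃ g ∈ C.carrier, orderOf g = 3 ∧
      ∀ Q : Subgroup G, IsPGroup 2 ↥Q → g ∈ Subgroup.normalizer (Q : Set G) → Q = ⊥} →
      {χ : Cfsg.IrrCharacter G //
      (Cfsg.charDegree (χ : G → ℂ)).factorization 2 = (Nat.card G).factorization 2} → AlgInt :=
    fun K χ => ⟨(χ.1 : G → ℂ) (x K), irr_isIntegral χ.1 (x K)⟩
  let b : {χ : Cfsg.IrrCharacter G //
      (Cfsg.charDegree (χ : G → ℂ)).factorization 2 = (Nat.card G).factorization 2} →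
      {C : ConjClasses G // ∃ g ∈ C.carrier, orderOf g = 3 ∧
      ∀ Q : Subgroup G, IsPGroup 2 ↥Q → g ∈ Subgroup.normalizer (Q : Set G) → Q = ⊥} → AlgInt :=
    fun χ L => ⟨conj ((χ.1 : G → ℂ) (x L)), by
      rw [← irr_inv]; exact irr_isIntegral χ.1 (x L)⁻¹⟩
  let A : Matrix _ _ (AlgInt ⧸ M) := fun K χ => Ideal.Quotient.mk M (a K χ)
  let B : Matrix _ _ (AlgInt ⧸ M) := fun χ L => Ideal.Quotient.mk M (b χ L)
  let d : {C : ConjClasses G // ∃ g ∈ C.carrier, orderOf g = 3 ∧
      ∀ Q : Subgroup G, IsPGroup 2 ↥Q → g ∈ Subgroup.normalizer (Q : Set G) → Q = ⊥} →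
      (AlgInt ⧸ M) := fun L =>
    Ideal.Quotient.mk M ((Nat.card (Subgroup.centralizer ({x L} : Set G)) : ℕ) : AlgInt)
  have hd : ∀ L, d L ≠ 0 := by
    intro L hL
    have h1 : ((Nat.card (Subgroup.centralizer ({x L} : Set G)) : ℕ) : AlgInt) ∈ M :=
      Ideal.Quotient.eq_zero_iff_mem.1 hL
    rw [natCast_mem_iff hM] at h1
    exact not_two_dvd_card_centralizer (x L) (hxP L) h1
  have hAB : A * B = Matrix.diagonal d := by
    ext K L
    rw [Matrix.mul_apply, Matrix.diagonal_apply]
    have h1 : ∑ χ, A K χ * B χ L = Ideal.Quotient.mk M (∑ χ, a K χ * b χ L) := by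
      rw [map_sum]
      refine Finset.sum_congr rfl (fun χ _ => ?_)
      rw [map_mul]
    rw [h1]
    have h2 : (if K = L then d K else 0) = Ideal.Quotient.mk M (if K = L then
        ((Nat.card (Subgroup.centralizer ({x K} : Set G)) : ℕ) : AlgInt) else 0) := by
      split_ifs
      · rfl
      · rw [map_zero]
    rw [h2, Ideal.Quotient.eq, ← memLocalIdeal_coe_iff]
    have h3 := gram_congr hM (x K) (x L) (hx3 K) (hx3 L) (hxP K)
    have h4 : ∑ χ ∈ (Finset.univ : Finset (IrrCharacter G)).filter (fun χ : IrrCharacter G =>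
          (charDegree (χ : G → ℂ)).factorization 2 = (Nat.card G).factorization 2),
          (χ : G → ℂ) (x K) * conj ((χ : G → ℂ) (x L)) =
        ∑ χ : {χ : Cfsg.IrrCharacter G //
          (Cfsg.charDegree (χ : G → ℂ)).factorization 2 = (Nat.card G).factorization 2},
          (χ.1 : G → ℂ) (x K) * conj ((χ.1 : G → ℂ) (x L)) := by
      apply Finset.sum_subtype
      intro χ
      simp
    rw [h4] at h3
    have h5 : (((∑ χ, a K χ * b χ L - (if K = L then
        ((Nat.card (Subgroup.centralizer ({x K} : Set G)) : ℕ) : AlgInt) else 0) : AlgInt)) : ℂ) =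
        (∑ χ : {χ : Cfsg.IrrCharacter G //
          (Cfsg.charDegree (χ : G → ℂ)).factorization 2 = (Nat.card G).factorization 2},
          (χ.1 : G → ℂ) (x K) * conj ((χ.1 : G → ℂ) (x L))) -
        (if IsConj (x K) (x L) then (Nat.card (Subgroup.centralizer ({x K} : Set G)) : ℂ)
          else 0) := by
      by_cases hKL : K = L
      · rw [if_pos hKL, if_pos ((hxconj K L).2 hKL)]
        push_cast
        rfl
      · rw [if_neg hKL, if_neg (fun h => hKL ((hxconj K L).1 h))]
        push_cast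
        rfl
    rw [h5]
    exact h3
  have hrank : (Matrix.diagonal d).rank = Fintype.card {C : ConjClasses G //
      ∃ g ∈ C.carrier, orderOf g = 3 ∧
      ∀ Q : Subgroup G, IsPGroup 2 ↥Q → g ∈ Subgroup.normalizer (Q : Set G) → Q = ⊥} := by
    rw [Matrix.rank_diagonal]
    exact Fintype.card_of_subtype Finset.univ (fun L => by simp [hd L])
  have h1 : (A * B).rank ≤ A.rank := Matrix.rank_mul_le_left A B
  have h2 : A.rank ≤ Fintype.card {χ : Cfsg.IrrCharacter G //
      (Cfsg.charDegree (χ : G → ℂ)).factorization 2 = (Nat.card G).factorization 2} :=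
    Matrix.rank_le_card_width A
  rw [hAB, hrank] at h1
  rw [Nat.card_eq_fintype_card, Nat.card_eq_fintype_card]
  exact h1.trans h2


/-- Let G be a finite group of order divisible by 6. Then the number of irreducible characters of G whose degree has the same 2-part as the order of G (the characters of 2-defect zero, each forming a 2-block of defect zero on its own) is at least the number of conjugacy classes of elements of order 3 that normalize no nontrivial 2-subgroup of G. In particular G has a 2-block of defect zero as soon as some element of order 3 normalizes no nontrivial 2-subgroup. -/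
theorem result {G : Type*} [Group G] [Finite G] (h6 : 6 ∣ Nat.card G) : Nat.card {C : ConjClasses G // ∃ g ∈ C.carrier, orderOf g = 3 ∧ ∀ Q : Subgroup G, IsPGroup 2 ↥Q → g ∈ Subgroup.normalizer (Q : Set G) → Q = ⊥} ≤ Nat.card {χ : Cfsg.IrrCharacter G // (Cfsg.charDegree (χ : G → ℂ)).factorization 2 = (Nat.card G).factorization 2} := by
  classical
  haveI := Fintype.ofFinite G
  haveI := Fintype.ofFinite (IrrCharacter G)
  obtain ⟨M, hM⟩ := Cfsg.Agent.Lib.L0.PRegP.exists_isPModular Nat.prime_two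
  haveI : Fintype {C : ConjClasses G // ∃ g ∈ C.carrier, orderOf g = 3 ∧
      ∀ Q : Subgroup G, IsPGroup 2 ↥Q → g ∈ Subgroup.normalizer (Q : Set G) → Q = ⊥} :=
    Fintype.ofFinite _
  haveI : Fintype {χ : Cfsg.IrrCharacter G //
      (Cfsg.charDegree (χ : G → ℂ)).factorization 2 = (Nat.card G).factorization 2} :=
    Fintype.ofFinite _
  exact main_aux hM

end Cfsg.Agent.S4737
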