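import Cfsg.Statements.S4742
import Cfsg.Agent.Lib.H23.ClassProduct

set_option autoImplicit false
open Cfsg

namespace Cfsg.Agent.S4742

open Cfsg.Agent.Lib.H23

/-- Let p ≠ q be primes dividing the order of the finite group G, and suppose the centralizer of every non-identity p-element of G has order prime to q. Then either G has an irreducible character of p-defect zero, or for every non-identity q-element z of G there are conjugates g, h of z such that g h⁻¹ is a non-identity p-element. -/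
theorem result {G : Type*} [Group G] [Finite G] (p q : ℕ) [Fact p.Prime] [Fact q.Prime] (hppq : p ≠ q) (hpG : p ∣ Nat.card G) (hqG : q ∣ Nat.card G) (hC : ∀ g : G, g ≠ 1 → (∃ k : ℕ, orderOf g = p ^ k) → ¬ q ∣ Nat.card ↥(Subgroup.centralizer ({g} : Set G))) : (∃ χ : Cfsg.IrrCharacter G, (Cfsg.charDegree (χ : G → ℂ)).factorization p = (Nat.card G).factorization p) ∨ ∀ z : G, z ≠ 1 → (∃ k : ℕ, orderOf z = q ^ k) → ∃ g h : G, IsConj z g ∧ IsConj z h ∧ g * h⁻¹ ≠ 1 ∧ ∃ k : ℕ, orderOf (g * h⁻¹) = p ^ k := by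
  have hp : p.Prime := Fact.out
  have hq : q.Prime := Fact.out
  by_contra hcon
  push Not at hcon
  obtain ⟨hno1, z, hz1, ⟨kz, hkz⟩, hno2⟩ := hcon
  obtain ⟨P⟩ : Nonempty (Sylow p G) := inferInstance
  have hPcard : Nat.card (P : Subgroup G) = p ^ (Nat.card G).factorization p :=
    Sylow.card_eq_multiplicity P
  -- `p` does not divide `|C_G(z)|`
  have hpC : ¬ p ∣ Nat.card (Subgroup.centralizer ({z} : Set G)) := by
    intro hdvd
    obtain ⟨y, hy⟩ := exists_prime_orderOf_dvd_card' p hdvd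
    have hyG : orderOf (y : G) = p := by rw [Subgroup.orderOf_coe]; exact hy
    have hy1 : (y : G) ≠ 1 := by
      intro h
      rw [h, orderOf_one] at hyG
      exact hp.one_lt.ne hyG
    apply hC (y : G) hy1 ⟨1, by rw [hyG, pow_one]⟩
    have hzmem : z ∈ Subgroup.centralizer ({(y : G)} : Set G) := by
      rw [Subgroup.mem_centralizer_singleton_iff]
      have := Subgroup.mem_centralizer_singleton_iff.mp y.2
      exact this.symm
    have hord : orderOf z ∣ Nat.card (Subgroup.centralizer ({(y : G)} : Set G)) := by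
      have := orderOf_dvd_natCard (⟨z, hzmem⟩ : Subgroup.centralizer ({(y : G)} : Set G))
      rwa [Subgroup.orderOf_mk] at this
    have hkz0 : kz ≠ 0 := by
      rintro rfl
      rw [pow_zero, orderOf_eq_one_iff] at hkz
      exact hz1 hkz
    exact dvd_trans (by rw [hkz]; exact dvd_pow_self q hkz0) hord
  have ha : (Nat.card (Subgroup.centralizer ({z} : Set G))).factorization p = 0 :=
    Nat.factorization_eq_zero_of_not_dvd hpC
  have hH : ∀ s t : G, (s * z * s⁻¹) * (t * z⁻¹ * t⁻¹) ∈ (P : Subgroup G) →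
      (s * z * s⁻¹) * (t * z⁻¹ * t⁻¹) = 1 := by
    intro s t hmem
    by_contra hne
    have hinv : t * z⁻¹ * t⁻¹ = (t * z * t⁻¹)⁻¹ := by group
    rw [hinv] at hmem hne
    obtain ⟨k, hk⟩ := (IsPGroup.iff_orderOf.mp P.isPGroup') ⟨_, hmem⟩
    rw [Subgroup.orderOf_mk] at hk
    exact hno2 (s * z * s⁻¹) (t * z * t⁻¹) (isConj_iff.mpr ⟨s, rfl⟩) (isConj_iff.mpr ⟨t, rfl⟩)
      hne k hk
  obtain ⟨χ, hχ⟩ := exists_degree_dvd_of_class_product p (P : Subgroup G)
    ((Nat.card G).factorization p) hPcard z hH 0 ha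
  apply hno1 χ
  rw [Nat.sub_zero] at hχ
  have hd0 : Cfsg.charDegree (χ : G → ℂ) ≠ 0 := (charDegree_pos (χ : G → ℂ) χ.2).ne'
  have hGne : Nat.card G ≠ 0 := (Nat.card_pos (α := G)).ne'
  apply le_antisymm
  · exact (Nat.factorization_le_iff_dvd hd0 hGne).mpr (charDegree_dvd_card (χ : G → ℂ) χ.2) p
  · exact (hp.pow_dvd_iff_le_factorization hd0).mp hχ

end Cfsg.Agent.S4742
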