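import Cfsg.Statements.S4744
import Cfsg.Agent.S4742
import Cfsg.Agent.Lib.H23.InvolutionSylow
import Cfsg.Agent.Lib.H23.DadeExt

set_option autoImplicit false
open Cfsg

namespace Cfsg.Agent.S4744

open Cfsg.Agent.Lib.H23

/-- Let p be an odd prime and G a finite group of even order divisible by p in which the centralizer of every non-identity p-element has odd order. Then either G has an irreducible character of p-defect zero, or the normalizer of every Sylow p-subgroup P of G has even order and P is abelian. -/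
theorem result {G : Type*} [Group G] [Finite G] (p : ℕ) [Fact p.Prime] (hp2 : p ≠ 2) (hpG : p ∣ Nat.card G) (h2G : 2 ∣ Nat.card G) (hC : ∀ g : G, g ≠ 1 → (∃ k : ℕ, orderOf g = p ^ k) → Odd (Nat.card ↥(Subgroup.centralizer ({g} : Set G)))) : (∃ χ : Cfsg.IrrCharacter G, (Cfsg.charDegree (χ : G → ℂ)).factorization p = (Nat.card G).factorization p) ∨ ∀ P : Sylow p G, Even (Nat.card ↥(Subgroup.normalizer ((P : Subgroup G) : Set G))) ∧ IsMulCommutative ↥(P : Subgroup G) := by
  have hp : p.Prime := Fact.out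
  have hC2 : ∀ g : G, g ≠ 1 → (∃ k : ℕ, orderOf g = p ^ k) →
      ¬ 2 ∣ Nat.card ↥(Subgroup.centralizer ({g} : Set G)) := fun g hg hk h2 =>
    (Nat.not_even_iff_odd.mpr (hC g hg hk)) (even_iff_two_dvd.mpr h2)
  have : Fact (Nat.Prime 2) := ⟨Nat.prime_two⟩
  rcases Cfsg.Agent.S4742.result p 2 hp2 hpG h2G hC2 with h | h
  · exact Or.inl h
  right
  intro P
  -- an involution inverting a non-identity `p`-element
  obtain ⟨z, hz⟩ := exists_prime_orderOf_dvd_card' 2 h2G
  have hz1 : z ≠ 1 := by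
    rintro rfl
    rw [orderOf_one] at hz
    omega
  obtain ⟨g, h', hzg, hzh, hne, k, hk⟩ := h z hz1 ⟨1, by rw [hz, pow_one]⟩
  have hzz : z * z = 1 := by
    have := pow_orderOf_eq_one z
    rwa [hz, pow_two] at this
  have hsq : ∀ y : G, IsConj z y → y * y = 1 := by
    intro y hy
    obtain ⟨c, rfl⟩ := isConj_iff.mp hy
    calc c * z * c⁻¹ * (c * z * c⁻¹) = c * (z * z) * c⁻¹ := by group
      _ = 1 := by rw [hzz]; group
  have hgg := hsq g hzg
  have hhh := hsq h' hzh
  have hginv : g⁻¹ = g := inv_eq_of_mul_eq_one_left hgg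
  have hhinv : h'⁻¹ = h' := inv_eq_of_mul_eq_one_left hhh
  have hg2 : orderOf g = 2 := by
    apply orderOf_eq_prime
    · rw [pow_two]; exact hgg
    · rintro rfl
      have : z = 1 := by
        obtain ⟨c, hc⟩ := isConj_iff.mp hzg
        have : z = c⁻¹ * (c * z * c⁻¹) * c := by group
        rw [this, hc]
        group
      exact hz1 this
  set u := g * h'⁻¹ with hu
  have hgu : g * u * g⁻¹ = u⁻¹ := by
    rw [hu, mul_inv_rev, inv_inv, hginv, hhinv, ← mul_assoc, hgg, one_mul]
  -- conjugate `u` into `P`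
  have hUp : IsPGroup p (Subgroup.zpowers u) := by
    apply IsPGroup.of_card (n := k)
    rw [Nat.card_zpowers, hk]
  obtain ⟨y, hy⟩ := exists_conj_le_sylow P (Subgroup.zpowers u) hUp
  set u' := y⁻¹ * u * y with hu'
  set t := y⁻¹ * g * y with ht
  have hu'P : u' ∈ (P : Subgroup G) := hy u (Subgroup.mem_zpowers u)
  have hu'1 : u' ≠ 1 := by
    intro h1
    apply hne
    have : u = y * u' * y⁻¹ := by rw [hu']; group
    rw [this, h1]
    group
  have hu'p : ∃ k : ℕ, orderOf u' = p ^ k := by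
    obtain ⟨k', hk'⟩ := (IsPGroup.iff_orderOf.mp P.isPGroup') ⟨u', hu'P⟩
    rw [Subgroup.orderOf_mk] at hk'
    exact ⟨k', hk'⟩
  have ht2 : orderOf t = 2 := by
    have : t = MulAut.conj y⁻¹ g := by rw [ht, MulAut.conj_apply, inv_inv]
    rw [this, MulEquiv.orderOf_eq, hg2]
  have htu : t * u' * t⁻¹ = u'⁻¹ := by
    have h1 : t * u' * t⁻¹ = y⁻¹ * (g * u * g⁻¹) * y := by rw [ht, hu']; group
    rw [h1, hgu, hu']
    group
  -- first step: Sylow of `C_G(u')` containing `P ⊓ C_G(u')`
  have hQp : IsPGroup p (((P : Subgroup G) ⊓ Subgroup.centralizer ({u'} : Set G)).subgroupOf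
      (Subgroup.centralizer ({u'} : Set G))) := by
    have h1 : IsPGroup p ((P : Subgroup G) ⊓ Subgroup.centralizer ({u'} : Set G) : Subgroup G) :=
      P.isPGroup'.to_le inf_le_left
    exact h1.comap_subtype
  obtain ⟨S₁, hS₁⟩ := hQp.exists_le_sylow
  obtain ⟨t₁, ht₁, -, hinv₁, -⟩ := exists_involution_inverting_sylow_centralizer p hC t u' ht2
    hu'1 hu'p htu S₁
  -- a non-identity central element of `P`
  have hPnt : Nontrivial (P : Subgroup G) := by
    have hcard : Nat.card (P : Subgroup G) = p ^ (Nat.card G).factorization p :=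
      Sylow.card_eq_multiplicity P
    have hpos : 0 < (Nat.card G).factorization p :=
      (hp.factorization_pos_of_dvd (Nat.card_pos (α := G)).ne' hpG)
    rw [← Finite.one_lt_card_iff_nontrivial, hcard]
    exact Nat.one_lt_pow hpos.ne' hp.one_lt
  have hcnt : Nontrivial (Subgroup.center (P : Subgroup G)) := P.isPGroup'.center_nontrivial
  obtain ⟨w', hw'⟩ := exists_ne (1 : Subgroup.center (P : Subgroup G))
  set w : G := ((w' : (P : Subgroup G)) : G) with hw
  have hwP : w ∈ (P : Subgroup G) := (w' : (P : Subgroup G)).2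
  have hw1 : w ≠ 1 := by
    intro h1
    apply hw'
    apply Subtype.ext
    apply Subtype.ext
    exact h1
  have hwcent : ∀ x ∈ (P : Subgroup G), x * w = w * x := by
    intro x hx
    have := Subgroup.mem_center_iff.mp w'.2 ⟨x, hx⟩
    exact congrArg Subtype.val this
  have hwp : ∃ k : ℕ, orderOf w = p ^ k := by
    obtain ⟨k', hk'⟩ := (IsPGroup.iff_orderOf.mp P.isPGroup') ⟨w, hwP⟩
    rw [Subgroup.orderOf_mk] at hk'
    exact ⟨k', hk'⟩
  have hwCu : w ∈ Subgroup.centralizer ({u'} : Set G) := by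
    rw [Subgroup.mem_centralizer_singleton_iff]
    exact (hwcent u' hu'P).symm
  have hwR₁ : w ∈ (S₁ : Subgroup _).map (Subgroup.centralizer ({u'} : Set G)).subtype := by
    refine ⟨⟨w, hwCu⟩, hS₁ ?_, rfl⟩
    show w ∈ (P : Subgroup G) ⊓ Subgroup.centralizer ({u'} : Set G)
    exact ⟨hwP, hwCu⟩
  have ht₁w : t₁ * w * t₁⁻¹ = w⁻¹ := hinv₁ w hwR₁
  -- second step: `P` is a Sylow subgroup of `C_G(w)`
  have hPle : (P : Subgroup G) ≤ Subgroup.centralizer ({w} : Set G) := by
    intro x hx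
    rw [Subgroup.mem_centralizer_singleton_iff]
    exact hwcent x hx
  have hQp₂ : IsPGroup p ((P : Subgroup G).subgroupOf (Subgroup.centralizer ({w} : Set G))) :=
    P.isPGroup'.comap_subtype
  obtain ⟨S₂, hS₂⟩ := hQp₂.exists_le_sylow
  obtain ⟨t₂, ht₂, hnorm₂, -, hab₂⟩ := exists_involution_inverting_sylow_centralizer p hC t₁ w ht₁
    hw1 hwp ht₁w S₂
  have hR₂ : (S₂ : Subgroup _).map (Subgroup.centralizer ({w} : Set G)).subtype =
      (P : Subgroup G) := by
    apply P.is_maximal' (S₂.isPGroup'.map _)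
    intro x hx
    exact ⟨⟨x, hPle hx⟩, hS₂ hx, rfl⟩
  rw [hR₂] at hnorm₂ hab₂
  have ht₂2 : t₂ * t₂ = 1 := by
    have := pow_orderOf_eq_one t₂
    rwa [ht₂, pow_two] at this
  have ht₂inv : t₂⁻¹ = t₂ := inv_eq_of_mul_eq_one_left ht₂2
  constructor
  · have hmem : t₂ ∈ Subgroup.normalizer ((P : Subgroup G) : Set G) := by
      rw [Subgroup.mem_normalizer_iff]
      intro x
      constructor
      · exact hnorm₂ x
      · intro hx
        have := hnorm₂ _ hx
        have h1 : t₂ * (t₂ * x * t₂⁻¹) * t₂⁻¹ = x := by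
          rw [ht₂inv]
          calc t₂ * (t₂ * x * t₂) * t₂ = (t₂ * t₂) * x * (t₂ * t₂) := by group
            _ = x := by rw [ht₂2, one_mul, mul_one]
        rwa [h1] at this
    have hdvd : orderOf t₂ ∣ Nat.card (Subgroup.normalizer ((P : Subgroup G) : Set G)) := by
      have := orderOf_dvd_natCard (⟨t₂, hmem⟩ : Subgroup.normalizer ((P : Subgroup G) : Set G))
      rwa [Subgroup.orderOf_mk] at this
    rw [ht₂] at hdvd
    exact even_iff_two_dvd.mpr hdvd
  · exact ⟨⟨fun a b => Subtype.ext (hab₂ a a.2 b b.2)⟩⟩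

end Cfsg.Agent.S4744
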