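import Cfsg.Statements.S4738
import Mathlib
import Cfsg.Agent.S4742
import Cfsg.Agent.S4744
import Cfsg.Agent.Lib.H23.InvolutionSylow
import Cfsg.Agent.Lib.H23.DadeExt
import Cfsg.Agent.Lib.H23.DegreeDvd
import Cfsg.Agent.Lib.H24.CharBasic

set_option autoImplicit false
open Cfsg

namespace Cfsg.Agent.S4738

open Cfsg.Agent.Lib.H23

/-- Let p be an odd prime and G a finite group of even order containing no element of order 2p. Then either G has an irreducible character of p-defect zero (its degree has the same p-part as the order of G), or every Sylow p-subgroup of G is abelian and all involutions of G are conjugate. -/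
theorem result {G : Type*} [Group G] [Finite G] (p : ℕ) [Fact p.Prime] (hp2 : p ≠ 2) (hG : Even (Nat.card G)) (h2p : ∀ g : G, orderOf g ≠ 2 * p) : (∃ χ : Cfsg.IrrCharacter G, (Cfsg.charDegree (χ : G → ℂ)).factorization p = (Nat.card G).factorization p) ∨ ((∀ P : Sylow p G, IsMulCommutative ↥(P : Subgroup G)) ∧ ∀ s t : G, orderOf s = 2 → orderOf t = 2 → IsConj s t) := by
  classical
  have hp : p.Prime := Fact.out
  have h2G : 2 ∣ Nat.card G := even_iff_two_dvd.mp hG
  have : Fact (Nat.Prime 2) := ⟨Nat.prime_two⟩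
  -- the case `p ∤ |G|`
  by_cases hpG : p ∣ Nat.card G
  swap
  · left
    refine ⟨Cfsg.Agent.Lib.H24.trivialIrr G, ?_⟩
    have h1 : Cfsg.charDegree (Cfsg.Agent.Lib.H24.trivialIrr G : G → ℂ) = 1 :=
      charDegree_eq_of_apply_one (by simp)
    rw [h1, Nat.factorization_one, Finsupp.zero_apply, Nat.factorization_eq_zero_of_not_dvd hpG]
  -- centralizers of `p`-elements are odd
  have hC : ∀ g : G, g ≠ 1 → (∃ k : ℕ, orderOf g = p ^ k) →
      Odd (Nat.card ↥(Subgroup.centralizer ({g} : Set G))) := by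
    intro g hg1 ⟨k, hk⟩
    by_contra hodd
    have hev : 2 ∣ Nat.card ↥(Subgroup.centralizer ({g} : Set G)) :=
      even_iff_two_dvd.mp (Nat.not_odd_iff_even.mp hodd)
    obtain ⟨t, ht⟩ := exists_prime_orderOf_dvd_card' (G := Subgroup.centralizer ({g} : Set G)) 2 hev
    have ht' : orderOf (t : G) = 2 := by rw [Subgroup.orderOf_coe]; exact ht
    have hcomm : Commute (t : G) g :=
      (Subgroup.mem_centralizer_iff.mp t.2 g (Set.mem_singleton g)).symm
    have hk0 : k ≠ 0 := by
      rintro rfl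
      rw [pow_zero] at hk
      exact hg1 (orderOf_eq_one_iff.mp hk)
    have hg' : orderOf (g ^ p ^ (k - 1)) = p := by
      rw [orderOf_pow_of_dvd (pow_ne_zero _ hp.ne_zero) (by rw [hk]; exact pow_dvd_pow p (by omega)),
        hk]
      have : p ^ k = p ^ (k - 1) * p := by rw [← pow_succ]; congr 1; omega
      rw [this, Nat.mul_div_cancel_left _ (pow_pos hp.pos _)]
    have hcop : Nat.Coprime (orderOf (t : G)) (orderOf (g ^ p ^ (k - 1))) := by
      rw [ht', hg']
      exact (Nat.coprime_primes Nat.prime_two hp).mpr (Ne.symm hp2)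
    have := (hcomm.pow_right (p ^ (k - 1))).orderOf_mul_eq_mul_orderOf_of_coprime hcop
    rw [ht', hg'] at this
    exact h2p _ this
  have hC2 : ∀ g : G, g ≠ 1 → (∃ k : ℕ, orderOf g = p ^ k) →
      ¬ 2 ∣ Nat.card ↥(Subgroup.centralizer ({g} : Set G)) := fun g hg hk h2 =>
    (Nat.not_even_iff_odd.mpr (hC g hg hk)) (even_iff_two_dvd.mpr h2)
  rcases Cfsg.Agent.S4744.result p hp2 hpG h2G hC with h | h
  · exact Or.inl h
  rcases Cfsg.Agent.S4742.result p 2 hp2 hpG h2G hC2 with h' | h'
  · exact Or.inl h'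
  right
  refine ⟨fun P => (h P).2, ?_⟩
  -- a Sylow subgroup and an involution of its normalizer
  obtain ⟨P⟩ : Nonempty (Sylow p G) := inferInstance
  have hNev : 2 ∣ Nat.card ↥(Subgroup.normalizer ((P : Subgroup G) : Set G)) :=
    even_iff_two_dvd.mp (h P).1
  obtain ⟨r₀, hr₀⟩ := exists_prime_orderOf_dvd_card'
    (G := Subgroup.normalizer ((P : Subgroup G) : Set G)) 2 hNev
  set r : G := (r₀ : G) with hr
  have hr2 : orderOf r = 2 := by rw [hr, Subgroup.orderOf_coe]; exact hr₀
  have hrr : r * r = 1 := by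
    have := pow_orderOf_eq_one r
    rwa [hr2, pow_two] at this
  have hrinv : r⁻¹ = r := inv_eq_of_mul_eq_one_left hrr
  have hrnorm : ∀ u ∈ (P : Subgroup G), r * u * r⁻¹ ∈ (P : Subgroup G) := by
    intro u hu
    exact (Subgroup.mem_normalizer_iff.mp r₀.2 u).mp hu
  have hrfpf : ∀ u ∈ (P : Subgroup G), r * u = u * r → u = 1 := by
    intro u hu hcomm
    by_contra hu1
    obtain ⟨k, hk⟩ := (IsPGroup.iff_orderOf.mp P.isPGroup') ⟨u, hu⟩
    rw [Subgroup.orderOf_mk] at hk
    have hodd := hC u hu1 ⟨k, hk⟩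
    have hrC : r ∈ Subgroup.centralizer ({u} : Set G) := by
      rw [Subgroup.mem_centralizer_singleton_iff]
      exact hcomm
    have h1 : orderOf (⟨r, hrC⟩ : Subgroup.centralizer ({u} : Set G)) ∣
        Nat.card ↥(Subgroup.centralizer ({u} : Set G)) := orderOf_dvd_natCard _
    rw [Subgroup.orderOf_mk, hr2] at h1
    exact (Nat.not_even_iff_odd.mpr hodd) (even_iff_two_dvd.mpr h1)
  obtain ⟨hrinvP, -⟩ := inverts_of_involution_fpf r hr2 (P : Subgroup G) hrnorm hrfpf
  -- every involution is conjugate to `r`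
  have key : ∀ s : G, orderOf s = 2 → IsConj s r := by
    intro z hz
    have hz1 : z ≠ 1 := by
      rintro rfl
      rw [orderOf_one] at hz
      omega
    obtain ⟨g, h'', hzg, hzh, hne, k, hk⟩ := h' z hz1 ⟨1, by rw [hz, pow_one]⟩
    have hzz : z * z = 1 := by
      have := pow_orderOf_eq_one z
      rwa [hz, pow_two] at this
    have hsq : ∀ y : G, IsConj z y → y * y = 1 := by
      intro y hy
      obtain ⟨c, rfl⟩ := isConj_iff.mp hy
      calc c * z * c⁻¹ * (c * z * c⁻¹) = c * (z * z) * c⁻¹ := by group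
        _ = 1 := by rw [hzz]; group
    have hgg := hsq g hzg
    have hhh := hsq h'' hzh
    have hginv : g⁻¹ = g := inv_eq_of_mul_eq_one_left hgg
    have hhinv : h''⁻¹ = h'' := inv_eq_of_mul_eq_one_left hhh
    set u := g * h''⁻¹ with hu
    have hgu : g * u * g⁻¹ = u⁻¹ := by
      rw [hu, mul_inv_rev, inv_inv, hginv, hhinv, ← mul_assoc, hgg, one_mul]
    have hUp : IsPGroup p (Subgroup.zpowers u) := by
      apply IsPGroup.of_card (n := k)
      rw [Nat.card_zpowers, hk]
    obtain ⟨y, hy⟩ := exists_conj_le_sylow P (Subgroup.zpowers u) hUp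
    set u' := y⁻¹ * u * y with hu'
    set t := y⁻¹ * g * y with ht
    have hu'P : u' ∈ (P : Subgroup G) := hy u (Subgroup.mem_zpowers u)
    have hu'1 : u' ≠ 1 := by
      intro h1
      apply hne
      have : u = y * u' * y⁻¹ := by rw [hu']; group
      rw [this, h1]
      group
    have hu'p : ∃ k : ℕ, orderOf u' = p ^ k := by
      obtain ⟨k', hk'⟩ := (IsPGroup.iff_orderOf.mp P.isPGroup') ⟨u', hu'P⟩
      rw [Subgroup.orderOf_mk] at hk'
      exact ⟨k', hk'⟩
    have htt : t * t = 1 := by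
      rw [ht]
      calc y⁻¹ * g * y * (y⁻¹ * g * y) = y⁻¹ * (g * g) * y := by group
        _ = 1 := by rw [hgg]; group
    have htinv : t⁻¹ = t := inv_eq_of_mul_eq_one_left htt
    have htu : t * u' * t⁻¹ = u'⁻¹ := by
      have h1 : t * u' * t⁻¹ = y⁻¹ * (g * u * g⁻¹) * y := by rw [ht, hu']; group
      rw [h1, hgu, hu']
      group
    have hru : r * u' * r⁻¹ = u'⁻¹ := hrinvP u' hu'P
    -- `c = r t` centralizes `u'`
    set c := r * t with hc
    have hcC : c ∈ Subgroup.centralizer ({u'} : Set G) := by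
      rw [Subgroup.mem_centralizer_singleton_iff]
      have h1 : c * u' * c⁻¹ = u' := by
        calc c * u' * c⁻¹ = r * (t * u' * t⁻¹) * r⁻¹ := by rw [hc]; group
          _ = r * u'⁻¹ * r⁻¹ := by rw [htu]
          _ = (r * u' * r⁻¹)⁻¹ := by group
          _ = u' := by rw [hru, inv_inv]
      calc c * u' = c * u' * c⁻¹ * c := by group
        _ = u' * c := by rw [h1]
    have hcodd : Odd (orderOf c) := by
      have h1 : orderOf (⟨c, hcC⟩ : Subgroup.centralizer ({u'} : Set G)) ∣
          Nat.card ↥(Subgroup.centralizer ({u'} : Set G)) := orderOf_dvd_natCard _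
      rw [Subgroup.orderOf_mk] at h1
      exact (hC u' hu'1 hu'p).of_dvd_nat h1
    have hrc : r * c * r⁻¹ = c⁻¹ := by
      rw [hc, mul_inv_rev, hrinv, htinv, ← mul_assoc, hrr, one_mul]
    obtain ⟨m, hm⟩ := hcodd
    set w := c ^ (m + 1) with hw
    have hww : w * w = c := by
      rw [hw, ← pow_add]
      have : m + 1 + (m + 1) = orderOf c + 1 := by omega
      rw [this, pow_succ, pow_orderOf_eq_one, one_mul]
    have hrw : r * w * r⁻¹ = w⁻¹ := by
      rw [hw, ← conj_pow, hrc, inv_pow]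
    have hconj : w⁻¹ * r * w = t := by
      have h1 : w⁻¹ * r * w = w⁻¹ * (r * w * r⁻¹) * r := by group
      rw [h1, hrw]
      have h2 : w⁻¹ * w⁻¹ = c⁻¹ := by rw [← mul_inv_rev, hww]
      rw [h2, hc, mul_inv_rev, hrinv, htinv, mul_assoc, hrr, mul_one]
    have hrt : IsConj r t := by
      rw [isConj_iff]
      exact ⟨w⁻¹, by rw [inv_inv]; exact hconj⟩
    have hgt : IsConj g t := by
      rw [isConj_iff]
      exact ⟨y⁻¹, by rw [inv_inv]⟩
    exact (hzg.trans hgt).trans hrt.symm
  intro s t hs ht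
  exact (key s hs).trans (key t ht).symm

end Cfsg.Agent.S4738
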