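import Cfsg.Statements.S4740
import Cfsg.Agent.Lib.H23.ClassProduct

set_option autoImplicit false
open Cfsg

namespace Cfsg.Agent.S4740

open Cfsg.Agent.Lib.H23

/-- Let p be an odd prime, G a finite group of even order, x an involution of G and P a subgroup of G of order p ^ c such that no conjugate of x inverts a non-identity element of P. If p ^ a is the p-part of the order of C_G(x), then some irreducible character of G has degree divisible by p ^ (c - a). -/
theorem result {G : Type*} [Group G] [Finite G] (p : ℕ) [Fact p.Prime] (hp2 : p ≠ 2) (hG : Even (Nat.card G)) (x : G) (hx : orderOf x = 2) (P : Subgroup G) (c : ℕ) (hP : Nat.card ↥P = p ^ c) (hinv : ∀ g : G, IsConj x g → ∀ z ∈ P, z ≠ 1 → g * z * g⁻¹ ≠ z⁻¹) (a : ℕ) (ha : (Nat.card ↥(Subgroup.centralizer ({x} : Set G))).factorization p = a) : ∃ χ : Cfsg.IrrCharacter G, p ^ (c - a) ∣ Cfsg.charDegree (χ : G → ℂ) := by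
  apply exists_degree_dvd_of_class_product p P c hP x ?_ a ha
  intro s t hmem
  by_contra hne
  have hx2 : x * x = 1 := by
    have := pow_orderOf_eq_one x
    rwa [hx, pow_two] at this
  have hxinv : x⁻¹ = x := inv_eq_of_mul_eq_one_left hx2
  rw [hxinv] at hmem hne
  have key : ∀ g h : G, g * g = 1 → h * h = 1 → g * (g * h) * g⁻¹ = (g * h)⁻¹ := by
    intro g h hg2 hh2
    have hginv : g⁻¹ = g := inv_eq_of_mul_eq_one_left hg2
    have hhinv : h⁻¹ = h := inv_eq_of_mul_eq_one_left hh2
    rw [mul_inv_rev, hginv, hhinv, ← mul_assoc, hg2, one_mul]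
  have hsq : ∀ r : G, (r * x * r⁻¹) * (r * x * r⁻¹) = 1 := by
    intro r
    calc r * x * r⁻¹ * (r * x * r⁻¹) = r * (x * x) * r⁻¹ := by group
      _ = 1 := by rw [hx2]; group
  have hconj : IsConj x (s * x * s⁻¹) := isConj_iff.mpr ⟨s, rfl⟩
  exact hinv (s * x * s⁻¹) hconj _ hmem hne (key _ _ (hsq s) (hsq t))

end Cfsg.Agent.S4740
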