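import Cfsg.Statements.S4743
import Mathlib
import Cfsg.Agent.Lib.L0.BlockNormal
import Cfsg.Agent.Lib.L0.PRegCongP
import Cfsg.Agent.Lib.H23.BlockCovering
import Cfsg.Agent.Lib.H23.BlockDefect
import Cfsg.Agent.Lib.H23.BlockAlgebra
import Cfsg.Agent.Lib.H23.BlockLocal
import Cfsg.Agent.Lib.H23.DegreeDvd

set_option autoImplicit false

open Cfsg

namespace Cfsg.Agent.S4743

open Cfsg.Agent.Lib.H23 Cfsg.Agent.Lib.H24
open scoped ComplexConjugate

/-- If a normal `r'`-subgroup `L` contains an element whose centralizer in `G` is an `r'`-group,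
then `G` has an irreducible character of `r`-defect zero. -/
theorem exists_defect_zero_of_normal {G : Type*} [Group G] [Fintype G] (r : ℕ) [Fact r.Prime]
    (L : Subgroup G) [L.Normal] (hL : ¬ r ∣ Nat.card L) (x : G) (hx : x ∈ L)
    (hC : ¬ r ∣ Nat.card (Subgroup.centralizer ({x} : Set G))) :
    ∃ χ : IrrCharacter G,
      (charDegree (χ : G → ℂ)).factorization r = (Nat.card G).factorization r := by
  classical
  obtain ⟨M, hM⟩ := Cfsg.Agent.Lib.L0.PRegP.exists_isPModular (Fact.out : r.Prime)
  haveI hP := isPrime_of_isPModular hM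
  haveI : Fintype L := Fintype.ofFinite L
  haveI := Fintype.ofFinite (IrrCharacter L)
  have key : ∃ χ : IrrCharacter G, ¬ MemLocalIdeal M (centralChar (χ : G → ℂ) x) := by
    by_contra hcon
    push Not at hcon
    have hz : classSum x ∈ Subalgebra.center ℂ (MonoidAlgebra ℂ G) := classSum_mem_center x
    have hsupp : ∀ g : G, g ∉ L → (classSum x).coeff g = 0 := fun g hg =>
      coeff_classSum_of_not_mem L ⟨x, hx⟩ hg
    have hzL := Cfsg.Agent.Lib.L0.BlockNormal.resAlg_mem_center L hz
    have hω : ∀ θ : IrrCharacter L, MemLocalIdeal M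
        (omega (θ : L → ℂ) (Cfsg.Agent.Lib.L0.BlockNormal.resAlg L (classSum x))) := by
      intro θ
      obtain ⟨χ, hχ⟩ := exists_irr_over_restrict L θ
      rw [← Cfsg.Agent.Lib.L0.BlockNormal.omega_eq_of_constituent L χ θ hχ hz hsupp,
        omega_classSum (irr_isClassFunction χ)]
      exact hcon χ
    have h1 := coeff_eq_sum_omega hzL ⟨x, hx⟩
    rw [Cfsg.Agent.Lib.L0.BlockNormal.coeff_resAlg, coeff_classSum, if_pos (IsConj.refl x)] at h1
    have hL0 : (Nat.card L : ℂ) ≠ 0 := by exact_mod_cast (Nat.card_pos (α := L)).ne'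
    have h2 : MemLocalIdeal M ((Nat.card L : ℂ)) := by
      have h3 : (Nat.card L : ℂ) = ∑ θ : IrrCharacter L,
          omega (θ : L → ℂ) (Cfsg.Agent.Lib.L0.BlockNormal.resAlg L (classSum x)) *
            ((θ : L → ℂ) 1 * conj ((θ : L → ℂ) ⟨x, hx⟩)) := by
        have h4 := congrArg (fun t => (Nat.card L : ℂ) * t) h1
        simp only [mul_one] at h4
        rw [h4, ← mul_assoc, mul_inv_cancel₀ hL0, one_mul]
      rw [h3]
      refine memLocalIdeal_sum _ _ fun θ _ => memLocalIdeal_mul_right (hω θ) ?_
      exact memLocalRing_mul (isIntegral_mem_localRing (irr_isIntegral θ 1))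
        (isIntegral_mem_localRing (isIntegral_conj (irr_isIntegral θ _)))
    exact hL ((natCast_memLocalIdeal_iff hM _).1 h2)
  obtain ⟨χ, hχ⟩ := key
  refine ⟨χ, le_antisymm ?_ ?_⟩
  · exact (Nat.factorization_le_iff_dvd (charDegree_pos _ χ.2).ne'
      (Nat.card_pos (α := G)).ne').2 (charDegree_dvd_card _ χ.2) r
  · have h3 := index_factorization_le_of_centralChar hM χ x hχ
    have h4 : Nat.card G = Nat.card (Subgroup.centralizer ({x} : Set G)) *
        (Subgroup.centralizer ({x} : Set G)).index := (Subgroup.card_mul_index _).symm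
    have hi0 : (Subgroup.centralizer ({x} : Set G)).index ≠ 0 := Subgroup.index_ne_zero_of_finite
    have hc0 : Nat.card (Subgroup.centralizer ({x} : Set G)) ≠ 0 :=
      (Nat.card_pos (α := Subgroup.centralizer ({x} : Set G))).ne'
    rw [h4, Nat.factorization_mul hc0 hi0, Finsupp.add_apply,
      Nat.factorization_eq_zero_of_not_dvd hC, zero_add]
    exact h3

theorem card_mul_relIndex' {G : Type*} [Group G] {H K : Subgroup G} (h : H ≤ K) :
    Nat.card H * H.relIndex K = Nat.card K := by
  have h1 := (H.subgroupOf K).card_mul_index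
  have h2 : Nat.card (H.subgroupOf K) = Nat.card H :=
    Nat.card_congr (Subgroup.subgroupOfEquivOfLe h).toEquiv
  rw [h2] at h1
  exact h1

theorem main {G : Type*} [Group G] [Finite G] (p q : ℕ) [Fact p.Prime] [Fact q.Prime]
    (hpq : p ≠ q) (hpG : p ∣ Nat.card G)
    (hno : ∀ x y : G, orderOf x = p → orderOf y = q → x * y ≠ y * x)
    (hsolv : IsPSolvable p G) :
    (∃ χ : IrrCharacter G,
      (charDegree (χ : G → ℂ)).factorization p = (Nat.card G).factorization p) ∨
    (∃ χ : IrrCharacter G,
      (charDegree (χ : G → ℂ)).factorization q = (Nat.card G).factorization q) := by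
  classical
  haveI := Fintype.ofFinite G
  have hp : p.Prime := Fact.out
  have hq : q.Prime := Fact.out
  obtain ⟨n, H, h0, hlast, hmono, hnorm, hstep⟩ := hsolv
  have hex : ∃ i : Fin n, ¬ p ∣ Nat.card (H i.castSucc) ∧ p ∣ Nat.card (H i.succ) := by
    by_contra hcon
    push Not at hcon
    have hall : ∀ j : Fin (n + 1), ¬ p ∣ Nat.card (H j) := by
      intro j
      induction j using Fin.induction with
      | zero =>
        rw [h0, Subgroup.card_bot, Nat.dvd_one]
        exact hp.one_lt.ne'
      | succ i ih => exact hcon i ih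
    apply hall (Fin.last n)
    rw [hlast, Subgroup.card_top]
    exact hpG
  obtain ⟨i, hiN, hiL⟩ := hex
  haveI hNn : (H i.castSucc).Normal := hnorm _
  haveI hLn : (H i.succ).Normal := hnorm _
  have hNL : H i.castSucc ≤ H i.succ := hmono (Fin.castSucc_le_succ i)
  have hcard := card_mul_relIndex' hNL
  have hrel : ∃ m : ℕ, (H i.castSucc).relIndex (H i.succ) = p ^ m := by
    rcases hstep i with h | h
    · exact h
    · exfalso
      rw [← hcard] at hiL
      rcases (Nat.Prime.dvd_mul hp).1 hiL with h1 | h1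
      · exact hiN h1
      · exact (Nat.Prime.coprime_iff_not_dvd hp).1 h.symm h1
  obtain ⟨m, hm⟩ := hrel
  by_cases hqN : q ∣ Nat.card (H i.castSucc)
  · left
    obtain ⟨y, hy⟩ := exists_prime_orderOf_dvd_card' q hqN
    have hy' : orderOf (y : G) = q := by rw [Subgroup.orderOf_coe, hy]
    refine exists_defect_zero_of_normal p (H i.castSucc) hiN (y : G) y.2 ?_
    intro hdvd
    obtain ⟨x, hx⟩ := exists_prime_orderOf_dvd_card' p hdvd
    have hx' : orderOf (x : G) = p := by rw [Subgroup.orderOf_coe, hx]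
    exact hno (x : G) (y : G) hx' hy' (Subgroup.mem_centralizer_singleton_iff.1 x.2)
  · right
    have hqL : ¬ q ∣ Nat.card (H i.succ) := by
      rw [← hcard, hm]
      intro h
      rcases (Nat.Prime.dvd_mul hq).1 h with h1 | h1
      · exact hqN h1
      · exact hpq ((Nat.prime_dvd_prime_iff_eq hq hp).1 (hq.dvd_of_dvd_pow h1)).symm
    obtain ⟨x, hx⟩ := exists_prime_orderOf_dvd_card' p hiL
    have hx' : orderOf (x : G) = p := by rw [Subgroup.orderOf_coe, hx]
    refine exists_defect_zero_of_normal q (H i.succ) hqL (x : G) x.2 ?_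
    intro hdvd
    obtain ⟨y, hy⟩ := exists_prime_orderOf_dvd_card' q hdvd
    have hy' : orderOf (y : G) = q := by rw [Subgroup.orderOf_coe, hy]
    exact hno (x : G) (y : G) hx' hy' (Subgroup.mem_centralizer_singleton_iff.1 y.2).symm

/-- Let p ≠ q be primes dividing the order of the finite group G, suppose the centralizer of every non-identity p-element has order prime to q, and suppose G is p-solvable or q-solvable. Then G has an irreducible character of p-defect zero or an irreducible character of q-defect zero. -/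
theorem result {G : Type*} [Group G] [Finite G] (p q : ℕ) [Fact p.Prime] [Fact q.Prime] (hppq : p ≠ q) (hpG : p ∣ Nat.card G) (hqG : q ∣ Nat.card G) (hC : ∀ g : G, g ≠ 1 → (∃ k : ℕ, orderOf g = p ^ k) → ¬ q ∣ Nat.card ↥(Subgroup.centralizer ({g} : Set G))) (hsolv : Cfsg.IsPSolvable p G ∨ Cfsg.IsPSolvable q G) : (∃ χ : Cfsg.IrrCharacter G, (Cfsg.charDegree (χ : G → ℂ)).factorization p = (Nat.card G).factorization p) ∨ (∃ χ : Cfsg.IrrCharacter G, (Cfsg.charDegree (χ : G → ℂ)).factorization q = (Nat.card G).factorization q) := by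
  have hp : p.Prime := Fact.out
  have hq : q.Prime := Fact.out
  have hno : ∀ x y : G, orderOf x = p → orderOf y = q → x * y ≠ y * x := by
    intro x y hx hy hxy
    have hx1 : x ≠ 1 := by
      rintro rfl
      rw [orderOf_one] at hx
      exact hp.one_lt.ne' hx.symm
    apply hC x hx1 ⟨1, by rw [hx, pow_one]⟩
    have hy' : y ∈ Subgroup.centralizer ({x} : Set G) :=
      Subgroup.mem_centralizer_singleton_iff.2 hxy.symm
    have h1 : orderOf (⟨y, hy'⟩ : Subgroup.centralizer ({x} : Set G)) = q := by
      rw [← Subgroup.orderOf_coe]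
      exact hy
    rw [← h1]
    exact orderOf_dvd_natCard _
  rcases hsolv with hs | hs
  · exact main p q hppq hpG hno hs
  · refine (main q p hppq.symm hqG ?_ hs).symm
    intro y x hy hx hyx
    exact hno x y hx hy hyx.symm

end Cfsg.Agent.S4743
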