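import Cfsg.Statements.S4746
import Cfsg.Agent.S4742
import Cfsg.Agent.Lib.H14.OddDegReal

set_option autoImplicit false
open Cfsg

namespace Cfsg.Agent.S4746

/-- Let p be an odd prime and G a finite group of even order divisible by p in which the centralizer of every non-identity p-element has odd order. Then G has an irreducible character of p-defect zero or an irreducible character of even degree. -/
theorem result {G : Type*} [Group G] [Finite G] (p : ℕ) [Fact p.Prime] (hp2 : p ≠ 2) (hpG : p ∣ Nat.card G) (h2G : 2 ∣ Nat.card G) (hC : ∀ g : G, g ≠ 1 → (∃ k : ℕ, orderOf g = p ^ k) → Odd (Nat.card ↥(Subgroup.centralizer ({g} : Set G)))) : (∃ χ : Cfsg.IrrCharacter G, (Cfsg.charDegree (χ : G → ℂ)).factorization p = (Nat.card G).factorization p) ∨ ∃ χ : Cfsg.IrrCharacter G, Even (Cfsg.charDegree (χ : G → ℂ)) := by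
  have hC2 : ∀ g : G, g ≠ 1 → (∃ k : ℕ, orderOf g = p ^ k) →
      ¬ 2 ∣ Nat.card ↥(Subgroup.centralizer ({g} : Set G)) := fun g hg hk h2 =>
    (Nat.not_even_iff_odd.mpr (hC g hg hk)) (even_iff_two_dvd.mpr h2)
  have : Fact (Nat.Prime 2) := ⟨Nat.prime_two⟩
  rcases Cfsg.Agent.S4742.result p 2 hp2 hpG h2G hC2 with h | h
  · exact Or.inl h
  right
  -- an involution inverting a non-identity `p`-element
  obtain ⟨z, hz⟩ := exists_prime_orderOf_dvd_card' 2 h2G
  have hz1 : z ≠ 1 := by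
    rintro rfl
    rw [orderOf_one] at hz
    omega
  obtain ⟨g, h', hzg, hzh, hne, k, hk⟩ := h z hz1 ⟨1, by rw [hz, pow_one]⟩
  have hzz : z * z = 1 := by
    have := pow_orderOf_eq_one z
    rwa [hz, pow_two] at this
  have hsq : ∀ y : G, IsConj z y → y * y = 1 := by
    intro y hy
    obtain ⟨c, rfl⟩ := isConj_iff.mp hy
    calc c * z * c⁻¹ * (c * z * c⁻¹) = c * (z * z) * c⁻¹ := by group
      _ = 1 := by rw [hzz]; group
  have hgg := hsq g hzg
  have hhh := hsq h' hzh
  have hginv : g⁻¹ = g := inv_eq_of_mul_eq_one_left hgg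
  have hhinv : h'⁻¹ = h' := inv_eq_of_mul_eq_one_left hhh
  set u := g * h'⁻¹ with hu
  have hgu : g * u * g⁻¹ = u⁻¹ := by
    rw [hu, mul_inv_rev, inv_inv, hginv, hhinv, ← mul_assoc, hgg, one_mul]
  have hreal : IsConj u u⁻¹ := isConj_iff.mpr ⟨g, hgu⟩
  by_contra hno
  push Not at hno
  have hodd : ∀ χ : Cfsg.IrrCharacter G, Odd (Cfsg.charDegree (χ : G → ℂ)) := fun χ =>
    Nat.not_even_iff_odd.mp (hno χ)
  have hev := Cfsg.Agent.Lib.H14.OddDegReal.even_card_centralizer_of_real hodd u hne hreal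
  exact (Nat.not_even_iff_odd.mpr (hC u hne ⟨k, hk⟩)) hev

end Cfsg.Agent.S4746
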