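import Cfsg.Statements.S4751
import Cfsg.Agent.Lib.H14.RULIN
import Cfsg.Agent.Lib.H14.RUCENT
import Cfsg.Agent.Lib.H1.RUDEGSYL1
import Cfsg.Agent.Lib.H5.RUEAB
import Cfsg.Agent.Lib.H5.RUIDX6
import Cfsg.Agent.Lib.H5.RUS4SPLIT
import Cfsg.Agent.Lib.H15.RUTRANS
import Cfsg.Agent.Lib.H15.RUSYL2
import Cfsg.Agent.Lib.H27.Basic

set_option autoImplicit false
open Cfsg

namespace Cfsg.Agent.S4751

theorem result {G : Type*} [Group G] [Finite G] (p : ℕ) [Fact p.Prime] (χ : Cfsg.IrrCharacter G) (hfaith : ∀ g : G, (χ : G → ℂ) g = (χ : G → ℂ) 1 → g = 1) (hnl : (χ : G → ℂ) 1 ≠ 1) (hroot : ∀ g : G, p ∣ orderOf g → ∃ n : ℕ, 0 < n ∧ ((χ : G → ℂ) g) ^ n = 1) (hP : Cfsg.pCore p G ≠ ⊥) : ((Nat.card ↥(Cfsg.pCore p G)).factorization p = (Nat.card G).factorization p ∧ Cfsg.IsElementaryAbelian p (Cfsg.pCore p G) ∧ Subgroup.centralizer ((Cfsg.pCore p G : Subgroup G) : Set G) = Cfsg.pCore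 p G ⊔ Subgroup.center G ∧ Cfsg.pCore p G ⊓ Subgroup.center G = ⊥ ∧ (∀ lam mu : ↥(Cfsg.pCore p G) → ℂ, Cfsg.IsCharacter ↥(Cfsg.pCore p G) lam → lam 1 = 1 → lam ≠ (fun _ => (1 : ℂ)) → Cfsg.IsCharacter ↥(Cfsg.pCore p G) mu → mu 1 = 1 → mu ≠ (fun _ => (1 : ℂ)) → ∃ g : G, ∀ (x : G) (hx : x ∈ Cfsg.pCore p G) (hgx : g * x * g⁻¹ ∈ Cfsg.pCore p G), mu ⟨x, hx⟩ = lam ⟨g * x * g⁻¹, hgx⟩) ∧ (χ : G → ℂ) 1 = (Nat.card ↥(Cfsg.pCore p G) : ℂ) - 1) ∨ (p = 2 ∧ Odd (Nat.card ↥(Subgroup.center G)) ∧ ∃ H : Subgroup G, Nonempty (↥H ≃* Equiv.Perm (Fin 4)) ∧ H ⊓ Subgroup.center G = ⊥ ∧ H ⊔ Subgroup.center G = ⊤) := by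
  have hPn : (pCore p G).Normal := Cfsg.Agent.Lib.H27.pCore_normal'
  have hPp : IsPGroup p (pCore p G) := Cfsg.Agent.Lib.H27.pCore_isPGroup
  have hdeg := Cfsg.Agent.Lib.H1.RU.degree_eq_card_sub_one p χ hnl hroot (pCore p G) hPp hP
  have hcard : ∀ N : Subgroup G, N.Normal → IsPGroup p N → N ≠ ⊥ →
      Nat.card N = Nat.card (pCore p G) := by
    intro N hN hNp hN1
    haveI := hN
    have h1 := Cfsg.Agent.Lib.H1.RU.degree_eq_card_sub_one p χ hnl hroot N hNp hN1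
    rw [hdeg] at h1
    have h2 : (Nat.card (pCore p G) : ℂ) = (Nat.card N : ℂ) := by linear_combination h1
    exact_mod_cast h2.symm
  have heab := Cfsg.Agent.Lib.H5.RU.isElementaryAbelian_pCore p hP hcard
  obtain ⟨hC, hPZ, hZp⟩ := Cfsg.Agent.Lib.H14.RU.centralizer_pCore p χ hfaith hnl hroot hP
  by_cases hidx : p ∣ (pCore p G).index
  · right
    have hp2 := Cfsg.Agent.Lib.H1.RU.eq_two_of_dvd_index p χ hnl hroot hP hidx
    subst hp2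
    have h4 := Cfsg.Agent.Lib.H15.RU.card_pCore_eq_four χ hnl hroot hP hidx
    have hodd : Odd (Nat.card ↥(Subgroup.center G)) := Nat.coprime_two_right.mp hZp
    have h6 := Cfsg.Agent.Lib.H5.RU.index_centralizer_eq_six h4 hC hodd hidx
    exact ⟨rfl, hodd, Cfsg.Agent.Lib.H5.RU.exists_S4_complement (pCore 2 G) h4 heab.2 hC hPZ hodd h6⟩
  · left
    refine ⟨?_, heab, hC, hPZ, Cfsg.Agent.Lib.H15.RU.exists_conj_linear p χ hnl hroot hP, hdeg⟩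
    have h1 : Nat.card G = Nat.card (pCore p G) * (pCore p G).index :=
      (Subgroup.card_mul_index (pCore p G)).symm
    have hp := (Fact.out : p.Prime)
    rw [h1, Nat.factorization_mul Nat.card_pos.ne' Subgroup.index_ne_zero_of_finite,
      Finsupp.add_apply, Nat.factorization_eq_zero_of_not_dvd hidx, add_zero]

end Cfsg.Agent.S4751
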