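import Cfsg.Statements.S4754
import Cfsg.Agent.Lib.H24.CharSchur

set_option autoImplicit false
open Cfsg

namespace Cfsg.Agent.S4754

open Cfsg.Agent.Lib.H24

/-- For elements x, y of a finite group G, the conjugacy class of x y equals the set of all products of a conjugate of x with a conjugate of y if and only if χ(1) χ(a x a⁻¹ b y b⁻¹) = χ(x) χ(y) for all a, b ∈ G and every irreducible character χ. -/
theorem result {G : Type*} [Group G] [Finite G] (x y : G) : (∀ z : G, IsConj (x * y) z ↔ ∃ a b : G, z = a * x * a⁻¹ * (b * y * b⁻¹)) ↔ ∀ (a b : G) (χ : Cfsg.IrrCharacter G), (χ : G → ℂ) 1 * (χ : G → ℂ) (a * x * a⁻¹ * (b * y * b⁻¹)) = (χ : G → ℂ) x * (χ : G → ℂ) y := by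
  classical
  have := Fintype.ofFinite G
  have hG : (Nat.card G : ℂ) ≠ 0 := by exact_mod_cast (Nat.card_pos (α := G)).ne'
  constructor
  · intro hcl a b χ
    have h1 : (χ : G → ℂ) 1 ≠ 0 := irr_one_ne_zero χ
    -- all products of conjugates have the same character value
    have hconst : ∀ a b : G, (χ : G → ℂ) (a * x * a⁻¹ * (b * y * b⁻¹)) = (χ : G → ℂ) (x * y) := by
      intro a b
      have hc : IsConj (x * y) (a * x * a⁻¹ * (b * y * b⁻¹)) := (hcl _).mpr ⟨a, b, rfl⟩
      exact (irr_eq_of_isConj χ hc).symm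
    have hsum := irr_sum_conj_mul χ x y
    have hsum2 : ∑ c : G, (χ : G → ℂ) (c * x * c⁻¹ * y) = (Nat.card G : ℂ) * (χ : G → ℂ) (x * y) := by
      rw [Finset.sum_congr rfl (fun c _ => ?_), Finset.sum_const, Finset.card_univ,
        nsmul_eq_mul, Nat.card_eq_fintype_card]
      have := hconst c 1
      simpa using this
    rw [hsum2] at hsum
    rw [hconst a b]
    have h3 : (Nat.card G : ℂ) * ((χ : G → ℂ) 1 * (χ : G → ℂ) (x * y)) =
        (Nat.card G : ℂ) * ((χ : G → ℂ) x * (χ : G → ℂ) y) := by
      have := congrArg (fun t => t * (χ : G → ℂ) 1) hsum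
      rw [div_mul_cancel₀ _ h1] at this
      linear_combination this
    exact mul_left_cancel₀ hG h3
  · intro hchar z
    constructor
    · rintro ⟨c, hc⟩
      refine ⟨(c : G), (c : G), ?_⟩
      have : z = (c : G) * (x * y) * (c : G)⁻¹ := by
        have := hc
        rw [SemiconjBy] at this
        rw [eq_mul_inv_iff_mul_eq]
        exact this.symm
      rw [this]
      group
    · rintro ⟨a, b, rfl⟩
      rw [isConj_iff_forall_irr_eq]
      intro χ
      have h1 : (χ : G → ℂ) 1 ≠ 0 := irr_one_ne_zero χ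
      have e1 := hchar a b χ
      have e2 := hchar 1 1 χ
      simp only [one_mul, inv_one, mul_one] at e2
      exact mul_left_cancel₀ h1 (e2.trans e1.symm)

end Cfsg.Agent.S4754
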