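import Cfsg.Statements.S4756
import Cfsg.Agent.Lib.H1.MULDVD
import Cfsg.Agent.Lib.H1.MULUNIQ
import Cfsg.Agent.Lib.H14.MULDZ
import Cfsg.Agent.Lib.H20.MULCLS
import Cfsg.Agent.Lib.H20.MULBW3
import Cfsg.Agent.Lib.H3.MULFPF
import Cfsg.Agent.Lib.H21.MULSTR1
import Cfsg.Agent.Lib.H17.MULSTR2
import Cfsg.Agent.Lib.H5.MULBW2
import Cfsg.Agent.Lib.H5.MULBW4
import Cfsg.Agent.S4296
import Cfsg.Agent.Lib.L0.CharLinear
import Cfsg.Agent.Lib.H24.CentralMod

set_option autoImplicit false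
set_option linter.style.haveILetI false
open Cfsg
open scoped commutatorElement

namespace Cfsg.Agent.S4756


/-- `G/[A,P]` is abelian in the structure case. -/
theorem commutator_le_of_structure {G : Type*} [Group G] (A P : Subgroup G) (hAc : IsCyclic ↥A)
    (hsup : A ⊔ P = ⊤)
    (hCab : IsMulCommutative ↥(P ⊓ Subgroup.centralizer (A : Set G)))
    (hDn : (⁅A, P⁆).Normal)
    (hCD : (P ⊓ Subgroup.centralizer (A : Set G)) ⊔ ⁅A, P⁆ = P) :
    commutator G ≤ ⁅A, P⁆ := by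
  haveI := hDn
  set C := P ⊓ Subgroup.centralizer (A : Set G) with hC
  have hAcomm : ∀ a ∈ A, ∀ b ∈ A, a * b = b * a := by
    intro a ha b hb
    obtain ⟨g, hg⟩ := hAc.exists_generator
    obtain ⟨m, hm⟩ := Subgroup.mem_zpowers_iff.mp (hg ⟨a, ha⟩)
    obtain ⟨n, hn⟩ := Subgroup.mem_zpowers_iff.mp (hg ⟨b, hb⟩)
    have h1 : (⟨a, ha⟩ : A) * ⟨b, hb⟩ = ⟨b, hb⟩ * ⟨a, ha⟩ := by
      rw [← hm, ← hn]
      exact (Commute.zpow_zpow_self g m n).eq
    exact congrArg Subtype.val h1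
  have hCcomm : ∀ a ∈ C, ∀ b ∈ C, a * b = b * a := by
    intro a ha b hb
    have h1 : (⟨a, ha⟩ : C) * ⟨b, hb⟩ = ⟨b, hb⟩ * ⟨a, ha⟩ := hCab.is_comm.comm _ _
    exact congrArg Subtype.val h1
  have hAC : ∀ a ∈ A, ∀ c ∈ C, a * c = c * a := by
    intro a ha c hc
    have := (Subgroup.mem_centralizer_iff.mp (Subgroup.mem_inf.mp hc).2) a ha
    exact this
  have hH : IsMulCommutative ↥(Subgroup.closure ((A : Set G) ∪ (C : Set G))) := by
    apply Subgroup.isMulCommutative_closure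
    rintro a (ha | ha) b (hb | hb)
    · exact hAcomm a ha b hb
    · exact hAC a ha b hb
    · exact (hAC b hb a ha).symm
    · exact hCcomm a ha b hb
  apply Subgroup.Normal.commutator_le_of_self_sup_commutative_eq_top (H := Subgroup.closure ((A : Set G) ∪ (C : Set G))) _ hH
  rw [Subgroup.closure_union, Subgroup.closure_eq, Subgroup.closure_eq]
  have h1 : ⁅A, P⁆ ⊔ (A ⊔ C) = A ⊔ (C ⊔ ⁅A, P⁆) := by
    rw [sup_comm, sup_assoc]
  rw [h1, hCD, hsup]

theorem result {G : Type*} [Group G] [Finite G] : (∀ (x y : G) (χ : Cfsg.IrrCharacter G), x ≠ 1 → y ≠ 1 → (∃ p q a b : ℕ, p.Prime ∧ q.Prime ∧ p ≠ q ∧ orderOf x = p ^ a ∧ orderOf y = q ^ b) → (χ : G → ℂ) (x * y) = (χ : G → ℂ) x * (χ : G → ℂ) y) ↔ ((∃ p : ℕ, p.Prime ∧ IsPGroup p G) ∨ IsMulCommutative G ∨ ∃ (p : ℕ) (_ : Fact p.Prime) (P : Sylow p G) (A : Subgroup G), (P : Subgroup G).Normal ∧ IsCyclic ↥A ∧ A ≠ ⊥ ∧ (Nat.card ↥A).Coprime p ∧ A ⊔ (P : Subgroup G) = ⊤ ∧ IsMulCommutative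 ↥((P : Subgroup G) ⊓ Subgroup.centralizer (A : Set G)) ∧ (⁅A, (P : Subgroup G)⁆).Normal ∧ ((P : Subgroup G) ⊓ Subgroup.centralizer (A : Set G)) ⊔ ⁅A, (P : Subgroup G)⁆ = (P : Subgroup G) ∧ ((P : Subgroup G) ⊓ Subgroup.centralizer (A : Set G)) ⊓ ⁅A, (P : Subgroup G)⁆ = ⊥ ∧ ∀ a ∈ A, a ≠ 1 → ∀ d ∈ ⁅A, (P : Subgroup G)⁆, a * d = d * a → d = 1) := by
  classical
  constructor
  · intro h
    by_cases hab : IsMulCommutative G
    · exact Or.inr (Or.inl hab)
    obtain ⟨p, hp, hdv⟩ := Cfsg.Agent.Lib.H1.MUL.exists_prime_common (fun χ hnl => Cfsg.Agent.Lib.H1.MUL.exists_prime_forall_dvd h χ hnl)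
    have hvan : ∀ χ : IrrCharacter G, (χ : G → ℂ) 1 ≠ 1 → ∀ g : G,
        (¬ ∃ k : ℕ, orderOf g = p ^ k) → (χ : G → ℂ) g = 0 := by
      intro χ hnl g hg
      have hex : ∃ s : ℕ, s.Prime ∧ s ≠ p ∧ s ∣ orderOf g := by
        by_contra hcon
        push Not at hcon
        apply hg
        refine ⟨_, Nat.eq_prime_pow_of_unique_prime_dvd (orderOf_pos g).ne' ?_⟩
        intro q hq hqd
        by_contra hne
        exact hcon q hq hne hqd
      obtain ⟨s, hs, hsp, hsd⟩ := hex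
      exact Cfsg.Agent.Lib.H14.MUL.irr_eq_zero_of_pow_factorization_dvd s hs χ (hdv χ hnl s hs hsp) g hsd
    have hK : ∀ g z : G, (¬ ∃ k : ℕ, orderOf g = p ^ k) → g⁻¹ * z ∈ commutator G → IsConj g z :=
      fun g z hg hz => Cfsg.Agent.Lib.H20.MUL.isConj_of_vanish g (fun χ hnl => hvan χ hnl g hg) z hz
    by_cases hpg : IsPGroup p G
    · exact Or.inl ⟨p, hp, hpg⟩
    right; right
    haveI hpf : Fact p.Prime := ⟨hp⟩
    have hD := Cfsg.Agent.Lib.H3.MUL.isPGroup_commutator p hp hK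
    have hfpf := fun h d => Cfsg.Agent.Lib.H3.MUL.eq_one_of_commute_of_mem_commutator p hp hK h d
    obtain ⟨P, A, hPn, hDP, hsup, hinf, hcop, hAab⟩ := Cfsg.Agent.Lib.H21.MUL.exists_sylow_complement p hD
    have hA1 : A ≠ ⊥ := by
      rintro rfl
      rw [bot_sup_eq] at hsup
      apply hpg
      have h1 : IsPGroup p ↥(P : Subgroup G) := P.isPGroup'
      rw [hsup] at h1
      intro g
      obtain ⟨k, hk⟩ := h1 ⟨g, Subgroup.mem_top g⟩
      exact ⟨k, congrArg Subtype.val hk⟩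
    obtain ⟨a₀, ha₀, ha₀1⟩ := (Subgroup.ne_bot_iff_exists_ne_one (H := A)).mp hA1 |>.imp
      (fun a h => h) |> fun ⟨a, ha⟩ => (⟨(a : G), a.2, fun h => ha (Subtype.ext h)⟩ :
        ∃ a₀ : G, a₀ ∈ A ∧ a₀ ≠ 1)
    have hAcop : ∀ a ∈ A, (orderOf a).Coprime p := by
      intro a ha
      have h1 : orderOf a ∣ Nat.card ↥A := by
        have := orderOf_dvd_natCard (⟨a, ha⟩ : A)
        rwa [← Subgroup.orderOf_coe] at this
      exact Nat.Coprime.coprime_dvd_left h1 hcop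
    have hfa₀ : ∀ d ∈ commutator G, a₀ * d = d * a₀ → d = 1 :=
      fun d hd hc => hfpf a₀ d ha₀1 (hAcop a₀ ha₀) hd hc
    obtain ⟨hcomm, hCD⟩ := Cfsg.Agent.Lib.H17.MUL.commutator_eq_and_sup_eq (P : Subgroup G) A hPn hDP hsup hAab a₀ ha₀ hfa₀
    have hD1 : commutator G ≠ ⊥ := by
      intro hbot
      apply hab
      refine ⟨⟨fun a b => ?_⟩⟩
      have h1 : ⁅a, b⁆ ∈ commutator G :=
        Subgroup.commutator_mem_commutator (Subgroup.mem_top a) (Subgroup.mem_top b)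
      rw [hbot, Subgroup.mem_bot, commutatorElement_eq_one_iff_mul_comm] at h1
      exact h1
    have hcyc : IsCyclic ↥A := by
      haveI := hAab
      apply Cfsg.Agent.S4296.isCyclic_of_fpf_abelian (K := commutator G) hD1
      · rw [Subgroup.normalizer_eq_top]; exact le_top
      · intro a ha ha1
        rw [Subgroup.eq_bot_iff_forall]
        intro d hd
        obtain ⟨hd1, hd2⟩ := Subgroup.mem_inf.mp hd
        rw [Subgroup.mem_centralizer_singleton_iff] at hd2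
        exact hfpf a d ha1 (hAcop a ha) hd1 hd2.symm
    refine ⟨p, hpf, P, A, hPn, hcyc, hA1, hcop, hsup, ?_, ?_, ?_, ?_, ?_⟩
    · refine ⟨⟨fun c₁ c₂ => ?_⟩⟩
      have hc₁ := (Subgroup.mem_inf.mp c₁.2).2
      have hc₂ := (Subgroup.mem_inf.mp c₂.2).2
      have e₁ : a₀ * (c₁ : G) = (c₁ : G) * a₀ := (Subgroup.mem_centralizer_iff.mp hc₁ a₀ ha₀)
      have e₂ : a₀ * (c₂ : G) = (c₂ : G) * a₀ := (Subgroup.mem_centralizer_iff.mp hc₂ a₀ ha₀)
      have h1 : ⁅(c₁ : G), (c₂ : G)⁆ ∈ commutator G :=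
        Subgroup.commutator_mem_commutator (Subgroup.mem_top _) (Subgroup.mem_top _)
      have h2 : a₀ * ⁅(c₁ : G), (c₂ : G)⁆ = ⁅(c₁ : G), (c₂ : G)⁆ * a₀ := by
        have c1 : Commute a₀ (c₁ : G) := e₁
        have c2 : Commute a₀ (c₂ : G) := e₂
        rw [commutatorElement_def]
        exact (((c1.mul_right c2).mul_right c1.inv_right).mul_right c2.inv_right).eq
      have h3 := hfa₀ _ h1 h2
      rw [commutatorElement_eq_one_iff_mul_comm] at h3
      exact Subtype.ext h3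
    · rw [hcomm]; infer_instance
    · rw [hcomm]; exact hCD
    · rw [hcomm, Subgroup.eq_bot_iff_forall]
      intro d hd
      obtain ⟨hd1, hd2⟩ := Subgroup.mem_inf.mp hd
      have hd3 := (Subgroup.mem_inf.mp hd1).2
      exact hfa₀ d hd2 (Subgroup.mem_centralizer_iff.mp hd3 a₀ ha₀)
    · rw [hcomm]
      intro a ha ha1 d hd hc
      exact hfpf a d ha1 (hAcop a ha) hd hc
  · rintro (⟨p, hp, hpg⟩ | hab | hstr)
    · -- p-group: vacuous
      intro x y χ hx hy ⟨r, s, a, b, hr, hs, hrs, hxo, hyo⟩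
      exfalso
      haveI : Fact p.Prime := ⟨hp⟩
      have key : ∀ (z : G) (t c : ℕ), t.Prime → z ≠ 1 → orderOf z = t ^ c → t = p := by
        intro z t c ht hz hzo
        obtain ⟨k, hk⟩ := (IsPGroup.iff_orderOf.mp hpg) z
        have hc : c ≠ 0 := by
          rintro rfl
          rw [pow_zero, orderOf_eq_one_iff] at hzo
          exact hz hzo
        have h1 : t ∣ p ^ k := by
          rw [← hk, hzo]
          exact dvd_pow_self t hc
        exact (Nat.prime_dvd_prime_iff_eq ht hp).mp (ht.dvd_of_dvd_pow h1)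
      exact hrs ((key x r a hr hx hxo).trans (key y s b hs hy hyo).symm)
    · -- abelian: all characters linear
      intro x y χ _ _ _
      have h1 : (χ : G → ℂ) 1 = 1 := by
        apply Cfsg.Agent.Lib.H24.linear_of_commutator_ker χ.2
        intro a b
        have : a * b * a⁻¹ * b⁻¹ = 1 := by
          have hc : a * b = b * a := hab.is_comm.comm a b
          rw [hc]; group
        rw [this]
      exact Cfsg.Agent.Lib.L0.linear_char_mul (Cfsg.Agent.Lib.L0.isCharacter_of_irr χ.2) h1 x y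
    · -- structure case
      obtain ⟨p, hpf, hstr⟩ := hstr
      haveI := hpf
      obtain ⟨P, A, hPn, hAc, hA1, hcop, hsup, hCab, hDn, hCD, hCDbot, hfpf⟩ := hstr
      intro x y χ hx hy ⟨r, s, a, b, hr, hs, hrs, hxo, hyo⟩
      have hp : p.Prime := Fact.out
      by_cases hlin : (χ : G → ℂ) 1 = 1
      · exact Cfsg.Agent.Lib.L0.linear_char_mul (Cfsg.Agent.Lib.L0.isCharacter_of_irr χ.2) hlin x y
      have hGD := commutator_le_of_structure A (P : Subgroup G) hAc hsup hCab hDn hCD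
      have hDP : ⁅A, (P : Subgroup G)⁆ ≤ (P : Subgroup G) := by
        haveI := hPn
        exact Subgroup.commutator_le_right A (P : Subgroup G)
      have hvan : ∀ g : G, g ∉ (P : Subgroup G) → (χ : G → ℂ) g = 0 := by
        intro g hg
        apply Cfsg.Agent.Lib.H20.MUL.irr_eq_zero_of_centralizer_inf_eq_bot ⁅A, (P : Subgroup G)⁆ hDn hGD g _ χ hlin
        intro d hd hc
        exact Cfsg.Agent.Lib.H5.MUL.eq_one_of_commute_of_not_mem p P A ⁅A, (P : Subgroup G)⁆ hPn hcop hsup hDn hDP hfpf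
          g hg d hd hc
      by_cases hrp : r = p
      · have hsp : s ≠ p := fun h => hrs (hrp.trans h.symm)
        obtain ⟨h1, h2, h3⟩ := Cfsg.Agent.Lib.H5.MUL.not_mem_of_prime_pow_order p hp (P : Subgroup G) hPn P.isPGroup'
          y x hy s r b a hs hr (Ne.symm hrs) hsp hyo hxo
        rw [hvan _ h3, hvan _ h1, mul_zero]
      · obtain ⟨h1, h2, h3⟩ := Cfsg.Agent.Lib.H5.MUL.not_mem_of_prime_pow_order p hp (P : Subgroup G) hPn P.isPGroup'
          x y hx r s a b hr hs hrs hrp hxo hyo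
        rw [hvan _ h2, hvan _ h1, zero_mul]

end Cfsg.Agent.S4756
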