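import Cfsg.Statements.S4762
import Cfsg.Agent.S0095
import Cfsg.Agent.S0894
import Cfsg.Agent.Lib.H24.CharProd
import Cfsg.Agent.Lib.H24.CharOrth
import Cfsg.Agent.Lib.H24.CharSchur
import Cfsg.Agent.Lib.H8.Nilpotent
import Cfsg.Agent.Lib.H27.Extraspecial
import Cfsg.Agent.Lib.H23.DegreeDvd
import Cfsg.Agent.Lib.H23.Extraspecial
import Cfsg.Agent.Lib.L0.CharLinear
import Cfsg.Agent.Lib.H23.CenterIndex
import Cfsg.Agent.Lib.H23.Zeros

set_option autoImplicit false
open Cfsg

namespace Cfsg.Agent.S4762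

open Cfsg.Agent.Lib.H24 Cfsg.Agent.Lib.L0 Cfsg.Agent.Lib.H23
open scoped ComplexConjugate

/-- A nilpotent group with exactly one irreducible character of degree divisible by `p` is a
`p`-group. -/
theorem isPGroup_of_unique {G : Type*} [Group G] [Finite G] [Group.IsNilpotent G] (p : ℕ)
    [Fact p.Prime]
    (h1 : Nat.card {χ : IrrCharacter G // p ∣ charDegree (χ : G → ℂ)} = 1) : IsPGroup p G := by
  classical
  have hp : p.Prime := Fact.out
  let P : Sylow p G := default
  have hPn : (P : Subgroup G).Normal :=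
    Sylow.normal_of_normalizerCondition Group.normalizerCondition_of_isNilpotent P
  have hcop : (Nat.card (P : Subgroup G)).Coprime (P : Subgroup G).index := P.card_coprime_index
  obtain ⟨H, hH⟩ := Subgroup.exists_right_complement'_of_coprime hcop
  have hcardPH : Nat.card (P : Subgroup G) * Nat.card H = Nat.card G := hH.card_mul_card
  have hHidx : Nat.card H = (P : Subgroup G).index := by
    have h2 := Subgroup.card_mul_index (P : Subgroup G)
    rw [← hcardPH] at h2
    exact (Nat.eq_of_mul_eq_mul_left Nat.card_pos h2).symm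
  have hHcop : (Nat.card H).Coprime p := by
    rw [hHidx]
    exact (hp.coprime_iff_not_dvd.mpr P.not_dvd_index).symm
  have hcomm : ∀ (a : (P : Subgroup G)) (b : H), Commute (a : G) (b : G) := by
    intro a b
    apply Cfsg.Agent.Lib.H8.commute_of_coprime_orderOf G
    obtain ⟨k, hk⟩ := (IsPGroup.iff_orderOf.mp P.2) a
    rw [← Subgroup.orderOf_coe] at hk
    rw [hk]
    apply Nat.Coprime.pow_left
    have hb : orderOf (b : G) ∣ Nat.card H := Subgroup.orderOf_dvd_natCard H b.2
    exact (Nat.Coprime.coprime_dvd_left hb hHcop).symm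
  -- the isomorphism P × H ≃* G
  let φ : ↥(P : Subgroup G) × ↥H ≃* G :=
    MulEquiv.ofBijective
      (MonoidHom.noncommCoprod (P : Subgroup G).subtype H.subtype (fun a b => hcomm a b))
      hH
  have hφ : ∀ a b, φ (a, b) = (a : G) * (b : G) := fun a b => rfl
  -- transport of characters
  let T : IrrCharacter (↥(P : Subgroup G) × ↥H) → IrrCharacter G := fun θ =>
    ⟨(θ : _ → ℂ) ∘ φ.symm,
      isIrrCharacter_comp_of_surjective φ.symm.toMonoidHom φ.symm.surjective θ.2⟩
  have hT : ∀ θ x, (T θ : G → ℂ) (φ x) = (θ : _ → ℂ) x := by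
    intro θ x
    show (θ : _ → ℂ) (φ.symm (φ x)) = _
    rw [MulEquiv.symm_apply_apply]
  -- the unique character
  obtain ⟨⟨χ₀, hχ₀⟩, huniq⟩ := Nat.card_eq_one_iff_exists.mp h1
  have huniq' : ∀ ψ : IrrCharacter G, p ∣ charDegree (ψ : G → ℂ) → ψ = χ₀ := by
    intro ψ hψ
    exact congrArg Subtype.val (huniq ⟨ψ, hψ⟩)
  -- decompose χ₀ ∘ φ
  have hirr0 : IsIrrCharacter (↥(P : Subgroup G) × ↥H) ((χ₀ : G → ℂ) ∘ φ) :=
    isIrrCharacter_comp_of_surjective φ.toMonoidHom φ.surjective χ₀.2
  obtain ⟨α, β, hα, hβ, hαβ⟩ := exists_prodChar_of_isIrrCharacter hirr0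
  have hdeg0 : charDegree (χ₀ : G → ℂ) = charDegree α * charDegree β := by
    apply charDegree_eq_of_apply_one
    have h2 : (χ₀ : G → ℂ) 1 = prodChar α β 1 := by
      rw [← hαβ]
      show (χ₀ : G → ℂ) 1 = (χ₀ : G → ℂ) (φ 1)
      rw [map_one]
    rw [h2, prodChar_apply, Prod.fst_one, Prod.snd_one, apply_one_eq_charDegree α hα,
      apply_one_eq_charDegree β hβ]
    push_cast
    rfl
  have hβdeg : (charDegree β).Coprime p :=
    Nat.Coprime.coprime_dvd_left (charDegree_dvd_card β hβ) hHcop
  have hαdeg : p ∣ charDegree α := by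
    rw [hdeg0] at hχ₀
    exact (Nat.Coprime.dvd_mul_right hβdeg.symm).mp hχ₀
  -- H is trivial
  have hHbot : Nat.card H = 1 := by
    by_contra hne
    have hnt : Nontrivial H := by
      apply (Finite.one_lt_card_iff_nontrivial).mp
      have : 0 < Nat.card H := Nat.card_pos
      omega
    have hntI : Nontrivial (IrrCharacter H) := by
      apply (Finite.one_lt_card_iff_nontrivial).mp
      rw [card_irr_eq_card_conjClasses]
      obtain ⟨b, hb⟩ := exists_ne (1 : H)
      have : Nontrivial (ConjClasses H) := by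
        refine ⟨⟨ConjClasses.mk 1, ConjClasses.mk b, fun h => ?_⟩⟩
        have := ConjClasses.mk_eq_mk_iff_isConj.mp h
        exact hb (isConj_one_right.mp this)
      exact Finite.one_lt_card
    obtain ⟨β', hβ'⟩ := exists_ne (⟨β, hβ⟩ : IrrCharacter H)
    let θ' : IrrCharacter (↥(P : Subgroup G) × ↥H) :=
      ⟨prodChar α (β' : H → ℂ), isIrrCharacter_prodChar hα β'.2⟩
    have hdeg' : charDegree (T θ' : G → ℂ) = charDegree α * charDegree (β' : H → ℂ) := by
      apply charDegree_eq_of_apply_one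
      have h2 : (T θ' : G → ℂ) 1 = prodChar α (β' : H → ℂ) 1 := by
        have := hT θ' 1
        rw [map_one] at this
        exact this
      rw [h2, prodChar_apply, Prod.fst_one, Prod.snd_one, apply_one_eq_charDegree α hα,
        apply_one_eq_charDegree _ β'.2]
      push_cast
      rfl
    have h3 : T θ' = χ₀ := huniq' _ (by rw [hdeg']; exact Dvd.dvd.mul_right hαdeg _)
    apply hβ'
    apply Subtype.ext
    funext b
    have h4 : (T θ' : G → ℂ) (φ (1, b)) = (χ₀ : G → ℂ) (φ (1, b)) := by rw [h3]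
    rw [hT] at h4
    have h5 : (χ₀ : G → ℂ) (φ (1, b)) = prodChar α β (1, b) := by
      rw [← hαβ]; rfl
    rw [h5] at h4
    simp only [θ', prodChar_apply] at h4
    have hα1 : α 1 ≠ 0 := irr_one_ne_zero ⟨α, hα⟩
    exact mul_left_cancel₀ hα1 h4
  obtain ⟨k, hk⟩ := IsPGroup.iff_card.mp P.2
  apply IsPGroup.of_card (n := k)
  rw [← hcardPH, hHbot, mul_one, hk]

/-- A `p`-group with exactly one irreducible character of degree divisible by `p` is an
extraspecial `2`-group. -/
theorem extraspecial_of_unique {G : Type*} [Group G] [Finite G] (p : ℕ) [Fact p.Prime]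
    (hG : IsPGroup p G)
    (h1 : Nat.card {χ : IrrCharacter G // p ∣ charDegree (χ : G → ℂ)} = 1) :
    p = 2 ∧ IsExtraspecial 2 G := by
  classical
  have hp : p.Prime := Fact.out
  have := Fintype.ofFinite G
  have := Fintype.ofFinite (IrrCharacter G)
  obtain ⟨n, hn⟩ := IsPGroup.iff_card.mp hG
  have hdegpow : ∀ ψ : IrrCharacter G, ∃ j, charDegree (ψ : G → ℂ) = p ^ j := by
    intro ψ
    have := charDegree_dvd_card _ ψ.2
    rw [hn] at this
    obtain ⟨j, -, hj⟩ := (Nat.dvd_prime_pow hp).mp this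
    exact ⟨j, hj⟩
  have hiff : ∀ ψ : IrrCharacter G, p ∣ charDegree (ψ : G → ℂ) ↔ ¬ (ψ : G → ℂ) 1 = 1 := by
    intro ψ
    obtain ⟨j, hj⟩ := hdegpow ψ
    rw [apply_one_eq_charDegree _ ψ.2, hj]
    constructor
    · intro h heq
      have h2 : p ^ j = 1 := by exact_mod_cast heq
      rw [h2] at h
      exact hp.one_lt.ne' (Nat.dvd_one.mp h)
    · intro h
      have hj0 : j ≠ 0 := by
        rintro rfl
        apply h
        simp
      exact dvd_pow_self p hj0
  obtain ⟨⟨χ₀, hχ₀⟩, huniq⟩ := Nat.card_eq_one_iff_exists.mp h1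
  have huniq' : ∀ ψ : IrrCharacter G, p ∣ charDegree (ψ : G → ℂ) → ψ = χ₀ := by
    intro ψ hψ
    exact congrArg Subtype.val (huniq ⟨ψ, hψ⟩)
  set d := charDegree (χ₀ : G → ℂ) with hd
  obtain ⟨j, hj'⟩ := hdegpow χ₀
  have hj : d = p ^ j := hj'
  have hj0 : j ≠ 0 := by
    rintro rfl
    rw [pow_zero] at hj
    rw [hj] at hχ₀
    exact hp.one_lt.ne' (Nat.dvd_one.mp hχ₀)
  -- sum of squares of degrees
  set K := commutator G with hK
  have hsumsq : K.index + d ^ 2 = Nat.card G := by
    have h2 := sum_irr_one_mul (G := G) 1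
    rw [if_pos rfl] at h2
    rw [← Finset.sum_filter_add_sum_filter_not Finset.univ
      (fun ψ : IrrCharacter G => (ψ : G → ℂ) 1 = 1)] at h2
    have hfirst : ∑ ψ ∈ Finset.univ.filter (fun ψ : IrrCharacter G => (ψ : G → ℂ) 1 = 1),
        (ψ : G → ℂ) 1 * (ψ : G → ℂ) 1 = (K.index : ℂ) := by
      rw [Finset.sum_congr rfl (fun ψ hψ => by
        rw [(Finset.mem_filter.mp hψ).2, mul_one] : ∀ ψ ∈ Finset.univ.filter
          (fun ψ : IrrCharacter G => (ψ : G → ℂ) 1 = 1), (ψ : G → ℂ) 1 * (ψ : G → ℂ) 1 = 1)]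
      rw [Finset.sum_const, nsmul_eq_mul, mul_one, ← card_linear_irr, Nat.card_eq_fintype_card,
        Fintype.card_subtype]
    have hsecond : ∑ ψ ∈ Finset.univ.filter (fun ψ : IrrCharacter G => ¬ (ψ : G → ℂ) 1 = 1),
        (ψ : G → ℂ) 1 * (ψ : G → ℂ) 1 = ((d ^ 2 : ℕ) : ℂ) := by
      have : Finset.univ.filter (fun ψ : IrrCharacter G => ¬ (ψ : G → ℂ) 1 = 1) = {χ₀} := by
        ext ψ
        rw [Finset.mem_filter, Finset.mem_singleton]
        constructor
        · intro h
          exact huniq' ψ ((hiff ψ).mpr h.2)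
        · rintro rfl
          exact ⟨Finset.mem_univ _, (hiff _).mp hχ₀⟩
      rw [this, Finset.sum_singleton, apply_one_eq_charDegree _ χ₀.2]
      push_cast
      ring
    rw [hfirst, hsecond] at h2
    exact_mod_cast h2
  have hKidx : Nat.card K * K.index = Nat.card G := Subgroup.card_mul_index K
  obtain ⟨k, hk⟩ := IsPGroup.iff_card.mp (hG.to_subgroup K)
  obtain ⟨l, hl⟩ := hG.index K
  -- d^2 = L * (|K| - 1)
  have hdpos : 0 < d := by rw [hj]; exact pow_pos hp.pos _
  have hLpos : 0 < K.index := by rw [hl]; exact pow_pos hp.pos _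
  have hk0 : k ≠ 0 := by
    rintro rfl
    rw [pow_zero] at hk
    rw [hk, one_mul] at hKidx
    have : d ^ 2 = 0 := by omega
    have := pow_eq_zero_iff (two_ne_zero) |>.mp this
    omega
  have hkey : d ^ 2 = K.index * (p ^ k - 1) := by
    have h3 : p ^ k * K.index = K.index + d ^ 2 := by rw [← hk, hKidx, hsumsq]
    have h4 : 1 ≤ p ^ k := Nat.one_le_pow _ _ hp.pos
    have h5 : p ^ k * K.index = K.index * (p ^ k - 1) + K.index := by
      have : p ^ k = (p ^ k - 1) + 1 := by omega
      calc p ^ k * K.index = ((p ^ k - 1) + 1) * K.index := by rw [← this]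
        _ = K.index * (p ^ k - 1) + K.index := by ring
    omega
  have hone : p ^ k - 1 = 1 := by
    have hdvd : p ^ k - 1 ∣ p ^ (j * 2) := by
      rw [pow_mul, ← hj, hkey]
      exact dvd_mul_left _ _
    have hcop : (p ^ k - 1).Coprime (p ^ (j * 2)) := by
      apply Nat.Coprime.pow_right
      rw [Nat.coprime_comm, hp.coprime_iff_not_dvd]
      intro h
      have h6 : p ∣ p ^ k := dvd_pow_self p hk0
      have h4 : 1 ≤ p ^ k := Nat.one_le_pow _ _ hp.pos
      have : p ∣ 1 := by
        have := (Nat.dvd_sub h6 h)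
        rwa [Nat.sub_sub_self h4] at this
      exact hp.one_lt.ne' (Nat.dvd_one.mp this)
    exact Nat.Coprime.eq_one_of_dvd hcop hdvd
  have hpk : p ^ k = 2 := by
    have h4 : 1 ≤ p ^ k := Nat.one_le_pow _ _ hp.pos
    omega
  have hp2 : p = 2 := by
    have : p ∣ 2 := by rw [← hpk]; exact dvd_pow_self p hk0
    exact (Nat.prime_dvd_prime_iff_eq hp Nat.prime_two).mp this
  have hKcard : Nat.card K = 2 := by rw [hk, hpk]
  have hLd : K.index = d ^ 2 := by rw [hkey, hone, mul_one]
  refine ⟨hp2, ?_⟩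
  subst hp2
  -- K is central
  have hKn : K.Normal := by rw [hK]; infer_instance
  have hKcen : K ≤ Subgroup.center G := by
    intro x hx
    rw [Subgroup.mem_center_iff]
    intro g
    by_cases hx1 : x = 1
    · rw [hx1, mul_one, one_mul]
    · obtain ⟨c, hc, hcu⟩ := (Nat.card_eq_two_iff' (1 : K)).mp hKcard
      have hxc : (⟨x, hx⟩ : K) = c := hcu _ (fun h => hx1 (congrArg Subtype.val h))
      have hgx : g * x * g⁻¹ ∈ K := hKn.conj_mem x hx g
      have hgx1 : (⟨g * x * g⁻¹, hgx⟩ : K) ≠ 1 := by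
        intro h
        have h2 : g * x * g⁻¹ = 1 := congrArg Subtype.val h
        apply hx1
        have : x = g⁻¹ * (g * x * g⁻¹) * g := by group
        rw [this, h2]; group
      have := hcu _ hgx1
      rw [← hxc] at this
      have h3 : g * x * g⁻¹ = x := congrArg Subtype.val this
      calc g * x = (g * x * g⁻¹) * g := by group
        _ = x * g := by rw [h3]
  -- |Z| ≤ 2
  have hZle : Nat.card (Subgroup.center G) ≤ 2 := by
    obtain ⟨m, ρ, hρ, hχ⟩ := χ₀.2
    have : ρ.IsIrreducible := hρ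
    have hsum := sum_normSq_char_eq_card ρ
    have hfin : (Module.finrank ℂ (Fin m → ℂ) : ℂ) = (d : ℂ) := by
      rw [← Representation.char_one ρ, hχ, apply_one_eq_charDegree _ χ₀.2]
    have hfin' : Module.finrank ℂ (Fin m → ℂ) = d := by exact_mod_cast hfin
    have hle : ∑ g ∈ Finset.univ.filter (fun g : G => g ∈ Subgroup.center G),
        ‖ρ.character g‖ ^ 2 ≤ ∑ g : G, ‖ρ.character g‖ ^ 2 :=
      Finset.sum_le_sum_of_subset_of_nonneg (Finset.filter_subset _ _)
        (fun _ _ _ => by positivity)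
    have heq : ∑ g ∈ Finset.univ.filter (fun g : G => g ∈ Subgroup.center G),
        ‖ρ.character g‖ ^ 2 = (Nat.card (Subgroup.center G) : ℝ) * (d : ℝ) ^ 2 := by
      rw [Finset.sum_congr rfl (fun g hg => by
        rw [(norm_char_eq_finrank_iff ρ g).mpr
          (exists_smul_of_mem_center ρ (Finset.mem_filter.mp hg).2), hfin'] :
        ∀ g ∈ Finset.univ.filter (fun g : G => g ∈ Subgroup.center G),
          ‖ρ.character g‖ ^ 2 = (d : ℝ) ^ 2)]
      rw [Finset.sum_const, nsmul_eq_mul, Nat.card_eq_fintype_card, Fintype.card_subtype]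
    rw [heq, hsum] at hle
    have hle' : Nat.card (Subgroup.center G) * d ^ 2 ≤ Nat.card G := by exact_mod_cast hle
    have hG2 : Nat.card G = 2 * d ^ 2 := by rw [← hKidx, hKcard, hLd]
    rw [hG2] at hle'
    have hd2 : 0 < d ^ 2 := pow_pos hdpos 2
    exact Nat.le_of_mul_le_mul_right hle' hd2
  have hZK : K = Subgroup.center G := by
    apply Subgroup.eq_of_le_of_card_ge hKcen
    rw [hKcard]; exact hZle
  have hZcard : Nat.card (Subgroup.center G) = 2 := by rw [← hZK, hKcard]
  -- squares are central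
  have hsq : ∀ x : G, x ^ 2 ∈ Subgroup.center G := by
    intro x
    rw [Subgroup.mem_center_iff]
    intro y
    set c : G := y * x * y⁻¹ * x⁻¹ with hc
    have hcK : c ∈ K := by
      rw [hK, commutator_def]
      exact Subgroup.commutator_mem_commutator (Subgroup.mem_top y) (Subgroup.mem_top x)
    have hcZ : c ∈ Subgroup.center G := hKcen hcK
    have hcc : ∀ g : G, g * c = c * g := Subgroup.mem_center_iff.mp hcZ
    have hc2 : c ^ 2 = 1 := by
      have : (⟨c, hcK⟩ : K) ^ Nat.card K = 1 := pow_card_eq_one'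
      rw [hKcard] at this
      exact congrArg Subtype.val this
    have hyx : y * x = c * x * y := by rw [hc]; group
    calc y * x ^ 2 = (y * x) * x := by rw [pow_two]; group
      _ = (c * x * y) * x := by rw [hyx]
      _ = c * x * (y * x) := by group
      _ = c * x * (c * x * y) := by rw [hyx]
      _ = (x * c) * c * x * y := by rw [hcc x]; group
      _ = x * (c * c) * x * y := by group
      _ = x ^ 2 * y := by rw [← pow_two c, hc2, mul_one, pow_two]
  exact Cfsg.Agent.Lib.H27.isExtraspecial_of_center 2 hG hZcard hZK hsq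

/-- Let p be a prime and G a finite nilpotent group. Then G has exactly one irreducible complex character of degree divisible by p if and only if p = 2 and G is an extraspecial 2-group. -/
theorem result {G : Type*} [Group G] [Finite G] [Group.IsNilpotent G] (p : ℕ) [Fact p.Prime] : Nat.card {χ : Cfsg.IrrCharacter G // p ∣ Cfsg.charDegree (χ : G → ℂ)} = 1 ↔ (p = 2 ∧ Cfsg.IsExtraspecial 2 G) := by
  constructor
  · intro h1
    exact extraspecial_of_unique p (isPGroup_of_unique p h1) h1
  · rintro ⟨rfl, hE⟩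
    obtain ⟨n, hn1, hcard⟩ := Cfsg.Agent.S0095.result hE
    obtain ⟨hdeg, hcount⟩ := Cfsg.Agent.S0894.result 2 n hE hcard
    have hcount' : Nat.card {χ : IrrCharacter G // (χ : G → ℂ) 1 = ((2 : ℕ) : ℂ) ^ n} = 1 := hcount
    rw [← hcount']
    apply Nat.card_congr
    apply Equiv.subtypeEquivRight
    intro χ
    have h1 := apply_one_eq_charDegree _ χ.2
    constructor
    · intro h2
      rcases hdeg χ with h3 | h3
      · exfalso
        have : charDegree (χ : G → ℂ) = 1 := by
          rw [h1] at h3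
          exact_mod_cast h3
        rw [this] at h2
        omega
      · exact h3
    · intro h2
      have : charDegree (χ : G → ℂ) = 2 ^ n := by
        rw [h1] at h2
        exact_mod_cast h2
      rw [this]
      exact dvd_pow_self 2 (by omega)

end Cfsg.Agent.S4762
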