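import Cfsg.Statements.S4763
import Mathlib
import Cfsg.Agent.Lib.H24.OneCharP2

set_option autoImplicit false
open Cfsg

namespace Cfsg.Agent.S4763

/-- Let p be a prime and G a finite group that is not nilpotent and has a normal p-complement (a normal subgroup of order prime to p and index a power of p). If G has exactly one irreducible complex character of degree divisible by p, then G has exactly one conjugacy class whose size is divisible by p. -/
theorem result {G : Type*} [Group G] [Finite G] (p : ℕ) [Fact p.Prime] (hnil : ¬ Group.IsNilpotent G) (N : Subgroup G) [N.Normal] (hN : (Nat.card N).Coprime p) (hidx : ∃ k : ℕ, N.index = p ^ k) (hone : Nat.card {χ : Cfsg.IrrCharacter G // p ∣ Cfsg.charDegree (χ : G → ℂ)} = 1) : Nat.card {C : ConjClasses G // p ∣ Nat.card C.carrier} = 1 := by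
  classical
  letI : Fintype G := Fintype.ofFinite G
  have hp : p.Prime := Fact.out
  obtain ⟨k, hk⟩ := hidx
  have hcopidx : Nat.Coprime (Nat.card N) N.index := by
    rw [hk]
    exact Nat.Coprime.pow_right k hN
  obtain ⟨P, hP⟩ := Subgroup.exists_right_complement'_of_coprime hcopidx
  have hcardP : Nat.card P = p ^ k := by
    rw [← hk]
    exact hP.symm.index_eq_card.symm
  have hPp : IsPGroup p P := IsPGroup.of_card hcardP
  have hprod : N ⊔ P = ⊤ := hP.sup_eq_top
  have hcop : (Nat.card N).Coprime (Nat.card P) := by
    rw [hcardP]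
    exact Nat.Coprime.pow_right k hN
  have hpN : ¬ p ∣ Nat.card N := by
    intro h
    have h1 : p ∣ Nat.gcd (Nat.card N) p := Nat.dvd_gcd h dvd_rfl
    rw [hN] at h1
    exact hp.one_lt.ne' (Nat.dvd_one.mp h1)
  have hNbot : N ≠ ⊥ := by
    intro hbot
    apply hnil
    have h1 : Nat.card G = p ^ k := by
      rw [← hk, ← N.card_mul_index, hbot, Subgroup.card_bot, one_mul]
    exact (IsPGroup.of_card h1).isNilpotent
  exact Cfsg.Agent.Lib.H24.OneCharP.card_cls_dvd_eq_one N P hprod hcop hPp hpN hNbot hone

end Cfsg.Agent.S4763
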