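import Cfsg.Statements.S4765
import Mathlib
import Cfsg.Agent.Lib.H21.SL2Deg

set_option autoImplicit false
open Cfsg

namespace Cfsg.Agent.S4765

open Cfsg.Agent.Lib.H12 Cfsg.Agent.Lib.H24 Cfsg.Agent.Lib.L0 Cfsg.Agent.Lib.H21.Deg

/-- Let F be a finite field of characteristic p with at least 4 elements. Then PSL(2,F) has exactly one irreducible complex character of degree divisible by p, and its degree is the order of F. -/
theorem result (p : ℕ) [Fact p.Prime] (F : Type*) [Field F] [Fintype F] [CharP F p] (hF : 4 ≤ Fintype.card F) : Nat.card {χ : Cfsg.IrrCharacter (Matrix.ProjectiveSpecialLinearGroup (Fin 2) F) // p ∣ Cfsg.charDegree (χ : Matrix.ProjectiveSpecialLinearGroup (Fin 2) F → ℂ)} = 1 ∧ ∀ χ : Cfsg.IrrCharacter (Matrix.ProjectiveSpecialLinearGroup (Fin 2) F), p ∣ Cfsg.charDegree (χ : Matrix.ProjectiveSpecialLinearGroup (Fin 2) F → ℂ) → Cfsg.charDegree (χ : Matrix.ProjectiveSpecialLinearGroup (Fin 2) F → ℂ) = Fintype.card F := by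
  classical
  have hpp : p.Prime := Fact.out
  obtain ⟨n, hn⟩ := FiniteField.card F p
  have hpq : p ∣ Fintype.card F := by
    rw [hn.2]
    exact dvd_pow_self p n.pos.ne'
  have hp1 : ¬ p ∣ 1 := hpp.one_lt.ne' ∘ Nat.dvd_one.mp
  -- the only irreducible character of `SL₂` of degree divisible by `p` is the Steinberg character
  have key : ∀ χ : IrrCharacter (Matrix.SpecialLinearGroup (Fin 2) F),
      p ∣ charDegree (χ : Matrix.SpecialLinearGroup (Fin 2) F → ℂ) →
      (χ : Matrix.SpecialLinearGroup (Fin 2) F → ℂ) = stCharSL ∧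
        charDegree (χ : Matrix.SpecialLinearGroup (Fin 2) F → ℂ) = Fintype.card F := by
    intro χ hdvd
    obtain ⟨k, hk, hcases⟩ := sl2_irr_classification_deg χ.2
    have hdeg : charDegree (χ : Matrix.SpecialLinearGroup (Fin 2) F → ℂ) = k :=
      Cfsg.Agent.Lib.H23.charDegree_eq_of_apply_one hk
    rw [hdeg] at hdvd ⊢
    rcases hcases with ⟨-, h⟩ | ⟨h1, h⟩ | ⟨γ, -, -, h⟩ | ⟨γ, χ', δ, -, -, -, -, -, -, h⟩ |
      ⟨π, -, -, h⟩ | ⟨π, χ', δ, -, -, -, -, -, h⟩
    · exfalso; rw [h] at hdvd; exact hp1 hdvd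
    · exact ⟨h1, h⟩
    · exfalso
      rw [h] at hdvd
      exact hp1 ((Nat.dvd_add_right hpq).mp hdvd)
    · exfalso
      have h2 : p ∣ Fintype.card F + 1 := by
        rw [← h]; exact Dvd.dvd.mul_left hdvd 2
      exact hp1 ((Nat.dvd_add_right hpq).mp h2)
    · exfalso
      rw [← h] at hpq
      exact hp1 ((Nat.dvd_add_right hdvd).mp hpq)
    · exfalso
      rw [← h] at hpq
      exact hp1 ((Nat.dvd_add_right (Dvd.dvd.mul_left hdvd 2)).mp hpq)
  have hsecond : ∀ χ : Cfsg.IrrCharacter (Matrix.ProjectiveSpecialLinearGroup (Fin 2) F),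
      p ∣ Cfsg.charDegree (χ : Matrix.ProjectiveSpecialLinearGroup (Fin 2) F → ℂ) →
      Cfsg.charDegree (χ : Matrix.ProjectiveSpecialLinearGroup (Fin 2) F → ℂ) = Fintype.card F := by
    intro χ hdvd
    have h1 := charDegree_inflIrr (Subgroup.center (Matrix.SpecialLinearGroup (Fin 2) F)) χ
    rw [← h1] at hdvd ⊢
    exact (key _ hdvd).2
  refine ⟨?_, hsecond⟩
  rw [Nat.card_eq_one_iff_unique]
  constructor
  · constructor
    rintro ⟨χ₁, h₁⟩ ⟨χ₂, h₂⟩
    apply Subtype.ext
    apply Subtype.ext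
    funext x
    obtain ⟨g, rfl⟩ := QuotientGroup.mk_surjective x
    have e₁ := (key (inflIrr (Subgroup.center (Matrix.SpecialLinearGroup (Fin 2) F)) χ₁)
      (by rw [charDegree_inflIrr]; exact h₁)).1
    have e₂ := (key (inflIrr (Subgroup.center (Matrix.SpecialLinearGroup (Fin 2) F)) χ₂)
      (by rw [charDegree_inflIrr]; exact h₂)).1
    have := congrFun (e₁.trans e₂.symm) g
    exact this
  · obtain ⟨ψ, hψ⟩ := exists_deflation
      (⟨stCharSL, isIrrCharacter_stCharSL⟩ : IrrCharacter (Matrix.SpecialLinearGroup (Fin 2) F))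
      (Subgroup.center (Matrix.SpecialLinearGroup (Fin 2) F)) (by
        intro z hz
        rcases sl2_center_cases z hz with rfl | rfl
        · rfl
        · rw [← negOneSL_eq_neg_one]; exact stCharSL_negOneSL)
    refine ⟨⟨ψ, ?_⟩⟩
    have h1 : (ψ : Matrix.ProjectiveSpecialLinearGroup (Fin 2) F → ℂ) 1 =
        ((Fintype.card F : ℕ) : ℂ) := by
      have := hψ 1
      rw [QuotientGroup.mk_one] at this
      rw [this]
      exact stCharSL_one
    rw [Cfsg.Agent.Lib.H23.charDegree_eq_of_apply_one h1]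
    exact hpq

end Cfsg.Agent.S4765
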