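import Cfsg.Statements.S4774
import Mathlib
import Cfsg.Agent.Lib.H21.SL2DegGraph

set_option autoImplicit false
open Cfsg

namespace Cfsg.Agent.S4774

open Cfsg.Agent.Lib.H12 Cfsg.Agent.Lib.H21.Deg

/-- Let F be a finite field of odd characteristic t with q > 5 elements and let S be isomorphic to PSL(2,F) or to SL(2,F). Then the vertices of the character degree graph of S are the primes dividing q(q²−1); the prime t is adjacent to no vertex; two distinct primes dividing q² − 1 are adjacent exactly when one of them is 2, or both divide q + 1, or both divide q − 1. -/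
theorem result (F : Type*) [Field F] [Fintype F] (t : ℕ) [Fact t.Prime] [CharP F t] (ht : t ≠ 2) (q : ℕ) (hq : Fintype.card F = q) (h5 : 5 < q) {S : Type*} [Group S] [Finite S] (hS : Nonempty (S ≃* Matrix.ProjectiveSpecialLinearGroup (Fin 2) F) ∨ Nonempty (S ≃* Matrix.SpecialLinearGroup (Fin 2) F)) : Cfsg.degreePrimes S = {r : ℕ | r.Prime ∧ r ∣ q * (q ^ 2 - 1)} ∧ ∀ r s : ℕ, (Cfsg.degreeGraph S).Adj r s ↔ (r ≠ s ∧ r.Prime ∧ s.Prime ∧ r ∣ q ^ 2 - 1 ∧ s ∣ q ^ 2 - 1 ∧ (r = 2 ∨ s = 2 ∨ (r ∣ q + 1 ∧ s ∣ q + 1) ∨ (r ∣ q - 1 ∧ s ∣ q - 1))) := by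
  classical
  subst hq
  have htp : t.Prime := Fact.out
  obtain ⟨n, hn⟩ := FiniteField.card F t
  have hodd : Odd (Fintype.card F) := by
    rw [hn.2]
    exact (htp.odd_of_ne_two ht).pow
  have h7 : 7 ≤ Fintype.card F := by
    obtain ⟨k, hk⟩ := hodd
    omega
  have hsub : charDegrees S ⊆ charDegrees (Matrix.SpecialLinearGroup (Fin 2) F) := by
    rcases hS with ⟨⟨e⟩⟩ | ⟨⟨e⟩⟩
    · rw [charDegrees_congr e]; exact charDegrees_psl2_subset
    · rw [charDegrees_congr e]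
  have hsup : charDegrees (Matrix.ProjectiveSpecialLinearGroup (Fin 2) F) ⊆ charDegrees S := by
    rcases hS with ⟨⟨e⟩⟩ | ⟨⟨e⟩⟩
    · rw [charDegrees_congr e]
    · rw [charDegrees_congr e]; exact charDegrees_psl2_subset
  have h2p : 2 ∣ Fintype.card F + 1 := by
    obtain ⟨k, hk⟩ := hodd
    exact ⟨k + 1, by omega⟩
  have h2m : 2 ∣ Fintype.card F - 1 := by
    obtain ⟨k, hk⟩ := hodd
    exact ⟨k, by omega⟩
  have hcore := graph_core S (Fintype.card F) t n htp n.pos.ne' hn.2 (by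
      intro d hd
      rcases charDegrees_sl2_cases (hsub hd) with h | h | h | h | h | h
      · exact Or.inl h
      · exact Or.inr (Or.inl h)
      · exact Or.inr (Or.inr (Or.inl (h ▸ dvd_rfl)))
      · exact Or.inr (Or.inr (Or.inr (h ▸ dvd_rfl)))
      · exact Or.inr (Or.inr (Or.inl (h ▸ Nat.div_dvd_of_dvd h2p)))
      · exact Or.inr (Or.inr (Or.inr (h ▸ Nat.div_dvd_of_dvd h2m))))
    (hsup card_mem_charDegrees_psl2) (hsup (succ_mem_charDegrees_psl2 h7))
    (hsup (pred_mem_charDegrees_psl2 hodd h7))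
  refine ⟨hcore.1, fun r s => ?_⟩
  rw [hcore.2 r s]
  have hfac := sq_sub_one_eq (Fintype.card F) (by omega)
  constructor
  · rintro ⟨hne, hr, hs, h | h⟩
    · refine ⟨hne, hr, hs, ?_, ?_, Or.inr (Or.inr (Or.inl h))⟩
      · rw [hfac]; exact Dvd.dvd.mul_left h.1 _
      · rw [hfac]; exact Dvd.dvd.mul_left h.2 _
    · refine ⟨hne, hr, hs, ?_, ?_, Or.inr (Or.inr (Or.inr h))⟩
      · rw [hfac]; exact Dvd.dvd.mul_right h.1 _
      · rw [hfac]; exact Dvd.dvd.mul_right h.2 _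
  · rintro ⟨hne, hr, hs, hrd, hsd, h⟩
    refine ⟨hne, hr, hs, ?_⟩
    rw [hfac] at hrd hsd
    rcases h with rfl | rfl | h | h
    · rcases (Nat.Prime.dvd_mul hs).mp hsd with h | h
      · exact Or.inr ⟨h2m, h⟩
      · exact Or.inl ⟨h2p, h⟩
    · rcases (Nat.Prime.dvd_mul hr).mp hrd with h | h
      · exact Or.inr ⟨h, h2m⟩
      · exact Or.inl ⟨h, h2p⟩
    · exact Or.inl h
    · exact Or.inr h

end Cfsg.Agent.S4774
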