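import Cfsg.Statements.S4776
import Cfsg.Agent.Lib.H26.RelDegF

set_option autoImplicit false
open Cfsg

namespace Cfsg.Agent.S4776

/-- Let N be a normal subgroup of the finite group G that is not perfect and is contained in the derived subgroup of G. Consider the common-divisor graph on the relative degree set cd(G|N) (the degrees of the irreducible complex characters of G whose kernel does not contain N; two distinct degrees adjacent when they have a common divisor greater than one). Then this graph has at most two connected components; and if a, b ∈ cd(G|N) lie in different components, then one of a, b is coprime to the index m of the derived subgroup of N in N while the other is divisible by every prime divisor of m. -/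
theorem result {G : Type*} [Group G] [Finite G] (N : Subgroup G) [N.Normal] (hN : ⁅N, N⁆ < N) (hNG : N ≤ commutator G) : Nat.card (Cfsg.commonDivisorGraph.induce (Cfsg.relCharDegrees N)).ConnectedComponent ≤ 2 ∧ ∀ (a b : ℕ) (ha : a ∈ Cfsg.relCharDegrees N) (hb : b ∈ Cfsg.relCharDegrees N), ¬ (Cfsg.commonDivisorGraph.induce (Cfsg.relCharDegrees N)).Reachable ⟨a, ha⟩ ⟨b, hb⟩ → (Nat.Coprime a (⁅N, N⁆.relIndex N) ∧ ∀ r : ℕ, r.Prime → r ∣ ⁅N, N⁆.relIndex N → r ∣ b) ∨ (Nat.Coprime b (⁅N, N⁆.relIndex N) ∧ ∀ r : ℕ, r.Prime → r ∣ ⁅N, N⁆.relIndex N → r ∣ a) := by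
  classical
  haveI : Fintype G := Fintype.ofFinite G
  haveI : Fintype N := Fintype.ofFinite N
  letI := Cfsg.Agent.Lib.H26.RelDeg.irrAct N
  letI := Cfsg.Agent.Lib.H26.RelDeg.linAct N
  have hV := Cfsg.Agent.Lib.H26.RelDeg.relSys_V N hNG
  have hcard := Cfsg.Agent.Lib.H26.RelDeg.card_lin N
  have hne : (⁅N, N⁆ : Subgroup G).relIndex N ≠ 1 := by
    intro h
    rw [Subgroup.relIndex_eq_one] at h
    exact absurd hN (not_lt_of_ge h)
  have hL : ∃ s : ℕ, s.Prime ∧ s ∣ Nat.card (N →* ℂˣ) := by
    rw [hcard]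
    exact Nat.exists_prime_and_dvd hne
  have main := (Cfsg.Agent.Lib.H26.RelDeg.relSys N hNG).main hL
  rw [hV, hcard] at main
  refine ⟨main.1, ?_⟩
  intro a b ha hb hnr
  rcases main.2 a b ha hb hnr with ⟨h1, h2⟩ | ⟨h1, h2⟩
  · left
    exact ⟨Nat.coprime_of_dvd (fun k hk hka hkn => h1 k hk hkn hka), h2⟩
  · right
    exact ⟨Nat.coprime_of_dvd (fun k hk hkb hkn => h1 k hk hkn hkb), h2⟩

end Cfsg.Agent.S4776
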