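-- Statement S4796
import Cfsg.Statements.S4796
import Cfsg.Agent.Lib.H24.CharAbelian
import Cfsg.Agent.Lib.H24.GroupFrobSmall

set_option autoImplicit false
open Cfsg

namespace Cfsg.Agent.S4796

open Cfsg.Agent.Lib.H24 Cfsg.Agent.Lib.L0 Cfsg.Agent.Lib.H23

/-- Let G be a finite group with a faithful irreducible complex character χ whose codegree #G / χ(1) is a prime p (for a faithful character the kernel is trivial, so the codegree is #G / χ(1)). Then either G is cyclic of order p, or G is a Frobenius group whose Frobenius kernel has order p: some proper non-trivial subgroup H satisfies H ∩ gHg⁻¹ = 1 for every element g outside H, and the set of elements lying in no conjugate of H, together with the identity, has exactly p elements. -/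
theorem result {G : Type*} [Group G] [Finite G] (χ : Cfsg.IrrCharacter G) (hfaith : ∀ g : G, (χ : G → ℂ) g = (χ : G → ℂ) 1 → g = 1) (p : ℕ) (hp : p.Prime) (hcod : Nat.card G = p * Cfsg.charDegree (χ : G → ℂ)) : (IsCyclic G ∧ Nat.card G = p) ∨ ∃ H : Subgroup G, Cfsg.IsFrobeniusComplement H ∧ Nat.card ↥(Cfsg.frobeniusKernel H) = p := by
  classical
  have := Fintype.ofFinite G
  have := Fintype.ofFinite (IrrCharacter G)
  set d := charDegree (χ : G → ℂ) with hd
  have hd0 : 0 < d := charDegree_pos _ χ.2
  -- d < p
  have hsum : ∑ ψ : IrrCharacter G, (charDegree (ψ : G → ℂ)) ^ 2 = Nat.card G := by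
    have h := sum_irr_one_sq (G := G)
    have h' : ((∑ ψ : IrrCharacter G, (charDegree (ψ : G → ℂ)) ^ 2 : ℕ) : ℂ) = (Nat.card G : ℂ) := by
      rw [← h]
      push_cast
      refine Finset.sum_congr rfl (fun ψ _ => ?_)
      rw [apply_one_eq_charDegree _ ψ.2]
    exact_mod_cast h'
  have hlt : d < p := by
    by_cases htriv : χ = trivialIrr G
    · have : d = 1 := by
        rw [hd, htriv]
        apply charDegree_eq_of_apply_one
        simp
      rw [this]
      exact hp.one_lt
    · have h1 : charDegree (trivialIrr G : G → ℂ) = 1 := by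
        apply charDegree_eq_of_apply_one
        simp
      have h2 : d ^ 2 + 1 ≤ Nat.card G := by
        rw [← hsum, ← Finset.add_sum_erase Finset.univ _ (Finset.mem_univ χ)]
        apply Nat.add_le_add_left
        have hmem : trivialIrr G ∈ Finset.univ.erase χ :=
          Finset.mem_erase.mpr ⟨Ne.symm htriv, Finset.mem_univ _⟩
        calc 1 = (charDegree (trivialIrr G : G → ℂ)) ^ 2 := by rw [h1, one_pow]
          _ ≤ ∑ ψ ∈ Finset.univ.erase χ, (charDegree (ψ : G → ℂ)) ^ 2 :=
            Finset.single_le_sum (f := fun ψ : IrrCharacter G => (charDegree (ψ : G → ℂ)) ^ 2)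
              (fun _ _ => Nat.zero_le _) hmem
      rw [hcod] at h2
      by_contra hge
      push Not at hge
      have : p * d ≤ d * d := Nat.mul_le_mul_right d hge
      nlinarith
  by_cases hd1 : d = 1
  · left
    rw [hd1, mul_one] at hcod
    haveI : Fact p.Prime := ⟨hp⟩
    exact ⟨isCyclic_of_prime_card hcod, hcod⟩
  · right
    have h1 : 1 < d := by omega
    apply frobenius_of_small p d hp hcod h1 hlt
    intro A hA
    have h2 := charDegree_mul_card_le χ A hA
    rw [hcod, mul_comm p d] at h2
    exact Nat.le_of_mul_le_mul_left h2 hd0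

end Cfsg.Agent.S4796
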