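-- Statement S4797
import Cfsg.Statements.S4797
import Cfsg.Agent.Lib.H24.CharCodegree
import Cfsg.Agent.Lib.H24.GroupPerfect
import Mathlib.RingTheory.RootsOfUnity.Complex

set_option autoImplicit false
open Cfsg

namespace Cfsg.Agent.S4797

open Cfsg.Agent.Lib.H24 Cfsg.Agent.Lib.L0 Cfsg.Agent.Lib.H23

/-- A perfect group has no irreducible character of prime codegree. -/
theorem no_prime_codeg_of_perfect {G : Type*} [Group G] [Finite G] (hperf : commutator G = ⊤)
    (χ : IrrCharacter G) : ¬ (codeg χ).Prime := by
  classical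
  intro hp
  have := Fintype.ofFinite (IrrCharacter G)
  set K := irrKer χ with hK
  set d := charDegree (χ : G → ℂ) with hd
  have hmul : codeg χ * d = K.index := codeg_mul χ
  have hd0 : 0 < d := charDegree_pos _ χ.2
  -- d² ≤ |G : K|
  have hsq : d ^ 2 ≤ K.index := by
    rw [← sum_sq_of_le_ker K]
    have hmem : χ ∈ Finset.univ.filter
        (fun θ : IrrCharacter G => ∀ n ∈ K, (θ : G → ℂ) n = (θ : G → ℂ) 1) := by
      simp only [Finset.mem_filter, Finset.mem_univ, true_and]
      intro n hn
      exact hn
    exact Finset.single_le_sum (f := fun θ : IrrCharacter G => (charDegree (θ : G → ℂ)) ^ 2)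
      (fun _ _ => Nat.zero_le _) hmem
  have hdp : d ≤ codeg χ := by
    rw [← hmul, pow_two] at hsq
    exact Nat.le_of_mul_le_mul_right hsq hd0
  -- the quotient is perfect of order p * d
  have hperfQ : commutator (G ⧸ K) = ⊤ := by
    have h1 := Subgroup.map_commutator (⊤ : Subgroup G) ⊤ (QuotientGroup.mk' K)
    rw [Subgroup.map_top_of_surjective _ (QuotientGroup.mk'_surjective K)] at h1
    rw [commutator_def, ← h1, ← commutator_def, hperf,
      Subgroup.map_top_of_surjective _ (QuotientGroup.mk'_surjective K)]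
  have hcardQ : Nat.card (G ⧸ K) = codeg χ * d := by
    rw [← Subgroup.index_eq_card, hmul]
  exact not_perfect_of_card (codeg χ) d hp hcardQ hdp hd0 hperfQ

/-- A non-perfect group has a linear character whose codegree is prime. -/
theorem exists_prime_codeg_of_not_perfect {G : Type*} [Group G] [Finite G]
    (hnp : commutator G ≠ ⊤) : ∃ χ : IrrCharacter G, (codeg χ).Prime := by
  classical
  have hcard : Nat.card (G →* ℂˣ) = (commutator G).index := by
    rw [← Nat.card_congr (linearCharEquiv (G := G)), card_linear_irr]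
  have hidx : (commutator G).index ≠ 1 := by
    intro h
    exact hnp (Subgroup.index_eq_one.mp h)
  have hfin : Finite (G →* ℂˣ) := by
    apply Nat.finite_of_card_ne_zero
    rw [hcard]
    exact Subgroup.index_ne_zero_of_finite
  set p := (Nat.card (G →* ℂˣ)).minFac with hpdef
  have hpp : p.Prime := Nat.minFac_prime (by rw [hcard]; exact hidx)
  haveI : Fact p.Prime := ⟨hpp⟩
  obtain ⟨μ, hμ⟩ := exists_prime_orderOf_dvd_card' (G := G →* ℂˣ) p (Nat.minFac_dvd _)
  let χ : IrrCharacter G := ⟨fun g => (μ g : ℂ), isIrrCharacter_of_hom μ⟩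
  refine ⟨χ, ?_⟩
  have hdeg : charDegree (χ : G → ℂ) = 1 := by
    apply charDegree_eq_of_apply_one
    show ((μ 1 : ℂˣ) : ℂ) = ((1 : ℕ) : ℂ)
    simp
  have hker : irrKer χ = μ.ker := by
    ext g
    rw [mem_charKer, MonoidHom.mem_ker]
    show ((μ g : ℂˣ) : ℂ) = ((μ 1 : ℂˣ) : ℂ) ↔ μ g = 1
    rw [map_one, Units.val_one, Units.val_eq_one]
  have hrange : Nat.card μ.range = p := by
    have hle : μ.range ≤ rootsOfUnity p ℂ := by
      rintro _ ⟨g, rfl⟩
      rw [mem_rootsOfUnity]
      have h1 : μ ^ p = 1 := by rw [← hμ]; exact pow_orderOf_eq_one μ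
      have h2 := congrArg (fun ν : G →* ℂˣ => ν g) h1
      simpa using h2
    have hdvd := Subgroup.card_dvd_of_le hle
    rw [Complex.card_rootsOfUnity] at hdvd
    rcases (Nat.dvd_prime hpp).mp hdvd with h | h
    · exfalso
      have hbot : μ.range = ⊥ := Subgroup.card_eq_one.mp h
      have hμ1 : μ = 1 := by
        ext g
        have : μ g ∈ μ.range := ⟨g, rfl⟩
        rw [hbot, Subgroup.mem_bot] at this
        rw [this]; rfl
      rw [hμ1, orderOf_one] at hμ
      exact hpp.one_lt.ne hμ
    · exact h
  unfold codeg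
  rw [hdeg, Nat.div_one, hker, Subgroup.index_ker, hrange]
  exact hpp

/-- The codegree of an irreducible complex character χ of a finite group G is [G : ker χ] / χ(1), where ker χ is the set of elements at which χ takes the value χ(1). A non-trivial finite group is perfect if and only if no irreducible complex character of it has prime codegree. -/
theorem result {G : Type*} [Group G] [Finite G] [Nontrivial G] : commutator G = ⊤ ↔ ∀ χ : Cfsg.IrrCharacter G, ¬ ((Nat.card G / (Nat.card {g : G // (χ : G → ℂ) g = (χ : G → ℂ) 1} * Cfsg.charDegree (χ : G → ℂ)))).Prime := by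
  simp only [stmt_codeg_eq]
  constructor
  · intro hperf χ
    exact no_prime_codeg_of_perfect hperf χ
  · intro h
    by_contra hnp
    obtain ⟨χ, hχ⟩ := exists_prime_codeg_of_not_perfect hnp
    exact h χ hχ

end Cfsg.Agent.S4797
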