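import Cfsg.Statements.S4798
import Mathlib
import Cfsg.Agent.Lib.H24.InducedSylow

set_option autoImplicit false
open Cfsg

namespace Cfsg.Agent.S4798

/-- Let p be a prime and χ a faithful irreducible complex character of the finite group G (χ(g) = χ(1) only for g = 1), so that its codegree is #G / χ(1). Then #G / χ(1) is a power of p if and only if χ is induced from a character of a Sylow p-subgroup of G. -/
theorem result {G : Type*} [Group G] [Fintype G] (p : ℕ) [Fact p.Prime] (χ : Cfsg.IrrCharacter G) (hfaith : ∀ g : G, (χ : G → ℂ) g = (χ : G → ℂ) 1 → g = 1) : (∃ k : ℕ, Nat.card G = p ^ k * Cfsg.charDegree (χ : G → ℂ)) ↔ ∃ (P : Sylow p G) (θ : ↥(P : Subgroup G) → ℂ), Cfsg.IsCharacter ↥(P : Subgroup G) θ ∧ (χ : G → ℂ) = Cfsg.indFun (P : Subgroup G) θ := by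
  classical
  have hp : p.Prime := Fact.out
  have hχ1 := Cfsg.Agent.Lib.H24.charDegree_irr χ
  set d := Cfsg.charDegree (χ : G → ℂ) with hd
  constructor
  · rintro ⟨k, hk⟩
    obtain P : Sylow p G := default
    have := Fintype.ofFinite (P : Subgroup G)
    obtain ⟨n, hn⟩ := IsPGroup.iff_card.mp P.isPGroup'
    have hidx : ¬ p ∣ (P : Subgroup G).index := P.not_dvd_index
    have hGcard : Nat.card G = p ^ n * (P : Subgroup G).index := by
      rw [← hn]; exact ((P : Subgroup G).card_mul_index).symm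
    have hcop : Nat.Coprime (p ^ k) (P : Subgroup G).index :=
      Nat.Coprime.pow_left k ((Nat.Prime.coprime_iff_not_dvd hp).mpr hidx)
    have hkn : p ^ k ∣ p ^ n := by
      have h1 : p ^ k ∣ p ^ n * (P : Subgroup G).index := by
        rw [← hGcard, hk]; exact dvd_mul_right _ _
      exact hcop.dvd_of_dvd_mul_right h1
    have hkn' : k ≤ n := (Nat.pow_dvd_pow_iff_le_right hp.one_lt).mp hkn
    have hdeq : d = p ^ (n - k) * (P : Subgroup G).index := by
      have h1 : p ^ k * d = p ^ k * (p ^ (n - k) * (P : Subgroup G).index) := by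
        rw [← hk, hGcard, ← mul_assoc, ← pow_add, Nat.add_sub_cancel' hkn']
      exact Nat.eq_of_mul_eq_mul_left (pow_pos hp.pos k) h1
    -- decompose the restriction
    have hres : Cfsg.IsCharacter (P : Subgroup G) (fun x : (P : Subgroup G) => (χ : G → ℂ) x) :=
      Cfsg.Agent.Lib.L0.isCharacter_restrict _ (Cfsg.Agent.Lib.L0.isCharacter_of_irr χ.2)
    obtain ⟨l, hl, hsum⟩ := Cfsg.Agent.Lib.L0.isCharacter_exists_irr_decomp hres
    -- every constituent has degree a power of p, at least p^(n-k)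
    have hdegs : ∀ ψ ∈ l, ∃ j : ℕ, ψ 1 = ((p ^ j : ℕ) : ℂ) ∧ n - k ≤ j := by
      intro ψ hψ
      obtain ⟨b, hb0, hb, hbdvd⟩ := Cfsg.Agent.Lib.H23.irr_apply_one_dvd_card ψ (hl ψ hψ)
      rw [hn] at hbdvd
      obtain ⟨j, -, hj⟩ := (Nat.dvd_prime_pow hp).mp hbdvd
      refine ⟨j, by rw [hb, hj], ?_⟩
      have hc : Cfsg.classInner (fun x : (P : Subgroup G) => (χ : G → ℂ) x) ψ ≠ 0 := by
        rw [hsum, Cfsg.Agent.Lib.L0.classInner_irr_list_sum hl (hl ψ hψ)]
        exact_mod_cast (List.count_pos_iff.mpr hψ).ne'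
      have hle := Cfsg.Agent.Lib.H24.degree_le_index_mul (P : Subgroup G) χ.2 (hl ψ hψ) hc b hb
      rw [← hd, hdeq, hj, mul_comm] at hle
      have h2 : p ^ (n - k) ≤ p ^ j :=
        Nat.le_of_mul_le_mul_left hle (Nat.pos_of_ne_zero Subgroup.index_ne_zero_of_finite)
      exact (Nat.pow_le_pow_iff_right hp.one_lt).mp h2
    -- some constituent has degree exactly p^(n-k)
    have hex : ∃ ψ ∈ l, ψ 1 = ((p ^ (n - k) : ℕ) : ℂ) := by
      by_contra hcon
      push Not at hcon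
      have hall : ∀ ψ ∈ l, ∃ c : ℕ, ψ 1 = ((p ^ (n - k + 1) * c : ℕ) : ℂ) := by
        intro ψ hψ
        obtain ⟨j, hj, hjle⟩ := hdegs ψ hψ
        have hjne : j ≠ n - k := by
          intro h; rw [h] at hj; exact hcon ψ hψ hj
        refine ⟨p ^ (j - (n - k + 1)), ?_⟩
        rw [hj, ← pow_add]
        congr 2
        omega
      have hsumdvd : ∀ l' : List (↥(P : Subgroup G) → ℂ),
          (∀ ψ ∈ l', ∃ c : ℕ, ψ 1 = ((p ^ (n - k + 1) * c : ℕ) : ℂ)) →
          ∃ c : ℕ, l'.sum 1 = ((p ^ (n - k + 1) * c : ℕ) : ℂ) := by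
        intro l'
        induction l' with
        | nil => intro _; exact ⟨0, by simp⟩
        | cons a l' ih =>
          intro h
          obtain ⟨c₁, hc₁⟩ := h a (by simp)
          obtain ⟨c₂, hc₂⟩ := ih (fun ψ hψ => h ψ (List.mem_cons_of_mem _ hψ))
          refine ⟨c₁ + c₂, ?_⟩
          rw [List.sum_cons, Pi.add_apply, hc₁, hc₂]
          push_cast; ring
      obtain ⟨c, hc⟩ := hsumdvd l hall
      rw [← hsum] at hc
      have h1 : (χ : G → ℂ) 1 = ((p ^ (n - k + 1) * c : ℕ) : ℂ) := hc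
      rw [← hχ1] at h1
      have h2 : d = p ^ (n - k + 1) * c := by exact_mod_cast h1
      rw [hdeq, pow_succ, mul_assoc] at h2
      have h3 : (P : Subgroup G).index = p * c :=
        Nat.eq_of_mul_eq_mul_left (pow_pos hp.pos _) h2
      exact hidx ⟨c, h3⟩
    obtain ⟨ψ, hψl, hψ1⟩ := hex
    refine ⟨P, ψ, Cfsg.Agent.Lib.L0.isCharacter_of_irr (hl ψ hψl), ?_⟩
    have hc : Cfsg.classInner (fun x : (P : Subgroup G) => (χ : G → ℂ) x) ψ ≠ 0 := by
      rw [hsum, Cfsg.Agent.Lib.L0.classInner_irr_list_sum hl (hl ψ hψl)]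
      exact_mod_cast (List.count_pos_iff.mpr hψl).ne'
    exact Cfsg.Agent.Lib.H24.eq_indFun_of_degree_eq (P : Subgroup G) χ.2 (hl ψ hψl) hc _ hψ1
      (by rw [← hd, hdeq, mul_comm])
  · rintro ⟨P, θ, hθ, hχθ⟩
    have := Fintype.ofFinite (P : Subgroup G)
    obtain ⟨n, hn⟩ := IsPGroup.iff_card.mp P.isPGroup'
    have hirr : Cfsg.IsIrrCharacter (P : Subgroup G) θ :=
      Cfsg.Agent.Lib.H24.isIrrCharacter_of_indFun_irr (P : Subgroup G) hθ (hχθ ▸ χ.2)
    obtain ⟨b, hb0, hb, hbdvd⟩ := Cfsg.Agent.Lib.H23.irr_apply_one_dvd_card θ hirr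
    rw [hn] at hbdvd
    obtain ⟨j, hjn, hj⟩ := (Nat.dvd_prime_pow hp).mp hbdvd
    have h1 : (χ : G → ℂ) 1 = (((P : Subgroup G).index * p ^ j : ℕ) : ℂ) := by
      rw [hχθ, Cfsg.Agent.Lib.H24.indFun_one, hb, hj]; push_cast; ring
    have h2 : d = (P : Subgroup G).index * p ^ j := by
      rw [← hχ1] at h1
      exact_mod_cast h1
    refine ⟨n - j, ?_⟩
    rw [h2, ← (P : Subgroup G).card_mul_index, hn]
    have : p ^ n = p ^ (n - j) * p ^ j := by rw [← pow_add]; congr 1; omega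
    rw [this]; ring

end Cfsg.Agent.S4798
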