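import Cfsg.Statements.S4801
import Mathlib
import Cfsg.Agent.Lib.H24.CodegreeDvd

set_option autoImplicit false
open Cfsg

namespace Cfsg.Agent.S4801

/-- The codegree of an irreducible complex character χ of a finite group G is [G : ker χ] / χ(1), where ker χ is the set of elements at which χ takes the value χ(1). Let S be a finite simple group and G a finite group such that every codegree of an irreducible character of S is a codegree of an irreducible character of G. Then the order of S divides the order of G. -/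
theorem result {S : Type*} [Group S] [Finite S] (hS : IsSimpleGroup S) {G : Type*} [Group G] [Finite G] (hsub : ∀ χ : Cfsg.IrrCharacter S, ∃ ψ : Cfsg.IrrCharacter G, (Nat.card S / (Nat.card {g : S // (χ : S → ℂ) g = (χ : S → ℂ) 1} * Cfsg.charDegree (χ : S → ℂ))) = (Nat.card G / (Nat.card {g : G // (ψ : G → ℂ) g = (ψ : G → ℂ) 1} * Cfsg.charDegree (ψ : G → ℂ)))) : Nat.card S ∣ Nat.card G := by
  classical
  rw [Nat.dvd_iff_prime_pow_dvd_dvd]
  intro p k hp hk
  rcases Nat.eq_zero_or_pos k with h0 | hkpos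
  · subst h0; simp
  have hpS : p ∣ Nat.card S := dvd_trans (dvd_pow_self p hkpos.ne') hk
  obtain ⟨χ, hne, hpχ⟩ := Cfsg.Agent.Lib.H24.exists_nontrivial_irr_not_dvd (G := S) p hp hpS
  obtain ⟨ψ, hψ⟩ := hsub χ
  have hker := Cfsg.Agent.Lib.H24.card_ker_eq_one_of_simple χ hne
  rw [hker, one_mul] at hψ
  have hdvd : Cfsg.charDegree (χ : S → ℂ) ∣ Nat.card S := by
    have := Cfsg.Agent.Lib.H24.card_ker_mul_degree_dvd χ
    rwa [hker, one_mul] at this
  have h1 : Nat.card S = Cfsg.charDegree (χ : S → ℂ) * (Nat.card S / Cfsg.charDegree (χ : S → ℂ)) :=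
    (Nat.mul_div_cancel' hdvd).symm
  have h2 : p ^ k ∣ Nat.card S / Cfsg.charDegree (χ : S → ℂ) := by
    rw [h1] at hk
    refine (Nat.Coprime.dvd_mul_left ?_).mp hk
    exact Nat.Coprime.pow_left k ((Nat.Prime.coprime_iff_not_dvd hp).mpr hpχ)
  rw [hψ] at h2
  exact dvd_trans h2 (Cfsg.Agent.Lib.H24.codegree_dvd_card ψ)

end Cfsg.Agent.S4801
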