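-- Statement S4802
import Cfsg.Statements.S4802
import Cfsg.Agent.Lib.H24.CharKernel

set_option autoImplicit false
open Cfsg

namespace Cfsg.Agent.S4802

open Cfsg.Agent.Lib.H24 Cfsg.Agent.Lib.L0
open scoped ComplexConjugate

/-- Let N < M be normal subgroups of the finite group G and g an element of M outside N. Then the conjugacy class of g is exactly M ∖ N if and only if every irreducible character of G with N in its kernel is constant on M ∖ N and every irreducible character of G with N not in its kernel vanishes at g. -/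
theorem result {G : Type*} [Group G] [Finite G] (N M : Subgroup G) [N.Normal] [M.Normal] (hNM : N < M) (g : G) (hgM : g ∈ M) (hgN : g ∉ N) : {h : G | IsConj g h} = (M : Set G) \ (N : Set G) ↔ ((∀ χ : Cfsg.IrrCharacter G, (∀ x ∈ N, (χ : G → ℂ) x = (χ : G → ℂ) 1) → ∀ x ∈ M, x ∉ N → ∀ y ∈ M, y ∉ N → (χ : G → ℂ) x = (χ : G → ℂ) y) ∧ (∀ χ : Cfsg.IrrCharacter G, (∃ x ∈ N, (χ : G → ℂ) x ≠ (χ : G → ℂ) 1) → (χ : G → ℂ) g = 0)) := by
  classical
  have := Fintype.ofFinite G
  have := Fintype.ofFinite (IrrCharacter G)
  have := Fintype.ofFinite N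
  constructor
  · intro hcl
    have hmem : ∀ x : G, x ∈ M → x ∉ N → IsConj g x := by
      intro x hxM hxN
      have : x ∈ (M : Set G) \ (N : Set G) := ⟨hxM, hxN⟩
      rw [← hcl] at this
      exact this
    refine ⟨fun χ _ x hxM hxN y hyM hyN => ?_, fun χ hχ => ?_⟩
    · rw [← isClassFunction_eq_of_isConj (isClassFunction_irr χ) (hmem x hxM hxN),
        ← isClassFunction_eq_of_isConj (isClassFunction_irr χ) (hmem y hyM hyN)]
    · have hsum := irr_sum_normal_mul_eq_zero χ N hχ g
      have hconst : ∀ n : N, (χ : G → ℂ) (g * n) = (χ : G → ℂ) g := by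
        intro n
        have h1 : g * n ∈ M := M.mul_mem hgM (hNM.le n.2)
        have h2 : g * (n : G) ∉ N := by
          intro h
          apply hgN
          have := N.mul_mem h (N.inv_mem n.2)
          simpa using this
        exact (isClassFunction_eq_of_isConj (isClassFunction_irr χ) (hmem _ h1 h2)).symm
      have hsum' : (Fintype.card N : ℂ) * (χ : G → ℂ) g = 0 := by
        rw [← hsum]
        simp only [hconst, Finset.sum_const, Finset.card_univ, nsmul_eq_mul]
      rcases mul_eq_zero.mp hsum' with h0 | h0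
      · exfalso
        have : Fintype.card N = 0 := by exact_mod_cast h0
        exact Fintype.card_ne_zero this
      · exact h0
  · rintro ⟨h1, h2⟩
    ext x
    simp only [Set.mem_ofPred_eq, Set.mem_sdiff, SetLike.mem_coe]
    constructor
    · intro hgx
      obtain ⟨k, hk⟩ := isConj_iff.mp hgx
      subst hk
      refine ⟨‹M.Normal›.conj_mem g hgM k, fun h => hgN ?_⟩
      have := ‹N.Normal›.conj_mem _ h k⁻¹
      simpa [mul_assoc] using this
    · rintro ⟨hxM, hxN⟩
      by_contra hncon
      have horth := second_orthogonality (G := G) g x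
      rw [if_neg hncon] at horth
      -- every term is a nonnegative real, and the trivial character contributes 1
      have hterm : ∀ χ : IrrCharacter G, (χ : G → ℂ) g * conj ((χ : G → ℂ) x) =
          ((if ∀ y ∈ N, (χ : G → ℂ) y = (χ : G → ℂ) 1 then ‖(χ : G → ℂ) g‖ ^ 2 else 0 : ℝ) : ℂ) := by
        intro χ
        by_cases hP : ∀ y ∈ N, (χ : G → ℂ) y = (χ : G → ℂ) 1
        · rw [if_pos hP, ← h1 χ hP g hgM hgN x hxM hxN, Complex.mul_conj,
            Complex.normSq_eq_norm_sq]
        · rw [if_neg hP]
          push Not at hP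
          rw [h2 χ hP, zero_mul]
          simp
      simp only [hterm] at horth
      rw [← Complex.ofReal_sum] at horth
      have hreal : ∑ χ : IrrCharacter G,
          (if ∀ y ∈ N, (χ : G → ℂ) y = (χ : G → ℂ) 1 then ‖(χ : G → ℂ) g‖ ^ 2 else 0 : ℝ) = 0 := by
        exact_mod_cast horth
      have hnonneg : ∀ χ ∈ (Finset.univ : Finset (IrrCharacter G)),
          (0 : ℝ) ≤ (if ∀ y ∈ N, (χ : G → ℂ) y = (χ : G → ℂ) 1 then ‖(χ : G → ℂ) g‖ ^ 2 else 0) := by
        intro χ _
        split_ifs
        · positivity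
        · exact le_refl _
      have h0 := (Finset.sum_eq_zero_iff_of_nonneg hnonneg).mp hreal (trivialIrr G) (Finset.mem_univ _)
      have hP : ∀ y ∈ N, (trivialIrr G : G → ℂ) y = (trivialIrr G : G → ℂ) 1 := fun _ _ => rfl
      rw [if_pos hP] at h0
      simp at h0

end Cfsg.Agent.S4802
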