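import Cfsg.Statements.S4811
import Cfsg.Agent.Lib.H26.DegGraphD

set_option autoImplicit false
open Cfsg

namespace Cfsg.Agent.S4811

/-- For every finite solvable group G the character degree graph of G (vertices: the primes dividing some irreducible complex character degree; edges: distinct primes whose product divides some degree) has at most two connected components. -/
theorem result {G : Type*} [Group G] [Finite G] [Group.IsSolvable G] : Nat.card ((Cfsg.degreeGraph G).induce (Cfsg.degreePrimes G)).ConnectedComponent ≤ 2 := by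
  classical
  have := Fintype.ofFinite G
  by_cases hG : commutator G = ⊥
  · have hempty : IsEmpty (Cfsg.degreePrimes G) := by
      constructor
      rintro ⟨p, hp, d, ⟨χ, rfl⟩, hpd⟩
      have h1 : charDegree (χ : G → ℂ) = 1 :=
        Cfsg.Agent.Lib.H24.PGalConj.linear_of_commutator_le_ker χ (by rw [hG]; exact bot_le)
      rw [h1] at hpd
      exact hp.one_lt.ne' (Nat.dvd_one.mp hpd)
    exact Cfsg.Agent.Lib.H26.DegGraph.card_components_of_isEmpty _
  · obtain ⟨M, hMn, hMc, q, hq, hcase⟩ :=
      Cfsg.Agent.Lib.H26.DegGraph.exists_normal_pgroup_or_frobenius hG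
    haveI := hMn
    rcases hcase with ⟨k, hk⟩ | ⟨N, hNn, hMN, hne, htop, hab, hexp, hfp⟩
    · obtain ⟨⟨β, hβ⟩, hall⟩ := Cfsg.Agent.Lib.H26.DegGraph.pcase M hMc q k hq hk
      have hqV : q ∈ Cfsg.degreePrimes G := ⟨hq, _, ⟨β, rfl⟩, hβ⟩
      apply Cfsg.Agent.Lib.H26.DegGraph.card_components_le_two _ ⟨q, hqV⟩ ⟨q, hqV⟩
      rintro ⟨r, hrV⟩
      left
      by_cases hrq : r = q
      · subst hrq
        exact SimpleGraph.Reachable.refl _
      · obtain ⟨hr, d, ⟨χ, rfl⟩, hrd⟩ := hrV
        obtain ⟨χ', hχ'⟩ := hall χ r hr hrd hrq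
        apply SimpleGraph.Adj.reachable
        show (Cfsg.degreeGraph G).Adj q r
        exact ⟨fun h => hrq h.symm, hq, hr, _, ⟨χ', rfl⟩, by rw [mul_comm]; exact hχ'⟩
    · haveI := hNn
      obtain ⟨⟨χ₀, hχ₀⟩, hall⟩ :=
        Cfsg.Agent.Lib.H26.DegGraph.fcase M N hMN hne hab hfp q hq hexp
      have hidx : N.index ≠ 1 := fun h => htop (Subgroup.index_eq_one.mp h)
      obtain ⟨a, ha, hadvd⟩ := Nat.exists_prime_and_dvd hidx
      have haV : a ∈ Cfsg.degreePrimes G := ⟨ha, _, ⟨χ₀, rfl⟩, by rw [hχ₀]; exact hadvd⟩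
      have hmain : ∀ (r : ℕ) (hrV : r ∈ Cfsg.degreePrimes G),
          ((Cfsg.degreeGraph G).induce (Cfsg.degreePrimes G)).Reachable ⟨a, haV⟩ ⟨r, hrV⟩ ∨
          ∃ hqV : q ∈ Cfsg.degreePrimes G,
            ((Cfsg.degreeGraph G).induce (Cfsg.degreePrimes G)).Reachable ⟨q, hqV⟩ ⟨r, hrV⟩ := by
        intro r hrV
        have hrV' := hrV
        obtain ⟨hr, d, ⟨χ, rfl⟩, hrd⟩ := hrV'
        rcases hall χ r hr hrd with h1 | h1 | ⟨χ', hχ'⟩
        · left
          by_cases hra : r = a
          · subst hra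
            exact SimpleGraph.Reachable.refl _
          · apply SimpleGraph.Adj.reachable
            show (Cfsg.degreeGraph G).Adj a r
            refine ⟨fun h => hra h.symm, ha, hr, _, ⟨χ₀, rfl⟩, ?_⟩
            rw [hχ₀]
            exact ((Nat.coprime_primes ha hr).mpr (fun h => hra h.symm)).mul_dvd_of_dvd_of_dvd
              hadvd h1
        · right
          have hqV : q ∈ Cfsg.degreePrimes G := ⟨hq, _, ⟨χ, rfl⟩, h1⟩
          refine ⟨hqV, ?_⟩
          by_cases hrq : r = q
          · subst hrq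
            exact SimpleGraph.Reachable.refl _
          · apply SimpleGraph.Adj.reachable
            show (Cfsg.degreeGraph G).Adj q r
            exact ⟨fun h => hrq h.symm, hq, hr, _, ⟨χ, rfl⟩,
              ((Nat.coprime_primes hq hr).mpr (fun h => hrq h.symm)).mul_dvd_of_dvd_of_dvd h1 hrd⟩
        · left
          by_cases hra : r = a
          · subst hra
            exact SimpleGraph.Reachable.refl _
          · apply SimpleGraph.Adj.reachable
            show (Cfsg.degreeGraph G).Adj a r
            refine ⟨fun h => hra h.symm, ha, hr, _, ⟨χ', rfl⟩, ?_⟩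
            exact (Nat.mul_dvd_mul_right hadvd r).trans hχ'
      by_cases hqV : q ∈ Cfsg.degreePrimes G
      · apply Cfsg.Agent.Lib.H26.DegGraph.card_components_le_two _ ⟨a, haV⟩ ⟨q, hqV⟩
        rintro ⟨r, hrV⟩
        rcases hmain r hrV with h1 | ⟨_, h1⟩
        · exact Or.inl h1
        · exact Or.inr h1
      · apply Cfsg.Agent.Lib.H26.DegGraph.card_components_le_two _ ⟨a, haV⟩ ⟨a, haV⟩
        rintro ⟨r, hrV⟩
        rcases hmain r hrV with h1 | ⟨hqV', _⟩
        · exact Or.inl h1
        · exact absurd hqV' hqV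

end Cfsg.Agent.S4811
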