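import Cfsg.Statements.S4813
import Mathlib
import Cfsg.Agent.Lib.H1.PDSylow
import Cfsg.Agent.S4811

set_option autoImplicit false
open Cfsg

namespace Cfsg.Agent.S4813

/-- In a graph without edges reachable vertices are equal. -/
theorem eq_of_reachable_of_no_adj {V : Type*} (Γ : SimpleGraph V) (h : ∀ a b, ¬ Γ.Adj a b)
    {a b : V} (hr : Γ.Reachable a b) : a = b := by
  obtain ⟨w⟩ := hr
  cases w with
  | nil => rfl
  | cons hadj _ => exact absurd hadj (h _ _)

/-- If every irreducible complex character of the finite group G of degree greater than one has prime degree, then G has at most three distinct irreducible character degrees. -/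
theorem result {G : Type*} [Group G] [Finite G] (hprime : ∀ d ∈ Cfsg.charDegrees G, d = 1 ∨ d.Prime) : Nat.card ↥(Cfsg.charDegrees G) ≤ 3 := by
  classical
  have hpd : Cfsg.Agent.Lib.H1.PD.PrimeDeg G := by
    intro χ h1
    rcases hprime _ ⟨χ, rfl⟩ with h | h
    · exact absurd h h1
    · exact h
  haveI : Group.IsSolvable G := Cfsg.Agent.Lib.H1.PD.solvable_of_primeDeg hpd
  have hcomp := Cfsg.Agent.S4811.result (G := G)
  -- finiteness of the degree set
  have hfin : (Cfsg.charDegrees G).Finite := by
    haveI : Finite (IrrCharacter G) := inferInstance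
    have : Cfsg.charDegrees G = Set.range (fun χ : IrrCharacter G => charDegree (χ : G → ℂ)) := by
      ext d
      constructor
      · rintro ⟨χ, rfl⟩
        exact ⟨χ, rfl⟩
      · rintro ⟨χ, rfl⟩
        exact ⟨χ, rfl⟩
    rw [this]
    exact Set.finite_range _
  -- the prime degrees
  have hV : Cfsg.degreePrimes G ⊆ Cfsg.charDegrees G := by
    rintro p ⟨hp, d, hd, hpd'⟩
    rcases hprime d hd with h | h
    · rw [h] at hpd'
      exact absurd (Nat.dvd_one.mp hpd') hp.one_lt.ne'
    · rcases (Nat.dvd_prime h).mp hpd' with h1 | h1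
      · exact absurd h1 hp.one_lt.ne'
      · rw [h1]; exact hd
  have hVfin : (Cfsg.degreePrimes G).Finite := hfin.subset hV
  haveI : Finite ↥(Cfsg.degreePrimes G) := hVfin
  -- no edges
  have hno : ∀ a b : ↥(Cfsg.degreePrimes G),
      ¬ ((Cfsg.degreeGraph G).induce (Cfsg.degreePrimes G)).Adj a b := by
    intro a b hab
    have hab' : (Cfsg.degreeGraph G).Adj (a : ℕ) (b : ℕ) := hab
    obtain ⟨hne, hpa, hpb, d, hd, hdvd⟩ := hab'
    rcases hprime d hd with h | h
    · rw [h] at hdvd
      have := Nat.dvd_one.mp hdvd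
      have h2 := hpa.two_le
      have h3 := hpb.two_le
      nlinarith
    · rcases (Nat.dvd_prime h).mp hdvd with h1 | h1
      · have h2 := hpa.two_le
        have h3 := hpb.two_le
        nlinarith
      · have h4 : (a : ℕ) ∣ d := Dvd.intro _ h1
        rcases (Nat.dvd_prime h).mp h4 with h5 | h5
        · exact hpa.one_lt.ne' h5
        · rw [h5] at h1
          have h6 : (b : ℕ) = 1 := by
            have hd0 : 0 < d := h.pos
            nlinarith
          exact hpb.one_lt.ne' h6
  have hinj : Function.Injective
      ((Cfsg.degreeGraph G).induce (Cfsg.degreePrimes G)).connectedComponentMk := by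
    intro a b hab
    exact eq_of_reachable_of_no_adj _ hno (SimpleGraph.ConnectedComponent.exact hab)
  have hcardV : Nat.card ↥(Cfsg.degreePrimes G) ≤ 2 :=
    (Nat.card_le_card_of_injective _ hinj).trans hcomp
  have hsub : Cfsg.charDegrees G ⊆ insert 1 (Cfsg.degreePrimes G) := by
    intro d hd
    rcases hprime d hd with h | h
    · left; exact h
    · right
      exact ⟨h, d, hd, dvd_refl d⟩
  rw [Nat.card_coe_set_eq] at hcardV ⊢
  calc (Cfsg.charDegrees G).ncard ≤ (insert 1 (Cfsg.degreePrimes G)).ncard :=
        Set.ncard_le_ncard hsub (hVfin.insert 1)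
    _ ≤ (Cfsg.degreePrimes G).ncard + 1 := Set.ncard_insert_le _ _
    _ ≤ 3 := by omega

end Cfsg.Agent.S4813
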