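-- Statement S4814
import Cfsg.Statements.S4814
import Cfsg.Agent.Lib.H24.CharCommutator

set_option autoImplicit false
open Cfsg

namespace Cfsg.Agent.S4814

open Cfsg.Agent.Lib.H24 Cfsg.Agent.Lib.L0

/-- The fourfold commutator sum for an irreducible character. -/
theorem sum_two_commutators {G : Type*} [Group G] [Fintype G] (χ : IrrCharacter G) (w : G) :
    ∑ c : G, ∑ d : G, ∑ a : G, ∑ b : G,
      (χ : G → ℂ) (a * b * a⁻¹ * b⁻¹ * (c * d * c⁻¹ * d⁻¹ * w)) =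
      (Nat.card G : ℂ) ^ 4 * (χ : G → ℂ) w / (χ : G → ℂ) 1 ^ 4 := by
  simp only [irr_sum_commutator_mul]
  simp only [← Finset.sum_div, ← Finset.mul_sum]
  rw [irr_sum_commutator_mul]
  have h1 := irr_one_ne_zero χ
  field_simp

/-- Let G be a finite group such that the sum, over the irreducible complex characters χ of G, of 1/χ(1)² is less than 2. Then every element of G is a product of two commutators. -/
theorem result {G : Type*} [Group G] [Finite G]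
    (h : ∑ᶠ χ : Cfsg.IrrCharacter G, 1 / ‖(χ : G → ℂ) 1‖ ^ 2 < (2 : ℝ)) (g : G) :
    ∃ a b c d : G, (a * b * a⁻¹ * b⁻¹) * (c * d * c⁻¹ * d⁻¹) = g := by
  classical
  have := Fintype.ofFinite G
  have := Fintype.ofFinite (IrrCharacter G)
  rw [finsum_eq_sum_of_fintype] at h
  by_contra hno
  push Not at hno
  have hG : (Nat.card G : ℂ) ≠ 0 := by exact_mod_cast (Nat.card_pos (α := G)).ne'
  -- the weighted sum over characters vanishes
  have hzero : ∑ χ : IrrCharacter G, (χ : G → ℂ) 1 *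
      ∑ c : G, ∑ d : G, ∑ a : G, ∑ b : G,
        (χ : G → ℂ) (a * b * a⁻¹ * b⁻¹ * (c * d * c⁻¹ * d⁻¹ * g⁻¹)) = 0 := by
    simp only [Finset.mul_sum]
    rw [Finset.sum_comm]
    refine Finset.sum_eq_zero (fun c _ => ?_)
    rw [Finset.sum_comm]
    refine Finset.sum_eq_zero (fun d _ => ?_)
    rw [Finset.sum_comm]
    refine Finset.sum_eq_zero (fun a _ => ?_)
    rw [Finset.sum_comm]
    refine Finset.sum_eq_zero (fun b _ => ?_)
    rw [sum_irr_one_mul, if_neg]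
    intro h1
    apply hno a b c d
    rw [← mul_assoc] at h1
    exact mul_inv_eq_one.mp h1
  have hsum : ∑ χ : IrrCharacter G, (χ : G → ℂ) g⁻¹ / (χ : G → ℂ) 1 ^ 3 = 0 := by
    have h2 : ∑ χ : IrrCharacter G, (χ : G → ℂ) 1 *
        ∑ c : G, ∑ d : G, ∑ a : G, ∑ b : G,
          (χ : G → ℂ) (a * b * a⁻¹ * b⁻¹ * (c * d * c⁻¹ * d⁻¹ * g⁻¹)) =
        (Nat.card G : ℂ) ^ 4 * ∑ χ : IrrCharacter G, (χ : G → ℂ) g⁻¹ / (χ : G → ℂ) 1 ^ 3 := by
      rw [Finset.mul_sum]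
      refine Finset.sum_congr rfl (fun χ _ => ?_)
      rw [sum_two_commutators]
      have h1 := irr_one_ne_zero χ
      field_simp
    rw [hzero] at h2
    exact (mul_eq_zero.mp h2.symm).resolve_left (pow_ne_zero 4 hG)
  -- split off the trivial character
  have hsplit := Finset.add_sum_erase Finset.univ
    (fun χ : IrrCharacter G => (χ : G → ℂ) g⁻¹ / (χ : G → ℂ) 1 ^ 3) (Finset.mem_univ (trivialIrr G))
  rw [hsum] at hsplit
  simp only [trivialIrr_apply, one_pow, div_one] at hsplit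
  have hnorm : ‖∑ χ ∈ Finset.univ.erase (trivialIrr G),
      (χ : G → ℂ) g⁻¹ / (χ : G → ℂ) 1 ^ 3‖ = 1 := by
    have : ∑ χ ∈ Finset.univ.erase (trivialIrr G),
        (χ : G → ℂ) g⁻¹ / (χ : G → ℂ) 1 ^ 3 = -1 := by
      linear_combination hsplit
    rw [this, norm_neg, norm_one]
  have hle : ‖∑ χ ∈ Finset.univ.erase (trivialIrr G),
      (χ : G → ℂ) g⁻¹ / (χ : G → ℂ) 1 ^ 3‖ ≤
      ∑ χ ∈ Finset.univ.erase (trivialIrr G), 1 / ‖(χ : G → ℂ) 1‖ ^ 2 := by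
    refine (norm_sum_le _ _).trans (Finset.sum_le_sum (fun χ _ => ?_))
    rw [norm_div, norm_pow]
    have hpos : 0 < ‖(χ : G → ℂ) 1‖ := norm_pos_iff.mpr (irr_one_ne_zero χ)
    have hle1 : ‖(χ : G → ℂ) g⁻¹‖ ≤ ‖(χ : G → ℂ) 1‖ :=
      isCharacter_norm_le (isCharacter_of_irr χ.2) g⁻¹
    rw [div_le_div_iff₀ (pow_pos hpos 3) (pow_pos hpos 2)]
    calc ‖(χ : G → ℂ) g⁻¹‖ * ‖(χ : G → ℂ) 1‖ ^ 2 ≤ ‖(χ : G → ℂ) 1‖ * ‖(χ : G → ℂ) 1‖ ^ 2 :=
          mul_le_mul_of_nonneg_right hle1 (by positivity)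
      _ = 1 * ‖(χ : G → ℂ) 1‖ ^ 3 := by ring
  have hsplit2 := Finset.add_sum_erase Finset.univ
    (fun χ : IrrCharacter G => 1 / ‖(χ : G → ℂ) 1‖ ^ 2) (Finset.mem_univ (trivialIrr G))
  simp only [trivialIrr_apply, norm_one, one_pow, div_one] at hsplit2
  linarith

end Cfsg.Agent.S4814
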