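import Cfsg.Statements.S4825
import Cfsg.Agent.Lib.L0.BlockCover
import Cfsg.Agent.Lib.H23.BlockOsima
import Cfsg.Agent.Lib.H23.BlockDefect
import Cfsg.Agent.Lib.H23.DegreeDvd
import Cfsg.Agent.Lib.H24.CharOrth

set_option autoImplicit false
open Cfsg

namespace Cfsg.Agent.S4825

open Cfsg.Agent.Lib.H23 Cfsg.Agent.Lib.H24 Cfsg.Agent.Lib.L0 Cfsg.Agent.Lib.L0.BlockCover
open scoped ComplexConjugate

section Key

variable {G : Type*} [Group G] [Fintype G] {p : ℕ} [Fact p.Prime] {M : Ideal AlgInt}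
  (N : Subgroup G) [hNn : N.Normal] [Fintype N]

/-- The weight `c_χ = ∑_{ψ ~ θ} ψ(1) ⟨χ_N, ψ⟩` equals `χ(1)` if `χ` lies over `θ` and `0`
otherwise. -/
theorem weight_eq [Fintype (IrrCharacter N)] (θ : IrrCharacter N) (χ : IrrCharacter G)
    (O : Finset (IrrCharacter N))
    (hO : ∀ ψ : IrrCharacter N, ψ ∈ O ↔ ∃ k : G, (ψ : N → ℂ) = conjChar N (θ : N → ℂ) k) :
    ∑ ψ ∈ O, (ψ : N → ℂ) 1 * classInner (fun n : N => (χ : G → ℂ) n) (ψ : N → ℂ) =
      if classInner (fun n : N => (χ : G → ℂ) n) (θ : N → ℂ) ≠ 0 then (χ : G → ℂ) 1 else 0 := by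
  classical
  split_ifs with h
  · have hcf : IsClassFunction N (fun n : N => (χ : G → ℂ) n) := by
      intro n k
      exact Cfsg.Agent.Lib.H24.irr_isClassFunction χ (n : G) (k : G)
    have hexp := congrFun (classFunction_expansion (fun n : N => (χ : G → ℂ) n) hcf) 1
    simp only [Finset.sum_apply, Pi.smul_apply, smul_eq_mul] at hexp
    rw [show ((1 : N) : G) = 1 from rfl] at hexp
    rw [hexp]
    rw [← Finset.sum_subset (Finset.subset_univ O)]
    · refine Finset.sum_congr rfl (fun ψ _ => mul_comm _ _)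
    · intro ψ _ hψO
      by_contra hne
      apply hψO
      rw [hO]
      have hne' : classInner (fun n : N => (χ : G → ℂ) n) (ψ : N → ℂ) ≠ 0 := by
        intro h0
        apply hne
        rw [h0, zero_mul]
      exact conj_of_constituent N (χ : G → ℂ) χ.2 (θ : N → ℂ) (ψ : N → ℂ) θ.2 ψ.2 h hne'
  · push Not at h
    apply Finset.sum_eq_zero
    intro ψ hψ
    obtain ⟨k, hk⟩ := (hO ψ).mp hψ
    rw [hk, classInner_conjChar N (Cfsg.Agent.Lib.H24.irr_isClassFunction χ), h, mul_zero]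

end Key

/-- Let p be a prime, G a finite group with Sylow p-subgroup P, M a maximal ideal of the algebraic integers containing p, and B a p-block of G with defect group P. Let N be a normal subgroup of G not containing P and θ an irreducible character of N. Then the number of irreducible characters in B of degree prime to p lying over θ (having θ as a constituent on restriction to N) is either 0 or at least 2, and when p ≤ 3 it is divisible by p. -/
theorem result {G : Type*} [Group G] [Fintype G] (p : ℕ) [Fact p.Prime] (P : Sylow p G) (M : Ideal Cfsg.AlgInt) (hM : Cfsg.IsPModular p M) (B : Set (Cfsg.IrrCharacter G)) (hB : Cfsg.IsPBlock M B) (hBP : Cfsg.IsDefectGroup p M B P) (N : Subgroup G) [N.Normal] [Fintype N] (hPN : ¬ (P : Subgroup G) ≤ N) (θ : Cfsg.IrrCharacter N) :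
    (Nat.card {χ : Cfsg.IrrCharacter G // χ ∈ B ∧ ¬ p ∣ Cfsg.charDegree (χ : G → ℂ) ∧ Cfsg.classInner (fun n : N => (χ : G → ℂ) n) (θ : N → ℂ) ≠ 0} = 0 ∨
      2 ≤ Nat.card {χ : Cfsg.IrrCharacter G // χ ∈ B ∧ ¬ p ∣ Cfsg.charDegree (χ : G → ℂ) ∧ Cfsg.classInner (fun n : N => (χ : G → ℂ) n) (θ : N → ℂ) ≠ 0}) ∧
    (p ≤ 3 → p ∣ Nat.card {χ : Cfsg.IrrCharacter G // χ ∈ B ∧ ¬ p ∣ Cfsg.charDegree (χ : G → ℂ) ∧ Cfsg.classInner (fun n : N => (χ : G → ℂ) n) (θ : N → ℂ) ≠ 0}) := by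
  classical
  haveI hPr := isPrime_of_isPModular hM
  haveI := Fintype.ofFinite (IrrCharacter G)
  haveI := Fintype.ofFinite (IrrCharacter N)
  have hp : p.Prime := Fact.out
  obtain ⟨χ₀, rfl⟩ := hB
  set B := blockOf M (χ₀ : G → ℂ) with hBdef
  -- p ∣ N.index
  have hidx : p ∣ N.index := by
    by_contra hnd
    apply hPN
    intro g hg
    obtain ⟨k, hk⟩ := (IsPGroup.iff_orderOf.mp P.isPGroup') ⟨g, hg⟩
    have hk' : orderOf g = p ^ k := by
      rw [← hk]; exact (Subgroup.orderOf_mk g hg).symm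
    have h1 : orderOf (QuotientGroup.mk' N g) ∣ p ^ k := by
      rw [← hk']; exact orderOf_map_dvd _ g
    have h2 : orderOf (QuotientGroup.mk' N g) ∣ N.index := by
      rw [Subgroup.index_eq_card]; exact orderOf_dvd_natCard _
    have hcop : Nat.Coprime (p ^ k) N.index :=
      Nat.Coprime.pow_left _ ((Nat.Prime.coprime_iff_not_dvd hp).mpr hnd)
    have h3 : orderOf (QuotientGroup.mk' N g) = 1 :=
      Nat.eq_one_of_dvd_coprimes hcop h1 h2
    rw [orderOf_eq_one_iff] at h3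
    exact (QuotientGroup.eq_one_iff g).mp h3
  set O : Finset (IrrCharacter N) := Finset.univ.filter
    (fun ψ : IrrCharacter N => ∃ k : G, (ψ : N → ℂ) = conjChar N (θ : N → ℂ) k) with hOdef
  have hO : ∀ ψ : IrrCharacter N, ψ ∈ O ↔ ∃ k : G, (ψ : N → ℂ) = conjChar N (θ : N → ℂ) k := by
    intro ψ
    rw [hOdef, Finset.mem_filter]
    simp
  set A : N → ℂ := fun n => ∑ ψ ∈ O, (ψ : N → ℂ) 1 * conj ((ψ : N → ℂ) n) with hA
  have hAint : ∀ n : N, MemLocalRing M (A n) := by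
    intro n
    refine memLocalRing_sum _ _ (fun ψ _ => memLocalRing_mul ?_ ?_)
    · exact coe_mem_localRing ⟨_, irr_isIntegral ψ 1⟩
    · exact coe_mem_localRing ⟨_, isIntegral_conj (irr_isIntegral ψ n)⟩
  -- the weights
  have hwt : ∀ χ : IrrCharacter G,
      (if classInner (fun n : N => (χ : G → ℂ) n) (θ : N → ℂ) ≠ 0 then (χ : G → ℂ) 1 else 0) =
      (Nat.card N : ℂ)⁻¹ * ∑ n : N, (χ : G → ℂ) n * A n := by
    intro χ
    rw [← weight_eq N θ χ O hO]
    unfold classInner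
    simp only [hA, Finset.mul_sum]
    rw [Finset.sum_comm]
    refine Finset.sum_congr rfl (fun n _ => ?_)
    refine Finset.sum_congr rfl (fun ψ _ => ?_)
    ring
  have hGN : (N.index : ℂ) * (Nat.card N : ℂ) = (Nat.card G : ℂ) := by
    exact_mod_cast N.index_mul_card
  have hN0 : (Nat.card N : ℂ) ≠ 0 := by exact_mod_cast (Nat.card_pos (α := N)).ne'
  have hG0 : (Nat.card G : ℂ) ≠ 0 := by exact_mod_cast (Nat.card_pos (α := G)).ne'
  have hblock : ∀ n : N, ∑ χ : IrrCharacter G,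
      (if χ ∈ B then (χ : G → ℂ) 1 * (χ : G → ℂ) n else 0) =
      (Nat.card G : ℂ) * blockCoeff B (n : G)⁻¹ := by
    intro n
    rw [blockCoeff_eq_sum, ← mul_assoc, mul_inv_cancel₀ hG0, one_mul]
    refine Finset.sum_congr rfl (fun χ _ => ?_)
    split_ifs
    · rw [irr_inv χ (n : G), Complex.conj_conj]
    · rfl
  have hS : ∑ χ : IrrCharacter G, (if χ ∈ B then (χ : G → ℂ) 1 *
      (if classInner (fun n : N => (χ : G → ℂ) n) (θ : N → ℂ) ≠ 0 then (χ : G → ℂ) 1 else 0)
      else 0) = (N.index : ℂ) * ∑ n : N, A n * blockCoeff B (n : G)⁻¹ := by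
    have h1 : ∀ χ : IrrCharacter G, (if χ ∈ B then (χ : G → ℂ) 1 *
        (if classInner (fun n : N => (χ : G → ℂ) n) (θ : N → ℂ) ≠ 0 then (χ : G → ℂ) 1 else 0)
        else 0) = (Nat.card N : ℂ)⁻¹ * ∑ n : N, A n *
          (if χ ∈ B then (χ : G → ℂ) 1 * (χ : G → ℂ) n else 0) := by
      intro χ
      by_cases hχ : χ ∈ B
      · simp only [if_pos hχ]
        rw [hwt χ, ← mul_assoc, mul_comm ((χ : G → ℂ) 1), mul_assoc, Finset.mul_sum]
        congr 1
        refine Finset.sum_congr rfl (fun n _ => ?_)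
        ring
      · simp only [if_neg hχ, mul_zero, Finset.sum_const_zero]
    rw [Finset.sum_congr rfl (fun χ _ => h1 χ), ← Finset.mul_sum, Finset.sum_comm]
    have h2 : ∀ n : N, ∑ χ : IrrCharacter G, A n *
        (if χ ∈ B then (χ : G → ℂ) 1 * (χ : G → ℂ) n else 0) =
        (Nat.card G : ℂ) * (A n * blockCoeff B (n : G)⁻¹) := by
      intro n
      rw [← Finset.mul_sum, hblock n]
      ring
    rw [Finset.sum_congr rfl (fun n _ => h2 n), ← Finset.mul_sum, ← mul_assoc, ← hGN]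
    field_simp
  have hSmem : MemLocalIdeal M ((N.index : ℂ) * ∑ n : N, A n * blockCoeff B (n : G)⁻¹) := by
    refine memLocalIdeal_mul_right ((natCast_memLocalIdeal_iff hM _).mpr hidx) ?_
    exact memLocalRing_sum _ _ (fun n _ =>
      memLocalRing_mul (hAint n) (memLocalRing_blockCoeff hM χ₀ _))
  rw [← hS] at hSmem
  -- translate to natural numbers
  set I : Finset (IrrCharacter G) := Finset.univ.filter (fun χ : IrrCharacter G =>
    χ ∈ B ∧ classInner (fun n : N => (χ : G → ℂ) n) (θ : N → ℂ) ≠ 0) with hI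
  have hSnat : ∑ χ : IrrCharacter G, (if χ ∈ B then (χ : G → ℂ) 1 *
      (if classInner (fun n : N => (χ : G → ℂ) n) (θ : N → ℂ) ≠ 0 then (χ : G → ℂ) 1 else 0)
      else 0) = ((∑ χ ∈ I, charDegree (χ : G → ℂ) ^ 2 : ℕ) : ℂ) := by
    rw [hI, Finset.sum_filter, Nat.cast_sum]
    refine Finset.sum_congr rfl (fun χ _ => ?_)
    by_cases h1 : χ ∈ B
    · by_cases h2 : classInner (fun n : N => (χ : G → ℂ) n) (θ : N → ℂ) ≠ 0
      · rw [if_pos h1, if_pos h2, if_pos ⟨h1, h2⟩,
          Cfsg.Agent.Lib.H23.apply_one_eq_charDegree _ χ.2]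
        push_cast
        ring
      · rw [if_pos h1, if_neg h2, if_neg (fun h => h2 h.2), mul_zero, Nat.cast_zero]
    · rw [if_neg h1, if_neg (fun h => h1 h.1), Nat.cast_zero]
  rw [hSnat, natCast_memLocalIdeal_iff hM] at hSmem
  -- the p'-degree part
  set I₀ : Finset (IrrCharacter G) := Finset.univ.filter (fun χ : IrrCharacter G =>
    χ ∈ B ∧ ¬ p ∣ charDegree (χ : G → ℂ) ∧
      classInner (fun n : N => (χ : G → ℂ) n) (θ : N → ℂ) ≠ 0) with hI₀
  have hcard : Nat.card {χ : IrrCharacter G // χ ∈ B ∧ ¬ p ∣ charDegree (χ : G → ℂ) ∧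
      classInner (fun n : N => (χ : G → ℂ) n) (θ : N → ℂ) ≠ 0} = I₀.card := by
    rw [Nat.card_eq_fintype_card, Fintype.card_subtype]
  have hI₀sum : p ∣ ∑ χ ∈ I₀, charDegree (χ : G → ℂ) ^ 2 := by
    have hsplit : ∑ χ ∈ I, charDegree (χ : G → ℂ) ^ 2 =
        ∑ χ ∈ I₀, charDegree (χ : G → ℂ) ^ 2 +
        ∑ χ ∈ I.filter (fun χ : IrrCharacter G => p ∣ charDegree (χ : G → ℂ)), charDegree (χ : G → ℂ) ^ 2 := by
      have hI₀' : I₀ = I.filter (fun χ : IrrCharacter G => ¬ p ∣ charDegree (χ : G → ℂ)) := by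
        ext χ
        simp only [hI, hI₀, Finset.mem_filter, Finset.mem_univ, true_and]
        tauto
      rw [hI₀']
      exact (Finset.sum_filter_not_add_sum_filter I (fun χ : IrrCharacter G => p ∣ charDegree (χ : G → ℂ))
        (fun χ : IrrCharacter G => charDegree (χ : G → ℂ) ^ 2)).symm
    have h2 : p ∣ ∑ χ ∈ I.filter (fun χ : IrrCharacter G => p ∣ charDegree (χ : G → ℂ)),
        charDegree (χ : G → ℂ) ^ 2 := by
      apply Finset.dvd_sum
      intro χ hχ
      exact dvd_pow (Finset.mem_filter.mp hχ).2 (by norm_num)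
    rw [hsplit] at hSmem
    exact (Nat.dvd_add_left h2).mp hSmem
  rw [hcard]
  constructor
  · by_contra hcon
    push Not at hcon
    have h1 : I₀.card = 1 := by omega
    obtain ⟨χ, hχ⟩ := Finset.card_eq_one.mp h1
    rw [hχ, Finset.sum_singleton] at hI₀sum
    have h2 : p ∣ charDegree (χ : G → ℂ) := hp.dvd_of_dvd_pow hI₀sum
    have h3 : χ ∈ I₀ := by rw [hχ]; exact Finset.mem_singleton_self χ
    rw [hI₀, Finset.mem_filter] at h3
    exact h3.2.2.1 h2
  · intro hp3
    have hsq : ∀ χ ∈ I₀, ((charDegree (χ : G → ℂ) : ℕ) : ZMod p) ^ 2 = 1 := by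
      intro χ hχ
      rw [hI₀, Finset.mem_filter] at hχ
      have hne : ((charDegree (χ : G → ℂ) : ℕ) : ZMod p) ≠ 0 := by
        rw [Ne, ZMod.natCast_eq_zero_iff]
        exact hχ.2.2.1
      have hp23 : p = 2 ∨ p = 3 := by
        have := hp.two_le
        omega
      have key2 : ∀ x : ZMod 2, x ≠ 0 → x ^ 2 = 1 := by decide
      have key3 : ∀ x : ZMod 3, x ≠ 0 → x ^ 2 = 1 := by decide
      rcases hp23 with h2 | h3
      · subst h2
        exact key2 _ hne
      · subst h3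
        exact key3 _ hne
    have h1 : ((∑ χ ∈ I₀, charDegree (χ : G → ℂ) ^ 2 : ℕ) : ZMod p) = 0 :=
      (ZMod.natCast_eq_zero_iff _ _).mpr hI₀sum
    rw [Nat.cast_sum] at h1
    have h2 : ∑ χ ∈ I₀, ((charDegree (χ : G → ℂ) ^ 2 : ℕ) : ZMod p) = (I₀.card : ZMod p) := by
      rw [Finset.card_eq_sum_ones, Nat.cast_sum]
      refine Finset.sum_congr rfl (fun χ hχ => ?_)
      rw [Nat.cast_pow, hsq χ hχ, Nat.cast_one]
    rw [h2] at h1
    exact (ZMod.natCast_eq_zero_iff _ _).mp h1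

end Cfsg.Agent.S4825
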