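import Cfsg.Statements.S4828
import Cfsg.Agent.Lib.H23.MaxPairB
open Cfsg.Agent.Lib.H23 Cfsg.Agent.Lib.H23.MaxPair Cfsg.Agent.Lib.L0 Cfsg.Agent.Lib.L0.BrauerSubpair Cfsg.Agent.Lib.L0.BrauerDefect Cfsg.Agent.Lib.L0.BrauerSylow Cfsg.Agent.Lib.L0.BrauerCentric

set_option autoImplicit false
open Cfsg

namespace Cfsg.Agent.S4828

/-- Let p be a prime, M a maximal ideal of the algebraic integers containing p, and (Q, e) a Brauer pair of the finite group G (Q a p-subgroup, e a block of C_G(Q)). Then (Q, e) is a maximal Brauer pair of some block of G if and only if e contains an irreducible character θ such that θ takes the value θ(1) at every element of Z(Q) = Q ∩ C_G(Q), the p-part of θ(1) times the p-part of the order of Z(Q) equals the p-part of the order of C_G(Q) (θ has defect zero as a character of C_G(Q)/Z(Q)), and every element of N_G(Q) of p-power order that stabilizes e lies in Q·C_G(Q) (the stabilizer of e in N_G(Q) has index prime to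 p over Q·C_G(Q)). -/
theorem result {G : Type*} [Group G] [Finite G] (p : ℕ) [Fact p.Prime] (M : Ideal Cfsg.AlgInt) (hM : Cfsg.IsPModular p M) (Q : Subgroup G) (e : Set (Cfsg.IrrCharacter (Subgroup.centralizer (Q : Set G)))) (he : Cfsg.IsBrauerPair p M Q e) :
    (∃ B : Set (Cfsg.IrrCharacter G), Cfsg.IsMaximalBrauerPair p M B Q e) ↔
      ∃ θ ∈ e, (∀ z : Subgroup.centralizer (Q : Set G), (z : G) ∈ Q → (θ : Subgroup.centralizer (Q : Set G) → ℂ) z = (θ : Subgroup.centralizer (Q : Set G) → ℂ) 1) ∧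
        (Cfsg.charDegree (θ : Subgroup.centralizer (Q : Set G) → ℂ)).factorization p + (Nat.card ↥(Q ⊓ Subgroup.centralizer (Q : Set G))).factorization p = (Nat.card (Subgroup.centralizer (Q : Set G))).factorization p ∧
        (∀ g : G, g ∈ Subgroup.normalizer (Q : Set G) → Cfsg.StabilizesBlock (Subgroup.centralizer (Q : Set G)) e g → (∃ k : ℕ, orderOf g = p ^ k) → g ∈ Q ⊔ Subgroup.centralizer (Q : Set G)) := by
  classical
  haveI := Fintype.ofFinite G
  haveI hPr := isPrime_of_isPModular hM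
  have hp : p.Prime := Fact.out
  obtain ⟨hQ, hePB⟩ := he
  haveI : Fintype (CC Q) := Fintype.ofFinite _
  have hZp : IsPGroup p ((Q ⊓ CC Q).subgroupOf (CC Q)) :=
    (hQ.to_le inf_le_left).comap_subtype
  have hZc : (Q ⊓ CC Q).subgroupOf (CC Q) ≤ Subgroup.center (CC Q) := by
    intro z hz
    rw [Subgroup.mem_center_iff]
    intro c
    apply Subtype.ext
    have hz' : (z : G) ∈ Q := (Subgroup.mem_subgroupOf.1 hz).1
    exact (Subgroup.mem_centralizer_iff.1 c.2 z hz').symm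
  have hcardZ : Nat.card ↥((Q ⊓ CC Q).subgroupOf (CC Q)) = Nat.card ↥(Q ⊓ CC Q) :=
    BrauerFully.card_inf_subgroupOf Q (CC Q)
  obtain ⟨B₀, hB₀, -⟩ := exists_unique_block_of_brauerPair hM Q e ⟨hQ, hePB⟩
  constructor
  · rintro ⟨B, hmax⟩
    have hBpair := hmax.1
    have hDQ : IsDefectGroup p M B Q := isDefectGroup_of_maximal hM hmax
    have hZ : IsDefectGroup p M e ((Q ⊓ CC Q).subgroupOf (CC Q)) := by
      obtain ⟨D, hD, hZD⟩ := exists_defectGroup_ge_centralizer hM (P := Q) (Q := Q) (e := e)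
        (f := e) ⟨hQ, hePB⟩ Relation.ReflTransGen.refl
      obtain ⟨h₂, hnorm₂⟩ := exists_normalSubpair_of_defectGroup hM hQ hePB D hD
      have hRB := (isBrauerPairOf_iff_of_normalSubpair hM hnorm₂ B).1 hBpair
      have hEq := hmax.2 _ h₂ hRB (Relation.ReflTransGen.single hnorm₂)
      have hDQ' : D.map (CC Q).subtype ≤ Q := by
        have : D.map (CC Q).subtype ≤ Q ⊔ D.map (CC Q).subtype := le_sup_right
        rwa [hEq] at this
      have hDZ : D ≤ (Q ⊓ CC Q).subgroupOf (CC Q) := fun d hd =>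
        Subgroup.mem_subgroupOf.2 ⟨hDQ' ⟨d, hd, rfl⟩, d.2⟩
      have h3 : (Q ⊓ CC Q).subgroupOf (CC Q) = D := le_antisymm hZD hDZ
      rw [h3]
      exact hD
    obtain ⟨θ₀, rfl⟩ := hePB
    obtain ⟨θ, hθ, hker, hdeg⟩ := exists_canonical hM _ hZp hZc θ₀ hZ
    refine ⟨θ, hθ, fun z hz => hker z (Subgroup.mem_subgroupOf.2 ⟨hz, z.2⟩), ?_, ?_⟩
    · rw [← hdeg, hcardZ]
    · exact (core hM Q hQ _ ⟨θ₀, rfl⟩ hZ B hBpair).1 hDQ
  · rintro ⟨θ, hθ, hker, hdeg, hstab⟩
    have heq : e = blockOf M (θ : CC Q → ℂ) := FR.isPBlock_eq_blockOf hePB hθ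
    have hZ : IsDefectGroup p M e ((Q ⊓ CC Q).subgroupOf (CC Q)) := by
      rw [heq]
      exact isDefectGroup_of_degree hM _ hZp hZc θ (by rw [hcardZ]; exact hdeg)
    have hDQ := (core hM Q hQ e hePB hZ B₀ hB₀).2 hstab
    refine ⟨B₀, hB₀, ?_⟩
    intro R g hRg hle
    have hQR : Q ≤ R := fst_le_of_reflTransGen (a := ⟨Q, e⟩) (b := ⟨R, g⟩) hle
    obtain ⟨P, eP, hPmax, hleP⟩ := exists_maximal_above hM _ R g rfl hRg
    have hRP : R ≤ P := fst_le_of_reflTransGen (a := ⟨R, g⟩) (b := ⟨P, eP⟩) hleP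
    have hDP := isDefectGroup_of_maximal hM hPmax
    obtain ⟨χ₁, rfl⟩ := hB₀.2.1
    have h1 := card_defectGroup hM χ₁ Q hDQ
    have h2 := card_defectGroup hM χ₁ P hDP
    have h3 : Q = P := Subgroup.eq_of_le_of_card_ge (hQR.trans hRP) (by rw [h1, h2])
    exact le_antisymm (h3 ▸ hRP) hQR

end Cfsg.Agent.S4828
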