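import Cfsg.Statements.S4836
import Cfsg.Agent.Lib.H24.Gagola

set_option autoImplicit false
open Cfsg

namespace Cfsg.Agent.S4836

open Cfsg.Agent.Lib.H24

/-- A character nonzero on exactly two classes (group of order `> 2`) is faithful. -/
theorem faithful_of_two_classes {G : Type*} [Group G] [Finite G] (hG : 2 < Nat.card G)
    (χ : Cfsg.IrrCharacter G)
    (hχ : Nat.card {C : ConjClasses G // ∃ g ∈ C.carrier, (χ : G → ℂ) g ≠ 0} = 2) :
    ∀ g : G, (χ : G → ℂ) g = (χ : G → ℂ) 1 → g = 1 := by
  classical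
  have := Fintype.ofFinite G
  obtain ⟨c, hc, hc0, hsupp⟩ := two_classes_data χ hχ
  intro g hg
  by_contra hg1
  have hgne : (χ : G → ℂ) g ≠ 0 := by rw [hg]; exact irr_one_ne_zero χ
  have hconj : IsConj c g := (hsupp g hgne).resolve_left hg1
  have hcg : (χ : G → ℂ) c = (χ : G → ℂ) 1 := (irr_eq_of_isConj χ hconj).trans hg
  have hval := two_classes_value hG χ c hc hsupp
  rw [hcg] at hval
  have h1 : ((1 : ℂ) + ((Subgroup.centralizer ({c} : Set G)).index : ℂ)) * (χ : G → ℂ) 1 = 0 := by
    linear_combination hval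
  rcases mul_eq_zero.mp h1 with h2 | h2
  · have : ((1 + (Subgroup.centralizer ({c} : Set G)).index : ℕ) : ℂ) = 0 := by
      push_cast; exact h2
    have h3 : 1 + (Subgroup.centralizer ({c} : Set G)).index = 0 := by exact_mod_cast this
    omega
  · exact irr_one_ne_zero χ h2

/-- Let G be a finite group of order greater than 2 with an irreducible character χ that is nonzero on exactly two conjugacy classes. Then χ is faithful (it takes the value χ(1) only at the identity), it is the only faithful irreducible character of G, and it is the only irreducible character of G that is nonzero on exactly two conjugacy classes. -/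
theorem result {G : Type*} [Group G] [Finite G] (hG : 2 < Nat.card G) (χ : Cfsg.IrrCharacter G) (hχ : Nat.card {C : ConjClasses G // ∃ g ∈ C.carrier, (χ : G → ℂ) g ≠ 0} = 2) :
    (∀ g : G, (χ : G → ℂ) g = (χ : G → ℂ) 1 → g = 1) ∧
      (∀ ψ : Cfsg.IrrCharacter G, (∀ g : G, (ψ : G → ℂ) g = (ψ : G → ℂ) 1 → g = 1) → ψ = χ) ∧
      (∀ ψ : Cfsg.IrrCharacter G, Nat.card {C : ConjClasses G // ∃ g ∈ C.carrier, (ψ : G → ℂ) g ≠ 0} = 2 → ψ = χ) := by
  classical
  have := Fintype.ofFinite G
  obtain ⟨c, hc, hc0, hsupp⟩ := two_classes_data χ hχ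
  have hfaith : ∀ ψ : Cfsg.IrrCharacter G,
      (∀ g : G, (ψ : G → ℂ) g = (ψ : G → ℂ) 1 → g = 1) → ψ = χ := by
    intro ψ hψ
    by_contra hne
    exact hc (hψ c (two_classes_other hG χ c hc hsupp ψ hne))
  refine ⟨faithful_of_two_classes hG χ hχ, hfaith, ?_⟩
  intro ψ hψ
  exact hfaith ψ (faithful_of_two_classes hG ψ hψ)

end Cfsg.Agent.S4836
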