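-- Statement S4835
import Cfsg.Statements.S4835
import Cfsg.Agent.S4836
import Cfsg.Agent.Lib.H24.CharCodegree

set_option autoImplicit false
open Cfsg

namespace Cfsg.Agent.S4835

open Cfsg.Agent.Lib.H24 Cfsg.Agent.Lib.L0 Cfsg.Agent.Lib.H23

/-- Let G be a finite group of order greater than 2 with an irreducible character χ that is nonzero on exactly two conjugacy classes. Then G has a unique minimal normal subgroup N; N is an elementary abelian p-group for some prime p; χ is nonzero exactly at the elements of N; and any two nonidentity elements of N are conjugate in G. -/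
theorem result {G : Type*} [Group G] [Finite G] (hG : 2 < Nat.card G) (χ : Cfsg.IrrCharacter G) (hχ : Nat.card {C : ConjClasses G // ∃ g ∈ C.carrier, (χ : G → ℂ) g ≠ 0} = 2) :
    ∃ N : Subgroup G, N.Normal ∧ N ≠ ⊥ ∧ (∀ K : Subgroup G, K.Normal → K ≠ ⊥ → N ≤ K) ∧
      (∃ p : ℕ, p.Prime ∧ Cfsg.IsElementaryAbelian p N) ∧
      (∀ g : G, (χ : G → ℂ) g ≠ 0 ↔ g ∈ N) ∧
      (∀ x ∈ N, ∀ y ∈ N, x ≠ 1 → y ≠ 1 → ∃ g : G, g * x * g⁻¹ = y) := by
  classical
  have := Fintype.ofFinite G
  have := Fintype.ofFinite (IrrCharacter G)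
  obtain ⟨c, hc, hc0, hsupp⟩ := two_classes_data χ hχ
  have hfaith := Cfsg.Agent.S4836.faithful_of_two_classes hG χ hχ
  have hχtriv : χ ≠ trivialIrr G := two_classes_ne_trivial hG χ c hc hsupp
  -- the subgroup N
  let N : Subgroup G := ⨅ ψ : {ψ : IrrCharacter G // ψ ≠ χ}, irrKer ψ.1
  have hNnormal : N.Normal := Subgroup.normal_iInf_normal (fun ψ => inferInstance)
  have hmemN : ∀ g : G, g ∈ N ↔ ∀ ψ : IrrCharacter G, ψ ≠ χ → (ψ : G → ℂ) g = (ψ : G → ℂ) 1 := by
    intro g
    simp only [N, Subgroup.mem_iInf, Subtype.forall]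
    rfl
  -- (1) support of χ
  have hsuppN : ∀ g : G, (χ : G → ℂ) g ≠ 0 ↔ g ∈ N := by
    intro g
    constructor
    · intro hg
      rw [hmemN]
      intro ψ hψ
      rcases hsupp g hg with h | h
      · rw [h]
      · rw [← irr_eq_of_isConj ψ h]
        exact two_classes_other hG χ c hc hsupp ψ hψ
    · intro hg hzero
      rw [hmemN] at hg
      by_cases hg1 : g = 1
      · rw [hg1] at hzero
        exact irr_one_ne_zero χ hzero
      · have hsum := sum_irr_one_mul (G := G) g
        rw [if_neg hg1, ← Finset.add_sum_erase Finset.univ _ (Finset.mem_univ χ), hzero, mul_zero,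
          zero_add] at hsum
        have h2 : ∑ ψ ∈ Finset.univ.erase χ, (ψ : G → ℂ) 1 * (ψ : G → ℂ) g =
            ((∑ ψ ∈ Finset.univ.erase χ, (charDegree (ψ : G → ℂ)) ^ 2 : ℕ) : ℂ) := by
          push_cast
          refine Finset.sum_congr rfl (fun ψ hψ => ?_)
          rw [hg ψ (Finset.ne_of_mem_erase hψ), apply_one_eq_charDegree _ ψ.2]
          ring
        rw [h2] at hsum
        have h3 : ∑ ψ ∈ Finset.univ.erase χ, (charDegree (ψ : G → ℂ)) ^ 2 = 0 := by
          exact_mod_cast hsum
        have h4 := (Finset.sum_eq_zero_iff.mp h3) (trivialIrr G)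
          (Finset.mem_erase.mpr ⟨Ne.symm hχtriv, Finset.mem_univ _⟩)
        have h5 : charDegree (trivialIrr G : G → ℂ) = 1 := by
          apply charDegree_eq_of_apply_one
          simp
        rw [h5] at h4
        norm_num at h4
  have hcN : c ∈ N := (hsuppN c).mp hc0
  have hNbot : N ≠ ⊥ := by
    intro h
    rw [h, Subgroup.mem_bot] at hcN
    exact hc hcN
  have hconjc : ∀ x ∈ N, x ≠ 1 → IsConj c x := by
    intro x hx hx1
    exact (hsupp x ((hsuppN x).mpr hx)).resolve_left hx1
  -- (4) minimality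
  have hmin : ∀ K : Subgroup G, K.Normal → K ≠ ⊥ → N ≤ K := by
    intro K hK hK1
    haveI := hK
    haveI : (K ⊔ N).Normal := Subgroup.sup_normal K N
    have h1 := sum_sq_of_le_ker (G := G) K
    have h2 := sum_sq_of_le_ker (G := G) (K ⊔ N)
    have hfilter : Finset.univ.filter
        (fun ψ : IrrCharacter G => ∀ n ∈ K, (ψ : G → ℂ) n = (ψ : G → ℂ) 1) =
        Finset.univ.filter
        (fun ψ : IrrCharacter G => ∀ n ∈ K ⊔ N, (ψ : G → ℂ) n = (ψ : G → ℂ) 1) := by
      ext ψ
      simp only [Finset.mem_filter, Finset.mem_univ, true_and]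
      constructor
      · intro hψK
        have hψne : ψ ≠ χ := by
          rintro rfl
          obtain ⟨k, hk1⟩ := (Subgroup.ne_bot_iff_exists_ne_one).mp hK1
          exact hk1 (Subtype.ext (hfaith k (hψK k k.2)))
        have hle : K ⊔ N ≤ irrKer ψ := by
          apply sup_le
          · intro k hk; exact hψK k hk
          · intro n hn; exact (hmemN n).mp hn ψ hψne
        intro n hn
        exact hle hn
      · intro h n hn
        exact h n (Subgroup.mem_sup_left hn)
    rw [hfilter, h2] at h1
    -- equal index, K ≤ K ⊔ N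
    have hcard : Nat.card (K ⊔ N : Subgroup G) = Nat.card K := by
      have e1 := Subgroup.index_mul_card K
      have e2 := Subgroup.index_mul_card (K ⊔ N)
      rw [h1] at e2
      have hpos : 0 < K.index := Nat.pos_of_ne_zero Subgroup.index_ne_zero_of_finite
      exact Nat.eq_of_mul_eq_mul_left hpos (e2.trans e1.symm)
    have heq : K = K ⊔ N := Subgroup.eq_of_le_of_card_ge le_sup_left (le_of_eq hcard)
    rw [heq]
    exact le_sup_right
  -- (5) elementary abelian
  have hNnt : Nontrivial N := (Subgroup.nontrivial_iff_ne_bot N).mpr hNbot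
  have hNcard : Nat.card N ≠ 1 := by
    intro h
    exact hNbot (Subgroup.card_eq_one.mp h)
  set p := (Nat.card N).minFac with hpdef
  have hpp : p.Prime := Nat.minFac_prime hNcard
  haveI : Fact p.Prime := ⟨hpp⟩
  obtain ⟨z, hz⟩ := exists_prime_orderOf_dvd_card' (G := N) p (Nat.minFac_dvd _)
  have hz1 : (z : G) ≠ 1 := by
    intro h
    have : z = 1 := Subtype.ext h
    rw [this, orderOf_one] at hz
    exact hpp.one_lt.ne hz
  have hzord : orderOf (z : G) = p := by rw [Subgroup.orderOf_coe]; exact hz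
  have hexp : ∀ a ∈ N, a ^ p = 1 := by
    intro a ha
    by_cases ha1 : a = 1
    · rw [ha1, one_pow]
    · have h1 : IsConj (z : G) a := (hconjc z z.2 hz1).symm.trans (hconjc a ha ha1)
      obtain ⟨g, hg⟩ := isConj_iff.mp h1
      rw [← hg, conj_pow, ← hzord, pow_orderOf_eq_one]
      group
  have hNp : IsPGroup p N := by
    intro a
    refine ⟨1, ?_⟩
    rw [pow_one]
    apply Subtype.ext
    rw [Subgroup.coe_pow]
    exact hexp a a.2
  have hcomm : IsMulCommutative N := by
    haveI := hNnormal
    have hZn : ((Subgroup.center N).map N.subtype).Normal := inferInstance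
    have hZnt : Nontrivial (Subgroup.center N) := hNp.center_nontrivial
    have hZbot : (Subgroup.center N).map N.subtype ≠ ⊥ := by
      intro h
      rw [(Subgroup.map_eq_bot_iff_of_injective _ (Subgroup.subtype_injective N))] at h
      exact (Subgroup.nontrivial_iff_ne_bot _).mp hZnt h
    have hle := hmin _ hZn hZbot
    rw [isMulCommutative_iff]
    intro a b
    obtain ⟨a', ha', haa⟩ := hle a.2
    have ha'' : a' = a := Subtype.ext haa
    rw [ha''] at ha'
    exact ((Subgroup.mem_center_iff.mp ha') b).symm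
  refine ⟨N, hNnormal, hNbot, hmin, ⟨p, hpp, hcomm, hexp⟩, hsuppN, ?_⟩
  intro x hx y hy hx1 hy1
  have h1 : IsConj x y := (hconjc x hx hx1).symm.trans (hconjc y hy hy1)
  exact isConj_iff.mp h1

end Cfsg.Agent.S4835
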