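import Cfsg.Statements.S4837
import Cfsg.Agent.Lib.H24.Gagola
import Cfsg.Agent.Lib.H24.CharAbelian
import Cfsg.Agent.Lib.H24.CharOrth
import Cfsg.Agent.Lib.H8.Clifford
import Cfsg.Agent.Lib.L0.CharOps

set_option autoImplicit false
open Cfsg

namespace Cfsg.Agent.S4837

open Cfsg.Agent.Lib.H24 Cfsg.Agent.Lib.L0
open scoped ComplexConjugate

/-- Sum over `N` of a nontrivial irreducible character is zero. -/
theorem sum_irr_eq_zero {N : Type*} [Group N] [Fintype N] (μ : IrrCharacter N)
    (hμ : μ ≠ trivialIrr N) : ∑ n : N, (μ : N → ℂ) n = 0 := by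
  have horth := irr_orthonormal μ (trivialIrr N)
  rw [if_neg hμ, classInner] at horth
  have hcard : (Nat.card N : ℂ)⁻¹ ≠ 0 := by
    apply inv_ne_zero
    exact_mod_cast Nat.card_pos.ne'
  have h0 := (mul_eq_zero.mp horth).resolve_left hcard
  simpa using h0

theorem gagola_data {G : Type*} [Group G] [Fintype G] (hG : 2 < Nat.card G) (χ : IrrCharacter G)
    (hχ : Nat.card {C : ConjClasses G // ∃ g ∈ C.carrier, (χ : G → ℂ) g ≠ 0} = 2)
    (N : Subgroup G) [hNn : N.Normal] (hN : ∀ g : G, g ∈ N ↔ (χ : G → ℂ) g ≠ 0)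
    (hcomm : ∀ a b : N, a * b = b * a) :
    ∃ (c : G) (e m : ℕ), c ∈ N ∧ c ≠ 1 ∧ (∀ x ∈ N, x ≠ 1 → IsConj c x) ∧ 0 < m ∧ 0 < e ∧
      Nat.card N = 1 + m ∧ charDegree (χ : G → ℂ) = e * m ∧ Nat.card G = e ^ 2 * m * Nat.card N ∧
      (Subgroup.centralizer ({c} : Set G)).index = m := by
  classical
  obtain ⟨c, hc1, hc0, hsupp⟩ := two_classes_data χ hχ
  have hcN : c ∈ N := (hN c).mpr hc0
  have hconj : ∀ x ∈ N, x ≠ 1 → IsConj c x := fun x hx hx1 =>
    (hsupp x ((hN x).mp hx)).resolve_left hx1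
  set m := (Subgroup.centralizer ({c} : Set G)).index with hm
  have hmpos : 0 < m := Nat.pos_of_ne_zero Subgroup.index_ne_zero_of_finite
  have hmC : (m : ℂ) ≠ 0 := by exact_mod_cast hmpos.ne'
  -- |N| = 1 + m
  have hNcard : Nat.card N = 1 + m := by
    have h := sum_two_classes (fun g : G => if g ∈ N then (1 : ℂ) else 0) c hc1 (by
      intro g hg
      have : g ∈ N := by
        by_contra h
        simp [h] at hg
      exact hsupp g ((hN g).mp this)) (by
      intro g hg
      obtain ⟨k, hk⟩ := isConj_iff.mp hg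
      have : g ∈ N := by rw [← hk]; exact hNn.conj_mem c hcN k
      simp [this, hcN])
    simp only [N.one_mem, hcN, if_true, mul_one] at h
    rw [Finset.sum_boole] at h
    have h2 : ((Finset.univ.filter (fun g : G => g ∈ N)).card : ℂ) = (Nat.card N : ℂ) := by
      rw [Nat.card_eq_fintype_card, Fintype.card_subtype]
    rw [h2] at h
    exact_mod_cast h
  obtain ⟨dn, hdpos, hd⟩ := irr_one_eq χ
  have hdeg : charDegree (χ : G → ℂ) = dn := by
    have := charDegree_irr χ
    rw [hd] at this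
    exact_mod_cast this
  have hval := two_classes_value hG χ c hc1 hsupp
  rw [hd] at hval
  have hcardG : (Nat.card G : ℂ) ≠ 0 := by exact_mod_cast Nat.card_pos.ne'
  have hnorm : (χ : G → ℂ) 1 * conj ((χ : G → ℂ) 1)
      + (m : ℂ) * ((χ : G → ℂ) c * conj ((χ : G → ℂ) c)) = Nat.card G := by
    have horth := irr_orthonormal χ χ
    rw [if_pos rfl, classInner] at horth
    rw [sum_two_classes (fun g => (χ : G → ℂ) g * conj ((χ : G → ℂ) g)) c hc1
      (fun g hg => hsupp g (fun h => hg (by simp [h])))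
      (fun g hg => by rw [← irr_eq_of_isConj χ hg])] at horth
    rw [inv_mul_eq_iff_eq_mul₀ hcardG, mul_one] at horth
    exact horth
  rw [hd] at hnorm
  set r := (χ : G → ℂ) c with hr
  have hmr : (m : ℂ) * r = -dn := by linear_combination hval
  have hrconj : conj r = r := by
    have h1 : (m : ℂ) * conj r = -dn := by
      have := congrArg conj hmr
      simpa using this
    exact mul_left_cancel₀ hmC (h1.trans hmr.symm)
  rw [hrconj] at hnorm
  simp only [Complex.conj_natCast] at hnorm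
  -- dn^2 (m+1) = m |G|
  have hkey : dn ^ 2 * (m + 1) = m * Nat.card G := by
    have : ((dn : ℂ)) ^ 2 * ((m : ℂ) + 1) = (m : ℂ) * (Nat.card G : ℂ) := by
      rw [← hnorm]
      linear_combination (-(m:ℂ) * r + (dn : ℂ)) * hmr
    exact_mod_cast this
  -- a nontrivial irreducible character of N
  have hexμ : ∃ μ : IrrCharacter N, μ ≠ trivialIrr N := by
    have hnt : Nontrivial (ConjClasses N) := by
      refine ⟨⟨ConjClasses.mk 1, ConjClasses.mk ⟨c, hcN⟩, fun h => ?_⟩⟩
      have := ConjClasses.mk_eq_mk_iff_isConj.mp h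
      have := isConj_one_right.mp this
      exact hc1 (congrArg Subtype.val this)
    have hcard := card_irr_eq_card_conjClasses (G := N)
    have : Nontrivial (IrrCharacter N) := by
      apply (Finite.one_lt_card_iff_nontrivial).mp
      rw [hcard]
      exact Finite.one_lt_card
    exact exists_ne _
  obtain ⟨μ, hμ⟩ := hexμ
  have hμ1 : (μ : N → ℂ) 1 = 1 := irr_apply_one_of_comm hcomm μ
  have hμsum : ∑ n : N, (μ : N → ℂ) n = 0 := sum_irr_eq_zero μ hμ
  obtain ⟨e, he⟩ := classInner_char_irr_nat (isCharacter_restrict N (isCharacter_of_irr χ.2)) μ.2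
  -- compute the inner product
  have hχN : ∀ n : N, (χ : G → ℂ) n = r + (if n = 1 then (dn : ℂ) - r else 0) := by
    intro n
    by_cases hn : n = 1
    · rw [if_pos hn, hn]
      simp [hd]
    · rw [if_neg hn, add_zero]
      have hn' : (n : G) ≠ 1 := fun h => hn (Subtype.ext h)
      exact (irr_eq_of_isConj χ (hconj n n.2 hn')).symm
  have hinner : (Nat.card N : ℂ) * (e : ℂ) = dn - r := by
    rw [← he, classInner]
    have hcardN : (Nat.card N : ℂ) ≠ 0 := by exact_mod_cast Nat.card_pos.ne'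
    rw [mul_inv_cancel_left₀ hcardN]
    have : ∀ n : N, (χ : G → ℂ) n * conj ((μ : N → ℂ) n)
        = r * conj ((μ : N → ℂ) n) + (if n = 1 then ((dn : ℂ) - r) * conj ((μ : N → ℂ) 1) else 0) := by
      intro n
      rw [hχN n]
      by_cases hn : n = 1
      · rw [if_pos hn, if_pos hn, hn]; ring
      · rw [if_neg hn, if_neg hn]; ring
    rw [Finset.sum_congr rfl (fun n _ => this n), Finset.sum_add_distrib, ← Finset.mul_sum,
      ← map_sum, hμsum, map_zero, mul_zero, zero_add, Finset.sum_ite_eq' Finset.univ (1 : N)]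
    simp [hμ1]
  -- e * m = dn
  have hem : e * m = dn := by
    have : ((e : ℂ)) * (m : ℂ) = dn := by
      have h1 : (Nat.card N : ℂ) = 1 + m := by exact_mod_cast congrArg (Nat.cast (R := ℂ)) hNcard
      rw [h1] at hinner
      have h2 : ((1 : ℂ) + m) * ((e : ℂ) * m) = (1 + m) * dn := by
        linear_combination (m : ℂ) * hinner - hmr
      have h3 : ((1 : ℂ) + m) ≠ 0 := by
        have : (0 : ℝ) < 1 + m := by positivity
        exact_mod_cast this.ne'
      exact mul_left_cancel₀ h3 h2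
    exact_mod_cast this
  have hepos : 0 < e := by
    rcases Nat.eq_zero_or_pos e with h | h
    · rw [h, zero_mul] at hem; omega
    · exact h
  refine ⟨c, e, m, hcN, hc1, hconj, hmpos, hepos, hNcard, by rw [hdeg, hem], ?_, rfl⟩
  -- |G| = e^2 m |N|
  rw [← hem] at hkey
  have : m * (e ^ 2 * m * Nat.card N) = m * Nat.card G := by
    rw [← hkey, hNcard]; ring
  exact (Nat.eq_of_mul_eq_mul_left hmpos this).symm

theorem sylow_card_dvd_degree {G : Type*} [Group G] [Fintype G] (χ : IrrCharacter G)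
    (p : ℕ) [Fact p.Prime] (N : Subgroup G) (hN : ∀ g : G, g ∈ N ↔ (χ : G → ℂ) g ≠ 0)
    (hNp : IsPGroup p N) (q : ℕ) [Fact q.Prime] (hqp : q ≠ p) (Q : Sylow q G) :
    Nat.card (Q : Subgroup G) ∣ charDegree (χ : G → ℂ) := by
  classical
  have hdisj : Disjoint (Q : Subgroup G) N := IsPGroup.disjoint_of_ne q p hqp _ _ Q.2 hNp
  have hvan : ∀ g : (Q : Subgroup G), g ≠ 1 → (χ : G → ℂ) g = 0 := by
    intro g hg
    by_contra h
    have hgN : (g : G) ∈ N := (hN g).mpr h
    have := Subgroup.disjoint_def.mp hdisj g.2 hgN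
    exact hg (Subtype.ext this)
  obtain ⟨n₁, hn₁⟩ := classInner_char_irr_nat
    (isCharacter_restrict (Q : Subgroup G) (isCharacter_of_irr χ.2))
    (trivialIrr (Q : Subgroup G)).2
  rw [classInner] at hn₁
  have hsum : ∑ g : (Q : Subgroup G), (χ : G → ℂ) g *
      conj ((trivialIrr (Q : Subgroup G) : ↥(Q : Subgroup G) → ℂ) g) = (χ : G → ℂ) 1 := by
    rw [Finset.sum_eq_single (1 : (Q : Subgroup G))]
    · simp
    · intro g _ hg; rw [hvan g hg, zero_mul]
    · intro h; exact absurd (Finset.mem_univ _) h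
  rw [hsum, ← charDegree_irr χ] at hn₁
  have hcardQ : (Nat.card (Q : Subgroup G) : ℂ) ≠ 0 := by exact_mod_cast Nat.card_pos.ne'
  rw [inv_mul_eq_iff_eq_mul₀ hcardQ] at hn₁
  exact ⟨n₁, by exact_mod_cast hn₁⟩

theorem inertia_card {G : Type*} [Group G] [Fintype G] (N : Subgroup G) [hNn : N.Normal]
    (hcomm : ∀ a b : N, a * b = b * a) (c : G) (hcN : c ∈ N)
    (hconj : ∀ x ∈ N, x ≠ 1 → IsConj c x) (m : ℕ) (hNcard : Nat.card N = 1 + m)
    (μ : IrrCharacter N) (hμ : μ ≠ trivialIrr N) (T : Subgroup G)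
    (hT : ∀ g : G, g ∈ T ↔ ∀ n : N,
      (μ : N → ℂ) ⟨g * n * g⁻¹, hNn.conj_mem n n.2 g⟩ = (μ : N → ℂ) n) :
    Nat.card T * m = Nat.card G := by
  classical
  set cj : G → N → N := fun g n => ⟨g * n * g⁻¹, hNn.conj_mem n n.2 g⟩ with hcj
  have hμ1 : (μ : N → ℂ) 1 = 1 := irr_apply_one_of_comm hcomm μ
  have hμsum : ∑ n : N, (μ : N → ℂ) n = 0 := sum_irr_eq_zero μ hμ
  have hirr : ∀ g : G, IsIrrCharacter N (fun n => (μ : N → ℂ) (cj g n)) := fun g =>
    Cfsg.Agent.Lib.H8.isIrrCharacter_conjNormal N (μ : N → ℂ) μ.2 g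
  have hinner : ∀ g : G, classInner (fun n => (μ : N → ℂ) (cj g n)) (μ : N → ℂ)
      = if g ∈ T then 1 else 0 := by
    intro g
    have h := irr_orthonormal (⟨fun n => (μ : N → ℂ) (cj g n), hirr g⟩ : IrrCharacter N) μ
    rw [show ((⟨fun n => (μ : N → ℂ) (cj g n), hirr g⟩ : IrrCharacter N) : N → ℂ)
      = fun n => (μ : N → ℂ) (cj g n) from rfl] at h
    rw [h]
    by_cases hg : g ∈ T
    · rw [if_pos hg, if_pos]
      apply Subtype.ext
      funext n
      exact (hT g).mp hg n
    · rw [if_neg hg, if_neg]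
      intro heq
      apply hg
      rw [hT]
      intro n
      exact congrFun (congrArg Subtype.val heq) n
  have hsumT : ∑ g : G, classInner (fun n => (μ : N → ℂ) (cj g n)) (μ : N → ℂ)
      = (Nat.card T : ℂ) := by
    rw [Finset.sum_congr rfl (fun g _ => hinner g), Finset.sum_boole]
    rw [Nat.card_eq_fintype_card, Fintype.card_subtype]
  -- the other computation
  set S : N → ℂ := fun n => ∑ g : G, (μ : N → ℂ) (cj g n) with hS
  set Sc : ℂ := S ⟨c, hcN⟩ with hSc
  have hS1 : S 1 = Nat.card G := by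
    have : ∀ g : G, cj g 1 = 1 := by
      intro g; apply Subtype.ext; simp [hcj]
    simp only [hS, this, hμ1, Finset.sum_const, Finset.card_univ, nsmul_eq_mul, mul_one,
      Nat.card_eq_fintype_card]
  have hSn : ∀ n : N, n ≠ 1 → S n = Sc := by
    intro n hn
    have hn' : (n : G) ≠ 1 := fun h => hn (Subtype.ext h)
    obtain ⟨h, hh⟩ := isConj_iff.mp (hconj n n.2 hn')
    have : ∀ g : G, cj g n = cj (g * h) ⟨c, hcN⟩ := by
      intro g
      apply Subtype.ext
      simp only [hcj]
      rw [← hh]; group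
    simp only [hS, hSc]
    rw [Finset.sum_congr rfl (fun g _ => congrArg (μ : N → ℂ) (this g))]
    exact Fintype.sum_equiv (Equiv.mulRight h) _ _ (fun g => rfl)
  have hSform : ∀ n : N, S n = Sc + (if n = 1 then (Nat.card G : ℂ) - Sc else 0) := by
    intro n
    by_cases hn : n = 1
    · rw [if_pos hn, hn, hS1]; ring
    · rw [if_neg hn, add_zero, hSn n hn]
  have hcardN : (Nat.card N : ℂ) = 1 + m := by exact_mod_cast congrArg (Nat.cast (R := ℂ)) hNcard
  have hSsum : ∑ n : N, S n = 0 := by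
    simp only [hS]
    rw [Finset.sum_comm]
    apply Finset.sum_eq_zero
    intro g _
    have : ∑ n : N, (μ : N → ℂ) (cj g n) = ∑ n : N, (μ : N → ℂ) n := by
      refine Fintype.sum_equiv (MulAut.conjNormal g : N ≃* N).toEquiv _ _ (fun n => ?_)
      exact congrArg (μ : N → ℂ) (Subtype.ext (MulAut.conjNormal_apply g n).symm)
    rw [this, hμsum]
  have hScval : (m : ℂ) * Sc + Nat.card G = 0 := by
    rw [Finset.sum_congr rfl (fun n _ => hSform n), Finset.sum_add_distrib,
      Finset.sum_ite_eq' Finset.univ (1 : N)] at hSsum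
    simp only [Finset.sum_const, Finset.card_univ, nsmul_eq_mul, Finset.mem_univ, if_true,
      ← Nat.card_eq_fintype_card] at hSsum
    rw [hcardN] at hSsum
    linear_combination hSsum
  have hother : (Nat.card N : ℂ) * ∑ g : G, classInner (fun n => (μ : N → ℂ) (cj g n)) (μ : N → ℂ)
      = Nat.card G - Sc := by
    simp only [classInner]
    rw [← Finset.mul_sum]
    have hcardN0 : (Nat.card N : ℂ) ≠ 0 := by exact_mod_cast Nat.card_pos.ne'
    rw [mul_inv_cancel_left₀ hcardN0, Finset.sum_comm]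
    have : ∀ n : N, ∑ g : G, (μ : N → ℂ) (cj g n) * conj ((μ : N → ℂ) n)
        = Sc * conj ((μ : N → ℂ) n)
          + (if n = 1 then ((Nat.card G : ℂ) - Sc) * conj ((μ : N → ℂ) 1) else 0) := by
      intro n
      rw [← Finset.sum_mul]
      have : ∑ g : G, (μ : N → ℂ) (cj g n) = S n := rfl
      rw [this, hSform n]
      by_cases hn : n = 1
      · rw [if_pos hn, if_pos hn, hn]; ring
      · rw [if_neg hn, if_neg hn]; ring
    rw [Finset.sum_congr rfl (fun n _ => this n), Finset.sum_add_distrib, ← Finset.mul_sum,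
      ← map_sum, hμsum, map_zero, mul_zero, zero_add, Finset.sum_ite_eq' Finset.univ (1 : N)]
    simp [hμ1]
  rw [hsumT, hcardN] at hother
  have hfinal : ((Nat.card T : ℂ)) * m = Nat.card G := by
    have h3 : ((1 : ℂ) + m) ≠ 0 := by
      have : (0 : ℝ) < 1 + m := by positivity
      exact_mod_cast this.ne'
    have h2 : ((1 : ℂ) + m) * ((Nat.card T : ℂ) * m) = (1 + m) * Nat.card G := by
      linear_combination (m : ℂ) * hother - hScval
    exact mul_left_cancel₀ h3 h2
  exact_mod_cast hfinal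

/-- Let G be a finite group of order greater than 2 with an irreducible character χ nonzero on exactly two conjugacy classes, and let N be the set of elements where χ is nonzero, given as a nontrivial normal p-subgroup of G for the prime p. Then for every nonidentity x in N the centralizer C_G(x) is a Sylow p-subgroup of G, and for every irreducible character λ ≠ 1 of N the stabilizer of λ in G (its inertia group) is a Sylow p-subgroup of G. -/
theorem result {G : Type*} [Group G] [Finite G] (hG : 2 < Nat.card G) (χ : Cfsg.IrrCharacter G) (hχ : Nat.card {C : ConjClasses G // ∃ g ∈ C.carrier, (χ : G → ℂ) g ≠ 0} = 2) (p : ℕ) [Fact p.Prime] (N : Subgroup G) [N.Normal] (hN : ∀ g : G, g ∈ N ↔ (χ : G → ℂ) g ≠ 0) (hNp : IsPGroup p N) (hN1 : N ≠ ⊥) :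
    (∀ x ∈ N, x ≠ 1 → ∃ P : Sylow p G, Subgroup.centralizer ({x} : Set G) = P) ∧
      (∀ μ : Cfsg.IrrCharacter N, (μ : N → ℂ) ≠ (fun _ => (1 : ℂ)) → ∃ P : Sylow p G, ∀ g : G, g ∈ (P : Subgroup G) ↔ ∀ n n' : N, (n' : G) = g * n * g⁻¹ → (μ : N → ℂ) n' = (μ : N → ℂ) n) := by
  classical
  have := Fintype.ofFinite G
  have hNn : N.Normal := inferInstance
  obtain ⟨c₀, hc₀1, hc₀0, hsupp⟩ := two_classes_data χ hχ
  have hconj₀ : ∀ x ∈ N, x ≠ 1 → IsConj c₀ x := fun x hx hx1 =>
    (hsupp x ((hN x).mp hx)).resolve_left hx1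
  -- N is abelian
  have hcomm : ∀ a b : N, a * b = b * a := by
    have hNnt : Nontrivial N := (Subgroup.nontrivial_iff_ne_bot N).mpr hN1
    have hcnt : Nontrivial (Subgroup.center N) := hNp.center_nontrivial
    obtain ⟨z, hz⟩ := exists_ne (1 : Subgroup.center N)
    have hz1 : (z.1 : G) ≠ 1 := by
      intro h
      apply hz
      apply Subtype.ext
      apply Subtype.ext
      exact h
    have hzc : ∀ b : N, b * z.1 = z.1 * b := fun b => Subgroup.mem_center_iff.mp z.2 b
    intro a b
    by_cases ha : a = 1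
    · rw [ha, one_mul, mul_one]
    · have ha' : (a : G) ≠ 1 := fun h => ha (Subtype.ext h)
      have h1 : IsConj (z.1 : G) (a : G) :=
        (hconj₀ _ z.1.2 hz1).symm.trans (hconj₀ _ a.2 ha')
      obtain ⟨g, hg⟩ := isConj_iff.mp h1
      apply Subtype.ext
      show (a : G) * b = b * a
      have hb' : g⁻¹ * b * g ∈ N := by
        have := hNn.conj_mem b b.2 g⁻¹
        simpa using this
      have h2 : (g⁻¹ * b * g) * (z.1 : G) = (z.1 : G) * (g⁻¹ * b * g) :=
        congrArg Subtype.val (hzc ⟨g⁻¹ * b * g, hb'⟩)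
      rw [← hg]
      calc g * (z.1 : G) * g⁻¹ * b = g * ((z.1 : G) * (g⁻¹ * b * g)) * g⁻¹ := by group
        _ = g * ((g⁻¹ * b * g) * (z.1 : G)) * g⁻¹ := by rw [h2]
        _ = _ := by group
  obtain ⟨c, e, m, hcN, hc1, hconj, hmpos, hepos, hNcard, hdeg, hGcard, hidx⟩ :=
    gagola_data hG χ hχ N hN hcomm
  -- e is a power of p
  have hprime : ∀ {q : ℕ}, q.Prime → q ∣ e → q = p := by
    intro q hq hqe
    by_contra hne
    haveI := Fact.mk hq
    let Q : Sylow q G := default
    have h1 := sylow_card_dvd_degree χ p N hN hNp q hne Q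
    rw [Sylow.card_eq_multiplicity, hdeg] at h1
    have h2 : q ^ ((Nat.card G).factorization q + 1) ∣ Nat.card G := by
      have h3 : Nat.card G = (e * m) * e * Nat.card N := by rw [hGcard]; ring
      rw [pow_succ]
      conv_rhs => rw [h3]
      exact Dvd.dvd.mul_right (mul_dvd_mul h1 hqe) _
    exact Nat.pow_succ_factorization_not_dvd Nat.card_pos.ne' hq h2
  have he : e = p ^ e.primeFactorsList.length :=
    Nat.eq_prime_pow_of_unique_prime_dvd hepos.ne' hprime
  set a := e.primeFactorsList.length with ha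
  obtain ⟨b, hb⟩ := IsPGroup.iff_card.mp hNp
  have hp : p.Prime := Fact.out
  have hb1 : b ≠ 0 := by
    rintro rfl
    rw [pow_zero] at hb
    omega
  have hpm : ¬ p ∣ m := by
    intro h
    have h1 : p ∣ 1 + m := by
      rw [← hNcard, hb]
      exact dvd_pow_self p hb1
    have : p ∣ 1 := (Nat.dvd_add_left h).mp h1
    exact hp.one_lt.ne' (Nat.dvd_one.mp this)
  have hfac : (Nat.card G).factorization p = 2 * a + b := by
    have h1 : Nat.card G = p ^ (2 * a + b) * m := by
      rw [hGcard, hb, he]; ring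
    rw [h1, Nat.factorization_mul (pow_ne_zero _ hp.ne_zero) hmpos.ne',
      hp.factorization_pow]
    simp [Nat.factorization_eq_zero_of_not_dvd hpm]
  have hcardSub : ∀ T : Subgroup G, Nat.card T * m = Nat.card G →
      Nat.card T = p ^ (Nat.card G).factorization p := by
    intro T hT
    rw [hfac]
    have h1 : Nat.card G = p ^ (2 * a + b) * m := by
      rw [hGcard, hb, he]; ring
    rw [h1] at hT
    exact Nat.eq_of_mul_eq_mul_right hmpos hT
  have hcardC : ∀ x ∈ N, x ≠ 1 →
      Nat.card (Subgroup.centralizer ({x} : Set G)) = p ^ (Nat.card G).factorization p := by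
    intro x hx hx1
    apply hcardSub
    have hix : (Subgroup.centralizer ({x} : Set G)).index = m := by
      rw [← hidx, index_centralizer_eq_card_conj, index_centralizer_eq_card_conj]
      have hcx := hconj x hx hx1
      refine Nat.card_congr (Equiv.subtypeEquivRight (fun h => ?_))
      exact ⟨fun h1 => hcx.trans h1, fun h1 => hcx.symm.trans h1⟩
    rw [← hix]
    exact Subgroup.card_mul_index _
  refine ⟨fun x hx hx1 => ⟨Sylow.ofCard _ (hcardC x hx hx1), (Sylow.coe_ofCard _ _).symm⟩, ?_⟩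
  intro μ hμ
  have hμ' : μ ≠ trivialIrr N := by
    rintro rfl
    exact hμ rfl
  let T : Subgroup G :=
    { carrier := {g | ∀ n n' : N, (n' : G) = g * n * g⁻¹ → (μ : N → ℂ) n' = (μ : N → ℂ) n}
      mul_mem' := by
        intro g h hg hh n n' hn'
        have hmem : h * n * h⁻¹ ∈ N := hNn.conj_mem n n.2 h
        have h1 := hh n ⟨h * n * h⁻¹, hmem⟩ rfl
        have h2 := hg ⟨h * n * h⁻¹, hmem⟩ n' (by rw [hn']; group)
        rw [h2, h1]
      one_mem' := by
        intro n n' hn'
        have : n' = n := Subtype.ext (by rw [hn']; group)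
        rw [this]
      inv_mem' := by
        intro g hg n n' hn'
        have := hg n' n (by rw [hn']; group)
        exact this.symm }
  have hT : ∀ g : G, g ∈ T ↔ ∀ n : N,
      (μ : N → ℂ) ⟨g * n * g⁻¹, hNn.conj_mem n n.2 g⟩ = (μ : N → ℂ) n := by
    intro g
    constructor
    · intro hg n
      exact hg n ⟨g * n * g⁻¹, hNn.conj_mem n n.2 g⟩ rfl
    · intro hg n n' hn'
      have : n' = ⟨g * n * g⁻¹, hNn.conj_mem n n.2 g⟩ := Subtype.ext hn'
      rw [this]
      exact hg n
  have hcardT := hcardSub T (inertia_card N hcomm c hcN hconj m hNcard μ hμ' T hT)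
  refine ⟨Sylow.ofCard T hcardT, fun g => ?_⟩
  rw [Sylow.coe_ofCard]
  exact Iff.rfl

end Cfsg.Agent.S4837
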