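import Cfsg.Statements.S4838
import Cfsg.Agent.S4837
import Cfsg.Agent.Lib.H24.CharInflEquiv

set_option autoImplicit false
open Cfsg

namespace Cfsg.Agent.S4838

open Cfsg.Agent.Lib.H24 Cfsg.Agent.Lib.L0
open scoped ComplexConjugate commutatorElement

/-- Part (a): centralizer orders of elements outside `N` are unchanged in `G ⧸ N`. -/
theorem centralizer_card_eq {G : Type*} [Group G] [Fintype G] (hG : 2 < Nat.card G)
    (χ : IrrCharacter G)
    (hχ : Nat.card {C : ConjClasses G // ∃ g ∈ C.carrier, (χ : G → ℂ) g ≠ 0} = 2)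
    (N : Subgroup G) [hNn : N.Normal] (hN : ∀ g : G, g ∈ N ↔ (χ : G → ℂ) g ≠ 0)
    (x : G) (hx : x ∉ N) :
    Nat.card (Subgroup.centralizer ({x} : Set G))
      = Nat.card (Subgroup.centralizer ({(x : G ⧸ N)} : Set (G ⧸ N))) := by
  classical
  have := Fintype.ofFinite (IrrCharacter G)
  have := Fintype.ofFinite (IrrCharacter (G ⧸ N))
  obtain ⟨c, hc1, hc0, hsupp⟩ := two_classes_data χ hχ
  have hcN : c ∈ N := (hN c).mpr hc0
  have hker : ∀ ψ : IrrCharacter G, ψ ≠ χ → ∀ n ∈ N, (ψ : G → ℂ) n = (ψ : G → ℂ) 1 := by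
    intro ψ hψ n hn
    by_cases hn1 : n = 1
    · rw [hn1]
    · have hcn : IsConj c n := (hsupp n ((hN n).mp hn)).resolve_left hn1
      rw [← irr_eq_of_isConj ψ hcn]
      exact two_classes_other hG χ c hc1 hsupp ψ hψ
  have hχx : (χ : G → ℂ) x = 0 := by
    by_contra h
    exact hx ((hN x).mpr h)
  have h1 := second_orthogonality (G := G) x x
  rw [if_pos (IsConj.refl x)] at h1
  have h2 := second_orthogonality (G := G ⧸ N) (x : G ⧸ N) (x : G ⧸ N)
  rw [if_pos (IsConj.refl _)] at h2
  rw [← Fintype.sum_subtype_add_sum_subtype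
    (fun ψ : IrrCharacter G => ∀ n ∈ N, (ψ : G → ℂ) n = (ψ : G → ℂ) 1)
    (fun ψ => (ψ : G → ℂ) x * conj ((ψ : G → ℂ) x))] at h1
  have hzero : ∑ ψ : {ψ : IrrCharacter G // ¬ ∀ n ∈ N, (ψ : G → ℂ) n = (ψ : G → ℂ) 1},
      ((ψ.1 : G → ℂ) x * conj ((ψ.1 : G → ℂ) x)) = 0 := by
    apply Finset.sum_eq_zero
    intro ψ _
    have : ψ.1 = χ := by
      by_contra h
      exact ψ.2 (hker ψ.1 h)
    rw [this, hχx, zero_mul]
  rw [hzero, add_zero] at h1
  have hsum : ∑ ψ : {ψ : IrrCharacter G // ∀ n ∈ N, (ψ : G → ℂ) n = (ψ : G → ℂ) 1},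
      ((ψ.1 : G → ℂ) x * conj ((ψ.1 : G → ℂ) x))
      = ∑ ψ : IrrCharacter (G ⧸ N),
        ((ψ : G ⧸ N → ℂ) (x : G ⧸ N) * conj ((ψ : G ⧸ N → ℂ) (x : G ⧸ N))) := by
    symm
    exact Fintype.sum_equiv (inflEquiv N) _ _ (fun ψ => rfl)
  rw [hsum, h2] at h1
  exact_mod_cast h1.symm


/-- Core claim for (c): if `x ∈ P ∖ N` is central in `P` modulo `N`, then `P` is transitive on the
coset `xN` by conjugation. -/
theorem conj_transitive_on_coset {G : Type*} [Group G] [Fintype G] (hG : 2 < Nat.card G)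
    (χ : IrrCharacter G)
    (hχ : Nat.card {C : ConjClasses G // ∃ g ∈ C.carrier, (χ : G → ℂ) g ≠ 0} = 2)
    (p : ℕ) [Fact p.Prime]
    (N : Subgroup G) [hNn : N.Normal] (hN : ∀ g : G, g ∈ N ↔ (χ : G → ℂ) g ≠ 0)
    (hNp : IsPGroup p N) (P : Sylow p G)
    (x : G) (hxP : x ∈ (P : Subgroup G)) (hx : x ∉ N)
    (hcen : ∀ y ∈ (P : Subgroup G), x * y * x⁻¹ * y⁻¹ ∈ N) (n : G) (hn : n ∈ N) :
    ∃ y ∈ (P : Subgroup G), y * x * y⁻¹ = x * n := by
  classical
  set PS : Subgroup G := (P : Subgroup G) with hPS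
  have hp : p.Prime := Fact.out
  set x' : ↥PS := ⟨x, hxP⟩ with hx'
  set C' : Subgroup ↥PS := Subgroup.centralizer ({x'} : Set ↥PS) with hC'
  -- (i) |N| * |C'| ≤ |P|
  obtain ⟨b, hb⟩ := IsPGroup.iff_card.mp hNp
  have hC'p : IsPGroup p C' := P.2.to_subgroup C'
  obtain ⟨c, hc⟩ := IsPGroup.iff_card.mp hC'p
  have hPcard : Nat.card PS = p ^ (Nat.card G).factorization p := P.card_eq_multiplicity
  have hdvd1 : Nat.card C' ∣ Nat.card (Subgroup.centralizer ({x} : Set G)) := by
    have hle : C'.map PS.subtype ≤ Subgroup.centralizer ({x} : Set G) := by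
      rintro _ ⟨y, hy, rfl⟩
      rw [Subgroup.mem_centralizer_singleton_iff]
      have := Subgroup.mem_centralizer_singleton_iff.mp hy
      exact congrArg Subtype.val this
    have := Subgroup.card_dvd_of_le hle
    rwa [Subgroup.card_map_of_injective PS.subtype_injective] at this
  have hdvd2 : Nat.card (Subgroup.centralizer ({x} : Set G)) ∣ Nat.card (G ⧸ N) := by
    rw [centralizer_card_eq hG χ hχ N hN x hx]
    exact Subgroup.card_subgroup_dvd_card _
  have hdvd3 : Nat.card N * Nat.card C' ∣ Nat.card G := by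
    rw [Subgroup.card_eq_card_quotient_mul_card_subgroup N, mul_comm]
    exact mul_dvd_mul_right (hdvd1.trans hdvd2) _
  have hle1 : Nat.card N * Nat.card C' ≤ Nat.card PS := by
    rw [hb, hc, ← pow_add, hPcard]
    rw [hb, hc, ← pow_add] at hdvd3
    exact Nat.pow_le_pow_right hp.pos
      ((hp.pow_dvd_iff_le_factorization Nat.card_pos.ne').mp hdvd3)
  -- (ii) |O'| * |C'| = |P|
  have hidx := index_centralizer_eq_card_conj x'
  have hmul := Subgroup.card_mul_index C'
  rw [hidx] at hmul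
  have hC'pos : 0 < Nat.card C' := Nat.card_pos
  have hOge : Nat.card N ≤ Nat.card {h : ↥PS // IsConj x' h} := by
    have : Nat.card N * Nat.card C' ≤ Nat.card {h : ↥PS // IsConj x' h} * Nat.card C' := by
      rw [mul_comm (Nat.card {h : ↥PS // IsConj x' h})]
      rw [hmul]
      exact hle1
    exact Nat.le_of_mul_le_mul_right this hC'pos
  -- (iii) injection O' → N
  have hmem : ∀ h : {h : ↥PS // IsConj x' h}, x⁻¹ * (h.1 : G) ∈ N := by
    intro h
    obtain ⟨y, hy⟩ := isConj_iff.mp h.2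
    have hy' : (y : G) * x * (y : G)⁻¹ = (h.1 : G) := congrArg Subtype.val hy
    rw [← hy']
    have h1 := hcen y y.2
    have h2 : x⁻¹ * ((y : G) * x * (y : G)⁻¹) = x⁻¹ * (x * (y : G) * x⁻¹ * (y : G)⁻¹)⁻¹ * x⁻¹⁻¹ := by
      group
    rw [h2]
    exact hNn.conj_mem _ (N.inv_mem h1) _
  let f : {h : ↥PS // IsConj x' h} → N := fun h => ⟨x⁻¹ * (h.1 : G), hmem h⟩
  have hfinj : Function.Injective f := by
    intro h₁ h₂ h12
    have : x⁻¹ * (h₁.1 : G) = x⁻¹ * (h₂.1 : G) := congrArg Subtype.val h12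
    apply Subtype.ext
    apply Subtype.ext
    exact mul_left_cancel this
  have hfcard : Nat.card {h : ↥PS // IsConj x' h} = Nat.card N :=
    le_antisymm (Nat.card_le_card_of_injective f hfinj) hOge
  have hfbij : Function.Bijective f := (Nat.bijective_iff_injective_and_card f).mpr ⟨hfinj, hfcard⟩
  obtain ⟨h, hh⟩ := hfbij.2 ⟨n, hn⟩
  have hh' : x⁻¹ * (h.1 : G) = n := congrArg Subtype.val hh
  obtain ⟨y, hy⟩ := isConj_iff.mp h.2
  refine ⟨y, y.2, ?_⟩
  have hy' : (y : G) * x * (y : G)⁻¹ = (h.1 : G) := congrArg Subtype.val hy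
  rw [hy', ← hh']
  group

/-- Let G be a finite group of order greater than 2 with an irreducible character χ nonzero on exactly two conjugacy classes, N the normal p-subgroup of elements where χ is nonzero, and P a Sylow p-subgroup of G. Then (a) for every x outside N the centralizer of x in G has the same order as the centralizer of xN in G/N; (b) the centre of P lies in N, and equals N exactly when P is normal in G; (c) N, viewed inside P, is a term of the upper central series of P. -/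
theorem result {G : Type*} [Group G] [Finite G] (hG : 2 < Nat.card G) (χ : Cfsg.IrrCharacter G) (hχ : Nat.card {C : ConjClasses G // ∃ g ∈ C.carrier, (χ : G → ℂ) g ≠ 0} = 2) (p : ℕ) [Fact p.Prime] (N : Subgroup G) [N.Normal] (hN : ∀ g : G, g ∈ N ↔ (χ : G → ℂ) g ≠ 0) (hNp : IsPGroup p N) (hN1 : N ≠ ⊥) (P : Sylow p G) :
    (∀ x : G, x ∉ N → Nat.card (Subgroup.centralizer ({x} : Set G)) = Nat.card (Subgroup.centralizer ({(x : G ⧸ N)} : Set (G ⧸ N)))) ∧
      ((Subgroup.center ↥(P : Subgroup G)).map (P : Subgroup G).subtype ≤ N ∧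
        ((Subgroup.center ↥(P : Subgroup G)).map (P : Subgroup G).subtype = N ↔ (P : Subgroup G).Normal)) ∧
      (∃ i : ℕ, Subgroup.upperCentralSeries ↥(P : Subgroup G) i = N.subgroupOf (P : Subgroup G)) := by
  classical
  have := Fintype.ofFinite G
  have hNn : N.Normal := inferInstance
  have hp : p.Prime := Fact.out
  set PS : Subgroup G := (P : Subgroup G) with hPS
  have hNP : N ≤ PS := hNp.le_sylow_of_normal P
  have hSyl := (Cfsg.Agent.S4837.result hG χ hχ p N hN hNp hN1).1
  obtain ⟨b, hb⟩ := IsPGroup.iff_card.mp hNp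
  have hb1 : b ≠ 0 := by
    rintro rfl
    rw [pow_zero] at hb
    apply hN1
    exact (Subgroup.eq_bot_iff_card N).mpr hb
  have hPcard : Nat.card PS = p ^ (Nat.card G).factorization p := P.card_eq_multiplicity
  -- a nonidentity element of N
  obtain ⟨x₀, hx₀N, hx₀1⟩ : ∃ x₀ ∈ N, x₀ ≠ 1 := by
    by_contra h
    push Not at h
    apply hN1
    rw [Subgroup.eq_bot_iff_forall]
    exact h
  have hcenter : (Subgroup.center ↥PS).map PS.subtype ≤ N := by
    rintro _ ⟨z, hz, rfl⟩
    by_contra hzN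
    have hzN' : (z : G) ∉ N := hzN
    have hle : PS ≤ Subgroup.centralizer ({(z : G)} : Set G) := by
      intro y hy
      rw [Subgroup.mem_centralizer_singleton_iff]
      have := Subgroup.mem_center_iff.mp hz ⟨y, hy⟩
      exact congrArg Subtype.val this
    have h1 : Nat.card PS ∣ Nat.card (G ⧸ N) := by
      have := Subgroup.card_dvd_of_le hle
      rw [centralizer_card_eq hG χ hχ N hN _ hzN'] at this
      exact this.trans (Subgroup.card_subgroup_dvd_card _)
    have h2 : Nat.card PS * Nat.card N ∣ Nat.card G := by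
      rw [Subgroup.card_eq_card_quotient_mul_card_subgroup N]
      exact mul_dvd_mul_right h1 _
    rw [hPcard, hb, ← pow_add] at h2
    have h3 : p ^ ((Nat.card G).factorization p + 1) ∣ Nat.card G :=
      (pow_dvd_pow p (by omega)).trans h2
    exact Nat.pow_succ_factorization_not_dvd Nat.card_pos.ne' hp h3
  refine ⟨fun x hx => centralizer_card_eq hG χ hχ N hN x hx, ⟨hcenter, ?_⟩, ?_⟩
  · constructor
    · intro hZ
      -- C_G(x) = P for every nonidentity x of N
      have hCP : ∀ x ∈ N, x ≠ 1 → Subgroup.centralizer ({x} : Set G) = PS := by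
        intro x hx hx1
        obtain ⟨P', hP'⟩ := hSyl x hx hx1
        have hle : PS ≤ Subgroup.centralizer ({x} : Set G) := by
          intro y hy
          rw [Subgroup.mem_centralizer_singleton_iff]
          have hxZ : x ∈ (Subgroup.center ↥PS).map PS.subtype := by rw [hZ]; exact hx
          obtain ⟨z, hz, hzx⟩ := hxZ
          have := Subgroup.mem_center_iff.mp hz ⟨y, hy⟩
          have h2 : y * (z : G) = (z : G) * y := congrArg Subtype.val this
          have h3 : (z : G) = x := hzx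
          rw [h3] at h2
          exact h2
        rw [hP'] at hle ⊢
        exact P.is_maximal' P'.isPGroup' hle
      constructor
      intro n hn g
      have hx1 : g⁻¹ * x₀ * g⁻¹⁻¹ ∈ N := hNn.conj_mem _ hx₀N _
      have hx2 : g⁻¹ * x₀ * g⁻¹⁻¹ ≠ 1 := by
        intro h
        apply hx₀1
        have : x₀ = g * (g⁻¹ * x₀ * g⁻¹⁻¹) * g⁻¹ := by group
        rw [this, h]; group
      have h1 : n ∈ Subgroup.centralizer ({g⁻¹ * x₀ * g⁻¹⁻¹} : Set G) := by
        rw [hCP _ hx1 hx2]; exact hn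
      rw [Subgroup.mem_centralizer_singleton_iff] at h1
      rw [← hCP x₀ hx₀N hx₀1, Subgroup.mem_centralizer_singleton_iff]
      calc g * n * g⁻¹ * x₀ = g * (n * (g⁻¹ * x₀ * g⁻¹⁻¹)) * g⁻¹ := by group
        _ = g * ((g⁻¹ * x₀ * g⁻¹⁻¹) * n) * g⁻¹ := by rw [h1]
        _ = _ := by group
    · intro hPn
      apply le_antisymm hcenter
      intro x hx
      by_cases hx1 : x = 1
      · rw [hx1]; exact Subgroup.one_mem _
      · obtain ⟨P', hP'⟩ := hSyl x hx hx1
        have : Unique (Sylow p G) := Sylow.unique_of_normal P hPn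
        have hPP' : P' = P := Subsingleton.elim _ _
        rw [hPP'] at hP'
        refine ⟨⟨x, hNP hx⟩, ?_, rfl⟩
        show (⟨x, hNP hx⟩ : ↥PS) ∈ Subgroup.center ↥PS
        rw [Subgroup.mem_center_iff]
        intro y
        apply Subtype.ext
        have hy : (y : G) ∈ Subgroup.centralizer ({x} : Set G) := by rw [hP']; exact y.2
        exact Subgroup.mem_centralizer_singleton_iff.mp hy
  · -- (c)
    by_contra hno
    push Not at hno
    have hall : ∀ i : ℕ, Subgroup.upperCentralSeries ↥PS i ≤ N.subgroupOf PS := by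
      intro i
      induction i with
      | zero => rw [Subgroup.upperCentralSeries_zero]; exact bot_le
      | succ i ih =>
        intro x' hx'
        by_contra hx'N
        have hxN : (x' : G) ∉ N := hx'N
        have hcen : ∀ y ∈ PS, (x' : G) * y * (x' : G)⁻¹ * y⁻¹ ∈ N := by
          intro y hy
          have h1 := Subgroup.mem_upperCentralSeries_succ_iff.mp hx' ⟨y, hy⟩
          have h2 := ih h1
          exact h2
        apply hno i
        apply le_antisymm ih
        intro n' hn'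
        have hnN : (n' : G) ∈ N := hn'
        obtain ⟨y, hy, hyx⟩ := conj_transitive_on_coset hG χ hχ p N hN hNp P (x' : G) x'.2 hxN hcen
          (n' : G) hnN
        have hinv : x'⁻¹ ∈ Subgroup.upperCentralSeries ↥PS (i + 1) := Subgroup.inv_mem _ hx'
        have h1 := Subgroup.mem_upperCentralSeries_succ_iff.mp hinv ⟨y, hy⟩
        have h2 : ⁅x'⁻¹, (⟨y, hy⟩ : ↥PS)⁆ = n' := by
          apply Subtype.ext
          show (x' : G)⁻¹ * y * (x' : G)⁻¹⁻¹ * y⁻¹ = (n' : G)
          have : (n' : G) = (x' : G)⁻¹ * (y * (x' : G) * y⁻¹) := by rw [hyx]; group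
          rw [this]; group
        rw [← h2]
        exact h1
    have hnil : Group.IsNilpotent ↥PS := P.2.isNilpotent
    obtain ⟨k, hk⟩ := hnil.nilpotent'
    apply hno k
    apply le_antisymm (hall k)
    rw [hk]
    exact le_top

end Cfsg.Agent.S4838
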