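import Cfsg.Statements.S4840
import Mathlib
import Cfsg.Agent.S4835
import Cfsg.Agent.Lib.H24.GagolaB
import Cfsg.Agent.Lib.H24.GagSolvG
import Cfsg.Agent.Lib.H24.GagSolvH
import Cfsg.Agent.Lib.H1.PCore
import Cfsg.Agent.Lib.H1.NilpotentBasic

set_option autoImplicit false
open Cfsg

namespace Cfsg.Agent.S4840

/-- Let G be a finite solvable group of order greater than 2 with an irreducible character nonzero on exactly two conjugacy classes. Then there is exactly one prime p with O_p(G) ≠ 1, and the quotient G/O_p(G) has a normal p-complement and commutative Sylow p-subgroups. -/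
theorem result {G : Type*} [Group G] [Finite G] [hs : Group.IsSolvable G] (hG : 2 < Nat.card G) (χ : Cfsg.IrrCharacter G) (hχ : Nat.card {C : ConjClasses G // ∃ g ∈ C.carrier, (χ : G → ℂ) g ≠ 0} = 2) :
    ∃ p : ℕ, p.Prime ∧ (∀ q : ℕ, q.Prime → (Cfsg.pCore q G ≠ ⊥ ↔ q = p)) ∧
      Cfsg.HasNormalPComplement p (G ⧸ Cfsg.pCore p G) ∧ ∀ Q : Sylow p (G ⧸ Cfsg.pCore p G), IsMulCommutative (Q : Subgroup (G ⧸ Cfsg.pCore p G)) := by
  classical
  obtain ⟨N, hNn, hN1, hmin, ⟨p, hp, hel⟩, hsupp, hconj⟩ := Cfsg.Agent.S4835.result hG χ hχ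
  haveI : Fact p.Prime := ⟨hp⟩
  haveI := hNn
  obtain ⟨hNc, hNe⟩ := hel
  have hcomm : ∀ a b : ↥N, a * b = b * a := fun a b => hNc.is_comm.comm a b
  have hexp : ∀ a : ↥N, a ^ p = 1 := fun a => Subtype.ext (by simpa using hNe a a.2)
  have hNp : IsPGroup p N := fun a => ⟨1, by rw [pow_one]; exact hexp a⟩
  have hsupp' : ∀ g : G, g ∈ N ↔ (χ : G → ℂ) g ≠ 0 := fun g => (hsupp g).symm
  have hcent : ∀ x ∈ N, x ≠ 1 → IsPGroup p (Subgroup.centralizer ({x} : Set G)) :=
    fun x hx hx1 =>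
      Cfsg.Agent.Lib.H24.GagolaB.gag_cent_isPGroup hG χ hχ p N hsupp' hNp hN1 x hx hx1
  obtain ⟨x0, hx0N, hx01⟩ : ∃ x ∈ N, x ≠ 1 := by
    by_contra hall
    push Not at hall
    exact hN1 ((Subgroup.eq_bot_iff_forall N).mpr hall)
  -- the `p`-core
  have hPn : (Cfsg.pCore p G).Normal := Cfsg.Agent.Lib.H1.pCore_normal p G
  haveI := hPn
  have hPp : IsPGroup p (Cfsg.pCore p G) := Cfsg.Agent.Lib.H1.pCore_isPGroup p G
  have hNP : N ≤ Cfsg.pCore p G := Cfsg.Agent.Lib.H1.le_pCore hNn hNp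
  have hcP : Subgroup.centralizer (N : Set G) ≤ Cfsg.pCore p G := by
    apply Cfsg.Agent.Lib.H1.le_pCore inferInstance
    apply (hcent x0 hx0N hx01).to_le
    exact Subgroup.centralizer_le (Set.singleton_subset_iff.mpr hx0N)
  have hPc : Cfsg.pCore p G ≤ Subgroup.centralizer (N : Set G) := by
    -- `N ∩ C_G(P)` is a non-trivial normal subgroup
    have hM1 : N ⊓ Subgroup.centralizer (Cfsg.pCore p G : Set G) ≠ ⊥ := by
      haveI : Group.IsNilpotent ↥(Cfsg.pCore p G) := hPp.isNilpotent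
      have hN' : N.subgroupOf (Cfsg.pCore p G) ≠ ⊥ := by
        intro h
        rw [Subgroup.subgroupOf_eq_bot] at h
        have h1 : x0 ∈ N ⊓ Cfsg.pCore p G := ⟨hx0N, hNP hx0N⟩
        rw [disjoint_iff.mp h, Subgroup.mem_bot] at h1
        exact hx01 h1
      have h2 := Cfsg.Agent.Lib.H1.normal_inf_center_ne_bot (N.subgroupOf (Cfsg.pCore p G)) hN'
      obtain ⟨y, hy, hy1⟩ : ∃ y ∈ N.subgroupOf (Cfsg.pCore p G) ⊓
          Subgroup.center ↥(Cfsg.pCore p G), y ≠ 1 := by
        by_contra hall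
        push Not at hall
        exact h2 ((Subgroup.eq_bot_iff_forall _).mpr hall)
      intro hbot
      have h3 : (y : G) ∈ N ⊓ Subgroup.centralizer (Cfsg.pCore p G : Set G) := by
        refine ⟨Subgroup.mem_subgroupOf.mp hy.1, ?_⟩
        show (y : G) ∈ Subgroup.centralizer (Cfsg.pCore p G : Set G)
        rw [Subgroup.mem_centralizer_iff]
        intro z hz
        have h4 := Subgroup.mem_center_iff.mp hy.2 ⟨z, hz⟩
        exact congrArg Subtype.val h4
      rw [hbot, Subgroup.mem_bot] at h3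
      exact hy1 (Subtype.ext h3)
    have hle := hmin _ inferInstance hM1
    intro z hz
    rw [Subgroup.mem_centralizer_iff]
    intro n hn
    have h5 := Subgroup.mem_centralizer_iff.mp (hle hn).2 z hz
    exact h5.symm
  refine ⟨p, hp, ?_, ?_⟩
  · intro q hq
    constructor
    · intro hne
      haveI : Fact q.Prime := ⟨hq⟩
      have h1 : N ≤ Cfsg.pCore q G := hmin _ (Cfsg.Agent.Lib.H1.pCore_normal q G) hne
      have hqp : IsPGroup q (Cfsg.pCore q G) := Cfsg.Agent.Lib.H1.pCore_isPGroup q G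
      obtain ⟨k, hk⟩ := hqp ⟨x0, h1 hx0N⟩
      have hk' : x0 ^ (q ^ k) = 1 := by
        have := congrArg Subtype.val hk
        simpa using this
      have hord : orderOf x0 = p := orderOf_eq_prime (hNe x0 hx0N) hx01
      have hdvd : p ∣ q ^ k := by
        rw [← hord]
        exact orderOf_dvd_of_pow_eq_one hk'
      exact ((Nat.prime_dvd_prime_iff_eq hp hq).mp (hp.dvd_of_dvd_pow hdvd)).symm
    · rintro rfl hbot
      rw [hbot] at hNP
      exact hN1 (le_bot_iff.mp hNP)
  · obtain ⟨V, iV, iM, iF, iNt, ρ, ι, hι1, hρinj, hact⟩ :=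
      Cfsg.Agent.Lib.H24.GagSolv.exists_linear_action N (Cfsg.pCore p G) p hcomm hexp hN1 hPc hcP
    have hι0 : ∀ n : ↥N, ι n = 0 ↔ n = 1 := by
      intro n
      rw [← hι1]
      exact ι.injective.eq_iff
    have htrans : ∀ v w : V, v ≠ 0 → w ≠ 0 → ∃ g : G ⧸ Cfsg.pCore p G, ρ g v = w := by
      intro v w hv hw
      obtain ⟨x, rfl⟩ := ι.surjective v
      obtain ⟨y, rfl⟩ := ι.surjective w
      have hx1 : (x : G) ≠ 1 := fun h => hv ((hι0 x).mpr (Subtype.ext h))
      have hy1 : (y : G) ≠ 1 := fun h => hw ((hι0 y).mpr (Subtype.ext h))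
      obtain ⟨g, hg⟩ := hconj x x.2 y y.2 hx1 hy1
      refine ⟨QuotientGroup.mk g, ?_⟩
      rw [hact]
      congr 1
      apply Subtype.ext
      rw [MulAut.conjNormal_apply]
      exact hg
    have hstab : Cfsg.Agent.Lib.H24.GagSolv.PStab ρ := by
      intro v hv h hfix
      obtain ⟨x, rfl⟩ := ι.surjective v
      have hx1 : (x : G) ≠ 1 := fun h => hv ((hι0 x).mpr (Subtype.ext h))
      induction h using QuotientGroup.induction_on with
      | _ g =>
        rw [hact] at hfix
        have h1 : MulAut.conjNormal g x = x := ι.injective hfix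
        have h2 : g * x * g⁻¹ = x := by
          have := congrArg Subtype.val h1
          rwa [MulAut.conjNormal_apply] at this
        have h3 : g ∈ Subgroup.centralizer ({(x : G)} : Set G) := by
          rw [Subgroup.mem_centralizer_singleton_iff]
          calc g * x = g * x * g⁻¹ * g := by group
            _ = x * g := by rw [h2]
        obtain ⟨k, hk⟩ := hcent x x.2 hx1 ⟨g, h3⟩
        refine ⟨k, ?_⟩
        have hk' : g ^ (p ^ k) = 1 := by
          have := congrArg Subtype.val hk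
          simpa using this
        rw [← QuotientGroup.mk_pow, hk', QuotientGroup.mk_one]
    obtain ⟨H₀, hH1, hH2⟩ := Cfsg.Agent.Lib.H24.GagSolv.key_of_linear inferInstance ρ hρinj
      htrans hstab
    exact Cfsg.Agent.Lib.H24.GagSolv.npc_of_key H₀ hH1 hH2

end Cfsg.Agent.S4840
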