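-- Statement S4859
import Cfsg.Statements.S4859
import Cfsg.Agent.Lib.H24.CharFSInd

set_option autoImplicit false
open Cfsg

namespace Cfsg.Agent.S4859

open Cfsg.Agent.Lib.H24 Cfsg.Agent.Lib.L0

/-- Group-theoretic part: `x * y` is not a square. -/
theorem not_square {G : Type*} [Group G] [Finite G] (p : ℕ) [Fact p.Prime] (hp : p ≠ 2) (x : G)
    (hx : ∃ k : ℕ, orderOf x = p ^ k)
    (heven : Even (Nat.card (Subgroup.centralizer ({x} : Set G)))) (y : G)
    (hy : y ∈ Subgroup.centralizer ({x} : Set G)) (hy2 : ∃ k : ℕ, orderOf y = 2 ^ k)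
    (hmax : ∀ z ∈ Subgroup.centralizer ({x} : Set G), (∃ k : ℕ, orderOf z = 2 ^ k) →
      orderOf z ≤ orderOf y) : ¬ ∃ u : G, u * u = x * y := by
  rintro ⟨u, hu⟩
  obtain ⟨k, hk⟩ := hx
  obtain ⟨m, hm⟩ := hy2
  have hpodd : Odd p := (Fact.out : p.Prime).odd_of_ne_two hp
  have hxy : Commute x y := by
    have := Subgroup.mem_centralizer_iff.mp hy x (Set.mem_singleton x)
    exact this
  -- an involution in the centralizer
  have hm1 : 1 ≤ m := by
    have h2 : 2 ∣ Nat.card (Subgroup.centralizer ({x} : Set G)) := even_iff_two_dvd.mp heven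
    haveI : Fact (Nat.Prime 2) := ⟨Nat.prime_two⟩
    obtain ⟨t, ht⟩ := exists_prime_orderOf_dvd_card' (G := Subgroup.centralizer ({x} : Set G)) 2 h2
    have ht' : orderOf (t : G) = 2 := by
      rw [Subgroup.orderOf_coe]; exact ht
    have := hmax t t.2 ⟨1, by rw [ht', pow_one]⟩
    rw [ht', hm] at this
    by_contra hcon
    have : m = 0 := by omega
    subst this
    simp at *
  have hcop : Nat.Coprime (orderOf x) (orderOf y) := by
    rw [hk, hm]
    apply Nat.Coprime.pow
    exact (Nat.coprime_primes (Fact.out : p.Prime) Nat.prime_two).mpr hp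
  have hoc : orderOf (x * y) = p ^ k * 2 ^ m := by
    rw [hxy.orderOf_mul_eq_mul_orderOf_of_coprime hcop, hk, hm]
  -- x is a power of x*y, hence of u
  have hxu : Commute u x := by
    have h1 : (x * y) ^ (2 ^ m) = x ^ (2 ^ m) := by
      rw [hxy.mul_pow, ← hm, pow_orderOf_eq_one, mul_one]
    have hcop' : Nat.Coprime (2 ^ m) (orderOf x) := by
      rw [hk]
      apply Nat.Coprime.pow
      exact (Nat.coprime_primes Nat.prime_two (Fact.out : p.Prime)).mpr (Ne.symm hp)
    obtain ⟨a, ha⟩ := exists_pow_eq_self_of_coprime hcop'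
    have hx' : x = u ^ (2 * (2 ^ m * a)) := by
      rw [pow_mul, pow_two, hu, pow_mul, h1, ha]
    rw [hx']
    exact (Commute.refl u).pow_right _
  -- order of u
  have hou2 : orderOf (u ^ 2) = p ^ k * 2 ^ m := by
    rw [pow_two, hu, hoc]
  have hou : orderOf u = p ^ k * 2 ^ (m + 1) := by
    have h1 := orderOf_pow (x := u) (n := 2)
    rw [hou2] at h1
    have hupos : 0 < orderOf u := orderOf_pos u
    have hgcd : (orderOf u).gcd 2 = 2 := by
      have h2 : (orderOf u).gcd 2 ∣ 2 := Nat.gcd_dvd_right _ _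
      rcases (Nat.dvd_prime Nat.prime_two).mp h2 with h3 | h3
      · exfalso
        rw [h3, Nat.div_one] at h1
        have heven : Even (orderOf u) := by
          rw [← h1]
          exact (Nat.even_pow.mpr ⟨even_two, by omega⟩).mul_left _
        have : 2 ∣ (orderOf u).gcd 2 := Nat.dvd_gcd (even_iff_two_dvd.mp heven) dvd_rfl
        rw [h3] at this
        omega
      · exact h3
    rw [hgcd] at h1
    have h2dvd : 2 ∣ orderOf u := by
      have := Nat.gcd_dvd_left (orderOf u) 2
      rwa [hgcd] at this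
    obtain ⟨q, hq⟩ := h2dvd
    rw [hq, Nat.mul_div_cancel_left _ (by norm_num : 0 < 2)] at h1
    rw [hq, ← h1, pow_succ]
    ring
  -- the 2-part z = u ^ (p ^ k)
  set z := u ^ (p ^ k) with hz
  have hzC : z ∈ Subgroup.centralizer ({x} : Set G) := by
    rw [Subgroup.mem_centralizer_iff]
    intro h hh
    rw [Set.mem_singleton_iff] at hh
    subst hh
    exact ((hxu.pow_left (p ^ k)).eq).symm
  have hoz : orderOf z = 2 ^ (m + 1) := by
    rw [hz, orderOf_pow, hou]
    have hppos : 0 < p ^ k := pow_pos (Fact.out : p.Prime).pos k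
    have hg : (p ^ k * 2 ^ (m + 1)).gcd (p ^ k) = p ^ k :=
      Nat.gcd_eq_right (Dvd.intro _ rfl)
    rw [hg, Nat.mul_div_cancel_left _ hppos]
  have := hmax z hzC ⟨m + 1, hoz⟩
  rw [hoz, hm] at this
  have h2 : 2 ^ m < 2 ^ (m + 1) := Nat.pow_lt_pow_right (by norm_num) (by omega)
  omega

/-- Let p be an odd prime, G a finite group and x an element of G whose order is a power of p (possibly 1) and whose centralizer has even order. Let y be a 2-element of the centralizer of x whose order is largest among the 2-elements of that centralizer. Then x * y is not a square in G, and some non-principal real-valued irreducible character of G does not vanish at x * y. -/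
theorem result {G : Type*} [Group G] [Finite G] (p : ℕ) [Fact p.Prime] (hp : p ≠ 2) (x : G) (hx : ∃ k : ℕ, orderOf x = p ^ k) (heven : Even (Nat.card (Subgroup.centralizer ({x} : Set G)))) (y : G) (hy : y ∈ Subgroup.centralizer ({x} : Set G)) (hy2 : ∃ k : ℕ, orderOf y = 2 ^ k) (hmax : ∀ z ∈ Subgroup.centralizer ({x} : Set G), (∃ k : ℕ, orderOf z = 2 ^ k) → orderOf z ≤ orderOf y) : (¬ ∃ u : G, u * u = x * y) ∧ ∃ χ : Cfsg.IrrCharacter G, ¬ ((χ : G → ℂ) = fun _ => (1 : ℂ)) ∧ (∀ g : G, ((χ : G → ℂ) g).im = 0) ∧ (χ : G → ℂ) (x * y) ≠ 0 := by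
  classical
  have hsq := not_square p hp x hx heven y hy hy2 hmax
  refine ⟨hsq, ?_⟩
  have := Fintype.ofFinite G
  have := Fintype.ofFinite (IrrCharacter G)
  have hcount : (Nat.card {s : G // s * s = x * y} : ℂ) = 0 := by
    have : IsEmpty {s : G // s * s = x * y} := ⟨fun s => hsq ⟨s.1, s.2⟩⟩
    simp
  have hsum := card_sqrt_eq_sum (G := G) (x * y)
  rw [hcount] at hsum
  by_contra hno
  push Not at hno
  have hzero : ∀ χ ∈ (Finset.univ : Finset (IrrCharacter G)), χ ≠ trivialIrr G →
      fsInd (χ : G → ℂ) * (χ : G → ℂ) (x * y) = 0 := by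
    intro χ _ hne
    by_cases hreal : ∀ s : G, ((χ : G → ℂ) s).im = 0
    · have hne' : ¬ ((χ : G → ℂ) = fun _ => (1 : ℂ)) := by
        intro h
        apply hne
        apply Subtype.ext
        exact h
      rw [hno χ hne' hreal, mul_zero]
    · push Not at hreal
      rw [fsInd_eq_zero_of_not_real χ hreal, zero_mul]
  rw [Finset.sum_eq_single (trivialIrr G) hzero (fun h => absurd (Finset.mem_univ _) h),
    fsInd_trivialIrr, trivialIrr_apply, mul_one] at hsum
  exact zero_ne_one hsum

end Cfsg.Agent.S4859
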