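import Cfsg.Statements.S4863
import Cfsg.Agent.Lib.L0.RealPDegC

set_option autoImplicit false
open Cfsg
open Cfsg.Agent.Lib.L0.RealPDeg

namespace Cfsg.Agent.S4863

/-- Let p be a prime and G a finite group such that the subgroup generated by the p-elements of G (the smallest normal subgroup of index prime to p) is solvable and every real-valued irreducible complex character of G has degree prime to p. Let K be the subgroup generated by the 2-elements of G (the smallest normal subgroup of odd index). Let U be the largest normal subgroup of G containing K such that the index of K in U is a power of p (so that U/K is the p-core of G/K). Then the Sylow p-subgroups of U are normal in U. -/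
theorem result {G : Type*} [Group G] [Finite G] (p : ℕ) [Fact p.Prime] (hsolv : Group.IsSolvable ↥(Subgroup.closure {g : G | ∃ k : ℕ, orderOf g = p ^ k})) (hreal : ∀ χ : Cfsg.IrrCharacter G, (∀ g : G, ((χ : G → ℂ) g).im = 0) → ¬ p ∣ Cfsg.charDegree (χ : G → ℂ)) (U : Subgroup G) (hU : U.Normal) (hKU : (Subgroup.closure {g : G | ∃ k : ℕ, orderOf g = 2 ^ k}) ≤ U) (hUp : ∃ a : ℕ, (Subgroup.closure {g : G | ∃ k : ℕ, orderOf g = 2 ^ k}).relIndex U = p ^ a) (hmax : ∀ V : Subgroup G, V.Normal → (Subgroup.closure {g : G | ∃ k : ℕ, orderOf g = 2 ^ k}) ≤ V → (∃ b : ℕ, (Subgroup.closure {g : G | ∃ k : ℕ, orderOf g = 2 ^ k}).relIndex V = p ^ b) → V ≤ U) (Q : Sylow p ↥U) : (Q : Subgroup ↥U).Normal := by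
  classical
  have := Fintype.ofFinite G
  haveI : Fact (Nat.Prime 2) := ⟨Nat.prime_two⟩
  change Group.IsSolvable (qGen p G) at hsolv
  change RealHyp p G at hreal
  change qGen 2 G ≤ U at hKU
  change ∃ a : ℕ, (qGen 2 G).relIndex U = p ^ a at hUp
  haveI := hU
  have := Fintype.ofFinite U
  -- hypotheses for U
  have hsolvU : Group.IsSolvable (qGen p U) := isSolvable_qGen_subgroup p U hsolv
  have hoddU : Odd U.index := by
    have h1 : U.index ∣ (qGen 2 G).index := Subgroup.index_dvd_of_le hKU
    exact Odd.of_dvd_nat odd_index_qGen_two h1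
  have hrealU : RealHyp p U := realHyp_of_odd_index p U hoddU hreal
  have hKeq : qGen 2 U = (qGen 2 G).subgroupOf U := by
    apply le_antisymm
    · unfold qGen
      rw [Subgroup.closure_le]
      rintro g ⟨k, hk⟩
      rw [SetLike.mem_coe, Subgroup.mem_subgroupOf]
      exact Subgroup.subset_closure ⟨k, by rw [← hk]; exact Subgroup.orderOf_coe g⟩
    · have h1 : qGen 2 G ≤ (qGen 2 U).map U.subtype := by
        conv_lhs => unfold qGen
        rw [Subgroup.closure_le]
        rintro g ⟨k, hk⟩
        have hgU : g ∈ U := hKU (mem_qGen_of_orderOf 2 hk)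
        refine ⟨⟨g, hgU⟩, ?_, rfl⟩
        apply mem_qGen_of_orderOf 2 (k := k)
        rw [← hk]
        exact (Subgroup.orderOf_coe (⟨g, hgU⟩ : U)).symm
      intro x hx
      rw [Subgroup.mem_subgroupOf] at hx
      obtain ⟨y, hy, hyx⟩ := h1 hx
      have : y = x := Subtype.ext hyx
      rw [← this]
      exact hy
  have hidxU : ∃ a : ℕ, (qGen 2 U).index = p ^ a := by
    obtain ⟨a, ha⟩ := hUp
    refine ⟨a, ?_⟩
    rw [hKeq]
    exact ha
  exact normal_sylow_of_index_qGen_two p hsolvU hrealU hidxU Q

end Cfsg.Agent.S4863
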