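import Cfsg.Statements.S4870
import Cfsg.Agent.S0868
import Cfsg.Agent.Lib.H24.CharLinearMul
import Cfsg.Agent.Lib.H23.CliffordCorr

set_option autoImplicit false
open Cfsg

namespace Cfsg.Agent.S4870

open Cfsg.Agent.Lib.H24 Cfsg.Agent.Lib.L0 Cfsg.Agent.Lib.H23

/-- Let G be a finite group with a non-abelian minimal normal subgroup N, and let φ be an irreducible complex character of N with stabilizer I in G (the elements g with φ(g n g⁻¹) = φ(n) for all n ∈ N) such that φ extends to an irreducible character of I. Put d = φ(1)·[G : I]. Then the number of linear characters of G is at most [G : I] times the number of irreducible characters of G of degree d. -/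
theorem result {G : Type*} [Group G] [Finite G] (N : Subgroup G) (hN : N.Normal) (hN1 : N ≠ ⊥) (hmin : ∀ M : Subgroup G, M.Normal → M ≤ N → M = ⊥ ∨ M = N) (hna : ¬ IsMulCommutative ↥N) (φ : Cfsg.IrrCharacter ↥N) (I : Subgroup G) (hI : ∀ g : G, g ∈ I ↔ ∀ n n' : ↥N, (n' : G) = g * (n : G) * g⁻¹ → (φ : ↥N → ℂ) n' = (φ : ↥N → ℂ) n) (hNI : N ≤ I) (hext : ∃ ψ : Cfsg.IrrCharacter ↥I, ∀ n : ↥N, (ψ : ↥I → ℂ) (Subgroup.inclusion hNI n) = (φ : ↥N → ℂ) n) : Nat.card {χ : Cfsg.IrrCharacter G // Cfsg.charDegree (χ : G → ℂ) = 1} ≤ I.index * Nat.card {χ : Cfsg.IrrCharacter G // Cfsg.charDegree (χ : G → ℂ) = Cfsg.charDegree (φ : ↥N → ℂ) * I.index} := by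
  classical
  have := Fintype.ofFinite G
  have := Fintype.ofFinite N
  have := Fintype.ofFinite I
  haveI : N.Normal := hN
  obtain ⟨ψ, hψext⟩ := hext
  have hNcomm : N ≤ commutator G := le_commutator_of_minimal_nonabelian N hN hmin hna
  have hfN : ∀ (f : G →* ℂˣ) (n : G), n ∈ N → f n = 1 :=
    fun f n hn => hom_apply_eq_one_of_mem_commutator f (hNcomm hn)
  have hT : ∀ g : G, g ∈ I ↔ ∀ n : N,
      (φ : N → ℂ) ⟨g * n * g⁻¹, hN.conj_mem (n : G) n.2 g⟩ = (φ : N → ℂ) n := by
    intro g
    rw [hI]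
    constructor
    · intro h n
      exact h n ⟨g * n * g⁻¹, hN.conj_mem (n : G) n.2 g⟩ rfl
    · intro h n n' hn'
      rw [← h n]
      exact congrArg _ (Subtype.ext hn')
  let ψf : (G →* ℂˣ) → (I → ℂ) := fun f i => (ψ : I → ℂ) i * (f (i : G) : ℂ)
  have hψf : ∀ f, IsIrrCharacter I (ψf f) :=
    fun f => isIrrCharacter_mul_hom _ ψ.2 (f.comp I.subtype)
  have hres : ∀ f, resTo N I hNI (ψf f) = (φ : N → ℂ) := by
    intro f
    funext n
    show (ψ : I → ℂ) ⟨(n : G), hNI n.2⟩ * (f (n : G) : ℂ) = _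
    rw [hfN f n n.2, Units.val_one, mul_one]
    exact hψext n
  have hover : ∀ f, classInner (resTo N I hNI (ψf f)) (φ : N → ℂ) ≠ 0 := by
    intro f
    rw [hres, irr_classInner_self φ.2]
    exact one_ne_zero
  have hind : ∀ f, IsIrrCharacter G (indFun I (ψf f)) :=
    fun f => (isIrrCharacter_indFun_inertia N I hNI _ φ.2 hT (ψf f) (hψf f) (hover f)).1
  have hdeg : ∀ f, charDegree (indFun I (ψf f)) = charDegree (φ : N → ℂ) * I.index := by
    intro f
    apply charDegree_eq_of_apply_one
    rw [indFun_one]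
    show (I.index : ℂ) * ((ψ : I → ℂ) 1 * (f ((1 : I) : G) : ℂ)) = _
    have h1 : (ψ : I → ℂ) 1 = (φ : N → ℂ) 1 := hψext 1
    rw [h1, apply_one_eq_charDegree _ φ.2]
    simp only [OneMemClass.coe_one, map_one, Units.val_one, mul_one, Nat.cast_mul]
    ring
  -- nonvanishing of `ψ` on every coset of `N`
  have hnonvan : ∀ i : I, ∃ n : N.subgroupOf I, (ψ : I → ℂ) ((n : I) * i) ≠ 0 := by
    intro i
    haveI : (N.subgroupOf I).Normal := Subgroup.normal_subgroupOf
    have := Fintype.ofFinite (N.subgroupOf I)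
    have hirrN' : IsIrrCharacter (N.subgroupOf I)
        (fun n : N.subgroupOf I => (ψ : I → ℂ) n) := by
      have h1 := isIrrCharacter_comp_of_surjective
        (Subgroup.subgroupOfEquivOfLe hNI).toMonoidHom
        (Subgroup.subgroupOfEquivOfLe hNI).surjective φ.2
      convert h1 using 1
      funext n
      simp only [Function.comp_apply, MulEquiv.coe_toMonoidHom]
      rw [← hψext]
      exact congrArg _ (Subtype.ext rfl)
    have h868 := (Cfsg.Agent.S0868.result (N.subgroupOf I) (ψ : I → ℂ) ψ.2 hirrN'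
      (ψ : I → ℂ) ψ.2 _ rfl).2.2 rfl
    have h1 := congrFun h868 i
    by_contra hcon
    push_neg at hcon
    simp only [hcon, zero_mul, Finset.sum_const_zero, mul_zero] at h1
    exact zero_ne_one h1
  have hfinI : Finite (IrrCharacter G) := finite_irr
  let F : (G →* ℂˣ) → {χ : IrrCharacter G //
      charDegree (χ : G → ℂ) = charDegree (φ : N → ℂ) * I.index} :=
    fun f => ⟨⟨indFun I (ψf f), hind f⟩, hdeg f⟩
  have hfib : ∀ f f' : G →* ℂˣ, F f = F f' → ∀ i ∈ I, f i = f' i := by
    intro f f' h i hi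
    have h1 : indFun I (ψf f) = indFun I (ψf f') :=
      congrArg (fun t : {χ : IrrCharacter G //
        charDegree (χ : G → ℂ) = charDegree (φ : N → ℂ) * I.index} => (t.1 : G → ℂ)) h
    have h2 : ψf f = ψf f' := indFun_inertia_injective N I hNI _ φ.2 hT _ _ (hψf f) (hψf f')
      (hover f) (hover f') h1
    obtain ⟨n, hne⟩ := hnonvan ⟨i, hi⟩
    have hnN : ((n : I) : G) ∈ N := Subgroup.mem_subgroupOf.mp n.2
    have h3 := congrFun h2 ((n : I) * ⟨i, hi⟩)
    have h4 : (f (((n : I) * ⟨i, hi⟩ : I) : G) : ℂ) = (f' (((n : I) * ⟨i, hi⟩ : I) : G) : ℂ) :=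
      mul_left_cancel₀ hne h3
    simp only [Subgroup.coe_mul, map_mul, hfN f _ hnN, hfN f' _ hnN, one_mul] at h4
    exact Units.ext h4
  -- counting
  have hcardL : Nat.card {χ : IrrCharacter G // charDegree (χ : G → ℂ) = 1} =
      Nat.card (G →* ℂˣ) := by
    rw [← Nat.card_congr linearCharEquiv]
    refine Nat.card_congr (Equiv.subtypeEquivRight (fun χ => ?_))
    constructor
    · intro h
      rw [apply_one_eq_charDegree _ χ.2, h]
      simp
    · intro h
      exact charDegree_eq_of_apply_one (by rw [h]; simp)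
  have hfinA : Finite (G →* ℂˣ) := Finite.of_equiv _ linearCharEquiv
  have := Fintype.ofFinite (G →* ℂˣ)
  have := Fintype.ofFinite {χ : IrrCharacter G //
      charDegree (χ : G → ℂ) = charDegree (φ : N → ℂ) * I.index}
  rw [hcardL, Nat.card_eq_fintype_card, Nat.card_eq_fintype_card]
  have h1 := Finset.card_le_mul_card_image (f := F) Finset.univ I.index (by
    intro b hb
    obtain ⟨f₀, _, rfl⟩ := Finset.mem_image.mp hb
    have hle : (Finset.univ.filter (fun a => F a = F f₀)).card ≤
        ((Finset.univ.filter (fun a => F a = F f₀)).image (fun a => a / f₀)).card := by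
      refine (Finset.card_image_of_injective _ (fun a b hab => ?_)).ge
      have hab' : a / f₀ = b / f₀ := hab
      exact div_left_inj.mp hab'
    refine hle.trans (card_hom_trivial_on_le_index I _ ?_)
    intro ν hν i hi
    obtain ⟨a, ha, rfl⟩ := Finset.mem_image.mp hν
    have := hfib a f₀ (Finset.mem_filter.mp ha).2 i hi
    rw [MonoidHom.div_apply, this, div_self'])
  calc Fintype.card (G →* ℂˣ) = (Finset.univ : Finset (G →* ℂˣ)).card := rfl
    _ ≤ I.index * (Finset.univ.image F).card := h1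
    _ ≤ I.index * Fintype.card {χ : IrrCharacter G //
          charDegree (χ : G → ℂ) = charDegree (φ : N → ℂ) * I.index} :=
        Nat.mul_le_mul_left _ (Finset.card_le_univ _)

end Cfsg.Agent.S4870
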