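import Cfsg.Statements.S4873
import Mathlib
import Cfsg.Agent.Lib.H24.RealOddIndex

set_option autoImplicit false
open Cfsg

namespace Cfsg.Agent.S4873

/-- Let N be a normal subgroup of odd index in the finite group G. Then every irreducible complex character of N with Frobenius–Schur indicator +1 lies under exactly one irreducible character of G with Frobenius–Schur indicator +1. -/
theorem result {G : Type*} [Group G] [Finite G] (N : Subgroup G) [N.Normal] (hodd : Odd N.index) (φ : Cfsg.IrrCharacter ↥N) (hφ : (Nat.card ↥N : ℂ)⁻¹ * ∑ᶠ g : ↥N, (φ : ↥N → ℂ) (g * g) = 1) : ∃! χ : Cfsg.IrrCharacter G, (Nat.card G : ℂ)⁻¹ * ∑ᶠ g : G, (χ : G → ℂ) (g * g) = 1 ∧ (∑ᶠ n : ↥N, (χ : G → ℂ) n * (starRingEnd ℂ) ((φ : ↥N → ℂ) n)) ≠ 0 := by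
  classical
  have := Fintype.ofFinite G
  have := Fintype.ofFinite N
  have hφ' : Cfsg.Agent.Lib.H24.fsInd (φ : ↥N → ℂ) = 1 := by
    rw [Cfsg.Agent.Lib.H24.fsInd_def, ← finsum_eq_sum_of_fintype]; exact hφ
  have hNc : (Nat.card N : ℂ) ≠ 0 := by exact_mod_cast (Nat.card_pos (α := N)).ne'
  have key : ∀ χ : Cfsg.IrrCharacter G,
      ((Nat.card G : ℂ)⁻¹ * ∑ᶠ g : G, (χ : G → ℂ) (g * g) = 1 ∧
        (∑ᶠ n : ↥N, (χ : G → ℂ) n * (starRingEnd ℂ) ((φ : ↥N → ℂ) n)) ≠ 0) ↔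
      (Cfsg.Agent.Lib.H24.fsInd (χ : G → ℂ) = 1 ∧
        Cfsg.classInner (fun n : N => (χ : G → ℂ) n) (φ : N → ℂ) ≠ 0) := by
    intro χ
    rw [Cfsg.Agent.Lib.H24.fsInd_def, finsum_eq_sum_of_fintype, finsum_eq_sum_of_fintype]
    unfold Cfsg.classInner
    constructor
    · rintro ⟨h1, h2⟩
      exact ⟨h1, mul_ne_zero (inv_ne_zero hNc) h2⟩
    · rintro ⟨h1, h2⟩
      exact ⟨h1, (mul_ne_zero_iff.mp h2).2⟩
  obtain ⟨χ₀, hχ₀, huniq⟩ := Cfsg.Agent.Lib.H24.existsUnique_fsInd_one_over N hodd φ hφ'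
  exact ⟨χ₀, (key χ₀).mpr hχ₀, fun χ hχ => huniq χ ((key χ).mp hχ)⟩

end Cfsg.Agent.S4873
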