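import Cfsg.Statements.S4885
import Cfsg.Agent.Lib.H23.PQFONGKER
import Cfsg.Agent.Lib.H23.PQLINQ
import Cfsg.Agent.Lib.H16.PQTATE
import Cfsg.Agent.Lib.H14.PQQUOT
import Cfsg.Agent.Lib.H19.PQFINAL
import Cfsg.Agent.Lib.H24.CharKer
import Cfsg.Agent.Lib.H22.PPrimeCore
import Cfsg.Agent.Lib.H10.PSolvable2
-- import your own Cfsg.Agent.* helpers here

set_option autoImplicit false
set_option linter.style.haveILetI false
open Cfsg

namespace Cfsg.Agent.S4885

/-- one side: from the hypothesis on characters, the two group-theoretic facts -/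
theorem side_facts {G : Type*} [Group G] [Finite G] (p q : ℕ) [Fact p.Prime] [Fact q.Prime]
    (hX : ∀ χ : IrrCharacter G, (∀ a ∈ pPrimeCore p G, (χ : G → ℂ) a = (χ : G → ℂ) 1) →
      ¬ p ∣ charDegree (χ : G → ℂ) → ∀ b ∈ pPrimeCore q G, (χ : G → ℂ) b = (χ : G → ℂ) 1)
    (P : Sylow p G) :
    (pPrimeCore p G ⊔ pPrimeCore q G) ⊓ (P : Subgroup G) ≤
      (commutator P).map (P : Subgroup G).subtype ∧
    ∃ k : ℕ, (pPrimeCore p G).relIndex (pPrimeCore p G ⊔ pPrimeCore q G) = p ^ k := by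
  haveI hAn : (pPrimeCore p G).Normal := Cfsg.Agent.Lib.H22.pPrimeCore_normal p
  haveI hBn : (pPrimeCore q G).Normal := Cfsg.Agent.Lib.H22.pPrimeCore_normal q
  have h1 : (pPrimeCore p G ⊔ pPrimeCore q G) ⊓ (P : Subgroup G) ≤
      (commutator P).map (P : Subgroup G).subtype := by
    apply Cfsg.Agent.Lib.H23.PQ.inf_sylow_le_commutator_of_quot p (pPrimeCore p G)
      (Cfsg.Agent.Lib.H22.card_pPrimeCore_coprime p) P
    intro χ hA hdeg n hn
    have hχ : IsCharacter G (χ : G → ℂ) := Cfsg.Agent.Lib.L0.isCharacter_of_irr χ.2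
    have hle : pPrimeCore p G ⊔ pPrimeCore q G ≤ Cfsg.Agent.Lib.H24.charKer (χ : G → ℂ) hχ := by
      apply sup_le
      · intro a ha
        exact hA a ha
      · intro b hb
        exact hX χ hA hdeg b hb
    exact hle hn
  haveI : (pPrimeCore p G ⊔ pPrimeCore q G).Normal := Subgroup.sup_normal _ _
  exact ⟨h1, Cfsg.Agent.Lib.H16.PQ.relIndex_pPrimeCore_eq_pow p P _ h1⟩

/-- Let p and q be primes dividing the order of the finite group G, and suppose G is p-solvable and q-solvable. Fix maximal ideals of the algebraic integers containing p and q, defining the principal p-block and the principal q-block. If the irreducible characters of degree prime to p in the principal p-block are exactly the irreducible characters of degree prime to q in the principal q-block, then p = q. -/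
theorem result {G : Type*} [Group G] [Finite G] (p q : ℕ) [Fact p.Prime] [Fact q.Prime] (hp : p ∣ Nat.card G) (hq : q ∣ Nat.card G) (hps : Cfsg.IsPSolvable p G) (hqs : Cfsg.IsPSolvable q G) (Mp Mq : Ideal Cfsg.AlgInt) (hMp : Cfsg.IsPModular p Mp) (hMq : Cfsg.IsPModular q Mq) (h : ∀ χ : Cfsg.IrrCharacter G, (χ ∈ Cfsg.principalBlock Mp G ∧ ¬ p ∣ Cfsg.charDegree (χ : G → ℂ)) ↔ (χ ∈ Cfsg.principalBlock Mq G ∧ ¬ q ∣ Cfsg.charDegree (χ : G → ℂ))) : p = q := by
  by_contra hpq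
  have hpp : p.Prime := Fact.out
  have hqp : q.Prime := Fact.out
  haveI hAn : (pPrimeCore p G).Normal := Cfsg.Agent.Lib.H22.pPrimeCore_normal p
  haveI hBn : (pPrimeCore q G).Normal := Cfsg.Agent.Lib.H22.pPrimeCore_normal q
  have hXp : ∀ χ : IrrCharacter G, (∀ a ∈ pPrimeCore p G, (χ : G → ℂ) a = (χ : G → ℂ) 1) →
      ¬ p ∣ charDegree (χ : G → ℂ) → ∀ b ∈ pPrimeCore q G, (χ : G → ℂ) b = (χ : G → ℂ) 1 := by
    intro χ hA hdeg
    have h1 := (h χ).1
      ⟨(Cfsg.Agent.Lib.H23.PQ.mem_principalBlock_iff_of_isPSolvable p Mp hMp hps χ).2 hA, hdeg⟩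
    exact (Cfsg.Agent.Lib.H23.PQ.mem_principalBlock_iff_of_isPSolvable q Mq hMq hqs χ).1 h1.1
  have hXq : ∀ χ : IrrCharacter G, (∀ a ∈ pPrimeCore q G, (χ : G → ℂ) a = (χ : G → ℂ) 1) →
      ¬ q ∣ charDegree (χ : G → ℂ) → ∀ b ∈ pPrimeCore p G, (χ : G → ℂ) b = (χ : G → ℂ) 1 := by
    intro χ hA hdeg
    have h1 := (h χ).2
      ⟨(Cfsg.Agent.Lib.H23.PQ.mem_principalBlock_iff_of_isPSolvable q Mq hMq hqs χ).2 hA, hdeg⟩
    exact (Cfsg.Agent.Lib.H23.PQ.mem_principalBlock_iff_of_isPSolvable p Mp hMp hps χ).1 h1.1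
  obtain ⟨P⟩ : Nonempty (Sylow p G) := inferInstance
  obtain ⟨Q⟩ : Nonempty (Sylow q G) := inferInstance
  obtain ⟨hP1, hP2⟩ := side_facts p q hXp P
  obtain ⟨hQ1, hQ2⟩ := side_facts q p hXq Q
  set C : Subgroup G := pPrimeCore p G ⊓ pPrimeCore q G with hC
  haveI hCn : C.Normal := Subgroup.normal_inf_normal _ _
  have hF1 : pPrimeCore q (G ⧸ C) ≤ frattini (G ⧸ C) :=
    Cfsg.Agent.Lib.H14.PQ.pPrimeCore_quot_le_frattini p q hpq C hC P hP1 hP2
  have hF2 : pPrimeCore p (G ⧸ C) ≤ frattini (G ⧸ C) :=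
    Cfsg.Agent.Lib.H14.PQ.pPrimeCore_quot_le_frattini q p (Ne.symm hpq) C
      (hC.trans (inf_comm _ _)) Q hQ1 hQ2
  have hF3 : pCore p (G ⧸ C) ≤ frattini (G ⧸ C) := by
    refine le_trans ?_ hF1
    apply sSup_le
    rintro N ⟨hNn, hN⟩
    apply Cfsg.Agent.Lib.H22.le_pPrimeCore q N hNn
    obtain ⟨k, hk⟩ := IsPGroup.iff_card.1 hN
    rw [hk]
    exact Nat.Coprime.pow_left k ((Nat.coprime_primes hpp hqp).2 hpq)
  have hsub : Subsingleton (G ⧸ C) :=
    Cfsg.Agent.Lib.H19.PQ.subsingleton_of_cores_le_frattini p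
      (Cfsg.Agent.Lib.H10.isPSolvable_quotient hps C) hF3 hF2
  have hCtop : C = ⊤ := by
    rw [eq_top_iff]
    intro g _
    rw [← QuotientGroup.eq_one_iff]
    exact Subsingleton.elim _ _
  have hcop : (Nat.card (pPrimeCore p G)).Coprime p := Cfsg.Agent.Lib.H22.card_pPrimeCore_coprime p
  have hAtop : pPrimeCore p G = ⊤ := by
    rw [eq_top_iff, ← hCtop]
    exact inf_le_left
  rw [hAtop, Subgroup.card_top] at hcop
  exact hpp.one_lt.ne' (Nat.Coprime.eq_one_of_dvd hcop.symm hp)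

end Cfsg.Agent.S4885
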