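import Cfsg.Statements.S4888
import Mathlib
import Cfsg.Agent.Lib.L0.BrauerFeit
import Cfsg.Agent.Lib.L0.Tate
import Cfsg.Agent.Lib.L0.TransferPC
import Cfsg.Agent.Lib.L0.BlockKer
import Cfsg.Agent.Lib.L0.CharLinear
import Cfsg.Agent.Lib.L0.CharOps
import Cfsg.Agent.Lib.L0.CharInner
import Cfsg.Agent.Lib.H14.PIrr
import Cfsg.Agent.Lib.H1.PGroupBasic
import Cfsg.Agent.Lib.H23.BlockIdem
import Cfsg.Agent.Lib.H23.DegreeDvd
import Cfsg.Agent.Lib.H24.CharBasic
import Cfsg.Agent.Lib.H24.CharOrth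
import Cfsg.Agent.Lib.H24.CharDefl

set_option autoImplicit false

open Cfsg

namespace Cfsg.Agent.S4888

open Cfsg.Agent.Lib.H23 Cfsg.Agent.Lib.H24
open scoped ComplexConjugate

/-- Every linear character of a Sylow `p`-subgroup lies under a `p'`-degree character of the
principal block. -/
theorem exists_principal_over_linear {G : Type*} [Group G] [Fintype G] (p : ℕ) [Fact p.Prime]
    (M : Ideal AlgInt) (hM : IsPModular p M) (P : Sylow p G) [Fintype (P : Subgroup G)]
    (μ : IrrCharacter (P : Subgroup G)) (hμ : (μ : ↥(P : Subgroup G) → ℂ) 1 = 1) :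
    ∃ χ : IrrCharacter G, χ ∈ principalBlock M G ∧ ¬ p ∣ charDegree (χ : G → ℂ) ∧
      classInner (fun x : (P : Subgroup G) => (χ : G → ℂ) x) (μ : ↥(P : Subgroup G) → ℂ) ≠ 0 := by
  classical
  haveI := Fintype.ofFinite (IrrCharacter G)
  have hp : p.Prime := Fact.out
  obtain ⟨T, hTdef⟩ : ∃ T : G → ℂ, T = Cfsg.Agent.Lib.L0.Tilde.tilde p
    ((trivialIrr G : IrrCharacter G) : G → ℂ) := ⟨_, rfl⟩
  have hT : IsClassFunction G T := by
    rw [hTdef]
    exact Cfsg.Agent.Lib.L0.Tilde.tilde_isClassFunction p (irr_isClassFunction (trivialIrr G))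
  have hexp := classFunction_expansion T hT
  have hcoef : ∀ ψ : IrrCharacter G, classInner T (ψ : G → ℂ) =
      (Cfsg.Agent.Lib.L0.BrauerFeit.AAz hp (trivialIrr G) ψ : ℂ) := by
    intro ψ
    rw [← Cfsg.Agent.Lib.L0.BrauerFeit.AAz_spec hp (trivialIrr G) ψ, hTdef]
    rfl
  -- the restriction of `T` to `P` has inner product one with `μ`
  have hcardP : Nat.card (P : Subgroup G) = p ^ (Nat.card G).factorization p :=
    P.card_eq_multiplicity
  have h1 : classInner (fun x : (P : Subgroup G) => T x) (μ : ↥(P : Subgroup G) → ℂ) = 1 := by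
    unfold classInner
    rw [Finset.sum_eq_single (1 : (P : Subgroup G))]
    · have hT1 : T ((1 : (P : Subgroup G)) : G) =
          ((p ^ (Nat.card G).factorization p : ℕ) : ℂ) := by
        rw [hTdef]
        unfold Cfsg.Agent.Lib.L0.Tilde.tilde
        rw [Subgroup.coe_one, orderOf_one, if_neg (by rw [Nat.dvd_one]; exact hp.one_lt.ne')]
        rw [trivialIrr_apply, mul_one]
      beta_reduce
      rw [hT1, hμ, map_one, mul_one, hcardP]
      have h0 : ((p ^ (Nat.card G).factorization p : ℕ) : ℂ) ≠ 0 := by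
        exact_mod_cast (pow_pos hp.pos _).ne'
      exact inv_mul_cancel₀ h0
    · intro x _ hx
      have hdvd : p ∣ orderOf (x : G) := by
        obtain ⟨k, hk⟩ := P.isPGroup' x
        have hd : orderOf x ∣ p ^ k := orderOf_dvd_of_pow_eq_one hk
        obtain ⟨j, -, hj⟩ := (Nat.dvd_prime_pow hp).1 hd
        rw [Subgroup.orderOf_coe, hj]
        rcases Nat.eq_zero_or_pos j with rfl | hjpos
        · rw [pow_zero, orderOf_eq_one_iff] at hj
          exact absurd hj hx
        · exact dvd_pow_self p hjpos.ne'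
      have hTx : T (x : G) = 0 := by
        rw [hTdef]
        unfold Cfsg.Agent.Lib.L0.Tilde.tilde
        rw [if_pos hdvd]
      beta_reduce
      rw [hTx, zero_mul]
    · intro h
      exact absurd (Finset.mem_univ _) h
  have hfun : (fun x : (P : Subgroup G) => T x) =
      ∑ ψ : IrrCharacter G, (classInner T (ψ : G → ℂ)) •
        (fun x : (P : Subgroup G) => (ψ : G → ℂ) x) := by
    funext x
    conv_lhs => rw [hexp]
    simp only [Finset.sum_apply, Pi.smul_apply]
  have h2 : classInner (fun x : (P : Subgroup G) => T x) (μ : ↥(P : Subgroup G) → ℂ) =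
      ∑ ψ : IrrCharacter G, (Cfsg.Agent.Lib.L0.BrauerFeit.AAz hp (trivialIrr G) ψ : ℂ) *
        classInner (fun x : (P : Subgroup G) => (ψ : G → ℂ) x) (μ : ↥(P : Subgroup G) → ℂ) := by
    rw [hfun, Cfsg.Agent.Lib.L0.classInner_sum_left]
    refine Finset.sum_congr rfl fun ψ _ => ?_
    rw [Cfsg.Agent.Lib.L0.classInner_smul_left, hcoef]
  choose n hn using fun ψ : IrrCharacter G =>
    Cfsg.Agent.Lib.L0.classInner_char_irr_nat
      (Cfsg.Agent.Lib.L0.isCharacter_restrict (P : Subgroup G)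
        (Cfsg.Agent.Lib.L0.isCharacter_of_irr ψ.2)) μ.2
  by_contra hcon
  push Not at hcon
  have h3 : (1 : ℤ) = ∑ ψ : IrrCharacter G,
      Cfsg.Agent.Lib.L0.BrauerFeit.AAz hp (trivialIrr G) ψ * (n ψ : ℤ) := by
    have h4 : ((1 : ℤ) : ℂ) = ((∑ ψ : IrrCharacter G,
        Cfsg.Agent.Lib.L0.BrauerFeit.AAz hp (trivialIrr G) ψ * (n ψ : ℤ) : ℤ) : ℂ) := by
      push_cast
      rw [← h1, h2]
      refine Finset.sum_congr rfl fun ψ _ => ?_
      rw [hn ψ]
    exact_mod_cast h4
  have h5 : (p : ℤ) ∣ ∑ ψ : IrrCharacter G,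
      Cfsg.Agent.Lib.L0.BrauerFeit.AAz hp (trivialIrr G) ψ * (n ψ : ℤ) := by
    refine Finset.dvd_sum fun ψ _ => ?_
    by_cases hψB : ψ ∈ principalBlock M G
    · by_cases hψp : p ∣ charDegree (ψ : G → ℂ)
      · have h6 := Cfsg.Agent.Lib.L0.BrauerFeit.pow_dvd_AAz_right hp (trivialIrr G) ψ
        have h7 : 0 < (charDegree (ψ : G → ℂ)).factorization p :=
          hp.factorization_pos_of_dvd (charDegree_pos _ ψ.2).ne' hψp
        exact Dvd.dvd.mul_right ((dvd_pow_self (p : ℤ) h7.ne').trans h6) _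
      · have h6 := hcon ψ hψB hψp
        rw [hn ψ] at h6
        have h7 : n ψ = 0 := by exact_mod_cast h6
        rw [h7]
        simp
    · have h6 : ¬ SameBlock M ((trivialIrr G : IrrCharacter G) : G → ℂ) (ψ : G → ℂ) := hψB
      rw [Cfsg.Agent.Lib.L0.BrauerFeit.AAz_eq_zero_of_not_sameBlock hM _ _ h6, zero_mul]
      exact dvd_zero _
  rw [← h3] at h5
  have h6 : p ∣ 1 := by exact_mod_cast h5
  exact hp.one_lt.ne' (Nat.dvd_one.1 h6)

/-- Under the hypothesis, every linear character of `P` extends to a linear character of `G`. -/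
theorem exists_linear_extension {G : Type*} [Group G] [Fintype G] (p : ℕ) [Fact p.Prime]
    (M : Ideal AlgInt) (hM : IsPModular p M) (P : Sylow p G)
    (hlin : ∀ χ : IrrCharacter G, χ ∈ principalBlock M G → ¬ p ∣ charDegree (χ : G → ℂ) →
      charDegree (χ : G → ℂ) = 1)
    (φ : ↥(P : Subgroup G) →* ℂˣ) :
    ∃ lam : G →* ℂˣ, ∀ x : ↥(P : Subgroup G), lam (x : G) = φ x := by
  classical
  haveI : Fintype ↥(P : Subgroup G) := Fintype.ofFinite _
  obtain ⟨μ, hμdef⟩ : ∃ μ : IrrCharacter ↥(P : Subgroup G),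
      μ = ⟨fun y => (φ y : ℂ), Cfsg.Agent.Lib.L0.isIrrCharacter_of_hom φ⟩ := ⟨_, rfl⟩
  have hμ1 : (μ : ↥(P : Subgroup G) → ℂ) 1 = 1 := by
    rw [hμdef]
    simp
  obtain ⟨χ, hχB, hχp, hχn⟩ := exists_principal_over_linear p M hM P μ hμ1
  have hχ1 : (χ : G → ℂ) 1 = 1 := by
    rw [apply_one_eq_charDegree _ χ.2, hlin χ hχB hχp, Nat.cast_one]
  obtain ⟨lam, hlamdef⟩ : ∃ lam : G →* ℂˣ, lam =
      Cfsg.Agent.Lib.L0.linearCharHom (Cfsg.Agent.Lib.L0.isCharacter_of_irr χ.2) hχ1 := ⟨_, rfl⟩
  have hlam : ∀ g : G, (lam g : ℂ) = (χ : G → ℂ) g := by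
    intro g
    rw [hlamdef]
    rfl
  refine ⟨lam, ?_⟩
  obtain ⟨ν, hνdef⟩ : ∃ ν : IrrCharacter ↥(P : Subgroup G),
      ν = ⟨fun y => ((lam.comp (P : Subgroup G).subtype) y : ℂ),
        Cfsg.Agent.Lib.L0.isIrrCharacter_of_hom _⟩ := ⟨_, rfl⟩
  have hνfun : (ν : ↥(P : Subgroup G) → ℂ) = fun x : ↥(P : Subgroup G) => (χ : G → ℂ) x := by
    rw [hνdef]
    funext x
    exact hlam x
  rw [← hνfun, irr_orthonormal] at hχn
  have hνμ : ν = μ := by
    by_contra h
    exact hχn (if_neg h)
  intro x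
  apply Units.ext
  have h8 : (ν : ↥(P : Subgroup G) → ℂ) x = (μ : ↥(P : Subgroup G) → ℂ) x := by rw [hνμ]
  rw [hνdef, hμdef] at h8
  exact h8

theorem hasNormalPComplement_of_linear_extension {G : Type*} [Group G] [Finite G] (p : ℕ)
    [Fact p.Prime] (P : Sylow p G)
    (hext : ∀ φ : ↥(P : Subgroup G) →* ℂˣ, ∃ lam : G →* ℂˣ,
      ∀ x : ↥(P : Subgroup G), lam (x : G) = φ x) :
    HasNormalPComplement p G := by
  classical
  have hp : p.Prime := Fact.out
  haveI hKn : (pResidual p G).Normal := Cfsg.Agent.Lib.H14.pResidual_normal'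
  have hsup := Cfsg.Agent.Lib.H14.pResidual_sup_sylow P
  have hgen : pResidual p G ≤
      Subgroup.closure {g : G | g ∈ pResidual p G ∧ (orderOf g).Coprime p} := by
    conv_lhs => unfold Cfsg.pResidual
    apply Subgroup.closure_mono
    intro g hg
    exact ⟨Subgroup.subset_closure hg, hg⟩
  have hkey : ∀ x : ↥(P : Subgroup G), (x : G) ∈ pResidual p G →
      x ∈ commutator ↥(P : Subgroup G) := by
    intro x hxK
    by_contra hx
    have ha : (Abelianization.of x : Abelianization ↥(P : Subgroup G)) ≠ 1 := by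
      intro h
      apply hx
      rw [← Abelianization.ker_of]
      exact MonoidHom.mem_ker.2 h
    haveI : Finite (Abelianization ↥(P : Subgroup G)) :=
      inferInstanceAs (Finite (↥(P : Subgroup G) ⧸ commutator ↥(P : Subgroup G)))
    obtain ⟨ψ, hψ⟩ := CommGroup.exists_apply_ne_one_of_hasEnoughRootsOfUnity
      (Abelianization ↥(P : Subgroup G)) ℂ ha
    obtain ⟨lam, hlam⟩ := hext (ψ.comp Abelianization.of)
    obtain ⟨a, hadef⟩ : ∃ a : ℕ, a = (Nat.card G).factorization p := ⟨_, rfl⟩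
    have hG0 : Nat.card G ≠ 0 := Nat.card_pos.ne'
    have hco : (p ^ a).Coprime (Nat.card G / p ^ a) := by
      rw [hadef]
      exact Nat.Coprime.pow_left _ (Nat.coprime_ordCompl hp hG0)
    obtain ⟨m, hm1, hm0⟩ := Nat.chineseRemainder hco 1 0
    have hkill : ∀ g : G, (orderOf g).Coprime p → lam g ^ m = 1 := by
      intro g hg
      have h1 : orderOf g ∣ Nat.card G / p ^ a := by
        have h2 : orderOf g ∣ p ^ a * (Nat.card G / p ^ a) := by
          rw [hadef, Nat.ordProj_mul_ordCompl_eq_self]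
          exact orderOf_dvd_natCard g
        exact (Nat.Coprime.pow_right a hg).dvd_of_dvd_mul_left h2
      have h3 : Nat.card G / p ^ a ∣ m := Nat.modEq_zero_iff_dvd.1 hm0
      rw [← map_pow, orderOf_dvd_iff_pow_eq_one.1 (h1.trans h3), map_one]
    have hle : pResidual p G ≤ ((powMonoidHom m).comp lam).ker := by
      unfold Cfsg.pResidual
      rw [Subgroup.closure_le]
      intro g hg
      exact MonoidHom.mem_ker.2 (hkill g hg)
    have h4 : lam (x : G) ^ m = 1 := MonoidHom.mem_ker.1 (hle hxK)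
    have hxm : (x : G) ^ m = (x : G) := by
      have h5 : orderOf (x : G) ∣ p ^ a := by
        rw [Subgroup.orderOf_coe, hadef, ← P.card_eq_multiplicity]
        exact orderOf_dvd_natCard x
      have h6 : m ≡ 1 [MOD orderOf (x : G)] := Nat.ModEq.of_dvd h5 hm1
      have h7 := (pow_eq_pow_iff_modEq (x := (x : G))).2 h6
      rw [h7, pow_one]
    rw [← map_pow, hxm, hlam x] at h4
    exact hψ h4
  have hfr : ∀ Mm : Subgroup ↥(P : Subgroup G),
      Mm ⊔ (pResidual p G).subgroupOf (P : Subgroup G) = ⊤ → Mm = ⊤ := by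
    intro Mm hMm
    have h1 : (pResidual p G).subgroupOf (P : Subgroup G) ≤ frattini ↥(P : Subgroup G) := by
      intro x hx
      exact Cfsg.Agent.Lib.H1.isPGroup_commutator_le_frattini P.isPGroup'
        (hkey x (Subgroup.mem_subgroupOf.1 hx))
    have h2 : Mm ⊔ frattini ↥(P : Subgroup G) = ⊤ := by
      rw [eq_top_iff, ← hMm]
      exact sup_le_sup_left h1 _
    exact frattini_nongenerating h2
  have hcore := Cfsg.Agent.Lib.L0.tate_core P (pResidual p G) hsup hgen hfr
  refine ⟨P, pResidual p G, hKn, ?_⟩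
  apply Subgroup.isComplement'_of_disjoint_and_mul_eq_univ (disjoint_iff.mpr hcore)
  rw [← Subgroup.normal_mul, hsup]
  rfl

/-- Let G be a finite group, p a prime and M a maximal ideal of the algebraic integers containing p. Then all height-zero irreducible characters of the principal p-block of G (equivalently, all its characters of degree prime to p) have the same degree if and only if G has a normal p-complement. -/
theorem result {G : Type*} [Group G] [Finite G] (p : ℕ) [Fact p.Prime] (M : Ideal Cfsg.AlgInt) (hM : Cfsg.IsPModular p M) : (∃ d : ℕ, ∀ χ : Cfsg.IrrCharacter G, χ ∈ (Cfsg.principalBlock M G) → Cfsg.blockHeight p (Cfsg.principalBlock M G) (χ : G → ℂ) = 0 → Cfsg.charDegree (χ : G → ℂ) = d) ↔ Cfsg.HasNormalPComplement p G := by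
  classical
  haveI := Fintype.ofFinite G
  haveI hP := isPrime_of_isPModular hM
  have hp : p.Prime := Fact.out
  have htriv : trivialIrr G ∈ principalBlock M G := mem_blockOf_self (trivialIrr G)
  have hdeg1 : charDegree ((trivialIrr G : IrrCharacter G) : G → ℂ) = 1 :=
    charDegree_eq_of_apply_one (n := 1) (by simp)
  have hinf : sInf ((fun ψ : IrrCharacter G => (charDegree (ψ : G → ℂ)).factorization p) ''
      principalBlock M G) = 0 := by
    apply Nat.eq_zero_of_le_zero
    apply Nat.sInf_le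
    refine ⟨trivialIrr G, htriv, ?_⟩
    show (charDegree ((trivialIrr G : IrrCharacter G) : G → ℂ)).factorization p = 0
    rw [hdeg1]
    simp
  have hheight : ∀ χ : IrrCharacter G, blockHeight p (principalBlock M G) (χ : G → ℂ) =
      (charDegree (χ : G → ℂ)).factorization p := by
    intro χ
    unfold blockHeight
    rw [hinf, Nat.sub_zero]
  constructor
  · rintro ⟨d, hd⟩
    have hd1 : d = 1 := by
      rw [← hd (trivialIrr G) htriv (by rw [hheight, hdeg1]; simp), hdeg1]
    obtain ⟨P⟩ : Nonempty (Sylow p G) := inferInstance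
    apply hasNormalPComplement_of_linear_extension p P
    intro φ
    apply exists_linear_extension p M hM P _ φ
    intro χ hχB hχp
    rw [hd χ hχB (by rw [hheight]; exact Nat.factorization_eq_zero_of_not_dvd hχp), hd1]
  · intro h
    refine ⟨1, fun χ hχB hχ0 => ?_⟩
    obtain ⟨N, hNn, hNp, k, hk⟩ := Cfsg.Agent.Lib.L0.HasNormalPComplement.exists_normal h
    haveI := hNn
    rw [hheight] at hχ0
    have hker : ∀ n ∈ N, (χ : G → ℂ) n = (χ : G → ℂ) 1 :=
      Cfsg.Agent.Lib.L0.BlockKer.le_charKer_of_sameBlock hM (χ := trivialIrr G) (ψ := χ) hχB N hNp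
        (fun n _ => rfl)
    have hdvd := charDegree_dvd_index χ N hker
    rw [hk] at hdvd
    obtain ⟨j, -, hj⟩ := (Nat.dvd_prime_pow hp).1 hdvd
    rw [hj] at hχ0 ⊢
    rw [hp.factorization_pow, Finsupp.single_eq_same] at hχ0
    rw [hχ0, pow_zero]

end Cfsg.Agent.S4888
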