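import Cfsg.Statements.S4892
import Cfsg.Agent.Lib.H21.AD.Defs
import Cfsg.Agent.Lib.H28.NT.Defs
import Cfsg.Agent.Lib.H8.NTB0
import Cfsg.Agent.Lib.H28.NT.EXIST
import Cfsg.Agent.Lib.H12.NTNORM
import Cfsg.Agent.Lib.H26.NTRATDET
import Cfsg.Agent.Lib.H12.NTRATPOW
import Cfsg.Agent.Lib.H6.NTPRAT
import Cfsg.Agent.Lib.H15.NTGLUE
import Cfsg.Agent.Lib.H22.NTUNIQ
import Cfsg.Agent.Lib.H10.NTRESTR
import Cfsg.Agent.Lib.H9.NTCONJ
import Cfsg.Agent.Lib.H13.NTTOP
import Cfsg.Agent.Lib.H19.NTGAL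
import Cfsg.Agent.Lib.H23.ADBR
import Cfsg.Agent.Lib.H24.CharBasic
import Cfsg.Agent.Lib.L0.CharOps

set_option autoImplicit false
open Cfsg

namespace Cfsg.Agent.S4892

open Cfsg.Agent.Lib.H21.AD Cfsg.Agent.Lib.H28.NT

theorem sSum_top {G : Type*} [Group G] (p : ℕ) (f : G → ℂ) :
    sSum p (⊤ : Subgroup G) f = ∑ᶠ x : G, if p ∣ orderOf x then 0 else f x := by
  classical
  unfold sSum
  refine finsum_congr (fun g => ?_)
  by_cases hg : p ∣ orderOf g
  · rw [if_neg (fun h => h.2 hg), if_pos hg]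
  · rw [if_pos ⟨Subgroup.mem_top g, hg⟩, if_neg hg]

/-- Let p be an odd prime, M a maximal ideal of the algebraic integers containing p, N a normal subgroup of the finite group G, and θ an irreducible character of N that is G-invariant, of degree prime to p, p-rational (values in the field generated over ℚ by a root of unity of order prime to p) and lies in the principal p-block of N. Let Q be a Sylow p-subgroup of N and suppose the index of N·C_G(Q) in G is a power of p. Then θ extends to a p-rational irreducible character of G lying in the principal p-block of G. -/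
theorem result {G : Type*} [Group G] [Finite G] (p : ℕ) [Fact p.Prime] (hp : p ≠ 2) (M : Ideal Cfsg.AlgInt) (hM : Cfsg.IsPModular p M) (N : Subgroup G) [N.Normal] (θ : Cfsg.IrrCharacter ↥N) (hinv : ∀ g : G, ∀ n n' : ↥N, (n' : G) = g * (n : G) * g⁻¹ → (θ : ↥N → ℂ) n' = (θ : ↥N → ℂ) n) (hdeg : ¬ p ∣ Cfsg.charDegree (θ : ↥N → ℂ)) (hrat : ∃ m : ℕ, ¬ p ∣ m ∧ ∀ n : ↥N, (θ : ↥N → ℂ) n ∈ IntermediateField.adjoin ℚ ({Complex.exp (2 * Real.pi * Complex.I / m)} : Set ℂ)) (hB : θ ∈ Cfsg.principalBlock M ↥N) (Q : Sylow p ↥N) (hidx : ∃ a : ℕ, (N ⊔ Subgroup.centralizer (((Q : Subgroup ↥N).map N.subtype : Subgroup G) : Set G)).index = p ^ a) : ∃ χ : Cfsg.IrrCharacter G, χ ∈ (Cfsg.principalBlock M G) ∧ (∃ n : ℕ, ¬ p ∣ n ∧ ∀ g : G, (χ : G → ℂ) g ∈ IntermediateField.adjoin ℚ ({Complex.exp (2 * Real.pi * Complex.I / n)} : Set ℂ)) ∧ ∀ n : ↥N, (χ : G → ℂ) n = (θ : ↥N → ℂ) n := by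
  classical
  have hpp : p.Prime := Fact.out
  obtain ⟨m, hpm, hratθ⟩ := hrat
  have hm : 0 < m := Nat.pos_of_ne_zero (fun h => hpm (h ▸ dvd_zero p))
  -- `θ` as a function on `G`
  set θG : G → ℂ := fun g => if h : g ∈ N then (θ : N → ℂ) ⟨g, h⟩ else 0 with hθG
  have hθGN : (fun n : N => θG n) = (θ : N → ℂ) := by
    funext n
    rw [hθG]
    simp only [dif_pos n.2]
  set Qg : Subgroup G := (Q : Subgroup N).map N.subtype with hQdef
  have hQN : Qg ≤ N := Subgroup.map_subtype_le _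
  have hQ : ¬ p ∣ Qg.relIndex N := by
    have h1 : Qg.subgroupOf N = (Q : Subgroup N) := by
      ext x
      rw [Subgroup.mem_subgroupOf, hQdef]
      constructor
      · rintro ⟨y, hy, hyx⟩
        have : y = x := Subtype.ext hyx
        rw [← this]; exact hy
      · intro hx
        exact ⟨x, hx, rfl⟩
    rw [Subgroup.relIndex, h1]
    exact Q.not_dvd_index
  have hθc : IsCharacter N (θ : N → ℂ) := Cfsg.Agent.Lib.L0.isCharacter_of_irr θ.2
  have hH : Hyp p M N Qg θG :=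
    { hp := hpp
      hM := hM
      hQN := hQN
      hQ := hQ
      hcov := Cfsg.Agent.Lib.H12.NT.cov_of_index N Q hidx
      hirr := by rw [hθGN]; exact θ.2
      hinv := by
        intro g n hn
        have hmem : g * n * g⁻¹ ∈ N := Subgroup.Normal.conj_mem inferInstance n hn g
        rw [hθG]
        simp only [dif_pos hn, dif_pos hmem]
        exact hinv g ⟨n, hn⟩ ⟨g * n * g⁻¹, hmem⟩ rfl
      hdeg := by
        refine ⟨Cfsg.charDegree (θ : N → ℂ), ?_, hdeg⟩
        rw [hθG]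
        simp only [dif_pos N.one_mem]
        exact (Cfsg.Agent.Lib.H24.charDegree_irr θ).symm
      hB := by
        have hirr : IsIrrCharacter N (fun n : N => θG n) := by rw [hθGN]; exact θ.2
        rw [← Cfsg.Agent.Lib.H23.AD.br hM N θG hirr]
        have h : (⟨fun n : N => θG n, hirr⟩ : IrrCharacter N) = θ := Subtype.ext hθGN
        rw [h]; exact hB
      hdet := by
        rw [hθGN]
        exact Cfsg.Agent.Lib.H26.NT.det_pElement_of_rational hpp hp (θ : N → ℂ) hθc m hpm hratθ }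
  -- gluing
  obtain ⟨χ, hχirr, hχN, hglue⟩ := Cfsg.Agent.Lib.H15.NT.glue N θG hH.hirr (GoodE p N θG)
    (fun H f _ hf => hf.1)
    (fun H f₁ f₂ hNH h₁ h₂ => Cfsg.Agent.Lib.H22.NT.goodE_unique hH H hNH f₁ f₂ h₁ h₂)
    (fun E hE => exists_goodE hH E hE)
    (fun K H f hNK hKH hf => Cfsg.Agent.Lib.H10.NT.goodE_restrict hH K H hNK hKH f hf)
    (fun H f t hNH hf => Cfsg.Agent.Lib.H9.NT.goodE_conj hH H hNH f hf t)
  have htop : GoodE p N θG ⊤ χ := Cfsg.Agent.Lib.H13.NT.goodE_top hH χ hχirr hχN (fun E hE => exists_goodE hH E hE) hglue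
  refine ⟨⟨χ, hχirr⟩, ?_, ⟨m, hpm, ?_⟩, ?_⟩
  · rw [Cfsg.Agent.Lib.H23.AD.br0 hM]
    have := Cfsg.Agent.Lib.H8.NT.sSum_top_ne_zero hH χ htop
    rwa [sSum_top] at this
  · apply Cfsg.Agent.Lib.H6.NT.rational_of_pow_fixed χ (Cfsg.Agent.Lib.L0.isCharacter_of_irr hχirr) m hm
    intro k hk hk1 g
    have hkG : k.Coprime (Nat.card G) := Nat.Coprime.coprime_mul_right_right hk
    have hkN : k.Coprime (Nat.card N * m) := by
      apply Nat.Coprime.mul_right
      · exact Nat.Coprime.coprime_dvd_right (Subgroup.card_subgroup_dvd_card N) hkG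
      · exact Nat.Coprime.coprime_mul_left_right hk
    have hθk : ∀ n ∈ N, θG (n ^ k) = θG n := by
      intro n hn
      have h1 := Cfsg.Agent.Lib.H12.NT.pow_eq_of_rational (θ : N → ℂ) hθc m hm hratθ k hkN hk1 ⟨n, hn⟩
      rw [hθG]
      simp only [dif_pos hn, dif_pos (N.pow_mem hn k)]
      exact h1
    have hgood := Cfsg.Agent.Lib.H19.NT.goodE_pow hH χ htop k hkG hθk
    exact Cfsg.Agent.Lib.H22.NT.goodE_unique hH ⊤ le_top _ _ hgood htop g (Subgroup.mem_top g)
  · intro n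
    show χ n = (θ : N → ℂ) n
    rw [hχN n n.2, hθG]
    simp only [dif_pos n.2]

end Cfsg.Agent.S4892
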