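import Cfsg.Statements.S4911
import Mathlib
import Cfsg.Agent.Lib.H24.GlaubReal

set_option autoImplicit false
open Cfsg

namespace Cfsg.Agent.S4911

/-- Let P and K be subgroups of a finite group with P a p-group normalizing K and K of order prime to p. Then the number of P-invariant real-valued irreducible complex characters of K equals the number of conjugacy classes of K that are real (closed under inversion) and P-invariant. Moreover, if every real-valued irreducible character of K is P-invariant, then every real element of K (one conjugate in K to its inverse) is conjugate in K to an element centralized by P. -/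
theorem result {G : Type*} [Group G] [Finite G] (p : ℕ) [Fact p.Prime] (P K : Subgroup G) (hP : IsPGroup p ↥P) (hK : ¬ p ∣ Nat.card ↥K) (hPK : P ≤ Subgroup.normalizer (K : Set G)) : Nat.card {θ : Cfsg.IrrCharacter ↥K // (∀ k : ↥K, ((θ : ↥K → ℂ) k).im = 0) ∧ (∀ x ∈ P, ∀ k k' : ↥K, (k' : G) = x * (k : G) * x⁻¹ → (θ : ↥K → ℂ) k' = (θ : ↥K → ℂ) k)} = Nat.card {c : ConjClasses ↥K // (∀ k : ↥K, ConjClasses.mk k = c → IsConj k k⁻¹) ∧ ∀ k : ↥K, ConjClasses.mk k = c → ∀ x ∈ P, ∀ k' : ↥K, (k' : G) = x * (k : G) * x⁻¹ → ConjClasses.mk k' = c} ∧ ((∀ θ : Cfsg.IrrCharacter ↥K, (∀ k : ↥K, ((θ : ↥K → ℂ) k).im = 0) → (∀ x ∈ P, ∀ k k' : ↥K, (k' : G) = x * (k : G) * x⁻¹ → (θ : ↥K → ℂ) k' = (θ : ↥K → ℂ) k)) → ∀ k : ↥K, IsConj k k⁻¹ → ∃ k' : ↥K, IsConj k k' ∧ ∀ x ∈ P, x * (k' : G) * x⁻¹ = (k' : G)) := by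
  classical
  letI : Fintype G := Fintype.ofFinite G
  have hp : p.Prime := Fact.out
  have hnorm : ∀ x ∈ P, ∀ k ∈ K, x * k * x⁻¹ ∈ K := by
    intro x hx k hk
    have h1 := hPK hx
    rw [Subgroup.mem_normalizer_iff] at h1
    exact (h1 k).mp hk
  have hcount := Cfsg.Agent.Lib.H24.Glaub.real_count hp hnorm hP hK
  have hiff : ∀ c : ConjClasses K, Cfsg.Agent.Lib.H24.Glaub.ClsInv K P c ↔
      (∀ k : K, ConjClasses.mk k = c → ∀ x ∈ P, ∀ k' : K, (k' : G) = x * (k : G) * x⁻¹ →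
        ConjClasses.mk k' = c) := by
    intro c
    constructor
    · intro h k hk x hx k' hk'
      exact h x hx k k' hk' hk
    · intro h x hx k k' hk' hk
      exact h k hk x hx k' hk'
  have hcard2 : Nat.card {cl : ConjClasses K // (∀ k : K, ConjClasses.mk k = cl → IsConj k k⁻¹) ∧
        Cfsg.Agent.Lib.H24.Glaub.ClsInv K P cl} =
      Nat.card {c : ConjClasses K // (∀ k : K, ConjClasses.mk k = c → IsConj k k⁻¹) ∧
        ∀ k : K, ConjClasses.mk k = c → ∀ x ∈ P, ∀ k' : K, (k' : G) = x * (k : G) * x⁻¹ →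
          ConjClasses.mk k' = c} :=
    Nat.card_congr (Equiv.subtypeEquivRight (fun c => and_congr Iff.rfl (hiff c)))
  refine ⟨hcount.trans hcard2, ?_⟩
  intro hall k hk
  have e1 : Nat.card {θ : Cfsg.IrrCharacter K // ∀ k : K, ((θ : K → ℂ) k).im = 0} =
      Nat.card {θ : Cfsg.IrrCharacter K // (∀ k : K, ((θ : K → ℂ) k).im = 0) ∧
        ∀ x ∈ P, Cfsg.Agent.Lib.H24.Glaub.InvUnder K x (θ : K → ℂ)} :=
    Nat.card_congr (Equiv.subtypeEquivRight
      (fun θ => ⟨fun h => ⟨h, hall θ h⟩, fun h => h.1⟩))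
  have e2 := Cfsg.Agent.Lib.H24.card_real_irr_eq_card_real_classes (G := K)
  have e3 : Nat.card {C : ConjClasses K // ∀ g : K, ConjClasses.mk g = C → IsConj g g⁻¹} =
      Nat.card {cl : ConjClasses K // (∀ k : K, ConjClasses.mk k = cl → IsConj k k⁻¹) ∧
        Cfsg.Agent.Lib.H24.Glaub.ClsInv K P cl} := by
    rw [← e2, e1, hcount]
  let f : {cl : ConjClasses K // (∀ k : K, ConjClasses.mk k = cl → IsConj k k⁻¹) ∧
        Cfsg.Agent.Lib.H24.Glaub.ClsInv K P cl} →
      {C : ConjClasses K // ∀ g : K, ConjClasses.mk g = C → IsConj g g⁻¹} :=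
    fun c => ⟨c.1, c.2.1⟩
  have hf : Function.Injective f := by
    intro c c' h
    apply Subtype.ext
    have h1 : (f c).1 = (f c').1 := congrArg Subtype.val h
    exact h1
  have hbij : Function.Bijective f := hf.bijective_of_nat_card_le e3.le
  have hkreal : ∀ g : K, ConjClasses.mk g = ConjClasses.mk k → IsConj g g⁻¹ := by
    intro g hg
    exact Cfsg.Agent.Lib.H24.Glaub.isConj_inv_of_isConj (ConjClasses.mk_eq_mk_iff_isConj.mp hg) hk
  obtain ⟨⟨c, hcreal, hcinv⟩, hc⟩ := hbij.2 ⟨ConjClasses.mk k, hkreal⟩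
  have hck : c = ConjClasses.mk k := congrArg Subtype.val hc
  subst hck
  have hstab : ∀ q ∈ P, ∀ g' : K, (g' : G) = q * k * q⁻¹ → IsConj g' k := by
    intro q hq g' hgg'
    exact ConjClasses.mk_eq_mk_iff_isConj.mp (hcinv q hq k g' hgg' rfl)
  obtain ⟨x, hx⟩ := Cfsg.Agent.Lib.H24.Glaub.exists_conj_mem_centralizer hP hnorm hK k hstab
  exact ⟨x * k * x⁻¹, isConj_iff.mpr ⟨x, rfl⟩, hx⟩

end Cfsg.Agent.S4911
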