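import Cfsg.Statements.S4914
import Mathlib
import Cfsg.Agent.Lib.H24.RelGlaubL

set_option autoImplicit false
open Cfsg

namespace Cfsg.Agent.S4914

/-- Let P and K be subgroups of a finite group G with P a p-group normalizing K, and suppose K has a normal Sylow p-subgroup Q. Let C be the subgroup of those k ∈ K whose commutator with every element of P lies in Q (so that C/Q is the fixed-point subgroup of P on K/Q). Then there is a bijection f from the P-invariant irreducible complex characters of K onto the P-invariant irreducible complex characters of C such that, for every P-invariant irreducible character χ of K, the multiplicity of f(χ) in the restriction of χ to C is a natural number congruent to 1 or to −1 modulo p, every other P-invariant irreducible character of C occurs in that restriction with multiplicity divisible by p, and the degrees of χ and f(χ) are congruent modulo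 p up to sign. -/
theorem result {G : Type*} [Group G] [Finite G] (p : ℕ) [Fact p.Prime] (P K Q C : Subgroup G) (hP : IsPGroup p ↥P) (hPK : P ≤ Subgroup.normalizer (K : Set G)) (hQK : Q ≤ K) (hQn : ∀ k ∈ K, ∀ q ∈ Q, k * q * k⁻¹ ∈ Q) (hQp : ∃ a : ℕ, Nat.card ↥Q = p ^ a) (hQsyl : ¬ p ∣ Q.relIndex K) (hCK : C ≤ K) (hC : ∀ k : G, k ∈ C ↔ (k ∈ K ∧ ∀ x ∈ P, x * k * x⁻¹ * k⁻¹ ∈ Q)) : ∃ f : {χ : Cfsg.IrrCharacter ↥K // (∀ x ∈ P, ∀ k k' : ↥K, (k' : G) = x * (k : G) * x⁻¹ → (χ : ↥K → ℂ) k' = (χ : ↥K → ℂ) k)} → {ξ : Cfsg.IrrCharacter ↥C // (∀ x ∈ P, ∀ k k' : ↥C, (k' : G) = x * (k : G) * x⁻¹ → (ξ : ↥C → ℂ) k' = (ξ : ↥C → ℂ) k)}, Function.Bijective f ∧ ∀ χ, (∀ ξ : {ξ : Cfsg.IrrCharacter ↥C // (∀ x ∈ P, ∀ k k' : ↥C, (k' : G) = x * (k : G) * x⁻¹ → (ξ : ↥C → ℂ) k' = (ξ : ↥C → ℂ) k)}, ∃ m : ℕ, (Nat.card ↥C : ℂ)⁻¹ * ∑ᶠ c : ↥C, (χ.1 : ↥K → ℂ) (Subgroup.inclusion hCK c) * (starRingEnd ℂ) ((ξ.1 : ↥C → ℂ)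 c) = (m : ℂ) ∧ (ξ = f χ → ((m : ZMod p) = 1 ∨ (m : ZMod p) = -1)) ∧ (ξ ≠ f χ → p ∣ m)) ∧ ((Cfsg.charDegree ((f χ).1 : ↥C → ℂ) : ZMod p) = (Cfsg.charDegree (χ.1 : ↥K → ℂ) : ZMod p) ∨ (Cfsg.charDegree ((f χ).1 : ↥C → ℂ) : ZMod p) = -(Cfsg.charDegree (χ.1 : ↥K → ℂ) : ZMod p)) := by
  classical
  haveI : Fintype G := Fintype.ofFinite G
  letI : Fintype Q := Fintype.ofFinite _
  letI : Fintype K := Fintype.ofFinite _
  letI : Fintype C := Fintype.ofFinite _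
  have hp : p.Prime := Fact.out
  have hQpg : IsPGroup p Q := by
    obtain ⟨a, ha⟩ := hQp
    exact IsPGroup.of_card ha
  have hPKn : ∀ x ∈ P, ∀ k ∈ K, x * k * x⁻¹ ∈ K := by
    intro x hx k hk
    exact (Subgroup.mem_normalizer_iff.mp (hPK hx) k).mp hk
  -- `P` normalises `Q`
  have hPQ : ∀ x ∈ P, ∀ q ∈ Q, x * q * x⁻¹ ∈ Q := by
    intro x hx q hq
    haveI hn : (Q.subgroupOf K).Normal :=
      Cfsg.Agent.Lib.H24.RelGlaub.normal_subgroupOf_of_norm hQn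
    obtain ⟨a, ha⟩ := hQp
    have hyK : x * q * x⁻¹ ∈ K := hPKn x hx q (hQK hq)
    have hqa : q ^ (p ^ a) = 1 := by
      have h1 : (⟨q, hq⟩ : Q) ^ (p ^ a) = 1 := by
        rw [← ha]
        exact pow_card_eq_one'
      have h2 := congrArg (Subtype.val : Q → G) h1
      simpa using h2
    have hya : (⟨x * q * x⁻¹, hyK⟩ : K) ^ (p ^ a) = 1 := by
      apply Subtype.ext
      rw [Subgroup.coe_pow]
      show (x * q * x⁻¹) ^ (p ^ a) = 1
      rw [conj_pow, hqa]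
      group
    have h3 : (QuotientGroup.mk' (Q.subgroupOf K) ⟨x * q * x⁻¹, hyK⟩) ^ (p ^ a) = 1 := by
      rw [← map_pow, hya, map_one]
    have h4 : (QuotientGroup.mk' (Q.subgroupOf K) ⟨x * q * x⁻¹, hyK⟩) ^
        (Nat.card (K ⧸ Q.subgroupOf K)) = 1 := pow_card_eq_one'
    have hcop : Nat.Coprime (p ^ a) (Nat.card (K ⧸ Q.subgroupOf K)) := by
      apply Nat.Coprime.pow_left
      rw [Nat.Prime.coprime_iff_not_dvd hp, ← Subgroup.index_eq_card]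
      exact hQsyl
    have h5 : QuotientGroup.mk' (Q.subgroupOf K) ⟨x * q * x⁻¹, hyK⟩ = 1 := by
      have h6 := orderOf_dvd_of_pow_eq_one h3
      have h7 := orderOf_dvd_of_pow_eq_one h4
      have h8 := Nat.eq_one_of_dvd_coprimes hcop h6 h7
      exact orderOf_eq_one_iff.mp h8
    have h9 := (QuotientGroup.eq_one_iff _).mp h5
    exact Subgroup.mem_subgroupOf.mp h9
  have hrg : Cfsg.Agent.Lib.H24.RelGlaub.RG p P K Q C :=
    ⟨hp, hP, hPKn, hPQ, hQK, hQn, hQpg, hQsyl, hC⟩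
  -- the map
  have hex := fun χ : {χ : Cfsg.IrrCharacter ↥K // (∀ x ∈ P, ∀ k k' : ↥K,
      (k' : G) = x * (k : G) * x⁻¹ → (χ : ↥K → ℂ) k' = (χ : ↥K → ℂ) k)} =>
    hrg.corr_exists χ.1 χ.2
  choose ξ₀ hξ₀inv ε hε hall using hex
  have hnd : ∀ χ, ¬ p ∣ Cfsg.Agent.Lib.H24.Glaub.resMult hCK (χ.1 : ↥K → ℂ) (ξ₀ χ : ↥C → ℂ) := by
    intro χ
    have h1 := hall χ (ξ₀ χ) (hξ₀inv χ)
    rw [if_pos rfl] at h1
    exact Cfsg.Agent.Lib.H24.Glaub.not_dvd_of_dvd_sub_sign hp (hε χ) h1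
  refine ⟨fun χ => ⟨ξ₀ χ, hξ₀inv χ⟩, ⟨?_, ?_⟩, ?_⟩
  · intro χ χ' hχχ'
    have h1 : ξ₀ χ = ξ₀ χ' := congrArg Subtype.val hχχ'
    apply Subtype.ext
    apply hrg.corr_inj χ.1 χ'.1 χ.2 χ'.2 (ξ₀ χ) (hξ₀inv χ) (hnd χ)
    rw [h1]
    exact hnd χ'
  · intro ξ
    obtain ⟨χ, hχinv, hχ⟩ := hrg.corr_surj ξ.1 ξ.2
    refine ⟨⟨χ, hχinv⟩, ?_⟩
    apply Subtype.ext
    show ξ₀ ⟨χ, hχinv⟩ = ξ.1
    by_contra hne
    have h1 := hall ⟨χ, hχinv⟩ ξ.1 ξ.2
    rw [if_neg (fun h => hne h.symm)] at h1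
    exact hχ (Cfsg.Agent.Lib.H24.Glaub.dvd_of_dvd_sub_zero h1)
  · intro χ
    refine ⟨?_, ?_⟩
    · intro ξ
      refine ⟨Cfsg.Agent.Lib.H24.Glaub.resMult hCK (χ.1 : ↥K → ℂ) (ξ.1 : ↥C → ℂ), ?_, ?_, ?_⟩
      · rw [Cfsg.Agent.Lib.H24.Glaub.resMult_spec hCK
          (Cfsg.Agent.Lib.L0.isCharacter_of_irr χ.1.2) ξ.1.2]
        unfold Cfsg.classInner
        rw [finsum_eq_sum_of_fintype]
        rfl
      · intro hξ
        have h1 := hall χ ξ.1 ξ.2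
        have h2 : ξ.1 = ξ₀ χ := congrArg Subtype.val hξ
        rw [if_pos h2, mul_one] at h1
        have h3 : ((Cfsg.Agent.Lib.H24.Glaub.resMult hCK (χ.1 : ↥K → ℂ) (ξ.1 : ↥C → ℂ) : ℤ) :
            ZMod p) = ((ε χ : ℤ) : ZMod p) := by
          rw [ZMod.intCast_eq_intCast_iff_dvd_sub]
          have := dvd_neg.mpr h1
          rwa [neg_sub] at this
        rw [Int.cast_natCast] at h3
        rcases hε χ with h4 | h4
        · left
          rw [h3, h4]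
          simp
        · right
          rw [h3, h4]
          simp
      · intro hξ
        have h1 := hall χ ξ.1 ξ.2
        have h2 : ξ.1 ≠ ξ₀ χ := fun h => hξ (Subtype.ext h)
        rw [if_neg h2] at h1
        exact Cfsg.Agent.Lib.H24.Glaub.dvd_of_dvd_sub_zero h1
    · have h1 := hrg.corr_degree χ.1 χ.2 (ξ₀ χ) (hξ₀inv χ) (ε χ) (hall χ)
      have h3 : ((Cfsg.charDegree (χ.1 : ↥K → ℂ) : ℤ) : ZMod p) =
          ((ε χ * (Cfsg.charDegree (ξ₀ χ : ↥C → ℂ) : ℤ) : ℤ) : ZMod p) := by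
        rw [ZMod.intCast_eq_intCast_iff_dvd_sub]
        have := dvd_neg.mpr h1
        rwa [neg_sub] at this
      rw [Int.cast_natCast, Int.cast_mul, Int.cast_natCast] at h3
      show ((Cfsg.charDegree (ξ₀ χ : ↥C → ℂ) : ZMod p) = (Cfsg.charDegree (χ.1 : ↥K → ℂ) : ZMod p) ∨
        (Cfsg.charDegree (ξ₀ χ : ↥C → ℂ) : ZMod p) = -(Cfsg.charDegree (χ.1 : ↥K → ℂ) : ZMod p))
      rcases hε χ with h4 | h4
      · left
        rw [h3, h4]
        simp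
      · right
        rw [h3, h4]
        simp

end Cfsg.Agent.S4914
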