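import Cfsg.Statements.S4916
import Mathlib
import Cfsg.Agent.Lib.H23.BlockOsima
import Cfsg.Agent.Lib.H23.BlockDefectZero
import Cfsg.Agent.Lib.H23.DegreeDvd
import Cfsg.Agent.Lib.L0.CharOps

set_option autoImplicit false
open Cfsg

namespace Cfsg.Agent.S4916

/-- Let G be a finite group, p a prime and M a maximal ideal of the algebraic integers containing p. Then the principal character is the only irreducible character of degree prime to p in the principal p-block of G if and only if p does not divide the order of G. -/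
theorem result {G : Type*} [Group G] [Finite G] (p : ℕ) [Fact p.Prime] (M : Ideal Cfsg.AlgInt) (hM : Cfsg.IsPModular p M) : (∀ χ : Cfsg.IrrCharacter G, χ ∈ Cfsg.principalBlock M G → ¬ p ∣ Cfsg.charDegree (χ : G → ℂ) → (χ : G → ℂ) = fun _ => (1 : ℂ)) ↔ ¬ p ∣ Nat.card G := by
  classical
  have := Fintype.ofFinite G
  have := Fintype.ofFinite (IrrCharacter G)
  have hP := Cfsg.Agent.Lib.H23.isPrime_of_isPModular hM
  have hp := Cfsg.Agent.Lib.H23.prime_of_isPModular hM
  let χ₀ : IrrCharacter G := ⟨(1 : G → ℂ), Cfsg.Agent.Lib.L0.isIrrCharacter_one⟩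
  have hB : principalBlock M G = blockOf M (χ₀ : G → ℂ) := rfl
  have hd0 : charDegree (χ₀ : G → ℂ) = 1 := by
    apply Cfsg.Agent.Lib.H23.charDegree_eq_of_apply_one (n := 1)
    simp [χ₀]
  constructor
  · intro h hdvd
    -- Osima
    have hz := Cfsg.Agent.Lib.H23.memLocalRing_blockCoeff hM χ₀ (1 : G)
    rw [Cfsg.Agent.Lib.H23.blockCoeff_eq_sum] at hz
    -- the sum of squares of degrees
    have hsum : ∑ χ : IrrCharacter G, (if χ ∈ blockOf M (χ₀ : G → ℂ) then
        (χ : G → ℂ) 1 * (starRingEnd ℂ) ((χ : G → ℂ) 1) else 0) =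
        ((∑ χ : IrrCharacter G, (if χ ∈ blockOf M (χ₀ : G → ℂ) then
          charDegree (χ : G → ℂ) ^ 2 else 0) : ℕ) : ℂ) := by
      push_cast
      refine Finset.sum_congr rfl (fun χ _ => ?_)
      split_ifs
      · rw [Cfsg.Agent.Lib.H23.apply_one_eq_charDegree (χ : G → ℂ) χ.2, Complex.conj_natCast]
        push_cast
        ring
      · simp
    rw [hsum] at hz
    set S : ℕ := ∑ χ : IrrCharacter G, (if χ ∈ blockOf M (χ₀ : G → ℂ) then
          charDegree (χ : G → ℂ) ^ 2 else 0) with hS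
    have hG0 : (Nat.card G : ℂ) ≠ 0 := by exact_mod_cast (Nat.card_pos (α := G)).ne'
    have hGM : MemLocalIdeal M (Nat.card G : ℂ) :=
      (Cfsg.Agent.Lib.H23.natCast_memLocalIdeal_iff hM _).mpr hdvd
    have hSM : MemLocalIdeal M (S : ℂ) := by
      have h1 := Cfsg.Agent.Lib.H23.memLocalIdeal_mul_left hz hGM
      have h2 : (Nat.card G : ℂ)⁻¹ * (S : ℂ) * (Nat.card G : ℂ) = (S : ℂ) := by
        field_simp
      rwa [h2] at h1
    have hpS : p ∣ S := (Cfsg.Agent.Lib.H23.natCast_memLocalIdeal_iff hM _).mp hSM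
    -- but S ≡ 1 mod p
    have hχ₀mem : χ₀ ∈ blockOf M (χ₀ : G → ℂ) := by
      intro g
      rw [sub_self]
      exact Cfsg.Agent.Lib.H23.memLocalIdeal_zero hP.ne_top
    have hsplit : S = 1 + ∑ χ ∈ Finset.univ.erase χ₀, (if χ ∈ blockOf M (χ₀ : G → ℂ) then
          charDegree (χ : G → ℂ) ^ 2 else 0) := by
      rw [hS, ← Finset.add_sum_erase _ _ (Finset.mem_univ χ₀), if_pos hχ₀mem, hd0, one_pow]
    have hrest : p ∣ ∑ χ ∈ Finset.univ.erase χ₀, (if χ ∈ blockOf M (χ₀ : G → ℂ) then
          charDegree (χ : G → ℂ) ^ 2 else 0) := by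
      apply Finset.dvd_sum
      intro χ hχ
      split_ifs with hmem
      · by_cases hpd : p ∣ charDegree (χ : G → ℂ)
        · exact dvd_pow hpd two_ne_zero
        · exfalso
          have h1 := h χ (hB ▸ hmem) hpd
          exact (Finset.mem_erase.mp hχ).1 (Subtype.ext h1)
      · exact dvd_zero _
    have h1 : p ∣ 1 := by
      have := (Nat.dvd_add_right hrest).mp (by rw [add_comm, ← hsplit]; exact hpS)
      exact this
    exact hp.one_lt.ne' (Nat.dvd_one.mp h1)
  · intro hnd χ hχ _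
    have h1 : ¬ p ∣ Nat.card G / charDegree (χ₀ : G → ℂ) := by
      rw [hd0, Nat.div_one]
      exact hnd
    have h2 := (Cfsg.Agent.Lib.H23.not_dvd_iff_blockOf_eq_singleton hM χ₀).mp h1
    rw [hB, h2] at hχ
    have h3 : χ = χ₀ := hχ
    rw [h3]
    rfl

end Cfsg.Agent.S4916
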