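import Cfsg.Statements.S4923
import Cfsg.Agent.Lib.H27.FVGEN
import Cfsg.Agent.Lib.H8.FVPREP
import Cfsg.Agent.Lib.H14.FVGTF
import Cfsg.Agent.Lib.H20.FVGTB
import Cfsg.Agent.Lib.H20.FVN3

/-! S4923 (helper27 architect): Sylow 2-subgroup `P` of order `2^n ≥ 8` has `|P : P'| = 4` iff some
`g ∈ P` of even class size has field of values `ℚ(ζ + ζ⁻¹)` or `ℚ(ζ - ζ⁻¹)`.
Pieces: BRIDGE/QUAD (helper6, helper5), FVGEN (helper27), NC/PREP (helper8), GTF (helper14),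
GTB/N3 (helper20).  Blueprint `tools/blueprints/S4923.md`. -/

set_option autoImplicit false
open Cfsg

namespace Cfsg.Agent.S4923

section arith

/-- `2^(n-1) = 2 * 2^(n-2)` for `n ≥ 2`. -/
theorem two_pow_pred {n : ℕ} (hn : 2 ≤ n) : 2 ^ (n - 1) = 2 * 2 ^ (n - 2) := by
  obtain ⟨k, rfl⟩ : ∃ k, n = k + 2 := ⟨n - 2, by omega⟩
  simp [pow_succ, mul_comm]

theorem neg_one_unit_val (m : ℕ) [NeZero m] (hm : 2 ≤ m) :
    (((-1 : (ZMod m)ˣ) : (ZMod m)ˣ) : ZMod m).val = m - 1 := by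
  obtain ⟨k, rfl⟩ : ∃ k, m = k + 1 := ⟨m - 1, by omega⟩
  rw [Units.val_neg, Units.val_one, ZMod.val_neg_one]
  simp

theorem unit_val_eq (m E : ℕ) [NeZero m] (hE : E < m) (hc : Nat.Coprime E m) :
    ((ZMod.unitOfCoprime E hc : (ZMod m)ˣ) : ZMod m).val = E := by
  rw [ZMod.coe_unitOfCoprime, ZMod.val_natCast, Nat.mod_eq_of_lt hE]

theorem unit_eq_iff_val (m : ℕ) [NeZero m] (u v : (ZMod m)ˣ) :
    u = v ↔ (u : ZMod m).val = (v : ZMod m).val := by
  constructor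
  · rintro rfl; rfl
  · intro h; exact Units.ext (ZMod.val_injective m h)

theorem one_unit_val (m : ℕ) [NeZero m] (hm : 2 ≤ m) :
    ((1 : (ZMod m)ˣ) : ZMod m).val = 1 := by
  haveI : Fact (1 < m) := ⟨by omega⟩
  rw [Units.val_one, ZMod.val_one]

end arith

section grp

variable {G : Type*} [Group G]

theorem pow_unit_eq_iff (m : ℕ) [NeZero m] (g : G) (hg : orderOf g = m) (k k' : (ZMod m)ˣ) :
    g ^ (k : ZMod m).val = g ^ (k' : ZMod m).val ↔ k = k' := by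
  rw [pow_eq_pow_iff_modEq, hg, unit_eq_iff_val]
  constructor
  · intro h
    have h1 := ZMod.val_lt (k : ZMod m)
    have h2 := ZMod.val_lt (k' : ZMod m)
    exact Nat.ModEq.eq_of_lt_of_lt h h1 h2
  · intro h; rw [h]

end grp


section main

theorem zeta_pow_pred (m : ℕ) (hm : 1 ≤ m) (ζ : ℂ) (hζ : IsPrimitiveRoot ζ m) :
    ζ ^ (m - 1) = ζ⁻¹ := by
  apply eq_inv_of_mul_eq_one_left
  rw [← pow_succ, Nat.sub_add_cancel hm, hζ.pow_eq_one]

theorem zeta_pow_half (h : ℕ) (hh : 1 ≤ h) (ζ : ℂ) (hζ : IsPrimitiveRoot ζ (2 * h)) :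
    ζ ^ h = -1 := by
  have h1 : (ζ ^ h) ^ 2 = 1 := by rw [← pow_mul, mul_comm, hζ.pow_eq_one]
  rcases sq_eq_one_iff.mp h1 with h2 | h2
  · exfalso
    exact hζ.pow_ne_one_of_pos_of_lt (by omega) (by omega) h2
  · exact h2

theorem zeta_pow_half_pred (h : ℕ) (hh : 1 ≤ h) (ζ : ℂ) (hζ : IsPrimitiveRoot ζ (2 * h)) :
    ζ ^ (h - 1) = -ζ⁻¹ := by
  have hz : ζ ≠ 0 := hζ.ne_zero (by omega)
  have h1 : ζ ^ (h - 1) * ζ = -1 := by
    rw [← pow_succ, Nat.sub_add_cancel hh, zeta_pow_half h hh ζ hζ]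
  field_simp
  linear_combination h1

theorem result {G : Type*} [Group G] [Finite G] (P : Sylow 2 G) (n : ℕ) (hn : 3 ≤ n) (hP : Nat.card P = 2 ^ n) (ζ : ℂ) (hζ : IsPrimitiveRoot ζ (2 ^ (n - 1))) :
    (commutator ↥P).index = 4 ↔
      ∃ g : G, g ∈ (P : Subgroup G) ∧ 2 ∣ (Subgroup.centralizer ({g} : Set G)).index ∧
        (IntermediateField.adjoin ℚ {z : ℂ | ∃ χ : Cfsg.IrrCharacter G, (χ : G → ℂ) g = z} = IntermediateField.adjoin ℚ ({ζ + ζ⁻¹} : Set ℂ) ∨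
          IntermediateField.adjoin ℚ {z : ℂ | ∃ χ : Cfsg.IrrCharacter G, (χ : G → ℂ) g = z} = IntermediateField.adjoin ℚ ({ζ - ζ⁻¹} : Set ℂ)) := by
  -- notation
  obtain ⟨h, hh, hmh⟩ : ∃ h : ℕ, 2 ≤ h ∧ 2 ^ (n - 1) = 2 * h :=
    ⟨2 ^ (n - 2), by
      calc 2 = 2 ^ 1 := by norm_num
        _ ≤ 2 ^ (n - 2) := Nat.pow_le_pow_right (by norm_num) (by omega), two_pow_pred (by omega)⟩
  have hhdef : h = 2 ^ (n - 2) := by
    have := two_pow_pred (n := n) (by omega)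
    omega
  set m : ℕ := 2 ^ (n - 1) with hmdef
  haveI : NeZero m := ⟨by positivity⟩
  have hm2 : 2 ≤ m := by omega
  have hmeven : Even m := ⟨h, by omega⟩
  have hζ' : IsPrimitiveRoot ζ (2 * h) := hmh ▸ hζ
  -- the two exponents
  have hz1 : ζ ^ (m - 1) = ζ⁻¹ := zeta_pow_pred m (by omega) ζ hζ
  have hz2 : ζ ^ (h - 1) = -ζ⁻¹ := zeta_pow_half_pred h (by omega) ζ hζ'
  have hzne : ζ ≠ 0 := hζ.ne_zero (by omega)
  -- the unit ε₁ = -1
  have hval1 : (((-1 : (ZMod m)ˣ) : (ZMod m)ˣ) : ZMod m).val = m - 1 := neg_one_unit_val m hm2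
  have hq1 : (ζ * ζ ^ (((-1 : (ZMod m)ˣ) : (ZMod m)ˣ) : ZMod m).val) ^ 2 = 1 := by
    rw [hval1, hz1, mul_inv_cancel₀ hzne, one_pow]
  -- the unit ε₂ = h - 1
  have hodd : Odd (h - 1) := by
    rcases Nat.lt_or_ge n 4 with h4 | h4
    · have : n = 3 := by omega
      subst this
      have : h = 2 := by rw [hhdef]; norm_num
      rw [this]; decide
    · obtain ⟨j, rfl⟩ : ∃ j, n = j + 4 := ⟨n - 4, by omega⟩
      have : h = 2 * (2 * 2 ^ j) := by
        rw [hhdef]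
        have : j + 4 - 2 = j + 2 := by omega
        rw [this, pow_succ, pow_succ]; ring
      rw [this]
      exact ⟨2 * 2 ^ j - 1, by have : 1 ≤ 2 ^ j := Nat.one_le_two_pow; omega⟩
  have hc2 : Nat.Coprime (h - 1) m := by
    rw [hmdef]
    exact Nat.Coprime.pow_right _ (Nat.coprime_two_right.mpr hodd)
  have hval2 : ((ZMod.unitOfCoprime (h - 1) hc2 : (ZMod m)ˣ) : ZMod m).val = h - 1 :=
    unit_val_eq m (h - 1) (by omega) hc2
  have hε2 : ZMod.unitOfCoprime (h - 1) hc2 * ZMod.unitOfCoprime (h - 1) hc2 = 1 := by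
    obtain ⟨i, hi⟩ : ∃ i, h = 2 * i + 2 := by
      obtain ⟨j, rfl⟩ : ∃ j, n = j + 3 := ⟨n - 3, by omega⟩
      refine ⟨2 ^ j - 1, ?_⟩
      have h1 : 1 ≤ 2 ^ j := Nat.one_le_two_pow
      have h2 : j + 3 - 2 = j + 1 := by omega
      rw [hhdef, h2, pow_succ]; omega
    have e : (h - 1) * (h - 1) = 1 + m * i := by
      have h1 : h - 1 = 2 * i + 1 := by omega
      rw [h1, hmh, hi]; ring
    apply Units.ext
    rw [Units.val_mul, ZMod.coe_unitOfCoprime, Units.val_one]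
    calc ((h - 1 : ℕ) : ZMod m) * ((h - 1 : ℕ) : ZMod m)
        = (((h - 1) * (h - 1) : ℕ) : ZMod m) := by push_cast; ring
      _ = ((1 + m * i : ℕ) : ZMod m) := by rw [e]
      _ = 1 := by push_cast; simp
  have hq2 : (ζ * ζ ^ ((ZMod.unitOfCoprime (h - 1) hc2 : (ZMod m)ˣ) : ZMod m).val) ^ 2 = 1 := by
    rw [hval2, hz2, mul_neg, mul_inv_cancel₀ hzne]; norm_num
  have hone : ((1 : (ZMod m)ˣ) : ZMod m).val = 1 := one_unit_val m hm2
  have hh2 : 2 ^ (n - 2) = h := hhdef.symm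
  constructor
  · -- forward
    intro h4
    obtain ⟨g, hgP, hog, hidx, E, hE, hconj⟩ := Cfsg.Agent.Lib.H14.FV.gt_forward P n hn hP h4
    rw [← hmdef] at hog
    rw [← hmdef, hh2] at hE
    have hgm : g ^ m = 1 := by rw [← hog]; exact pow_orderOf_eq_one g
    refine ⟨g, hgP, hidx, ?_⟩
    have e1 : ∀ k : (ZMod m)ˣ, g ^ (k : ZMod m).val = g ↔ k = 1 := by
      intro k
      have := pow_unit_eq_iff m g hog k 1
      rwa [hone, pow_one] at this
    rcases hE with rfl | ⟨_, rfl⟩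
    · left
      have key := (Cfsg.Agent.Lib.H27.FV.fv_gen m hmeven g hgm ζ hζ (-1) (by simp) hq1).mpr
      rw [hval1, hz1] at key
      apply key
      intro k
      rw [hconj, e1]
      have e2 := pow_unit_eq_iff m g hog k (-1)
      rw [hval1] at e2
      rw [e2]
    · right
      have key := (Cfsg.Agent.Lib.H27.FV.fv_gen m hmeven g hgm ζ hζ (ZMod.unitOfCoprime (h - 1) hc2) hε2 hq2).mpr
      rw [hval2, hz2, ← sub_eq_add_neg] at key
      apply key
      intro k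
      rw [hconj, e1]
      have e2 := pow_unit_eq_iff m g hog k (ZMod.unitOfCoprime (h - 1) hc2)
      rw [hval2] at e2
      rw [e2]
  · -- backward
    rintro ⟨g, hgP, hidx, hfield⟩
    rcases Nat.lt_or_ge n 4 with hn4 | hn4
    · have : n = 3 := by omega
      subst this
      exact Cfsg.Agent.Lib.H20.FV.n3_backward P hP g hgP hidx
    have hgm : g ^ m = 1 := Cfsg.Agent.Lib.H8.FV.pow_eq_one_of_even_index P n (by omega) hP g hgP hidx
    -- conversion of the unit statement into the statement about odd exponents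
    have conv : ∀ (ε : (ZMod m)ˣ) (E : ℕ), (ε : ZMod m).val = E →
        (∀ k : (ZMod m)ˣ, IsConj (g ^ (k : ZMod m).val) g ↔ (k = 1 ∨ k = ε)) →
        ∀ k : ℕ, Odd k → (IsConj (g ^ k) g ↔ (k % m = 1 ∨ k % m = E)) := by
      intro ε E hεE H k hk
      have hc : Nat.Coprime k m := by
        rw [hmdef]
        exact Nat.Coprime.pow_right _ (Nat.coprime_two_right.mpr hk)
      have hu : ((ZMod.unitOfCoprime k hc : (ZMod m)ˣ) : ZMod m).val = k % m := by
        rw [ZMod.coe_unitOfCoprime, ZMod.val_natCast]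
      have := H (ZMod.unitOfCoprime k hc)
      rw [hu, ← pow_eq_pow_mod k hgm, unit_eq_iff_val, unit_eq_iff_val m _ ε, hu, hone,
        hεE] at this
      exact this
    rcases hfield with hf | hf
    · rw [← hz1, ← hval1] at hf
      have H := (Cfsg.Agent.Lib.H27.FV.fv_gen m hmeven g hgm ζ hζ (-1) (by simp) hq1).mp hf
      exact Cfsg.Agent.Lib.H20.FV.gt_backward P n hn4 hP g hgP hgm hidx (m - 1) (Or.inl rfl)
        (conv (-1) (m - 1) hval1 H)
    · rw [sub_eq_add_neg, ← hz2, ← hval2] at hf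
      have H := (Cfsg.Agent.Lib.H27.FV.fv_gen m hmeven g hgm ζ hζ _ hε2 hq2).mp hf
      exact Cfsg.Agent.Lib.H20.FV.gt_backward P n hn4 hP g hgP hgm hidx (h - 1) (Or.inr (by rw [hh2]))
        (conv _ (h - 1) hval2 H)

end main

end Cfsg.Agent.S4923
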