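import Cfsg.Statements.S4930
import Cfsg.Agent.Lib.H9.ODP1
import Cfsg.Agent.Lib.H6.ODP2
import Cfsg.Agent.Lib.H25.OD3C
import Cfsg.Agent.Lib.H21.OD4
import Cfsg.Agent.Lib.H24.ODP3AB
import Cfsg.Agent.Lib.H24.ODP4C

set_option autoImplicit false
open Cfsg

namespace Cfsg.Agent.S4930

/-- Isomorphic groups have commutator subgroups of the same order. -/
theorem card_commutator_congr {A B : Type*} [Group A] [Group B] (e : A ≃* B) :
    Nat.card (commutator A) = Nat.card (commutator B) := by
  have h : (commutator A).map e.toMonoidHom = commutator B := by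
    rw [commutator_def, Subgroup.map_commutator, ← MonoidHom.range_eq_map, commutator_def]
    have : e.toMonoidHom.range = ⊤ := MonoidHom.range_eq_top.mpr e.surjective
    rw [this]
  rw [← h]
  exact Nat.card_congr (Subgroup.equivMapOfInjective _ _ e.injective).toEquiv

/-- Let G be a finite group, P a Sylow 2-subgroup of G with normalizer N, and P′ the commutator subgroup of P. Then the sum of the squares of the degrees of the irreducible complex characters of G of odd degree is at least the index of P′ in N (the order of N divided by the order of P′), and equality holds if and only if N has a normal complement in G: a normal subgroup K of G with K ∩ N = 1 and KN = G. -/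
theorem result {G : Type*} [Group G] [Finite G] (P : Sylow 2 G) :
    Nat.card (Subgroup.normalizer ((P : Subgroup G) : Set G)) ≤ Nat.card (commutator ↥P) * (∑ᶠ χ : {χ : Cfsg.IrrCharacter G // ¬ 2 ∣ Cfsg.charDegree (χ : G → ℂ)}, Cfsg.charDegree (χ.1 : G → ℂ) ^ 2) ∧
    (Nat.card (Subgroup.normalizer ((P : Subgroup G) : Set G)) = Nat.card (commutator ↥P) * (∑ᶠ χ : {χ : Cfsg.IrrCharacter G // ¬ 2 ∣ Cfsg.charDegree (χ : G → ℂ)}, Cfsg.charDegree (χ.1 : G → ℂ) ^ 2) ↔
      ∃ K : Subgroup G, K.Normal ∧ K ⊓ Subgroup.normalizer ((P : Subgroup G) : Set G) = ⊥ ∧ K ⊔ Subgroup.normalizer ((P : Subgroup G) : Set G) = ⊤) := by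
  classical
  have hPN : (P : Subgroup G) ≤ Subgroup.normalizer ((P : Subgroup G) : Set G) := Subgroup.le_normalizer
  haveI hQn : ((P : Subgroup G).subgroupOf (Subgroup.normalizer ((P : Subgroup G) : Set G))).Normal :=
    Subgroup.normal_in_normalizer
  have hQ : IsPGroup 2 ((P : Subgroup G).subgroupOf (Subgroup.normalizer ((P : Subgroup G) : Set G))) :=
    P.isPGroup'.comap_subtype
  have hPidx : ¬ 2 ∣ (P : Subgroup G).index := P.not_dvd_index
  have hidx : ¬ 2 ∣ ((P : Subgroup G).subgroupOf
      (Subgroup.normalizer ((P : Subgroup G) : Set G))).index := fun h =>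
    hPidx (dvd_trans h (Subgroup.relIndex_dvd_index_of_le hPN))
  have hNidx : ¬ 2 ∣ (Subgroup.normalizer ((P : Subgroup G) : Set G)).index := fun h =>
    hPidx (dvd_trans h (Subgroup.index_dvd_of_le hPN))
  have hcard : Nat.card (commutator ↥((P : Subgroup G).subgroupOf
      (Subgroup.normalizer ((P : Subgroup G) : Set G)))) = Nat.card (commutator ↥P) :=
    card_commutator_congr (Subgroup.subgroupOfEquivOfLe hPN)
  have h1 := Cfsg.Agent.Lib.H9.OD.card_eq_mul_oddSq
    ((P : Subgroup G).subgroupOf (Subgroup.normalizer ((P : Subgroup G) : Set G))) hQ hidx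
  rw [hcard] at h1
  have h2 := Cfsg.Agent.Lib.H6.OD.oddSq_le (Subgroup.normalizer ((P : Subgroup G) : Set G)) hNidx
  have hpos : 0 < Nat.card (commutator ↥P) := Nat.card_pos
  refine ⟨?_, ?_, ?_⟩
  · rw [h1]
    exact Nat.mul_le_mul_left _ h2
  · intro heq
    rw [h1] at heq
    have heq' := Nat.eq_of_mul_eq_mul_left hpos heq
    have hext := fun ψ hψ => Cfsg.Agent.Lib.H6.OD.extends_of_oddSq_eq
      (Subgroup.normalizer ((P : Subgroup G) : Set G)) hNidx heq' ψ hψ
    obtain ⟨K0, hK0n, hK0P, hK0⟩ := Cfsg.Agent.Lib.H21.OD.exists_K0 P hext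
    haveI := hK0n
    obtain ⟨hK0L, hNL⟩ := Cfsg.Agent.Lib.H21.OD.le_normalClosure_and_inf_eq P K0 hK0
    haveI : Fact (Nat.Prime 2) := ⟨Nat.prime_two⟩
    exact Cfsg.Agent.Lib.H24.OD.exists_normal_complement_of_focal P
      (Subgroup.normalClosure (((P : Subgroup G) : Set G))) K0 Subgroup.subset_normalClosure hK0L hNL hK0P
  · rintro ⟨K, hKn, hKN, hKN'⟩
    haveI := hKn
    have htriv := fun χ hχ => Cfsg.Agent.Lib.H24.OD.odd_trivial_on_complement P K hKN χ hχ
    have h3 := Cfsg.Agent.Lib.H25.OD.sum_sq_eq_of_complement 2 K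
      (Subgroup.normalizer ((P : Subgroup G) : Set G)) hKN hKN' htriv
    rw [h1, h3]

end Cfsg.Agent.S4930
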