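import Cfsg.Statements.S4931
import Cfsg.Agent.Lib.H20.SNCEASY
import Cfsg.Agent.Lib.H20.SNCX
import Cfsg.Agent.Lib.H20.SNCGRP
import Cfsg.Agent.Lib.H29.SNCCH0
import Cfsg.Agent.Lib.H29.SNCCH1
-- import your own Cfsg.Agent.* helpers here

set_option autoImplicit false
open Cfsg

namespace Cfsg.Agent.S4931

open Cfsg.Agent.Lib.H20.SNC Cfsg.Agent.Lib.H29.SNC

/-- Let G be a finite group, p a prime and P a Sylow p-subgroup of G with normalizer N. Then every irreducible complex character of N of degree not divisible by p is the restriction of an irreducible character of G if and only if there is a normal subgroup K of G with KN = G and K ∩ N = 1. -/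
theorem result {G : Type*} [Group G] [Finite G] (p : ℕ) [Fact p.Prime] (P : Sylow p G) :
    (∀ θ : Cfsg.IrrCharacter ↥(Subgroup.normalizer ((P : Subgroup G) : Set G)), ¬ p ∣ Cfsg.charDegree (θ : ↥(Subgroup.normalizer ((P : Subgroup G) : Set G)) → ℂ) →
        ∃ χ : Cfsg.IrrCharacter G, ∀ x : ↥(Subgroup.normalizer ((P : Subgroup G) : Set G)), (χ : G → ℂ) x = (θ : ↥(Subgroup.normalizer ((P : Subgroup G) : Set G)) → ℂ) x) ↔
      ∃ K : Subgroup G, K.Normal ∧ K ⊔ Subgroup.normalizer ((P : Subgroup G) : Set G) = ⊤ ∧ K ⊓ Subgroup.normalizer ((P : Subgroup G) : Set G) = ⊥ := by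
  obtain ⟨H, hH⟩ : ∃ H : Subgroup G, H = Subgroup.normalizer ((P : Subgroup G) : Set G) := ⟨_, rfl⟩
  rw [← hH]
  constructor
  · intro hext
    have hPH : (P : Subgroup G) ≤ H := hH ▸ Subgroup.le_normalizer
    obtain ⟨Q, hQ⟩ : ∃ Q : Subgroup ↥H, Q = (P : Subgroup G).subgroupOf H := ⟨_, rfl⟩
    have hQn : Q.Normal := by
      rw [hQ]; subst hH; exact Subgroup.normal_in_normalizer
    have hQmem : ∀ x : ↥H, x ∈ Q ↔ (x : G) ∈ (P : Subgroup G) := by
      intro x; rw [hQ, Subgroup.mem_subgroupOf]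
    have hidx : ¬ p ∣ Q.index := by
      intro hdvd
      have h1 : Q.index ∣ (P : Subgroup G).index := by
        rw [hQ]; exact Subgroup.relIndex_dvd_index_of_le hPH
      exact P.not_dvd_index (dvd_trans hdvd h1)
    have hmap : Q.map H.subtype = (P : Subgroup G) := by
      rw [hQ]; exact Subgroup.map_subgroupOf_eq_of_le hPH
    have hDmem : ∀ x : ↥H, x ∈ ⁅Q, Q⁆ ↔ (x : G) ∈ ⁅(P : Subgroup G), (P : Subgroup G)⁆ := by
      intro x
      have h1 : (⁅Q, Q⁆).map H.subtype = ⁅(P : Subgroup G), (P : Subgroup G)⁆ := by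
        rw [Subgroup.map_commutator, hmap]
      rw [← h1]
      constructor
      · intro hx; exact ⟨x, hx, rfl⟩
      · rintro ⟨y, hy, hyx⟩
        have : y = x := Subtype.ext hyx
        rwa [← this]
    have hDP : ⁅(P : Subgroup G), (P : Subgroup G)⁆ ≤ (P : Subgroup G) := by
      rw [Subgroup.commutator_le]
      intro a ha b hb
      exact (P : Subgroup G).mul_mem ((P : Subgroup G).mul_mem ((P : Subgroup G).mul_mem ha hb)
        ((P : Subgroup G).inv_mem ha)) ((P : Subgroup G).inv_mem hb)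
    obtain ⟨G₂, hG₂n, hG₂⟩ := exists_normal_inf_eq H (P : Subgroup G) hPH
      {θ | ¬ p ∣ charDegree (θ : ↥H → ℂ) ∧ ∀ m ∈ Q, (θ : ↥H → ℂ) m = (θ : ↥H → ℂ) 1}
      (fun θ hθ => by subst hH; exact hext θ hθ.1)
      (fun θ hθ x hx => hθ.2 x ((hQmem x).mpr hx))
      (fun x hx => by
        obtain ⟨θ, h1, h2, h3⟩ := exists_irr_sep_sylow p Q hidx x (fun h => hx ((hQmem x).mp h))
        exact ⟨θ, ⟨h1, h2⟩, h3⟩)
    obtain ⟨K₁, hK₁n, hK₁⟩ := exists_normal_inf_eq H ⁅(P : Subgroup G), (P : Subgroup G)⁆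
      (hDP.trans hPH)
      {θ | ¬ p ∣ charDegree (θ : ↥H → ℂ) ∧ ∀ m ∈ ⁅Q, Q⁆, (θ : ↥H → ℂ) m = (θ : ↥H → ℂ) 1}
      (fun θ hθ => by subst hH; exact hext θ hθ.1)
      (fun θ hθ x hx => hθ.2 x ((hDmem x).mpr hx))
      (fun x hx => by
        obtain ⟨θ, h1, h2, h3⟩ := exists_irr_sep_derived p Q hidx x (fun h => hx ((hDmem x).mp h))
        exact ⟨θ, ⟨h1, h2⟩, h3⟩)
    have hK₁P : K₁ ⊓ (P : Subgroup G) = ⁅(P : Subgroup G), (P : Subgroup G)⁆ := by
      apply le_antisymm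
      · calc K₁ ⊓ (P : Subgroup G) ≤ K₁ ⊓ H := inf_le_inf_left _ hPH
          _ = ⁅(P : Subgroup G), (P : Subgroup G)⁆ := hK₁
      · refine le_inf ?_ hDP
        rw [← hK₁]; exact inf_le_left
    have := hG₂n
    have := hK₁n
    subst hH
    exact exists_normal_complement_of_cores p P G₂ K₁ hG₂ hK₁P
  · rintro ⟨K, hKn, hsup, hinf⟩ θ _
    have := hKn
    exact extends_of_normal_complement H K hsup hinf θ

end Cfsg.Agent.S4931
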