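import Cfsg.Statements.S4937
import Cfsg.Agent.Lib.H21.AD.Defs
import Cfsg.Agent.Lib.H21.AD.IRR
import Cfsg.Agent.Lib.H23.ADBR
import Cfsg.Agent.Lib.H24.CharLinearMul
import Cfsg.Agent.Lib.H4.ADCOSET
import Cfsg.Agent.Lib.H4.ADEND1
import Cfsg.Agent.Lib.H6.ADLC4

set_option autoImplicit false
open Cfsg

namespace Cfsg.Agent.S4937

open Cfsg.Agent.Lib.H21.AD

theorem sSum_congr {G : Type*} [Group G] (p : ℕ) (J : Subgroup G) (f f' : G → ℂ)
    (h : ∀ g ∈ J, f g = f' g) : sSum p J f = sSum p J f' := by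
  classical
  unfold sSum
  refine finsum_congr (fun g => ?_)
  by_cases hg : g ∈ J ∧ ¬ p ∣ orderOf g
  · rw [if_pos hg, if_pos hg, h g hg.1]
  · rw [if_neg hg, if_neg hg]

theorem sSum_top {G : Type*} [Group G] (p : ℕ) (f : G → ℂ) :
    sSum p (⊤ : Subgroup G) f = ∑ᶠ x : G, if p ∣ orderOf x then 0 else f x := by
  classical
  unfold sSum
  refine finsum_congr (fun g => ?_)
  by_cases hg : p ∣ orderOf g
  · rw [if_neg (fun h => h.2 hg), if_pos hg]
  · rw [if_pos ⟨Subgroup.mem_top g, hg⟩, if_neg hg]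


/-- Let G be a finite group, p a prime, M a maximal ideal of the algebraic integers containing p, N a normal subgroup of G and P a Sylow p-subgroup of N such that G = N·C_G(P). Let θ be an irreducible character in the principal p-block of N that is the restriction of some irreducible character of G. Then θ is the restriction of an irreducible character χ of G lying in the principal p-block of G such that, for every subgroup J of G containing N, the restriction of χ to J is an irreducible character of J lying in the principal p-block of J. -/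
theorem result {G : Type*} [Group G] [Finite G] (p : ℕ) [Fact p.Prime] (M : Ideal Cfsg.AlgInt) (hM : Cfsg.IsPModular p M) (N : Subgroup G) [N.Normal] (P : Sylow p ↥N)
    (hcov : N ⊔ Subgroup.centralizer (((P : Subgroup ↥N).map N.subtype : Subgroup G) : Set G) = ⊤)
    (θ : Cfsg.IrrCharacter ↥N) (hθ : θ ∈ Cfsg.principalBlock M ↥N)
    (hext : ∃ ψ : Cfsg.IrrCharacter G, ∀ x : ↥N, (ψ : G → ℂ) x = (θ : ↥N → ℂ) x) :
    ∃ χ : Cfsg.IrrCharacter G, χ ∈ Cfsg.principalBlock M G ∧ (∀ x : ↥N, (χ : G → ℂ) x = (θ : ↥N → ℂ) x) ∧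
      ∀ J : Subgroup G, N ≤ J → ∃ ξ : Cfsg.IrrCharacter ↥J, ξ ∈ Cfsg.principalBlock M ↥J ∧ ∀ y : ↥J, (ξ : ↥J → ℂ) y = (χ : G → ℂ) y := by
  obtain ⟨ψ, hψθ⟩ := hext
  set Q : Subgroup G := (P : Subgroup N).map N.subtype with hQdef
  have hQN : Q ≤ N := Subgroup.map_subtype_le _
  have hQ : ¬ p ∣ Q.relIndex N := by
    have h1 : Q.subgroupOf N = (P : Subgroup N) := by
      ext x
      rw [Subgroup.mem_subgroupOf, hQdef]
      constructor
      · rintro ⟨y, hy, hyx⟩
        have : y = x := Subtype.ext hyx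
        rw [← this]; exact hy
      · intro hx
        exact ⟨x, hx, rfl⟩
    rw [Subgroup.relIndex, h1]
    exact P.not_dvd_index
  have hcov' : ∀ g : G, ∃ n ∈ N, ∃ c ∈ Subgroup.centralizer (Q : Set G), g = n * c := by
    intro g
    have hg : g ∈ N ⊔ Subgroup.centralizer (Q : Set G) := by rw [hcov]; exact Subgroup.mem_top g
    obtain ⟨n, hn, c, hc, h⟩ := Subgroup.mem_sup_of_normal_left.1 hg
    exact ⟨n, hn, c, hc, h.symm⟩
  have hψN : IsIrrCharacter N (fun n : N => (ψ : G → ℂ) n) := by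
    have h : (fun n : N => (ψ : G → ℂ) n) = (θ : N → ℂ) := funext hψθ
    rw [h]; exact θ.2
  have hθ' : sSum p N (ψ : G → ℂ) ≠ 0 := by
    rw [← Cfsg.Agent.Lib.H23.AD.br hM N (ψ : G → ℂ) hψN]
    have h : (⟨fun n : N => (ψ : G → ℂ) n, hψN⟩ : IrrCharacter N) = θ := Subtype.ext (funext hψθ)
    rw [h]; exact hθ
  obtain ⟨lam, hlamN, hlam⟩ := Cfsg.Agent.Lib.H6.AD.exists_lam hM N Q hQN hQ hcov' (ψ : G → ℂ) ψ.2 hψN hθ'
  set χf : G → ℂ := fun g => (ψ : G → ℂ) g * (lam g : ℂ) with hχf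
  have hχirr : IsIrrCharacter G χf := Cfsg.Agent.Lib.H24.isIrrCharacter_mul_hom (ψ : G → ℂ) ψ.2 lam
  have hχN : ∀ x : N, χf x = (θ : N → ℂ) x := fun x => by
    rw [hχf]
    show (ψ : G → ℂ) x * (lam x : ℂ) = _
    rw [hlamN x x.2, hψθ x]; simp
  have hmain : ∀ J : Subgroup G, N ≤ J → sSum p J χf ≠ 0 := by
    intro J hNJ
    obtain ⟨k, hk, hsum⟩ := Cfsg.Agent.Lib.H4.AD.coset_count p N J hNJ χf
      (fun y _ hyp => Cfsg.Agent.Lib.H4.AD.coset_const hM N Q hQN hQ hcov' (ψ : G → ℂ) ψ.2 hψN lam hlamN hlam y hyp)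
    rw [hsum]
    have h1 : sSum p N χf = sSum p N (ψ : G → ℂ) := by
      apply sSum_congr
      intro g hg
      rw [hχf]
      show (ψ : G → ℂ) g * (lam g : ℂ) = _
      rw [hlamN g hg]; simp
    rw [h1]
    exact mul_ne_zero (Nat.cast_ne_zero.2 hk.ne') hθ'
  refine ⟨⟨χf, hχirr⟩, ?_, hχN, ?_⟩
  · rw [Cfsg.Agent.Lib.H23.AD.br0 hM]
    have := hmain ⊤ le_top
    rwa [sSum_top] at this
  · intro J hNJ
    have htw : IsTwist N J (fun g => (lam g : ℂ)) :=
      ⟨fun a _ b _ => by simp [map_mul], fun n hn => by simp [hlamN n hn]⟩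
    have hJirr : IsIrrCharacter J (fun y : J => χf y) := Cfsg.Agent.Lib.H21.AD.irr_twist N J hNJ (ψ : G → ℂ) ψ.2 hψN _ htw
    exact ⟨⟨fun y : J => χf y, hJirr⟩, (Cfsg.Agent.Lib.H23.AD.br hM J χf hJirr).2 (hmain J hNJ), fun y => rfl⟩

end Cfsg.Agent.S4937
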