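import Cfsg.Statements.S4955
import Cfsg.Agent.Lib.H24.CharQuotCount
import Cfsg.Agent.Lib.H23.ZerosCount
import Cfsg.Agent.Lib.H23.PElementZero
import Cfsg.Agent.Lib.H23.Ito

set_option autoImplicit false
open Cfsg

namespace Cfsg.Agent.S4955

open Cfsg.Agent.Lib.H24 Cfsg.Agent.Lib.L0 Cfsg.Agent.Lib.H23
open scoped ComplexConjugate

/-- Let X be a finite group with an abelian normal Sylow p-subgroup V (a normal p-subgroup of index prime to p in which any two elements commute), and let G be a complement to V in X. Then for every v in V, writing C for the centralizer of v in G, the number k(X) of conjugacy classes of X satisfies k(X) ≤ (order of C)·(order of V) − ((order of G) − k(G)); the statement is written with the subtracted term moved to the left. In particular, if some v in V is centralized by no nonidentity element of G, then k(X) is at most the order of V. -/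
theorem result {X : Type*} [Group X] [Finite X] (p : ℕ) [Fact p.Prime] (V : Subgroup X) [V.Normal] (hVp : IsPGroup p V) (hidx : ¬ p ∣ V.index) (hab : ∀ a ∈ V, ∀ b ∈ V, a * b = b * a) (G : Subgroup X) (hGV : Subgroup.IsComplement' V G) (v : X) (hv : v ∈ V) : Nat.card (ConjClasses X) + Nat.card G ≤ Nat.card ↥(G ⊓ Subgroup.centralizer ({v} : Set X)) * Nat.card V + Nat.card (ConjClasses G) := by
  classical
  have := Fintype.ofFinite X
  have hfinI : Finite (IrrCharacter X) := finite_irr
  have := Fintype.ofFinite (IrrCharacter X)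
  have hcard : NeZero (Nat.card X) := ⟨Nat.card_pos.ne'⟩
  have hU : (0 : ℝ) < Fintype.card (ZMod (Nat.card X))ˣ := by exact_mod_cast Fintype.card_pos
  -- nonvanishing on V
  have hnz : ∀ (χ : IrrCharacter X) (w : X), w ∈ V → (χ : X → ℂ) w ≠ 0 := by
    intro χ w hw h0
    have hord : ∃ j, orderOf w = p ^ j := by
      obtain ⟨j, hj⟩ := (IsPGroup.iff_orderOf.mp hVp) ⟨w, hw⟩
      exact ⟨j, by rw [← hj, Subgroup.orderOf_mk]⟩
    have h1 := prime_dvd_charDegree_of_eq_zero p _ (isCharacter_of_irr χ.2) w hord h0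
    obtain ⟨d, hd, hdvd⟩ := ito_char V hab χ.2
    rw [charDegree_eq_of_apply_one hd] at h1
    exact hidx (h1.trans hdvd)
  set Ac := Finset.univ.filter
    (fun χ : IrrCharacter X => ∀ n ∈ V, (χ : X → ℂ) n = (χ : X → ℂ) 1) with hAc
  set A := Finset.univ.filter
    (fun χ : IrrCharacter X => ¬ ∀ n ∈ V, (χ : X → ℂ) n = (χ : X → ℂ) 1) with hA
  have hAc_card : Ac.card = Nat.card (ConjClasses G) := by
    have h1 := card_irr_le_ker V
    rw [card_conjClasses_congr (hGV.symm.QuotientMulEquiv)] at h1
    rw [← h1, Nat.card_eq_fintype_card, Fintype.card_subtype]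
  have hcardsum : Ac.card + A.card = Nat.card (ConjClasses X) := by
    rw [← card_irr_eq_card_conjClasses, Nat.card_eq_fintype_card, ← Finset.card_univ]
    exact Finset.card_filter_add_card_filter_not _
  -- centralizers of powers
  have hcent : ∀ k : (ZMod (Nat.card X))ˣ,
      Subgroup.centralizer ({v ^ (k : ZMod (Nat.card X)).val} : Set X) =
        Subgroup.centralizer ({v} : Set X) := by
    intro k
    apply le_antisymm
    · intro x hx
      rw [Subgroup.mem_centralizer_iff] at hx ⊢
      intro h hh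
      rw [Set.mem_singleton_iff] at hh
      subst hh
      have h1 : Commute (h ^ (k : ZMod (Nat.card X)).val) x := hx _ rfl
      have h2 := h1.pow_left ((k⁻¹ : (ZMod (Nat.card X))ˣ) : ZMod (Nat.card X)).val
      rw [unit_pow_pow_inv] at h2
      exact h2
    · intro x hx
      rw [Subgroup.mem_centralizer_iff] at hx ⊢
      intro h hh
      rw [Set.mem_singleton_iff] at hh
      subst hh
      have h1 : Commute v x := hx _ rfl
      exact h1.pow_left _
  have hsecond : ∀ k : (ZMod (Nat.card X))ˣ,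
      ∑ χ : IrrCharacter X, ‖(χ : X → ℂ) (v ^ (k : ZMod (Nat.card X)).val)‖ ^ 2 =
        (Nat.card (Subgroup.centralizer ({v} : Set X)) : ℝ) := by
    intro k
    have h2 := second_orthogonality (G := X) (v ^ (k : ZMod (Nat.card X)).val)
      (v ^ (k : ZMod (Nat.card X)).val)
    rw [if_pos (IsConj.refl _), hcent k] at h2
    have h3 : ((∑ χ : IrrCharacter X,
        ‖(χ : X → ℂ) (v ^ (k : ZMod (Nat.card X)).val)‖ ^ 2 : ℝ) : ℂ) =
        ((Nat.card (Subgroup.centralizer ({v} : Set X)) : ℝ) : ℂ) := by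
      push_cast
      rw [← h2]
      refine Finset.sum_congr rfl (fun χ _ => ?_)
      rw [Complex.mul_conj, Complex.normSq_eq_norm_sq]
      push_cast
      rfl
    exact_mod_cast h3
  have hAc_sum : ∀ k : (ZMod (Nat.card X))ˣ,
      ∑ χ ∈ Ac, ‖(χ : X → ℂ) (v ^ (k : ZMod (Nat.card X)).val)‖ ^ 2 = (Nat.card G : ℝ) := by
    intro k
    have h1 := sum_sq_of_le_ker (G := X) V
    have h2 : V.index = Nat.card G := hGV.symm.index_eq_card
    rw [h2] at h1
    rw [← h1]
    push_cast
    refine Finset.sum_congr rfl (fun χ hχ => ?_)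
    have hχ' := (Finset.mem_filter.mp hχ).2
    rw [hχ' _ (V.pow_mem hv _), apply_one_eq_charDegree _ χ.2]
    simp
  have hA_sum : ∀ k : (ZMod (Nat.card X))ˣ,
      ∑ χ ∈ A, ‖(χ : X → ℂ) (v ^ (k : ZMod (Nat.card X)).val)‖ ^ 2 =
        (Nat.card (Subgroup.centralizer ({v} : Set X)) : ℝ) - (Nat.card G : ℝ) := by
    intro k
    rw [← hsecond k, ← hAc_sum k, hAc, hA]
    rw [← Finset.sum_filter_add_sum_filter_not Finset.univ
      (fun χ : IrrCharacter X => ∀ n ∈ V, (χ : X → ℂ) n = (χ : X → ℂ) 1)]
    ring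
  have hlower : (A.card : ℝ) * (Fintype.card (ZMod (Nat.card X))ˣ : ℝ) ≤
      ∑ χ ∈ A, ∑ k : (ZMod (Nat.card X))ˣ,
        ‖(χ : X → ℂ) (v ^ (k : ZMod (Nat.card X)).val)‖ ^ 2 := by
    rw [← nsmul_eq_mul, ← Finset.sum_const]
    refine Finset.sum_le_sum (fun χ _ => ?_)
    obtain ⟨n, ρ, hρ, hχ⟩ := irr_exists_rep χ
    have := card_units_le_sum_normSq_char_pow (Nat.card X) ρ v pow_card_eq_one'
      (by rw [hχ]; exact hnz χ v hv)
    rw [hχ] at this
    exact this
  have hAle : (A.card : ℝ) ≤
      (Nat.card (Subgroup.centralizer ({v} : Set X)) : ℝ) - (Nat.card G : ℝ) := by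
    rw [Finset.sum_comm] at hlower
    simp only [hA_sum, Finset.sum_const, Finset.card_univ, nsmul_eq_mul] at hlower
    rw [mul_comm] at hlower
    exact le_of_mul_le_mul_left hlower hU
  -- the centralizer of v
  have hVle : V ≤ Subgroup.centralizer ({v} : Set X) := by
    intro a ha
    rw [Subgroup.mem_centralizer_iff]
    intro h hh
    rw [Set.mem_singleton_iff] at hh
    subst hh
    exact hab _ hv _ ha
  have hCx : Nat.card (Subgroup.centralizer ({v} : Set X)) ≤
      Nat.card ↥(G ⊓ Subgroup.centralizer ({v} : Set X)) * Nat.card V := by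
    rw [← Nat.card_prod]
    refine Nat.card_le_card_of_surjective
      (fun q : ↥(G ⊓ Subgroup.centralizer ({v} : Set X)) × V =>
        (⟨(q.2 : X) * (q.1 : X), (Subgroup.centralizer _).mul_mem (hVle q.2.2) q.1.2.2⟩ :
          Subgroup.centralizer ({v} : Set X))) ?_
    rintro ⟨x, hx⟩
    obtain ⟨⟨a, g⟩, hag⟩ := hGV.2 x
    have hag' : (a : X) * (g : X) = x := hag
    have hg : (g : X) ∈ Subgroup.centralizer ({v} : Set X) := by
      have : (g : X) = (a : X)⁻¹ * x := by rw [← hag']; group
      rw [this]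
      exact mul_mem (inv_mem (hVle a.2)) hx
    exact ⟨(⟨g, ⟨g.2, hg⟩⟩, ⟨a, a.2⟩), Subtype.ext hag'⟩
  -- conclusion
  have h1 : (A.card : ℝ) + (Nat.card G : ℝ) ≤
      (Nat.card (Subgroup.centralizer ({v} : Set X)) : ℝ) := by linarith
  have h2 : A.card + Nat.card G ≤ Nat.card (Subgroup.centralizer ({v} : Set X)) := by
    exact_mod_cast h1
  omega

end Cfsg.Agent.S4955
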