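import Cfsg.Statements.S4956
import Cfsg.Agent.Lib.H24.CoprimeSplit

set_option autoImplicit false
open Cfsg

namespace Cfsg.Agent.S4956

open Cfsg.Agent.Lib.H24

/-- Let X be a finite group, V an abelian normal subgroup of X (any two elements of V commute) and G a complement to V in X whose order is coprime to that of V. Let S be a set of representatives of the orbits of G on V under conjugation: S lies in V and every element of V is conjugate under G to exactly one member of S. Then the number of conjugacy classes of X equals the sum, over s in S, of the number of conjugacy classes of the centralizer of s in G. -/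
theorem result {X : Type*} [Group X] [Finite X] (V : Subgroup X) [V.Normal] (hab : ∀ a ∈ V, ∀ b ∈ V, a * b = b * a) (G : Subgroup X) (hGV : Subgroup.IsComplement' V G) (hcop : (Nat.card V).Coprime (Nat.card G)) (S : Finset X) (hSV : ∀ s ∈ S, s ∈ V) (hrep : ∀ v ∈ V, ∃! s, s ∈ S ∧ ∃ g ∈ G, g * v * g⁻¹ = s) : Nat.card (ConjClasses X) = ∑ s ∈ S, Nat.card (ConjClasses ↥(G ⊓ Subgroup.centralizer ({s} : Set X))) := by
  classical
  have hVn : V.Normal := inferInstance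
  -- powers splitting
  obtain ⟨k, l, hkl⟩ := exists_zpow_split (X := X) (Nat.card V) (Nat.card G) hcop
  have hpowV : ∀ v ∈ V, v ^ Nat.card V = 1 := by
    intro v hv
    have : (⟨v, hv⟩ : V) ^ Nat.card V = 1 := pow_card_eq_one'
    exact (Subgroup.coe_pow V ⟨v, hv⟩ _).symm.trans (congrArg Subtype.val this)
  have hpowG : ∀ g ∈ G, g ^ Nat.card G = 1 := by
    intro g hg
    have : (⟨g, hg⟩ : G) ^ Nat.card G = 1 := pow_card_eq_one'
    exact (Subgroup.coe_pow G ⟨g, hg⟩ _).symm.trans (congrArg Subtype.val this)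
  have hdisj : ∀ x, x ∈ V → x ∈ G → x = 1 := fun x hxV hxG =>
    Subgroup.disjoint_def.mp hGV.disjoint hxV hxG
  -- the map
  let Φ : (Σ s : {x // x ∈ S}, ConjClasses ↥(G ⊓ Subgroup.centralizer ({s.1} : Set X))) →
      ConjClasses X := fun p =>
    Quotient.liftOn p.2 (fun g => ConjClasses.mk (p.1.1 * g.1)) (by
      intro a b hab'
      have hab'' : IsConj a b := hab'
      obtain ⟨c, hc⟩ := isConj_iff.mp hab''
      apply ConjClasses.mk_eq_mk_iff_isConj.mpr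
      apply isConj_iff.mpr
      refine ⟨c.1, ?_⟩
      have hcs : c.1 * p.1.1 = p.1.1 * c.1 :=
        Subgroup.mem_centralizer_singleton_iff.mp c.2.2
      have hb : b.1 = c.1 * a.1 * c.1⁻¹ := by rw [← hc]; rfl
      rw [hb]
      calc c.1 * (p.1.1 * a.1) * c.1⁻¹ = (c.1 * p.1.1) * a.1 * c.1⁻¹ := by group
        _ = (p.1.1 * c.1) * a.1 * c.1⁻¹ := by rw [hcs]
        _ = _ := by group)
  have hΦ : ∀ (s : {x // x ∈ S}) (g : ↥(G ⊓ Subgroup.centralizer ({s.1} : Set X))),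
      Φ ⟨s, ConjClasses.mk g⟩ = ConjClasses.mk (s.1 * g.1) := fun s g => rfl
  have hinj : Function.Injective Φ := by
    rintro ⟨s, c⟩ ⟨s', c'⟩ h
    induction c using Quotient.inductionOn with | _ g =>
    induction c' using Quotient.inductionOn with | _ g' =>
    have h' : ConjClasses.mk (s.1 * g.1) = ConjClasses.mk (s'.1 * g'.1) := h
    obtain ⟨y, hy⟩ := isConj_iff.mp (ConjClasses.mk_eq_mk_iff_isConj.mp h')
    have hsV : s.1 ∈ V := hSV _ s.2
    have hs'V : s'.1 ∈ V := hSV _ s'.2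
    have hgG : g.1 ∈ G := g.2.1
    have hg'G : g'.1 ∈ G := g'.2.1
    have hgs : Commute s.1 g.1 :=
      (Subgroup.mem_centralizer_singleton_iff.mp g.2.2).symm
    have hgs' : Commute s'.1 g'.1 :=
      (Subgroup.mem_centralizer_singleton_iff.mp g'.2.2).symm
    obtain ⟨e1, e2⟩ := hkl s.1 g.1 hgs (hpowV _ hsV) (hpowG _ hgG)
    obtain ⟨e1', e2'⟩ := hkl s'.1 g'.1 hgs' (hpowV _ hs'V) (hpowG _ hg'G)
    have hys : y * s.1 * y⁻¹ = s'.1 := by
      rw [← e1', ← hy, conj_zpow, e1]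
    have hyg : y * g.1 * y⁻¹ = g'.1 := by
      rw [← e2', ← hy, conj_zpow, e2]
    obtain ⟨⟨u, h0⟩, huh⟩ := hGV.2 y
    have huh' : u.1 * h0.1 = y := huh
    have htV : h0.1 * s.1 * h0.1⁻¹ ∈ V := hVn.conj_mem _ hsV _
    have hs' : h0.1 * s.1 * h0.1⁻¹ = s'.1 := by
      rw [← hys, ← huh']
      have := hab _ u.2 _ htV
      calc h0.1 * s.1 * h0.1⁻¹ = (h0.1 * s.1 * h0.1⁻¹) * u.1 * u.1⁻¹ := by group
        _ = u.1 * (h0.1 * s.1 * h0.1⁻¹) * u.1⁻¹ := by rw [this]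
        _ = _ := by group
    have hss' : s = s' := by
      apply Subtype.ext
      obtain ⟨r, -, hr⟩ := hrep s.1 hsV
      have h1 := hr s.1 ⟨s.2, 1, G.one_mem, by simp⟩
      have h2 := hr s'.1 ⟨s'.2, h0.1, h0.2, hs'⟩
      rw [h1, h2]
    subst hss'
    have hg' : h0.1 * g.1 * h0.1⁻¹ = g'.1 := by
      have hg''G : h0.1 * g.1 * h0.1⁻¹ ∈ G := G.mul_mem (G.mul_mem h0.2 hgG) (G.inv_mem h0.2)
      have e : g'.1 = u.1 * (h0.1 * g.1 * h0.1⁻¹) * u.1⁻¹ := by
        rw [← hyg, ← huh']; group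
      have hmemV : g'.1 * (h0.1 * g.1 * h0.1⁻¹)⁻¹ ∈ V := by
        rw [e]
        have : u.1 * (h0.1 * g.1 * h0.1⁻¹) * u.1⁻¹ * (h0.1 * g.1 * h0.1⁻¹)⁻¹
            = u.1 * ((h0.1 * g.1 * h0.1⁻¹) * u.1⁻¹ * (h0.1 * g.1 * h0.1⁻¹)⁻¹) := by group
        rw [this]
        exact V.mul_mem u.2 (hVn.conj_mem _ (V.inv_mem u.2) _)
      have hmemG : g'.1 * (h0.1 * g.1 * h0.1⁻¹)⁻¹ ∈ G := G.mul_mem hg'G (G.inv_mem hg''G)
      have := hdisj _ hmemV hmemG
      exact (mul_inv_eq_one.mp this).symm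
    have hh0 : h0.1 ∈ G ⊓ Subgroup.centralizer ({s.1} : Set X) := by
      refine ⟨h0.2, Subgroup.mem_centralizer_singleton_iff.mpr ?_⟩
      calc h0.1 * s.1 = (h0.1 * s.1 * h0.1⁻¹) * h0.1 := by group
        _ = s.1 * h0.1 := by rw [hs']
    have : (ConjClasses.mk g : ConjClasses ↥(G ⊓ Subgroup.centralizer ({s.1} : Set X)))
        = ConjClasses.mk g' := by
      apply ConjClasses.mk_eq_mk_iff_isConj.mpr
      apply isConj_iff.mpr
      refine ⟨⟨h0.1, hh0⟩, ?_⟩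
      apply Subtype.ext
      exact hg'
    show (⟨s, ConjClasses.mk g⟩ : Σ s : {x // x ∈ S},
      ConjClasses ↥(G ⊓ Subgroup.centralizer ({s.1} : Set X))) = ⟨s, ConjClasses.mk g'⟩
    rw [this]
  have hsurj : Function.Surjective Φ := by
    intro c
    induction c using Quotient.inductionOn with | _ x =>
    obtain ⟨⟨a, g⟩, hag⟩ := hGV.2 x
    have hag' : a.1 * g.1 = x := hag
    obtain ⟨u, huV, a', ha'V, hconj, hcomm⟩ :=
      exists_conj_fixed V hab g.1 (Nat.card G) (hpowG _ g.2) hcop a.1 a.2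
    obtain ⟨s, ⟨hsS, h0, hh0G, hh0⟩, -⟩ := hrep a' ha'V
    have hg1G : h0 * g.1 * h0⁻¹ ∈ G := G.mul_mem (G.mul_mem hh0G g.2) (G.inv_mem hh0G)
    have hg1c : h0 * g.1 * h0⁻¹ ∈ Subgroup.centralizer ({s} : Set X) := by
      apply Subgroup.mem_centralizer_singleton_iff.mpr
      rw [← hh0]
      calc h0 * g.1 * h0⁻¹ * (h0 * a' * h0⁻¹) = h0 * (g.1 * a') * h0⁻¹ := by group
        _ = h0 * (a' * g.1) * h0⁻¹ := by rw [hcomm]
        _ = _ := by group
    refine ⟨⟨⟨s, hsS⟩, ConjClasses.mk ⟨h0 * g.1 * h0⁻¹, hg1G, hg1c⟩⟩, ?_⟩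
    rw [hΦ]
    show ConjClasses.mk (s * (h0 * g.1 * h0⁻¹)) = ConjClasses.mk x
    apply ConjClasses.mk_eq_mk_iff_isConj.mpr
    apply IsConj.symm
    apply isConj_iff.mpr
    refine ⟨h0 * u, ?_⟩
    rw [← hh0, ← hag']
    calc h0 * u * (a.1 * g.1) * (h0 * u)⁻¹ = h0 * (u * (a.1 * g.1) * u⁻¹) * h0⁻¹ := by group
      _ = h0 * (a' * g.1) * h0⁻¹ := by rw [hconj]
      _ = _ := by group
  have hcard := Nat.card_congr (Equiv.ofBijective Φ ⟨hinj, hsurj⟩)
  rw [← hcard, Nat.card_sigma, ← Finset.sum_coe_sort S]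
end Cfsg.Agent.S4956
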