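import Cfsg.Statements.S4958
import Cfsg.Agent.Lib.H20.KGVMOD
import Cfsg.Agent.Lib.H20.KGVKEY
import Cfsg.Agent.Lib.H2.KGVCENT
import Cfsg.Agent.Lib.H6.KGVGAL
import Cfsg.Agent.Lib.H24.CharOrth
import Cfsg.Agent.Lib.H23.Ito

set_option autoImplicit false
open Cfsg

namespace Cfsg.Agent.S4958

open Cfsg.Agent.Lib.H20.KGV Cfsg.Agent.Lib.H2.KGV Cfsg.Agent.Lib.H6.KGV Cfsg.Agent.Lib.L0
open scoped ComplexConjugate
open Classical

/-- commutative group structure on a subgroup all of whose elements commute -/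
@[reducible] def commGroupOf {X : Type*} [Group X] (H : Subgroup X)
    (h : ∀ a ∈ H, ∀ b ∈ H, a * b = b * a) : CommGroup ↥H :=
  { (inferInstance : Group ↥H) with mul_comm := fun a b => Subtype.ext (h a a.2 b b.2) }

/-- a character composed with a homomorphism from a finite abelian group has integer Fourier
coefficients -/
theorem intF_comp {X : Type*} [Group X] {A : Type*} [CommGroup A] [Fintype A] (ψ : A →* X)
    {χ : X → ℂ} (hχ : Cfsg.IsCharacter X χ) : IntF (fun a => χ (ψ a)) := by
  intro φ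
  have h1 : Cfsg.IsCharacter A (fun a => χ (ψ a)) := isCharacter_comp ψ hχ
  obtain ⟨n, hn⟩ := classInner_char_irr_nat h1 (isIrrCharacter_of_hom φ)
  exact ⟨n, by rw [coeff, hn]; simp⟩

/-- `∑ χ, ‖χ g‖ ^ 2 = |C(g)|` -/
theorem sum_norm_sq {X : Type*} [Group X] [Fintype X] [Fintype (IrrCharacter X)] (g : X) :
    ∑ χ : IrrCharacter X, ‖(χ : X → ℂ) g‖ ^ 2 =
      (Nat.card (Subgroup.centralizer ({g} : Set X)) : ℝ) := by
  classical
  have h := Cfsg.Agent.Lib.H24.second_orthogonality (G := X) g g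
  rw [if_pos (IsConj.refl g)] at h
  have h2 : ∀ z : ℂ, z * conj z = ((‖z‖ ^ 2 : ℝ) : ℂ) := by
    intro z
    rw [Complex.mul_conj, Complex.normSq_eq_norm_sq]
  simp_rw [h2] at h
  have h3 : ((∑ χ : IrrCharacter X, ‖(χ : X → ℂ) g‖ ^ 2 : ℝ) : ℂ) =
      ((Nat.card (Subgroup.centralizer ({g} : Set X)) : ℝ) : ℂ) := by
    push_cast
    push_cast at h
    exact h
  exact_mod_cast h3

theorem main {X : Type*} [Group X] [Finite X] (p : ℕ) [Fact p.Prime] (V : Subgroup X) [V.Normal]
    (hVexp : ∀ v ∈ V, v ^ p = 1) (hidx : ¬ p ∣ V.index)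
    (hself : Subgroup.centralizer (V : Set X) = V) (G : Subgroup X)
    (hGV : Subgroup.IsComplement' V G) (v : X) (hv : v ∈ V) (hv1 : v ≠ 1)
    (hab : ∀ a ∈ G ⊓ Subgroup.centralizer ({v} : Set X),
      ∀ b ∈ G ⊓ Subgroup.centralizer ({v} : Set X), a * b = b * a) :
    Nat.card (ConjClasses X) ≤ Nat.card V := by
  have hp : p.Prime := Fact.out
  haveI : Fintype X := Fintype.ofFinite X
  haveI : Fintype (IrrCharacter X) :=
    @Fintype.ofFinite _ Cfsg.Agent.Lib.H24.finite_irr
  -- V abelian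
  have hVab : ∀ a ∈ V, ∀ b ∈ V, a * b = b * a := by
    intro a ha b hb
    have h1 : a ∈ Subgroup.centralizer (V : Set X) := by rw [hself]; exact ha
    exact (Subgroup.mem_centralizer_iff.mp h1 b hb).symm
  set H : Subgroup X := G ⊓ Subgroup.centralizer ({v} : Set X) with hH
  set K : Subgroup X := Subgroup.zpowers v with hK
  have hKab : ∀ a ∈ K, ∀ b ∈ K, a * b = b * a := by
    intro a ha b hb
    exact hVab a ((Subgroup.zpowers_le.mpr hv) ha) b ((Subgroup.zpowers_le.mpr hv) hb)
  letI instH : CommGroup ↥H := commGroupOf H hab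
  letI instK : CommGroup ↥K := commGroupOf K hKab
  haveI : Fintype ↥H := Fintype.ofFinite _
  haveI : Fintype ↥K := Fintype.ofFinite _
  -- orders
  have hcardG : V.index = Nat.card G := hGV.symm.index_eq_card
  have hHp : (Nat.card H).Coprime p := by
    have h1 : Nat.card H ∣ Nat.card G := Subgroup.card_dvd_of_le inf_le_left
    have h2 : ¬ p ∣ Nat.card H := fun h3 => hidx (hcardG ▸ h3.trans h1)
    exact ((Nat.Prime.coprime_iff_not_dvd hp).mpr h2).symm
  have hcardK : Fintype.card ↥K = p := by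
    rw [← Nat.card_eq_fintype_card, hK, Nat.card_zpowers]
    exact orderOf_eq_prime (hVexp v hv) hv1
  -- the homomorphism ψ
  have hcomm : ∀ (k : ↥K) (h : ↥H), Commute (K.subtype k) (H.subtype h) := by
    intro k h
    have h1 : (h : X) ∈ Subgroup.centralizer ({v} : Set X) := h.2.2
    have h2 : Commute (h : X) v := by
      have := Subgroup.mem_centralizer_iff.mp h1 v rfl
      exact this.symm
    obtain ⟨n, hn⟩ := Subgroup.mem_zpowers_iff.mp k.2
    show Commute (k : X) (h : X)
    rw [← hn]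
    exact (h2.zpow_right n).symm
  let ψ : ↥K × ↥H →* X := MonoidHom.noncommCoprod K.subtype H.subtype hcomm
  have hψ : ∀ x : ↥K × ↥H, ψ x = (x.1 : X) * (x.2 : X) := fun x =>
    MonoidHom.noncommCoprod_apply _ _ _ x
  -- the Maschke family
  have hHV : ∀ h ∈ H, ∀ a ∈ V, h * a * h⁻¹ ∈ V := fun h _ a ha =>
    (inferInstance : V.Normal).conj_mem a ha h
  obtain ⟨r, D, w, hD1, hD2, hD3⟩ := exists_family p H hab hHp V hVab hVexp hHV
  let C : Fin r → Subgroup ↥H := fun i => (D i).subgroupOf H
  have hC : ⨅ i, C i = ⊥ := by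
    rw [Subgroup.eq_bot_iff_forall]
    intro x hx
    rw [Subgroup.mem_iInf] at hx
    have h1 : ∀ a ∈ V, (x : X) * a = a * (x : X) :=
      hD2 x x.2 (fun i => Subgroup.mem_subgroupOf.mp (hx i))
    have h2 : (x : X) ∈ Subgroup.centralizer (V : Set X) := by
      rw [Subgroup.mem_centralizer_iff]
      intro a ha
      exact (h1 a ha).symm
    rw [hself] at h2
    have h3 : (x : X) ∈ V ⊓ G := ⟨h2, x.2.1⟩
    rw [hGV.disjoint.eq_bot, Subgroup.mem_bot] at h3
    exact Subtype.ext h3
  have hw : ∀ i, (((C i).index : ℕ) : ℝ) + 1 ≤ ((w i : ℕ) : ℝ) := by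
    intro i
    have := hD1 i
    have h1 : (C i).index = (D i).relIndex H := rfl
    rw [h1]
    exact_mod_cast this
  have hgood := good_of_subgroups r C (fun i => (w i : ℝ)) hw hC
  set μ : ↥H → ℝ := fun h => ∏ i, if h ∈ C i then (1 : ℝ) else (w i : ℝ) with hμ
  have hμ0 : ∀ h, 0 ≤ μ h := by
    intro h
    apply Finset.prod_nonneg
    intro i _
    split_ifs
    · exact zero_le_one
    · positivity
  have hκ0 : (0 : ℝ) ≤ (Fintype.card ↥H : ℝ) ^ 2 := by positivity
  -- each irreducible character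
  have hchi : ∀ χ : IrrCharacter X,
      ((Fintype.card ↥K : ℝ) - 1) * (Fintype.card ↥H : ℝ) ^ 2 ≤
        ∑ x : ↥K × ↥H, if x.1 = 1 then 0 else μ x.2 * ‖(χ : X → ℂ) (ψ x)‖ ^ 2 := by
    intro χ
    obtain ⟨d, hd1, hd2⟩ := Cfsg.Agent.Lib.H23.ito_char V hVab χ.2
    have hF : IntF (fun a : ↥K × ↥H => (χ : X → ℂ) (ψ a)) :=
      intF_comp ψ (isCharacter_of_irr χ.2)
    have hg := galois_sum μ hμ0 _ hκ0 hgood (fun a : ↥K × ↥H => (χ : X → ℂ) (ψ a)) hF (d : ℤ)
      (by
        show (χ : X → ℂ) (ψ 1) = ((d : ℤ) : ℂ)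
        rw [map_one, hd1]; simp)
      (by
        rw [hcardK]
        intro h1
        have h2 : p ∣ d := by exact_mod_cast h1
        exact hidx (h2.trans hd2))
    refine hg.trans (le_of_eq ?_)
    refine Finset.sum_congr rfl fun x _ => ?_
    by_cases h : x.1 = 1
    · rw [if_pos h, if_pos h]
    · rw [if_neg h, if_neg h]
  -- sum over the characters
  have hsum : (Fintype.card (IrrCharacter X) : ℝ) *
      (((Fintype.card ↥K : ℝ) - 1) * (Fintype.card ↥H : ℝ) ^ 2) ≤
      ∑ x : ↥K × ↥H, if x.1 = 1 then 0 else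
        μ x.2 * (Nat.card (Subgroup.centralizer ({ψ x} : Set X)) : ℝ) := by
    calc (Fintype.card (IrrCharacter X) : ℝ) *
        (((Fintype.card ↥K : ℝ) - 1) * (Fintype.card ↥H : ℝ) ^ 2)
        = ∑ _χ : IrrCharacter X, (((Fintype.card ↥K : ℝ) - 1) * (Fintype.card ↥H : ℝ) ^ 2) := by
          rw [Finset.sum_const, Finset.card_univ, nsmul_eq_mul]
      _ ≤ ∑ χ : IrrCharacter X, ∑ x : ↥K × ↥H,
            if x.1 = 1 then 0 else μ x.2 * ‖(χ : X → ℂ) (ψ x)‖ ^ 2 :=
          Finset.sum_le_sum fun χ _ => hchi χ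
      _ = ∑ x : ↥K × ↥H, if x.1 = 1 then 0 else
            μ x.2 * (Nat.card (Subgroup.centralizer ({ψ x} : Set X)) : ℝ) := by
          rw [Finset.sum_comm]
          refine Finset.sum_congr rfl fun x _ => ?_
          split_ifs with h1
          · simp
          · rw [← Finset.mul_sum, sum_norm_sq]
  -- bound each term
  have hterm : ∀ x : ↥K × ↥H, (if x.1 = 1 then (0 : ℝ) else
      μ x.2 * (Nat.card (Subgroup.centralizer ({ψ x} : Set X)) : ℝ)) ≤
      if x.1 = 1 then 0 else (Nat.card V : ℝ) * (Fintype.card ↥H : ℝ) := by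
    intro x
    split_ifs with h1
    · exact le_refl _
    · have hk1 : (x.1 : X) ≠ 1 := fun h2 => h1 (Subtype.ext h2)
      have hcent := card_centralizer_le p V G hVab hGV v hv (hVexp v hv) hab hHp
        (x.1 : X) x.1.2 hk1 (x.2 : X) x.2.2
      rw [← hψ x] at hcent
      have hV3 := hD3 (x.2 : X) x.2.2
      have hμx : μ x.2 = ((∏ i, if (x.2 : X) ∈ D i then 1 else w i : ℕ) : ℝ) := by
        rw [hμ]
        push_cast
        refine Finset.prod_congr rfl fun i _ => ?_
        have : x.2 ∈ C i ↔ (x.2 : X) ∈ D i := Subgroup.mem_subgroupOf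
        by_cases h5 : (x.2 : X) ∈ D i
        · rw [if_pos h5, if_pos (this.mpr h5)]
        · rw [if_neg h5, if_neg (fun h6 => h5 (this.mp h6))]
      have hcent' : (Nat.card (Subgroup.centralizer ({ψ x} : Set X)) : ℝ) ≤
          (Nat.card ↥(V ⊓ Subgroup.centralizer ({(x.2 : X)} : Set X)) : ℝ) *
            (Fintype.card ↥H : ℝ) := by
        rw [← Nat.card_eq_fintype_card]
        exact_mod_cast hcent
      have hV3' : (Nat.card V : ℝ) =
          (Nat.card ↥(V ⊓ Subgroup.centralizer ({(x.2 : X)} : Set X)) : ℝ) * μ x.2 := by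
        rw [hμx]
        exact_mod_cast hV3
      calc μ x.2 * (Nat.card (Subgroup.centralizer ({ψ x} : Set X)) : ℝ)
          ≤ μ x.2 * ((Nat.card ↥(V ⊓ Subgroup.centralizer ({(x.2 : X)} : Set X)) : ℝ) *
            (Fintype.card ↥H : ℝ)) := mul_le_mul_of_nonneg_left hcent' (hμ0 _)
        _ = (Nat.card V : ℝ) * (Fintype.card ↥H : ℝ) := by rw [hV3']; ring
  have hcount : ∑ x : ↥K × ↥H, (if x.1 = 1 then (0 : ℝ) else
      (Nat.card V : ℝ) * (Fintype.card ↥H : ℝ)) =
      ((Fintype.card ↥K : ℝ) - 1) * (Fintype.card ↥H : ℝ) *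
        ((Nat.card V : ℝ) * (Fintype.card ↥H : ℝ)) := by
    rw [Fintype.sum_prod_type]
    have h0 : ∀ k : ↥K, ∑ _h : ↥H, (if k = 1 then (0 : ℝ) else
        (Nat.card V : ℝ) * (Fintype.card ↥H : ℝ)) = if k = 1 then 0 else
        (Fintype.card ↥H : ℝ) * ((Nat.card V : ℝ) * (Fintype.card ↥H : ℝ)) := by
      intro k
      split_ifs
      · simp
      · rw [Finset.sum_const, Finset.card_univ, nsmul_eq_mul]
    simp_rw [h0]
    rw [Finset.sum_ite, Finset.sum_const_zero, zero_add, Finset.sum_const, nsmul_eq_mul]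
    have h1 : (Finset.univ.filter fun k : ↥K => ¬ k = 1).card = Fintype.card ↥K - 1 := by
      rw [Finset.filter_ne' Finset.univ (1 : ↥K), Finset.card_erase_of_mem (Finset.mem_univ _),
        Finset.card_univ]
    rw [h1, Nat.cast_sub Fintype.card_pos]
    push_cast
    ring
  have hfinal : (Fintype.card (IrrCharacter X) : ℝ) *
      (((Fintype.card ↥K : ℝ) - 1) * (Fintype.card ↥H : ℝ) ^ 2) ≤
      (Nat.card V : ℝ) * (((Fintype.card ↥K : ℝ) - 1) * (Fintype.card ↥H : ℝ) ^ 2) := by
    calc _ ≤ _ := hsum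
      _ ≤ _ := Finset.sum_le_sum fun x _ => hterm x
      _ = _ := by rw [hcount]; ring
  have hpos : (0 : ℝ) < ((Fintype.card ↥K : ℝ) - 1) * (Fintype.card ↥H : ℝ) ^ 2 := by
    apply mul_pos
    · rw [hcardK]
      have : (2 : ℝ) ≤ (p : ℝ) := by exact_mod_cast hp.two_le
      linarith
    · have : (0 : ℝ) < (Fintype.card ↥H : ℝ) := by exact_mod_cast Fintype.card_pos
      positivity
  have hle : (Fintype.card (IrrCharacter X) : ℝ) ≤ (Nat.card V : ℝ) :=
    le_of_mul_le_mul_right hfinal hpos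
  rw [← Cfsg.Agent.Lib.H24.card_irr_eq_card_conjClasses, Nat.card_eq_fintype_card]
  exact_mod_cast hle

/-- Let X be a finite group and V a normal subgroup of X in which every element has order dividing the prime p, whose index in X is prime to p and which is its own centralizer in X; so V is an elementary abelian normal Sylow p-subgroup, and any complement G to V in X is a group of order prime to p acting faithfully on the vector space V by conjugation (the coprime linear setting of the k(GV) problem). Let G be a complement to V in X and suppose that for some v in V the centralizer of v in G is abelian. Then the number of conjugacy classes of X is at most the order of V (the abelian-stabilizer criterion for the k(GV) problem). -/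
theorem result {X : Type*} [Group X] [Finite X] (p : ℕ) [Fact p.Prime] (V : Subgroup X) [V.Normal] (hVexp : ∀ v ∈ V, v ^ p = 1) (hidx : ¬ p ∣ V.index) (hself : Subgroup.centralizer (V : Set X) = V) (G : Subgroup X) (hGV : Subgroup.IsComplement' V G) (v : X) (hv : v ∈ V) (hab : ∀ a ∈ G ⊓ Subgroup.centralizer ({v} : Set X), ∀ b ∈ G ⊓ Subgroup.centralizer ({v} : Set X), a * b = b * a) : Nat.card (ConjClasses X) ≤ Nat.card V := by
  by_cases hv1 : v = 1
  · by_cases hV : ∃ v' ∈ V, v' ≠ 1
    · obtain ⟨v', hv', hv'1⟩ := hV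
      refine main p V hVexp hidx hself G hGV v' hv' hv'1 ?_
      intro a ha b hb
      have hc : ∀ x : X, x ∈ Subgroup.centralizer ({v} : Set X) := by
        intro x
        rw [Subgroup.mem_centralizer_iff]
        intro y hy
        rw [Set.mem_singleton_iff] at hy
        rw [hy, hv1, one_mul, mul_one]
      exact hab a ⟨ha.1, hc a⟩ b ⟨hb.1, hc b⟩
    · push Not at hV
      have hall : ∀ x : X, x ∈ V := by
        intro x
        rw [← hself, Subgroup.mem_centralizer_iff]
        intro y hy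
        rw [hV y hy, one_mul, mul_one]
      have h1 : Nat.card (ConjClasses X) ≤ Nat.card X :=
        Nat.card_le_card_of_surjective ConjClasses.mk ConjClasses.mk_surjective
      have h2 : Nat.card V = Nat.card X := by
        have : V = ⊤ := by
          rw [eq_top_iff]; intro x _; exact hall x
        rw [this, Subgroup.card_top]
      rw [h2]; exact h1
  · exact main p V hVexp hidx hself G hGV v hv hv1 hab

end Cfsg.Agent.S4958
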