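import Cfsg.Statements.S4964
import Mathlib
import Cfsg.Agent.Lib.H22.BlockNormalP
import Cfsg.Agent.Lib.L0.BlockPReg
import Cfsg.Agent.Lib.H23.BlockNilChar
import Cfsg.Agent.Lib.H24.CharDefl
import Cfsg.Agent.Lib.H9.FrattiniAction
import Cfsg.Agent.Lib.H1.PGroupBasic

set_option autoImplicit false

open Cfsg

namespace Cfsg.Agent.S4964

open Cfsg.Agent.Lib.H23 Cfsg.Agent.Lib.H22.BlockNormalP

theorem commutator_self_le_frattini_map' {G : Type*} [Group G] [Finite G] {p : ℕ} [Fact p.Prime]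
    (A : Subgroup G) (hA : IsPGroup p ↥A) : ⁅A, A⁆ ≤ (frattini ↥A).map A.subtype := by
  have h1 : commutator ↥A ≤ frattini ↥A := Cfsg.Agent.Lib.H1.isPGroup_commutator_le_frattini hA
  have h2 := Subgroup.map_mono (f := A.subtype) h1
  have h3 : (commutator ↥A).map A.subtype = ⁅A, A⁆ := by
    rw [commutator_def, Subgroup.map_commutator, ← MonoidHom.range_eq_map, Subgroup.range_subtype]
  rwa [h3] at h2

theorem sameBlock_quot_of_infl {G : Type*} [Group G] [Finite G] (p : ℕ) [Fact p.Prime]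
    (M : Ideal AlgInt) (hM : IsPModular p M) (D : Subgroup G) [D.Normal] (hD : IsPGroup p D)
    (χ ψ : IrrCharacter (G ⧸ ⁅D, D⁆))
    (h : SameBlock M ((χ : G ⧸ ⁅D, D⁆ → ℂ) ∘ QuotientGroup.mk)
      ((ψ : G ⧸ ⁅D, D⁆ → ℂ) ∘ QuotientGroup.mk)) :
    SameBlock M (χ : G ⧸ ⁅D, D⁆ → ℂ) (ψ : G ⧸ ⁅D, D⁆ → ℂ) := by
  classical
  haveI := Fintype.ofFinite G
  haveI := Fintype.ofFinite (G ⧸ ⁅D, D⁆)
  haveI hP := isPrime_of_isPModular hM
  have hp : p.Prime := Fact.out
  have hQD : ⁅D, D⁆ ≤ D := Subgroup.commutator_le_right D D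
  apply Cfsg.Agent.Lib.L0.BlockPReg.sameBlock_of_pRegular hM χ ψ
  intro q hq
  obtain ⟨Dbar, hDbar⟩ : ∃ Dbar : Subgroup (G ⧸ ⁅D, D⁆),
      Dbar = D.map (QuotientGroup.mk' ⁅D, D⁆) := ⟨_, rfl⟩
  haveI hDn : Dbar.Normal := by
    rw [hDbar]
    exact Subgroup.Normal.map inferInstance _ (QuotientGroup.mk'_surjective _)
  have hDp : IsPGroup p Dbar := by
    rw [hDbar]
    exact hD.map _
  by_cases hqC : q ∈ Subgroup.centralizer (Dbar : Set (G ⧸ ⁅D, D⁆))
  · obtain ⟨g₀, rfl⟩ := QuotientGroup.mk_surjective q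
    obtain ⟨g, hgq, hgreg⟩ := exists_pRegular_lift (QuotientGroup.mk' ⁅D, D⁆) p g₀ hq
    have hgq' : (QuotientGroup.mk g : G ⧸ ⁅D, D⁆) = QuotientGroup.mk g₀ := hgq
    have hcop : (orderOf g).Coprime p := ((Nat.Prime.coprime_iff_not_dvd hp).2 hgreg).symm
    have hfr : ∀ a ∈ Subgroup.zpowers g, ∀ d ∈ D,
        a * d * a⁻¹ * d⁻¹ ∈ (frattini ↥D).map D.subtype := by
      intro a ha d hd
      apply commutator_self_le_frattini_map' D hD
      rw [← QuotientGroup.eq_one_iff]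
      obtain ⟨i, rfl⟩ := Subgroup.mem_zpowers_iff.1 ha
      have hmem : (QuotientGroup.mk (g ^ i) : G ⧸ ⁅D, D⁆) ∈
          Subgroup.centralizer (Dbar : Set (G ⧸ ⁅D, D⁆)) := by
        rw [QuotientGroup.mk_zpow, hgq']
        exact Subgroup.zpow_mem _ hqC i
      have hdm : (QuotientGroup.mk d : G ⧸ ⁅D, D⁆) ∈ (Dbar : Set (G ⧸ ⁅D, D⁆)) := by
        rw [hDbar]
        exact Subgroup.mem_map_of_mem _ hd
      have hc := Subgroup.mem_centralizer_iff.1 hmem _ hdm
      simp only [QuotientGroup.mk_mul, QuotientGroup.mk_inv]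
      rw [← hc]
      group
    have hnorm : g ∈ Subgroup.normalizer (D : Set G) := by
      rw [Subgroup.normalizer_eq_top]
      exact Subgroup.mem_top g
    have hcent : ∀ d ∈ D, g * d = d * g :=
      Cfsg.Agent.Lib.H9.commute_of_commutator_mem_frattini hD hnorm hcop hfr
    have hle : (Subgroup.centralizer ({(QuotientGroup.mk g : G ⧸ ⁅D, D⁆)} :
        Set (G ⧸ ⁅D, D⁆))).comap (QuotientGroup.mk' ⁅D, D⁆) ≤
        Subgroup.centralizer ({g} : Set G) := by
      intro c hc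
      rw [Subgroup.mem_comap, Subgroup.mem_centralizer_singleton_iff] at hc
      rw [Subgroup.mem_centralizer_singleton_iff]
      obtain ⟨n, hn⟩ : ∃ n, n = c * g * c⁻¹ * g⁻¹ := ⟨_, rfl⟩
      have hnQ : n ∈ ⁅D, D⁆ := by
        rw [← QuotientGroup.eq_one_iff, hn]
        simp only [QuotientGroup.mk_mul, QuotientGroup.mk_inv]
        have hc' : (QuotientGroup.mk c : G ⧸ ⁅D, D⁆) * QuotientGroup.mk g =
            QuotientGroup.mk g * QuotientGroup.mk c := hc
        rw [hc']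
        group
      have hnD : n ∈ D := hQD hnQ
      have hcomm : g * n = n * g := hcent n hnD
      have hconj : c * g * c⁻¹ = n * g := by
        rw [hn]
        group
      have hpow : n ^ orderOf g = 1 := by
        have h1 : (c * g * c⁻¹) ^ orderOf g = 1 := by
          rw [conj_pow, pow_orderOf_eq_one, mul_one, mul_inv_cancel]
        rw [hconj, (show Commute n g from hcomm.symm).mul_pow, pow_orderOf_eq_one, mul_one] at h1
        exact h1
      have hn1 : n = 1 := by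
        obtain ⟨j, hj⟩ := hD ⟨n, hnD⟩
        have hj' : n ^ p ^ j = 1 := by
          have := congrArg Subtype.val hj
          simpa using this
        have h1 : orderOf n ∣ orderOf g := orderOf_dvd_of_pow_eq_one hpow
        have h2 : orderOf n ∣ p ^ j := orderOf_dvd_of_pow_eq_one hj'
        have h3 : orderOf n ∣ Nat.gcd (orderOf g) (p ^ j) := Nat.dvd_gcd h1 h2
        have h4 : Nat.gcd (orderOf g) (p ^ j) = 1 := Nat.Coprime.pow_right j hcop
        rw [h4, Nat.dvd_one, orderOf_eq_one_iff] at h3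
        exact h3
      have h5 : c * g * c⁻¹ * g⁻¹ = 1 := by rw [← hn, hn1]
      calc c * g = (c * g * c⁻¹ * g⁻¹) * (g * c) := by group
        _ = g * c := by rw [h5, one_mul]
    have hr : (Subgroup.centralizer ({g} : Set G)).relIndex
        ((Subgroup.centralizer ({(QuotientGroup.mk g : G ⧸ ⁅D, D⁆)} :
          Set (G ⧸ ⁅D, D⁆))).comap (QuotientGroup.mk' ⁅D, D⁆)) = 1 :=
      Subgroup.relIndex_eq_one.2 hle
    have hg := h g
    rw [centralChar_comp_mk, centralChar_comp_mk, hr, Nat.cast_one, one_mul, one_mul, hgq'] at hg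
    exact hg
  · have hconj : ∀ x, IsConj q x → x ∉ Subgroup.centralizer (Dbar : Set (G ⧸ ⁅D, D⁆)) := by
      intro x hx hxC
      apply hqC
      obtain ⟨t, rfl⟩ := isConj_iff.1 hx
      haveI hCn : (Subgroup.centralizer (Dbar : Set (G ⧸ ⁅D, D⁆))).Normal :=
        Subgroup.normal_centralizer
      have := hCn.conj_mem _ hxC t⁻¹
      simpa [mul_assoc] using this
    exact memLocalIdeal_sub (centralChar_memLocalIdeal_of_normal hM Dbar hDp q hconj χ)
      (centralChar_memLocalIdeal_of_normal hM Dbar hDp q hconj ψ)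

/-- Let D be a normal p-subgroup of the finite group G, let D′ be its commutator subgroup (normal in G), and fix a maximal ideal M of the algebraic integers containing p. Then (i) two irreducible characters of G ⧸ D′ lie in the same p-block if and only if their inflations to G do, and (ii) every p-block of G contains the inflation of some irreducible character of G ⧸ D′; so inflation induces a bijection between the p-blocks of G ⧸ D′ and the p-blocks of G. -/
theorem result {G : Type*} [Group G] [Finite G] (p : ℕ) [Fact p.Prime] (M : Ideal Cfsg.AlgInt) (hM : Cfsg.IsPModular p M) (D : Subgroup G) [D.Normal] (hD : IsPGroup p D) : (∀ χ ψ : Cfsg.IrrCharacter (G ⧸ ⁅D, D⁆), Cfsg.SameBlock M (χ : G ⧸ ⁅D, D⁆ → ℂ) (ψ : G ⧸ ⁅D, D⁆ → ℂ) ↔ Cfsg.SameBlock M ((χ : G ⧸ ⁅D, D⁆ → ℂ) ∘ QuotientGroup.mk) ((ψ : G ⧸ ⁅D, D⁆ → ℂ) ∘ QuotientGroup.mk)) ∧ ∀ B : Set (Cfsg.IrrCharacter G), Cfsg.IsPBlock M B → ∃ χ : Cfsg.IrrCharacter (G ⧸ ⁅D, D⁆), ∃ θ ∈ B, (θ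 : G → ℂ) = (χ : G ⧸ ⁅D, D⁆ → ℂ) ∘ QuotientGroup.mk := by
  classical
  haveI := Fintype.ofFinite G
  haveI := Fintype.ofFinite (G ⧸ ⁅D, D⁆)
  haveI hP := isPrime_of_isPModular hM
  have hQD : ⁅D, D⁆ ≤ D := Subgroup.commutator_le_right D D
  have hQ : IsPGroup p (⁅D, D⁆ : Subgroup G) := hD.to_le hQD
  refine ⟨fun χ ψ => ⟨?_, ?_⟩, ?_⟩
  · intro h g
    rw [centralChar_comp_mk, centralChar_comp_mk, ← mul_sub]
    exact memLocalIdeal_mul_left (natCast_mem_localRing _) (h _)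
  · intro h
    exact sameBlock_quot_of_infl p M hM D hD χ ψ h
  · rintro B ⟨χ₀, rfl⟩
    obtain ⟨θ, hθB, hθ⟩ := exists_mem_blockOf_trivial_on hM ⁅D, D⁆ hQ χ₀
    obtain ⟨χ, hχ⟩ := Cfsg.Agent.Lib.H24.exists_deflation θ ⁅D, D⁆ hθ
    exact ⟨χ, θ, hθB, funext fun g => (hχ g).symm⟩

end Cfsg.Agent.S4964
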