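import Cfsg.Statements.S4965
import Mathlib.GroupTheory.GroupAction.CardCommute
import Mathlib.Tactic.Group
-- import your own Cfsg.Agent.* helpers here

set_option autoImplicit false
open Cfsg

namespace Cfsg.Agent.S4965

/-- The key algebraic fact: if `(x, y)` and `(x0, y0)` are commuting pairs of `X` lying over the same
pair of cosets of the abelian normal subgroup `V`, then `u = x x0⁻¹`, `w = y y0⁻¹` satisfy the
commutation relation of the split extension. -/
theorem key {X : Type*} [Group X] (V : Subgroup X) [V.Normal]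
    (hab : ∀ a ∈ V, ∀ b ∈ V, a * b = b * a) (x y x0 y0 : X)
    (hxy : x * y = y * x) (h0 : x0 * y0 = y0 * x0)
    (hu : x * x0⁻¹ ∈ V) (hw : y * y0⁻¹ ∈ V) :
    (x * x0⁻¹) * (x0 * (y * y0⁻¹) * x0⁻¹) = (y * y0⁻¹) * (y0 * (x * x0⁻¹) * y0⁻¹) := by
  -- set u = x x0⁻¹, w = y y0⁻¹
  have hx : x = (x * x0⁻¹) * x0 := by group
  have hy : y = (y * y0⁻¹) * y0 := by group
  generalize x * x0⁻¹ = u at hu hx ⊢
  generalize y * y0⁻¹ = w at hw hy ⊢
  subst hx hy
  -- hxy : u * x0 * (w * y0) = w * y0 * (u * x0)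
  have h1 : u * (x0 * w * x0⁻¹) * (x0 * y0) = w * (y0 * u * y0⁻¹) * (y0 * x0) := by
    calc u * (x0 * w * x0⁻¹) * (x0 * y0) = u * x0 * (w * y0) := by group
      _ = w * y0 * (u * x0) := hxy
      _ = w * (y0 * u * y0⁻¹) * (y0 * x0) := by group
  rw [h0] at h1
  exact mul_right_cancel h1

theorem result {X : Type*} [Group X] [Finite X] (V : Subgroup X) [V.Normal] (hab : ∀ a ∈ V, ∀ b ∈ V, a * b = b * a) (φ : X ⧸ V →* MulAut ↥V) (hφ : ∀ (x : X) (v : ↥V), ((φ (QuotientGroup.mk x) v : ↥V) : X) = x * v * x⁻¹) : Nat.card (ConjClasses X) ≤ Nat.card (ConjClasses (SemidirectProduct ↥V (X ⧸ V) φ)) := by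
  classical
  haveI : Finite (SemidirectProduct ↥V (X ⧸ V) φ) :=
    Finite.of_equiv _ SemidirectProduct.equivProd.symm
  -- the cardinalities of the two groups agree
  have hcard : Nat.card (SemidirectProduct ↥V (X ⧸ V) φ) = Nat.card X := by
    rw [SemidirectProduct.card, mul_comm]
    exact (Subgroup.card_eq_card_quotient_mul_card_subgroup V).symm
  -- a choice of base commuting pair over each pair of cosets
  let P : (X ⧸ V) × (X ⧸ V) → X × X → Prop := fun ab q =>
    q.1 * q.2 = q.2 * q.1 ∧ (QuotientGroup.mk q.1 : X ⧸ V) = ab.1 ∧ (QuotientGroup.mk q.2 : X ⧸ V) = ab.2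
  let base : (X ⧸ V) × (X ⧸ V) → X × X := fun ab =>
    if h : ∃ q, P ab q then h.choose else (1, 1)
  have hbase : ∀ (p : X × X), p.1 * p.2 = p.2 * p.1 →
      P (QuotientGroup.mk p.1, QuotientGroup.mk p.2) (base (QuotientGroup.mk p.1, QuotientGroup.mk p.2)) := by
    intro p hp
    have h : ∃ q, P (QuotientGroup.mk p.1, QuotientGroup.mk p.2) q := ⟨p, hp, rfl, rfl⟩
    simp only [base, dif_pos h]
    exact h.choose_spec
  -- membership in V of the quotients
  have hmem : ∀ (x x0 : X), (QuotientGroup.mk x0 : X ⧸ V) = QuotientGroup.mk x → x * x0⁻¹ ∈ V := by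
    intro x x0 h
    have h2 : (QuotientGroup.mk (x * x0⁻¹) : X ⧸ V) = 1 := by
      rw [QuotientGroup.mk_mul, QuotientGroup.mk_inv, h, mul_inv_cancel]
    exact (QuotientGroup.eq_one_iff _).mp h2
  have hφ' : ∀ (a : X ⧸ V) (x0 : X) (v : ↥V), (QuotientGroup.mk x0 : X ⧸ V) = a →
      ((φ a v : ↥V) : X) = x0 * v * x0⁻¹ := by
    intro a x0 v h
    subst h
    exact hφ x0 v
  -- the injection
  let F : {p : X × X // Commute p.1 p.2} →
      {p : (SemidirectProduct ↥V (X ⧸ V) φ) × (SemidirectProduct ↥V (X ⧸ V) φ) // Commute p.1 p.2} :=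
    fun p =>
      let b := base (QuotientGroup.mk p.1.1, QuotientGroup.mk p.1.2)
      have hb := hbase p.1 p.2
      ⟨(⟨⟨p.1.1 * b.1⁻¹, hmem _ _ hb.2.1⟩, QuotientGroup.mk p.1.1⟩,
        ⟨⟨p.1.2 * b.2⁻¹, hmem _ _ hb.2.2⟩, QuotientGroup.mk p.1.2⟩), by
        have hb1 : (QuotientGroup.mk b.1 : X ⧸ V) = QuotientGroup.mk p.1.1 := hb.2.1
        have hb2 : (QuotientGroup.mk b.2 : X ⧸ V) = QuotientGroup.mk p.1.2 := hb.2.2
        have hcomm : p.1.1 * p.1.2 = p.1.2 * p.1.1 := p.2
        show _ * _ = _ * _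
        refine SemidirectProduct.ext ?_ ?_
        · simp only [SemidirectProduct.mul_left]
          apply Subtype.ext
          simp only [Subgroup.coe_mul]
          rw [hφ' _ b.1 _ hb1, hφ' _ b.2 _ hb2]
          exact key V hab _ _ _ _ hcomm hb.1 (hmem _ _ hb1) (hmem _ _ hb2)
        · simp only [SemidirectProduct.mul_right]
          rw [← QuotientGroup.mk_mul, ← QuotientGroup.mk_mul, hcomm]⟩
  have hF : Function.Injective F := by
    intro p q hpq
    have h1 := congrArg (fun z => z.1.1) hpq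
    have h2 := congrArg (fun z => z.1.2) hpq
    simp only [F] at h1 h2
    have ha : (QuotientGroup.mk p.1.1 : X ⧸ V) = QuotientGroup.mk q.1.1 := congrArg SemidirectProduct.right h1
    have hb : (QuotientGroup.mk p.1.2 : X ⧸ V) = QuotientGroup.mk q.1.2 := congrArg SemidirectProduct.right h2
    have hu := congrArg (fun z => (z.left : X)) h1
    have hw := congrArg (fun z => (z.left : X)) h2
    simp only [ha, hb] at hu hw
    apply Subtype.ext
    exact Prod.ext (mul_right_cancel hu) (mul_right_cancel hw)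
  have hle := Nat.card_le_card_of_injective F hF
  rw [card_comm_eq_card_conjClasses_mul_card, card_comm_eq_card_conjClasses_mul_card, hcard] at hle
  exact Nat.le_of_mul_le_mul_right hle Nat.card_pos

end Cfsg.Agent.S4965
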