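import Cfsg.Statements.S4967
import Mathlib
import Cfsg.Agent.Lib.H24.SelfDualAbelian

set_option autoImplicit false
open Cfsg

namespace Cfsg.Agent.S4967

/-- Let F be a finite field with r elements and of characteristic p, H a finite abelian group of order prime to p, and V a faithful irreducible representation of H over F of dimension n (faithful: distinct elements act differently; irreducible: the only H-invariant subspaces are 0 and V). Call V self-dual when it carries a nondegenerate H-invariant bilinear form. If n = 1 and V is self-dual then H has order at most 2. If n ≥ 2 then V is self-dual if and only if n is even and the order of H divides r^(n/2) + 1. -/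
theorem result {F : Type*} [Field F] [Fintype F] (p : ℕ) [Fact p.Prime] [CharP F p] {H : Type*} [CommGroup H] [Finite H] (hcop : ¬ p ∣ Nat.card H) {V : Type*} [AddCommGroup V] [Module F V] [FiniteDimensional F V] (ρ : Representation F H V) (hfaith : Function.Injective ρ) (hirr : ∀ U : Submodule F V, (∀ h : H, ∀ u ∈ U, ρ h u ∈ U) → U = ⊥ ∨ U = ⊤) : (Module.finrank F V = 1 → (∃ B : LinearMap.BilinForm F V, B.Nondegenerate ∧ ∀ h : H, ∀ x y : V, B (ρ h x) (ρ h y) = B x y) → Nat.card H ≤ 2) ∧ (2 ≤ Module.finrank F V → ((∃ B : LinearMap.BilinForm F V, B.Nondegenerate ∧ ∀ h : H, ∀ x y : V, B (ρ h x) (ρ h y) = B x y) ↔ (Even (Module.finrank F V) ∧ Nat.card H ∣ Fintype.card F ^ (Module.finrank F V / 2) + 1))) := by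
  classical
  constructor
  · intro h1 ⟨B, hB, hBinv⟩
    obtain ⟨v, hv0, hv⟩ := finrank_eq_one_iff'.mp h1
    have hc : ∀ h : H, ∃ c : F, c • v = ρ h v := fun h => hv (ρ h v)
    choose c hc using hc
    have hBvv : B v v ≠ 0 := by
      intro h0
      apply hv0
      apply hB.1 v
      intro w
      obtain ⟨d, rfl⟩ := hv w
      rw [map_smul, smul_eq_mul, h0, mul_zero]
    have hsq : ∀ h, c h * c h = 1 := by
      intro h
      have h2 := hBinv h v v
      rw [← hc, map_smul, map_smul, LinearMap.smul_apply, smul_eq_mul, smul_eq_mul,
        ← mul_assoc] at h2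
      exact mul_right_cancel₀ hBvv (h2.trans (one_mul _).symm)
    have hcinj : Function.Injective c := by
      intro h h' hh
      apply hfaith
      ext w
      obtain ⟨d, rfl⟩ := hv w
      rw [map_smul, map_smul, ← hc, ← hc, hh]
    have hmem : ∀ h, c h ∈ ({1, -1} : Finset F) := fun h => by
      rcases mul_self_eq_one_iff.mp (hsq h) with h4 | h4 <;> simp [h4]
    have h5 := Nat.card_le_card_of_injective
      (fun h => (⟨c h, hmem h⟩ : ({1, -1} : Finset F)))
      (fun h h' hh => hcinj (Subtype.ext_iff.mp hh))
    rw [Nat.card_eq_fintype_card (α := ({1, -1} : Finset F)), Fintype.card_coe] at h5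
    exact h5.trans Finset.card_le_two
  · intro h2
    haveI : Nontrivial V := Module.nontrivial_of_finrank_pos (R := F) (by omega)
    obtain ⟨L, _, _, ι, e, hgen, he⟩ :=
      Cfsg.Agent.Lib.H24.SelfDualAbelian.exists_field_model ρ hirr
    haveI : FiniteDimensional F L := LinearEquiv.finiteDimensional e.symm
    have hfr : Module.finrank F L = Module.finrank F V := e.finrank_eq
    have hι : Function.Injective ι := by
      intro h h' hh
      apply hfaith
      ext x
      obtain ⟨a, rfl⟩ := e.surjective x
      rw [← he, ← he, hh]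
    rw [← hfr]
    constructor
    · rintro ⟨B, hB, hBinv⟩
      refine Cfsg.Agent.Lib.H24.SelfDualAbelian.forward ι hι hgen (by omega)
        (LinearMap.BilinForm.congr e.symm B) (hB.congr e.symm) ?_
      intro h a b
      simp only [LinearMap.BilinForm.congr_apply, LinearEquiv.symm_symm, he, hBinv]
    · rintro ⟨_, hdvd⟩
      obtain ⟨B, hB, hBinv⟩ := Cfsg.Agent.Lib.H24.SelfDualAbelian.backward ι hdvd
      refine ⟨LinearMap.BilinForm.congr e B, hB.congr e, ?_⟩
      intro h x y
      simp only [LinearMap.BilinForm.congr_apply]
      have h3 : ∀ x, e.symm (ρ h x) = ι h * e.symm x := fun x => by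
        apply e.injective
        rw [he]
        simp
      rw [h3, h3, hBinv]

end Cfsg.Agent.S4967
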