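import Cfsg.Statements.S4989
import Cfsg.Agent.Lib.H24.CharOrth
import Cfsg.Agent.Lib.H23.ZerosCount

set_option autoImplicit false
open Cfsg

namespace Cfsg.Agent.S4989

open Cfsg.Agent.Lib.H24 Cfsg.Agent.Lib.L0 Cfsg.Agent.Lib.H23
open scoped ComplexConjugate

/-- Let H be a subgroup of the finite group G and χ an irreducible complex character of G. Then the inner product of the restriction of χ to H with itself, (1/#H)·Σ_{h ∈ H} |χ(h)|², is at most 1 + #(Z ∖ H)/#H, where Z is the set of zeros of χ in G. -/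
theorem result {G : Type*} [Group G] [Finite G] (H : Subgroup G) (χ : Cfsg.IrrCharacter G) : (Nat.card ↥H : ℝ)⁻¹ * ∑ᶠ h : ↥H, ‖(χ : G → ℂ) h‖ ^ 2 ≤ 1 + (Set.ncard ({x : G | (χ : G → ℂ) x = 0} \ (H : Set G)) : ℝ) / (Nat.card ↥H : ℝ) := by
  classical
  have := Fintype.ofFinite G
  obtain ⟨n, ρ, hρ, hχ⟩ := irr_exists_rep χ
  haveI : ρ.IsIrreducible := hρ
  have hcard : NeZero (Nat.card G) := ⟨Nat.card_pos.ne'⟩
  set a : G → ℝ := fun g => ‖(χ : G → ℂ) g‖ ^ 2 with ha
  have hsum : ∑ g : G, a g = (Nat.card G : ℝ) := by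
    rw [ha, ← hχ]
    exact sum_normSq_char_eq_card ρ
  have hmem : ∀ (k : (ZMod (Nat.card G))ˣ) (g : G),
      g ^ (k : ZMod (Nat.card G)).val ∈ H ↔ g ∈ H := by
    intro k g
    constructor
    · intro h
      have := H.pow_mem h ((k⁻¹ : (ZMod (Nat.card G))ˣ) : ZMod (Nat.card G)).val
      rwa [unit_pow_pow_inv] at this
    · intro h
      exact H.pow_mem h _
  have hU : (0 : ℝ) < Fintype.card (ZMod (Nat.card G))ˣ := by exact_mod_cast Fintype.card_pos
  have hkey : ((Finset.univ.filter (fun g : G => g ∉ H ∧ (χ : G → ℂ) g ≠ 0)).card : ℝ) ≤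
      ∑ g : G, (if g ∉ H then a g else 0) := by
    have h1 : ∀ k : (ZMod (Nat.card G))ˣ,
        ∑ g : G, (if g ∉ H then a (g ^ (k : ZMod (Nat.card G)).val) else 0) =
          ∑ g : G, (if g ∉ H then a g else 0) := by
      intro k
      rw [← sum_pow_unit_eq (fun g => if g ∉ H then a g else 0) k]
      refine Finset.sum_congr rfl (fun g _ => ?_)
      simp only [hmem k g]
    have h2 : (Fintype.card (ZMod (Nat.card G))ˣ : ℝ) * ∑ g : G, (if g ∉ H then a g else 0) =
        ∑ g : G, (if g ∉ H then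
          ∑ k : (ZMod (Nat.card G))ˣ, a (g ^ (k : ZMod (Nat.card G)).val) else 0) := by
      calc (Fintype.card (ZMod (Nat.card G))ˣ : ℝ) * ∑ g : G, (if g ∉ H then a g else 0)
          = ∑ k : (ZMod (Nat.card G))ˣ, ∑ g : G, (if g ∉ H then a g else 0) := by
            rw [Finset.sum_const, Finset.card_univ, nsmul_eq_mul]
        _ = ∑ k : (ZMod (Nat.card G))ˣ,
              ∑ g : G, (if g ∉ H then a (g ^ (k : ZMod (Nat.card G)).val) else 0) :=
            Finset.sum_congr rfl (fun k _ => (h1 k).symm)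
        _ = _ := by
            rw [Finset.sum_comm]
            refine Finset.sum_congr rfl (fun g _ => ?_)
            split_ifs <;> simp
    have h3 : ∀ g : G, (if g ∉ H ∧ (χ : G → ℂ) g ≠ 0 then
        (Fintype.card (ZMod (Nat.card G))ˣ : ℝ) else 0) ≤
        (if g ∉ H then
          ∑ k : (ZMod (Nat.card G))ˣ, a (g ^ (k : ZMod (Nat.card G)).val) else 0) := by
      intro g
      by_cases hg : g ∉ H
      · by_cases hne : (χ : G → ℂ) g ≠ 0
        · rw [if_pos ⟨hg, hne⟩, if_pos hg]
          have := card_units_le_sum_normSq_char_pow (Nat.card G) ρ g pow_card_eq_one'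
            (by rw [hχ]; exact hne)
          rw [hχ] at this
          exact this
        · rw [if_neg (fun h => hne h.2), if_pos hg]
          exact Finset.sum_nonneg (fun k _ => by positivity)
      · rw [if_neg (fun h => hg h.1), if_neg hg]
    have h4 := Finset.sum_le_sum (fun g (_ : g ∈ Finset.univ) => h3 g)
    rw [← h2, Finset.sum_ite, Finset.sum_const_zero, add_zero, Finset.sum_const,
      nsmul_eq_mul] at h4
    rw [mul_comm] at h4
    exact le_of_mul_le_mul_left h4 hU
  -- splitting the sum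
  have hsplit : ∑ g : G, a g = ∑ g : G, (if g ∈ H then a g else 0) +
      ∑ g : G, (if g ∉ H then a g else 0) := by
    rw [← Finset.sum_add_distrib]
    refine Finset.sum_congr rfl (fun g _ => ?_)
    by_cases hg : g ∈ H <;> simp [hg]
  have hH : ∑ᶠ h : ↥H, ‖(χ : G → ℂ) h‖ ^ 2 = ∑ g : G, (if g ∈ H then a g else 0) := by
    have := Fintype.ofFinite H
    rw [finsum_eq_sum_of_fintype, ← Finset.sum_filter,
      Finset.sum_subtype (p := (· ∈ H)) _ (by simp)]
  -- counting
  have hcount : (Finset.univ.filter (fun g : G => g ∉ H ∧ (χ : G → ℂ) g ≠ 0)).card +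
      (Finset.univ.filter (fun g : G => g ∉ H ∧ (χ : G → ℂ) g = 0)).card + Nat.card H =
      Nat.card G := by
    have h1 : (Finset.univ.filter (fun g : G => g ∉ H ∧ (χ : G → ℂ) g ≠ 0)).card +
        (Finset.univ.filter (fun g : G => g ∉ H ∧ (χ : G → ℂ) g = 0)).card =
        (Finset.univ.filter (fun g : G => g ∉ H)).card := by
      rw [← Finset.card_union_of_disjoint]
      · congr 1
        ext g
        simp only [Finset.mem_union, Finset.mem_filter, Finset.mem_univ, true_and]
        tauto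
      · rw [Finset.disjoint_filter]
        intro g _ h1 h2
        exact h1.2 h2.2
    have h2 : (Finset.univ.filter (fun g : G => g ∉ H)).card +
        (Finset.univ.filter (fun g : G => g ∈ H)).card = Fintype.card G := by
      rw [add_comm, Finset.card_filter_add_card_filter_not, Finset.card_univ]
    have h3 : (Finset.univ.filter (fun g : G => g ∈ H)).card = Nat.card H := by
      rw [Nat.card_eq_fintype_card, Fintype.card_subtype]
    rw [h1, ← h3, h2, Nat.card_eq_fintype_card]
  have hZ : Set.ncard ({x : G | (χ : G → ℂ) x = 0} \ (H : Set G)) =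
      (Finset.univ.filter (fun g : G => g ∉ H ∧ (χ : G → ℂ) g = 0)).card := by
    rw [Set.ncard_eq_toFinset_card']
    congr 1
    ext g
    simp only [Set.mem_toFinset, Set.mem_diff, Set.mem_setOf_eq, SetLike.mem_coe,
      Finset.mem_filter, Finset.mem_univ, true_and]
    tauto
  have hHpos : (0 : ℝ) < Nat.card H := by exact_mod_cast Nat.card_pos
  rw [hH, hZ]
  have hcount' : ((Finset.univ.filter (fun g : G => g ∉ H ∧ (χ : G → ℂ) g ≠ 0)).card : ℝ) +
      ((Finset.univ.filter (fun g : G => g ∉ H ∧ (χ : G → ℂ) g = 0)).card : ℝ) +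
      (Nat.card H : ℝ) = (Nat.card G : ℝ) := by exact_mod_cast hcount
  have hfinal : ∑ g : G, (if g ∈ H then a g else 0) ≤ (Nat.card H : ℝ) +
      ((Finset.univ.filter (fun g : G => g ∉ H ∧ (χ : G → ℂ) g = 0)).card : ℝ) := by
    linarith
  rw [inv_mul_le_iff₀ hHpos]
  have : (Nat.card H : ℝ) * (1 + ((Finset.univ.filter
      (fun g : G => g ∉ H ∧ (χ : G → ℂ) g = 0)).card : ℝ) / (Nat.card H : ℝ)) =
      (Nat.card H : ℝ) + ((Finset.univ.filter
      (fun g : G => g ∉ H ∧ (χ : G → ℂ) g = 0)).card : ℝ) := by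
    field_simp
  rw [this]
  exact hfinal

end Cfsg.Agent.S4989
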