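import Cfsg.Statements.S4996
import Cfsg.Agent.S0868
import Cfsg.Agent.Lib.H23.ZerosCount

set_option autoImplicit false
open Cfsg

namespace Cfsg.Agent.S4996

open Cfsg.Agent.Lib.H24 Cfsg.Agent.Lib.L0 Cfsg.Agent.Lib.H23
open scoped ComplexConjugate

/-- Averaging a class function over the cosets of a normal subgroup. -/
theorem coset_avg_expansion {G : Type*} [Group G] [Fintype G] (N : Subgroup G) [N.Normal]
    [Fintype N] [Fintype (IrrCharacter G)] (F : G → ℂ) (hF : IsClassFunction G F) (g : G)
    [DecidablePred (fun β : IrrCharacter G => ∀ x ∈ N, (β : G → ℂ) x = (β : G → ℂ) 1)] :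
    (Nat.card N : ℂ)⁻¹ * ∑ n : N, F ((n : G) * g) =
      ∑ β ∈ Finset.univ.filter (fun β : IrrCharacter G => ∀ x ∈ N, (β : G → ℂ) x = (β : G → ℂ) 1),
        classInner F (β : G → ℂ) * (β : G → ℂ) g := by
  classical
  have hFexp := classFunction_expansion F hF
  have h1 : ∀ n : N, F ((n : G) * g) =
      ∑ β : IrrCharacter G, classInner F (β : G → ℂ) * (β : G → ℂ) ((n : G) * g) := by
    intro n
    have := congrFun hFexp ((n : G) * g)
    simp only [Finset.sum_apply, Pi.smul_apply, smul_eq_mul] at this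
    exact this
  simp only [h1]
  rw [Finset.sum_comm, Finset.mul_sum, Finset.sum_filter]
  refine Finset.sum_congr rfl fun β _ => ?_
  rw [← Finset.mul_sum, mul_left_comm, Cfsg.Agent.S0868.avg_irr N β g]
  split_ifs with hβ
  · rfl
  · rw [mul_zero]

/-- Let N be a normal subgroup of the finite group G and χ an irreducible complex character of G. Then the restriction of χ to N is not irreducible if and only if χ vanishes on some whole coset Nx of N in G. -/
theorem result {G : Type*} [Group G] [Finite G] (N : Subgroup G) [N.Normal] (χ : Cfsg.IrrCharacter G) : ¬ Cfsg.IsIrrCharacter ↥N (fun n : ↥N => (χ : G → ℂ) n) ↔ ∃ x : G, ∀ n : ↥N, (χ : G → ℂ) ((n : G) * x) = 0 := by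
  classical
  have := Fintype.ofFinite G
  have := Fintype.ofFinite N
  have hfinI : Finite (IrrCharacter G) := finite_irr
  have := Fintype.ofFinite (IrrCharacter G)
  have hχc := isCharacter_of_irr χ.2
  have hNpos : (Nat.card N : ℂ) ≠ 0 := by exact_mod_cast (Nat.card_pos (α := N)).ne'
  have hNposR : (0 : ℝ) < Nat.card N := by exact_mod_cast (Nat.card_pos (α := N))
  constructor
  · -- not irreducible → some coset vanishes
    intro hnirr
    by_contra hcon
    push_neg at hcon
    -- the real-valued coset average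
    set θ : G → ℝ := fun g => (Nat.card N : ℝ)⁻¹ * ∑ n : N, ‖(χ : G → ℂ) ((n : G) * g)‖ ^ 2 with hθ
    have hθpos : ∀ g, 0 < θ g := by
      intro g
      obtain ⟨n, hn⟩ := hcon g
      apply mul_pos (inv_pos.mpr hNposR)
      apply Finset.sum_pos' (fun i _ => by positivity)
      exact ⟨n, Finset.mem_univ _, by positivity⟩
    -- it is a character
    set F : G → ℂ := fun g => (χ : G → ℂ) g * conj ((χ : G → ℂ) g) with hF
    have hFchar : IsCharacter G F := isCharacter_mul hχc (isCharacter_conj hχc)
    have hFcf := isClassFunction_of_isCharacter hFchar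
    have hθF : ∀ g, ((θ g : ℝ) : ℂ) = (Nat.card N : ℂ)⁻¹ * ∑ n : N, F ((n : G) * g) := by
      intro g
      rw [hθ]
      push_cast
      congr 1
      refine Finset.sum_congr rfl (fun n _ => ?_)
      rw [hF]
      simp only
      rw [Complex.mul_conj, Complex.normSq_eq_norm_sq]
      push_cast
      rfl
    have hm : ∀ β : IrrCharacter G, ∃ m : ℕ, classInner F (β : G → ℂ) = m :=
      fun β => classInner_char_irr_nat hFchar β.2
    choose m hm using hm
    set Θ : G → ℂ := ∑ β ∈ Finset.univ.filter
      (fun β : IrrCharacter G => ∀ x ∈ N, (β : G → ℂ) x = (β : G → ℂ) 1),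
        (m β) • (β : G → ℂ) with hΘ
    have hΘchar : IsCharacter G Θ :=
      isCharacter_finset_sum _ _ (fun β _ => isCharacter_nsmul (isCharacter_of_irr β.2) _)
    have hΘθ : ∀ g, Θ g = ((θ g : ℝ) : ℂ) := by
      intro g
      rw [hθF, coset_avg_expansion N F hFcf g, hΘ]
      simp only [Finset.sum_apply, Pi.smul_apply, nsmul_eq_mul, hm]
      refine Finset.sum_congr rfl (fun β _ => ?_)
      rfl
    obtain ⟨d, ρ, hρ⟩ := hΘchar
    have hcard : NeZero (Nat.card G) := ⟨Nat.card_pos.ne'⟩
    have hU : (0 : ℝ) < Fintype.card (ZMod (Nat.card G))ˣ := by exact_mod_cast Fintype.card_pos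
    -- AM-GM for each g
    have hAM : ∀ g : G, (Fintype.card (ZMod (Nat.card G))ˣ : ℝ) ≤
        ∑ k : (ZMod (Nat.card G))ˣ, θ (g ^ (k : ZMod (Nat.card G)).val) := by
      intro g
      have hg : g ^ Nat.card G = 1 := pow_card_eq_one'
      have hne : ρ.character g ≠ 0 := by
        rw [hρ, hΘθ]
        exact_mod_cast (hθpos g).ne'
      have hint : IsIntegral ℤ (ρ.character g) := by
        rw [hρ]
        exact isCharacter_isIntegral ⟨d, ρ, hρ⟩ g
      obtain ⟨Nn, hN0, hN⟩ := prod_char_pow_eq_int (Nat.card G) ρ g hg 1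
        (by simpa using hint) (by simpa using hne)
      simp only [Rat.cast_one, one_mul] at hN
      apply card_le_sum_of_one_le_prod
      · intro k; exact (hθpos _).le
      · have h1 : ((∏ k : (ZMod (Nat.card G))ˣ, θ (g ^ (k : ZMod (Nat.card G)).val) : ℝ) : ℂ) =
            (Nn : ℂ) := by
          rw [← hN]
          push_cast
          refine Finset.prod_congr rfl (fun k _ => ?_)
          rw [hρ, hΘθ]
        have h2 : (∏ k : (ZMod (Nat.card G))ˣ, θ (g ^ (k : ZMod (Nat.card G)).val) : ℝ) =
            (Nn : ℝ) := by exact_mod_cast h1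
        have h3 : (0 : ℝ) < ∏ k : (ZMod (Nat.card G))ˣ, θ (g ^ (k : ZMod (Nat.card G)).val) :=
          Finset.prod_pos (fun k _ => hθpos _)
        rw [h2] at h3 ⊢
        have h4 : (0 : ℤ) < Nn := by exact_mod_cast h3
        exact_mod_cast h4
    -- the total sum of θ is |G|
    have hθsum : ∑ g : G, θ g = (Nat.card G : ℝ) := by
      obtain ⟨n', ρ', hρ', hχ'⟩ := irr_exists_rep χ
      haveI : ρ'.IsIrreducible := hρ'
      have h1 := sum_normSq_char_eq_card ρ'
      rw [hχ'] at h1
      rw [hθ]
      simp only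
      rw [← Finset.mul_sum, Finset.sum_comm]
      have h2 : ∀ n : N, ∑ g : G, ‖(χ : G → ℂ) ((n : G) * g)‖ ^ 2 = (Nat.card G : ℝ) := by
        intro n
        rw [← h1]
        exact Fintype.sum_equiv (Equiv.mulLeft (n : G)) _ _ (fun g => rfl)
      simp only [h2, Finset.sum_const, Finset.card_univ, nsmul_eq_mul]
      rw [← Nat.card_eq_fintype_card]
      field_simp
    -- θ 1 = [χ_N, χ_N] ≥ 2
    have hθ1 : (2 : ℝ) ≤ θ 1 := by
      have hresc : IsCharacter N (fun n : N => (χ : G → ℂ) n) := isCharacter_restrict N hχc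
      obtain ⟨k, hk⟩ := classInner_char_char_nat hresc hresc
      have hk0 : k ≠ 0 := by
        intro h0
        rw [h0, Nat.cast_zero] at hk
        have := congrFun (classInner_self_eq_zero hk) 1
        exact irr_one_ne_zero χ this
      have hk1 : k ≠ 1 := by
        intro h1
        rw [h1, Nat.cast_one] at hk
        exact hnirr (isIrrCharacter_of_classInner_self_eq_one hresc hk)
      have hk2 : 2 ≤ k := by omega
      have h3 : ((θ 1 : ℝ) : ℂ) = (k : ℂ) := by
        rw [← hk, hθF]
        unfold classInner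
        congr 1
        refine Finset.sum_congr rfl (fun n _ => ?_)
        rw [hF, mul_one]
      have h4 : θ 1 = (k : ℝ) := by exact_mod_cast h3
      rw [h4]
      exact_mod_cast hk2
    -- sum over g and k
    have hperm : ∀ k : (ZMod (Nat.card G))ˣ,
        ∑ g : G, θ (g ^ (k : ZMod (Nat.card G)).val) = ∑ g : G, θ g :=
      fun k => sum_pow_unit_eq θ k
    have htot : ∑ g : G, ∑ k : (ZMod (Nat.card G))ˣ, θ (g ^ (k : ZMod (Nat.card G)).val) =
        (Fintype.card (ZMod (Nat.card G))ˣ : ℝ) * (Nat.card G : ℝ) := by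
      rw [Finset.sum_comm]
      simp only [hperm, hθsum, Finset.sum_const, Finset.card_univ, nsmul_eq_mul]
    have hone : ∑ k : (ZMod (Nat.card G))ˣ, θ ((1 : G) ^ (k : ZMod (Nat.card G)).val) =
        (Fintype.card (ZMod (Nat.card G))ˣ : ℝ) * θ 1 := by
      simp only [one_pow, Finset.sum_const, Finset.card_univ, nsmul_eq_mul]
    have hlower : (Fintype.card (ZMod (Nat.card G))ˣ : ℝ) * θ 1 +
        ((Nat.card G : ℝ) - 1) * (Fintype.card (ZMod (Nat.card G))ˣ : ℝ) ≤
        ∑ g : G, ∑ k : (ZMod (Nat.card G))ˣ, θ (g ^ (k : ZMod (Nat.card G)).val) := by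
      rw [← Finset.add_sum_erase Finset.univ _ (Finset.mem_univ (1 : G)), hone]
      apply add_le_add_right
      have : ((Nat.card G : ℝ) - 1) * (Fintype.card (ZMod (Nat.card G))ˣ : ℝ) =
          ∑ g ∈ Finset.univ.erase (1 : G), (Fintype.card (ZMod (Nat.card G))ˣ : ℝ) := by
        rw [Finset.sum_const, Finset.card_erase_of_mem (Finset.mem_univ _), Finset.card_univ,
          nsmul_eq_mul]
        have h1 : 1 ≤ Fintype.card G := Fintype.card_pos
        have h2 : (Nat.card G : ℝ) = (Fintype.card G : ℝ) := by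
          rw [Nat.card_eq_fintype_card]
        rw [h2]
        push_cast [Nat.cast_sub h1]
        ring
      rw [this]
      exact Finset.sum_le_sum (fun g _ => hAM g)
    rw [htot] at hlower
    nlinarith
  · -- some coset vanishes → not irreducible
    rintro ⟨x, hx⟩ hirr
    have h868 := (Cfsg.Agent.S0868.result N (χ : G → ℂ) χ.2 hirr (χ : G → ℂ) χ.2 _ rfl).2.2 rfl
    have h1 := congrFun h868 x
    simp only [hx, zero_mul, Finset.sum_const_zero, mul_zero] at h1
    exact zero_ne_one h1

end Cfsg.Agent.S4996
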