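import Cfsg.Statements.S5001
import Cfsg.Agent.Lib.L0.BlockHeight
import Cfsg.Agent.Lib.L0.FiniteOrderEnd
import Cfsg.Agent.Lib.L0.CharBasic

set_option autoImplicit false
open Cfsg

namespace Cfsg.Agent.S5001

open Module Cfsg.Agent.Lib.L0 Cfsg.Agent.Lib.H23

section LinAlg

variable {G : Type*} [Group G] {V : Type*} [AddCommGroup V] [Module ℂ V]

/-- Elements commuting with `g` preserve the eigenspaces of `ρ g`. -/
theorem mapsTo_eigenspace (ρ : Representation ℂ G V) {g d : G} (hdg : Commute d g) (c : ℂ) :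
    Set.MapsTo (ρ d) (Module.End.eigenspace (ρ g) c) (Module.End.eigenspace (ρ g) c) := by
  intro x hx
  have hx' : ρ g x = c • x := Module.End.mem_eigenspace_iff.mp hx
  show ρ d x ∈ Module.End.eigenspace (ρ g) c
  rw [Module.End.mem_eigenspace_iff]
  have h1 : ρ g (ρ d x) = ρ d (ρ g x) := by
    have e1 : ρ g (ρ d x) = (ρ (g * d)) x := by rw [map_mul]; rfl
    have e2 : ρ d (ρ g x) = (ρ (d * g)) x := by rw [map_mul]; rfl
    rw [e1, e2, hdg.eq]
  rw [h1, hx', map_smul]

variable [FiniteDimensional ℂ V]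

/-- The determinant of the action of a subgroup centralizing `g` on an eigenspace of `ρ g`. -/
noncomputable def detOn (ρ : Representation ℂ G V) (g : G) (D : Subgroup G)
    (hD : ∀ d ∈ D, Commute d g) (c : ℂ) : ↥D →* ℂ where
  toFun d := LinearMap.det ((ρ (d : G)).restrict (mapsTo_eigenspace ρ (hD d d.2) c))
  map_one' := by
    have : (ρ ((1 : ↥D) : G)).restrict (mapsTo_eigenspace ρ (hD 1 (1 : ↥D).2) c) =
        (1 : Module.End ℂ (Module.End.eigenspace (ρ g) c)) := by
      ext ⟨x, hx⟩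
      simp
    rw [this, map_one]
  map_mul' a b := by
    have : (ρ ((a * b : ↥D) : G)).restrict (mapsTo_eigenspace ρ (hD _ (a * b).2) c) =
        (ρ (a : G)).restrict (mapsTo_eigenspace ρ (hD a a.2) c) *
          (ρ (b : G)).restrict (mapsTo_eigenspace ρ (hD b b.2) c) := by
      ext ⟨x, hx⟩
      simp only [Subgroup.coe_mul, map_mul, LinearMap.coe_restrict_apply, Module.End.mul_apply]
      rfl
    rw [this]
    exact map_mul _ _ _

theorem detOn_of_smul (ρ : Representation ℂ G V) (g : G) (D : Subgroup G)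
    (hD : ∀ d ∈ D, Commute d g) (c : ℂ) (d : ↥D) (a : ℂ) (ha : ρ (d : G) = a • 1) :
    detOn ρ g D hD c d = a ^ finrank ℂ (Module.End.eigenspace (ρ g) c) := by
  show LinearMap.det ((ρ (d : G)).restrict (mapsTo_eigenspace ρ (hD d d.2) c)) = _
  have : (ρ (d : G)).restrict (mapsTo_eigenspace ρ (hD d d.2) c) =
      a • (1 : Module.End ℂ (Module.End.eigenspace (ρ g) c)) := by
    ext ⟨x, hx⟩
    simp [ha]
  rw [this, LinearMap.det_smul, map_one, mul_one]

end LinAlg

/-- Let p be a prime, G a finite group and B a p-block of G (relative to a maximal ideal M of the algebraic integers containing p) with defect group D. Let Z be a central p-subgroup of G contained in D and λ a linear character of Z (a homomorphism to the nonzero complex numbers). Say an irreducible character χ of G lies over λ when χ(z) = χ(1)λ(z) for all z ∈ Z. If some irreducible character in B lying over λ has height zero, then λ extends to a linear character of D. -/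
theorem result {G : Type*} [Group G] [Finite G] (p : ℕ) [Fact p.Prime] (M : Ideal Cfsg.AlgInt) (hM : Cfsg.IsPModular p M) (B : Set (Cfsg.IrrCharacter G)) (hB : Cfsg.IsPBlock M B) (D : Subgroup G) (hD : Cfsg.IsDefectGroup p M B D) (Z : Subgroup G) (hZc : Z ≤ Subgroup.center G) (hZp : IsPGroup p ↥Z) (hZD : Z ≤ D) (lam : ↥Z →* ℂˣ) (χ : Cfsg.IrrCharacter G) (hχ : χ ∈ B) (hover : (∀ z : ↥Z, (χ : G → ℂ) z = (χ : G → ℂ) 1 * (lam z : ℂ))) (h0 : Cfsg.blockHeight p B (χ : G → ℂ) = 0) : (∃ μ : ↥D →* ℂˣ, ∀ z : ↥Z, μ ⟨(z : G), hZD z.2⟩ = lam z) := by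
  classical
  letI : Fintype G := Fintype.ofFinite G
  have hP := isPrime_of_isPModular hM
  have hp : p.Prime := Fact.out
  obtain ⟨χ₀, rfl⟩ := hB
  obtain ⟨g, hg, P, hPD⟩ := hD
  -- elements of `D` commute with `g`
  have hDg : ∀ d ∈ D, Commute d g := by
    intro d hd
    rw [hPD] at hd
    obtain ⟨c, -, rfl⟩ := hd
    have := Subgroup.mem_centralizer_iff.1 c.2
    exact (this g rfl).symm
  -- `χ(g)` is not in the local ideal
  have hnot : ¬ MemLocalIdeal M ((χ : G → ℂ) g) :=
    Cfsg.Agent.Lib.L0.BlockHeight.height_zero_apply_not_mem hM χ₀ g hg χ hχ h0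
  obtain ⟨n, ρ, hρirr, hρχ⟩ := χ.2
  have hχg : (χ : G → ℂ) g = LinearMap.trace ℂ _ (ρ g) := by rw [← hρχ]; rfl
  have hss : Module.End.IsSemisimple (ρ g) := isSemisimple_of_pow_eq_one (orderOf_pos g) (rep_pow_orderOf ρ g)
  -- some eigenspace has dimension prime to `p`
  have hex : ∃ c : Module.End.Eigenvalues (ρ g), ¬ p ∣ finrank ℂ (Module.End.eigenspace (ρ g) (c : ℂ)) := by
    by_contra hall
    push Not at hall
    apply hnot
    rw [hχg]
    have h1 := trace_pow_eq_sum hss 1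
    rw [pow_one] at h1
    rw [h1]
    refine memLocalIdeal_sum _ _ (fun c _ => ?_)
    obtain ⟨q, hq⟩ := hall c
    rw [hq, pow_one]
    push_cast
    have hint : IsIntegral ℤ (c : ℂ) := by
      have h2 := eigenvalue_pow_eq_one (rep_pow_orderOf ρ g) c
      exact IsIntegral.of_pow (orderOf_pos g) (h2 ▸ isIntegral_one)
    rw [mul_assoc]
    refine memLocalIdeal_mul_right (memLocalIdeal_p hM) ?_
    exact memLocalRing_mul (natCast_mem_localRing q) (isIntegral_mem_localRing hint)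
  obtain ⟨c, hc⟩ := hex
  set m := finrank ℂ (Module.End.eigenspace (ρ g) (c : ℂ)) with hm
  -- `Z` acts by the scalars `lam`
  have hn0 : (χ : G → ℂ) 1 ≠ 0 := Cfsg.Agent.Lib.H24.irr_one_ne_zero χ
  have hχ1 : (χ : G → ℂ) 1 = (finrank ℂ (Fin n → ℂ) : ℂ) := by
    rw [← hρχ, Representation.char_one]
  have hlampow : ∀ z : ↥Z, (lam z : ℂ) ^ Nat.card ↥Z = 1 := by
    intro z
    have h1 : lam z ^ Nat.card ↥Z = 1 := by
      rw [← map_pow, pow_card_eq_one', map_one]
    have := congrArg (fun u : ℂˣ => (u : ℂ)) h1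
    simpa using this
  have hscal : ∀ z : ↥Z, ρ (z : G) = (lam z : ℂ) • 1 := by
    intro z
    have hnorm : ‖(lam z : ℂ)‖ = 1 :=
      Complex.norm_eq_one_of_pow_eq_one (hlampow z) Nat.card_pos.ne'
    have h1 : ‖ρ.character (z : G)‖ = finrank ℂ (Fin n → ℂ) := by
      rw [hρχ, hover z, norm_mul, hnorm, mul_one, hχ1]
      simp
    obtain ⟨a, ha⟩ := (norm_char_eq_finrank_iff ρ (z : G)).1 h1
    have h2 : ρ.character (z : G) = a * (finrank ℂ (Fin n → ℂ) : ℂ) := by
      show LinearMap.trace ℂ _ (ρ (z : G)) = _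
      rw [ha, map_smul, smul_eq_mul]
      congr 1
      exact LinearMap.trace_one ℂ (Fin n → ℂ)
    rw [hρχ, hover z, hχ1] at h2
    have h3 : (finrank ℂ (Fin n → ℂ) : ℂ) ≠ 0 := by rw [← hχ1]; exact hn0
    have h4 : a = (lam z : ℂ) := by
      have := mul_left_cancel₀ h3 (by rw [h2]; ring : (finrank ℂ (Fin n → ℂ) : ℂ) * (lam z : ℂ) =
        (finrank ℂ (Fin n → ℂ) : ℂ) * a)
      exact this.symm
    rw [ha, h4]
  -- the determinant character
  set δ : ↥D →* ℂˣ := (detOn ρ g D hDg (c : ℂ)).toHomUnits with hδ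
  have hδz : ∀ z : ↥Z, ((δ ⟨(z : G), hZD z.2⟩ : ℂˣ) : ℂ) = (lam z : ℂ) ^ m := by
    intro z
    rw [hδ, MonoidHom.coe_toHomUnits]
    exact detOn_of_smul ρ g D hDg (c : ℂ) ⟨(z : G), hZD z.2⟩ _ (hscal z)
  -- choose the exponent
  obtain ⟨j, hj⟩ := IsPGroup.iff_card.1 hZp
  have hcop : Nat.Coprime m (Nat.card ↥Z) := by
    rw [hj]
    exact Nat.Coprime.pow_right j ((Nat.Prime.coprime_iff_not_dvd hp).2 hc).symm
  by_cases hZ1 : Nat.card ↥Z = 1
  · refine ⟨1, fun z => ?_⟩
    have hz : z = 1 := by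
      haveI : Subsingleton ↥Z := (Nat.card_eq_one_iff_unique.1 hZ1).1
      exact Subsingleton.elim _ _
    rw [hz, map_one]
    rfl
  · have hgt : 1 < Nat.card ↥Z := by
      have := Nat.card_pos (α := ↥Z)
      omega
    obtain ⟨k, -, hk⟩ := Nat.exists_mul_mod_eq_one_of_coprime hcop hgt
    refine ⟨δ ^ k, fun z => ?_⟩
    apply Units.ext
    rw [MonoidHom.pow_apply, Units.val_pow_eq_pow_val, hδz z, ← pow_mul]
    have h1 : m * k = Nat.card ↥Z * (m * k / Nat.card ↥Z) + 1 := by
      have := Nat.div_add_mod (m * k) (Nat.card ↥Z)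
      rw [hk] at this
      exact this.symm
    rw [h1, pow_succ, pow_mul, hlampow z, one_pow, one_mul]

end Cfsg.Agent.S5001
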