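import Cfsg.Statements.S5013
import Cfsg.Agent.Lib.H25.RankOne

set_option autoImplicit false
open Cfsg

namespace Cfsg.Agent.S5013

open Cfsg Cfsg.Agent.Lib.H25

theorem result {G : Type*} [Group G] {A B : Subgroup G} (h : Cfsg.IsRankOnePair A B) :
    (∀ a ∈ A, a ≠ 1 → ∃! b : G, b ∈ B ∧ b ≠ 1 ∧ Cfsg.conjBy A b⁻¹ = Cfsg.conjBy B a⁻¹) ∧
    (∀ b ∈ B, b ≠ 1 → ∃! a : G, a ∈ A ∧ a ≠ 1 ∧ Cfsg.conjBy A b⁻¹ = Cfsg.conjBy B a⁻¹) ∧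
    A ⊓ Subgroup.normalizer (B : Set G) = ⊥ ∧ B ⊓ Subgroup.normalizer (A : Set G) = ⊥ := by
  refine ⟨?_, ?_, RankOne.inf_normalizer_eq_bot h, RankOne.inf_normalizer_eq_bot (RankOnePair_symm h)⟩
  · intro a ha ha1
    obtain ⟨b, hb, hb1, hE⟩ := h.cond_left a ha ha1
    refine ⟨b, ⟨hb, hb1, hE⟩, ?_⟩
    rintro b' ⟨hb', -, hE'⟩
    exact RankOne.partner_unique h hb' hb hE' hE
  · intro b hb hb1
    obtain ⟨a, ha, ha1, hE⟩ := RankOne.exists_left h hb hb1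
    refine ⟨a, ⟨ha, ha1, hE⟩, ?_⟩
    rintro a' ⟨ha', -, hE'⟩
    exact RankOne.left_unique h ha' ha hE'.symm hE.symm

end Cfsg.Agent.S5013
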