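import Cfsg.Statements.S5015
import Cfsg.Agent.Lib.H25.RankOne

set_option autoImplicit false
open Cfsg

namespace Cfsg.Agent.S5015

open Cfsg.Agent.Lib.H25

section

variable {Y Ω : Type*} [Group Y] [MulAction Y Ω] {α : Ω} {A : Subgroup Y}

/-- `conjBy A g` only depends on `g • α`. -/
theorem conjBy_eq_of_smul_eq (hAn : ∀ y ∈ MulAction.stabilizer Y α, Cfsg.conjBy A y = A) {g g' : Y}
    (h : g • α = g' • α) : conjBy A g = conjBy A g' := by
  have hmem : g'⁻¹ * g ∈ MulAction.stabilizer Y α := by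
    rw [MulAction.mem_stabilizer_iff, mul_smul, h, inv_smul_smul]
  have := hAn _ hmem
  calc conjBy A g = conjBy A (g' * (g'⁻¹ * g)) := by rw [mul_inv_cancel_left]
    _ = conjBy (conjBy A (g'⁻¹ * g)) g' := (conjBy_conjBy _ _ _).symm
    _ = conjBy A g' := by rw [this]

end

theorem result {Y Ω : Type*} [Group Y] [MulAction Y Ω]
    (h2 : MulAction.IsMultiplyPretransitive Y Ω 2) (hΩ : 3 ≤ ENat.card Ω) (α : Ω) (A : Subgroup Y)
    (hA : A ≤ MulAction.stabilizer Y α) (hAn : ∀ y ∈ MulAction.stabilizer Y α, Cfsg.conjBy A y = A)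
    (hnil : Group.IsNilpotent A) (hreg : ∀ β γ : Ω, β ≠ α → γ ≠ α → ∃! a : Y, a ∈ A ∧ a • β = γ)
    (y : Y) (hy : y ∉ MulAction.stabilizer Y α) :
    Cfsg.IsRankOnePair A (Cfsg.conjBy A y) ∧ Subgroup.normalClosure (A : Set Y) = A ⊔ Cfsg.conjBy A y := by
  set β : Ω := y • α with hβ
  have hβα : β ≠ α := fun h => hy (MulAction.mem_stabilizer_iff.mpr h)
  have hAfix : ∀ a ∈ A, a • α = α := fun a ha => MulAction.mem_stabilizer_iff.mp (hA ha)
  -- elements of `A` fixing a point other than `α` are trivial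
  have hAfree : ∀ a ∈ A, ∀ γ : Ω, γ ≠ α → a • γ = γ → a = 1 := by
    intro a ha γ hγ hfix
    obtain ⟨a0, -, huniq⟩ := hreg γ γ hγ hγ
    rw [huniq a ⟨ha, hfix⟩, huniq 1 ⟨A.one_mem, one_smul _ _⟩]
  -- `B = conjBy A y` fixes `β`, and is regular off `β`
  have hBmem : ∀ {b : Y}, b ∈ conjBy A y ↔ y⁻¹ * b * y ∈ A := fun {b} => mem_conjBy
  have hBfix : ∀ b ∈ conjBy A y, b • β = β := by
    intro b hb
    have := hAfix _ (hBmem.mp hb)
    rw [mul_smul, mul_smul] at this
    rw [hβ]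
    have h3 := congrArg (fun t => y • t) this
    simpa using h3
  have hBtrans : ∀ γ δ : Ω, γ ≠ β → δ ≠ β → ∃ b ∈ conjBy A y, b • γ = δ := by
    intro γ δ hγ hδ
    have hγ' : y⁻¹ • γ ≠ α := by
      intro h; apply hγ; rw [hβ, ← h, smul_inv_smul]
    have hδ' : y⁻¹ • δ ≠ α := by
      intro h; apply hδ; rw [hβ, ← h, smul_inv_smul]
    obtain ⟨a, ⟨ha, hmap⟩, -⟩ := hreg _ _ hγ' hδ'
    refine ⟨y * a * y⁻¹, ?_, ?_⟩
    · rw [hBmem]; simpa [mul_assoc] using ha
    · rw [mul_smul, mul_smul, hmap, smul_inv_smul]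
  have hBfree : ∀ b ∈ conjBy A y, ∀ γ : Ω, γ ≠ β → b • γ = γ → b = 1 := by
    intro b hb γ hγ hfix
    have hγ' : y⁻¹ • γ ≠ α := by
      intro h; apply hγ; rw [hβ, ← h, smul_inv_smul]
    have h1 : (y⁻¹ * b * y) • (y⁻¹ • γ) = y⁻¹ • γ := by
      rw [mul_smul, mul_smul, smul_inv_smul, hfix]
    have := hAfree _ (hBmem.mp hb) _ hγ' h1
    have h3 := congrArg (fun t => y * t * y⁻¹) this
    simpa [mul_assoc] using h3
  -- a third point
  have hthird : ∃ γ : Ω, γ ≠ α ∧ γ ≠ β := by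
    by_contra hcon
    push Not at hcon
    have hsub : (Set.univ : Set Ω) ⊆ {α, β} := by
      intro γ _
      by_cases h : γ = α
      · left; exact h
      · right; exact hcon γ h
    have h1 := Set.encard_le_encard hsub
    rw [Set.encard_univ, Set.encard_pair hβα.symm] at h1
    have : (3 : ℕ∞) ≤ 2 := le_trans hΩ h1
    exact absurd this (by decide)
  have hne : A ≠ conjBy A y := by
    intro hE
    obtain ⟨γ, hγα, hγβ⟩ := hthird
    obtain ⟨b, hb, hmap⟩ := hBtrans α γ hβα.symm hγβ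
    rw [← hE] at hb
    rw [hAfix b hb] at hmap
    exact hγα hmap.symm
  have hBnil : Group.IsNilpotent (conjBy A y) := by
    have e : A ≃* conjBy A y := A.equivMapOfInjective _ (MulAut.conj y).injective
    exact (Group.isNilpotent_congr e).mp hnil
  have hcondL : RankOneCondition A (conjBy A y) := by
    intro a ha ha1
    -- γ = a⁻¹ • β
    have hγβ : a⁻¹ • β ≠ β := by
      intro h
      have := hAfree a⁻¹ (A.inv_mem ha) β hβα h
      exact ha1 (inv_eq_one.mp this)
    have hγα : a⁻¹ • β ≠ α := by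
      intro h
      have h1 : a⁻¹ • β = a⁻¹ • α := by rw [h, hAfix _ (A.inv_mem ha)]
      exact hβα (smul_left_cancel _ h1)
    obtain ⟨b', hb', hmap⟩ := hBtrans α (a⁻¹ • β) hβα.symm hγβ
    refine ⟨b'⁻¹, Subgroup.inv_mem _ hb', ?_, ?_⟩
    · intro h
      rw [inv_eq_one] at h
      rw [h, one_smul] at hmap
      exact hγα hmap.symm
    · rw [inv_inv, conjBy_conjBy]
      apply conjBy_eq_of_smul_eq hAn
      rw [hmap, mul_smul]
  have hcondR : RankOneCondition (conjBy A y) A := by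
    intro b hb hb1
    have hγα : b⁻¹ • α ≠ α := by
      intro h
      have := hBfree b⁻¹ (Subgroup.inv_mem _ hb) α hβα.symm h
      exact hb1 (inv_eq_one.mp this)
    have hγβ : b⁻¹ • α ≠ β := by
      intro h
      have h1 : b⁻¹ • α = b⁻¹ • β := by rw [h, hBfix _ (Subgroup.inv_mem _ hb)]
      exact hβα.symm (smul_left_cancel _ h1)
    obtain ⟨a', ⟨ha', hmap⟩, -⟩ := hreg β (b⁻¹ • α) hβα hγα
    refine ⟨a'⁻¹, A.inv_mem ha', ?_, ?_⟩
    · intro h
      rw [inv_eq_one] at h
      rw [h, one_smul] at hmap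
      exact hγβ hmap.symm
    · rw [inv_inv, conjBy_conjBy]
      apply conjBy_eq_of_smul_eq hAn
      rw [mul_smul, ← hβ, hmap]
  refine ⟨⟨hne, hnil, hBnil, hcondL, hcondR⟩, ?_⟩
  apply le_antisymm
  · -- every conjugate of `A` lies in `A ⊔ B`
    have hconj : ∀ g : Y, conjBy A g ≤ A ⊔ conjBy A y := by
      intro g
      by_cases hg : g • α = α
      · rw [hAn g (MulAction.mem_stabilizer_iff.mpr hg)]
        exact le_sup_left
      · obtain ⟨a, ⟨ha, hmap⟩, -⟩ := hreg β (g • α) hβα hg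
        have : conjBy A g = conjBy A (a * y) := by
          apply conjBy_eq_of_smul_eq hAn
          rw [mul_smul, ← hβ, hmap]
        rw [this, ← conjBy_conjBy]
        exact conjBy_le_of_le le_sup_right (Subgroup.mem_sup_left ha)
    unfold Subgroup.normalClosure
    rw [Subgroup.closure_le]
    intro x hx
    rw [Group.mem_conjugatesOfSet_iff] at hx
    obtain ⟨a, ha, hc⟩ := hx
    rw [isConj_iff] at hc
    obtain ⟨c, rfl⟩ := hc
    apply hconj c
    rw [mem_conjBy]
    simpa [mul_assoc] using ha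
  · refine sup_le Subgroup.le_normalClosure ?_
    intro x hx
    rw [mem_conjBy] at hx
    have h1 : y⁻¹ * x * y ∈ Subgroup.normalClosure (A : Set Y) := Subgroup.le_normalClosure hx
    have := (Subgroup.normalClosure_normal (s := (A : Set Y))).conj_mem _ h1 y
    simpa [mul_assoc] using this

end Cfsg.Agent.S5015
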