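import Cfsg.Statements.S5017
import Cfsg.Agent.Lib.H25.RankOneGroup

set_option autoImplicit false
open Cfsg

namespace Cfsg.Agent.S5017

open Cfsg.Agent.Lib.H25

/-- If `M ⊔ A = ⊤` with `M` normal and `A` nilpotent, and `X` is perfect, then `M = ⊤`. -/
theorem eq_top_of_sup_eq_top {X : Type*} [Group X] {A M : Subgroup X} [hM : M.Normal]
    (hA : Group.IsNilpotent A) (hperf : Group.IsPerfect X) (htop : M ⊔ A = ⊤) : M = ⊤ := by
  -- the composite `A → X → X ⧸ M` is surjective
  let f : A →* X ⧸ M := (QuotientGroup.mk' M).comp A.subtype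
  have hf : Function.Surjective f := by
    intro q
    obtain ⟨x, rfl⟩ := QuotientGroup.mk'_surjective M q
    have hx : x ∈ M ⊔ A := by rw [htop]; trivial
    have hx' : x ∈ ((M ⊔ A : Subgroup X) : Set X) := hx
    rw [Subgroup.normal_mul] at hx'
    obtain ⟨m, hm, a, ha, rfl⟩ := Set.mem_mul.mp hx'
    refine ⟨⟨a, ha⟩, ?_⟩
    show (QuotientGroup.mk' M) a = (QuotientGroup.mk' M) (m * a)
    have h1 : (QuotientGroup.mk' M) m = 1 := (QuotientGroup.eq_one_iff m).mpr hm
    rw [map_mul, h1, one_mul]
  have hnil : Group.IsNilpotent (X ⧸ M) := Group.nilpotent_of_surjective f hf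
  have hsub : Subsingleton (X ⧸ M) := by
    by_contra hns
    rw [not_subsingleton_iff_nontrivial] at hns
    exact Group.IsPerfect.not_isNilpotent (X ⧸ M) hnil
  exact QuotientGroup.subgroup_eq_top_of_subsingleton M hsub

theorem result {X : Type*} [Group X] {A B : Subgroup X} (h : Cfsg.IsRankOneGroup X A B) :
    (∀ N : Subgroup X, N.Normal → N ⊔ A = ⊤ ∨ N ≤ Subgroup.center X) ∧
    (Group.IsPerfect X → Cfsg.IsQuasisimple X) := by
  refine ⟨fun N hN => rankOne_normal_dichotomy h N, ?_⟩
  intro hperf
  refine ⟨hperf, ?_⟩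
  have hnt : Nontrivial (X ⧸ Subgroup.center X) := by
    by_contra hns
    rw [not_nontrivial_iff_subsingleton] at hns
    exact rankOne_center_ne_top h (QuotientGroup.subgroup_eq_top_of_subsingleton _ hns)
  refine { toNontrivial := hnt, eq_bot_or_eq_top_of_normal := ?_ }
  intro H hH
  set M := H.comap (QuotientGroup.mk' (Subgroup.center X)) with hMdef
  have hMn : M.Normal := hH.comap _
  have hHM : H = M.map (QuotientGroup.mk' (Subgroup.center X)) := by
    rw [hMdef, Subgroup.map_comap_eq_self_of_surjective (QuotientGroup.mk'_surjective _)]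
  rcases rankOne_normal_dichotomy h M with h1 | h1
  · right
    have : M = ⊤ := eq_top_of_sup_eq_top h.2.nilpotent_left hperf h1
    rw [hHM, this, ← MonoidHom.range_eq_map]
    exact MonoidHom.range_eq_top_of_surjective _ (QuotientGroup.mk'_surjective _)
  · left
    rw [hHM, eq_bot_iff]
    calc M.map (QuotientGroup.mk' (Subgroup.center X))
        ≤ (Subgroup.center X).map (QuotientGroup.mk' (Subgroup.center X)) := Subgroup.map_mono h1
      _ = ⊥ := by
        rw [eq_bot_iff]
        rintro _ ⟨z, hz, rfl⟩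
        rw [Subgroup.mem_bot]
        exact (QuotientGroup.eq_one_iff z).mpr hz

end Cfsg.Agent.S5017
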