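import Cfsg.Statements.S5018
import Cfsg.Agent.Lib.H25.RankOneGroup

set_option autoImplicit false
open Cfsg

namespace Cfsg.Agent.S5018

open Cfsg.Agent.Lib.H25

theorem result {X : Type*} [Group X] {A B : Subgroup X} (h : Cfsg.IsRankOneGroup X A B) :
    Subgroup.upperCentralSeries X 2 = Subgroup.center X ∧ ¬ Group.IsNilpotent X := by
  refine ⟨?_, rankOne_not_isNilpotent h⟩
  apply le_antisymm
  · rcases rankOne_normal_dichotomy h (Subgroup.upperCentralSeries X 2) with h1 | h1
    · exact absurd (by rw [sup_comm]; exact h1) (rankOne_sup_upperCentralSeries_ne_top h 2)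
    · exact h1
  · rw [← Subgroup.upperCentralSeries_one]
    exact Subgroup.upperCentralSeries_mono X (by norm_num)

end Cfsg.Agent.S5018
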