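import Cfsg.Statements.S5023
import Cfsg.Agent.Lib.H6.QuadAct3

set_option autoImplicit false
open Cfsg

namespace Cfsg.Agent.S5023

/-- Let X be a rank one group with unipotent subgroups A and B that acts faithfully on an abelian group V (written additively) with A acting quadratically: a' • (a • v − v) = a • v − v for all a, a' in A and v in V. Then A is either torsion-free or an elementary abelian p-group for some prime p. -/
theorem result {X : Type*} [Group X] {A B : Subgroup X} (h : Cfsg.IsRankOneGroup X A B)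
    {V : Type*} [AddCommGroup V] [DistribMulAction X V] (hf : ∀ x : X, (∀ v : V, x • v = v) → x = 1)
    (hq : ∀ a ∈ A, ∀ a' ∈ A, ∀ v : V, a' • (a • v - v) = a • v - v) :
    (∀ a ∈ A, a ≠ 1 → ¬ IsOfFinOrder a) ∨ ∃ p : ℕ, p.Prime ∧ Cfsg.IsElementaryAbelian p A := by
  have hqA := Cfsg.Agent.Lib.H6.QuadAct.quad_of V hq
  by_cases hfin : ∀ a ∈ A, a ≠ 1 → ¬ IsOfFinOrder a
  · left; exact hfin
  · right
    push Not at hfin
    obtain ⟨a₁, ha₁, ha₁1, hfo⟩ := hfin
    have hord0 : orderOf a₁ ≠ 0 := by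
      rw [Ne, orderOf_eq_zero_iff]; exact fun hh => hh hfo
    have hord1 : orderOf a₁ ≠ 1 := by
      rw [Ne, orderOf_eq_one_iff]; exact ha₁1
    have hp : (orderOf a₁).minFac.Prime := Nat.minFac_prime hord1
    have hdvd : (orderOf a₁).minFac ∣ orderOf a₁ := Nat.minFac_dvd _
    have hord2 := orderOf_pow_orderOf_div hord0 hdvd
    refine ⟨(orderOf a₁).minFac, hp, ?_, ?_⟩
    · refine ⟨⟨fun x y => ?_⟩⟩
      apply Subtype.ext
      exact Cfsg.Agent.Lib.H6.QuadAct.comm_of_quad hf hqA x.2 y.2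
    · intro a ha
      have ha₂ : a₁ ^ (orderOf a₁ / (orderOf a₁).minFac) ∈ A := A.pow_mem ha₁ _
      have ha₂1 : a₁ ^ (orderOf a₁ / (orderOf a₁).minFac) ≠ 1 := by
        intro hh
        rw [hh, orderOf_one] at hord2
        exact hp.one_lt.ne hord2
      have ha₂p : (a₁ ^ (orderOf a₁ / (orderOf a₁).minFac)) ^ (orderOf a₁).minFac = 1 := by
        have := pow_orderOf_eq_one (a₁ ^ (orderOf a₁ / (orderOf a₁).minFac))
        rwa [hord2] at this
      exact Cfsg.Agent.Lib.H6.QuadAct.pow_eq_one h hf hqA ha₂ ha₂1 ha₂p ha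

end Cfsg.Agent.S5023
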