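import Cfsg.Statements.S5024
import Cfsg.Agent.Lib.H25.RootSubgroups
import Cfsg.Agent.S5025

set_option autoImplicit false
open Cfsg

namespace Cfsg.Agent.S5024

open Cfsg.Agent.Lib.H25

/-- Some element of `A` moves some conjugate of `C` under `C ⊔ D`. -/
theorem exists_moved {G : Type*} [Group G] {A B C D : Subgroup G} (hAB : IsRankOnePair A B)
    (hCD : IsRankOnePair C D) (hle : A ⊔ B ≤ C ⊔ D) :
    ∃ a ∈ A, ∃ E ∈ unipotentSubgroups C D, conjBy E a ≠ E := by
  by_contra hcon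
  push Not at hcon
  let K : Subgroup G := ⨅ x : (C ⊔ D : Subgroup G), Subgroup.normalizer (conjBy C (x : G) : Set G)
  have hAK : A ≤ K := by
    intro a ha
    rw [Subgroup.mem_iInf]
    intro x
    exact conjBy_eq_self_iff.mp (hcon a ha _ ⟨x, x.2, rfl⟩)
  have hKC : K ≤ Subgroup.normalizer (C : Set G) := by
    intro n hn
    have := (Subgroup.mem_iInf.mp hn) ⟨1, Subgroup.one_mem _⟩
    simpa [conjBy_one] using this
  have hnorm : ∀ x ∈ C ⊔ D, ∀ n ∈ K, x⁻¹ * n * x ∈ K := by
    intro x hx n hn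
    rw [Subgroup.mem_iInf]
    intro y
    rw [normalizer_conjBy]
    have := (Subgroup.mem_iInf.mp hn) ⟨x * y, (C ⊔ D).mul_mem hx y.2⟩
    rw [normalizer_conjBy] at this
    have e : (y : G)⁻¹ * (x⁻¹ * n * x) * y = (x * y)⁻¹ * n * (x * y) := by group
    rw [e]; exact this
  have hcen := RankOne.le_centralizer_of_le_normalizer hCD hnorm hKC
  obtain ⟨a, ha, ha1⟩ := RankOne.exists_ne_one_left hAB
  apply ha1
  apply RankOne.eq_one_of_mem_normalizer hAB ha
  apply Subgroup.centralizer_le_normalizer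
  have h1 := hcen (hAK ha)
  rw [Subgroup.mem_centralizer_iff] at h1 ⊢
  intro y hy
  exact h1 y (hle (Subgroup.mem_sup_right hy))

/-- `A` is a conjugate of `C` under `C ⊔ D`. -/
theorem mem_unipotents {G : Type*} [Group G] {S : Set (Subgroup G)} (hS : Cfsg.IsRootSubgroupSet S)
    {A B C D : Subgroup G} (hA : A ∈ S) (hC : C ∈ S) (hD : D ∈ S) (hAB : IsRankOnePair A B)
    (hCD : IsRankOnePair C D) (hle : A ⊔ B ≤ C ⊔ D) : A ∈ unipotentSubgroups C D := by
  obtain ⟨a, ha, E, hE, hmove⟩ := exists_moved hAB hCD hle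
  have haY : a ∈ C ⊔ D := hle (Subgroup.mem_sup_left ha)
  have hES : E ∈ S := by
    obtain ⟨x, -, rfl⟩ := hE
    exact hS.conj_mem C hC x
  have hEY : E ≤ C ⊔ D := by
    obtain ⟨x, hx, rfl⟩ := hE
    exact conjBy_le_of_le le_sup_left hx
  have hnotcen : ¬ (∀ e ∈ E, e * a = a * e) := by
    intro hc
    apply hmove
    rw [conjBy_eq_self_iff]
    apply Subgroup.centralizer_le_normalizer
    rw [Subgroup.mem_centralizer_iff]
    exact hc
  rcases hS.pair A hA E hES with h0 | hr | hc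
  · exfalso
    rw [Subgroup.commutator_eq_bot_iff_le_centralizer] at h0
    have := h0 ha
    rw [Subgroup.mem_centralizer_iff] at this
    exact hnotcen this
  · obtain ⟨a', ha', ha'1⟩ := RankOne.exists_ne_one_left hr
    obtain ⟨e', he', -, hEq⟩ := hr.cond_left a' ha' ha'1
    have hAeq : A = conjBy E (e' * a'⁻¹) := by
      rw [← conjBy_conjBy, ← hEq, conjBy_conjBy]; simp [conjBy_one]
    rw [hAeq]
    exact RankOne.unipotentSubgroups_conj hE
      ((C ⊔ D).mul_mem (hEY he') ((C ⊔ D).inv_mem (hle (Subgroup.mem_sup_left ha'))))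
  · exfalso
    apply hnotcen
    intro e he
    by_contra hne
    have hfmem : a * e * a⁻¹ * e⁻¹ ∈ ⁅A, E⁆ := by
      have := Subgroup.commutator_mem_commutator ha he
      rwa [commutatorElement_def] at this
    have hf1 : a * e * a⁻¹ * e⁻¹ ≠ 1 := by
      intro hh
      apply hne
      have := congrArg (fun t => t * e * a) hh
      simpa [mul_assoc] using this.symm
    have he1 : e ≠ 1 := by
      rintro rfl
      apply hf1; group
    have hEa : conjBy E a ∈ unipotentSubgroups C D := RankOne.unipotentSubgroups_conj hE haY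
    have hpair : IsRankOnePair E (conjBy E a) :=
      RankOne.isRankOnePair_of_mem hCD hE hEa hmove.symm
    have hcen : a * e * a⁻¹ * e⁻¹ ∈ Subgroup.centralizer ((E ⊔ conjBy E a : Subgroup G) : Set G) := by
      rw [Subgroup.mem_centralizer_iff]
      intro y hy
      have hy' : y ∈ A ⊔ E :=
        (sup_le le_sup_right (conjBy_le_of_le le_sup_right (Subgroup.mem_sup_left ha))) hy
      exact (hc.2.1 _ hfmem y hy').symm
    have := Cfsg.Agent.S5025.result hS hES (B := conjBy E a) ⟨hS.conj_mem E hES a, hpair⟩ hcen hf1 e he he1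
    apply this
    have heq : a * e * a⁻¹ * e⁻¹ * e = a * e * a⁻¹ := by group
    refine ⟨?_, conjBy E a, hS.conj_mem E hES a, ?_⟩
    · rw [heq]
      intro hh
      apply he1
      have := congrArg (fun t => a⁻¹ * t * a) hh
      simpa [mul_assoc] using this
    · rw [heq, mem_conjBy]
      simpa [mul_assoc] using he

theorem result {G : Type*} [Group G] {S : Set (Subgroup G)} (hS : Cfsg.IsRootSubgroupSet S)
    {A B C D : Subgroup G} (hA : A ∈ S) (hC : C ∈ S) (hB : B ∈ Cfsg.rankOnePartners S A) (hD : D ∈ Cfsg.rankOnePartners S C)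
    (hle : A ⊔ B ≤ C ⊔ D) : A ⊔ B = C ⊔ D ∧ C ∈ Cfsg.unipotentSubgroups A B ∧ D ∈ Cfsg.unipotentSubgroups A B := by
  obtain ⟨hBS, hAB⟩ := hB
  obtain ⟨hDS, hCD⟩ := hD
  have h1 : A ∈ unipotentSubgroups C D := mem_unipotents hS hA hC hDS hAB hCD hle
  have h2 : B ∈ unipotentSubgroups C D :=
    mem_unipotents hS hBS hC hDS (RankOnePair_symm hAB) hCD (by rw [sup_comm]; exact hle)
  obtain ⟨y, hy, hyA, hyB⟩ := RankOne.exists_conj_pair hCD h1 h2 hAB.ne
  have hsup : A ⊔ B = C ⊔ D := RankOne.sup_eq_of_mem hCD h1 h2 hAB.ne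
  refine ⟨hsup, ?_, ?_⟩
  · refine ⟨y⁻¹, ?_, ?_⟩
    · rw [hsup]; exact (C ⊔ D).inv_mem hy
    · rw [← hyA, conjBy_conjBy]; simp [conjBy_one]
  · have hy' : y⁻¹ ∈ A ⊔ B := by rw [hsup]; exact (C ⊔ D).inv_mem hy
    have : D = conjBy B y⁻¹ := by
      rw [← hyB, conjBy_conjBy]; simp [conjBy_one]
    rw [this]
    exact RankOne.unipotentSubgroups_conj (RankOne.right_mem_unipotentSubgroups hAB) hy'

end Cfsg.Agent.S5024
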