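import Cfsg.Statements.S5026
import Cfsg.Agent.Lib.H25.RootSubgroups

set_option autoImplicit false
open Cfsg

namespace Cfsg.Agent.S5026

open Cfsg.Agent.Lib.H25

theorem le_centralizer_zpowers_iff {G : Type*} [Group G] {E : Subgroup G} {g : G} :
    E ≤ Subgroup.centralizer ((Subgroup.zpowers g : Subgroup G) : Set G) ↔ ∀ x ∈ E, x * g = g * x := by
  rw [Subgroup.le_centralizer_iff, Subgroup.zpowers_le, Subgroup.mem_centralizer_iff]
  rfl

theorem result {G : Type*} [Group G] {S : Set (Subgroup G)} (hS : Cfsg.IsRootSubgroupSet S) (hdeg : Cfsg.IsDegenerateRootSet S)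
    {a b : G} (ha : a ∈ Cfsg.rootElements S) (hb : b ∈ Cfsg.rootElements S) (hab : a * b = b * a) (hab1 : a * b ≠ 1) :
    Cfsg.centralizingMembers S (Subgroup.zpowers (a * b)) =
      Cfsg.centralizingMembers S (Subgroup.zpowers a) ∩ Cfsg.centralizingMembers S (Subgroup.zpowers b) := by
  obtain ⟨ha1, A, hAS, haA⟩ := ha
  obtain ⟨hb1, B, hBS, hbB⟩ := hb
  ext E
  simp only [centralizingMembers, Set.mem_ofPred_eq, Set.mem_inter_iff, le_centralizer_zpowers_iff]
  constructor
  · rintro ⟨hES, hE⟩
    -- it suffices that `E` centralizes `a` or `b`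
    have hor : (∀ x ∈ E, x * a = a * x) ∨ (∀ x ∈ E, x * b = b * x) := by
      by_contra hcon
      push Not at hcon
      obtain ⟨⟨x1, hx1E, hx1⟩, ⟨x2, hx2E, hx2⟩⟩ := hcon
      have hEA : IsRankOnePair E A := by
        rcases hS.pair E hES A hAS with h0 | hr | hc
        · exfalso
          rw [Subgroup.commutator_eq_bot_iff_le_centralizer] at h0
          have := h0 hx1E
          rw [Subgroup.mem_centralizer_iff] at this
          exact hx1 (this a haA).symm
        · exact hr
        · exact absurd hc (hdeg E hES A hAS)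
      have hEB : IsRankOnePair E B := by
        rcases hS.pair E hES B hBS with h0 | hr | hc
        · exfalso
          rw [Subgroup.commutator_eq_bot_iff_le_centralizer] at h0
          have := h0 hx2E
          rw [Subgroup.mem_centralizer_iff] at this
          exact hx2 (this b hbB).symm
        · exact hr
        · exact absurd hc (hdeg E hES B hBS)
      obtain ⟨e', he', -, hE'⟩ := hEA.cond_right a haA ha1
      have hb1' : b⁻¹ ≠ 1 := fun hh => hb1 (inv_eq_one.mp hh)
      obtain ⟨e'', he'', -, hE''⟩ := hEB.cond_right b⁻¹ (B.inv_mem hbB) hb1'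
      rw [inv_inv] at hE''
      have habN : a * b ∈ Subgroup.normalizer (E : Set G) := by
        apply Subgroup.centralizer_le_normalizer
        rw [Subgroup.mem_centralizer_iff]
        exact hE
      have hEab : conjBy E a⁻¹ = conjBy E b := by
        conv_lhs => rw [← conjBy_eq_self_iff.mpr habN]
        rw [conjBy_conjBy]; simp
      have hBA : B = conjBy A (e'' * e'⁻¹) := by
        rw [← conjBy_conjBy, hE', hEab, ← hE'', conjBy_conjBy]; simp [conjBy_one]
      by_cases hfix : conjBy A (e'' * e'⁻¹) = A
      · rw [hfix] at hBA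
        subst hBA
        exact hab1 (RankOne.eq_one_of_mem_normalizer' hEA (B.mul_mem haA hbB) habN)
      · have hAB : IsRankOnePair A B := by
          apply RankOne.isRankOnePair_of_mem (RankOnePair_symm hEA)
            (RankOne.left_mem_unipotentSubgroups A E)
          · exact ⟨e'' * e'⁻¹, Subgroup.mem_sup_right (E.mul_mem he'' (E.inv_mem he')), hBA⟩
          · rw [hBA]; exact fun hh => hfix hh.symm
        exact hb1 (RankOne.eq_one_of_commute hAB haA ha1 hbB hab)
    refine ⟨⟨hES, ?_⟩, ⟨hES, ?_⟩⟩
    · rcases hor with h1 | h1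
      · exact h1
      · intro x hx
        have h2 := hE x hx
        have h3 := h1 x hx
        -- x a b = a b x = a x b
        have : (x * a) * b = (a * x) * b := by
          rw [mul_assoc, h2, mul_assoc, mul_assoc, h3]
        exact mul_right_cancel this
    · rcases hor with h1 | h1
      · intro x hx
        have h2 := hE x hx
        have h3 := h1 x hx
        have : a * (x * b) = a * (b * x) := by
          rw [← mul_assoc, ← h3, mul_assoc, h2, mul_assoc]
        exact mul_left_cancel this
      · exact h1
  · rintro ⟨⟨hES, h1⟩, ⟨-, h2⟩⟩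
    refine ⟨hES, fun x hx => ?_⟩
    rw [← mul_assoc, h1 x hx, mul_assoc, h2 x hx, mul_assoc]

end Cfsg.Agent.S5026
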