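import Cfsg.Statements.S5027
import Cfsg.Agent.Lib.H25.RootSubgroups
import Cfsg.Agent.S5025

set_option autoImplicit false
open Cfsg

namespace Cfsg.Agent.S5027

open Cfsg.Agent.Lib.H25
open scoped commutatorElement

theorem result {G : Type*} [Group G] {S : Set (Subgroup G)} (hS : Cfsg.IsRootSubgroupSet S)
    (hF : ∀ A ∈ S, ¬ Cfsg.IsIsolatedIn (Cfsg.FAdj S) S A) : Subgroup.upperCentralSeries G 2 = Subgroup.center G := by
  apply le_antisymm
  · intro z hz
    have hz' : ∀ y : G, ⁅z, y⁆ ∈ Subgroup.center G := by
      intro y
      have := (Subgroup.mem_upperCentralSeries_succ_iff).mp hz y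
      rwa [Subgroup.upperCentralSeries_one] at this
    -- `z` commutes with every element of every member of `S`
    have hcomm : ∀ A ∈ S, A ≤ Subgroup.centralizer ({z} : Set G) := by
      intro A hAS a ha
      rw [Subgroup.mem_centralizer_iff]
      intro w hw
      rw [Set.mem_singleton_iff] at hw
      subst hw
      by_contra hne
      obtain ⟨B, hBS, hAB⟩ := exists_partner_of_not_isolated (hF A hAS) hAS
      have hc := hz' a
      have hc1 : ⁅w, a⁆ ≠ 1 := by
        intro hh
        apply hne
        rw [commutatorElement_def] at hh
        have := congrArg (fun t => t * a * w) hh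
        simpa [mul_assoc] using this
      have ha1 : a ≠ 1 := by
        rintro rfl
        apply hc1; rw [commutatorElement_def]; group
      have hcen : ⁅w, a⁆ ∈ Subgroup.centralizer ((A ⊔ B : Subgroup G) : Set G) := by
        rw [Subgroup.mem_centralizer_iff]
        intro y _
        exact (Subgroup.mem_center_iff.mp hc y)
      have := Cfsg.Agent.S5025.result hS hAS (B := B) ⟨hBS, hAB⟩ hcen hc1 a ha ha1
      apply this
      have heq : ⁅w, a⁆ * a = w * a * w⁻¹ := by rw [commutatorElement_def]; group
      refine ⟨?_, conjBy A w, hS.conj_mem A hAS w, ?_⟩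
      · rw [heq]
        intro hh
        apply ha1
        have := congrArg (fun t => w⁻¹ * t * w) hh
        simpa [mul_assoc] using this
      · rw [heq, mem_conjBy]
        simpa [mul_assoc] using ha
    have htop : (⊤ : Subgroup G) ≤ Subgroup.centralizer ({z} : Set G) := by
      rw [← hS.generates]
      exact iSup₂_le hcomm
    rw [Subgroup.mem_center_iff]
    intro g
    have := htop (Subgroup.mem_top g)
    rw [Subgroup.mem_centralizer_iff] at this
    exact (this z rfl).symm
  · rw [← Subgroup.upperCentralSeries_one]
    exact Subgroup.upperCentralSeries_mono G (by norm_num)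

end Cfsg.Agent.S5027
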