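import Cfsg.Statements.S5030
import Cfsg.Agent.Lib.H6.Tim211

set_option autoImplicit false
open Cfsg

namespace Cfsg.Agent.S5030

/-- Let S be a set of abstract root subgroups of G and A, B, C ∈ S with ⁅A, B⁆ ∈ S and ⁅B, C⁆ ∈ S, where A and C are different and commute. For a non-identity b ∈ B put X = ⟨A, b⁻¹ C b⟩ and Y = ⟨b⁻¹ A b, C⟩ and R = ⟨A, B, C⟩. Then X and Y are either both abelian or both nilpotent of class exactly two; X and Y commute elementwise; XY is normal in R with R = (XY) B; and R is nilpotent. -/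
theorem result {G : Type*} [Group G] {S : Set (Subgroup G)} (hS : Cfsg.IsRootSubgroupSet S)
    {A B C : Subgroup G} (hA : A ∈ S) (hB : B ∈ S) (hC : C ∈ S) (hAB : ⁅A, B⁆ ∈ S) (hBC : ⁅B, C⁆ ∈ S)
    (hAC : C ∈ Cfsg.commutingPartners S A)
    {b : G} (hb : b ∈ B) (hb1 : b ≠ 1) :
    ((IsMulCommutative ↥(A ⊔ Cfsg.conjBy C b⁻¹) ∧ IsMulCommutative ↥(Cfsg.conjBy A b⁻¹ ⊔ C)) ∨
      ((¬ IsMulCommutative ↥(A ⊔ Cfsg.conjBy C b⁻¹) ∧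
          ⁅⁅A ⊔ Cfsg.conjBy C b⁻¹, A ⊔ Cfsg.conjBy C b⁻¹⁆, A ⊔ Cfsg.conjBy C b⁻¹⁆ = ⊥) ∧
        (¬ IsMulCommutative ↥(Cfsg.conjBy A b⁻¹ ⊔ C) ∧
          ⁅⁅Cfsg.conjBy A b⁻¹ ⊔ C, Cfsg.conjBy A b⁻¹ ⊔ C⁆, Cfsg.conjBy A b⁻¹ ⊔ C⁆ = ⊥))) ∧
    ⁅A ⊔ Cfsg.conjBy C b⁻¹, Cfsg.conjBy A b⁻¹ ⊔ C⁆ = ⊥ ∧
    (∀ r ∈ A ⊔ B ⊔ C, Cfsg.conjBy ((A ⊔ Cfsg.conjBy C b⁻¹) ⊔ (Cfsg.conjBy A b⁻¹ ⊔ C)) r =
      (A ⊔ Cfsg.conjBy C b⁻¹) ⊔ (Cfsg.conjBy A b⁻¹ ⊔ C)) ∧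
    ((A ⊔ Cfsg.conjBy C b⁻¹) ⊔ (Cfsg.conjBy A b⁻¹ ⊔ C)) ⊔ B = A ⊔ B ⊔ C ∧
    Group.IsNilpotent ↥(A ⊔ B ⊔ C) := by

  have hCS : C ∈ S := hAC.1
  have hcm : Cfsg.Agent.Lib.H6.Tim211.Cm A C :=
    Cfsg.Agent.Lib.H6.Tim211.Cm_iff_commutator.mpr hAC.2.2
  have h : Cfsg.Agent.Lib.H6.Tim211.Cfg S A B C :=
    ⟨hS, hA, hB, hC, Cfsg.Agent.Lib.H25.commutatorCase_of_mem hS hA hB hAB,
      Cfsg.Agent.Lib.H25.commutatorCase_of_mem hS hB hC hBC, hcm⟩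
  have hM := h.M_eq hb hb1
  refine ⟨?_, ?_, ?_, ?_, h.nilpotent⟩
  · by_cases hc : Cfsg.Agent.Lib.H6.Tim211.Cm A ⁅B, C⁆
    · left
      exact ⟨(h.X_comm_iff hb hb1).mpr hc, (h.Y_comm_iff hb hb1).mpr (h.three.mp hc)⟩
    · right
      refine ⟨⟨fun hX => hc ((h.X_comm_iff hb hb1).mp hX), h.X_class2 hb⟩,
        ⟨fun hY => hc (h.three.mpr ((h.Y_comm_iff hb hb1).mp hY)), h.Y_class2 hb⟩⟩
  · exact Cfsg.Agent.Lib.H6.Tim211.Cm_iff_commutator.mp (h.XY_comm hb)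
  · intro r hr
    rw [hM]
    exact Cfsg.Agent.Lib.H25.conjBy_eq_self_iff.mpr (h.M_norm hr)
  · rw [hM]
    exact h.M_sup_B

end Cfsg.Agent.S5030
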