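import Cfsg.Statements.S5038
import Cfsg.Agent.Lib.H6.Tim2L

set_option autoImplicit false
open Cfsg

namespace Cfsg.Agent.S5038

/-- Let S be a set of abstract root subgroups of G in which every member has a rank one partner, A ∈ S and B a line partner of A. Then the subgroup generated by the members of S normalizing AB permutes the members of S inside AB doubly transitively by conjugation. -/
theorem result {G : Type*} [Group G] {S : Set (Subgroup G)} (hS : Cfsg.IsRootSubgroupSet S)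
    (hF : ∀ A ∈ S, ¬ Cfsg.IsIsolatedIn (Cfsg.FAdj S) S A) {A B : Subgroup G} (hA : A ∈ S) (hB : B ∈ Cfsg.linePartners S A) :
    ∀ C₁ ∈ Cfsg.membersIn S (A ⊔ B), ∀ C₂ ∈ Cfsg.membersIn S (A ⊔ B), ∀ D₁ ∈ Cfsg.membersIn S (A ⊔ B),
      ∀ D₂ ∈ Cfsg.membersIn S (A ⊔ B), C₁ ≠ C₂ → D₁ ≠ D₂ →
        ∃ x ∈ ⨆ E ∈ Cfsg.normalizingMembers S (A ⊔ B), E, Cfsg.conjBy C₁ x = D₁ ∧ Cfsg.conjBy C₂ x = D₂ := by

  open Cfsg.Agent.Lib.H25 Cfsg.Agent.Lib.H6.Tim2L Cfsg.Agent.Lib.H6.Tim211 Cfsg.Agent.Lib.H6.FConn in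
  have hall : ∀ P ∈ S, ∃ E ∈ S, IsRankOnePair P E := fun P hP =>
    exists_partner_of_not_isolated (hF P hP) hP
  obtain ⟨⟨hBS, hBA, hcom⟩, hpart⟩ := hB
  have hcmAB : Cm A B := Cm_iff_commutator.2 hcom
  have hAA : Cm A A := fun x hx y hy => comm_of_isMulCommutative (hS.commutative A hA) hx hy
  have hBB : Cm B B := fun x hx y hy => comm_of_isMulCommutative (hS.commutative B hBS) hx hy
  have hN : Line S (A ⊔ B) :=
    ⟨hpart, Cm.sup_left (Cm.sup_right hAA hcmAB) (Cm.sup_right hcmAB.symm hBB)⟩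
  have hAm : A ∈ membersIn S (A ⊔ B) := ⟨hA, le_sup_left⟩
  have hBm : B ∈ membersIn S (A ⊔ B) := ⟨hBS, le_sup_right⟩
  have hall' : ∀ P ∈ membersIn S (A ⊔ B), ∃ E ∈ S, IsRankOnePair P E := fun P hP => hall P hP.1
  obtain ⟨E₁, hE₁S, hAE₁⟩ := hall A hA
  obtain ⟨P', hP'A, hN1, -, hpiv1⟩ := exists_pivot hS hN hAm hBm hBA.symm rfl hE₁S hAE₁ hall'
  have hP'm := hpiv1.memQ
  obtain ⟨E₂, hE₂S, hPE₂⟩ := hall P' hP'm.1
  have hN2 : A ⊔ B = P' ⊔ A := by rw [hN1, sup_comm]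
  obtain ⟨P'', hP''P', -, -, hpiv2⟩ := exists_pivot hS hN hP'm hAm hP'A hN2 hE₂S hPE₂ hall'
  exact two_transitive hS hpiv1 hpiv2 hP''P'.symm

end Cfsg.Agent.S5038
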