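import Cfsg.Statements.S5046
import Cfsg.Agent.Lib.H18.RootInvA8

set_option autoImplicit false
open Cfsg

namespace Cfsg.Agent.S5046

open Cfsg.Agent.Lib.H18.RootInvA

/-- Let G be a finite group generated by a set D of root involutions whose odd-order-product graph is connected, and d ∈ D. Then the members e of D with the same commuting members as d are exactly those for which the union of the commuting members of d and the members whose product with d has order 4 equals the corresponding union for e. -/
theorem result {G : Type*} [Group G] [Finite G] {D : Set G} (hD : Cfsg.IsRootInvolutionSet D)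
    (hc : Cfsg.IsConnectedSet (Cfsg.OddAdj D) D) {d : G} (hd : d ∈ D) :
    Cfsg.sameCommutingClass D d =
      {e | e ∈ D ∧ Cfsg.commutingMembers D d ∪ Cfsg.fourPartners D d = Cfsg.commutingMembers D e ∪ Cfsg.fourPartners D e} := by
  ext e
  constructor
  · rintro ⟨he, hC⟩
    refine ⟨he, ?_⟩
    have hs := sameA_of_comm_eq hD hd he hC
    ext y
    rw [mem_union_iff hD hd, mem_union_iff hD he]
    exact and_congr_right fun _ => not_congr (hs y)
  · rintro ⟨he, hU⟩
    refine ⟨he, ?_⟩
    apply comm_eq_of_sameA hD hc hd he
    intro y
    constructor
    · intro h
      by_contra hn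
      have : y ∈ commutingMembers D e ∪ fourPartners D e := (mem_union_iff hD he).mpr ⟨h.2.1, hn⟩
      rw [← hU] at this
      exact ((mem_union_iff hD hd).mp this).2 h
    · intro h
      by_contra hn
      have : y ∈ commutingMembers D d ∪ fourPartners D d := (mem_union_iff hD hd).mpr ⟨h.2.1, hn⟩
      rw [hU] at this
      exact ((mem_union_iff hD he).mp this).2 h

end Cfsg.Agent.S5046
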