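import Cfsg.Statements.S5049
import Cfsg.Agent.Lib.H25.Basic

set_option autoImplicit false
open Cfsg

namespace Cfsg.Agent.S5049

open Cfsg.Agent.Lib.H25
open scoped commutatorElement

section

variable {G : Type*} [Group G]

theorem sq_eq_one_of_orderOf {d : G} (h : orderOf d = 2) : d * d = 1 := by
  have := pow_orderOf_eq_one d
  rwa [h, pow_two] at this

theorem inv_eq_self_of_orderOf {d : G} (h : orderOf d = 2) : d⁻¹ = d :=
  inv_eq_of_mul_eq_one_left (sq_eq_one_of_orderOf h)

/-- An element of odd order whose square lies in the `2`-core... : elements of `D` whose product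
squares into `O_2(G)` commute. -/
theorem comm_of_sq_mem {D : Set G} (hD : IsOddTranspositionSet D) {d1 d2 : G} (h1 : d1 ∈ D) (h2 : d2 ∈ D)
    (hsq : (d1 * d2) ^ 2 ∈ pCore 2 G) : d1 * d2 = d2 * d1 := by
  rcases hD.1.pair d1 h1 d2 h2 with hc | hodd | h4
  · exact hc
  · obtain ⟨k, hk⟩ := (pCore_isPGroup 2 G) ⟨(d1 * d2) ^ 2, hsq⟩
    have hk' : ((d1 * d2) ^ 2) ^ (2 ^ k) = 1 := by
      have := congrArg Subtype.val hk
      simpa using this
    rw [← pow_mul] at hk'
    have hdvd : orderOf (d1 * d2) ∣ 2 * 2 ^ k := orderOf_dvd_of_pow_eq_one hk'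
    have hcop : Nat.Coprime (orderOf (d1 * d2)) (2 * 2 ^ k) := by
      rw [← pow_succ']
      exact Nat.Coprime.pow_right _ (Nat.coprime_two_right.mpr hodd)
    have h1' : orderOf (d1 * d2) = 1 := Nat.Coprime.eq_one_of_dvd hcop hdvd
    rw [orderOf_eq_one_iff] at h1'
    have : d2 * d1 = 1 := by
      have := congrArg (fun t => d2 * t * d2⁻¹) h1'
      simpa [mul_assoc] using this
    rw [h1', this]
  · exact absurd h4.1 (hD.2 d1 h1 d2 h2)

theorem sq_mem_of_comm_invol {Q : Subgroup G} [hQ : Q.Normal] {u v c : G} (huv : u * v = v * u)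
    (hu : u * u = 1) (hv : v * v = 1) (hc : c ∈ Q) : (u * c * v) ^ 2 ∈ Q := by
  have hu' : u⁻¹ = u := inv_eq_of_mul_eq_one_left hu
  have hv' : v⁻¹ = v := inv_eq_of_mul_eq_one_left hv
  have h1 : u * c * u⁻¹ ∈ Q := hQ.conj_mem c hc u
  have h2 : v * c * v⁻¹ ∈ Q := hQ.conj_mem c hc v
  have : (u * c * v) ^ 2 = (u * c * u⁻¹) * (v * c * v⁻¹) := by
    rw [hu', hv', pow_two]
    calc u * c * v * (u * c * v) = u * c * (v * u) * c * v := by group
      _ = u * c * (u * v) * c * v := by rw [huv]
      _ = u * c * u * (v * c * v) := by group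
  rw [this]
  exact Q.mul_mem h1 h2

theorem mem_zpowers_of_invol {a z : G} (ha : orderOf a = 2) (hz : z ∈ Subgroup.zpowers a) :
    z = 1 ∨ z = a := by
  obtain ⟨k, rfl⟩ := Subgroup.mem_zpowers_iff.mp hz
  rw [← zpow_mod_orderOf, ha]
  rcases Int.emod_two_eq_zero_or_one k with h | h
  · left; simp [h]
  · right; simp [h]

end

theorem result {G : Type*} [Group G] [Finite G] {D : Set G} (hD : Cfsg.IsOddTranspositionSet D) {a : G} (ha : a ∈ D) :
    (∀ e ∈ Cfsg.commutingMembers D a, ∀ q ∈ ⁅Cfsg.pCore 2 G, Subgroup.zpowers a⁆, e * q = q * e) ∧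
    (∀ b ∈ Cfsg.oddPartners D a,
      Cfsg.pCore 2 G ⊓ Subgroup.centralizer {a * b} = Cfsg.pCore 2 G ⊓ Subgroup.centralizer {a} ⊓ Subgroup.centralizer {b}) := by
  have hQn : (pCore 2 G).Normal := inferInstance
  have hao : orderOf a = 2 := hD.1.orderOf_eq a ha
  have haa : a * a = 1 := sq_eq_one_of_orderOf hao
  have hainv : a⁻¹ = a := inv_eq_self_of_orderOf hao
  constructor
  · rintro e ⟨heD, hea⟩ q hq
    have heo : orderOf e = 2 := hD.1.orderOf_eq e heD
    have hee : e * e = 1 := sq_eq_one_of_orderOf heo
    have hle : ⁅pCore 2 G, Subgroup.zpowers a⁆ ≤ Subgroup.centralizer ({e} : Set G) := by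
      rw [Subgroup.commutator_le]
      intro g hg z hz
      rw [Subgroup.mem_centralizer_iff]
      intro w hw
      rw [Set.mem_singleton_iff] at hw
      subst hw
      rcases mem_zpowers_of_invol hao hz with rfl | rfl
      · simp
      · -- ⁅g, z⁆ = (g z g⁻¹) z⁻¹
        have hdD : g * z * g⁻¹ ∈ D := hD.1.conj_mem z ha g
        have hcQ : ⁅g, z⁆ ∈ pCore 2 G := by
          rw [commutatorElement_def]
          have h1 : z * g⁻¹ * z⁻¹ ∈ pCore 2 G := hQn.conj_mem _ ((pCore 2 G).inv_mem hg) z
          have := (pCore 2 G).mul_mem hg h1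
          simpa [mul_assoc] using this
        have hd : g * z * g⁻¹ = ⁅g, z⁆ * z := by rw [commutatorElement_def]; group
        have hcomm : w * (g * z * g⁻¹) = (g * z * g⁻¹) * w := by
          apply comm_of_sq_mem hD heD hdD
          rw [hd, ← mul_assoc]
          exact sq_mem_of_comm_invol hea hee haa hcQ
        have hc : ⁅g, z⁆ = (g * z * g⁻¹) * z := by
          rw [commutatorElement_def, hainv]
        rw [hc, ← mul_assoc, hcomm, mul_assoc, hea, ← mul_assoc]
    have := hle hq
    rw [Subgroup.mem_centralizer_iff] at this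
    exact this e rfl
  · rintro b ⟨hbD, hba, hodd⟩
    have hbo : orderOf b = 2 := hD.1.orderOf_eq b hbD
    have hbb : b * b = 1 := sq_eq_one_of_orderOf hbo
    have hbinv : b⁻¹ = b := inv_eq_self_of_orderOf hbo
    apply le_antisymm
    · intro q hq
      obtain ⟨hqQ, hqx⟩ := Subgroup.mem_inf.mp hq
      rw [Subgroup.mem_centralizer_iff] at hqx
      have hqx' : (a * b) * q = q * (a * b) := hqx _ rfl
      -- d = q⁻¹ a q
      set x := a * b with hx
      have hdD : q⁻¹ * a * q ∈ D := by
        have := hD.1.conj_mem a ha q⁻¹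
        rwa [inv_inv] at this
      set d := q⁻¹ * a * q with hd
      have hdo : orderOf d = 2 := hD.1.orderOf_eq d hdD
      have hdd : d * d = 1 := sq_eq_one_of_orderOf hdo
      have hdinv : d⁻¹ = d := inv_eq_self_of_orderOf hdo
      have htQ : d * a ∈ pCore 2 G := by
        have h1 : a * q * a⁻¹ ∈ pCore 2 G := hQn.conj_mem q hqQ a
        have := (pCore 2 G).mul_mem ((pCore 2 G).inv_mem hqQ) h1
        rw [hainv] at this
        rw [hd]
        simpa [mul_assoc] using this
      have hda : d * a = a * d := by
        apply comm_of_sq_mem hD hdD ha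
        exact (pCore 2 G).pow_mem htQ 2
      obtain ⟨t, ht⟩ : ∃ t, t = d * a := ⟨_, rfl⟩
      have htt : t * t = 1 := by
        rw [ht]
        calc d * a * (d * a) = d * (a * d) * a := by group
          _ = d * (d * a) * a := by rw [hda]
          _ = (d * d) * (a * a) := by group
          _ = 1 := by rw [hdd, haa, one_mul]
      -- a x a⁻¹ = x⁻¹
      have hax : a * x * a = x⁻¹ := by
        rw [hx, mul_inv_rev, hainv, hbinv]
        calc a * (a * b) * a = (a * a) * b * a := by group
          _ = b * a := by rw [haa, one_mul]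
      have hqx2 : q * x * q⁻¹ = x := by rw [← hqx', mul_inv_cancel_right]
      have hdx : d * x * d = x⁻¹ := by
        rw [hd]
        calc q⁻¹ * a * q * x * (q⁻¹ * a * q) = q⁻¹ * (a * (q * x * q⁻¹) * a) * q := by group
          _ = q⁻¹ * x⁻¹ * q := by rw [hqx2, hax]
          _ = (q⁻¹ * x * q)⁻¹ := by group
          _ = x⁻¹ := by
            have : q⁻¹ * x * q = x := by
              rw [mul_assoc, hqx', ← mul_assoc, inv_mul_cancel, one_mul]
            rw [this]
      have htx : t * x = x * t := by
        -- t x t⁻¹ = d (a x a) d = d x⁻¹ d = x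
        have h1 : d * x⁻¹ * d = x := by
          have := congrArg (fun y => y⁻¹) hdx
          simp only [mul_inv_rev, inv_inv, hdinv] at this
          rw [← mul_assoc] at this
          exact this
        have h2 : t * x * t = x := by
          rw [ht]
          calc d * a * x * (d * a) = d * a * x * (a * d) := by rw [hda]
            _ = d * (a * x * a) * d := by group
            _ = d * x⁻¹ * d := by rw [hax]
            _ = x := h1
        calc t * x = t * x * (t * t) := by rw [htt, mul_one]
          _ = (t * x * t) * t := by group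
          _ = x * t := by rw [h2]
      have hdb : d * b = t * x := by
        rw [ht, hx]
        calc d * b = d * (a * a) * b := by rw [haa, mul_one]
          _ = d * a * (a * b) := by group
      have hcomm : Commute t x := htx
      have ht1 : t = 1 := by
        rcases hD.1.pair d hdD b hbD with hc | hodd' | h4
        · exfalso
          have h1 : (d * b) ^ 2 = 1 := by
            rw [pow_two]
            calc d * b * (d * b) = d * (b * d) * b := by group
              _ = d * (d * b) * b := by rw [hc]
              _ = (d * d) * (b * b) := by group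
              _ = 1 := by rw [hdd, hbb, one_mul]
          rw [hdb, hcomm.mul_pow, pow_two t, htt, one_mul] at h1
          have hdvd : orderOf x ∣ 2 := orderOf_dvd_of_pow_eq_one h1
          have hcop : Nat.Coprime (orderOf x) 2 := Nat.coprime_two_right.mpr hodd
          have h1' : orderOf x = 1 := Nat.Coprime.eq_one_of_dvd hcop hdvd
          rw [orderOf_eq_one_iff] at h1'
          apply hba
          have : b = a⁻¹ := by
            rw [hx] at h1'
            exact (inv_eq_of_mul_eq_one_right h1').symm
          rw [this, hainv]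
        · set m := orderOf (d * b) with hm
          have h1 : (t * x) ^ m = 1 := by rw [← hdb]; exact pow_orderOf_eq_one _
          rw [hcomm.mul_pow] at h1
          have htm : t ^ m = t := by
            obtain ⟨j, hj⟩ := hodd'
            rw [hj, pow_succ, pow_mul, pow_two, htt, one_pow, one_mul]
          rw [htm] at h1
          -- t = (x^m)⁻¹ ∈ zpowers x
          have ht_eq : t = (x ^ m)⁻¹ := eq_inv_of_mul_eq_one_left h1
          have hto : orderOf t ∣ orderOf x := by
            rw [ht_eq, orderOf_inv]
            exact orderOf_pow_dvd m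
          have hto2 : orderOf t ∣ 2 := orderOf_dvd_of_pow_eq_one (by rw [pow_two, htt])
          have hcop : Nat.Coprime (orderOf t) 2 :=
            Nat.Coprime.coprime_dvd_left hto (Nat.coprime_two_right.mpr hodd)
          have := Nat.Coprime.eq_one_of_dvd hcop hto2
          exact orderOf_eq_one_iff.mp this
        · exact absurd h4.1 (hD.2 d hdD b hbD)
      -- so d = a, i.e. q commutes with a
      have hda' : d = a := by
        have : d = a⁻¹ := eq_inv_of_mul_eq_one_left (ht ▸ ht1)
        rw [this, hainv]
      have hqa : a * q = q * a := by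
        rw [hd] at hda'
        have := congrArg (fun y => q * y) hda'
        simpa [mul_assoc] using this
      have hqb : b * q = q * b := by
        have hb_eq : b = a * x := by
          rw [hx, ← mul_assoc, haa, one_mul]
        rw [hb_eq, mul_assoc, hqx', ← mul_assoc, hqa, mul_assoc]
      rw [Subgroup.mem_inf, Subgroup.mem_inf]
      refine ⟨⟨hqQ, ?_⟩, ?_⟩
      · rw [Subgroup.mem_centralizer_iff]
        intro w hw
        rw [Set.mem_singleton_iff] at hw
        rw [hw]; exact hqa
      · rw [Subgroup.mem_centralizer_iff]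
        intro w hw
        rw [Set.mem_singleton_iff] at hw
        rw [hw]; exact hqb
    · intro q hq
      rw [Subgroup.mem_inf, Subgroup.mem_inf] at hq
      obtain ⟨⟨hqQ, hqa⟩, hqb⟩ := hq
      rw [Subgroup.mem_centralizer_iff] at hqa hqb
      rw [Subgroup.mem_inf]
      refine ⟨hqQ, ?_⟩
      rw [Subgroup.mem_centralizer_iff]
      intro w hw
      rw [Set.mem_singleton_iff] at hw
      rw [hw, mul_assoc, hqb b rfl, ← mul_assoc, hqa a rfl, mul_assoc]

end Cfsg.Agent.S5049
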