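import Cfsg.Statements.S5057
import Mathlib
import Cfsg.Agent.Lib.H25.A6Orders

set_option autoImplicit false
open Cfsg

namespace Cfsg.Agent.S5057

open Equiv Equiv.Perm

theorem a6_pow' (g : ↥(alternatingGroup (Fin 6))) : g ^ 3 = 1 ∨ g ^ 4 = 1 ∨ g ^ 5 = 1 := by
  have h := Cfsg.Agent.Lib.H25.a6_pow (g : Perm (Fin 6)) (mem_alternatingGroup.1 g.2)
  rcases h with h | h | h
  · exact Or.inl (Subtype.ext h)
  · exact Or.inr (Or.inl (Subtype.ext h))
  · exact Or.inr (Or.inr (Subtype.ext h))

/-- An involution of `A₆` has cycle type `(2, 2)`. -/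
theorem cycleType_of_involution {g : ↥(alternatingGroup (Fin 6))} (hg : orderOf g = 2) :
    (g : Perm (Fin 6)).cycleType = {2, 2} := by
  have ho : orderOf (g : Perm (Fin 6)) = 2 := by rw [Subgroup.orderOf_coe]; exact hg
  obtain ⟨n, hn⟩ := cycleType_prime_order (σ := (g : Perm (Fin 6))) (by rw [ho]; exact Nat.prime_two)
  rw [ho] at hn
  have hsum : (g : Perm (Fin 6)).cycleType.sum ≤ 6 := by
    have := sum_cycleType_le (g : Perm (Fin 6))
    simpa using this
  rw [hn, Multiset.sum_replicate, smul_eq_mul] at hsum
  have hsign : Perm.sign (g : Perm (Fin 6)) = 1 := mem_alternatingGroup.1 g.2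
  rw [sign_of_cycleType, hn, Multiset.sum_replicate, Multiset.card_replicate, smul_eq_mul] at hsign
  have hn2 : n ≤ 2 := by omega
  interval_cases n
  · exfalso
    revert hsign
    decide
  · rw [hn]
    rfl
  · exfalso
    revert hsign
    decide

theorem orderOf_of_cycleType {g : ↥(alternatingGroup (Fin 6))}
    (hg : (g : Perm (Fin 6)).cycleType = {2, 2}) : orderOf g = 2 := by
  rw [← Subgroup.orderOf_coe, ← lcm_cycleType, hg]
  rfl

/-- The involutions of the alternating group of degree 6 form a class of root involutions (a single conjugacy class of involutions generating the group, any two of which commute, have product of odd order, or have product of order 4 whose square is again an involution of the class), and the product of any two of them has order at most 5. -/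
theorem result :
    Cfsg.IsRootInvolutionClass {g : ↥(alternatingGroup (Fin 6)) | orderOf g = 2} ∧
    ∀ d ∈ {g : ↥(alternatingGroup (Fin 6)) | orderOf g = 2}, ∀ e ∈ {g : ↥(alternatingGroup (Fin 6)) | orderOf g = 2},
      orderOf (d * e) ≤ 5 := by
  have hdvd : ∀ g : ↥(alternatingGroup (Fin 6)),
      orderOf g ∣ 3 ∨ orderOf g ∣ 4 ∨ orderOf g ∣ 5 := by
    intro g
    rcases a6_pow' g with h | h | h
    · exact Or.inl (orderOf_dvd_of_pow_eq_one h)
    · exact Or.inr (Or.inl (orderOf_dvd_of_pow_eq_one h))
    · exact Or.inr (Or.inr (orderOf_dvd_of_pow_eq_one h))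
  have hle5 : ∀ g : ↥(alternatingGroup (Fin 6)), orderOf g ≤ 5 := by
    intro g
    rcases hdvd g with h | h | h
    · exact (Nat.le_of_dvd (by norm_num) h).trans (by norm_num)
    · exact (Nat.le_of_dvd (by norm_num) h).trans (by norm_num)
    · exact Nat.le_of_dvd (by norm_num) h
  have hinv : ∀ a : ↥(alternatingGroup (Fin 6)), orderOf a = 2 → a⁻¹ = a := by
    intro a ha
    have h2 : a ^ 2 = 1 := by rw [← ha]; exact pow_orderOf_eq_one a
    rw [pow_two] at h2
    exact inv_eq_of_mul_eq_one_right h2
  refine ⟨⟨⟨fun d hd => hd, ?_, ?_, ?_⟩, ?_, ?_⟩, fun d _ e _ => hle5 _⟩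
  · -- generation
    have h := alternatingGroup.closure_cycleType_eq_two_two_eq_top (α := Fin 6) (by simp)
    rw [eq_top_iff, ← h]
    exact Subgroup.closure_mono (fun g hg => orderOf_of_cycleType hg)
  · -- closed under conjugation
    intro d hd g
    show orderOf (g * d * g⁻¹) = 2
    have : g * d * g⁻¹ = (MulAut.conj g) d := rfl
    rw [this, MulEquiv.orderOf_eq]
    exact hd
  · -- pairs
    intro a ha b hb
    rcases hdvd (a * b) with h | h | h
    · right; left
      rcases (Nat.dvd_prime Nat.prime_three).1 h with h1 | h1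
      · rw [h1]; exact odd_one
      · rw [h1]; decide
    · have h4 : orderOf (a * b) ∣ 2 ^ 2 := h
      obtain ⟨k, hk, hk'⟩ := (Nat.dvd_prime_pow Nat.prime_two).1 h4
      interval_cases k
      · right; left
        rw [hk']; exact odd_one
      · left
        have h2 : (a * b) ^ 2 = 1 := by
          have := pow_orderOf_eq_one (a * b)
          rwa [hk'] at this
        rw [pow_two] at h2
        have h3 : a * b = (a * b)⁻¹ := (inv_eq_of_mul_eq_one_right h2).symm
        rw [mul_inv_rev, hinv a ha, hinv b hb] at h3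
        exact h3
      · right; right
        have ho : orderOf (a * b) = 4 := hk'
        refine ⟨ho, ?_⟩
        show orderOf ((a * b) ^ 2) = 2
        rw [orderOf_pow' (a * b) (by norm_num : (2 : ℕ) ≠ 0), ho]
        decide
    · right; left
      rcases (Nat.dvd_prime Nat.prime_five).1 h with h1 | h1
      · rw [h1]; exact odd_one
      · rw [h1]; decide
  · -- nonempty
    have hx : (swap (0 : Fin 6) 1 * swap 2 3 : Perm (Fin 6)) ∈ alternatingGroup (Fin 6) :=
      mem_alternatingGroup.2 (by decide)
    refine ⟨⟨_, hx⟩, ?_⟩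
    show orderOf (⟨_, hx⟩ : ↥(alternatingGroup (Fin 6))) = 2
    have h1 : (swap (0 : Fin 6) 1 * swap 2 3 : Perm (Fin 6)) ^ 2 = 1 := by decide
    have h2 : (swap (0 : Fin 6) 1 * swap 2 3 : Perm (Fin 6)) ≠ 1 := by decide
    refine orderOf_eq_prime (Subtype.ext h1) ?_
    intro h
    exact h2 (congrArg Subtype.val h)
  · -- one class
    intro a ha b hb
    have hca := cycleType_of_involution ha
    have hcb := cycleType_of_involution hb
    have hc : IsConj (a : Perm (Fin 6)) (b : Perm (Fin 6)) :=
      isConj_iff_cycleType_eq.2 (hca.trans hcb.symm)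
    have hsupp : (a : Perm (Fin 6)).support.card + 2 ≤ Fintype.card (Fin 6) := by
      rw [← sum_cycleType, hca]
      decide
    obtain ⟨c, hc'⟩ := isConj_iff.1 (alternatingGroup.isConj_of hc hsupp)
    exact ⟨c, hc'.symm⟩

end Cfsg.Agent.S5057
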