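import Cfsg.Statements.S5059
import Mathlib

set_option autoImplicit false
universe u
open Cfsg

namespace Cfsg.Agent.S5059

variable {k : Type*} [Field k] {M : Type*} [AddCommGroup M] [Module k M]

/-- The unit `1 + n` for an endomorphism `n` of square zero. -/
def unip (n : M →ₗ[k] M) (hn : n * n = 0) : LinearMap.GeneralLinearGroup k M :=
  ⟨1 + n, 1 - n,
    by
      have : (1 + n) * (1 - n) = 1 - n * n := by noncomm_ring
      rw [this, hn, sub_zero],
    by
      have : (1 - n) * (1 + n) = 1 - n * n := by noncomm_ring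
      rw [this, hn, sub_zero]⟩

theorem unip_val (n : M →ₗ[k] M) (hn : n * n = 0) :
    ((unip n hn : LinearMap.GeneralLinearGroup k M) : M →ₗ[k] M) = 1 + n := rfl

/-- The data carried by a member of `E_σ`. -/
structure Mem (G : Subgroup (LinearMap.GeneralLinearGroup k M))
    (σ τ : LinearMap.GeneralLinearGroup k M) : Prop where
  memG : τ ∈ G
  sq : ((τ : M →ₗ[k] M) - 1) * ((τ : M →ₗ[k] M) - 1) = 0
  ne : (τ : M →ₗ[k] M) - 1 ≠ 0
  scal : scalarFamily τ ⊆ (G : Set (LinearMap.GeneralLinearGroup k M))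
  ker : LinearMap.ker ((τ : M →ₗ[k] M) - 1) = LinearMap.ker ((σ : M →ₗ[k] M) - 1)
  range : LinearMap.range ((τ : M →ₗ[k] M) - 1) = LinearMap.range ((σ : M →ₗ[k] M) - 1)

theorem mem_of {G : Subgroup (LinearMap.GeneralLinearGroup k M)}
    {σ τ : LinearMap.GeneralLinearGroup k M} (h : τ ∈ sameActionClass G σ) : Mem G σ τ :=
  ⟨h.1.1.1, h.1.1.2.1.1, h.1.1.2.1.2, h.1.1.2.2, h.2.1, h.2.2⟩

/-- Conversely, the data gives membership in `E_σ` when `σ` has minimal commutator rank. -/
theorem of_mem {G : Subgroup (LinearMap.GeneralLinearGroup k M)}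
    {σ τ : LinearMap.GeneralLinearGroup k M} (hσ : σ ∈ minimalQuadraticElements G)
    (h : Mem G σ τ) : τ ∈ sameActionClass G σ := by
  refine ⟨⟨⟨h.memG, ⟨h.sq, h.ne⟩, h.scal⟩, fun ρ hρ => ?_⟩, h.ker, h.range⟩
  have : commutatorRank τ = commutatorRank σ := by
    unfold commutatorRank
    rw [h.range]
  rw [this]
  exact hσ.2 ρ hρ

/-- Products of the nilpotent parts of two members vanish. -/
theorem mul_zero_of {G : Subgroup (LinearMap.GeneralLinearGroup k M)}
    {σ τ τ' : LinearMap.GeneralLinearGroup k M} (h : Mem G σ τ) (h' : Mem G σ τ') :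
    ((τ : M →ₗ[k] M) - 1) * ((τ' : M →ₗ[k] M) - 1) = 0 := by
  apply LinearMap.ext
  intro m
  have h1 : ((τ' : M →ₗ[k] M) - 1) m ∈ LinearMap.range ((τ : M →ₗ[k] M) - 1) := by
    rw [h.range, ← h'.range]
    exact ⟨m, rfl⟩
  obtain ⟨m', hm'⟩ := h1
  show ((τ : M →ₗ[k] M) - 1) (((τ' : M →ₗ[k] M) - 1) m) = 0
  rw [← hm']
  have := congrArg (fun f : M →ₗ[k] M => f m') h.sq
  exact this

theorem val_mul_of {G : Subgroup (LinearMap.GeneralLinearGroup k M)}
    {σ τ τ' : LinearMap.GeneralLinearGroup k M} (h : Mem G σ τ) (h' : Mem G σ τ') :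
    ((τ * τ' : LinearMap.GeneralLinearGroup k M) : M →ₗ[k] M) - 1 =
      ((τ : M →ₗ[k] M) - 1) + ((τ' : M →ₗ[k] M) - 1) := by
  have h0 := mul_zero_of h h'
  have e : ((τ * τ' : LinearMap.GeneralLinearGroup k M) : M →ₗ[k] M) =
      (τ : M →ₗ[k] M) * (τ' : M →ₗ[k] M) := rfl
  rw [e]
  have : (τ : M →ₗ[k] M) * (τ' : M →ₗ[k] M) - 1 =
      ((τ : M →ₗ[k] M) - 1) * ((τ' : M →ₗ[k] M) - 1) +
        (((τ : M →ₗ[k] M) - 1) + ((τ' : M →ₗ[k] M) - 1)) := by noncomm_ring
  rw [this, h0, zero_add]

/-- Members of `E_σ` commute. -/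
theorem comm_of {G : Subgroup (LinearMap.GeneralLinearGroup k M)}
    {σ τ τ' : LinearMap.GeneralLinearGroup k M} (h : Mem G σ τ) (h' : Mem G σ τ') :
    τ * τ' = τ' * τ := by
  apply Units.ext
  have h1 := val_mul_of h h'
  have h2 := val_mul_of h' h
  have : ((τ * τ' : LinearMap.GeneralLinearGroup k M) : M →ₗ[k] M) - 1 =
      ((τ' * τ : LinearMap.GeneralLinearGroup k M) : M →ₗ[k] M) - 1 := by
    rw [h1, h2, add_comm]
  exact sub_left_injective this

/-- The product of two members of `E_σ` is a member or the identity. -/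
theorem mul_of [FiniteDimensional k M] {G : Subgroup (LinearMap.GeneralLinearGroup k M)}
    {σ τ τ' : LinearMap.GeneralLinearGroup k M} (hσ : σ ∈ minimalQuadraticElements G)
    (h : Mem G σ τ) (h' : Mem G σ τ') : Mem G σ (τ * τ') ∨ τ * τ' = 1 := by
  by_cases hne : ((τ * τ' : LinearMap.GeneralLinearGroup k M) : M →ₗ[k] M) - 1 = 0
  · right
    apply Units.ext
    exact sub_eq_zero.1 hne
  left
  have hv := val_mul_of h h'
  have hsq : (((τ * τ' : LinearMap.GeneralLinearGroup k M) : M →ₗ[k] M) - 1) *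
      (((τ * τ' : LinearMap.GeneralLinearGroup k M) : M →ₗ[k] M) - 1) = 0 := by
    rw [hv, add_mul, mul_add, mul_add, h.sq, h'.sq, mul_zero_of h h', mul_zero_of h' h]
    simp
  have hscal : scalarFamily (τ * τ') ⊆ (G : Set (LinearMap.GeneralLinearGroup k M)) := by
    rintro ρ ⟨c, hc⟩
    have hn : (c • ((τ : M →ₗ[k] M) - 1)) * (c • ((τ : M →ₗ[k] M) - 1)) = 0 := by
      rw [smul_mul_smul_comm, h.sq, smul_zero]
    have hn' : (c • ((τ' : M →ₗ[k] M) - 1)) * (c • ((τ' : M →ₗ[k] M) - 1)) = 0 := by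
      rw [smul_mul_smul_comm, h'.sq, smul_zero]
    have h1 : unip _ hn ∈ G := h.scal ⟨c, rfl⟩
    have h2 : unip _ hn' ∈ G := h'.scal ⟨c, rfl⟩
    have e : ρ = unip _ hn * unip _ hn' := by
      apply Units.ext
      rw [hc, hv]
      show _ = (1 + c • ((τ : M →ₗ[k] M) - 1)) * (1 + c • ((τ' : M →ₗ[k] M) - 1))
      have e2 : (c • ((τ : M →ₗ[k] M) - 1)) * (c • ((τ' : M →ₗ[k] M) - 1)) = 0 := by
        rw [smul_mul_smul_comm, mul_zero_of h h', smul_zero]
      rw [add_mul, one_mul, mul_add, mul_one, e2, smul_add]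
      abel
    rw [e]
    exact G.mul_mem h1 h2
  have hquad : τ * τ' ∈ quadraticElements G := ⟨G.mul_mem h.memG h'.memG, ⟨hsq, hne⟩, hscal⟩
  have hrange_le : LinearMap.range (((τ * τ' : LinearMap.GeneralLinearGroup k M) : M →ₗ[k] M) - 1) ≤
      LinearMap.range ((σ : M →ₗ[k] M) - 1) := by
    rintro _ ⟨m, rfl⟩
    rw [hv, LinearMap.add_apply]
    refine Submodule.add_mem _ ?_ ?_
    · rw [← h.range]; exact ⟨m, rfl⟩
    · rw [← h'.range]; exact ⟨m, rfl⟩
  have hrank : Module.finrank k (LinearMap.range ((σ : M →ₗ[k] M) - 1)) ≤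
      Module.finrank k
        (LinearMap.range (((τ * τ' : LinearMap.GeneralLinearGroup k M) : M →ₗ[k] M) - 1)) :=
    hσ.2 _ hquad
  have hrange : LinearMap.range (((τ * τ' : LinearMap.GeneralLinearGroup k M) : M →ₗ[k] M) - 1) =
      LinearMap.range ((σ : M →ₗ[k] M) - 1) := Submodule.eq_of_le_of_finrank_le hrange_le hrank
  have hker_le : LinearMap.ker ((σ : M →ₗ[k] M) - 1) ≤
      LinearMap.ker (((τ * τ' : LinearMap.GeneralLinearGroup k M) : M →ₗ[k] M) - 1) := by
    intro m hm
    rw [LinearMap.mem_ker, hv, LinearMap.add_apply]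
    have h1 : m ∈ LinearMap.ker ((τ : M →ₗ[k] M) - 1) := by rw [h.ker]; exact hm
    have h2 : m ∈ LinearMap.ker ((τ' : M →ₗ[k] M) - 1) := by rw [h'.ker]; exact hm
    rw [LinearMap.mem_ker.1 h1, LinearMap.mem_ker.1 h2, add_zero]
  have hkrank : Module.finrank k
      (LinearMap.ker (((τ * τ' : LinearMap.GeneralLinearGroup k M) : M →ₗ[k] M) - 1)) ≤
      Module.finrank k (LinearMap.ker ((σ : M →ₗ[k] M) - 1)) := by
    have e1 := LinearMap.finrank_range_add_finrank_ker
      (((τ * τ' : LinearMap.GeneralLinearGroup k M) : M →ₗ[k] M) - 1)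
    have e2 := LinearMap.finrank_range_add_finrank_ker ((σ : M →ₗ[k] M) - 1)
    rw [hrange] at e1
    omega
  have hker : LinearMap.ker (((τ * τ' : LinearMap.GeneralLinearGroup k M) : M →ₗ[k] M) - 1) =
      LinearMap.ker ((σ : M →ₗ[k] M) - 1) :=
    (Submodule.eq_of_le_of_finrank_le hker_le hkrank).symm
  exact ⟨G.mul_mem h.memG h'.memG, hsq, hne, hscal, hker, hrange⟩

/-- The inverse of a member of `E_σ` is a member. -/
theorem inv_of {G : Subgroup (LinearMap.GeneralLinearGroup k M)}
    {σ τ : LinearMap.GeneralLinearGroup k M} (h : Mem G σ τ) : Mem G σ τ⁻¹ := by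
  have hn : (-((τ : M →ₗ[k] M) - 1)) * (-((τ : M →ₗ[k] M) - 1)) = 0 := by
    rw [neg_mul_neg, h.sq]
  have e : τ⁻¹ = unip _ hn := by
    apply inv_eq_of_mul_eq_one_right
    apply Units.ext
    show (τ : M →ₗ[k] M) * (1 + -((τ : M →ₗ[k] M) - 1)) = 1
    have : (τ : M →ₗ[k] M) * (1 + -((τ : M →ₗ[k] M) - 1)) =
        1 - ((τ : M →ₗ[k] M) - 1) * ((τ : M →ₗ[k] M) - 1) := by noncomm_ring
    rw [this, h.sq, sub_zero]
  have hv : ((τ⁻¹ : LinearMap.GeneralLinearGroup k M) : M →ₗ[k] M) - 1 =
      -((τ : M →ₗ[k] M) - 1) := by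
    rw [e, unip_val]
    abel
  refine ⟨G.inv_mem h.memG, ?_, ?_, ?_, ?_, ?_⟩
  · rw [hv]; exact hn
  · rw [hv]; exact neg_ne_zero.2 h.ne
  · rintro ρ ⟨c, hc⟩
    apply h.scal
    refine ⟨-c, ?_⟩
    rw [hc, hv, smul_neg, neg_smul]
  · rw [hv, ← h.ker]
    ext m
    rw [LinearMap.mem_ker, LinearMap.mem_ker, LinearMap.neg_apply, neg_eq_zero]
  · rw [hv, ← h.range]
    exact LinearMap.range_neg _

theorem pow_of {G : Subgroup (LinearMap.GeneralLinearGroup k M)}
    {σ τ : LinearMap.GeneralLinearGroup k M} (h : Mem G σ τ) (m : ℕ) :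
    ((τ ^ m : LinearMap.GeneralLinearGroup k M) : M →ₗ[k] M) =
      1 + m • ((τ : M →ₗ[k] M) - 1) := by
  obtain ⟨n, hn⟩ : ∃ n : M →ₗ[k] M, n = (τ : M →ₗ[k] M) - 1 := ⟨_, rfl⟩
  have hsq : n * n = 0 := by rw [hn]; exact h.sq
  have e : (τ : M →ₗ[k] M) = 1 + n := by rw [hn]; abel
  rw [← hn]
  induction m with
  | zero => simp
  | succ m ih =>
    rw [pow_succ, Units.val_mul, ih, e, mul_add, mul_one, add_mul, one_mul, smul_mul_assoc, hsq,
      smul_zero, add_zero, succ_nsmul]
    abel

/-- Let k be a field of characteristic not 2 with k not of order 3, M a finite-dimensional k-vector space and G ≤ GL(M) such that (G, M) is a quadratic pair (M irreducible for G, and G generated by its quadratically acting elements σ whose scalar family 1 + c(σ − 1), c ∈ k, lies in G). Write 𝒬_d for the quadratic elements of G of minimal commutator rank, E(σ) for the subgroup generated by the members of 𝒬_d with the same fixed space and commutator space as σ, and Σ for the set of these subgroups.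 Then for σ ∈ 𝒬_d the subgroup E(σ) consists exactly of those members together with the identity, it is abelian, and if k has prime characteristic p every element of E(σ) has order dividing p. -/
theorem result {k : Type u} [Field k] (hk2 : ringChar k ≠ 2) (hk3 : Nat.card k ≠ 3)
    {M : Type u} [AddCommGroup M] [Module k M] [FiniteDimensional k M]
    {G : Subgroup (LinearMap.GeneralLinearGroup k M)} (hG : Cfsg.IsQuadraticPair G)
    {σ : LinearMap.GeneralLinearGroup k M} (hσ : σ ∈ Cfsg.minimalQuadraticElements G) :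
    (Cfsg.sameActionSubgroup G σ : Set (LinearMap.GeneralLinearGroup k M)) = Cfsg.sameActionClass G σ ∪ {1} ∧
    IsMulCommutative ↥(Cfsg.sameActionSubgroup G σ) ∧
    (∀ p : ℕ, p.Prime → ringChar k = p → ∀ x ∈ Cfsg.sameActionSubgroup G σ, x ^ p = 1) := by
  classical
  let H : Subgroup (LinearMap.GeneralLinearGroup k M) :=
    { carrier := sameActionClass G σ ∪ {1}
      one_mem' := Or.inr rfl
      mul_mem' := by
        rintro a b (ha | ha) (hb | hb)
        · rcases mul_of hσ (mem_of ha) (mem_of hb) with h | h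
          · exact Or.inl (of_mem hσ h)
          · exact Or.inr h
        · rw [Set.mem_singleton_iff] at hb
          rw [hb, mul_one]
          exact Or.inl ha
        · rw [Set.mem_singleton_iff] at ha
          rw [ha, one_mul]
          exact Or.inl hb
        · rw [Set.mem_singleton_iff] at ha hb
          rw [ha, hb, mul_one]
          exact Or.inr rfl
      inv_mem' := by
        rintro a (ha | ha)
        · exact Or.inl (of_mem hσ (inv_of (mem_of ha)))
        · rw [Set.mem_singleton_iff] at ha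
          rw [ha, inv_one]
          exact Or.inr rfl }
  have hEq : sameActionSubgroup G σ = H := by
    apply le_antisymm
    · exact (Subgroup.closure_le _).2 (fun x hx => Or.inl hx)
    · rintro x (hx | hx)
      · exact Subgroup.subset_closure hx
      · rw [Set.mem_singleton_iff] at hx
        rw [hx]
        exact Subgroup.one_mem _
  have hmem : ∀ x ∈ sameActionSubgroup G σ, x ∈ sameActionClass G σ ∨ x = 1 := by
    intro x hx
    rw [hEq] at hx
    exact hx
  refine ⟨?_, ?_, ?_⟩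
  · rw [hEq]
    rfl
  · refine ⟨⟨fun a b => Subtype.ext ?_⟩⟩
    show (a : LinearMap.GeneralLinearGroup k M) * b = b * a
    rcases hmem a a.2 with ha | ha
    · rcases hmem b b.2 with hb | hb
      · exact comm_of (mem_of ha) (mem_of hb)
      · rw [hb, mul_one, one_mul]
    · rw [ha, mul_one, one_mul]
  · intro p hp hchar x hx
    rcases hmem x hx with hx | hx
    · have h := mem_of hx
      apply Units.ext
      rw [pow_of h p]
      have hcp : CharP k p := by
        rw [← hchar]
        exact ringChar.charP k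
      have : (p : ℕ) • ((x : M →ₗ[k] M) - 1) = 0 := by
        rw [← Nat.cast_smul_eq_nsmul k, CharP.cast_eq_zero k p, zero_smul]
      rw [this, add_zero]
      rfl
    · rw [hx, one_pow]

end Cfsg.Agent.S5059
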