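import Cfsg.Statements.S5064
import Cfsg.Agent.Lib.H18.QP10

set_option autoImplicit false
universe u
open Cfsg

namespace Cfsg.Agent.S5064

open Cfsg.Agent.Lib.H18.QP

/-- Let k be a field of characteristic not 2 with k not of order 3, M a finite-dimensional k-vector space and G ≤ GL(M) such that (G, M) is a quadratic pair (M irreducible for G, and G generated by its quadratically acting elements σ whose scalar family 1 + c(σ − 1), c ∈ k, lies in G). Write 𝒬_d for the quadratic elements of G of minimal commutator rank, E(σ) for the subgroup generated by the members of 𝒬_d with the same fixed space and commutator space as σ, and Σ for the set of these subgroups. If σ, τ ∈ 𝒬_d and the subgroup H generated by their two scalar families does not act unipotently on M, then H is isomorphic to SL₂ over a simple algebraic extension k(λ) of k. -/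
theorem result {k : Type u} [Field k] (hk2 : ringChar k ≠ 2) (hk3 : Nat.card k ≠ 3)
    {M : Type u} [AddCommGroup M] [Module k M] [FiniteDimensional k M]
    {G : Subgroup (LinearMap.GeneralLinearGroup k M)} (hG : Cfsg.IsQuadraticPair G)
    {σ τ : LinearMap.GeneralLinearGroup k M} (hσ : σ ∈ Cfsg.minimalQuadraticElements G) (hτ : τ ∈ Cfsg.minimalQuadraticElements G)
    (hH : ¬ Cfsg.IsUnipotentOn (Subgroup.closure (Cfsg.scalarFamily σ ∪ Cfsg.scalarFamily τ))) :
    ∃ (K : Type u) (_ : Field K) (_ : Algebra k K) (lam : K), IsAlgebraic k lam ∧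
      IntermediateField.adjoin k ({lam} : Set K) = ⊤ ∧
      Nonempty (↥(Subgroup.closure (Cfsg.scalarFamily σ ∪ Cfsg.scalarFamily τ)) ≃* Matrix.SpecialLinearGroup (Fin 2) K) := by
  -- the pair
  have hσq := hσ.1
  have hτq := hτ.1
  obtain ⟨p, hpn, hpm⟩ : ∃ p : SqPair k M, p.n = (σ : M →ₗ[k] M) - 1 ∧ p.m = (τ : M →ₗ[k] M) - 1 :=
    ⟨⟨(σ : M →ₗ[k] M) - 1, (τ : M →ₗ[k] M) - 1, hσq.2.1.1, hτq.2.1.1⟩, rfl, rfl⟩
  have hHH : HH p = Subgroup.closure (Cfsg.scalarFamily σ ∪ Cfsg.scalarFamily τ) := by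
    unfold HH Cfsg.scalarFamily
    rw [hpn, hpm]
  -- families
  have famOf : ∀ (ρ : LinearMap.GeneralLinearGroup k M), ρ ∈ Cfsg.quadraticElements G →
      Fam G ((ρ : M →ₗ[k] M) - 1) := by
    intro ρ hρ c
    have hsq := hρ.2.1.1
    have h1 : (1 + c • ((ρ : M →ₗ[k] M) - 1)) * (1 - c • ((ρ : M →ₗ[k] M) - 1)) = 1 := by
      have : (c • ((ρ : M →ₗ[k] M) - 1)) * (c • ((ρ : M →ₗ[k] M) - 1)) = 0 := by
        rw [smul_mul_smul_comm, hsq, smul_zero]
      calc (1 + c • ((ρ : M →ₗ[k] M) - 1)) * (1 - c • ((ρ : M →ₗ[k] M) - 1))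
          = 1 - (c • ((ρ : M →ₗ[k] M) - 1)) * (c • ((ρ : M →ₗ[k] M) - 1)) := by
            rw [mul_sub, mul_one, add_mul, one_mul]; abel
        _ = 1 := by rw [this, sub_zero]
    have h2 : (1 - c • ((ρ : M →ₗ[k] M) - 1)) * (1 + c • ((ρ : M →ₗ[k] M) - 1)) = 1 := by
      have : (c • ((ρ : M →ₗ[k] M) - 1)) * (c • ((ρ : M →ₗ[k] M) - 1)) = 0 := by
        rw [smul_mul_smul_comm, hsq, smul_zero]
      calc (1 - c • ((ρ : M →ₗ[k] M) - 1)) * (1 + c • ((ρ : M →ₗ[k] M) - 1))
          = 1 - (c • ((ρ : M →ₗ[k] M) - 1)) * (c • ((ρ : M →ₗ[k] M) - 1)) := by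
            rw [mul_add, mul_one, sub_mul, one_mul]; abel
        _ = 1 := by rw [this, sub_zero]
    refine ⟨⟨_, _, h1, h2⟩, hρ.2.2 ⟨c, rfl⟩, rfl⟩
  -- minimality
  have hMin : MinP G (Cfsg.commutatorRank σ) := by
    intro ν hsq hne hFam
    obtain ⟨u, huG, hu⟩ := hFam 1
    rw [one_smul] at hu
    have huν : (u : M →ₗ[k] M) - 1 = ν := by rw [hu, add_sub_cancel_left]
    have huq : u ∈ Cfsg.quadraticElements G := by
      refine ⟨huG, ⟨by rw [huν]; exact hsq, by rw [huν]; exact hne⟩, ?_⟩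
      rintro w ⟨c, hc⟩
      rw [huν] at hc
      obtain ⟨u', hu'G, hu'⟩ := hFam c
      have : w = u' := Units.ext (hc.trans hu'.symm)
      rw [SetLike.mem_coe, this]; exact hu'G
    have := hσ.2 u huq
    unfold Cfsg.commutatorRank at this ⊢
    rw [huν] at this
    exact this
  have hq : QPair G (Cfsg.commutatorRank σ) p := by
    refine ⟨?_, ?_, ?_, ?_⟩
    · rw [hpn]; exact famOf σ hσq
    · rw [hpm]; exact famOf τ hτq
    · rw [hpn]; exact le_refl _
    · rw [hpm]; exact hτ.2 σ hσq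
  have hnil : ¬ IsNilpotent (p.n * p.m) := by
    intro h
    obtain ⟨e, he⟩ := p.z_nilpotent_of h
    apply hH
    rw [← hHH]
    exact unipotent_of_nil p e he
  obtain ⟨K, iF, iA, lam, h1, h2, h3⟩ := final hk2 hk3 hMin p hq hnil
  rw [hHH] at h3
  exact ⟨K, iF, iA, lam, h1, h2, h3⟩

end Cfsg.Agent.S5064
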