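import Cfsg.Statements.S5067

set_option autoImplicit false
open Cfsg

namespace Cfsg.Agent.S5067

open scoped commutatorElement

universe u

/-- In a group of class at most two, the normal closure of an abelian subgroup is abelian. -/
theorem normalClosure_comm_of_class_two {P : Type u} [Group P]
    (h2 : Subgroup.upperCentralSeries P 2 = ⊤) {E : Subgroup P} (hE : IsMulCommutative E) :
    IsMulCommutative (Subgroup.normalClosure (E : Set P)) := by
  unfold Subgroup.normalClosure
  apply Subgroup.isMulCommutative_closure
  have hcen : ∀ g y : P, ⁅g, y⁆ ∈ Subgroup.center P := by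
    intro g y
    have hg : g ∈ Subgroup.upperCentralSeries P (1 + 1) := by rw [h2]; trivial
    have := (Subgroup.mem_upperCentralSeries_succ_iff).mp hg y
    rwa [Subgroup.upperCentralSeries_one] at this
  have hform : ∀ x ∈ Group.conjugatesOfSet (E : Set P), ∃ z ∈ Subgroup.center P, ∃ e ∈ E, x = z * e := by
    intro x hx
    rw [Group.mem_conjugatesOfSet_iff] at hx
    obtain ⟨e, he, hc⟩ := hx
    rw [isConj_iff] at hc
    obtain ⟨c, rfl⟩ := hc
    refine ⟨⁅c, e⁆, hcen c e, e, he, ?_⟩
    rw [commutatorElement_def]; group
  intro x hx y hy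
  obtain ⟨z, hz, e, he, rfl⟩ := hform x hx
  obtain ⟨z', hz', e', he', rfl⟩ := hform y hy
  rw [Subgroup.mem_center_iff] at hz hz'
  have hee : e * e' = e' * e := by
    have := hE.is_comm.comm (⟨e, he⟩ : E) ⟨e', he'⟩
    exact congrArg Subtype.val this
  calc z * e * (z' * e') = z * (e * z') * e' := by group
    _ = z * (z' * e) * e' := by rw [hz' e]
    _ = (z * z') * (e * e') := by group
    _ = (z' * z) * (e' * e) := by rw [hee, hz z']
    _ = z' * (z * e') * e := by group
    _ = z' * (e' * z) * e := by rw [hz e']
    _ = z' * e' * (z * e) := by group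

theorem key : ∀ (n : ℕ) (P : Type u) [Group P] [Group.IsNilpotent P],
    Group.nilpotencyClass P = n + 2 → ∀ E F : Subgroup P, IsMulCommutative E → IsMulCommutative F →
      E ⊔ F = ⊤ → Group.nilpotencyClass (Subgroup.normalClosure (E : Set P)) ≤ n + 1 := by
  intro n
  induction n with
  | zero =>
    intro P _ _ hc E F hE hF hgen
    have h2 : Subgroup.upperCentralSeries P 2 = ⊤ := by
      rw [Subgroup.upperCentralSeries_eq_top_iff_nilpotencyClass_le, hc]
    have := normalClosure_comm_of_class_two h2 hE
    exact (Group.IsNilpotent.nilpotencyClass_le_one_iff).mpr this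
  | succ n ih =>
    intro P _ _ hc E F hE hF hgen
    let π := QuotientGroup.mk' (Subgroup.center P)
    have hπ : Function.Surjective π := QuotientGroup.mk'_surjective _
    have hcq : Group.nilpotencyClass (P ⧸ Subgroup.center P) = n + 2 := by
      rw [Group.nilpotencyClass_quotient_center, hc]; rfl
    have := hE
    have := hF
    have hgen' : E.map π ⊔ F.map π = ⊤ := by
      rw [← Subgroup.map_sup, hgen, ← MonoidHom.range_eq_map]
      exact MonoidHom.range_eq_top_of_surjective _ hπ
    have ih' := ih (P ⧸ Subgroup.center P) hcq (E.map π) (F.map π) inferInstance inferInstance hgen'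
    have hmaps : ∀ x : Subgroup.normalClosure (E : Set P),
        (π.comp (Subgroup.normalClosure (E : Set P)).subtype) x
          ∈ Subgroup.normalClosure ((E.map π : Subgroup (P ⧸ Subgroup.center P)) : Set (P ⧸ Subgroup.center P)) := by
      intro x
      have h1 : π (x : P) ∈ (Subgroup.normalClosure (E : Set P)).map π :=
        Subgroup.mem_map_of_mem π x.2
      have h2 := Subgroup.map_normalClosure_le (E : Set P) π h1
      rwa [← Subgroup.coe_map] at h2
    let f : Subgroup.normalClosure (E : Set P) →*
        Subgroup.normalClosure ((E.map π : Subgroup (P ⧸ Subgroup.center P)) : Set (P ⧸ Subgroup.center P)) :=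
      (π.comp (Subgroup.normalClosure (E : Set P)).subtype).codRestrict _ hmaps
    have hker : f.ker ≤ Subgroup.center (Subgroup.normalClosure (E : Set P)) := by
      intro x hx
      rw [MonoidHom.mem_ker] at hx
      have h1 : π (x : P) = 1 := by
        have := congrArg Subtype.val hx
        exact this
      have h2 : (x : P) ∈ Subgroup.center P := (QuotientGroup.eq_one_iff (x : P)).mp h1
      rw [Subgroup.mem_center_iff] at h2 ⊢
      intro y
      exact Subtype.ext (h2 (y : P))
    have := Group.nilpotencyClass_le_of_ker_le_center f hker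
    omega

theorem result {P : Type*} [Group P] {p : ℕ} [Fact p.Prime] (hP : IsPGroup p P) [Group.IsNilpotent P]
    (hna : ¬ IsMulCommutative P) {E F : Subgroup P} (hE : IsMulCommutative ↥E) (hF : IsMulCommutative ↥F) (hgen : E ⊔ F = ⊤) :
    Group.nilpotencyClass ↥(Subgroup.normalClosure (E : Set P)) < Group.nilpotencyClass P ∧
    Group.nilpotencyClass ↥(Subgroup.normalClosure (F : Set P)) < Group.nilpotencyClass P := by
  have hc : 2 ≤ Group.nilpotencyClass P := by
    by_contra hlt
    push Not at hlt
    exact hna ((Group.IsNilpotent.nilpotencyClass_le_one_iff).mp (by omega))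
  obtain ⟨n, hn⟩ : ∃ n, Group.nilpotencyClass P = n + 2 := ⟨Group.nilpotencyClass P - 2, by omega⟩
  constructor
  · have := key n P hn E F hE hF hgen
    omega
  · have := key n P hn F E hF hE (by rw [sup_comm]; exact hgen)
    omega

end Cfsg.Agent.S5067
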