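import Cfsg.Statements.S5078
import Mathlib

set_option autoImplicit false
open Cfsg

namespace Cfsg.Agent.S5078

open Cfsg.FusionSystem

/-- In any fusion system over a finite subgroup S, a receptive subgroup is fully centralized. -/
theorem result {Ω : Type*} [Group Ω] {S : Subgroup Ω} [Finite S] (F : Cfsg.FusionSystem S) (P : Subgroup Ω) (hP : F.IsReceptive P) : F.IsFullyCentralized P := by
  obtain ⟨hPS, hrec⟩ := hP
  refine ⟨hPS, ?_⟩
  rintro Q ⟨φ, hφ, rfl⟩
  obtain ⟨ψ, hψ, hψφ⟩ := F.inv_mem hφ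
  have hQS : φ.range ≤ S := (F.le_of_mem hψ).1
  have hψrange : ψ.range = P := by
    ext y
    constructor
    · rintro ⟨⟨_, x, rfl⟩, rfl⟩
      rw [hψφ]
      exact x.2
    · intro hy
      exact ⟨⟨φ ⟨y, hy⟩, ⟨y, hy⟩, rfl⟩, hψφ ⟨y, hy⟩⟩
  obtain ⟨χ, hχ, hχψ⟩ := hrec φ.range ψ hψ hψrange
  -- Q ≤ extender
  have hQext : φ.range ≤ extender S φ.range ψ := by
    intro x hx
    apply Subgroup.subset_closure
    refine ⟨hQS hx, ?_, ψ ⟨x, hx⟩, (F.le_of_mem hψ).2 _, ?_⟩
    · rw [Subgroup.mem_normalizer_iff]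
      intro y
      constructor
      · intro hy
        exact (φ.range).mul_mem ((φ.range).mul_mem hx hy) ((φ.range).inv_mem hx)
      · intro hy
        have : y = x⁻¹ * (x * y * x⁻¹) * x := by group
        rw [this]
        exact (φ.range).mul_mem ((φ.range).mul_mem ((φ.range).inv_mem hx) hy) hx
    · intro y hy
      have : (⟨x * y * x⁻¹, hy⟩ : φ.range) = ⟨x, hx⟩ * y * ⟨x, hx⟩⁻¹ := by
        apply Subtype.ext
        simp
      rw [this, map_mul, map_mul, map_inv]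
  have hCext : centralizerIn S φ.range ≤ extender S φ.range ψ := by
    intro c hc
    apply Subgroup.subset_closure
    have hcc : c ∈ Subgroup.centralizer (φ.range : Set Ω) := hc.2
    refine ⟨hc.1, ?_, 1, S.one_mem, ?_⟩
    · exact Subgroup.centralizer_le_normalizer _ hcc
    · intro y hy
      have hy' : c * (y : Ω) * c⁻¹ = y := by
        have := hcc y y.2
        rw [← this]; group
      have : (⟨c * y * c⁻¹, hy⟩ : φ.range) = y := Subtype.ext hy'
      rw [this]; simp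
  have hχS := (F.le_of_mem hχ).2
  have hχinj := F.injective_of_mem hχ
  have key : ∀ c : centralizerIn S φ.range,
      χ ⟨c, hCext c.2⟩ ∈ centralizerIn S P := by
    intro c
    refine ⟨hχS _, ?_⟩
    show _ ∈ Subgroup.centralizer (P : Set Ω)
    rw [Subgroup.mem_centralizer_iff]
    intro y hy
    -- y = ψ (φ y) = χ (φ y)
    have hy1 : y = χ ⟨φ ⟨y, hy⟩, hQext ⟨_, rfl⟩⟩ := by
      rw [hχψ (φ ⟨y, hy⟩) ⟨_, rfl⟩ (hQext ⟨_, rfl⟩)]
      exact (hψφ ⟨y, hy⟩).symm
    have hcomm : (⟨φ ⟨y, hy⟩, hQext ⟨_, rfl⟩⟩ : extender S φ.range ψ) * ⟨c, hCext c.2⟩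
        = ⟨c, hCext c.2⟩ * ⟨φ ⟨y, hy⟩, hQext ⟨_, rfl⟩⟩ := by
      apply Subtype.ext
      exact c.2.2 (φ ⟨y, hy⟩) ⟨_, rfl⟩
    conv_lhs => rw [hy1]
    conv_rhs => rw [hy1]
    rw [← map_mul, ← map_mul, hcomm]
  let f : centralizerIn S φ.range → centralizerIn S P := fun c => ⟨χ ⟨c, hCext c.2⟩, key c⟩
  have hf : Function.Injective f := by
    intro c d hcd
    have h1 : χ ⟨c, hCext c.2⟩ = χ ⟨d, hCext d.2⟩ := congrArg Subtype.val hcd
    have h2 := hχinj h1
    exact Subtype.ext (congrArg (fun z : extender S φ.range ψ => (z : Ω)) h2)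
  have : Finite (centralizerIn S P) :=
    Finite.of_injective (fun c : centralizerIn S P => (⟨c, c.2.1⟩ : S))
      (fun a b h => Subtype.ext (congrArg (fun z : S => (z : Ω)) h))
  exact Nat.card_le_card_of_injective f hf

end Cfsg.Agent.S5078
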