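import Cfsg.Statements.S5079
import Cfsg.Agent.Lib.H25.Saturation

set_option autoImplicit false
open Cfsg

namespace Cfsg.Agent.S5079

open Cfsg.FusionSystem Cfsg.Agent.Lib.H25

/-- In any fusion system over a finite p-group S: if P is fully automized and receptive and Q is conjugate to P in the system, then there is a map of the system with source N_S(Q) and values in N_S(P) carrying Q onto P. -/
theorem result {Ω : Type*} [Group Ω] {S : Subgroup Ω} [Finite S] (p : ℕ) [Fact p.Prime] (hS : IsPGroup p S) (F : Cfsg.FusionSystem S) (P Q : Subgroup Ω) (h₁ : F.IsFullyAutomized p P) (h₂ : F.IsReceptive P) (hQ : F.IsConj Q P) : ∃ φ ∈ F.Hom (Cfsg.FusionSystem.normalizerIn S Q), (∀ x, φ x ∈ Cfsg.FusionSystem.normalizerIn S P) ∧ (Q.subgroupOf (Cfsg.FusionSystem.normalizerIn S Q)).map φ = P := by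
  obtain ⟨f, N', hf, hN', hfQ⟩ := exists_normalizer_map hS h₁ h₂ hQ
  have hQS : Q ≤ S := hfQ.le_left
  have hQN : Q ≤ normalizerIn S Q := fun x hx => ⟨hQS hx, Subgroup.le_normalizer hx⟩
  obtain ⟨φ, hφ, hφf, hr⟩ := hf
  refine ⟨φ, hφ, fun x => ?_, ?_⟩
  · apply hN'
    rw [← hr]
    exact ⟨x, rfl⟩
  · ext y
    constructor
    · rintro ⟨x, hx, rfl⟩
      rw [hφf]
      exact hfQ.map_mem (Subgroup.mem_subgroupOf.1 hx)
    · intro hy
      obtain ⟨x, hx, rfl⟩ := hfQ.surjOn hy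
      exact ⟨⟨x, hQN hx⟩, Subgroup.mem_subgroupOf.2 hx, hφf _⟩

end Cfsg.Agent.S5079
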