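import Cfsg.Statements.S5085
import Cfsg.Agent.Lib.H25.Fusion

set_option autoImplicit false
open Cfsg

namespace Cfsg.Agent.S5085

open Cfsg.FusionSystem Cfsg.Agent.Lib.H25

/-- In any fusion system, a characteristic subgroup of a subgroup that is normal in the system is itself normal in the system. -/
theorem result {Ω : Type*} [Group Ω] {S : Subgroup Ω} (F : Cfsg.FusionSystem S) (Q U : Subgroup Ω) (hQ : F.IsNormal Q) (hUQ : U ≤ Q) (hU : (U.subgroupOf Q).Characteristic) : F.IsNormal U := by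
  obtain ⟨hQS, hext⟩ := hQ
  refine ⟨hUQ.trans hQS, fun P φ hφ => ?_⟩
  obtain ⟨ψ, hψ, hψφ, hψQ⟩ := hext P φ hφ
  have hle : P ⊔ U ≤ P ⊔ Q := sup_le_sup_left hUQ P
  refine ⟨ψ.comp (Subgroup.inclusion hle), restrict_mem F hψ hle, fun x => hψφ x, ?_⟩
  -- ψ restricted to Q is an automorphism of Q
  have hmem : ∀ x : Q, ψ (Subgroup.inclusion le_sup_right x) ∈ Q := by
    intro x
    have h : ψ (Subgroup.inclusion le_sup_right x) ∈ (Q.subgroupOf (P ⊔ Q)).map ψ :=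
      ⟨Subgroup.inclusion le_sup_right x, Subgroup.mem_subgroupOf.2 x.2, rfl⟩
    rwa [hψQ] at h
  let β : Q →* Q := (ψ.comp (Subgroup.inclusion (le_sup_right : Q ≤ P ⊔ Q))).codRestrict Q hmem
  have hinj : Function.Injective β := by
    intro a b hab
    have h1 : ψ (Subgroup.inclusion le_sup_right a) = ψ (Subgroup.inclusion le_sup_right b) :=
      congrArg Subtype.val hab
    have h2 := F.injective_of_mem hψ h1
    exact Subgroup.inclusion_injective _ h2
  have hsurj : Function.Surjective β := by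
    intro y
    have hy : (y : Ω) ∈ (Q.subgroupOf (P ⊔ Q)).map ψ := by rw [hψQ]; exact y.2
    obtain ⟨x, hx, hxy⟩ := hy
    refine ⟨⟨x, Subgroup.mem_subgroupOf.1 hx⟩, Subtype.ext ?_⟩
    show ψ (Subgroup.inclusion le_sup_right ⟨x, _⟩) = y
    rw [← hxy]
    congr 1
  let α : MulAut Q := MulEquiv.ofBijective β ⟨hinj, hsurj⟩
  have hchar : ∀ y : Q, y ∈ U.subgroupOf Q ↔ α y ∈ U.subgroupOf Q := by
    intro y
    have := hU.fixed α
    conv_lhs => rw [← this]
    rfl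
  have hchar' : ∀ y : Q, y ∈ U.subgroupOf Q ↔ α⁻¹ y ∈ U.subgroupOf Q := by
    intro y
    have := hchar (α⁻¹ y)
    simp only [MulAut.apply_inv_self] at this
    exact this.symm
  ext y
  constructor
  · rintro ⟨x, hx, rfl⟩
    have hxU : (x : Ω) ∈ U := Subgroup.mem_subgroupOf.1 hx
    have h1 := (hchar ⟨x, hUQ hxU⟩).1 (Subgroup.mem_subgroupOf.2 hxU)
    exact Subgroup.mem_subgroupOf.1 h1
  · intro hy
    have hyQ : y ∈ Q := hUQ hy
    have h1 := (hchar' ⟨y, hyQ⟩).1 (Subgroup.mem_subgroupOf.2 hy)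
    have h2 : ((α⁻¹ ⟨y, hyQ⟩ : Q) : Ω) ∈ U := Subgroup.mem_subgroupOf.1 h1
    refine ⟨⟨(α⁻¹ ⟨y, hyQ⟩ : Q), (le_sup_right : U ≤ P ⊔ U) h2⟩, Subgroup.mem_subgroupOf.2 h2, ?_⟩
    have h3 : α (α⁻¹ ⟨y, hyQ⟩) = ⟨y, hyQ⟩ := by simp
    have h4 := congrArg Subtype.val h3
    exact h4

end Cfsg.Agent.S5085
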