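import Cfsg.Statements.S5087
import Cfsg.Agent.Lib.H25.Normal

set_option autoImplicit false
open Cfsg

namespace Cfsg.Agent.S5087

open Cfsg.FusionSystem Cfsg.Agent.Lib.H25

/-- In a saturated fusion system over a finite p-group S, a subgroup Q is normal in the system if and only if every subgroup P that equals S or is essential contains Q and every element of Aut_F(P) maps Q onto itself. -/
theorem result {Ω : Type*} [Group Ω] {S : Subgroup Ω} [Finite S] (p : ℕ) [Fact p.Prime] (hS : IsPGroup p S) (F : Cfsg.FusionSystem S) (hF : F.IsSaturated p) (Q : Subgroup Ω) : F.IsNormal Q ↔ ∀ P : Subgroup Ω, (P = S ∨ F.IsEssential p P) → (Q ≤ P ∧ ∀ α ∈ F.autGroup P, (Q.subgroupOf P).map α.toMonoidHom = Q.subgroupOf P) := by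
  constructor
  · intro hQ P hP
    have hsc := isNormal_stronglyClosed hQ
    have hPS : P ≤ S := le_of_eq_or_essential hP
    have hQP : Q ≤ P := by
      rcases hP with rfl | hP
      · exact hQ.1
      · exact isNormal_le_of_centric_radical hS hQ hP.1 (Cfsg.Agent.S5080.result p hS F hF P hP)
    refine ⟨hQP, fun α hα => ?_⟩
    exact map_subgroupOf_eq_of_forall_mem (A := F.autGroup P)
      (fun β hβ x hx => stronglyClosed_aut_mem hsc hPS hQP hβ x hx) hα
  · intro h
    apply isNormal_of_essential hS hF
    intro T hT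
    obtain ⟨hQT, hinv⟩ := h T hT
    exact ⟨hQT, fun α hα x hx => mem_of_map_subgroupOf_eq (hinv α hα) x hx⟩

end Cfsg.Agent.S5087
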