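import Cfsg.Statements.S5088
import Cfsg.Agent.Lib.H25.NormalSeries
import Cfsg.Agent.S5085

set_option autoImplicit false
open Cfsg

namespace Cfsg.Agent.S5088

open Cfsg.FusionSystem Cfsg.Agent.Lib.H25
open scoped commutatorElement

/-- In a saturated fusion system over a finite p-group, a subgroup Q is normal in the system if and only if there is a chain of subgroups 1 = Q₀ ≤ Q₁ ≤ ⋯ ≤ Qₙ = Q such that each Qᵢ with i ≥ 1 is strongly closed in the system and [Q, Qᵢ] ≤ Qᵢ₋₁. -/
theorem result {Ω : Type*} [Group Ω] {S : Subgroup Ω} [Finite S] (p : ℕ) [Fact p.Prime] (hS : IsPGroup p S) (F : Cfsg.FusionSystem S) (hF : F.IsSaturated p) (Q : Subgroup Ω) : F.IsNormal Q ↔ ∃ (n : ℕ) (Qs : Fin (n + 1) → Subgroup Ω), Qs 0 = ⊥ ∧ Qs (Fin.last n) = Q ∧ Monotone Qs ∧ ∀ i : Fin n, F.StronglyClosed (Qs i.succ) ∧ ⁅Q, Qs i.succ⁆ ≤ Qs (Fin.castSucc i) := by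
  constructor
  · intro hQ
    have hQS := hQ.1
    have hfinQ : Finite Q := finite_of_le S hQS
    have hQp : IsPGroup p Q := hS.to_le hQS
    have hnil : Group.IsNilpotent Q := hQp.isNilpotent
    obtain ⟨n, hn⟩ := hnil.nilpotent
    refine ⟨n, fun i => (Subgroup.upperCentralSeries Q (i : ℕ)).map Q.subtype, ?_, ?_, ?_, fun i => ⟨?_, ?_⟩⟩
    · show (Subgroup.upperCentralSeries Q ((0 : Fin (n + 1)) : ℕ)).map Q.subtype = ⊥
      rw [Fin.val_zero, Subgroup.upperCentralSeries_zero, Subgroup.map_bot]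
    · show (Subgroup.upperCentralSeries Q ((Fin.last n : Fin (n + 1)) : ℕ)).map Q.subtype = Q
      rw [Fin.val_last, hn, ← MonoidHom.range_eq_map, Subgroup.range_subtype]
    · intro i j hij
      exact Subgroup.map_mono (Subgroup.upperCentralSeries_mono Q (Fin.le_iff_val_le_val.1 hij))
    · apply isNormal_stronglyClosed
      refine Cfsg.Agent.S5085.result F Q _ hQ (Subgroup.map_subtype_le _) ?_
      have : ((Subgroup.upperCentralSeries Q ((i.succ : Fin (n + 1)) : ℕ)).map Q.subtype).subgroupOf Q =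
          Subgroup.upperCentralSeries Q ((i.succ : Fin (n + 1)) : ℕ) :=
        Subgroup.comap_map_eq_self_of_injective Q.subtype_injective _
      rw [this]
      infer_instance
    · show ⁅Q, (Subgroup.upperCentralSeries Q ((i.succ : Fin (n + 1)) : ℕ)).map Q.subtype⁆ ≤
        (Subgroup.upperCentralSeries Q ((Fin.castSucc i : Fin (n + 1)) : ℕ)).map Q.subtype
      rw [Fin.val_succ, Fin.val_castSucc]
      exact comm_upperCentralSeries_le Q i
  · rintro ⟨n, Qs, h0, hlast, hmono, hstep⟩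
    let U : ℕ → Subgroup Ω := fun j => if h : j < n + 1 then Qs ⟨j, h⟩ else Q
    have hU : ∀ j (h : j < n + 1), U j = Qs ⟨j, h⟩ := fun j h => dif_pos h
    refine isNormal_of_series hS hF U n ?_ ?_ ?_ ?_ ?_
    · rw [hU 0 (Nat.succ_pos n)]
      exact h0
    · rw [hU n (Nat.lt_succ_self n)]
      exact hlast
    · intro i hi
      rw [hU i (by omega), hU (i + 1) (by omega)]
      apply hmono
      exact Fin.le_iff_val_le_val.2 (Nat.le_succ i)
    · intro i hi
      rcases Nat.eq_zero_or_pos i with rfl | hpos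
      · rw [hU 0 (Nat.succ_pos n)]
        have : Qs ⟨0, Nat.succ_pos n⟩ = ⊥ := h0
        rw [this]
        exact stronglyClosed_bot F
      · obtain ⟨j, rfl⟩ : ∃ j, i = j + 1 := ⟨i - 1, by omega⟩
        rw [hU (j + 1) (by omega)]
        exact (hstep ⟨j, by omega⟩).1
    · intro i hi
      rw [hU i (by omega), hU (i + 1) (by omega)]
      exact (hstep ⟨i, hi⟩).2

end Cfsg.Agent.S5088
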