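import Cfsg.Statements.S5089
import Cfsg.Agent.Lib.H25.NormalSeries
import Cfsg.Agent.S5085
import Cfsg.Agent.S5145

set_option autoImplicit false
open Cfsg

namespace Cfsg.Agent.S5089

open Cfsg.FusionSystem Cfsg.Agent.Lib.H25

/-- A saturated fusion system over a finite p-group has a nontrivial subgroup that is normal in the system (O_p(F) ≠ 1) if and only if some nontrivial abelian subgroup is strongly closed in the system. -/
theorem result {Ω : Type*} [Group Ω] {S : Subgroup Ω} [Finite S] (p : ℕ) [Fact p.Prime] (hS : IsPGroup p S) (F : Cfsg.FusionSystem S) (hF : F.IsSaturated p) : F.core ≠ ⊥ ↔ ∃ Q : Subgroup Ω, Q ≠ ⊥ ∧ IsMulCommutative Q ∧ F.StronglyClosed Q := by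
  constructor
  · intro hne
    have hcore : F.IsNormal F.core := Cfsg.Agent.S5145.result F
    set C := F.core with hC
    have hCS := hcore.1
    have hfinC : Finite C := finite_of_le S hCS
    have hCp : IsPGroup p C := hS.to_le hCS
    have hnt : Nontrivial C := (Subgroup.nontrivial_iff_ne_bot C).2 hne
    have hZnt : Nontrivial (Subgroup.center C) := hCp.center_nontrivial
    refine ⟨(Subgroup.center C).map C.subtype, ?_, inferInstance, ?_⟩
    · intro h
      rw [Subgroup.map_eq_bot_iff_of_injective _ C.subtype_injective] at h
      exact (Subgroup.nontrivial_iff_ne_bot _).1 hZnt h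
    · apply isNormal_stronglyClosed
      refine Cfsg.Agent.S5085.result F C _ hcore (Subgroup.map_subtype_le _) ?_
      have : ((Subgroup.center C).map C.subtype).subgroupOf C = Subgroup.center C :=
        Subgroup.comap_map_eq_self_of_injective C.subtype_injective _
      rw [this]
      infer_instance
  · rintro ⟨Q, hne, hcomm, hsc⟩
    have hQn : F.IsNormal Q := by
      let U : ℕ → Subgroup Ω := fun j => if j = 0 then ⊥ else Q
      have hU0 : U 0 = ⊥ := if_pos rfl
      have hU1 : U 1 = Q := if_neg one_ne_zero
      refine isNormal_of_series hS hF U 1 hU0 hU1 ?_ ?_ ?_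
      · intro i hi
        have : i = 0 := by omega
        subst this
        rw [hU0]
        exact bot_le
      · intro i hi
        rcases Nat.eq_zero_or_pos i with rfl | hpos
        · rw [hU0]; exact stronglyClosed_bot F
        · have : i = 1 := by omega
          subst this
          rw [hU1]; exact hsc
      · intro i hi
        have : i = 0 := by omega
        subst this
        rw [hU0, hU1, (Subgroup.commutator_self_eq_bot_iff (H := Q)).2 hcomm]
    intro hbot
    apply hne
    have hle : Q ≤ F.core := le_sSup hQn
    rw [hbot] at hle
    exact le_bot_iff.1 hle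

end Cfsg.Agent.S5089
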