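import Cfsg.Statements.S5102
import Cfsg.Agent.Lib.H25.Fusion

set_option autoImplicit false
open Cfsg

namespace Cfsg.Agent.S5102

open Cfsg.FusionSystem Cfsg.Agent.Lib.H25

/-- A normal p-subgroup of a finite group G is normal in the fusion system of G on a Sylow p-subgroup. -/
theorem result {G : Type*} [Group G] [Finite G] (p : ℕ) [Fact p.Prime] (S : Sylow p G) (R : Subgroup G) [R.Normal] (hR : IsPGroup p R) : (Cfsg.groupFusionSystem (S : Subgroup G)).IsNormal R := by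
  have hRS : R ≤ (S : Subgroup G) := hR.le_sylow_of_normal S
  refine ⟨hRS, fun P φ hφ => ?_⟩
  obtain ⟨hPS, hφS, g, hg⟩ := hφ
  have hPR : P ⊔ R ≤ (S : Subgroup G) := sup_le hPS hRS
  have hval : ∀ x ∈ P ⊔ R, g * x * g⁻¹ ∈ (S : Subgroup G) := by
    have : P ⊔ R ≤ (S : Subgroup G).comap (MulAut.conj g).toMonoidHom := by
      apply sup_le
      · intro x hx
        show g * x * g⁻¹ ∈ (S : Subgroup G)
        rw [← hg ⟨x, hx⟩]
        exact hφS _
      · intro x hx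
        show g * x * g⁻¹ ∈ (S : Subgroup G)
        exact hRS (‹R.Normal›.conj_mem x hx g)
    exact fun x hx => this hx
  refine ⟨conjHom (P ⊔ R) g, ⟨hPR, fun x => hval x x.2, g, fun x => rfl⟩, fun x => ?_, ?_⟩
  · rw [hg]; rfl
  · ext y
    constructor
    · rintro ⟨x, hx, rfl⟩
      exact ‹R.Normal›.conj_mem x (Subgroup.mem_subgroupOf.1 hx) g
    · intro hy
      have h1 : g⁻¹ * y * g⁻¹⁻¹ ∈ R := ‹R.Normal›.conj_mem y hy g⁻¹
      refine ⟨⟨g⁻¹ * y * g⁻¹⁻¹, (le_sup_right : R ≤ P ⊔ R) h1⟩, Subgroup.mem_subgroupOf.2 h1, ?_⟩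
      show g * (g⁻¹ * y * g⁻¹⁻¹) * g⁻¹ = y
      group

end Cfsg.Agent.S5102
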