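import Cfsg.Statements.S5104
import Cfsg.Agent.Lib.H25.Fusion

set_option autoImplicit false
open Cfsg

namespace Cfsg.Agent.S5104

open Cfsg.FusionSystem Cfsg.Agent.Lib.H25

/-- In a saturated fusion system over a finite p-group S, a fully centralized subgroup U with C_S(U) ≤ U is centric. -/
theorem result {Ω : Type*} [Group Ω] {S : Subgroup Ω} [Finite S] (p : ℕ) [Fact p.Prime] (hS : IsPGroup p S) (F : Cfsg.FusionSystem S) (hF : F.IsSaturated p) (U : Subgroup Ω) (hU : F.IsFullyCentralized U) (hC : Cfsg.FusionSystem.centralizerIn S U ≤ U) : F.IsCentric U := by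
  obtain ⟨hUS, hfc⟩ := hU
  refine ⟨hUS, fun Q hQ => ?_⟩
  have hcard := hfc Q hQ
  obtain ⟨f, hf⟩ := (isConj_iff F).1 hQ
  have hQS : Q ≤ S := hf.le_right
  have key : ∀ c : centralizerIn S U, f c ∈ centralizerIn S Q := by
    intro c
    have hcU : (c : Ω) ∈ U := hC c.2
    refine ⟨hQS (hf.map_mem hcU), ?_⟩
    show _ ∈ Subgroup.centralizer (Q : Set Ω)
    rw [Subgroup.mem_centralizer_iff]
    intro y hy
    obtain ⟨u, hu, rfl⟩ := hf.surjOn hy
    rw [← hf.map_mul hu hcU, ← hf.map_mul hcU hu]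
    congr 1
    exact c.2.2 u hu
  let g : centralizerIn S U → centralizerIn S Q := fun c => ⟨f c, key c⟩
  have hg : Function.Injective g := by
    intro a b hab
    have h1 : f a = f b := congrArg Subtype.val hab
    exact Subtype.ext (hf.injOn (hC a.2) (hC b.2) h1)
  have : Finite (centralizerIn S Q) :=
    Finite.of_injective (fun c : centralizerIn S Q => (⟨c, c.2.1⟩ : S))
      (fun a b h => Subtype.ext (congrArg (fun z : S => (z : Ω)) h))
  have hbij := hg.bijective_of_nat_card_le hcard
  intro y hy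
  obtain ⟨c, hc⟩ := hbij.2 ⟨y, hy⟩
  have : f c = y := congrArg Subtype.val hc
  rw [← this]
  exact hf.map_mem (hC c.2)

end Cfsg.Agent.S5104
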