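import Cfsg.Statements.S5105
import Cfsg.Agent.Lib.H25.Basic
import Mathlib.GroupTheory.GroupAction.Quotient
import Mathlib.GroupTheory.Sylow

set_option autoImplicit false
open Cfsg

namespace Cfsg.Agent.S5105

open Cfsg.Agent.Lib.H25

/-- An automorphism of a finite group `G` with `C_G(O_p(G)) ≤ O_p(G)` that fixes a Sylow `p`-subgroup
elementwise is conjugation by an element of `Z(O_p(G))`. -/
theorem aut_fix_sylow_inner {G : Type*} [Group G] [Finite G] {p : ℕ} [Fact p.Prime] (T : Sylow p G)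
    (hC : Subgroup.centralizer ((pCore p G : Subgroup G) : Set G) ≤ pCore p G) (ψ : G ≃* G)
    (hψ : ∀ t ∈ T, ψ t = t) :
    ∃ w ∈ Subgroup.centralizer ((pCore p G : Subgroup G) : Set G), ∀ g : G, ψ g = w * g * w⁻¹ := by
  classical
  set Q := pCore p G with hQdef
  have hQn : Q.Normal := Subgroup.sSup_normal _ (fun _ h => h.1)
  have hQp : IsPGroup p Q := pCore_isPGroup p G
  have hQT : Q ≤ T := hQp.le_sylow_of_normal T
  set A := Subgroup.centralizer (Q : Set G) with hAdef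
  have hAn : A.Normal := by
    constructor
    intro a ha g
    rw [hAdef, Subgroup.mem_centralizer_iff] at ha ⊢
    intro x hx
    have hx' : g⁻¹ * x * g ∈ Q := by
      have := hQn.conj_mem x hx g⁻¹
      simpa using this
    have h1 := ha _ hx'
    calc x * (g * a * g⁻¹) = g * ((g⁻¹ * x * g) * a) * g⁻¹ := by group
      _ = g * (a * (g⁻¹ * x * g)) * g⁻¹ := by rw [h1]
      _ = g * a * g⁻¹ * x := by group
  have hAcomm : ∀ a b : A, a * b = b * a := by
    intro a b
    apply Subtype.ext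
    have hb : (b : G) ∈ Q := hC b.2
    have := (Subgroup.mem_centralizer_iff.1 a.2) b hb
    exact this.symm
  letI : CommGroup A := { (inferInstance : Group A) with mul_comm := hAcomm }
  have hψQ : ∀ x ∈ Q, ψ x = x := fun x hx => hψ x (hQT hx)
  -- `y g = ψ g * g⁻¹ ∈ A`
  have hyA : ∀ g : G, ψ g * g⁻¹ ∈ A := by
    intro g
    have h1 : g⁻¹ * ψ g ∈ A := by
      rw [hAdef, Subgroup.mem_centralizer_iff]
      intro x hx
      have hx' : g * x * g⁻¹ ∈ Q := hQn.conj_mem x hx g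
      have h2 : ψ (g * x * g⁻¹) = g * x * g⁻¹ := hψQ _ hx'
      rw [map_mul, map_mul, map_inv, hψQ x hx] at h2
      calc x * (g⁻¹ * ψ g) = g⁻¹ * (g * x * g⁻¹) * ψ g := by group
        _ = g⁻¹ * (ψ g * x * (ψ g)⁻¹) * ψ g := by rw [h2]
        _ = g⁻¹ * ψ g * x := by group
    have h3 := hAn.conj_mem _ h1 g
    have e : g * (g⁻¹ * ψ g) * g⁻¹ = ψ g * g⁻¹ := by group
    rwa [e] at h3
  let y : G → A := fun g => ⟨ψ g * g⁻¹, hyA g⟩
  have hy_coset : ∀ (g : G) (t : G), t ∈ T → y (g * t) = y g := by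
    intro g t ht
    apply Subtype.ext
    show ψ (g * t) * (g * t)⁻¹ = ψ g * g⁻¹
    rw [map_mul, hψ t ht]
    group
  let cj : G → A →* A := fun h =>
    { toFun := fun a => ⟨h * a * h⁻¹, hAn.conj_mem a a.2 h⟩
      map_one' := by apply Subtype.ext; simp
      map_mul' := fun a b => by apply Subtype.ext; simp [mul_assoc] }
  have hy_mul : ∀ h g : G, y (h * g) = y h * cj h (y g) := by
    intro h g
    apply Subtype.ext
    show ψ (h * g) * (h * g)⁻¹ = (ψ h * h⁻¹) * (h * (ψ g * g⁻¹) * h⁻¹)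
    rw [map_mul]
    group
  let Y : G ⧸ (T : Subgroup G) → A := fun c => y c.out
  have hYmk : ∀ g : G, Y (QuotientGroup.mk g) = y g := by
    intro g
    obtain ⟨t, ht⟩ := QuotientGroup.mk_out_eq_mul (T : Subgroup G) g
    show y (QuotientGroup.mk g : G ⧸ (T : Subgroup G)).out = y g
    rw [ht]
    exact hy_coset g t t.2
  haveI : Fintype (G ⧸ (T : Subgroup G)) := Fintype.ofFinite _
  set W : A := ∏ c : G ⧸ (T : Subgroup G), Y c with hWdef
  set m := Fintype.card (G ⧸ (T : Subgroup G)) with hmdef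
  have hkey : ∀ h : G, W = y h ^ m * cj h W := by
    intro h
    have h1 : ∏ c : G ⧸ (T : Subgroup G), Y (h • c) = W :=
      Equiv.prod_comp (MulAction.toPerm h) Y
    have h2 : ∀ c : G ⧸ (T : Subgroup G), Y (h • c) = y h * cj h (Y c) := by
      intro c
      have hc : c = QuotientGroup.mk c.out := (QuotientGroup.out_eq' c).symm
      have h3 : h • c = QuotientGroup.mk (h * c.out) := by
        conv_lhs => rw [hc]
        rfl
      rw [h3, hYmk, hy_mul]
    calc W = ∏ c : G ⧸ (T : Subgroup G), Y (h • c) := h1.symm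
      _ = ∏ c : G ⧸ (T : Subgroup G), (y h * cj h (Y c)) := Finset.prod_congr rfl (fun c _ => h2 c)
      _ = y h ^ m * cj h W := by
        rw [Finset.prod_mul_distrib, Finset.prod_const, Finset.card_univ, ← map_prod]
  -- arithmetic
  have hmidx : m = (T : Subgroup G).index := by
    rw [hmdef, Subgroup.index_eq_card, Nat.card_eq_fintype_card]
  have hmp : ¬ p ∣ m := by rw [hmidx]; exact T.not_dvd_index
  have hAp : IsPGroup p A := hQp.to_le hC
  obtain ⟨k, hk⟩ := hAp.exists_card_eq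
  have hp := (Fact.out : p.Prime)
  have hcop : Nat.Coprime m (p ^ k) :=
    Nat.Coprime.pow_right k ((Nat.Prime.coprime_iff_not_dvd hp).2 hmp).symm
  obtain ⟨m', -, hm'⟩ := Nat.exists_mul_mod_eq_of_coprime 1 hcop (pow_pos hp.pos k).ne'
  have hpowA : ∀ a : A, a ^ (p ^ k) = 1 := fun a => by rw [← hk]; exact pow_card_eq_one'
  have hy_eq : ∀ h : G, y h = W ^ m' * (cj h (W ^ m'))⁻¹ := by
    intro h
    have h1 : y h ^ m = W * (cj h W)⁻¹ := eq_mul_inv_of_mul_eq (hkey h).symm
    calc y h = y h ^ (m * m') := by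
          rw [pow_eq_pow_mod (m * m') (hpowA (y h)), hm', ← pow_eq_pow_mod 1 (hpowA (y h)), pow_one]
      _ = (y h ^ m) ^ m' := pow_mul _ _ _
      _ = (W * (cj h W)⁻¹) ^ m' := by rw [h1]
      _ = W ^ m' * (cj h (W ^ m'))⁻¹ := by rw [mul_pow, inv_pow, map_pow]
  refine ⟨((W ^ m' : A) : G), (W ^ m' : A).2, fun g => ?_⟩
  have h1 := congrArg Subtype.val (hy_eq g)
  have h2 : ψ g * g⁻¹ = ((W ^ m' : A) : G) * (g * ((W ^ m' : A) : G) * g⁻¹)⁻¹ := h1
  calc ψ g = ψ g * g⁻¹ * g := by group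
    _ = ((W ^ m' : A) : G) * (g * ((W ^ m' : A) : G) * g⁻¹)⁻¹ * g := by rw [h2]
    _ = ((W ^ m' : A) : G) * g * ((W ^ m' : A) : G)⁻¹ := by group

/-- Model Theorem, rigidity: if G is a model of a constrained fusion system over a finite p-group S (through ι : S → G), then every automorphism of G fixing ι(S) elementwise is conjugation by ι(z) for some z in the centre of S. -/
theorem result {Ω : Type*} [Group Ω] {S : Subgroup Ω} [Finite S] (p : ℕ) [Fact p.Prime] (hS : IsPGroup p S) (F : Cfsg.FusionSystem S) (hF : F.IsConstrained p) {G : Type*} [Group G] (ι : S →* G) (hG : F.IsModel p G ι) (ψ : G ≃* G) (hψ : ∀ x : S, ψ (ι x) = ι x) : ∃ z : S, z ∈ Subgroup.center S ∧ ∀ g : G, ψ g = ι z * g * (ι z)⁻¹ := by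
  obtain ⟨hfin, ⟨hinj, -⟩, ⟨T, hT⟩, hC⟩ := hG
  have hψT : ∀ t ∈ T, ψ t = t := by
    intro t ht
    have : t ∈ ι.range := by rw [← hT]; exact ht
    obtain ⟨x, rfl⟩ := this
    exact hψ x
  obtain ⟨w, hwA, hw⟩ := aut_fix_sylow_inner T hC ψ hψT
  have hwT : w ∈ ι.range := by
    rw [← hT]
    haveI : (pCore p G).Normal := Subgroup.sSup_normal _ (fun _ h => h.1)
    exact (pCore_isPGroup p G).le_sylow_of_normal T (hC hwA)
  obtain ⟨z, rfl⟩ := hwT
  refine ⟨z, ?_, hw⟩
  rw [Subgroup.mem_center_iff]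
  intro s
  apply hinj
  have h1 := hw (ι s)
  rw [hψ s] at h1
  rw [map_mul, map_mul]
  calc ι s * ι z = ι z * ι s * (ι z)⁻¹ * ι z := by rw [← h1]
    _ = ι z * ι s := by group

end Cfsg.Agent.S5105
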