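import Cfsg.Statements.S5106
import Cfsg.Agent.Lib.H25.NormalSeries

set_option autoImplicit false
open Cfsg

namespace Cfsg.Agent.S5106

open Cfsg.FusionSystem Cfsg.Agent.Lib.H25

/-- In a saturated fusion system over a finite p-group S, a subgroup R ≤ S is normal in the system if and only if every map of the system whose source is a subgroup of R is the restriction of an element of Aut_F(R). -/
theorem result {Ω : Type*} [Group Ω] {S : Subgroup Ω} [Finite S] (p : ℕ) [Fact p.Prime] (hS : IsPGroup p S) (F : Cfsg.FusionSystem S) (hF : F.IsSaturated p) (R : Subgroup Ω) (hRS : R ≤ S) : F.IsNormal R ↔ ∀ (P : Subgroup Ω) (hPR : P ≤ R) (φ : P →* Ω), φ ∈ F.Hom P → ∃ α ∈ F.autGroup R, ∀ x : P, ((α (Subgroup.inclusion hPR x) : R) : Ω) = φ x := by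
  constructor
  · intro hR P hPR φ hφ
    obtain ⟨g, -, hgφ, hgR⟩ := isNormal_exists_ext hR (isIso_of_mem F hφ)
    obtain ⟨α, hα, hαg⟩ := exists_mem_autGroup_of_isIso F hgR
    refine ⟨α, hα, fun x => ?_⟩
    rw [hαg, ← ext1_apply φ x]
    exact hgφ x x.2
  · intro H
    have hfinR : Finite R := finite_of_le S hRS
    have hRp : IsPGroup p R := hS.to_le hRS
    have hnil : Group.IsNilpotent R := hRp.isNilpotent
    obtain ⟨n, hn⟩ := hnil.nilpotent
    let U : ℕ → Subgroup Ω := fun i => (Subgroup.upperCentralSeries R i).map R.subtype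
    have hUR : ∀ i, U i ≤ R := fun i => Subgroup.map_subtype_le _
    refine isNormal_of_series hS hF U n ?_ ?_ ?_ ?_ ?_
    · show (Subgroup.upperCentralSeries R 0).map R.subtype = ⊥
      rw [Subgroup.upperCentralSeries_zero, Subgroup.map_bot]
    · show (Subgroup.upperCentralSeries R n).map R.subtype = R
      rw [hn, ← MonoidHom.range_eq_map, Subgroup.range_subtype]
    · intro i _
      exact Subgroup.map_mono (Subgroup.upperCentralSeries_mono R (Nat.le_succ i))
    · intro i _
      refine ⟨(hUR i).trans hRS, fun P hP φ hφ x => ?_⟩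
      obtain ⟨α, -, hα⟩ := H P (hP.trans (hUR i)) φ hφ
      rw [← hα x]
      obtain ⟨z, hz, hzx⟩ := hP x.2
      have hz' : Subgroup.inclusion (hP.trans (hUR i)) x = z := Subtype.ext hzx.symm
      have hchar : (Subgroup.upperCentralSeries R i).Characteristic := inferInstance
      have hfix := hchar.fixed α
      have : α z ∈ Subgroup.upperCentralSeries R i := by
        have h1 : z ∈ (Subgroup.upperCentralSeries R i).comap α.toMonoidHom := by
          rw [hfix]; exact hz
        exact h1
      rw [hz']
      exact ⟨α z, this, rfl⟩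
    · intro i _
      exact comm_upperCentralSeries_le R i

end Cfsg.Agent.S5106
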