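import Cfsg.Statements.S5107
import Cfsg.Agent.Lib.H26.GroupSaturated
import Cfsg.Agent.Lib.H26.Stability
import Cfsg.Agent.Lib.H25.Normal
import Cfsg.Agent.Lib.H25.SatEquiv
import Cfsg.Agent.S5086

set_option autoImplicit false
open Cfsg

namespace Cfsg.Agent.S5107

open scoped commutatorElement

/-- If a Sylow p-subgroup S of a finite group G has nilpotency class at most two and its centre is strongly closed in S with respect to G, then every map of the fusion system of G on S is conjugation by an element of N_G(S), and S is the largest subgroup normal in that fusion system. -/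
theorem result {G : Type*} [Group G] [Finite G] (p : ℕ) [Fact p.Prime] (S : Sylow p G) (hcl : ⁅(S : Subgroup G), (S : Subgroup G)⁆ ≤ (S : Subgroup G) ⊓ Subgroup.centralizer ((S : Subgroup G) : Set G)) (hZ : Cfsg.IsStronglyClosed ((S : Subgroup G) ⊓ Subgroup.centralizer ((S : Subgroup G) : Set G)) (S : Subgroup G)) : (∀ (P : Subgroup G) (φ : P →* G), φ ∈ (Cfsg.groupFusionSystem (S : Subgroup G)).Hom P → ∃ g ∈ Subgroup.normalizer ((S : Subgroup G) : Set G), ∀ x : P, φ x = g * (x : G) * g⁻¹) ∧ (Cfsg.groupFusionSystem (S : Subgroup G)).core = S := by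
  classical
  have hSp : IsPGroup p (S : Subgroup G) := S.2
  have hF := Cfsg.Agent.Lib.H26.groupFusionSystem_isSaturated S
  obtain ⟨Z, hZdef⟩ : ∃ Z : Subgroup G,
      Z = (S : Subgroup G) ⊓ Subgroup.centralizer ((S : Subgroup G) : Set G) := ⟨_, rfl⟩
  rw [← hZdef] at hcl hZ
  have hZS : Z ≤ (S : Subgroup G) := hZ.1
  have hZc : ∀ z ∈ Z, ∀ s ∈ (S : Subgroup G), s * z = z * s := by
    intro z hz s hs
    rw [hZdef] at hz
    exact (Subgroup.mem_centralizer_iff.1 hz.2) s hs
  -- `S` is normal in the system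
  have hnormal : (Cfsg.groupFusionSystem (S : Subgroup G)).IsNormal (S : Subgroup G) := by
    rw [Cfsg.Agent.S5086.result p hSp _ hF]
    refine ⟨⟨le_rfl, fun R _ φ hφ x => ((Cfsg.groupFusionSystem (S : Subgroup G)).le_of_mem hφ).2 x⟩,
      fun P hc hr => ?_⟩
    have hPS := hc.1
    have hZP : Z ≤ P := by
      intro z hz
      apply hc.2 P (Cfsg.Agent.Lib.H25.isConj_refl _ hPS)
      refine ⟨hZS hz, ?_⟩
      show z ∈ Subgroup.centralizer (P : Set G)
      rw [Subgroup.mem_centralizer_iff]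
      intro y hy
      exact hZc z hz y (hPS hy)
    have : Finite Z := Cfsg.Agent.Lib.H25.finite_of_le _ hZS
    have : Finite P := Cfsg.Agent.Lib.H25.finite_of_le _ hPS
    have hinv : ∀ γ ∈ (Cfsg.groupFusionSystem (S : Subgroup G)).autGroup P, ∀ x : P,
        (x : G) ∈ Z → ((γ x : P) : G) ∈ Z := by
      intro γ hγ x hx
      rw [Cfsg.Agent.Lib.H25.mem_autGroup_iff _ hPS] at hγ
      obtain ⟨-, -, g, hg⟩ := hγ
      have h1 : ((γ x : P) : G) = g * (x : G) * g⁻¹ := hg x
      rw [h1]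
      apply hZ.2 _ hx
      rw [← h1]
      exact hPS (γ x).2
    intro g hg
    -- conjugation by `g` maps `P` into `P`
    have hcomm : ∀ x ∈ P, x⁻¹ * (g * x * g⁻¹) ∈ Z := by
      intro x hx
      apply hcl
      have : x⁻¹ * (g * x * g⁻¹) = ⁅x⁻¹, g⁆ := by
        rw [commutatorElement_def]; group
      rw [this]
      exact Subgroup.commutator_mem_commutator (Subgroup.inv_mem _ (hPS hx)) hg
    have hgP : ∀ x ∈ P, g * x * g⁻¹ ∈ P := by
      intro x hx
      have e : g * x * g⁻¹ = x * (x⁻¹ * (g * x * g⁻¹)) := by group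
      rw [e]
      exact P.mul_mem hx (hZP (hcomm x hx))
    have hgN : g ∈ Cfsg.FusionSystem.normalizerIn (S : Subgroup G) P :=
      ⟨hg, Cfsg.Agent.Lib.H25.mem_normalizer_of_conj_mem hgP⟩
    obtain ⟨β, hβA, hβg⟩ := Cfsg.Agent.Lib.H25.exists_mem_autGroup_of_isIso _
      (Cfsg.Agent.Lib.H25.isIso_conj_normalizer (Cfsg.groupFusionSystem (S : Subgroup G)) hPS hgN)
    have hβB : β ∈ Cfsg.Agent.Lib.H26.stabChain (Cfsg.groupFusionSystem (S : Subgroup G)) P Z := by
      refine ⟨hβA, fun x => ?_, fun x hx => ?_⟩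
      · rw [hβg]
        exact hcomm x x.2
      · apply Subtype.ext
        rw [hβg, hZc _ hx g hg]
        group
    exact Cfsg.Agent.Lib.H25.mem_of_centric_radical hc hr _
      (Cfsg.Agent.Lib.H26.stabChain_le _ P Z)
      (Cfsg.Agent.Lib.H26.stabChain_normal _ hZP hinv)
      (Cfsg.Agent.Lib.H26.stabChain_isPGroup _ hZP (hSp.to_le hZS)) hg hβB hβg
  refine ⟨fun P φ hφ => ?_, ?_⟩
  · obtain ⟨ψ, hψ, hψφ, hψS⟩ := hnormal.2 P φ hφ
    obtain ⟨-, -, g, hg⟩ := hψ
    have hgS : ∀ s ∈ (S : Subgroup G), g * s * g⁻¹ ∈ (S : Subgroup G) := by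
      intro s hs
      have hs' : s ∈ P ⊔ (S : Subgroup G) := (le_sup_right : (S : Subgroup G) ≤ _) hs
      have h1 : ψ ⟨s, hs'⟩ ∈ ((S : Subgroup G).subgroupOf (P ⊔ (S : Subgroup G))).map ψ :=
        ⟨⟨s, hs'⟩, Subgroup.mem_subgroupOf.2 hs, rfl⟩
      rw [hψS, hg] at h1
      exact h1
    have : Finite (S : Subgroup G) := inferInstance
    refine ⟨g, Cfsg.Agent.Lib.H25.mem_normalizer_of_conj_mem hgS, fun x => ?_⟩
    rw [← hψφ x, hg]
    rfl
  · apply le_antisymm
    · exact sSup_le (fun Q hQ => hQ.1)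
    · exact le_sSup hnormal

end Cfsg.Agent.S5107
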