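import Cfsg.Statements.S5112
import Cfsg.Agent.Lib.H25.AutTwoGroup
import Cfsg.Agent.Lib.H25.Hyperfocal

set_option autoImplicit false
open Cfsg

namespace Cfsg.Agent.S5112

open Cfsg.FusionSystem Cfsg.Agent.Lib.H25 Subgroup

theorem index_zpowers_eq_two {T : Type*} [Group T] [Finite T] (c : T) (N : ℕ) (hN : 0 < N)
    (hcard : Nat.card T = 2 * N) (hc : orderOf c = N) : (zpowers c).index = 2 := by
  have h1 := Subgroup.card_mul_index (zpowers c)
  rw [Nat.card_zpowers, hc, hcard] at h1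
  have : N * (zpowers c).index = N * 2 := by rw [h1, mul_comm]
  exact Nat.eq_of_mul_eq_mul_left hN this

theorem dihedral_isPGroup (n : ℕ) : IsPGroup 2 (DihedralGroup (2 ^ (n - 1))) := by
  have hNpos : 0 < 2 ^ (n - 1) := by positivity
  haveI : NeZero (2 ^ (n - 1)) := ⟨hNpos.ne'⟩
  apply IsPGroup.of_card (n := (n - 1) + 1)
  rw [DihedralGroup.nat_card, ← pow_succ']

theorem quaternion_isPGroup (n : ℕ) : IsPGroup 2 (QuaternionGroup (2 ^ (n - 2))) := by
  have hNpos : 0 < 2 ^ (n - 2) := by positivity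
  haveI : NeZero (2 ^ (n - 2)) := ⟨hNpos.ne'⟩
  apply IsPGroup.of_card (n := (n - 2) + 1 + 1)
  rw [Nat.card_eq_fintype_card, QuaternionGroup.card, pow_succ', pow_succ']
  ring

theorem dihedral_aut (n : ℕ) (hn : 4 ≤ n) : IsPGroup 2 (MulAut (DihedralGroup (2 ^ (n - 1)))) := by
  have hNpos : 0 < 2 ^ (n - 1) := by positivity
  haveI : NeZero (2 ^ (n - 1)) := ⟨hNpos.ne'⟩
  have hcard : Nat.card (DihedralGroup (2 ^ (n - 1))) = 2 * 2 ^ (n - 1) := DihedralGroup.nat_card
  have hge : 8 ≤ 2 ^ (n - 1) := by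
    calc 8 = 2 ^ 3 := by norm_num
      _ ≤ 2 ^ (n - 1) := Nat.pow_le_pow_right (by norm_num) (by omega)
  apply isPGroup_mulAut_of_cyclic_index_two (dihedral_isPGroup n) (DihedralGroup.r 1)
  · exact index_zpowers_eq_two _ _ hNpos hcard DihedralGroup.orderOf_r_one
  · intro x hx
    rw [DihedralGroup.orderOf_r_one]
    cases x with
    | r i =>
      exfalso
      apply hx
      rw [mem_zpowers_iff]
      refine ⟨(i.val : ℤ), ?_⟩
      rw [DihedralGroup.r_one_zpow]
      simp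
    | sr i =>
      rw [DihedralGroup.orderOf_sr]
      omega

theorem quaternion_aut (n : ℕ) (hn : 4 ≤ n) : IsPGroup 2 (MulAut (QuaternionGroup (2 ^ (n - 2)))) := by
  have hNpos : 0 < 2 ^ (n - 2) := by positivity
  haveI : NeZero (2 ^ (n - 2)) := ⟨hNpos.ne'⟩
  have hcard : Nat.card (QuaternionGroup (2 ^ (n - 2))) = 2 * (2 * 2 ^ (n - 2)) := by
    rw [Nat.card_eq_fintype_card, QuaternionGroup.card]; ring
  have hge : 4 ≤ 2 ^ (n - 2) := by
    calc 4 = 2 ^ 2 := by norm_num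
      _ ≤ 2 ^ (n - 2) := Nat.pow_le_pow_right (by norm_num) (by omega)
  apply isPGroup_mulAut_of_cyclic_index_two (quaternion_isPGroup n) (QuaternionGroup.a 1)
  · exact index_zpowers_eq_two _ _ (by positivity) hcard QuaternionGroup.orderOf_a_one
  · intro x hx
    rw [QuaternionGroup.orderOf_a_one]
    cases x with
    | a i =>
      exfalso
      apply hx
      rw [mem_zpowers_iff]
      refine ⟨(i.val : ℤ), ?_⟩
      rw [zpow_natCast, QuaternionGroup.a_one_pow]
      simp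
    | xa i =>
      rw [QuaternionGroup.orderOf_xa]
      omega

theorem autInducedBy_self_eq_inn {Ω : Type*} [Group Ω] (S : Subgroup Ω) :
    autInducedBy S S = Cfsg.Inn S := by
  ext α
  rw [mem_autInducedBy_iff]
  constructor
  · rintro ⟨g, hg, h⟩
    refine ⟨⟨g, hg⟩, ?_⟩
    ext x
    rw [h x]
    rfl
  · rintro ⟨s, rfl⟩
    exact ⟨s, s.2, fun x => rfl⟩

theorem result {Ω : Type*} [Group Ω] {S : Subgroup Ω} [Finite S] (n : ℕ) (hn : 4 ≤ n) (hshape : Nonempty (S ≃* DihedralGroup (2 ^ (n - 1))) ∨ Nonempty (S ≃* QuaternionGroup (2 ^ (n - 2)))) (F : Cfsg.FusionSystem S) (hF : F.IsSaturated 2) : F.autGroup S = Cfsg.Inn S := by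
  have hdata : IsPGroup 2 S ∧ IsPGroup 2 (MulAut S) := by
    rcases hshape with ⟨⟨e⟩⟩ | ⟨⟨e⟩⟩
    · exact ⟨(dihedral_isPGroup n).of_equiv e.symm, (dihedral_aut n hn).of_equiv (MulAut.congr e.symm)⟩
    · exact ⟨(quaternion_isPGroup n).of_equiv e.symm,
        (quaternion_aut n hn).of_equiv (MulAut.congr e.symm)⟩
  obtain ⟨hS, hAut⟩ := hdata
  obtain ⟨-, R, hR⟩ := (fullyNormalized_props hS hF (isFullyNormalized_self F)).2
  have hAutF : IsPGroup 2 (F.autGroup S) := hAut.to_subgroup _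
  have htop : (⊤ : Subgroup (F.autGroup S)) = (R : Subgroup (F.autGroup S)) :=
    R.is_maximal' (hAutF.to_subgroup ⊤) le_top
  rw [hR] at htop
  have hle : F.autGroup S ≤ autInducedBy S S := Subgroup.subgroupOf_eq_top.mp htop.symm
  rw [← autInducedBy_self_eq_inn]
  exact le_antisymm hle (autInducedBy_le_autGroup F le_rfl)

end Cfsg.Agent.S5112
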