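import Cfsg.Statements.S5342
import Cfsg.Agent.Lib.H25.NormalSeries
import Cfsg.Agent.Lib.H26.ModelStruct
import Cfsg.Agent.Lib.H26.Stability
import Cfsg.Agent.Lib.H26.CentricExt
import Cfsg.Agent.S5145
import Cfsg.Agent.S5106
import Cfsg.Agent.Lib.H25.SysOfPred

set_option autoImplicit false
open Cfsg

namespace Cfsg.Agent.S5342

open Cfsg.FusionSystem Cfsg.Agent.Lib.H25 Cfsg.Agent.Lib.H26 Cfsg.Agent.Lib.H26.Model

universe u

section

variable {Ω : Type u} [Group Ω] {S : Subgroup Ω} [Finite S] {p : ℕ} [Fact p.Prime]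

/-- In a constrained system, an element of `S` whose conjugation action on `O_p(F)` lies in a
normal `p`-subgroup of `Aut_F(O_p(F))` lies in `O_p(F)`. -/
theorem mem_core_of_normal_pSubgroup (hS : IsPGroup p S) {F : FusionSystem S}
    (hF : F.IsSaturated p) (hQn : F.IsNormal F.core) (hQc : F.IsCentric F.core)
    (B : Subgroup (MulAut F.core)) (hBp : IsPGroup p B)
    (hBn : ∀ γ ∈ F.autGroup F.core, ∀ α ∈ B, γ * α * γ⁻¹ ∈ B)
    {x : Ω} (hx : x ∈ S)
    (hxB : ∀ α : MulAut F.core, (∀ y : F.core, ((α y : F.core) : Ω) = x * y * x⁻¹) → α ∈ B) :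
    x ∈ F.core := by
  obtain ⟨G, hG, ι, π, hM, hπ, hπι, hker, hconj⟩ := exists_model_normal_centric hS hF hQn hQc
  haveI : Finite G := hM.1
  set B' : Subgroup (F.autGroup F.core) := B.subgroupOf (F.autGroup F.core) with hB'
  have hB'n : B'.Normal := by
    refine ⟨fun α hα γ => ?_⟩
    rw [hB', Subgroup.mem_subgroupOf] at hα ⊢
    exact hBn γ.1 γ.2 α.1 hα
  set N : Subgroup G := B'.comap π with hN
  have hNn : N.Normal := hB'n.comap π
  have hQp : IsPGroup p F.core := hS.to_le hQn.1
  have hNp : IsPGroup p N := by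
    rintro ⟨g, hg⟩
    have hg' : ((π g : F.autGroup F.core) : MulAut F.core) ∈ B := hg
    obtain ⟨k, hk⟩ := hBp ⟨_, hg'⟩
    have hk' : (π g) ^ p ^ k = 1 := by
      apply Subtype.ext
      have := congrArg (fun z : B => (z : MulAut F.core)) hk
      simpa using this
    rw [← map_pow] at hk'
    obtain ⟨s, hsQ, -, hs⟩ := hker _ hk'
    obtain ⟨m, hm⟩ := hQp ⟨s, hsQ⟩
    have hm' : s ^ p ^ m = 1 := by
      apply Subtype.ext
      have := congrArg (fun z : F.core => (z : Ω)) hm
      simpa using this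
    refine ⟨k + m, Subtype.ext ?_⟩
    show g ^ p ^ (k + m) = 1
    rw [pow_add, pow_mul, ← hs, ← map_pow, hm', map_one]
  have hle : N ≤ pCore p G := le_pCore hNn hNp
  have hxN : ι ⟨x, hx⟩ ∈ N := by
    show ((π (ι ⟨x, hx⟩) : F.autGroup F.core) : MulAut F.core) ∈ B
    exact hxB _ (fun y => hπι ⟨x, hx⟩ y)
  rw [model_core_eq hS hM]
  exact mem_preSub.2 ⟨hx, hle hxN⟩

/-- One step: a normal subsystem of a constrained system is constrained. -/
theorem constrained_of_normalIn (hS : IsPGroup p S) {F : FusionSystem S}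
    (hF : F.IsConstrained p) {T : Subgroup Ω} {E : FusionSystem T} (hE : E.IsNormalIn F p) :
    E.IsConstrained p := by
  classical
  obtain ⟨hFs, Q', hQ'n, hQ'c⟩ := hF
  obtain ⟨⟨hEs, -, hEsub, hTsc, -, -⟩, -⟩ := hE
  have hTS : T ≤ S := hTsc.1
  haveI hfinT : Finite T := finite_of_le S hTS
  have hTp : IsPGroup p T := hS.to_le hTS
  have hQn : F.IsNormal F.core := Cfsg.Agent.S5145.result F
  have hQS : F.core ≤ S := hQn.1
  have hQc : F.IsCentric F.core := isCentric_of_le hQ'c (le_sSup hQ'n) hQS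
  have hQsc : F.StronglyClosed F.core := isNormal_stronglyClosed hQn
  set Q := F.core with hQ
  haveI hfinQ : Finite Q := finite_of_le S hQS
  have hQp : IsPGroup p Q := hS.to_le hQS
  -- the terms of the upper central series of `Q` are strongly closed in `F`
  let Z : ℕ → Subgroup Ω := fun i => (Subgroup.upperCentralSeries Q i).map Q.subtype
  have hZQ : ∀ i, Z i ≤ Q := fun i => Subgroup.map_subtype_le _
  have hZsc : ∀ i, F.StronglyClosed (Z i) := by
    intro i
    refine ⟨(hZQ i).trans hQS, fun P hP φ hφ x => ?_⟩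
    obtain ⟨α, -, hα⟩ := (Cfsg.Agent.S5106.result p hS F hFs Q hQS).1 hQn P (hP.trans (hZQ i)) φ hφ
    rw [← hα x]
    obtain ⟨z, hz, hzx⟩ := hP x.2
    have hz' : Subgroup.inclusion (hP.trans (hZQ i)) x = z := Subtype.ext hzx.symm
    have hchar : (Subgroup.upperCentralSeries Q i).Characteristic := inferInstance
    have hfix := hchar.fixed α
    have : α z ∈ Subgroup.upperCentralSeries Q i := by
      have h1 : z ∈ (Subgroup.upperCentralSeries Q i).comap α.toMonoidHom := by
        rw [hfix]; exact hz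
      exact h1
    rw [hz']
    exact ⟨α z, this, rfl⟩
  obtain ⟨n, hn⟩ := (hQp.isNilpotent).nilpotent
  have hZn : Z n = Q := by
    show (Subgroup.upperCentralSeries Q n).map Q.subtype = Q
    rw [hn, ← MonoidHom.range_eq_map, Subgroup.range_subtype]
  set R : Subgroup Ω := T ⊓ Q with hR
  have hRT : R ≤ T := inf_le_left
  have hRQ : R ≤ Q := inf_le_right
  haveI hfinR : Finite R := finite_of_le S (hRT.trans hTS)
  -- subgroups strongly closed in `F` and intersected with `T` are strongly closed in `E`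
  have hsc_inf : ∀ V : Subgroup Ω, F.StronglyClosed V → E.StronglyClosed (T ⊓ V) := by
    intro V hV
    refine ⟨inf_le_left, fun P hP φ hφ x => ⟨(E.le_of_mem hφ).2 x, ?_⟩⟩
    exact hV.2 P (hP.trans inf_le_right) φ (hEsub P hφ) x
  -- `R` is normal in `E`
  have hRn : E.IsNormal R := by
    refine isNormal_of_series hTp hEs (fun i => T ⊓ Z i) n ?_ ?_ ?_ ?_ ?_
    · show T ⊓ Z 0 = ⊥
      have : Z 0 = ⊥ := by
        show (Subgroup.upperCentralSeries Q 0).map Q.subtype = ⊥
        rw [Subgroup.upperCentralSeries_zero, Subgroup.map_bot]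
      rw [this, inf_bot_eq]
    · show T ⊓ Z n = R
      rw [hZn]
    · intro i _
      exact inf_le_inf_left T
        (Subgroup.map_mono (Subgroup.upperCentralSeries_mono Q (Nat.le_succ i)))
    · intro i _
      exact hsc_inf _ (hZsc i)
    · intro i _
      apply le_inf
      · rw [Subgroup.commutator_le]
        intro a ha b hb
        exact T.mul_mem (T.mul_mem (T.mul_mem (hRT ha) hb.1) (T.inv_mem (hRT ha))) (T.inv_mem hb.1)
      · exact (Subgroup.commutator_mono hRQ inf_le_right).trans (comm_upperCentralSeries_le Q i)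
  -- `R` is centric in `E`
  have hRsc : F.StronglyClosed R := by
    refine ⟨hRT.trans hTS, fun P hP φ hφ x => ⟨hTsc.2 P (hP.trans hRT) φ hφ x,
      hQsc.2 P (hP.trans hRQ) φ hφ x⟩⟩
  have hCR : centralizerIn T R ≤ R := by
    intro x hx
    have hxT : x ∈ T := hx.1
    have hxS : x ∈ S := hTS hxT
    have hxc : x ∈ Subgroup.centralizer (R : Set Ω) := hx.2
    refine ⟨hxT, ?_⟩
    have hinv : ∀ γ ∈ F.autGroup Q, ∀ y : Q, (y : Ω) ∈ R → ((γ y : Q) : Ω) ∈ R := by
      intro γ hγ y hy
      have h1 := (mem_autGroup_iff F hQS γ).1 hγ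
      have h2 := hRsc.2 R le_rfl _ (restrict_mem F h1 hRQ) ⟨y, hy⟩
      exact h2
    refine mem_core_of_normal_pSubgroup hS hFs hQn hQc (stabChain F Q R)
      (stabChain_isPGroup F hRQ (hS.to_le (hRT.trans hTS)))
      (stabChain_normal F hRQ hinv) hxS ?_
    intro α hα
    refine ⟨?_, fun y => ?_, fun y hy => ?_⟩
    · apply autInducedBy_le_autGroup F hQS
      rw [mem_autInducedBy_iff]
      exact ⟨x, hxS, hα⟩
    · rw [hα y]
      refine ⟨?_, ?_⟩
      · have h1 : (y : Ω)⁻¹ * x * (y : Ω) ∈ T := by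
          have := stronglyClosed_conj_mem hTsc (S.inv_mem (hQS y.2)) hxT
          simpa using this
        have e : (y : Ω)⁻¹ * (x * y * x⁻¹) = ((y : Ω)⁻¹ * x * y) * x⁻¹ := by group
        rw [e]
        exact T.mul_mem h1 (T.inv_mem hxT)
      · have h1 : x * (y : Ω) * x⁻¹ ∈ Q := stronglyClosed_conj_mem hQsc hxS y.2
        exact Q.mul_mem (Q.inv_mem y.2) h1
    · apply Subtype.ext
      rw [hα y]
      have := Subgroup.mem_centralizer_iff.1 hxc y hy
      rw [← this]
      group
  refine ⟨hEs, R, hRn, hRT, fun R' hR' => ?_⟩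
  have hRsE := isNormal_stronglyClosed hRn
  obtain ⟨f, hf⟩ := (isConj_iff E).1 hR'
  have h1 := stronglyClosed_isIso_self hRsE hf le_rfl
  have h2 : R' = R := (IsIso.target_eq hf h1 (fun _ _ => rfl))
  rw [h2]
  exact hCR

end

theorem aux {Ω : Type*} [Group Ω] {T S : Subgroup Ω} {E : FusionSystem T} {F : FusionSystem S}
    {p : ℕ} (hE : E.IsSubnormalIn F p) :
    ∀ [Fact p.Prime] [Finite S], IsPGroup p S → F.IsConstrained p → E.IsConstrained p := by
  induction hE with
  | refl F p => intro _ _ _ hF; exact hF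
  | step hED hDF ih =>
    intro _ _ hS hF
    have hUS := hDF.1.2.2.2.1.1
    have := finite_of_le _ hUS
    exact ih (hS.to_le hUS) (constrained_of_normalIn hS hF hDF)

/-- Let F be a constrained saturated fusion system over a finite p-group S. Then every subsystem of F that is subnormal in F (reached from F by a finite chain of successive normal subsystems) is constrained. -/
theorem result {Ω : Type*} [Group Ω] {S : Subgroup Ω} [Finite S] (p : ℕ) [Fact p.Prime] (hS : IsPGroup p S) (F : Cfsg.FusionSystem S) (hF : F.IsConstrained p) {T : Subgroup Ω} (E : Cfsg.FusionSystem T) (hE : E.IsSubnormalIn F p) : E.IsConstrained p := by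
  exact aux hE hS hF

end Cfsg.Agent.S5342
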