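import Cfsg.Statements.S5115
import Cfsg.Agent.Lib.H25.RealizedNormal
import Cfsg.Agent.Lib.H25.MorphismIso
import Cfsg.Agent.S5342
import Cfsg.Agent.S5083

set_option autoImplicit false
open Cfsg

namespace Cfsg.Agent.S5115

open Cfsg.FusionSystem Cfsg.Agent.Lib.H25 Cfsg.Agent.Lib.H26 Cfsg.Agent.Lib.H26.Model

section

variable {Ω : Type*} [Group Ω]

/-- Constrainedness only depends on the map sets. -/
theorem constrained_congr {p : ℕ} {T T' : Subgroup Ω} (h : T = T') (E : FusionSystem T)
    (E' : FusionSystem T') (hHom : ∀ P, E.Hom P = E'.Hom P) (hE : E.IsConstrained p) :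
    E'.IsConstrained p := by
  subst h
  have : E = E' := Cfsg.Agent.S5083.fusionSystem_ext hHom
  rw [← this]
  exact hE

/-- A constrained system realized by a finite group `G₁` on a Sylow subgroup: the fusion system
of `G₁` on the image is constrained. -/
theorem constrained_group_of_realized {p : ℕ} [Fact p.Prime] {T : Subgroup Ω} [Finite T]
    {F : FusionSystem T} {G₁ : Type*} [Group G₁] [Finite G₁] {ι : T →* G₁}
    (hreal : F.IsRealizedBy ι) (R : Sylow p G₁) (hR : (R : Subgroup G₁) = ι.range)
    (hF : F.IsConstrained p) : (groupFusionSystem ι.range).IsConstrained p := by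
  obtain ⟨-, Q, hQn, hQc⟩ := hF
  have hsm := Cfsg.Agent.S5103.isSurjectiveMorphism_back F ι hreal
  have hinj : Function.Injective (Cfsg.Agent.S5103.back ι hreal.1) := by
    intro a b hab
    have h1 : ((MonoidHom.ofInjective hreal.1).symm a : T) = (MonoidHom.ofInjective hreal.1).symm b :=
      Subtype.ext hab
    exact (MonoidHom.ofInjective hreal.1).symm.injective h1
  have hsat : (groupFusionSystem ι.range).IsSaturated p := by
    rw [← hR]
    exact groupFusionSystem_isSaturated R
  exact ⟨hsat, _, pre_isNormal_of_injective hsm hinj hQn, pre_isCentric_of_injective hsm hinj hQc⟩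

end

section

variable {G : Type*} [Group G] [Finite G] {p : ℕ} [Fact p.Prime]

/-- The induction along a subnormal chain, inside `G`. -/
theorem subnormal_aux (S : Sylow p G)
    (hF : (groupFusionSystem (S : Subgroup G)).IsConstrained p) {H : Subgroup G}
    (hH : H.IsSubnormal) :
    IsSylowIn p (S : Subgroup G) H ∧
      (fusionSystemOfSubgroup H ((S : Subgroup G) ⊓ H) inf_le_right).IsConstrained p := by
  induction hH with
  | top =>
    refine ⟨sylow_isSylowIn_top S, ?_⟩
    refine constrained_congr (inf_top_eq _).symm _ _ (fun P => ?_) hF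
    ext φ
    constructor
    · rintro ⟨h1, h2, g, hg⟩
      exact ⟨by rw [inf_top_eq]; exact h1, fun x => by rw [inf_top_eq]; exact h2 x, g,
        Subgroup.mem_top g, hg⟩
    · rintro ⟨h1, h2, g, -, hg⟩
      rw [inf_top_eq] at h1 h2
      exact ⟨h1, h2, g, hg⟩
  | step H K hHK hK hN ih =>
    obtain ⟨hsylK, hconK⟩ := ih
    have hKnorm : K ≤ Subgroup.normalizer (H : Set G) :=
      Subgroup.normal_subgroupOf_iff_le_normalizer hHK |>.1 hN
    have hsylH : IsSylowIn p (S : Subgroup G) H := hsylK.of_normal hHK hKnorm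
    refine ⟨hsylH, ?_⟩
    -- the system of `K` is realized by the inclusion into `K`
    set TK : Subgroup G := (S : Subgroup G) ⊓ K with hTK
    have hTKK : TK ≤ K := inf_le_right
    have : Finite TK := Finite.of_injective (fun x : TK => (x : G)) Subtype.val_injective
    have hTKp : IsPGroup p TK := S.2.to_le inf_le_left
    set ι : TK →* K := Subgroup.inclusion hTKK with hι
    have hreal : (fusionSystemOfSubgroup K TK hTKK).IsRealizedBy ι := by
      refine ⟨Subgroup.inclusion_injective hTKK, fun P hP φ hφ => ?_⟩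
      constructor
      · rintro ⟨_, _, g, hgK, hg⟩
        exact ⟨⟨g, hgK⟩, fun x => Subtype.ext (hg x)⟩
      · rintro ⟨g, hg⟩
        exact ⟨hP, hφ, g.1, g.2, fun x => congrArg Subtype.val (hg x)⟩
    obtain ⟨RK, hRK⟩ := (isSylowIn_inf_iff.2 hsylK : IsSylowIn p TK K)
    have hRKr : (RK : Subgroup K) = ι.range := by
      rw [hRK]
      ext ⟨y, hy⟩
      rw [Subgroup.mem_subgroupOf]
      constructor
      · intro h
        exact ⟨⟨y, h⟩, rfl⟩
      · rintro ⟨t, ht⟩
        have e : (t : G) = y := congrArg Subtype.val ht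
        show y ∈ TK
        rw [← e]
        exact t.2
    have : (H.subgroupOf K).Normal := hN
    have hnormal := realizedSub_isNormalIn hreal (H.subgroupOf K) hconK.1 RK hRKr
    have hcon := Cfsg.Agent.S5342.constrained_of_normalIn hTKp hconK hnormal
    have hpre : preSub ι (H.subgroupOf K) = (S : Subgroup G) ⊓ H := by
      ext x
      rw [mem_preSub]
      constructor
      · rintro ⟨hx, h⟩
        exact ⟨hx.1, h⟩
      · rintro ⟨h1, h2⟩
        exact ⟨⟨h1, hHK h2⟩, h2⟩
    refine constrained_congr hpre _ _ (fun P => ?_) hcon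
    ext φ
    constructor
    · rintro ⟨hP, hφ, n, hn, h⟩
      refine ⟨by rw [← hpre]; exact hP, fun x => by rw [← hpre]; exact hφ x, n.1, hn, fun x => ?_⟩
      exact congrArg Subtype.val (h x)
    · rintro ⟨hP, hφ, g, hg, h⟩
      rw [← hpre] at hP hφ
      exact ⟨hP, hφ, ⟨g, hHK hg⟩, hg, fun x => Subtype.ext (h x)⟩

end

/-- If the 2-fusion system of a finite group G on a Sylow 2-subgroup S is constrained, then for every subnormal subgroup H of G the 2-fusion system of H on S ∩ H is constrained. -/
theorem result {G : Type*} [Group G] [Finite G] (S : Sylow 2 G) (hF : (Cfsg.groupFusionSystem (S : Subgroup G)).IsConstrained 2) (H : Subgroup G) (hH : H.IsSubnormal) : (Cfsg.groupFusionSystem ((S : Subgroup G).subgroupOf H)).IsConstrained 2 := by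
  have : Fact (Nat.Prime 2) := ⟨Nat.prime_two⟩
  obtain ⟨hsyl, hcon⟩ := subnormal_aux S hF hH
  set TH : Subgroup G := (S : Subgroup G) ⊓ H with hTH
  have hTHH : TH ≤ H := inf_le_right
  have : Finite TH := Finite.of_injective (fun x : TH => (x : G)) Subtype.val_injective
  set ι : TH →* H := Subgroup.inclusion hTHH with hι
  have hreal : (fusionSystemOfSubgroup H TH hTHH).IsRealizedBy ι := by
    refine ⟨Subgroup.inclusion_injective hTHH, fun P hP φ hφ => ?_⟩
    constructor
    · rintro ⟨_, _, g, hgK, hg⟩
      exact ⟨⟨g, hgK⟩, fun x => Subtype.ext (hg x)⟩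
    · rintro ⟨g, hg⟩
      exact ⟨hP, hφ, g.1, g.2, fun x => congrArg Subtype.val (hg x)⟩
  obtain ⟨RH, hRH⟩ := hsyl
  have hrange : ι.range = (S : Subgroup G).subgroupOf H := by
    ext ⟨y, hy⟩
    rw [Subgroup.mem_subgroupOf]
    constructor
    · rintro ⟨t, ht⟩
      have e : (t : G) = y := congrArg Subtype.val ht
      show y ∈ (S : Subgroup G)
      rw [← e]
      exact t.2.1
    · intro h
      exact ⟨⟨y, ⟨h, hy⟩⟩, rfl⟩
  have hRHr : (RH : Subgroup H) = ι.range := by rw [hRH, hrange]
  have := constrained_group_of_realized hreal RH hRHr hcon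
  rw [hrange] at this
  exact this

end Cfsg.Agent.S5115
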