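import Cfsg.Statements.S5125
import Cfsg.Agent.Lib.H25.NormalSeries

set_option autoImplicit false
open Cfsg

namespace Cfsg.Agent.S5125

open Cfsg.FusionSystem Cfsg.Agent.Lib.H25
open scoped commutatorElement

/-- Let F be a saturated fusion system over a finite p-group S and Q a subgroup strongly closed in F. If Q has a subgroup Q₁ that is normal in F, with Q/Q₁ abelian and Aut_F(Q₁) a p-group, then Q is normal in F. -/
theorem result {Ω : Type*} [Group Ω] {S : Subgroup Ω} [Finite S] (p : ℕ) [Fact p.Prime] (hS : IsPGroup p S) (F : Cfsg.FusionSystem S) (hF : F.IsSaturated p) (Q Q₁ : Subgroup Ω) (hQ : F.StronglyClosed Q) (hQ₁Q : Q₁ ≤ Q) (hQ₁ : F.IsNormal Q₁) (hab : ⁅Q, Q⁆ ≤ Q₁) (hAut : IsPGroup p ↥(F.autGroup Q₁)) : F.IsNormal Q := by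
  have hQS : Q ≤ S := hQ.1
  have hQn := stronglyClosed_le_normalizer hQ
  have hQ₁sc := isNormal_stronglyClosed hQ₁
  apply isNormal_of_stronglyClosed_of_le hS hF hQ
  intro T hT
  have hc := hT.1
  have hr := Cfsg.Agent.S5080.result p hS F hF T hT
  have hTS := hc.1
  have hfinT : Finite T := finite_of_le S hTS
  have hTp : IsPGroup p T := hS.to_le hTS
  have hQ₁T : Q₁ ≤ T := isNormal_le_of_centric_radical hS hQ₁ hc hr
  let V : ℕ → Subgroup Ω := fun i => if i = 0 then Q₁ else if i = 1 then Q else S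
  have hV0 : V 0 = Q₁ := rfl
  have hV1 : V 1 = Q := rfl
  have hV2 : V 2 = S := rfl
  have hVsc : ∀ i, F.StronglyClosed (V i) := by
    intro i
    show F.StronglyClosed (if i = 0 then Q₁ else if i = 1 then Q else S)
    split_ifs
    · exact hQ₁sc
    · exact hQ
    · exact stronglyClosed_self F
  let W : ℕ → Subgroup T := fun i => (V i).subgroupOf T
  have hinv : ∀ α ∈ F.autGroup T, ∀ i, ∀ x ∈ W i, α x ∈ W i := by
    intro α hα i x hx
    exact Subgroup.mem_subgroupOf.2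
      (stronglyClosed_aut_mem' (hVsc i) hTS hα x (Subgroup.mem_subgroupOf.1 hx))
  have hWm : W 2 = ⊤ := Subgroup.subgroupOf_eq_top.2 hTS
  have hWmono : ∀ i < 2, W i ≤ W (i + 1) := by
    intro i hi x hx
    rw [Subgroup.mem_subgroupOf] at hx ⊢
    interval_cases i
    · exact hQ₁Q hx
    · exact hTS x.2
  have hBp : IsPGroup p (stabSub (F.autGroup T) W 2 hinv) := by
    rintro ⟨β, hβ⟩
    have hβA : β ∈ F.autGroup T := hβ.1
    -- the restriction of `β` to `Q₁`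
    have hb := isIso_of_mem_autGroup F hTS hβA
    have hb₁ := stronglyClosed_isIso_self hQ₁sc hb hQ₁T
    obtain ⟨β₁, hβ₁A, hβ₁⟩ := exists_mem_autGroup_of_isIso F hb₁
    obtain ⟨k, hk⟩ := hAut ⟨β₁, hβ₁A⟩
    have hk' : β₁ ^ (p ^ k) = 1 := by
      have := congrArg Subtype.val hk
      simpa using this
    have hpow : ∀ j : ℕ, ∀ x : Q₁, (((β₁ ^ j) x : Q₁) : Ω) = (((β ^ j) ⟨x, hQ₁T x.2⟩ : T) : Ω) := by
      intro j
      induction j with
      | zero => intro x; simp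
      | succ j ih =>
        intro x
        rw [pow_succ', pow_succ', MulAut.mul_apply, MulAut.mul_apply, hβ₁,
          ext1_apply_mem _ (hQ₁T ((β₁ ^ j) x).2)]
        have : (⟨(((β₁ ^ j) x : Q₁) : Ω), hQ₁T ((β₁ ^ j) x).2⟩ : T) = (β ^ j) ⟨x, hQ₁T x.2⟩ :=
          Subtype.ext (ih x)
        show ((β ⟨(((β₁ ^ j) x : Q₁) : Ω), _⟩ : T) : Ω) = _
        rw [this]
    obtain ⟨k', hk''⟩ := stab_pow_eq_one hTp (F.autGroup T) W 2 hinv hWmono hWm hβ ⟨k, fun x hx => by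
      have hx' : (x : Ω) ∈ Q₁ := Subgroup.mem_subgroupOf.1 hx
      have := hpow (p ^ k) ⟨x, hx'⟩
      rw [hk'] at this
      exact Subtype.ext this.symm⟩
    exact ⟨k', Subtype.ext hk''⟩
  refine le_of_centric_radical_of_normalizer hS hQS hQn hc hr
    (stabSub (F.autGroup T) W 2 hinv) (stabSub_le _ _ _ _)
    (fun α hα β hβ => stabSub_conj_mem _ _ _ _ hα hβ) hBp ?_
  intro g hgQ hgN
  have hgNS : g ∈ normalizerIn S T := ⟨hQS hgQ, hgN⟩
  obtain ⟨β, hβA, hβg⟩ := exists_mem_autGroup_of_isIso F (isIso_conj_normalizer F hTS hgNS)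
  refine ⟨β, ⟨hβA, fun i hi x hx => ?_⟩, hβg⟩
  rw [Subgroup.mem_subgroupOf] at hx ⊢
  have hval : ((x⁻¹ * β x : T) : Ω) = (x : Ω)⁻¹ * (g * (x : Ω) * g⁻¹) := by
    rw [Subgroup.coe_mul, Subgroup.coe_inv, hβg]
  rw [hval]
  interval_cases i
  · apply hab
    have hx' : (x : Ω)⁻¹ ∈ Q := Subgroup.inv_mem _ hx
    have h4 : ⁅g, (x : Ω)⁻¹⁆ ∈ ⁅Q, Q⁆ := Subgroup.commutator_mem_commutator hgQ hx'
    have h5 := Subgroup.inv_mem _ h4
    have h6 : (⁅g, (x : Ω)⁻¹⁆)⁻¹ = (x : Ω)⁻¹ * (g * (x : Ω) * g⁻¹) := by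
      rw [commutatorElement_def]; group
    rwa [h6] at h5
  · have hxS : (x : Ω) ∈ S := hTS x.2
    have h1 : (x : Ω)⁻¹ * g * ((x : Ω)⁻¹)⁻¹ ∈ Q :=
      (Subgroup.mem_normalizer_iff.1 (hQn (S.inv_mem hxS)) g).1 hgQ
    have h2 : (x : Ω)⁻¹ * (g * (x : Ω) * g⁻¹) = ((x : Ω)⁻¹ * g * ((x : Ω)⁻¹)⁻¹) * g⁻¹ := by group
    rw [h2]
    exact Q.mul_mem h1 (Q.inv_mem hgQ)

end Cfsg.Agent.S5125
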