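import Cfsg.Statements.S5128
import Cfsg.Agent.Lib.H25.ExtMod

set_option autoImplicit false
open Cfsg

namespace Cfsg.Agent.S5128

open Cfsg.FusionSystem Cfsg.Agent.Lib.H25
open scoped Pointwise

/-- In a saturated fusion system over a finite p-group S, the product of two strongly closed subgroups is strongly closed. -/
theorem result {Ω : Type*} [Group Ω] {S : Subgroup Ω} [Finite S] (p : ℕ) [Fact p.Prime] (hS : IsPGroup p S) (F : Cfsg.FusionSystem S) (hF : F.IsSaturated p) (T₁ T₂ : Subgroup Ω) (h₁ : F.StronglyClosed T₁) (h₂ : F.StronglyClosed T₂) : F.StronglyClosed (T₁ ⊔ T₂) := by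
  refine ⟨sup_le h₁.1 h₂.1, fun R hR φ hφ x => ?_⟩
  obtain ⟨g, R', hg, hgf⟩ := exists_extMod hS hF h₁ (isIso_of_mem F hφ)
  have hmul : (↑(T₁ ⊔ T₂) : Set Ω) = (T₁ : Set Ω) * (T₂ : Set Ω) :=
    Subgroup.coe_mul_of_left_le_normalizer_right T₁ T₂
      (h₁.1.trans (stronglyClosed_le_normalizer h₂))
  have hx : (x : Ω) ∈ (↑(T₁ ⊔ T₂) : Set Ω) := hR x.2
  rw [hmul] at hx
  obtain ⟨t₁, ht₁, t₂, ht₂, hxt⟩ := hx
  have ht₁' : t₁ ∈ R ⊔ T₁ := (le_sup_right : T₁ ≤ R ⊔ T₁) ht₁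
  have ht₂' : t₂ ∈ R ⊔ T₁ := by
    have e : t₂ = t₁⁻¹ * (x : Ω) := by rw [← hxt]; group
    rw [e]
    exact Subgroup.mul_mem _ (Subgroup.inv_mem _ ht₁') ((le_sup_left : R ≤ R ⊔ T₁) x.2)
  have hg1 : g t₁ ∈ T₁ := (stronglyClosed_isIso_self h₁ hg le_sup_right).map_mem ht₁
  have hg2 : g t₂ ∈ T₂ := by
    obtain ⟨Q', -, hQ', -⟩ := hg.restrict (inf_le_left : (R ⊔ T₁) ⊓ T₂ ≤ R ⊔ T₁)
    exact stronglyClosed_map_mem h₂ hQ' inf_le_right ⟨ht₂', ht₂⟩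
  have hgx : g (x : Ω) ∈ T₁ ⊔ T₂ := by
    have hxt' : (x : Ω) = t₁ * t₂ := hxt.symm
    rw [hxt', hg.map_mul ht₁' ht₂']
    exact Subgroup.mul_mem _ ((le_sup_left : T₁ ≤ T₁ ⊔ T₂) hg1) ((le_sup_right : T₂ ≤ T₁ ⊔ T₂) hg2)
  have h3 := hgf x x.2
  rw [ext1_apply] at h3
  have e : φ x = g (x : Ω) * ((φ x)⁻¹ * g (x : Ω))⁻¹ := by group
  rw [e]
  exact Subgroup.mul_mem _ hgx ((le_sup_left : T₁ ≤ T₁ ⊔ T₂) (T₁.inv_mem h3))

end Cfsg.Agent.S5128
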