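import Cfsg.Statements.S5130
import Cfsg.Agent.Lib.H25.StrongRestrict
import Cfsg.Agent.Lib.H25.KNormSpecial
import Cfsg.Agent.S5097
import Cfsg.Agent.S5119

set_option autoImplicit false
open Cfsg

namespace Cfsg.Agent.S5130

open Cfsg.Agent.Lib.H25 Cfsg.FusionSystem

variable {Ω : Type*} [Group Ω] {S : Subgroup Ω}

/-- Elements of an internal direct product are products. -/
theorem decomp {S₁ S₂ S : Subgroup Ω} (h : IsInternalDirectProduct S₁ S₂ S) :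
    ∀ s ∈ S, ∃ a ∈ S₁, ∃ b ∈ S₂, s = a * b := by
  obtain ⟨-, -, hc, -, hs⟩ := h
  let T : Subgroup Ω :=
    { carrier := {s | ∃ a ∈ S₁, ∃ b ∈ S₂, s = a * b}
      one_mem' := ⟨1, S₁.one_mem, 1, S₂.one_mem, by simp⟩
      mul_mem' := by
        rintro _ _ ⟨a, ha, b, hb, rfl⟩ ⟨a', ha', b', hb', rfl⟩
        refine ⟨a * a', S₁.mul_mem ha ha', b * b', S₂.mul_mem hb hb', ?_⟩
        calc a * b * (a' * b') = a * (b * a') * b' := by group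
          _ = a * (a' * b) * b' := by rw [hc a' ha' b hb]
          _ = a * a' * (b * b') := by group
      inv_mem' := by
        rintro _ ⟨a, ha, b, hb, rfl⟩
        refine ⟨a⁻¹, S₁.inv_mem ha, b⁻¹, S₂.inv_mem hb, ?_⟩
        rw [mul_inv_rev, hc a⁻¹ (S₁.inv_mem ha) b⁻¹ (S₂.inv_mem hb)] }
  have hle : S₁ ⊔ S₂ ≤ T :=
    sup_le (fun a ha => ⟨a, ha, 1, S₂.one_mem, by simp⟩) (fun b hb => ⟨1, S₁.one_mem, b, hb, by simp⟩)
  intro s hs'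
  rw [← hs] at hs'
  exact hle hs'

/-- Isomorphisms of the full subsystem over `S₁`. -/
theorem R_isIso_iff {F : FusionSystem S} {S₁ : Subgroup Ω} (R : FusionSystem S₁)
    (hR : ∀ P : Subgroup Ω, P ≤ S₁ → R.Hom P = F.Hom P) {P P₁ : Subgroup Ω} {f : Ω → Ω}
    (hP : P ≤ S₁) : IsIso R P P₁ f ↔ IsIso F P P₁ f := by
  unfold IsIso
  rw [hR P hP]

/-- Introduction of isomorphisms of `R' = C_F(S₂)|_{S₁}`. -/
theorem R'_isIso_intro {F : FusionSystem S} {S₁ S₂ : Subgroup Ω} (h₁ : F.StronglyClosed S₁)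
    (hS₁C : S₁ ≤ centralizerIn S S₂) (R' : FusionSystem S₁)
    (hR' : ∀ P : Subgroup Ω, P ≤ S₁ → R'.Hom P = F.centralizerHom S₂ P)
    {P P₁ N : Subgroup Ω} {f f' : Ω → Ω} (hP : P ≤ S₁) (hf : IsIso F P P₁ f)
    (hf' : IsIso F (P ⊔ S₂) N f') (hv : ∀ x ∈ P, f' x = f x) (hz : ∀ z ∈ S₂, f' z = z) :
    IsIso R' P P₁ f := by
  obtain ⟨φ, hφ, hφf, hr⟩ := hf
  obtain ⟨ψ, hψ, hψf, -⟩ := hf'
  refine ⟨φ, ?_, hφf, hr⟩
  rw [hR' P hP]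
  refine ⟨hφ, hP.trans hS₁C, fun x => hS₁C (h₁.2 P hP φ hφ x), ψ, hψ, fun x => ?_, fun z => ?_⟩
  · rw [hψf, hφf]
    exact hv x x.2
  · rw [hψf]
    exact hz z z.2

/-- Elimination of isomorphisms of `R' = C_F(S₂)|_{S₁}`. -/
theorem R'_isIso_elim {F : FusionSystem S} {S₁ S₂ : Subgroup Ω} (hS₂S : S₂ ≤ S)
    (R' : FusionSystem S₁)
    (hR' : ∀ P : Subgroup Ω, P ≤ S₁ → R'.Hom P = F.centralizerHom S₂ P)
    {P P₁ : Subgroup Ω} {f : Ω → Ω} (hP : P ≤ S₁) (hf : IsIso R' P P₁ f) :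
    IsIso F P P₁ f ∧ ∃ f' : Ω → Ω, IsIso F (P ⊔ S₂) (P₁ ⊔ S₂) f' ∧ (∀ x ∈ P, f' x = f x) ∧
      ∀ z ∈ S₂, f' z = z := by
  obtain ⟨φ, hφ, hφf, hr⟩ := hf
  rw [hR' P hP] at hφ
  obtain ⟨hφF, -, -, ψ, hψ, hψP, hψZ⟩ := hφ
  have hiF : IsIso F P P₁ f := ⟨φ, hφF, hφf, hr⟩
  have hi := isIso_of_mem F hψ
  have hvP : ∀ x ∈ P, ext1 ψ x = f x := by
    intro x hx
    rw [ext1_apply_mem ψ ((le_sup_left : P ≤ P ⊔ S₂) hx), ← hφf ⟨x, hx⟩]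
    exact hψP ⟨x, hx⟩
  have hvZ : ∀ z ∈ S₂, ext1 ψ z = z := by
    intro z hz
    rw [ext1_apply_mem ψ ((le_sup_right : S₂ ≤ P ⊔ S₂) hz)]
    exact hψZ ⟨z, hz⟩
  have hiP : IsIso F P P₁ (ext1 ψ) := hiF.congr (fun x hx => (hvP x hx).symm)
  have hiZ : IsIso F S₂ S₂ (ext1 ψ) :=
    (IsIso.refl hS₂S).congr (fun z hz => (hvZ z hz).symm)
  have hrange : ψ.range = P₁ ⊔ S₂ := hi.image_sup hiP hiZ
  rw [hrange] at hi
  exact ⟨hiF, ext1 ψ, hi, hvP, hvZ⟩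

/-- Strong invariance of `R'` in `F`, function-level. -/
theorem si_R'F [Finite S] {p : ℕ} [Fact p.Prime] (hS : IsPGroup p S) {F : FusionSystem S}
    (hF : F.IsSaturated p) {S₁ S₂ : Subgroup Ω} (h₁ : F.StronglyClosed S₁)
    (h₂ : F.StronglyClosed S₂) (hS₁C : S₁ ≤ centralizerIn S S₂)
    (hS₂C : ∀ {X : Subgroup Ω}, X ≤ S₁ → S₂ ≤ centralizerIn S X)
    (R' : FusionSystem S₁)
    (hR' : ∀ P : Subgroup Ω, P ≤ S₁ → R'.Hom P = F.centralizerHom S₂ P)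
    {P P₁ Q Q' : Subgroup Ω} {f g : Ω → Ω} (hPQ : P ≤ Q) (hP₁Q : P₁ ≤ Q) (hQS₁ : Q ≤ S₁)
    (hf : IsIso R' P P₁ f) (hg : IsIso F Q Q' g) :
    ∃ (χ : Ω → Ω) (R R₁ : Subgroup Ω), IsIso R' R R₁ χ ∧
      (∀ y, y ∈ R ↔ ∃ x ∈ P, g x = y) ∧ ∀ x ∈ P, χ (g x) = g (f x) := by
  have hS₂S : S₂ ≤ S := h₂.1
  obtain ⟨hfF, f', hf', hf'P, hf'Z⟩ := R'_isIso_elim hS₂S R' hR' (hPQ.trans hQS₁) hf
  have hQ'S₁ : Q' ≤ S₁ := stronglyClosed_image_le h₁ hg hQS₁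
  obtain ⟨g', hg', hg'Q, hg'Z⟩ := exists_extension_over hS hF h₂ hg (hS₂C hQS₁) (hS₂C hQ'S₁)
  obtain ⟨N, -, hgN, hNmem⟩ := hg'.restrict (sup_le_sup_right hPQ S₂ : P ⊔ S₂ ≤ Q ⊔ S₂)
  obtain ⟨N₁, -, hgN₁, hN₁mem⟩ := hg'.restrict (sup_le_sup_right hP₁Q S₂ : P₁ ⊔ S₂ ≤ Q ⊔ S₂)
  obtain ⟨k, hk, hkg, hgk⟩ := hgN.symm
  have hχ : IsIso F N N₁ (g' ∘ (f' ∘ k)) := (hk.trans hf').trans hgN₁
  obtain ⟨R, hRQ', hgR, hRmem⟩ := hg.restrict hPQ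
  obtain ⟨R₁, -, hgR₁, hR₁mem⟩ := hg.restrict hP₁Q
  have hχP : ∀ x ∈ P, (g' ∘ (f' ∘ k)) (g x) = g (f x) := by
    intro x hx
    show g' (f' (k (g x))) = g (f x)
    rw [← hg'Q x (hPQ hx), hkg x ((le_sup_left : P ≤ P ⊔ S₂) hx), hf'P x hx]
    exact hg'Q _ (hP₁Q (hfF.map_mem hx))
  have hχZ : ∀ z ∈ S₂, (g' ∘ (f' ∘ k)) z = z := by
    intro z hz
    obtain ⟨w, hw, rfl⟩ := hg'Z.surjOn hz
    show g' (f' (k (g' w))) = g' w
    rw [hkg w ((le_sup_right : S₂ ≤ P ⊔ S₂) hw), hf'Z w hw]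
  have hRN : R ≤ N := by
    intro y hy
    obtain ⟨x, hx, rfl⟩ := (hRmem y).1 hy
    rw [← hg'Q x (hPQ hx)]
    exact hgN.map_mem ((le_sup_left : P ≤ P ⊔ S₂) hx)
  have hχR : IsIso F R R₁ (g' ∘ (f' ∘ k)) := by
    refine hχ.restrict' hRN (fun y hy => ?_) (fun y₁ hy₁ => ?_)
    · obtain ⟨x, hx, rfl⟩ := (hRmem y).1 hy
      rw [hχP x hx]
      exact hgR₁.map_mem (hfF.map_mem hx)
    · obtain ⟨x₁, hx₁, rfl⟩ := (hR₁mem y₁).1 hy₁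
      obtain ⟨x, hx, rfl⟩ := hfF.surjOn hx₁
      exact ⟨g x, hgR.map_mem hx, hχP x hx⟩
  have hgR' : IsIso F P R g' := hgR.congr (fun x hx => (hg'Q x (hPQ hx)).symm)
  have hNeq : N = R ⊔ S₂ := hgN.image_sup hgR' hg'Z
  rw [hNeq] at hχ
  refine ⟨g' ∘ (f' ∘ k), R, R₁,
    R'_isIso_intro h₁ hS₁C R' hR' (hRQ'.trans hQ'S₁) hχR hχ (fun _ _ => rfl) hχZ, hRmem, hχP⟩

/-- Strong invariance of the full subsystem `R` in `F`, function-level. -/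
theorem si_RF {F : FusionSystem S} {S₁ : Subgroup Ω} (h₁ : F.StronglyClosed S₁)
    (R : FusionSystem S₁) (hR : ∀ P : Subgroup Ω, P ≤ S₁ → R.Hom P = F.Hom P)
    {P P₁ Q Q' : Subgroup Ω} {f g : Ω → Ω} (hPQ : P ≤ Q) (hP₁Q : P₁ ≤ Q) (hQS₁ : Q ≤ S₁)
    (hf : IsIso R P P₁ f) (hg : IsIso F Q Q' g) :
    ∃ (χ : Ω → Ω) (R₀ R₁ : Subgroup Ω), IsIso R R₀ R₁ χ ∧
      (∀ y, y ∈ R₀ ↔ ∃ x ∈ P, g x = y) ∧ ∀ x ∈ P, χ (g x) = g (f x) := by
  have hfF : IsIso F P P₁ f := (R_isIso_iff R hR (hPQ.trans hQS₁)).1 hf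
  have hQ'S₁ : Q' ≤ S₁ := stronglyClosed_image_le h₁ hg hQS₁
  obtain ⟨R₀, hR₀Q', hgR, hRmem⟩ := hg.restrict hPQ
  obtain ⟨R₁, -, hgR₁, -⟩ := hg.restrict hP₁Q
  obtain ⟨k, hk, hkg, -⟩ := hgR.symm
  have hχ : IsIso F R₀ R₁ (g ∘ (f ∘ k)) := (hk.trans hfF).trans hgR₁
  refine ⟨g ∘ (f ∘ k), R₀, R₁, (R_isIso_iff R hR (hR₀Q'.trans hQ'S₁)).2 hχ, hRmem,
    fun x hx => ?_⟩
  show g (f (k (g x))) = g (f x)
  rw [hkg x hx]

/-- An automorphism of a group preserves centrality. -/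
theorem aut_mem_centralizer {T : Subgroup Ω} (α : MulAut T) {a : Ω} (ha : a ∈ T)
    (hac : a ∈ Subgroup.centralizer (T : Set Ω)) :
    ((α ⟨a, ha⟩ : T) : Ω) ∈ Subgroup.centralizer (T : Set Ω) := by
  rw [Subgroup.mem_centralizer_iff] at hac ⊢
  intro t ht
  have e : (⟨t, ht⟩ : T) = α (α⁻¹ ⟨t, ht⟩) := by simp
  have hcomm : (α⁻¹ ⟨t, ht⟩ : T) * ⟨a, ha⟩ = ⟨a, ha⟩ * (α⁻¹ ⟨t, ht⟩ : T) :=
    Subtype.ext (hac _ (α⁻¹ ⟨t, ht⟩).2)
  have h2 : α (α⁻¹ ⟨t, ht⟩) * α ⟨a, ha⟩ = α ⟨a, ha⟩ * α (α⁻¹ ⟨t, ht⟩) := by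
    rw [← map_mul, ← map_mul, hcomm]
  rw [← e] at h2
  exact congrArg Subtype.val h2

/-- Let F be a saturated fusion system over a finite p-group S that is the direct product of two subgroups S₁ and S₂, each strongly closed in F. Let R be the full subsystem of F over S₁ (all maps of F between subgroups of S₁) and R′ the subsystem over S₁ of those maps that extend to the subgroup generated with S₂ fixing S₂ elementwise. Then R and R′ are saturated, R′ is normal in F and in R, and R is weakly normal in F. -/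
theorem result {Ω : Type*} [Group Ω] {S : Subgroup Ω} [Finite S] (p : ℕ) [Fact p.Prime] (hS : IsPGroup p S) (F : Cfsg.FusionSystem S) (hF : F.IsSaturated p) (S₁ S₂ : Subgroup Ω) (hprod : Cfsg.IsInternalDirectProduct S₁ S₂ S) (h₁ : F.StronglyClosed S₁) (h₂ : F.StronglyClosed S₂) (R R' : Cfsg.FusionSystem S₁) (hR : ∀ P : Subgroup Ω, P ≤ S₁ → R.Hom P = F.Hom P) (hR' : ∀ P : Subgroup Ω, P ≤ S₁ → R'.Hom P = F.centralizerHom S₂ P) : R.IsSaturated p ∧ R'.IsSaturated p ∧ R'.IsNormalIn F p ∧ R'.IsNormalIn R p ∧ R.IsWeaklyNormalIn F p := by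
  have hprod' := hprod
  obtain ⟨hS₁S, hS₂S, hcomm, hinf, hsup⟩ := hprod'
  have hdec := decomp hprod
  have hfinS₁ : Finite S₁ := finite_of_le S hS₁S
  have hpS₁ : IsPGroup p S₁ := hS.to_le hS₁S
  have hS₁C : S₁ ≤ centralizerIn S S₂ := by
    intro a ha
    refine ⟨hS₁S ha, ?_⟩
    show a ∈ Subgroup.centralizer (S₂ : Set Ω)
    rw [Subgroup.mem_centralizer_iff]
    intro b hb
    exact (hcomm a ha b hb).symm
  have hS₂C : ∀ {X : Subgroup Ω}, X ≤ S₁ → S₂ ≤ centralizerIn S X := by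
    intro X hX b hb
    refine ⟨hS₂S hb, ?_⟩
    show b ∈ Subgroup.centralizer (X : Set Ω)
    rw [Subgroup.mem_centralizer_iff]
    intro a ha
    exact hcomm a (hX ha) b hb
  -- `R` is saturated
  have hRsat : R.IsSaturated p := by
    refine restrict_isSaturated hF h₁ (fun s hs => ?_) R hR
    obtain ⟨a, ha, b, hb, rfl⟩ := hdec s hs
    exact ⟨a, ha, b, hS₂S hb, fun t ht => (hcomm t ht b hb).symm, rfl⟩
  -- `R'` is saturated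
  obtain ⟨C, hC⟩ := Cfsg.Agent.S5097.result F S₂ hS₂S
  have hfc : F.IsFullyCentralized S₂ := by
    refine ⟨hS₂S, fun Q hQ => ?_⟩
    obtain ⟨f, hf⟩ := (isConj_iff F).1 hQ
    have hf' : IsIso F S₂ S₂ f := stronglyClosed_isIso_self h₂ hf le_rfl
    have hQe : Q = S₂ := by
      ext y
      constructor
      · intro hy
        obtain ⟨x, hx, rfl⟩ := hf.surjOn hy
        exact hf'.map_mem hx
      · intro hy
        obtain ⟨x, hx, rfl⟩ := hf'.surjOn hy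
        exact hf.map_mem hx
    rw [hQe]
  have hCsat : C.IsSaturated p := centralizerSystem_isSaturated hS hF hfc C hC
  have hfinC : Finite (centralizerIn S S₂) := finite_of_le S inf_le_left
  have hCsc : C.StronglyClosed S₁ := by
    refine ⟨hS₁C, fun X hX φ hφ x => ?_⟩
    rw [hC X] at hφ
    exact h₁.2 X hX φ hφ.1 x
  have hR'sat : R'.IsSaturated p := by
    refine restrict_isSaturated hCsat hCsc (fun s hs => ?_) R' (fun P hP => by rw [hR' P hP, hC P])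
    obtain ⟨a, ha, b, hb, rfl⟩ := hdec s hs.1
    refine ⟨a, ha, b, ?_, fun t ht => (hcomm t ht b hb).symm, rfl⟩
    have e : b = a⁻¹ * (a * b) := by group
    rw [e]
    exact Subgroup.mul_mem _ (Subgroup.inv_mem _ (hS₁C ha)) hs
  -- subsystem relations
  have hR'F : R'.IsSubsystemOf F := by
    intro P φ hφ
    have hP : P ≤ S₁ := hom_le R' hφ
    rw [hR' P hP] at hφ
    exact hφ.1
  have hR'R : R'.IsSubsystemOf R := by
    intro P φ hφ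
    have hP : P ≤ S₁ := hom_le R' hφ
    rw [hR P hP]
    exact hR'F P hφ
  have hRF : R.IsSubsystemOf F := by
    intro P φ hφ
    have hP : P ≤ S₁ := hom_le R hφ
    rw [← hR P hP]
    exact hφ
  -- invariance
  have hinvR'F : R'.IsInvariantIn F :=
    (Cfsg.Agent.S5119.result p hS F hF R' hR'F h₁).2
      (strongInvariance_intro R' (fun hPQ hP₁Q hQT hf hg =>
        si_R'F hS hF h₁ h₂ hS₁C hS₂C R' hR' hPQ hP₁Q hQT hf hg))
  have hinvR'R : R'.IsInvariantIn R :=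
    (Cfsg.Agent.S5119.result p hpS₁ R hRsat R' hR'R
      ⟨le_rfl, fun _ _ _ hφ x => hom_mem_S R hφ x⟩).2
      (strongInvariance_intro R' (fun hPQ hP₁Q hQT hf hg =>
        si_R'F hS hF h₁ h₂ hS₁C hS₂C R' hR' hPQ hP₁Q hQT hf ((R_isIso_iff R hR hQT).1 hg)))
  have hinvRF : R.IsInvariantIn F :=
    (Cfsg.Agent.S5119.result p hS F hF R hRF h₁).2
      (strongInvariance_intro R (fun hPQ hP₁Q hQT hf hg => si_RF h₁ R hR hPQ hP₁Q hQT hf hg))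
  refine ⟨hRsat, hR'sat, ⟨⟨hR'sat, hF, hinvR'F⟩, ?_⟩, ⟨⟨hR'sat, hRsat, hinvR'R⟩, ?_⟩,
    ⟨hRsat, hF, hinvRF⟩⟩
  · -- extension condition in `F`
    intro α hα
    have hiso : IsIso R' S₁ S₁ (aut1 α) := isIso_aut1 R' le_rfl hα
    obtain ⟨-, f', hf', hf'P, hf'Z⟩ := R'_isIso_elim hS₂S R' hR' le_rfl hiso
    have e' : S₁ ⊔ centralizerIn S S₁ = S₁ ⊔ S₂ := by
      apply le_antisymm
      · refine sup_le le_sup_left ?_
        rw [hsup]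
        exact inf_le_left
      · exact sup_le_sup_left (hS₂C le_rfl) S₁
    rw [← e'] at hf'
    obtain ⟨β, hβ, hβv⟩ := exists_mem_autGroup_of_isIso F hf'
    refine ⟨β, hβ, fun x => ?_, fun c hc => ?_⟩
    · rw [hβv]
      show f' (x : Ω) = _
      rw [hf'P x x.2, aut1_apply]
    · rw [hβv]
      obtain ⟨a, ha, b, hb, hab⟩ := hdec (c : Ω) hc.1
      have hbc : b ∈ Subgroup.centralizer (S₁ : Set Ω) := (hS₂C le_rfl hb).2
      have hac : a ∈ Subgroup.centralizer (S₁ : Set Ω) := by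
        have e : a = (c : Ω) * b⁻¹ := by rw [hab]; group
        rw [e]
        exact Subgroup.mul_mem _ hc.2 (Subgroup.inv_mem _ hbc)
      have haS : a ∈ S₁ ⊔ centralizerIn S S₁ := (le_sup_left : S₁ ≤ _) ha
      have hbS : b ∈ S₁ ⊔ centralizerIn S S₁ :=
        (le_sup_right : centralizerIn S S₁ ≤ _) (hS₂C le_rfl hb)
      have hfc' : f' (c : Ω) = ((α ⟨a, ha⟩ : S₁) : Ω) * b := by
        rw [hab, hf'.map_mul haS hbS, hf'P a ha, hf'Z b hb, aut1_apply_mem α ha]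
      rw [hfc', hab]
      have hαa : ((α ⟨a, ha⟩ : S₁) : Ω) ∈ S₁ := (α ⟨a, ha⟩).2
      have hcomm' : b * (a⁻¹ * ((α ⟨a, ha⟩ : S₁) : Ω)) = (a⁻¹ * ((α ⟨a, ha⟩ : S₁) : Ω)) * b :=
        (hcomm _ (S₁.mul_mem (S₁.inv_mem ha) hαa) b hb).symm
      have e : (a * b)⁻¹ * (((α ⟨a, ha⟩ : S₁) : Ω) * b) = a⁻¹ * ((α ⟨a, ha⟩ : S₁) : Ω) := by
        calc (a * b)⁻¹ * (((α ⟨a, ha⟩ : S₁) : Ω) * b)
            = b⁻¹ * ((a⁻¹ * ((α ⟨a, ha⟩ : S₁) : Ω)) * b) := by group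
          _ = b⁻¹ * (b * (a⁻¹ * ((α ⟨a, ha⟩ : S₁) : Ω))) := by rw [hcomm']
          _ = a⁻¹ * ((α ⟨a, ha⟩ : S₁) : Ω) := by group
      rw [e]
      exact ⟨S₁.mul_mem (S₁.inv_mem ha) hαa,
        Subgroup.mul_mem _ (Subgroup.inv_mem _ hac) (aut_mem_centralizer α ha hac)⟩
  · -- extension condition in `R`
    intro α hα
    have hiso : IsIso R' S₁ S₁ (aut1 α) := isIso_aut1 R' le_rfl hα
    obtain ⟨hisoF, -⟩ := R'_isIso_elim hS₂S R' hR' le_rfl hiso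
    have hisoR : IsIso R S₁ S₁ (aut1 α) := (R_isIso_iff R hR le_rfl).2 hisoF
    have e : S₁ ⊔ centralizerIn S₁ S₁ = S₁ := sup_eq_left.2 inf_le_left
    have hisoR' : ∀ X : Subgroup Ω, X = S₁ → IsIso R X X (aut1 α) := by
      intro X hX
      subst hX
      exact hisoR
    obtain ⟨β, hβ, hβv⟩ := exists_mem_autGroup_of_isIso R (hisoR' _ e)
    refine ⟨β, hβ, fun x => ?_, fun c hc => ?_⟩
    · rw [hβv]
      show aut1 α (x : Ω) = _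
      rw [aut1_apply]
    · rw [hβv, aut1_apply_mem α hc.1]
      exact ⟨S₁.mul_mem (S₁.inv_mem hc.1) (α ⟨c, hc.1⟩).2,
        Subgroup.mul_mem _ (Subgroup.inv_mem _ hc.2) (aut_mem_centralizer α hc.1 hc.2)⟩

end Cfsg.Agent.S5130
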