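import Cfsg.Statements.S5135
import Cfsg.Agent.Lib.H25.FactorSystem
import Cfsg.Agent.Lib.H26.Basic

set_option autoImplicit false
open Cfsg

namespace Cfsg.Agent.S5135

open Cfsg.FusionSystem Cfsg.Agent.Lib.H25
open scoped Pointwise

section

variable {G : Type*} [Group G] [Finite G] (p : ℕ) [Fact p.Prime] (S : Sylow p G) (H : Subgroup G)
  [H.Normal]

local notation "π" => QuotientGroup.mk' H

theorem core (θ : (S : Subgroup G) →* G ⧸ H) (hθapp : ∀ s : (S : Subgroup G), θ s = π (s : G)) :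
    (Cfsg.groupFusionSystem (S : Subgroup G)).IsFactorSystem ((S : Subgroup G) ⊓ H) θ
      (Cfsg.groupFusionSystem ((S : Subgroup G).map π)) := by
  refine ⟨inf_le_left, ?_, ?_, ?_⟩
  · intro s
    rw [hθapp, QuotientGroup.mk'_apply, QuotientGroup.eq_one_iff, Subgroup.mem_inf]
    exact ⟨fun h => ⟨s.2, h⟩, fun h => h.2⟩
  · ext y
    constructor
    · rintro ⟨s, rfl⟩
      exact ⟨s, s.2, (hθapp s).symm⟩
    · rintro ⟨s, hs, rfl⟩
      exact ⟨⟨s, hs⟩, hθapp _⟩
  · intro P' φ'
    have hPS : preimageAlong θ P' ≤ (S : Subgroup G) := preimageAlong_le θ P'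
    have hP'mem : ∀ x : preimageAlong θ P', θ ⟨x, hPS x.2⟩ ∈ P' := by
      intro x
      obtain ⟨_, h⟩ := (mem_preimageAlong_iff θ P' x).1 x.2
      exact h
    constructor
    · rintro ⟨hP', hφ'S, gbar, hgbar⟩
      refine ⟨hP', ?_⟩
      obtain ⟨g, rfl⟩ := QuotientGroup.mk'_surjective H gbar
      -- the conjugate of `P` by `g` lies in `S ⊔ H`
      have hQle : (preimageAlong θ P').map (MulAut.conj g).toMonoidHom ≤ (S : Subgroup G) ⊔ H := by
        rintro q ⟨x, hx, rfl⟩
        have h1 := hφ'S ⟨θ ⟨x, hPS hx⟩, hP'mem ⟨x, hx⟩⟩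
        rw [hgbar] at h1
        obtain ⟨s, hs, hsEq⟩ := h1
        have hsEq' : π s = π g * π x * (π g)⁻¹ := by
          rw [hsEq]
          show π g * θ ⟨x, hPS hx⟩ * (π g)⁻¹ = _
          rw [hθapp]
        have h2 : π (s⁻¹ * (g * x * g⁻¹)) = 1 := by
          rw [map_mul, map_inv, hsEq']
          simp only [map_mul, map_inv]
          group
        have h3 : s⁻¹ * (g * x * g⁻¹) ∈ H := (QuotientGroup.eq_one_iff _).1 h2
        have e : (MulAut.conj g).toMonoidHom x = s * (s⁻¹ * (g * x * g⁻¹)) := by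
          show g * x * g⁻¹ = _
          group
        rw [e]
        exact Subgroup.mul_mem _ (Subgroup.mem_sup_left hs) (Subgroup.mem_sup_right h3)
      have hQp : IsPGroup p ((preimageAlong θ P').map (MulAut.conj g).toMonoidHom) := by
        have hPp : IsPGroup p (preimageAlong θ P') := S.isPGroup'.to_le hPS
        exact hPp.map _
      obtain ⟨h, hh, hconj⟩ := Cfsg.Agent.Lib.H26.exists_conj_mem_sylow_of_le S
        ((S : Subgroup G) ⊔ H) _ le_sup_left hQle hQp
      have hh' : h ∈ (((S : Subgroup G) ⊔ H : Subgroup G) : Set G) := hh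
      rw [Subgroup.mul_normal] at hh'
      obtain ⟨s, hs, h', hh'H, rfl⟩ := Set.mem_mul.mp hh'
      -- g₁ = h' * g
      have hval : ∀ x : preimageAlong θ P', conjHom (preimageAlong θ P') (h' * g) x ∈ (S : Subgroup G) := by
        intro x
        rw [conjHom_apply]
        have h1 := hconj (g * x * g⁻¹) ⟨x, x.2, rfl⟩
        have h2 := (S : Subgroup G).mul_mem ((S : Subgroup G).mul_mem ((S : Subgroup G).inv_mem hs) h1) hs
        have e : h' * g * (x : G) * (h' * g)⁻¹ = s⁻¹ * (s * h' * (g * x * g⁻¹) * (s * h')⁻¹) * s := by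
          group
        rw [e]; exact h2
      refine ⟨conjHom (preimageAlong θ P') (h' * g), ⟨hPS, hval, h' * g, fun x => rfl⟩, ?_⟩
      refine inducedAlong_mk hPS hval hP'mem ?_
      intro x
      rw [hgbar]
      show π g * θ ⟨x, hPS x.2⟩ * (π g)⁻¹ = θ ⟨conjHom (preimageAlong θ P') (h' * g) x, hval x⟩
      rw [hθapp, hθapp]
      show π g * π (x : G) * (π g)⁻¹ = π (conjHom (preimageAlong θ P') (h' * g) x)
      rw [conjHom_apply]
      have hπh : π h' = 1 := (QuotientGroup.eq_one_iff _).2 hh'H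
      simp only [map_mul, map_inv, hπh, one_mul, inv_one, mul_one]
    · rintro ⟨hP', φ, ⟨-, hφS, g, hg⟩, hind⟩
      -- every element of `P'` is `θ x` with `x` in the preimage
      have hpre : ∀ y : P', ∃ (x : G) (hx : x ∈ preimageAlong θ P'), θ ⟨x, hPS hx⟩ = y := by
        intro y
        obtain ⟨s, hs, hsy⟩ := hP' y.2
        have hsy' : θ ⟨s, hs⟩ = y := by rw [hθapp]; exact hsy
        refine ⟨s, (mem_preimageAlong_iff θ P' s).2 ⟨hs, ?_⟩, hsy'⟩
        rw [hsy']; exact y.2
      have hkey : ∀ y : P', ∀ (x : G) (hx : x ∈ preimageAlong θ P'), θ ⟨x, hPS hx⟩ = y →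
          φ' y = π (φ ⟨x, hx⟩) := by
        intro y x hx hxy
        have h1 := inducedAlong_apply hind hx (hPS hx) (hφS ⟨x, hx⟩) (by rw [hxy]; exact y.2)
        have h2 : (⟨θ ⟨x, hPS hx⟩, by rw [hxy]; exact y.2⟩ : P') = y := Subtype.ext hxy
        rw [h2] at h1
        rw [h1, hθapp]
      refine ⟨hP', ?_, π g, ?_⟩
      · intro y
        obtain ⟨x, hx, hxy⟩ := hpre y
        rw [hkey y x hx hxy]
        exact ⟨φ ⟨x, hx⟩, hφS _, rfl⟩
      · intro y
        obtain ⟨x, hx, hxy⟩ := hpre y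
        rw [hkey y x hx hxy, hg, ← hxy, hθapp]
        simp only [map_mul, map_inv]

end

theorem result {G : Type*} [Group G] [Finite G] (p : ℕ) [Fact p.Prime] (S : Sylow p G) (H : Subgroup G) [H.Normal] : (Cfsg.groupFusionSystem (S : Subgroup G)).IsFactorSystem ((S : Subgroup G) ⊓ H) ((QuotientGroup.mk' H).comp (S : Subgroup G).subtype) (Cfsg.groupFusionSystem ((S : Subgroup G).map (QuotientGroup.mk' H))) :=
  core p S H _ (fun _ => rfl)

end Cfsg.Agent.S5135
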