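import Cfsg.Statements.S5136
import Cfsg.Agent.Lib.H25.Fusion

set_option autoImplicit false
open Cfsg

namespace Cfsg.Agent.S5136

open Cfsg.FusionSystem Cfsg.Agent.Lib.H25

variable {Ω₁ Ω₂ : Type*} [Group Ω₁] [Group Ω₂] {S₁ : Subgroup Ω₁} {S₂ : Subgroup Ω₂}

/-- The defining predicate of the product system. -/
def IsProdHom (F₁ : Cfsg.FusionSystem S₁) (F₂ : Cfsg.FusionSystem S₂) (P : Subgroup (Ω₁ × Ω₂))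
    (φ : P →* Ω₁ × Ω₂) : Prop :=
  P ≤ S₁.prod S₂ ∧
    ∃ φ₁ ∈ F₁.Hom (P.map (MonoidHom.fst Ω₁ Ω₂)), ∃ φ₂ ∈ F₂.Hom (P.map (MonoidHom.snd Ω₁ Ω₂)),
      ∀ (x : P) (h₁ : (x : Ω₁ × Ω₂).1 ∈ P.map (MonoidHom.fst Ω₁ Ω₂))
        (h₂ : (x : Ω₁ × Ω₂).2 ∈ P.map (MonoidHom.snd Ω₁ Ω₂)),
        φ x = (φ₁ ⟨(x : Ω₁ × Ω₂).1, h₁⟩, φ₂ ⟨(x : Ω₁ × Ω₂).2, h₂⟩)

theorem fst_mem {P : Subgroup (Ω₁ × Ω₂)} (x : P) : (x : Ω₁ × Ω₂).1 ∈ P.map (MonoidHom.fst Ω₁ Ω₂) :=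
  ⟨x, x.2, rfl⟩

theorem snd_mem {P : Subgroup (Ω₁ × Ω₂)} (x : P) : (x : Ω₁ × Ω₂).2 ∈ P.map (MonoidHom.snd Ω₁ Ω₂) :=
  ⟨x, x.2, rfl⟩

theorem map_fst_le {P : Subgroup (Ω₁ × Ω₂)} (hP : P ≤ S₁.prod S₂) :
    P.map (MonoidHom.fst Ω₁ Ω₂) ≤ S₁ := by
  rintro _ ⟨x, hx, rfl⟩
  exact (Subgroup.mem_prod.mp (hP hx)).1

theorem map_snd_le {P : Subgroup (Ω₁ × Ω₂)} (hP : P ≤ S₁.prod S₂) :
    P.map (MonoidHom.snd Ω₁ Ω₂) ≤ S₂ := by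
  rintro _ ⟨x, hx, rfl⟩
  exact (Subgroup.mem_prod.mp (hP hx)).2

/-- The product fusion system. -/
def prodSystem (F₁ : Cfsg.FusionSystem S₁) (F₂ : Cfsg.FusionSystem S₂) :
    Cfsg.FusionSystem (S₁.prod S₂) where
  Hom P := {φ | IsProdHom F₁ F₂ P φ}
  le_of_mem := by
    rintro P φ ⟨hP, φ₁, hφ₁, φ₂, hφ₂, h⟩
    refine ⟨hP, fun x => ?_⟩
    rw [h x (fst_mem x) (snd_mem x)]
    exact Subgroup.mem_prod.mpr ⟨(F₁.le_of_mem hφ₁).2 _, (F₂.le_of_mem hφ₂).2 _⟩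
  injective_of_mem := by
    rintro P φ ⟨hP, φ₁, hφ₁, φ₂, hφ₂, h⟩ x y hxy
    rw [h x (fst_mem x) (snd_mem x), h y (fst_mem y) (snd_mem y)] at hxy
    have h1 := F₁.injective_of_mem hφ₁ (congrArg Prod.fst hxy)
    have h2 := F₂.injective_of_mem hφ₂ (congrArg Prod.snd hxy)
    apply Subtype.ext
    exact Prod.ext (congrArg Subtype.val h1) (congrArg Subtype.val h2)
  conj_mem := by
    intro P g hP hg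
    obtain ⟨hg1, hg2⟩ := Subgroup.mem_prod.mp hg
    refine ⟨hP, conjHom _ g.1, F₁.conj_mem (map_fst_le hP) hg1, conjHom _ g.2,
      F₂.conj_mem (map_snd_le hP) hg2, ?_⟩
    intro x h₁ h₂
    rfl
  comp_mem := by
    rintro P Q φ ψ ⟨hP, φ₁, hφ₁, φ₂, hφ₂, hφ⟩ ⟨hQ, ψ₁, hψ₁, ψ₂, hψ₂, hψ⟩ hmap
    have hm1 : ∀ x : P.map (MonoidHom.fst Ω₁ Ω₂), φ₁ x ∈ Q.map (MonoidHom.fst Ω₁ Ω₂) := by
      rintro ⟨_, x, hx, rfl⟩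
      refine ⟨φ ⟨x, hx⟩, hmap ⟨x, hx⟩, ?_⟩
      rw [hφ ⟨x, hx⟩ (fst_mem _) (snd_mem _)]
      rfl
    have hm2 : ∀ x : P.map (MonoidHom.snd Ω₁ Ω₂), φ₂ x ∈ Q.map (MonoidHom.snd Ω₁ Ω₂) := by
      rintro ⟨_, x, hx, rfl⟩
      refine ⟨φ ⟨x, hx⟩, hmap ⟨x, hx⟩, ?_⟩
      rw [hφ ⟨x, hx⟩ (fst_mem _) (snd_mem _)]
      rfl
    refine ⟨hP, _, F₁.comp_mem hφ₁ hψ₁ hm1, _, F₂.comp_mem hφ₂ hψ₂ hm2, ?_⟩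
    intro x h₁ h₂
    have e1 := hφ x h₁ h₂
    show ψ ⟨φ x, hmap x⟩ = _
    rw [hψ ⟨φ x, hmap x⟩ (fst_mem _) (snd_mem _)]
    apply Prod.ext
    · show ψ₁ ⟨(φ x).1, _⟩ = ψ₁ ⟨φ₁ ⟨(x : Ω₁ × Ω₂).1, h₁⟩, _⟩
      congr 2
      rw [e1]
    · show ψ₂ ⟨(φ x).2, _⟩ = ψ₂ ⟨φ₂ ⟨(x : Ω₁ × Ω₂).2, h₂⟩, _⟩
      congr 2
      rw [e1]
  inv_mem := by
    rintro P φ ⟨hP, φ₁, hφ₁, φ₂, hφ₂, hφ⟩
    obtain ⟨ψ₁, hψ₁, hinv1⟩ := F₁.inv_mem hφ₁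
    obtain ⟨ψ₂, hψ₂, hinv2⟩ := F₂.inv_mem hφ₂
    have hR1 : φ₁.range = φ.range.map (MonoidHom.fst Ω₁ Ω₂) := by
      ext y
      constructor
      · rintro ⟨⟨_, x, hx, rfl⟩, rfl⟩
        refine ⟨φ ⟨x, hx⟩, ⟨⟨x, hx⟩, rfl⟩, ?_⟩
        rw [hφ ⟨x, hx⟩ (fst_mem _) (snd_mem _)]
        rfl
      · rintro ⟨_, ⟨x, rfl⟩, rfl⟩
        refine ⟨⟨(x : Ω₁ × Ω₂).1, fst_mem x⟩, ?_⟩
        rw [hφ x (fst_mem _) (snd_mem _)]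
        rfl
    have hR2 : φ₂.range = φ.range.map (MonoidHom.snd Ω₁ Ω₂) := by
      ext y
      constructor
      · rintro ⟨⟨_, x, hx, rfl⟩, rfl⟩
        refine ⟨φ ⟨x, hx⟩, ⟨⟨x, hx⟩, rfl⟩, ?_⟩
        rw [hφ ⟨x, hx⟩ (fst_mem _) (snd_mem _)]
        rfl
      · rintro ⟨_, ⟨x, rfl⟩, rfl⟩
        refine ⟨⟨(x : Ω₁ × Ω₂).2, snd_mem x⟩, ?_⟩
        rw [hφ x (fst_mem _) (snd_mem _)]
        rfl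
    have hψ₁' := hom_cast F₁ hR1 hψ₁
    have hψ₂' := hom_cast F₂ hR2 hψ₂
    set χ₁ := ψ₁.comp (MulEquiv.subgroupCongr hR1.symm).toMonoidHom with hχ₁
    set χ₂ := ψ₂.comp (MulEquiv.subgroupCongr hR2.symm).toMonoidHom with hχ₂
    have hrange : φ.range ≤ S₁.prod S₂ := by
      rintro _ ⟨x, rfl⟩
      rw [hφ x (fst_mem x) (snd_mem x)]
      exact Subgroup.mem_prod.mpr ⟨(F₁.le_of_mem hφ₁).2 _, (F₂.le_of_mem hφ₂).2 _⟩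
    refine ⟨(χ₁.comp ((MonoidHom.fst Ω₁ Ω₂).subgroupMap φ.range)).prod
      (χ₂.comp ((MonoidHom.snd Ω₁ Ω₂).subgroupMap φ.range)), ⟨hrange, χ₁, hψ₁', χ₂, hψ₂', ?_⟩, ?_⟩
    · intro x h₁ h₂
      rfl
    · intro x
      have e := hφ x (fst_mem x) (snd_mem x)
      apply Prod.ext
      · show ψ₁ ⟨(φ x).1, _⟩ = (x : Ω₁ × Ω₂).1
        have := hinv1 ⟨(x : Ω₁ × Ω₂).1, fst_mem x⟩
        refine Eq.trans ?_ this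
        congr 2
        rw [e]
      · show ψ₂ ⟨(φ x).2, _⟩ = (x : Ω₁ × Ω₂).2
        have := hinv2 ⟨(x : Ω₁ × Ω₂).2, snd_mem x⟩
        refine Eq.trans ?_ this
        congr 2
        rw [e]

theorem result {Ω₁ Ω₂ : Type*} [Group Ω₁] [Group Ω₂] {S₁ : Subgroup Ω₁} {S₂ : Subgroup Ω₂} [Finite S₁] [Finite S₂] (p : ℕ) [Fact p.Prime] (h₁ : IsPGroup p S₁) (h₂ : IsPGroup p S₂) (F₁ : Cfsg.FusionSystem S₁) (F₂ : Cfsg.FusionSystem S₂) : ∃ E : Cfsg.FusionSystem (S₁.prod S₂), Cfsg.FusionSystem.IsProductSystem F₁ F₂ E :=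
  ⟨prodSystem F₁ F₂, fun _ _ => Iff.rfl⟩

end Cfsg.Agent.S5136
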