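import Cfsg.Statements.S5139
import Cfsg.Agent.Lib.H26.PPowerIndex
import Cfsg.Agent.Lib.H26.HyperfocalGroup
import Cfsg.Agent.Lib.H26.SubgroupFusion
import Cfsg.Agent.Lib.H26.NormalSubgroupFusion
import Cfsg.Agent.Lib.H26.GroupSaturated

set_option autoImplicit false
open Cfsg

namespace Cfsg.Agent.S5139

/-- Let G be a finite group with Sylow p-subgroup S and O^p(G) the subgroup generated by the elements of order prime to p. Then the p-residual subsystem of the fusion system of G on S — the saturated subsystem of p-power index over the hyperfocal subgroup — is the fusion system of O^p(G) on S ∩ O^p(G): its maps are exactly the conjugation maps by elements of O^p(G) between subgroups of S ∩ O^p(G). -/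
theorem result {G : Type*} [Group G] [Finite G] (p : ℕ) [Fact p.Prime] (S : Sylow p G) (E : Cfsg.FusionSystem ((Cfsg.groupFusionSystem (S : Subgroup G)).hyperfocalSubgroup p)) (hE : (Cfsg.groupFusionSystem (S : Subgroup G)).IsPResidual p E) : ∃ h : (S : Subgroup G) ⊓ Cfsg.pResidual p G ≤ Cfsg.pResidual p G, ∀ P : Subgroup G, E.Hom P = (Cfsg.fusionSystemOfSubgroup (Cfsg.pResidual p G) ((S : Subgroup G) ⊓ Cfsg.pResidual p G) h).Hom P := by
  classical
  haveI hKn : (pResidual p G).Normal := Cfsg.Agent.Lib.H10.pResidual_normal p G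
  refine ⟨inf_le_right, fun P => ?_⟩
  have hS : IsPGroup p (S : Subgroup G) := S.isPGroup'
  have hhypT : (groupFusionSystem (S : Subgroup G)).hyperfocalSubgroup p ≤
      (S : Subgroup G) ⊓ pResidual p G := Cfsg.Agent.Lib.H26.hyperfocal_le_pResidual (S : Subgroup G)
  have hThyp : (S : Subgroup G) ⊓ pResidual p G ≤
      (groupFusionSystem (S : Subgroup G)).hyperfocalSubgroup p :=
    Cfsg.Agent.Lib.H26.inf_pResidual_le_hyperfocal S
  have hE₂F : (fusionSystemOfSubgroup (pResidual p G) ((S : Subgroup G) ⊓ pResidual p G)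
      inf_le_right).IsSubsystemOf (groupFusionSystem (S : Subgroup G)) := by
    rintro Q φ ⟨hQ, hφ, g, -, hgφ⟩
    exact ⟨hQ.trans inf_le_left, fun x => (hφ x).1, g, hgφ⟩
  have hTsyl : Cfsg.Agent.Lib.H26.IsSylowIn p ((S : Subgroup G) ⊓ pResidual p G) (pResidual p G) :=
    Cfsg.Agent.Lib.H26.sylow_inf_normal_isSylowIn S (pResidual p G)
  have hE₂sat := Cfsg.Agent.Lib.H26.fusionSystemOfSubgroup_isSaturated
    (inf_le_right : (S : Subgroup G) ⊓ pResidual p G ≤ pResidual p G) hTsyl
  have hidx₂ : ∀ Q : Subgroup G, Q ≤ (S : Subgroup G) ⊓ pResidual p G →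
      (pResidual p ((groupFusionSystem (S : Subgroup G)).autGroup Q)).map
        ((groupFusionSystem (S : Subgroup G)).autGroup Q).subtype ≤
      (fusionSystemOfSubgroup (pResidual p G) ((S : Subgroup G) ⊓ pResidual p G)
        inf_le_right).autGroup Q := by
    intro Q hQ
    rw [Subgroup.map_le_iff_le_comap]
    refine (Subgroup.closure_le _).2 ?_
    intro β hβ
    rw [SetLike.mem_coe, Subgroup.mem_comap]
    show (β : MulAut Q) ∈ _
    rw [Cfsg.Agent.Lib.H26.fusionSystemOfSubgroup_autGroup_eq hQ,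
      Cfsg.Agent.Lib.H25.mem_autInducedBy_iff]
    have hβ2 : (β : MulAut Q) ∈ autInducedBy ⊤ Q := by
      rw [← Cfsg.Agent.Lib.H26.groupFusionSystem_autGroup_eq (hQ.trans inf_le_left)]
      exact β.2
    rw [Cfsg.Agent.Lib.H25.mem_autInducedBy_iff] at hβ2
    obtain ⟨g, -, hg⟩ := hβ2
    have hord : (orderOf (β : MulAut Q)).Coprime p := by
      rw [Subgroup.orderOf_coe]
      exact hβ
    obtain ⟨k, hk, hkβ⟩ := Cfsg.Agent.Lib.H26.exists_mem_pResidual_induces hord hg
    exact ⟨k, hk, hkβ⟩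
  have h1 := Cfsg.Agent.Lib.H26.isSubsystemOf_of_pResidual_le hS
    (Cfsg.Agent.Lib.H25.hyperfocal_le _ p) E hE.1 hE.2.1 _ hhypT hidx₂
  have h2 := Cfsg.Agent.Lib.H26.isSubsystemOf_of_pResidual_le hS
    (inf_le_left : (S : Subgroup G) ⊓ pResidual p G ≤ (S : Subgroup G)) _ hE₂sat hE₂F E hThyp hE.2.2.2
  exact Set.Subset.antisymm (h1 P) (h2 P)

end Cfsg.Agent.S5139
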