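import Cfsg.Statements.S5147
import Cfsg.Agent.S5115

set_option autoImplicit false
open Cfsg

namespace Cfsg.Agent.S5147

open Cfsg.FusionSystem Cfsg.Agent.Lib.H25 Cfsg.Agent.Lib.H26 Cfsg.Agent.Lib.H26.Model

section

variable {X : Type*} [Group X] [Finite X] {p : ℕ} [Fact p.Prime]

/-- Central `p`-elements lie in every Sylow `p`-subgroup. -/
theorem central_pElement_mem (T : Sylow p X) {z : X} (hz : z ∈ Subgroup.center X) {k : ℕ}
    (hk : z ^ p ^ k = 1) : z ∈ (T : Subgroup X) := by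
  have hle : Subgroup.zpowers z ≤ Subgroup.center X := (Subgroup.zpowers_le).2 hz
  haveI hn : (Subgroup.zpowers z).Normal := by
    refine ⟨fun n hn g => ?_⟩
    have hc := Subgroup.mem_center_iff.1 (hle hn) g
    have : g * n * g⁻¹ = n := by rw [hc]; group
    rw [this]; exact hn
  have hp : IsPGroup p (Subgroup.zpowers z) := by
    rintro ⟨y, hy⟩
    obtain ⟨j, rfl⟩ := Subgroup.mem_zpowers_iff.1 hy
    refine ⟨k, Subtype.ext ?_⟩
    show (z ^ j) ^ p ^ k = 1
    rw [← zpow_natCast, ← zpow_mul, mul_comm, zpow_mul, zpow_natCast, hk, one_zpow]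
  exact hp.le_sylow_of_normal T (Subgroup.mem_zpowers z)

/-- A `p`-element congruent to an element of `T` modulo the centre lies in `T`. -/
theorem mem_of_mk_mem (T : Sylow p X) {y : X} {k : ℕ} (hyk : y ^ p ^ k = 1)
    (hy : QuotientGroup.mk' (Subgroup.center X) y ∈
      (T : Subgroup X).map (QuotientGroup.mk' (Subgroup.center X))) : y ∈ (T : Subgroup X) := by
  obtain ⟨t, ht, hty⟩ := hy
  have hz : t⁻¹ * y ∈ Subgroup.center X := by
    have := (QuotientGroup.eq (s := Subgroup.center X)).1 hty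
    exact this
  obtain ⟨m, hm⟩ := T.2 ⟨t, ht⟩
  have hm' : t ^ p ^ m = 1 := by
    have := congrArg (fun z : (T : Subgroup X) => (z : X)) hm
    simpa using this
  -- `t` and `y` commute
  have hcomm : Commute t⁻¹ y := by
    have h1 := Subgroup.mem_center_iff.1 hz t⁻¹
    -- t⁻¹ * (t⁻¹ * y) = (t⁻¹ * y) * t⁻¹
    show t⁻¹ * y = y * t⁻¹
    have h2 : t⁻¹ * (t⁻¹ * y) = t⁻¹ * y * t⁻¹ := h1
    have h3 := congrArg (fun w => t * w) h2
    simpa [mul_assoc] using h3
  have hzp : (t⁻¹ * y) ^ p ^ (m + k) = 1 := by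
    rw [hcomm.mul_pow, inv_pow, pow_add, pow_mul, hm', one_pow, inv_one, one_mul, mul_comm (p ^ m),
      pow_mul, hyk, one_pow]
  have := central_pElement_mem T hz hzp
  have e : y = t * (t⁻¹ * y) := by group
  rw [e]
  exact Subgroup.mul_mem _ ht this

/-- The fusion system of `X / Z(X)` is constrained when that of `X` is. -/
theorem constrained_quotient_center (T : Sylow p X)
    (hF : (groupFusionSystem (T : Subgroup X)).IsConstrained p) :
    (groupFusionSystem
      ((T : Subgroup X).map (QuotientGroup.mk' (Subgroup.center X)))).IsConstrained p := by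
  classical
  set Z := Subgroup.center X with hZ
  set π := QuotientGroup.mk' Z with hπ
  have hπs : Function.Surjective π := QuotientGroup.mk'_surjective Z
  set F := groupFusionSystem (T : Subgroup X) with hFdef
  obtain ⟨hFs, Q', hQ'n, hQ'c⟩ := hF
  have hTp : IsPGroup p (T : Subgroup X) := T.2
  have hQn : F.IsNormal F.core := Cfsg.Agent.S5145.result F
  have hQT : F.core ≤ (T : Subgroup X) := hQn.1
  have hQc : F.IsCentric F.core := isCentric_of_le hQ'c (le_sSup hQ'n) hQT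
  have hQsc := isNormal_stronglyClosed hQn
  set Q := F.core with hQ
  set Tb : Subgroup (X ⧸ Z) := (T : Subgroup X).map π with hTb
  set Qb : Subgroup (X ⧸ Z) := Q.map π with hQb
  have hQbTb : Qb ≤ Tb := Subgroup.map_mono hQT
  haveI : Finite Tb := inferInstance
  -- saturation
  have hsat : (groupFusionSystem Tb).IsSaturated p :=
    groupFusionSystem_isSaturated (T.mapSurjective hπs)
  -- `p`-elements
  have hpel : ∀ x ∈ (T : Subgroup X), ∃ k : ℕ, x ^ p ^ k = 1 := by
    intro x hx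
    obtain ⟨k, hk⟩ := hTp ⟨x, hx⟩
    refine ⟨k, ?_⟩
    have := congrArg (fun z : (T : Subgroup X) => (z : X)) hk
    simpa using this
  -- normality of `Qb`
  have hQbn : (groupFusionSystem Tb).IsNormal Qb := by
    apply isNormal_of_ext hQbTb
    rintro Pb φb ⟨hPb, hφbT, gb, hgb⟩
    obtain ⟨g, rfl⟩ := hπs gb
    set P : Subgroup X := (T : Subgroup X) ⊓ Pb.comap π with hP
    have hPT : P ≤ (T : Subgroup X) := inf_le_left
    have hPmap : P.map π = Pb := by
      apply le_antisymm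
      · rintro _ ⟨x, hx, rfl⟩
        exact hx.2
      · intro xb hxb
        obtain ⟨t, ht, rfl⟩ := hPb hxb
        exact ⟨t, ⟨ht, hxb⟩, rfl⟩
    have hcj : cj g P ≤ (T : Subgroup X) := by
      rintro _ ⟨x, hx, rfl⟩
      show g * x * g⁻¹ ∈ (T : Subgroup X)
      obtain ⟨k, hk⟩ := hpel x hx.1
      have hk' : (g * x * g⁻¹) ^ p ^ k = 1 := by
        rw [conj_pow, hk]; group
      apply mem_of_mk_mem T hk'
      have h1 := hφbT ⟨π x, hx.2⟩
      rw [hgb] at h1
      have e : π (g * x * g⁻¹) = π g * π x * (π g)⁻¹ := by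
        rw [map_mul, map_mul, map_inv]
      rw [e]
      exact h1
    have hiso := isIso_conj_groupFusionSystem hPT hcj
    obtain ⟨k, hk, hkP, hkQ⟩ := isNormal_exists_ext hQn hiso
    have hk' := hk
    obtain ⟨ψ, ⟨-, -, h, hh⟩, hψk, -⟩ := hk'
    have hkh : ∀ x ∈ P ⊔ Q, k x = h * x * h⁻¹ := fun x hx => (hψk ⟨x, hx⟩).symm.trans (hh ⟨x, hx⟩)
    have hkT : ∀ x ∈ P ⊔ Q, k x ∈ (T : Subgroup X) := fun x hx => hk.le_right (hk.map_mem hx)
    have hsupmap : Pb ⊔ Qb = (P ⊔ Q).map π := by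
      rw [Subgroup.map_sup, hPmap]
    have hle : Pb ⊔ Qb ≤ Tb := sup_le hPb hQbTb
    have hcjb : cj (π h) (Pb ⊔ Qb) ≤ Tb := by
      rw [hsupmap]
      rintro _ ⟨_, ⟨y, hy, rfl⟩, rfl⟩
      show π h * π y * (π h)⁻¹ ∈ Tb
      rw [← map_inv, ← map_mul, ← map_mul, ← hkh y hy]
      exact ⟨_, hkT y hy, rfl⟩
    refine ⟨fun yb => π h * yb * (π h)⁻¹, _, isIso_conj_groupFusionSystem hle hcjb,
      fun xb => ?_, fun xb hxb => ?_, fun yb hyb => ?_⟩
    · have hxb : (xb : X ⧸ Z) ∈ P.map π := by rw [hPmap]; exact xb.2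
      obtain ⟨x, hx, hxe⟩ := hxb
      show π h * (xb : X ⧸ Z) * (π h)⁻¹ = φb xb
      rw [hgb xb, ← hxe]
      calc π h * π x * (π h)⁻¹ = π (h * x * h⁻¹) := by rw [map_mul, map_mul, map_inv]
        _ = π (g * x * g⁻¹) := by rw [← hkh x ((le_sup_left : P ≤ P ⊔ Q) hx), hkP x hx]
        _ = π g * π x * (π g)⁻¹ := by rw [map_mul, map_mul, map_inv]
    · obtain ⟨q, hq, rfl⟩ := hxb
      show π h * π q * (π h)⁻¹ ∈ Qb
      rw [← map_inv, ← map_mul, ← map_mul, ← hkh q ((le_sup_right : Q ≤ P ⊔ Q) hq)]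
      exact ⟨_, hkQ.map_mem hq, rfl⟩
    · obtain ⟨q', hq', rfl⟩ := hyb
      obtain ⟨q, hq, hkq⟩ := hkQ.surjOn hq'
      refine ⟨π q, ⟨q, hq, rfl⟩, ?_⟩
      show π h * π q * (π h)⁻¹ = π q'
      rw [← map_inv, ← map_mul, ← map_mul, ← hkh q ((le_sup_right : Q ≤ P ⊔ Q) hq), hkq]
  -- `Qb` is centric
  have hQbsc := isNormal_stronglyClosed hQbn
  have hcent : centralizerIn Tb Qb ≤ Qb := by
    rintro cb ⟨hcT, hcC⟩
    have hcC' : cb ∈ Subgroup.centralizer (Qb : Set (X ⧸ Z)) := hcC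
    obtain ⟨t, ht, rfl⟩ := hcT
    refine ⟨t, ?_, rfl⟩
    -- `t` acts on `Q` inside a normal `p`-subgroup of `Aut_F(Q)`
    have hcomm : ∀ y ∈ Q, y⁻¹ * (t * y * t⁻¹) ∈ Z := by
      intro y hy
      have h1 := Subgroup.mem_centralizer_iff.1 hcC' (π y) ⟨y, hy, rfl⟩
      have h2 : π (y⁻¹ * (t * y * t⁻¹)) = 1 := by
        rw [map_mul, map_mul, map_mul, map_inv, map_inv, ← h1]
        group
      have := (QuotientGroup.eq_one_iff (N := Z) _).1 h2
      exact this
    have hZQ : Z ⊓ Q ≤ Q := inf_le_right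
    have hinv : ∀ γ ∈ F.autGroup Q, ∀ y : Q, (y : X) ∈ Z ⊓ Q → ((γ y : Q) : X) ∈ Z ⊓ Q := by
      intro γ hγ y hy
      obtain ⟨-, -, g, hg⟩ := (mem_autGroup_iff F hQT γ).1 hγ
      have h1 : ((γ y : Q) : X) = g * y * g⁻¹ := hg y
      have h2 : g * (y : X) * g⁻¹ = y := by
        rw [Subgroup.mem_center_iff.1 hy.1 g]; group
      rw [h1, h2]
      exact hy
    haveI : Finite (T : Subgroup X) := inferInstance
    haveI : Finite (Z ⊓ Q : Subgroup X) := inferInstance
    refine Cfsg.Agent.S5342.mem_core_of_normal_pSubgroup hTp hFs hQn hQc (stabChain F Q (Z ⊓ Q))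
      (stabChain_isPGroup F hZQ (hTp.to_le (hZQ.trans hQT))) (stabChain_normal F hZQ hinv) ht ?_
    intro α hα
    refine ⟨?_, fun y => ?_, fun y hy => ?_⟩
    · apply autInducedBy_le_autGroup F hQT
      rw [mem_autInducedBy_iff]
      exact ⟨t, ht, hα⟩
    · rw [hα y]
      refine ⟨hcomm y y.2, ?_⟩
      exact Q.mul_mem (Q.inv_mem y.2) (stronglyClosed_conj_mem hQsc ht y.2)
    · apply Subtype.ext
      rw [hα y]
      rw [Subgroup.mem_center_iff.1 hy.1 t]; group
  refine ⟨hsat, Qb, hQbn, hQbTb, fun R' hR' => ?_⟩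
  obtain ⟨f, hf⟩ := (isConj_iff (groupFusionSystem Tb)).1 hR'
  have h1 := stronglyClosed_isIso_self hQbsc hf le_rfl
  have h2 : R' = Qb := (IsIso.target_eq hf h1 (fun _ _ => rfl))
  rw [h2]
  exact hcent

end

/-- Let G be a finite group with Sylow 2-subgroup S whose 2-fusion system on S is constrained, and L a component of G (a subnormal quasisimple subgroup). Then the 2-fusion system of L/Z(L) on the image of S ∩ L is constrained. -/
theorem result {G : Type*} [Group G] [Finite G] (S : Sylow 2 G) (hF : (Cfsg.groupFusionSystem (S : Subgroup G)).IsConstrained 2) (L : Subgroup G) (hL : Cfsg.IsComponent L) : (Cfsg.groupFusionSystem (((S : Subgroup G).subgroupOf L).map (QuotientGroup.mk' (Subgroup.center L)))).IsConstrained 2 := by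
  have : Fact (Nat.Prime 2) := ⟨Nat.prime_two⟩
  have h1 := Cfsg.Agent.S5115.result S hF L hL.1
  obtain ⟨⟨R, hR⟩, -⟩ := Cfsg.Agent.S5115.subnormal_aux S hF hL.1
  rw [← hR] at h1 ⊢
  exact constrained_quotient_center R h1

end Cfsg.Agent.S5147
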