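import Cfsg.Statements.S5148
import Cfsg.Agent.S5132
import Cfsg.Agent.S5134
import Cfsg.Agent.Lib.H26.FusionAbelian2
import Cfsg.Agent.Lib.H26.FusionInner

set_option autoImplicit false
open Cfsg

namespace Cfsg.Agent.S5148

open Cfsg.FusionSystem Cfsg.Agent.Lib.H25 Cfsg.Agent.Lib.H26

/-- A quasisimple fusion system over a finite p-group S (saturated, equal to its p-residual subsystem, with simple — in particular nontrivial — factor system modulo its centre) has S nonabelian. -/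
theorem result {Ω : Type*} [Group Ω] {S : Subgroup Ω} [Finite S] (p : ℕ) [Fact p.Prime] (hS : IsPGroup p S) (F : Cfsg.FusionSystem S) (hq : F.Quasisimple p) : ¬ IsMulCommutative S := by
  intro hcomm
  obtain ⟨hF, hhyp, hfac⟩ := hq
  have hab : ∀ x ∈ S, ∀ y ∈ S, x * y = y * x := fun x hx y hy =>
    congrArg Subtype.val (hcomm.is_comm.comm (⟨x, hx⟩ : S) ⟨y, hy⟩)
  -- the centre is the fixed point subgroup of `Aut_F(S)`; it is strongly closed
  have hZeq := center_eq_of_comm F p hF hab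
  have hZS : F.center ≤ S := by rw [hZeq]; exact Subgroup.map_subtype_le _
  have hZsc : F.StronglyClosed F.center := by
    refine ⟨hZS, fun R hR φ hφ x => ?_⟩
    obtain ⟨α, hα, hαφ⟩ := exists_aut_extension_of_comm F p hF hab hφ
    rw [← hαφ]
    have hxZ : (x : Ω) ∈ F.center := hR x.2
    have hxZ' := hxZ
    rw [hZeq] at hxZ'
    obtain ⟨x', hx', hxx'⟩ := hxZ'
    have h1 : (⟨x, hom_le F hφ x.2⟩ : S) = x' := Subtype.ext hxx'.symm
    rw [h1, hx' α hα]
    show (x' : Ω) ∈ F.center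
    have h2 : (x' : Ω) = x := hxx'
    rw [h2]
    exact hxZ
  obtain ⟨E, hE⟩ := Cfsg.Agent.S5132.result p hS F F.center hZsc
  obtain ⟨hEsat, hne, hEsimple⟩ := hfac E hE
  -- the quotient is abelian
  have habT : ∀ x ∈ (⊤ : Subgroup (S ⧸ (F.center).subgroupOf S)),
      ∀ y ∈ (⊤ : Subgroup (S ⧸ (F.center).subgroupOf S)), x * y = y * x := by
    intro x _ y _
    obtain ⟨a, rfl⟩ := QuotientGroup.mk_surjective x
    obtain ⟨b, rfl⟩ := QuotientGroup.mk_surjective y
    rw [← QuotientGroup.mk_mul, ← QuotientGroup.mk_mul]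
    congr 1
    exact Subtype.ext (hab a a.2 b b.2)
  have hpT : IsPGroup p (⊤ : Subgroup (S ⧸ (F.center).subgroupOf S)) :=
    (hS.to_quotient ((F.center).subgroupOf S)).to_subgroup ⊤
  have hTsc : E.StronglyClosed (⊤ : Subgroup (S ⧸ (F.center).subgroupOf S)) :=
    ⟨le_rfl, fun R _ φ hφ x => hom_mem_S E hφ x⟩
  have hinn := inner_isNormalIn_of_comm E p hpT hEsat habT ⊤ hTsc
  have hHom : ∀ P, (innerFusionSystem (⊤ : Subgroup (S ⧸ (F.center).subgroupOf S))).Hom P = E.Hom P := by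
    rcases hEsimple ⊤ _ hinn with h | h
    · exact absurd h hne
    · exact h.2
  -- every automorphism of the system acts trivially modulo the centre
  have hmor := (Cfsg.Agent.S5134.result p hS F hF F.center hZsc _ E hE).1
  have hclaim : ∀ (P : Subgroup Ω), P ≤ S → ∀ α ∈ F.autGroup P, ∀ x : P,
      (x : Ω)⁻¹ * ((α x : P) : Ω) ∈ F.center := by
    intro P hP α hα x
    have hφmem := (mem_autGroup_iff F hP α).1 hα
    obtain ⟨φ', hφ', hPS, hφS, hP', hind⟩ := hmor.2 P _ hφmem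
    rw [← hHom] at hφ'
    obtain ⟨-, hφ'x⟩ := (mem_inner_hom_iff_of_comm habT φ').1 hφ'
    have h1 := hind x
    rw [hφ'x] at h1
    have h2 : (QuotientGroup.mk' ((F.center).subgroupOf S))
        ((⟨x, hPS x.2⟩ : S)⁻¹ * ⟨((α x : P) : Ω), hP (α x).2⟩) = 1 := by
      rw [map_mul, map_inv]
      have h3 : (QuotientGroup.mk' ((F.center).subgroupOf S)) ⟨((α x : P) : Ω), hP (α x).2⟩ =
          (QuotientGroup.mk' ((F.center).subgroupOf S)) ⟨x, hPS x.2⟩ := h1.symm
      rw [h3, inv_mul_cancel]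
    exact (hE.2.1 _).1 h2
  have hhypZ : F.hyperfocalSubgroup p ≤ F.center := by
    unfold FusionSystem.hyperfocalSubgroup
    rw [Subgroup.closure_le]
    rintro _ ⟨P, α, x, hPS, -, rfl⟩
    exact hclaim P hPS α.1 α.2 x
  rw [hhyp] at hhypZ
  apply hne
  ext y
  simp only [Subgroup.mem_top, Subgroup.mem_bot, true_iff]
  obtain ⟨s, rfl⟩ := QuotientGroup.mk_surjective y
  rw [QuotientGroup.eq_one_iff]
  exact Subgroup.mem_subgroupOf.2 (hhypZ s.2)

end Cfsg.Agent.S5148
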