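import Cfsg.Statements.S5153
import Cfsg.Agent.Lib.H25.SatEquiv
import Cfsg.Agent.Lib.H25.Normal

set_option autoImplicit false
open Cfsg

namespace Cfsg.Agent.S5153

open Cfsg.FusionSystem Cfsg.Agent.Lib.H25

section

variable {Ω : Type*} [Group Ω]

/-- A subsystem over `U` of a system over `S` has `U ≤ S`. -/
theorem le_of_isSubsystemOf {S U : Subgroup Ω} {F : FusionSystem S} {D : FusionSystem U}
    (h : D.IsSubsystemOf F) : U ≤ S :=
  hom_le F (h U (subtype_mem D le_rfl))

/-- The step for a subsystem over a strongly closed subgroup: a fully normalized subgroup of the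
big system inside `U` is fully normalized in the subsystem. -/
theorem fullyNormalized_of_subsystem {S : Subgroup Ω} [Finite S] {p : ℕ} [Fact p.Prime]
    (hS : IsPGroup p S) {F : FusionSystem S} (hF : F.IsSaturated p) {U : Subgroup Ω}
    {D : FusionSystem U} (hDsub : D.IsSubsystemOf F) (hU : F.StronglyClosed U) {P : Subgroup Ω}
    (hPU : P ≤ U) (hP : F.IsFullyNormalized P) : D.IsFullyNormalized P := by
  refine ⟨hPU, fun Q hQ => ?_⟩
  have hQU : Q ≤ U := isConj_le_right D hQ
  have hQF : F.IsConj P Q := by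
    obtain ⟨φ, hφ, hr⟩ := hQ
    exact ⟨φ, hDsub P hφ, hr⟩
  obtain ⟨hfc, hfa⟩ := fullyNormalized_props hS hF hP
  have hrec := isReceptive_of_fullyCentralized hS hF hfc
  obtain ⟨f, N', hf, hN', -⟩ := exists_normalizer_map hS hfa hrec (isConj_symm F hQF)
  have hle : normalizerIn U Q ≤ normalizerIn S Q := fun x hx => ⟨hU.1 hx.1, hx.2⟩
  obtain ⟨M, hMN', hfM, -⟩ := hf.restrict hle
  have hfin : Finite (normalizerIn U P) :=
    finite_of_le S ((inf_le_left : normalizerIn U P ≤ U).trans hU.1)
  have hmem : ∀ x : normalizerIn U Q, f x ∈ normalizerIn U P := by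
    intro x
    refine ⟨stronglyClosed_map_mem hU hfM inf_le_left x.2, ?_⟩
    exact (hN' (hMN' (hfM.map_mem x.2))).2
  apply Nat.card_le_card_of_injective (fun x : normalizerIn U Q => (⟨f x, hmem x⟩ : normalizerIn U P))
  intro a b hab
  exact Subtype.ext (hfM.injOn a.2 b.2 (congrArg Subtype.val hab))

/-- The induction along a subnormal chain. -/
theorem key {p : ℕ} {T : Subgroup Ω} {E : FusionSystem T} {S : Subgroup Ω}
    {F : FusionSystem S} (hE : E.IsSubnormalIn F p) :
    T ≤ S ∧ (Fact p.Prime → Finite S → IsPGroup p S → F.IsSaturated p → ∀ P : Subgroup Ω, P ≤ T →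
      F.IsFullyNormalized P → E.IsFullyNormalized P) := by
  induction hE with
  | refl F p => exact ⟨le_rfl, fun _ _ _ _ P _ h => h⟩
  | step hED hDF ih =>
    rename_i T U S E D F p
    obtain ⟨hTU, ih⟩ := ih
    have hDsub : D.IsSubsystemOf F := hDF.1.2.2.1
    have hUS : U ≤ S := le_of_isSubsystemOf hDsub
    refine ⟨hTU.trans hUS, fun hp hfin hS hF P hPT hP => ?_⟩
    have hfinU : Finite U := finite_of_le S hUS
    have hDsat : D.IsSaturated p := hDF.1.1
    have hUsc : F.StronglyClosed U := hDF.1.2.2.2.1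
    exact ih hp hfinU (hS.to_le hUS) hDsat P hPT
      (fullyNormalized_of_subsystem hS hF hDsub hUsc (hPT.trans hTU) hP)

end

/-- Let F be a saturated fusion system over a finite p-group S and E a subnormal subsystem of F over T. Then every subgroup of T that is fully normalized in F is fully normalized in E. -/
theorem result {Ω : Type*} [Group Ω] {S : Subgroup Ω} [Finite S] (p : ℕ) [Fact p.Prime] (hS : IsPGroup p S) (F : Cfsg.FusionSystem S) (hF : F.IsSaturated p) {T : Subgroup Ω} (E : Cfsg.FusionSystem T) (hE : E.IsSubnormalIn F p) (P : Subgroup Ω) (hPT : P ≤ T) (hP : F.IsFullyNormalized P) : E.IsFullyNormalized P := by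
  exact (key hE).2 inferInstance inferInstance hS hF P hPT hP

end Cfsg.Agent.S5153
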