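import Cfsg.Statements.S5157
import Cfsg.Agent.S5089
import Cfsg.Agent.S5132
import Cfsg.Agent.S5133
import Cfsg.Agent.S5134
import Cfsg.Agent.Lib.H25.MorphismClosed
import Cfsg.Agent.Lib.H25.NormalSeries
import Cfsg.Agent.Lib.H25.Alperin

set_option autoImplicit false
open Cfsg

namespace Cfsg.Agent.S5157

open Cfsg.FusionSystem Cfsg.Agent.Lib.H25
open scoped commutatorElement

section

variable {Ω : Type*} [Group Ω] {S : Subgroup Ω}

/-- A strongly closed subgroup is normal in `S`. -/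
theorem normal_of_stronglyClosed {F : FusionSystem S} {R : Subgroup Ω} (hR : F.StronglyClosed R) :
    (R.subgroupOf S).Normal := by
  constructor
  intro n hn g
  rw [Subgroup.mem_subgroupOf] at hn ⊢
  exact stronglyClosed_conj_mem hR g.2 hn

/-- A chain of strongly closed subgroups from `R` to `S` with abelian factors. -/
def IsChain (F : FusionSystem S) (R : Subgroup Ω) (n : ℕ) (T : Fin (n + 1) → Subgroup Ω) : Prop :=
  T 0 = R ∧ T (Fin.last n) = S ∧ (∀ i : Fin n, T i.castSucc ≤ T i.succ) ∧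
    (∀ i, F.StronglyClosed (T i)) ∧ ∀ i : Fin n, ⁅T i.succ, T i.succ⁆ ≤ T i.castSucc

theorem chain_cons {F : FusionSystem S} {R R' : Subgroup Ω} (hR : F.StronglyClosed R)
    (hRR' : R ≤ R') (hab : ⁅R', R'⁆ ≤ R) {n : ℕ} {T : Fin (n + 1) → Subgroup Ω}
    (h : IsChain F R' n T) :
    IsChain F R (n + 1) (Fin.cons R T : Fin (n + 1 + 1) → Subgroup Ω) := by
  obtain ⟨h0, hl, hm, hs, hc⟩ := h
  refine ⟨Fin.cons_zero _ _, ?_, ?_, ?_, ?_⟩
  · rw [← Fin.succ_last, Fin.cons_succ]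
    exact hl
  · intro i
    refine Fin.cases ?_ (fun j => ?_) i
    · rw [Fin.castSucc_zero, Fin.cons_zero, Fin.cons_succ, h0]
      exact hRR'
    · rw [← Fin.succ_castSucc, Fin.cons_succ, Fin.cons_succ]
      exact hm j
  · intro i
    refine Fin.cases ?_ (fun j => ?_) i
    · rw [Fin.cons_zero]; exact hR
    · rw [Fin.cons_succ]; exact hs j
  · intro i
    refine Fin.cases ?_ (fun j => ?_) i
    · rw [Fin.castSucc_zero, Fin.cons_zero, Fin.cons_succ, h0]
      exact hab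
    · rw [← Fin.succ_castSucc, Fin.cons_succ, Fin.cons_succ]
      exact hc j

variable [Finite S] {p : ℕ} [Fact p.Prime]

theorem exists_chain (hS : IsPGroup p S) {F : FusionSystem S} (hF : F.IsSaturated p)
    (hsol : F.IsSolvableSystem) :
    ∀ k : ℕ, ∀ R : Subgroup Ω, F.StronglyClosed R → Nat.card S - Nat.card R = k →
      ∃ (n : ℕ) (T : Fin (n + 1) → Subgroup Ω), IsChain F R n T := by
  intro k
  induction k using Nat.strong_induction_on with
  | _ k ih =>
    intro R hR hk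
    by_cases hRS : R = S
    · refine ⟨0, fun _ => S, hRS.symm, rfl, fun i => i.elim0, fun _ => stronglyClosed_self F,
        fun i => i.elim0⟩
    · haveI := normal_of_stronglyClosed hR
      obtain ⟨E, hE⟩ := Cfsg.Agent.S5132.result p hS F R hR
      have hsm := Cfsg.Agent.S5134.result p hS F hF R hR _ E hE
      have hEsat := Cfsg.Agent.S5133.result p hS F hF E _ hsm
      have hcore := hsol R hR hRS E hE
      have hpT : IsPGroup p (⊤ : Subgroup (S ⧸ R.subgroupOf S)) :=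
        (hS.to_quotient (R.subgroupOf S)).to_subgroup ⊤
      obtain ⟨Q', hQ'ne, hQ'ab, hQ'sc⟩ := (Cfsg.Agent.S5089.result p hpT E hEsat).1 hcore
      have hker := hE.2.1
      have hT'sc := pre_stronglyClosed hsm.1 hQ'sc
      have hRT' : R ≤ preimageAlong (QuotientGroup.mk' (R.subgroupOf S)) Q' := by
        intro x hx
        rw [mem_preimageAlong_iff]
        refine ⟨hR.1 hx, ?_⟩
        rw [(hker ⟨x, hR.1 hx⟩).2 hx]
        exact Q'.one_mem
      have hne : R ≠ preimageAlong (QuotientGroup.mk' (R.subgroupOf S)) Q' := by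
        intro heq
        apply hQ'ne
        rw [eq_bot_iff]
        intro y hy
        obtain ⟨s, rfl⟩ := QuotientGroup.mk'_surjective (R.subgroupOf S) y
        have hs : (s : Ω) ∈ preimageAlong (QuotientGroup.mk' (R.subgroupOf S)) Q' :=
          (mem_preimageAlong_iff _ _ _).2 ⟨s.2, hy⟩
        rw [← heq] at hs
        rw [Subgroup.mem_bot]
        exact (hker s).2 hs
      have hab : ⁅preimageAlong (QuotientGroup.mk' (R.subgroupOf S)) Q',
          preimageAlong (QuotientGroup.mk' (R.subgroupOf S)) Q'⁆ ≤ R := by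
        rw [Subgroup.commutator_le]
        intro x hx y hy
        obtain ⟨hxS, hx'⟩ := (mem_preimageAlong_iff _ _ _).1 hx
        obtain ⟨hyS, hy'⟩ := (mem_preimageAlong_iff _ _ _).1 hy
        have hmem : ⁅x, y⁆ ∈ S := by
          rw [commutatorElement_def]
          exact S.mul_mem (S.mul_mem (S.mul_mem hxS hyS) (S.inv_mem hxS)) (S.inv_mem hyS)
        apply (hker ⟨⁅x, y⁆, hmem⟩).1
        have h1 : (⟨⁅x, y⁆, hmem⟩ : S) = ⁅(⟨x, hxS⟩ : S), ⟨y, hyS⟩⁆ := Subtype.ext (by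
          simp [commutatorElement_def])
        rw [h1, map_commutatorElement, commutatorElement_eq_one_iff_mul_comm]
        exact congrArg Subtype.val (hQ'ab.is_comm.comm (⟨_, hx'⟩ : Q') ⟨_, hy'⟩)
      have hlt : Nat.card R < Nat.card (preimageAlong (QuotientGroup.mk' (R.subgroupOf S)) Q') :=
        card_lt_of_lt' hT'sc.1 (lt_of_le_of_ne hRT' hne)
      have hle : Nat.card (preimageAlong (QuotientGroup.mk' (R.subgroupOf S)) Q') ≤ Nat.card S :=
        Subgroup.card_le_of_le hT'sc.1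
      obtain ⟨n, T, hT⟩ := ih (Nat.card S -
        Nat.card (preimageAlong (QuotientGroup.mk' (R.subgroupOf S)) Q')) (by omega) _ hT'sc rfl
      exact ⟨n + 1, _, chain_cons hR hRT' hab hT⟩

theorem solvable_of_chain (hS : IsPGroup p S) {F : FusionSystem S} (hF : F.IsSaturated p) {n : ℕ}
    {T : Fin (n + 1) → Subgroup Ω} (h0 : T 0 = ⊥) (hlast : T (Fin.last n) = S)
    (hsc : ∀ i, F.StronglyClosed (T i))
    (hab : ∀ i : Fin n, ⁅T i.succ, T i.succ⁆ ≤ T (Fin.castSucc i)) : F.IsSolvableSystem := by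
  intro R hR hRS _ E hE
  have hsm := Cfsg.Agent.S5134.result p hS F hF R hR _ E hE
  have hEsat := Cfsg.Agent.S5133.result p hS F hF E _ hsm
  have hpT : IsPGroup p (⊤ : Subgroup (S ⧸ R.subgroupOf S)) :=
    (hS.to_quotient (R.subgroupOf S)).to_subgroup ⊤
  rw [Cfsg.Agent.S5089.result p hpT E hEsat]
  have hker := hE.2.1
  have hex : ∃ k, ∃ hk : k < n + 1, ¬ T ⟨k, hk⟩ ≤ R := by
    refine ⟨n, Nat.lt_succ_self n, ?_⟩
    have : (⟨n, Nat.lt_succ_self n⟩ : Fin (n + 1)) = Fin.last n := rfl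
    rw [this, hlast]
    intro hle
    exact hRS (le_antisymm hR.1 hle)
  classical
  obtain ⟨hk₀, hnot⟩ := Nat.find_spec hex
  have hmin : ∀ m, m < Nat.find hex → ¬ ∃ hk : m < n + 1, ¬ T ⟨m, hk⟩ ≤ R :=
    fun m hm => Nat.find_min hex hm
  have hk₀pos : Nat.find hex ≠ 0 := by
    intro h
    apply hnot
    have : (⟨Nat.find hex, hk₀⟩ : Fin (n + 1)) = 0 := Fin.ext h
    rw [this, h0]
    exact bot_le
  obtain ⟨j, hj⟩ := Nat.exists_eq_succ_of_ne_zero hk₀pos
  have hjn : j < n := by omega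
  have hsucc : (⟨Nat.find hex, hk₀⟩ : Fin (n + 1)) = (⟨j, hjn⟩ : Fin n).succ := Fin.ext hj
  rw [hsucc] at hnot
  have hcast : T (Fin.castSucc ⟨j, hjn⟩) ≤ R := by
    by_contra hc
    exact hmin j (by omega) ⟨by omega, hc⟩
  have hUsc := hsc (⟨j, hjn⟩ : Fin n).succ
  have hUab := (hab ⟨j, hjn⟩).trans hcast
  obtain ⟨U, hU⟩ : ∃ U, U = T (⟨j, hjn⟩ : Fin n).succ := ⟨_, rfl⟩
  rw [← hU] at hnot hUsc hUab
  refine ⟨imageAlong (QuotientGroup.mk' (R.subgroupOf S)) U, ?_, ?_, image_stronglyClosed hsm hUsc⟩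
  · rw [SetLike.not_le_iff_exists] at hnot
    obtain ⟨u, huU, huR⟩ := hnot
    intro hbot
    apply huR
    have hmem : (QuotientGroup.mk' (R.subgroupOf S)) ⟨u, hUsc.1 huU⟩ ∈
        imageAlong (QuotientGroup.mk' (R.subgroupOf S)) U :=
      (mem_imageAlong_iff _ _ _).2 ⟨u, hUsc.1 huU, huU, rfl⟩
    rw [hbot, Subgroup.mem_bot] at hmem
    exact (hker _).1 hmem
  · refine ⟨⟨fun a b => Subtype.ext ?_⟩⟩
    obtain ⟨x, hxS, hxU, hxa⟩ := (mem_imageAlong_iff _ _ _).1 a.2
    obtain ⟨y, hyS, hyU, hyb⟩ := (mem_imageAlong_iff _ _ _).1 b.2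
    show (a : S ⧸ R.subgroupOf S) * b = b * a
    rw [← hxa, ← hyb, ← commutatorElement_eq_one_iff_mul_comm, ← map_commutatorElement]
    apply (hker _).2
    have h1 : ((⁅(⟨x, hxS⟩ : S), ⟨y, hyS⟩⁆ : S) : Ω) = ⁅x, y⁆ := by
      simp [commutatorElement_def]
    rw [h1]
    exact hUab (Subgroup.commutator_mem_commutator hxU hyU)

end

/-- A saturated fusion system F over a finite p-group S is solvable (for every subgroup R other than S that is strongly closed in F, the factor system of F modulo R has a nontrivial subgroup normal in it) if and only if there is a chain 1 = S₀ ≤ S₁ ≤ ⋯ ≤ Sₘ = S of subgroups strongly closed in F with every quotient Sᵢ₊₁/Sᵢ abelian. -/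
theorem result {Ω : Type*} [Group Ω] {S : Subgroup Ω} [Finite S] (p : ℕ) [Fact p.Prime] (hS : IsPGroup p S) (F : Cfsg.FusionSystem S) (hF : F.IsSaturated p) : F.IsSolvableSystem ↔ ∃ (n : ℕ) (T : Fin (n + 1) → Subgroup Ω), T 0 = ⊥ ∧ T (Fin.last n) = S ∧ Monotone T ∧ (∀ i, F.StronglyClosed (T i)) ∧ ∀ i : Fin n, ⁅T i.succ, T i.succ⁆ ≤ T (Fin.castSucc i) := by
  constructor
  · intro hsol
    obtain ⟨n, T, h0, hl, hm, hs, hc⟩ := exists_chain hS hF hsol _ ⊥ (stronglyClosed_bot F) rfl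
    exact ⟨n, T, h0, hl, Fin.monotone_iff_le_succ.2 hm, hs, hc⟩
  · rintro ⟨n, T, h0, hl, -, hs, hc⟩
    exact solvable_of_chain hS hF h0 hl hs hc

end Cfsg.Agent.S5157
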