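import Cfsg.Statements.S5158
import Cfsg.Agent.S5157
import Cfsg.Agent.S5145
import Cfsg.Agent.Lib.H25.NormalSeries

set_option autoImplicit false
open Cfsg

namespace Cfsg.Agent.S5158

open Cfsg.FusionSystem Cfsg.Agent.Lib.H25
open scoped commutatorElement Pointwise

section

variable {Ω : Type*} [Group Ω] {S : Subgroup Ω}

theorem inf_stronglyClosed {F : FusionSystem S} {A B : Subgroup Ω} (hA : F.StronglyClosed A)
    (hB : F.StronglyClosed B) : F.StronglyClosed (A ⊓ B) :=
  ⟨inf_le_left.trans hA.1, fun R hR φ hφ x =>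
    ⟨hA.2 R (hR.trans inf_le_left) φ hφ x, hB.2 R (hR.trans inf_le_right) φ hφ x⟩⟩

/-- The centralizer in `S` of a subgroup normal in the system is strongly closed. -/
theorem centralizerIn_stronglyClosed {F : FusionSystem S} {Q : Subgroup Ω} (hQ : F.IsNormal Q) :
    F.StronglyClosed (centralizerIn S Q) := by
  refine ⟨inf_le_left, fun R hR φ hφ x => ?_⟩
  obtain ⟨g, hg, hgφ, hgQ⟩ := isNormal_exists_ext hQ (isIso_of_mem F hφ)
  refine ⟨hom_mem_S F hφ x, ?_⟩
  show φ x ∈ Subgroup.centralizer (Q : Set Ω)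
  rw [Subgroup.mem_centralizer_iff]
  intro q hq
  obtain ⟨q', hq', rfl⟩ := hgQ.surjOn hq
  have hx : g x = φ x := by rw [hgφ x x.2, ext1_apply]
  rw [← hx]
  have hxRQ : (x : Ω) ∈ R ⊔ Q := Subgroup.mem_sup_left x.2
  have hq'RQ : q' ∈ R ⊔ Q := Subgroup.mem_sup_right hq'
  rw [← hg.map_mul hq'RQ hxRQ, ← hg.map_mul hxRQ hq'RQ]
  congr 1
  have hxc : (x : Ω) ∈ Subgroup.centralizer (Q : Set Ω) := (hR x.2).2
  exact Subgroup.mem_centralizer_iff.1 hxc q' hq'

/-- The product of a subgroup normal in the system and a strongly closed subgroup is strongly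
closed. -/
theorem sup_stronglyClosed {F : FusionSystem S} {Q D : Subgroup Ω} (hQ : F.IsNormal Q)
    (hD : F.StronglyClosed D) : F.StronglyClosed (Q ⊔ D) := by
  have hQsc := isNormal_stronglyClosed hQ
  have hQn : S ≤ Subgroup.normalizer (Q : Set Ω) := stronglyClosed_le_normalizer hQsc
  refine ⟨sup_le hQ.1 hD.1, fun R hR φ hφ x => ?_⟩
  obtain ⟨g, hg, hgφ, hgQ⟩ := isNormal_exists_ext hQ (isIso_of_mem F hφ)
  have hx : g x = φ x := by rw [hgφ x x.2, ext1_apply]
  rw [← hx]
  have hxQD : (x : Ω) ∈ (↑(Q ⊔ D) : Set Ω) := hR x.2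
  rw [Subgroup.coe_mul_of_right_le_normalizer_left Q D (hD.1.trans hQn)] at hxQD
  obtain ⟨q, hq, d, hd, hqd⟩ := hxQD
  have hdRQ : d ∈ R ⊔ Q := by
    have : d = q⁻¹ * x := by rw [← hqd]; group
    rw [this]
    exact Subgroup.mul_mem _ (Subgroup.mem_sup_right (Q.inv_mem hq)) (Subgroup.mem_sup_left x.2)
  rw [← hqd, hg.map_mul (Subgroup.mem_sup_right hq) hdRQ]
  refine Subgroup.mul_mem _ (Subgroup.mem_sup_left (hgQ.map_mem hq)) (Subgroup.mem_sup_right ?_)
  obtain ⟨R', -, hiso', -⟩ := hg.restrict (inf_le_left : (R ⊔ Q) ⊓ D ≤ R ⊔ Q)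
  exact stronglyClosed_map_mem hD hiso' inf_le_right ⟨hdRQ, hd⟩

/-- Commutators in a product with a central factor. -/
theorem commutator_central_mul {z d z' d' : Ω} (h1 : z * d = d * z) (h2 : z * z' = z' * z)
    (h3 : z * d' = d' * z) (h4 : z' * d = d * z') (h5 : z' * d' = d' * z') :
    ⁅z * d, z' * d'⁆ = ⁅d, d'⁆ := by
  have e1 : (z * d) * (z' * d') = (z * z') * (d * d') := by
    rw [mul_assoc, ← mul_assoc d z' d', ← h4, mul_assoc z' d d', ← mul_assoc]
  have e2 : (z' * d') * (z * d) = (z * z') * (d' * d) := by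
    rw [mul_assoc, ← mul_assoc d' z d, ← h3, mul_assoc z d' d, ← mul_assoc, h2]
  have ct_d : Commute (z * z') d := Commute.mul_left (show Commute z d from h1) (show Commute z' d from h4)
  have ct_d' : Commute (z * z') d' :=
    Commute.mul_left (show Commute z d' from h3) (show Commute z' d' from h5)
  have cw : Commute (z * z') (d * d' * d⁻¹ * d'⁻¹) :=
    ((ct_d.mul_right ct_d').mul_right ct_d.inv_right).mul_right ct_d'.inv_right
  rw [commutatorElement_def]
  have e3 : (z * d) * (z' * d') * (z * d)⁻¹ * (z' * d')⁻¹ =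
      (z * d) * (z' * d') * ((z' * d') * (z * d))⁻¹ := by group
  rw [e3, e1, e2, commutatorElement_def]
  have e4 : (z * z') * (d * d') * ((z * z') * (d' * d))⁻¹ =
      (z * z') * (d * d' * d⁻¹ * d'⁻¹) * (z * z')⁻¹ := by group
  rw [e4, cw.eq, mul_inv_cancel_right]

variable [Finite S] {p : ℕ} [Fact p.Prime]

/-- The key step: a strongly closed subgroup centralizing `Q ⊴ F` with derived subgroup in `Q`
generates with `Z(Q)` a subgroup normal in the system. -/
theorem key (hS : IsPGroup p S) {F : FusionSystem S} (hF : F.IsSaturated p) {Q D : Subgroup Ω}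
    (hQ : F.IsNormal Q) (hD : F.StronglyClosed D) (hDC : D ≤ centralizerIn S Q)
    (hab : ⁅D, D⁆ ≤ Q) : F.IsNormal ((Q ⊓ centralizerIn S Q) ⊔ D) := by
  obtain ⟨Z, hZdef⟩ : ∃ Z, Z = Q ⊓ centralizerIn S Q := ⟨_, rfl⟩
  rw [← hZdef]
  have hZQ : Z ≤ Q := hZdef ▸ inf_le_left
  have hZC : Z ≤ Subgroup.centralizer (Q : Set Ω) := by
    rw [hZdef]; exact inf_le_right.trans inf_le_right
  have hDcen : D ≤ Subgroup.centralizer (Q : Set Ω) := hDC.trans inf_le_right
  have hZsc : F.StronglyClosed Z := by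
    rw [hZdef]
    exact inf_stronglyClosed (isNormal_stronglyClosed hQ) (centralizerIn_stronglyClosed hQ)
  -- elements of `Z` commute with those of `Z` and of `D`
  have hcomm : ∀ z ∈ Z, ∀ y, y ∈ Z ∨ y ∈ D → z * y = y * z := by
    intro z hz y hy
    rcases hy with hy | hy
    · exact Subgroup.mem_centralizer_iff.1 (hZC hy) z (hZQ hz)
    · exact Subgroup.mem_centralizer_iff.1 (hDcen hy) z (hZQ hz)
  have hZn : F.IsNormal Z := by
    refine isNormal_of_series hS hF (fun i => if i = 0 then ⊥ else Z) 1 rfl rfl ?_ ?_ ?_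
    · intro i hi
      have : i = 0 := by omega
      subst this
      exact bot_le
    · intro i hi
      by_cases h0 : i = 0
      · subst h0; exact stronglyClosed_bot F
      · show F.StronglyClosed (if i = 0 then ⊥ else Z)
        rw [if_neg h0]; exact hZsc
    · intro i hi
      have : i = 0 := by omega
      subst this
      show ⁅Z, Z⁆ ≤ ⊥
      rw [le_bot_iff, Subgroup.commutator_eq_bot_iff_le_centralizer]
      intro z hz
      rw [Subgroup.mem_centralizer_iff]
      intro y hy
      exact (hcomm z hz y (Or.inl hy)).symm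
  have hMsc := sup_stronglyClosed hZn hD
  have hDn : D ≤ Subgroup.normalizer (Z : Set Ω) :=
    hD.1.trans (stronglyClosed_le_normalizer hZsc)
  have hmul : ∀ x ∈ Z ⊔ D, ∃ z ∈ Z, ∃ d ∈ D, z * d = x := by
    intro x hx
    have hx' : x ∈ (↑(Z ⊔ D) : Set Ω) := hx
    rw [Subgroup.coe_mul_of_right_le_normalizer_left Z D hDn] at hx'
    obtain ⟨z, hz, d, hd, hzd⟩ := hx'
    exact ⟨z, hz, d, hd, hzd⟩
  refine isNormal_of_series hS hF (fun i => if i = 0 then ⊥ else if i = 1 then Z else Z ⊔ D) 2
    rfl rfl ?_ ?_ ?_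
  · intro i hi
    interval_cases i
    · exact bot_le
    · exact le_sup_left
  · intro i hi
    interval_cases i
    · exact stronglyClosed_bot F
    · exact hZsc
    · exact hMsc
  · intro i hi
    interval_cases i
    · show ⁅Z ⊔ D, Z⁆ ≤ ⊥
      rw [le_bot_iff, Subgroup.commutator_eq_bot_iff_le_centralizer]
      refine sup_le ?_ ?_
      · intro z hz
        rw [Subgroup.mem_centralizer_iff]
        intro y hy
        exact (hcomm z hz y (Or.inl hy)).symm
      · intro d hd
        rw [Subgroup.mem_centralizer_iff]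
        intro y hy
        exact hcomm y hy d (Or.inr hd)
    · show ⁅Z ⊔ D, Z ⊔ D⁆ ≤ Z
      rw [Subgroup.commutator_le]
      intro x hx y hy
      obtain ⟨z, hz, d, hd, rfl⟩ := hmul x hx
      obtain ⟨z', hz', d', hd', rfl⟩ := hmul y hy
      rw [commutator_central_mul (hcomm z hz d (Or.inr hd)) (hcomm z hz z' (Or.inl hz'))
        (hcomm z hz d' (Or.inr hd')) (hcomm z' hz' d (Or.inr hd)) (hcomm z' hz' d' (Or.inr hd'))]
      have h1 : ⁅d, d'⁆ ∈ ⁅D, D⁆ := Subgroup.commutator_mem_commutator hd hd'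
      have h2 : ⁅d, d'⁆ ∈ D := by
        rw [commutatorElement_def]
        exact D.mul_mem (D.mul_mem (D.mul_mem hd hd') (D.inv_mem hd)) (D.inv_mem hd')
      rw [hZdef]
      exact ⟨hab h1, hDC h2⟩

end

/-- A solvable saturated fusion system over a finite p-group (solvable: for every subgroup R other than S that is strongly closed in F, the factor system of F modulo R has a nontrivial subgroup normal in it) is constrained. -/
theorem result {Ω : Type*} [Group Ω] {S : Subgroup Ω} [Finite S] (p : ℕ) [Fact p.Prime] (hS : IsPGroup p S) (F : Cfsg.FusionSystem S) (hF : F.IsSaturated p) (h : F.IsSolvableSystem) : F.IsConstrained p := by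
  have hQ : F.IsNormal F.core := Cfsg.Agent.S5145.result F
  refine ⟨hF, F.core, hQ, ?_⟩
  obtain ⟨n, T, h0, hl, -, hsc, hab⟩ := (Cfsg.Agent.S5157.result p hS F hF).1 h
  have hCsc := centralizerIn_stronglyClosed hQ
  have hstep : ∀ D : Subgroup Ω, F.StronglyClosed D → D ≤ centralizerIn S F.core →
      ⁅D, D⁆ ≤ F.core → D ≤ F.core := by
    intro D hD hDC hDab
    have hM := key hS hF hQ hD hDC hDab
    exact le_sup_right.trans (le_sSup hM)
  have hself : ∀ A : Subgroup Ω, ⁅A, A⁆ ≤ A := by
    intro A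
    rw [Subgroup.commutator_le]
    intro a ha b hb
    rw [commutatorElement_def]
    exact A.mul_mem (A.mul_mem (A.mul_mem ha hb) (A.inv_mem ha)) (A.inv_mem hb)
  have hind : ∀ i : Fin (n + 1), centralizerIn S F.core ⊓ T i ≤ F.core := by
    intro i
    induction i using Fin.induction with
    | zero => rw [h0, inf_bot_eq]; exact bot_le
    | succ i ih =>
      apply hstep _ (inf_stronglyClosed hCsc (hsc _)) inf_le_left
      refine le_trans (le_inf ?_ ?_) ih
      · exact (Subgroup.commutator_mono inf_le_left inf_le_left).trans (hself _)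
      · exact (Subgroup.commutator_mono inf_le_right inf_le_right).trans (hab i)
  have hCQ : centralizerIn S F.core ≤ F.core := by
    have := hind (Fin.last n)
    rw [hl] at this
    exact (le_inf le_rfl inf_le_left).trans this
  have hsc' := isNormal_stronglyClosed hQ
  refine ⟨hQ.1, fun Q₂ hconj => ?_⟩
  obtain ⟨f, hf⟩ := (isConj_iff F).1 hconj
  have hself' := stronglyClosed_isIso_self hsc' hf le_rfl
  have hQ₂ : Q₂ = F.core := by
    ext y
    constructor
    · intro hy
      obtain ⟨x, hx, rfl⟩ := hf.surjOn hy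
      exact hself'.map_mem hx
    · intro hy
      obtain ⟨x, hx, rfl⟩ := hself'.surjOn hy
      exact hf.map_mem hx
  rw [hQ₂]
  exact hCQ

end Cfsg.Agent.S5158
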