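import Cfsg.Statements.S5160
import Cfsg.Agent.S5119
import Cfsg.Agent.Lib.H26.GroupSaturated
import Cfsg.Agent.Lib.H26.SubsystemExt
import Cfsg.Agent.Lib.H25.SatEquiv

set_option autoImplicit false
open Cfsg

namespace Cfsg.Agent.S5160

open Cfsg.Agent.Lib.H25 Cfsg.FusionSystem

section general

variable {Ω : Type*} [Group Ω] {S : Subgroup Ω}

/-- For `E` invariant in the saturated system `F` (both over `S`), `Aut_E(R)` is normalized by
`Aut_F(R)`. -/
theorem normal_aut [Finite S] {p : ℕ} [Fact p.Prime] (hS : IsPGroup p S) {F E : FusionSystem S}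
    (hF : F.IsSaturated p) (hinv : E.IsInvariantIn F) {R : Subgroup Ω} (hR : R ≤ S)
    {a b : MulAut R} (ha : a ∈ F.autGroup R) (hb : b ∈ E.autGroup R) :
    a * b * a⁻¹ ∈ E.autGroup R := by
  have hSI : Cfsg.Agent.S5119.SI F E := (Cfsg.Agent.S5119.result p hS F hF E hinv.1 hinv.2.1).1 hinv
  have hf := isIso_of_mem_autGroup E hR hb
  have hg := isIso_of_mem_autGroup F hR ha
  obtain ⟨χ, R', R₁, hχ, hR', hχv⟩ := hSI.fn le_rfl le_rfl hR hf hg
  have hRR : R' = R := by
    ext y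
    rw [hR']
    constructor
    · rintro ⟨x, hx, rfl⟩
      exact hg.map_mem hx
    · intro hy
      obtain ⟨x, hx, hxy⟩ := hg.surjOn hy
      exact ⟨x, hx, hxy⟩
  subst hRR
  -- χ = a b a⁻¹ on R'
  have hχx : ∀ x : R', χ (x : Ω) = (((a * b * a⁻¹) x : R') : Ω) := by
    intro x
    have h1 := hχv ((a⁻¹ x : R') : Ω) (a⁻¹ x).2
    rw [ext1_apply_mem _ (a⁻¹ x).2, ext1_apply_mem _ (a⁻¹ x).2] at h1
    simp only [MonoidHom.coe_comp, Subgroup.coe_subtype, Function.comp_apply,
      MulEquiv.coe_toMonoidHom, Subtype.coe_eta, MulAut.apply_inv_self] at h1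
    rw [h1, ext1_apply_mem _ (b (a⁻¹ x)).2]
    simp
  have hχR : IsIso E R' R' χ := by
    refine hχ.restrict' le_rfl (fun x hx => ?_) (fun y hy => ?_)
    · rw [hχx ⟨x, hx⟩]
      exact ((a * b * a⁻¹) ⟨x, hx⟩).2
    · refine ⟨(((a * b * a⁻¹)⁻¹ ⟨y, hy⟩ : R') : Ω), ((a * b * a⁻¹)⁻¹ ⟨y, hy⟩).2, ?_⟩
      rw [hχx]
      simp
  obtain ⟨k, hk, hkv⟩ := exists_mem_autGroup_of_isIso E hχR
  have : k = a * b * a⁻¹ := by
    ext x
    rw [hkv, hχx]
  rwa [this] at hk

/-- A `p`-element of `Aut_F(R)`, for `R` fully normalized, lies in `Aut_E(R)`. -/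
theorem pElement_mem [Finite S] {p : ℕ} [Fact p.Prime] (hS : IsPGroup p S) {F E : FusionSystem S}
    (hF : F.IsSaturated p) (hinv : E.IsInvariantIn F) {R : Subgroup Ω}
    (hRfn : F.IsFullyNormalized R) {α : MulAut R} (hα : α ∈ F.autGroup R) {k : ℕ}
    (hk : α ^ p ^ k = 1) : α ∈ E.autGroup R := by
  have hR : R ≤ S := hRfn.1
  have hfa := (fullyNormalized_props hS hF hRfn).2
  have hK : IsPGroup p (Subgroup.zpowers α) := by
    intro x
    obtain ⟨j, hj⟩ := Subgroup.mem_zpowers_iff.1 x.2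
    refine ⟨k, Subtype.ext ?_⟩
    show (x : MulAut R) ^ p ^ k = 1
    rw [← hj, ← zpow_natCast, ← zpow_mul, mul_comm, zpow_mul, zpow_natCast, hk, one_zpow]
  obtain ⟨a, ha, hak⟩ := IsFullyAutomized_exists_conj hfa (Subgroup.zpowers α) hK
    ((Subgroup.zpowers_le).2 hα)
  have h1 : a * α * a⁻¹ ∈ E.autGroup R :=
    autInducedBy_le_autGroup E hR (hak α (Subgroup.mem_zpowers α))
  have h2 := normal_aut hS hF hinv hR ((F.autGroup R).inv_mem ha) h1
  have h3 : a⁻¹ * (a * α * a⁻¹) * a⁻¹⁻¹ = α := by group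
  rwa [h3] at h2

end general

section grp

variable {G : Type*} [Group G]

/-- Conjugation by an element of `N_G(R)` as an isomorphism of `F_S(G)`. -/
theorem isIso_conj_group {S R : Subgroup G} (hR : R ≤ S) {g : G}
    (hg : g ∈ Subgroup.normalizer (R : Set G)) :
    IsIso (groupFusionSystem S) R R (fun x => g * x * g⁻¹) := by
  refine ⟨conjHom R g, ⟨hR, fun x => hR ?_, g, fun x => rfl⟩, fun x => rfl, ?_⟩
  · exact (Subgroup.mem_normalizer_iff.1 hg _).1 x.2
  · ext y
    constructor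
    · rintro ⟨x, rfl⟩
      exact (Subgroup.mem_normalizer_iff.1 hg _).1 x.2
    · intro hy
      have hg' : g⁻¹ ∈ Subgroup.normalizer (R : Set G) := Subgroup.inv_mem _ hg
      have h1 : g⁻¹ * y * g⁻¹⁻¹ ∈ R := (Subgroup.mem_normalizer_iff.1 hg' _).1 hy
      refine ⟨⟨g⁻¹ * y * g⁻¹⁻¹, h1⟩, ?_⟩
      show g * (g⁻¹ * y * g⁻¹⁻¹) * g⁻¹ = y
      group

/-- The subgroup of `N_G(R)` of elements whose conjugation action on `R` lies in `Aut_E(R)`. -/
def M {S : Subgroup G} (E : FusionSystem S) (R : Subgroup G) : Subgroup G where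
  carrier := {g | ∃ α ∈ E.autGroup R, ∀ x : R, ((α x : R) : G) = g * x * g⁻¹}
  one_mem' := ⟨1, Subgroup.one_mem _, fun x => by simp⟩
  mul_mem' := by
    rintro g h ⟨α, hα, hαv⟩ ⟨β, hβ, hβv⟩
    refine ⟨α * β, Subgroup.mul_mem _ hα hβ, fun x => ?_⟩
    rw [MulAut.mul_apply, hαv, hβv]
    group
  inv_mem' := by
    rintro g ⟨α, hα, hαv⟩
    refine ⟨α⁻¹, Subgroup.inv_mem _ hα, fun x => ?_⟩
    have h1 := hαv (α⁻¹ x)
    rw [MulAut.apply_inv_self] at h1
    rw [h1]
    group

theorem mem_M {S : Subgroup G} (E : FusionSystem S) (R : Subgroup G) (g : G) :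
    g ∈ M E R ↔ ∃ α ∈ E.autGroup R, ∀ x : R, ((α x : R) : G) = g * x * g⁻¹ := Iff.rfl

end grp

/-- Let G be a finite group with nontrivial Sylow p-subgroup S and F its fusion system on S. Suppose (a) no nontrivial proper subgroup of S is strongly closed in F, and (b) the automorphisms of S induced by G are generated by those induced, for R running over the fully normalized radical centric subgroups of F, by the subgroup of N_G(R) generated by its elements of p-power order. Then F is simple. -/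
theorem result {G : Type*} [Group G] [Finite G] (p : ℕ) [Fact p.Prime] (S : Sylow p G) (hS1 : (S : Subgroup G) ≠ ⊥) (ha : ∀ T : Subgroup G, (Cfsg.groupFusionSystem (S : Subgroup G)).StronglyClosed T → T = ⊥ ∨ T = (S : Subgroup G)) (hb : Cfsg.autInducedBy ⊤ (S : Subgroup G) = ⨆ (R : Subgroup G) (_ : (Cfsg.groupFusionSystem (S : Subgroup G)).IsFullyNormalized R ∧ (Cfsg.groupFusionSystem (S : Subgroup G)).IsRadical p R ∧ (Cfsg.groupFusionSystem (S : Subgroup G)).IsCentric R), Cfsg.autInducedBy (Subgroup.closure {g : G | g ∈ Subgroup.normalizer (R : Set G) ∧ ∃ k : ℕ, orderOf g = p ^ k}) (S : Subgroup G)) : (Cfsg.groupFusionSystem (S : Subgroup G)).IsSimple p := by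
  have hSp : IsPGroup p (S : Subgroup G) := S.isPGroup'
  have hF := Cfsg.Agent.Lib.H26.groupFusionSystem_isSaturated S
  refine ⟨hF, hS1, fun T E hE => ?_⟩
  obtain ⟨⟨hEs, -, hinv⟩, -⟩ := hE
  rcases ha T hinv.2.1 with hT | hT
  · exact Or.inl hT
  refine Or.inr ⟨hT, ?_⟩
  subst hT
  set F := groupFusionSystem (S : Subgroup G) with hFdef
  have hle : E ≤ F := hinv.1
  -- key: Aut_F(S) ≤ Aut_E(S)
  have key : F.autGroup (S : Subgroup G) ≤ E.autGroup (S : Subgroup G) := by
    rw [hFdef, Cfsg.Agent.Lib.H26.groupFusionSystem_autGroup_eq le_rfl, hb]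
    refine iSup_le fun R => iSup_le fun hR => ?_
    obtain ⟨hRfn, -, hRc⟩ := hR
    have hRS : R ≤ (S : Subgroup G) := hRfn.1
    unfold autInducedBy
    rw [Subgroup.closure_le]
    rintro α₀ ⟨g, hg, hα₀⟩
    -- g ∈ M E R
    have hgM : g ∈ M E R := by
      have hcl : Subgroup.closure {g : G | g ∈ Subgroup.normalizer (R : Set G) ∧
          ∃ k : ℕ, orderOf g = p ^ k} ≤ M E R := by
        rw [Subgroup.closure_le]
        rintro h ⟨hhN, k, hk⟩
        obtain ⟨α, hα, hαv⟩ := exists_mem_autGroup_of_isIso F (isIso_conj_group hRS hhN)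
        have hpow : ∀ n : ℕ, ∀ x : R, (((α ^ n) x : R) : G) = h ^ n * x * (h ^ n)⁻¹ := by
          intro n
          induction n with
          | zero => intro x; simp
          | succ n ih =>
            intro x
            rw [pow_succ, MulAut.mul_apply, ih, hαv, pow_succ]
            group
        have hαk : α ^ p ^ k = 1 := by
          ext x
          rw [hpow, ← hk, pow_orderOf_eq_one]
          simp
        exact ⟨α, pElement_mem hSp hF hinv hRfn hα hαk, hαv⟩
      exact hcl hg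
    obtain ⟨α, hα, hαv⟩ := hgM
    have hER : IsIso E R R (fun x => g * x * g⁻¹) :=
      (isIso_of_mem_autGroup E hRS hα).congr (fun x hx => by
        rw [ext1_apply_mem _ hx]
        exact hαv ⟨x, hx⟩)
    have hα₀F : α₀ ∈ F.autGroup (S : Subgroup G) := by
      rw [hFdef, Cfsg.Agent.Lib.H26.groupFusionSystem_autGroup_eq le_rfl]
      exact Subgroup.subset_closure ⟨g, Subgroup.mem_top g, hα₀⟩
    have hFS : IsIso F (S : Subgroup G) (S : Subgroup G) (fun x => g * x * g⁻¹) :=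
      (isIso_of_mem_autGroup F le_rfl hα₀F).congr (fun x hx => by
        rw [ext1_apply_mem _ hx]
        exact hα₀ ⟨x, hx⟩)
    have hES := Cfsg.Agent.Lib.H26.isIso_of_restrict_centric hSp hF hEs hle hFS hRS hRc hER
    obtain ⟨β, hβ, hβv⟩ := exists_mem_autGroup_of_isIso E hES
    have : β = α₀ := by
      ext x
      rw [hβv, hα₀]
    rwa [this] at hβ
  intro P
  apply Set.Subset.antisymm (hinv.1 P)
  intro φ hφ
  have hPS : P ≤ (S : Subgroup G) := (F.le_of_mem hφ).1
  obtain ⟨α, hα, φ₀, hφ₀, hv⟩ := hinv.2.2.2 P hPS φ hφ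
  have hαE := key hα
  rw [mem_autGroup_iff E le_rfl] at hαE
  have hmem : ∀ x : P, φ₀ x ∈ (S : Subgroup G) := (E.le_of_mem hφ₀).2
  have hcomp := E.comp_mem hφ₀ hαE hmem
  have : ((S : Subgroup G).subtype.comp α.toMonoidHom).comp (φ₀.codRestrict _ hmem) = φ := by
    ext x
    exact (hv x (hmem x)).symm
  rwa [this] at hcomp

end Cfsg.Agent.S5160
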