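import Cfsg.Statements.S5163
import Cfsg.Agent.Lib.H25.PSLnD

set_option autoImplicit false
open Cfsg

namespace Cfsg.Agent.S5163

open Cfsg.Agent.Lib.H13.AutPSL Cfsg.Agent.Lib.H25.PSLn Cfsg.Agent.Lib.H25.LieCrit
  Cfsg.Agent.Lib.H26 in
/-- For a finite field K of characteristic p and n ≥ 3, the p-fusion system of the projective special linear group PSL_n(K) on a Sylow p-subgroup is simple. -/
theorem result {K : Type*} [Field K] [Fintype K] (p : ℕ) [Fact p.Prime] [CharP K p] (n : ℕ) (hn : 3 ≤ n) (S : Sylow p (Matrix.ProjectiveSpecialLinearGroup (Fin n) K)) : (Cfsg.groupFusionSystem (S : Subgroup (Matrix.ProjectiveSpecialLinearGroup (Fin n) K))).IsSimple p := by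
  have hn2 : 2 ≤ n := by omega
  obtain ⟨g, hg⟩ := exists_conj_sylU S
  have hS : (S : Subgroup (Matrix.ProjectiveSpecialLinearGroup (Fin n) K)) =
      cj g (UTbar : Subgroup (Matrix.ProjectiveSpecialLinearGroup (Fin n) K)) := by
    ext x
    rw [mem_cj]
    exact hg x
  have hne : (UTbar : Subgroup (Matrix.ProjectiveSpecialLinearGroup (Fin n) K)) ≠ ⊥ := by
    intro h
    have hlt : i0 hn2 < il hn2 := by
      rw [Fin.lt_def]; show 0 < n - 1; omega
    have hmem : (pr (el (i0 hn2) (il hn2) (i0_ne_il hn2) (1 : K)) :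
        Matrix.ProjectiveSpecialLinearGroup (Fin n) K) ∈
        (UTbar : Subgroup (Matrix.ProjectiveSpecialLinearGroup (Fin n) K)) :=
      Subgroup.mem_map_of_mem _ (el_mem_UT hlt 1)
    rw [h, Subgroup.mem_bot] at hmem
    exact one_notMem_Tbar hn (hmem ▸ pr_el_mem_Tbar (i0_ne_il hn2) one_ne_zero)
  refine isSimple_of_gen_conj S UTbar g hS hne ?_ (normalizer_UTbar_le p hn)
  intro T hT
  by_cases hTb : T = ⊥
  · exact Or.inl hTb
  · exact Or.inr (stronglyClosed_eq p hn T hT hTb)

end Cfsg.Agent.S5163
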