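import Cfsg.Statements.S5164
import Mathlib

set_option autoImplicit false
open Cfsg

namespace Cfsg.Agent.S5164

open Equiv


theorem comm_of_card_le {G : Type*} [Group G] {p j : ℕ} [hp : Fact p.Prime] (hj : Nat.card G = p ^ j)
    (hj1 : j ≤ 1) (u v : G) : u * v = v * u := by
  interval_cases j
  · rw [pow_zero] at hj
    have : Subsingleton G := (Nat.card_eq_one_iff_unique.1 hj).1
    exact Subsingleton.elim _ _
  · rw [pow_one] at hj
    have : IsCyclic G := isCyclic_of_prime_card hj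
    exact IsMulCommutative.is_comm.comm u v

/-- A `p`-subgroup of `Perm (Fin n)` with `n < p ^ 2` is commutative. -/
theorem comm_of_small {n p : ℕ} [hp : Fact p.Prime] (hnp : n < p ^ 2) (P : Subgroup (Perm (Fin n)))
    (hP : IsPGroup p P) (a b : Perm (Fin n)) (ha : a ∈ P) (hb : b ∈ P) : a * b = b * a := by
  classical
  refine Equiv.ext fun x => ?_
  haveI : Fintype ↑(MulAction.orbit ↥P x) := Fintype.ofFinite _
  -- the action of `P` on the orbit of `x`
  let φ := MulAction.toPermHom ↥P ↑(MulAction.orbit ↥P x)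
  have hRp : IsPGroup p φ.range := hP.of_surjective φ.rangeRestrict φ.rangeRestrict_surjective
  -- orbit size
  obtain ⟨k, hk⟩ := hP.card_orbit x
  have hcard_le : Nat.card ↑(MulAction.orbit ↥P x) ≤ n := by
    have := Nat.card_le_card_of_injective (Subtype.val : ↑(MulAction.orbit ↥P x) → Fin n)
      Subtype.val_injective
    simpa using this
  have hk1 : k ≤ 1 := by
    by_contra hk2
    push Not at hk2
    have : p ^ 2 ≤ p ^ k := Nat.pow_le_pow_right hp.out.pos hk2
    omega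
  have hle_p : Nat.card ↑(MulAction.orbit ↥P x) ≤ p := by
    rw [hk]
    calc p ^ k ≤ p ^ 1 := Nat.pow_le_pow_right hp.out.pos hk1
      _ = p := pow_one p
  -- size of the range
  obtain ⟨j, hj⟩ := hRp.exists_card_eq
  have hdvd : Nat.card φ.range ∣ (Nat.card ↑(MulAction.orbit ↥P x)).factorial := by
    have h1 := Subgroup.card_subgroup_dvd_card φ.range
    have h2 : Nat.card (Perm ↑(MulAction.orbit ↥P x)) =
        (Nat.card ↑(MulAction.orbit ↥P x)).factorial := by
      rw [Nat.card_eq_fintype_card, Fintype.card_perm, Nat.card_eq_fintype_card]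
    rwa [h2] at h1
  have hj1 : j ≤ 1 := by
    by_contra hj2
    push Not at hj2
    have h1 : p ^ 2 ∣ (Nat.card ↑(MulAction.orbit ↥P x)).factorial := by
      refine dvd_trans ?_ hdvd
      rw [hj]
      exact pow_dvd_pow p hj2
    have h2 : p ^ 2 ∣ p.factorial := dvd_trans h1 (Nat.factorial_dvd_factorial hle_p)
    rw [← Nat.mul_factorial_pred hp.out.ne_zero, pow_two] at h2
    have h4 : p ∣ (p - 1).factorial := Nat.dvd_of_mul_dvd_mul_left hp.out.pos h2
    have h5 := (Nat.Prime.dvd_factorial hp.out).1 h4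
    have := hp.out.pos
    omega
  -- the range is commutative
  have hcomm := comm_of_card_le hj hj1 (⟨φ ⟨a, ha⟩, ⟨_, rfl⟩⟩ : φ.range) ⟨φ ⟨b, hb⟩, ⟨_, rfl⟩⟩
  have h1 : φ ⟨a, ha⟩ * φ ⟨b, hb⟩ = φ ⟨b, hb⟩ * φ ⟨a, ha⟩ := congrArg Subtype.val hcomm
  have h2 := congrArg (fun σ : Perm ↑(MulAction.orbit ↥P x) =>
    ((σ ⟨x, MulAction.mem_orbit_self x⟩ : ↑(MulAction.orbit ↥P x)) : Fin n)) h1
  exact h2



/-- The group of permutations `(i, j) ↦ (i + s, j + f i)` of `ZMod p × ZMod p` (a wreath product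
`C_p ≀ C_p`). -/
def wr (p : ℕ) : Subgroup (Perm (ZMod p × ZMod p)) where
  carrier := {σ | ∃ (s : ZMod p) (f : ZMod p → ZMod p), ∀ i j, σ (i, j) = (i + s, j + f i)}
  one_mem' := ⟨0, fun _ => 0, fun i j => by simp⟩
  mul_mem' := by
    rintro σ τ ⟨s, f, hσ⟩ ⟨s', f', hτ⟩
    refine ⟨s' + s, fun i => f' i + f (i + s'), fun i j => ?_⟩
    rw [Perm.mul_apply, hτ, hσ]
    ext
    · simp [add_assoc]
    · simp [add_assoc]
  inv_mem' := by
    rintro σ ⟨s, f, hσ⟩
    refine ⟨-s, fun i => -f (i - s), fun i j => ?_⟩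
    rw [Perm.inv_eq_iff_eq, hσ]
    ext
    · simp
    · simp [sub_eq_add_neg]

theorem wr_pow_shift {p : ℕ} {σ : Perm (ZMod p × ZMod p)} {s : ZMod p} {f : ZMod p → ZMod p}
    (hσ : ∀ i j, σ (i, j) = (i + s, j + f i)) (m : ℕ) :
    ∃ g : ZMod p → ZMod p, ∀ i j, (σ ^ m) (i, j) = (i + m • s, j + g i) := by
  induction m with
  | zero => exact ⟨fun _ => 0, fun i j => by simp⟩
  | succ m ih =>
    obtain ⟨g, hg⟩ := ih
    refine ⟨fun i => g i + f (i + m • s), fun i j => ?_⟩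
    rw [pow_succ', Perm.mul_apply, hg, hσ]
    ext
    · simp [add_assoc]; ring
    · simp [add_assoc]

theorem wr_pow_zero_shift {p : ℕ} {τ : Perm (ZMod p × ZMod p)} {g : ZMod p → ZMod p}
    (hτ : ∀ i j, τ (i, j) = (i, j + g i)) (m : ℕ) :
    ∀ i j, (τ ^ m) (i, j) = (i, j + m • g i) := by
  induction m with
  | zero => intro i j; simp
  | succ m ih =>
    intro i j
    rw [pow_succ', Perm.mul_apply, ih, hτ]
    ext
    · simp
    · simp [add_assoc]; ring

theorem wr_isPGroup (p : ℕ) [hp : Fact p.Prime] : IsPGroup p (wr p) := by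
  rintro ⟨σ, s, f, hσ⟩
  refine ⟨2, Subtype.ext ?_⟩
  show σ ^ p ^ 2 = 1
  obtain ⟨g, hg⟩ := wr_pow_shift hσ p
  have hg' : ∀ i j, (σ ^ p) (i, j) = (i, j + g i) := by
    intro i j
    rw [hg]
    simp
  have h2 := wr_pow_zero_shift hg' p
  rw [pow_two, pow_mul]
  ext ⟨i, j⟩ : 1
  rw [h2]
  simp

/-- The shift `(i, j) ↦ (i + 1, j)`. -/
def wrA (p : ℕ) : Perm (ZMod p × ZMod p) where
  toFun x := (x.1 + 1, x.2)
  invFun x := (x.1 - 1, x.2)
  left_inv x := by simp
  right_inv x := by simp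

/-- The shear `(i, j) ↦ (i, j + i)`. -/
def wrB (p : ℕ) : Perm (ZMod p × ZMod p) where
  toFun x := (x.1, x.2 + x.1)
  invFun x := (x.1, x.2 - x.1)
  left_inv x := by simp
  right_inv x := by simp

theorem wrA_mem (p : ℕ) : wrA p ∈ wr p := ⟨1, fun _ => 0, fun i j => by simp [wrA]⟩

theorem wrB_mem (p : ℕ) : wrB p ∈ wr p := ⟨0, fun i => i, fun i j => by simp [wrB]⟩

theorem wrA_wrB_ne (p : ℕ) [hp : Fact p.Prime] : wrA p * wrB p ≠ wrB p * wrA p := by
  intro h
  have h1 := congrArg (fun σ : Perm (ZMod p × ZMod p) => (σ (0, 0)).2) h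
  have : Fact (1 < p) := ⟨hp.out.one_lt⟩
  simp [wrA, wrB] at h1



/-- The isomorphism from `{±1}` onto `Perm (Fin 2)`, as a homomorphism. -/
def eps : ℤˣ →* Perm (Fin 2) :=
  MonoidHom.mk' (fun u => if u = 1 then 1 else Equiv.swap 0 1) (by decide)

theorem sign_eps (u : ℤˣ) : Perm.sign (eps u) = u := by
  revert u
  decide

theorem units_eq_one_of_odd_pow {u : ℤˣ} {m : ℕ} (hm : Odd m) (h : u ^ m = 1) : u = 1 := by
  rcases Int.units_eq_one_or u with h1 | h1
  · exact h1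
  · rw [h1, hm.neg_one_pow] at h
    exact absurd h (by decide)


/-- Transport of a non-commuting pair in a `p`-group of permutations into the alternating group. -/
theorem exists_noncomm_of {n p : ℕ} {α : Type*} (H : Subgroup (Perm α)) (hH : IsPGroup p H)
    {a b : Perm α} (ha : a ∈ H) (hb : b ∈ H) (hab : a * b ≠ b * a) (Θ : Perm α →* Perm (Fin n))
    (hΘ : Function.Injective Θ) (hsign : ∀ σ ∈ H, Perm.sign (Θ σ) = 1) :
    ∃ Q : Subgroup (alternatingGroup (Fin n)), IsPGroup p Q ∧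
      ∃ x ∈ Q, ∃ y ∈ Q, x * y ≠ y * x := by
  have hmem : ∀ σ ∈ H, Θ σ ∈ alternatingGroup (Fin n) := fun σ hσ =>
    Perm.mem_alternatingGroup.2 (hsign σ hσ)
  refine ⟨(H.map Θ).subgroupOf _, (hH.map Θ).comap_subtype, ⟨Θ a, hmem a ha⟩,
    Subgroup.mem_subgroupOf.2 ⟨a, ha, rfl⟩, ⟨Θ b, hmem b hb⟩,
    Subgroup.mem_subgroupOf.2 ⟨b, hb, rfl⟩, ?_⟩
  intro h
  apply hab
  apply hΘ
  rw [map_mul, map_mul]
  exact congrArg Subtype.val h

theorem sign_viaEmbedding {α β : Type*} [Fintype α] [DecidableEq α] [Fintype β] [DecidableEq β]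
    (e : Perm α) (ι : α ↪ β) : Perm.sign (e.viaEmbedding ι) = Perm.sign e := by
  unfold Perm.viaEmbedding
  convert Perm.sign_extendDomain e (ofInjective ι.1 ι.2)

/-- For `p ^ 2 ≤ n` (and `6 ≤ n`) the alternating group of degree `n` has a non-commutative
`p`-subgroup. -/
theorem exists_noncomm (n p : ℕ) [hp : Fact p.Prime] (hn : 6 ≤ n) (hnp : p ^ 2 ≤ n) :
    ∃ Q : Subgroup (alternatingGroup (Fin n)), IsPGroup p Q ∧
      ∃ x ∈ Q, ∃ y ∈ Q, x * y ≠ y * x := by
  haveI : NeZero p := ⟨hp.out.ne_zero⟩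
  by_cases hp2 : p = 2
  · -- `p = 2`: twist by the sign on two extra points
    have hcard : Fintype.card ((ZMod p × ZMod p) ⊕ Fin 2) ≤ Fintype.card (Fin n) := by
      rw [Fintype.card_sum, Fintype.card_prod, ZMod.card, Fintype.card_fin, Fintype.card_fin, hp2]
      omega
    obtain ⟨ι⟩ := Function.Embedding.nonempty_of_card_le hcard
    let Θ₂ : Perm (ZMod p × ZMod p) →* Perm ((ZMod p × ZMod p) ⊕ Fin 2) :=
      (Perm.sumCongrHom (ZMod p × ZMod p) (Fin 2)).comp
        ((MonoidHom.id _).prod (eps.comp Perm.sign))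
    have hΘ₂ : ∀ σ, Θ₂ σ = Equiv.sumCongr σ (eps (Perm.sign σ)) := fun σ => rfl
    refine exists_noncomm_of (wr p) (wr_isPGroup p) (wrA_mem p) (wrB_mem p) (wrA_wrB_ne p)
      ((Perm.viaEmbeddingHom ι).comp Θ₂) ?_ ?_
    · apply (Perm.viaEmbeddingHom_injective ι).comp
      intro σ τ h
      rw [hΘ₂, hΘ₂] at h
      ext x : 1
      have := congrArg (fun e : Perm ((ZMod p × ZMod p) ⊕ Fin 2) => e (Sum.inl x)) h
      simpa using this
    · intro σ _
      show Perm.sign ((Perm.viaEmbeddingHom ι) (Θ₂ σ)) = 1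
      rw [Perm.viaEmbeddingHom_apply, sign_viaEmbedding, hΘ₂, Perm.sign_sumCongr, sign_eps]
      exact Int.units_mul_self _
  · -- `p` odd: elements of odd order are even
    have hcard : Fintype.card (ZMod p × ZMod p) ≤ Fintype.card (Fin n) := by
      rw [Fintype.card_prod, ZMod.card, Fintype.card_fin, ← pow_two]
      exact hnp
    obtain ⟨ι⟩ := Function.Embedding.nonempty_of_card_le hcard
    have hodd : Odd p := hp.out.odd_of_ne_two hp2
    refine exists_noncomm_of (wr p) (wr_isPGroup p) (wrA_mem p) (wrB_mem p) (wrA_wrB_ne p)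
      (Perm.viaEmbeddingHom ι) (Perm.viaEmbeddingHom_injective ι) ?_
    intro σ hσ
    obtain ⟨k, hk⟩ := wr_isPGroup p ⟨σ, hσ⟩
    have hk' : σ ^ p ^ k = 1 := congrArg Subtype.val hk
    apply units_eq_one_of_odd_pow (hodd.pow (n := k))
    rw [← map_pow, ← map_pow, hk', map_one, map_one]

/-- For n ≥ 6 and a prime p, a nontrivial Sylow p-subgroup of the alternating group of degree n is abelian if and only if n < p². -/
theorem result (n p : ℕ) (hn : 6 ≤ n) [Fact p.Prime] (S : Sylow p (alternatingGroup (Fin n))) (hS : (S : Subgroup (alternatingGroup (Fin n))) ≠ ⊥) : IsMulCommutative S ↔ n < p ^ 2 := by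
  constructor
  · intro hcomm
    by_contra hnp
    push Not at hnp
    obtain ⟨Q, hQ, x, hx, y, hy, hxy⟩ := exists_noncomm n p hn hnp
    obtain ⟨S', hQS'⟩ := hQ.exists_le_sylow
    obtain ⟨g, hg⟩ := MulAction.exists_smul_eq (alternatingGroup (Fin n)) S S'
    have key : ∀ z ∈ (S' : Subgroup (alternatingGroup (Fin n))),
        ∃ s ∈ (S : Subgroup (alternatingGroup (Fin n))), z = g * s * g⁻¹ := by
      intro z hz
      rw [← hg, Sylow.smul_def, Sylow.pointwise_smul_def] at hz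
      obtain ⟨s, hs, rfl⟩ := hz
      exact ⟨s, hs, rfl⟩
    obtain ⟨s, hs, rfl⟩ := key x (hQS' hx)
    obtain ⟨t, ht, rfl⟩ := key y (hQS' hy)
    apply hxy
    have hst : s * t = t * s :=
      congrArg Subtype.val (hcomm.is_comm.comm ⟨s, hs⟩ ⟨t, ht⟩)
    calc g * s * g⁻¹ * (g * t * g⁻¹) = g * (s * t) * g⁻¹ := by group
      _ = g * (t * s) * g⁻¹ := by rw [hst]
      _ = g * t * g⁻¹ * (g * s * g⁻¹) := by group
  · intro hnp
    refine ⟨⟨fun a b => ?_⟩⟩
    apply Subtype.ext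
    apply Subtype.ext
    have hP : IsPGroup p ((S : Subgroup (alternatingGroup (Fin n))).map
        (alternatingGroup (Fin n)).subtype) := S.isPGroup'.map _
    exact comm_of_small hnp _ hP _ _ ⟨a.1, a.2, rfl⟩ ⟨b.1, b.2, rfl⟩

end Cfsg.Agent.S5164
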