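import Cfsg.Statements.S5165
import Cfsg.Agent.Lib.H25.AltQ

set_option autoImplicit false
open Cfsg

namespace Cfsg.Agent.S5165

open Cfsg.Agent.Lib.H25.Alt

/-- For n ≥ 6, a prime p with p² ≤ n, and n congruent to 0 or 1 modulo p, the p-fusion system of the alternating group of degree n on a Sylow p-subgroup is simple. -/
theorem result (n p : ℕ) (hn : 6 ≤ n) [Fact p.Prime] (hnp : p ^ 2 ≤ n) (hb : n % p ≤ 1) (S : Sylow p (alternatingGroup (Fin n))) : (Cfsg.groupFusionSystem (S : Subgroup (alternatingGroup (Fin n)))).IsSimple p := by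
  have hp : p.Prime := Fact.out
  have hp0 : 0 < p := hp.pos
  haveI : NeZero p := ⟨hp.ne_zero⟩
  have hm : p ≤ n / p := by
    rw [Nat.le_div_iff_mul_le hp0, ← sq]
    exact hnp
  have hm' : 1 ≤ n / p / p := by
    rw [Nat.le_div_iff_mul_le hp0, one_mul]
    exact hm
  haveI : Nonempty (Fin (n / p / p)) := ⟨⟨0, hm'⟩⟩
  haveI : Subsingleton (Fin (n % p)) := Fin.subsingleton_iff_le_one.2 hb
  have hcard : Fintype.card (XX p (Fin (n / p / p)) (Fin (n / p % p)) (Fin (n % p))) = n := by
    rw [card_X, card_X, Fintype.card_fin, Fintype.card_fin, Fintype.card_fin, Nat.div_add_mod,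
      Nat.div_add_mod]
  have e : Fin n ≃ XX p (Fin (n / p / p)) (Fin (n / p % p)) (Fin (n % p)) :=
    (Fintype.equivFinOfCardEq hcard).symm
  have hR' : Fintype.card (Fin (n / p % p)) < p := by
    rw [Fintype.card_fin]
    exact Nat.mod_lt _ hp0
  rcases hp.eq_two_or_odd' with h2 | hodd
  · subst h2
    have hY : 3 ≤ Fintype.card (X 2 (Fin (n / 2 / 2)) (Fin (n / 2 % 2))) := by
      rw [card_X, Fintype.card_fin, Fintype.card_fin, Nat.div_add_mod]
      omega
    exact alt_simple_two hR' hY e S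
  · exact alt_simple_odd hodd hR' e S

end Cfsg.Agent.S5165
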