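-- Statement S5166: the 2-fusion system of M11 is simple.
import Cfsg.Statements.S5166
import Cfsg.Agent.Lib.H25.QDSimple
import Cfsg.Agent.Lib.H18.M11Mult
import Cfsg.Agent.Lib.H5.CentInv

set_option autoImplicit false
open Cfsg

namespace Cfsg.Agent.S5166

open Cfsg.Agent.Lib.H28 Cfsg.Agent.Lib.H18.M11Mult
open scoped commutatorElement

theorem isQuasiDihedral_P2 : Cfsg.IsQuasiDihedral P2 := by
  have hx : x8 ∈ P2 := Subgroup.subset_closure (by simp)
  have hy : y2 ∈ P2 := Subgroup.subset_closure (by simp)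
  refine ⟨3, le_rfl, by rw [card_P2]; norm_num, ⟨x8, hx⟩, ⟨y2, hy⟩, ?_, ?_, ?_⟩
  · rw [Subgroup.orderOf_mk, orderOf_x8]; norm_num
  · rw [Subgroup.orderOf_mk]
    apply orderOf_eq_prime y2_sq
    intro h1
    have h := y2_conj
    rw [h1, one_mul, inv_one, mul_one] at h
    -- x8 = x8^3 gives x8^2 = 1
    have h2 : x8 ^ 2 = 1 := by
      have : x8 ^ 2 * x8 = 1 * x8 := by rw [← pow_succ, one_mul]; exact h.symm
      exact mul_right_cancel this
    apply x8_pow4
    rw [show (4 : ℕ) = 2 * 2 from rfl, pow_mul, h2, one_pow]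
  · apply Subtype.ext
    simp only [Subgroup.coe_mul, Subgroup.coe_inv, Subgroup.coe_pow]
    exact y2_conj

theorem commutator_G11 : commutator ↥G11 = ⊤ := by
  haveI := isSimpleGroup_G11
  rcases (isSimpleGroup_G11).eq_bot_or_eq_top_of_normal (commutator ↥G11) inferInstance with h | h
  · exfalso
    -- then G11 is abelian, contradicting y2 x8 y2⁻¹ = x8^3 ≠ x8
    have hcomm : ∀ a b : ↥G11, a * b = b * a := by
      intro a b
      have : ⁅a, b⁆ ∈ commutator ↥G11 := Subgroup.commutator_mem_commutator (Subgroup.mem_top a)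
        (Subgroup.mem_top b)
      rw [h, Subgroup.mem_bot, commutatorElement_eq_one_iff_mul_comm] at this
      exact this
    have h3 := y2_conj
    rw [hcomm y2 x8, mul_inv_cancel_right] at h3
    have h2 : x8 ^ 2 = 1 := by
      have : x8 ^ 2 * x8 = 1 * x8 := by rw [← pow_succ, one_mul]; exact h3.symm
      exact mul_right_cancel this
    apply x8_pow4
    rw [show (4 : ℕ) = 2 * 2 from rfl, pow_mul, h2, one_pow]
  · exact h

theorem aux (S : Sylow 2 ↥G11) : (Cfsg.groupFusionSystem (S : Subgroup ↥G11)).IsSimple 2 := by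
  haveI : Fact (Nat.Prime 2) := ⟨Nat.prime_two⟩
  apply Cfsg.Agent.Lib.H25.QDSimple.isSimple_of_quasiDihedral S _ commutator_G11
  have hc : Nat.card P2 = 2 ^ (Nat.card ↥G11).factorization 2 := by
    rw [card_P2, card_G11, fact7920_2]; norm_num
  let Q : Sylow 2 ↥G11 := Sylow.ofCard P2 hc
  have e : (Q : Subgroup ↥G11) ≃* (S : Subgroup ↥G11) := Sylow.equiv Q S
  exact Cfsg.Agent.Lib.H5.CI.isQuasiDihedral_of_equiv e isQuasiDihedral_P2

theorem aux' (H : Subgroup (Equiv.Perm GolayPt)) (hH : H = G11) (S : Sylow 2 ↥H) :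
    (Cfsg.groupFusionSystem (S : Subgroup ↥H)).IsSimple 2 := by
  subst hH
  exact aux S

/-- The 2-fusion system of the Mathieu group M₁₁ (as the explicit permutation group carved out of the automorphism group of the binary Golay code) on a Sylow 2-subgroup is simple: saturated, over a nontrivial 2-group, with no normal subsystem other than the trivial one and itself. -/
theorem result (S : Sylow 2 Cfsg.Spor.M11) : (Cfsg.groupFusionSystem (S : Subgroup Cfsg.Spor.M11)).IsSimple 2 := by
  exact aux' Cfsg.Spor.M11 M11_eq S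

end Cfsg.Agent.S5166
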