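import Cfsg.Statements.S5171
import Cfsg.Agent.Lib.H25.PSpJ

set_option autoImplicit false
open Cfsg

namespace Cfsg.Agent.S5171

open Cfsg.Agent.Lib.H25.PSp Cfsg.Agent.Lib.H25.LieCrit Cfsg.Agent.Lib.H26 in
/-- For a finite field K of characteristic p and m ≥ 2, excluding the case m = 2 with K of two elements, the p-fusion system of the projective symplectic group PSp_{2m}(K) on a Sylow p-subgroup is simple. -/
theorem result {K : Type*} [Field K] [Fintype K] (p : ℕ) [Fact p.Prime] [CharP K p] (m : ℕ) (hm : 2 ≤ m) (hex : m = 2 → 3 ≤ Fintype.card K) (S : Sylow p (Cfsg.PSp m K)) : (Cfsg.groupFusionSystem (S : Subgroup (Cfsg.PSp m K))).IsSimple p := by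
  have hm1 : 1 ≤ m := by omega
  obtain ⟨g, hg⟩ := exists_conj_Ubar p hm1 S
  have hS : (S : Subgroup (Cfsg.PSp m K)) = cj g (Ubar : Subgroup (Cfsg.PSp m K)) := by
    ext x
    rw [mem_cj]
    exact hg x
  refine isSimple_of_gen_conj S Ubar g hS (Ubar_ne_bot hm1) ?_ (normalizer_Ubar_le p hm)
  intro T hT
  by_cases hTb : T = ⊥
  · exact Or.inl hTb
  · exact Or.inr (stronglyClosed_Ubar p hm hex T hT hTb)

end Cfsg.Agent.S5171
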