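import Cfsg.Statements.S5172
import Cfsg.Agent.Lib.H25.PSUJ

set_option autoImplicit false
open Cfsg

namespace Cfsg.Agent.S5172

open Cfsg.Agent.Lib.H25.PSU Cfsg.Agent.Lib.H13.AutPSU in
/-- For a finite field K with q² elements of characteristic p and n ≥ 4, the p-fusion system of the projective special unitary group PSU_n(q) (realised over K) on a Sylow p-subgroup is simple. -/
theorem result {K : Type*} [Field K] [Fintype K] (p q : ℕ) [Fact p.Prime] [CharP K p] (hK : Fintype.card K = q ^ 2) (n : ℕ) (hn : 4 ≤ n) (S : Sylow p (Cfsg.PSU n K q)) : (Cfsg.groupFusionSystem (S : Subgroup (Cfsg.PSU n K q))).IsSimple p := by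
  obtain ⟨m, -, hm⟩ := FiniteField.card K p
  have hdvd : q ∣ p ^ (m : ℕ) := by
    rw [← hm, hK]
    exact Dvd.intro (q ^ 1) (by ring)
  obtain ⟨f, -, hq⟩ := (Nat.dvd_prime_pow (Fact.out : p.Prime)).1 hdvd
  obtain ⟨k, r, b, hr⟩ := exists_frame (UF.ofCard hq hK) n
  have hdim := b.dim_eq
  exact psu_isSimple_of_frame p b hr (by omega) (by omega) S

end Cfsg.Agent.S5172
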