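import Cfsg.Statements.S5185
import Cfsg.Agent.Lib.H25.Fusion
import Cfsg.Agent.Lib.H25.Basic
import Cfsg.Agent.Lib.H25.Saturation
import Cfsg.Agent.Lib.H3.OffenderSL2c

set_option autoImplicit false
universe u
open Cfsg

namespace Cfsg.Agent.S5185

open Cfsg.FusionSystem Cfsg.Agent.Lib.H25

section Holomorph

variable {H : Type*} [Group H] [Finite H] {p : ℕ} [Fact p.Prime]

/-- The holomorph of `H`. -/
abbrev Hol (H : Type*) [Group H] := SemidirectProduct H (MulAut H) (MonoidHom.id (MulAut H))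

instance : Finite (Hol H) := Finite.of_equiv _ (SemidirectProduct.equivProd).symm

/-- For an elementary abelian group `H` of order `p²`, a subgroup of `Aut(H)` generated by two
different subgroups of order `p` is isomorphic to `SL(2,p)`. -/
theorem sl2_of_two_subgroups (hc : ∀ a b : H, a * b = b * a) (he : ∀ a : H, a ^ p = 1)
    (hcard : Nat.card H = p ^ 2) (B A₁ A₂ : Subgroup (MulAut H)) (hB : B = A₁ ⊔ A₂)
    (h1 : Nat.card A₁ = p) (h2 : Nat.card A₂ = p) (hne : A₁ ≠ A₂) :
    Nonempty (↥B ≃* Matrix.SpecialLinearGroup (Fin 2) (ZMod p)) := by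
  classical
  set il : H →* Hol H := SemidirectProduct.inl with hil
  set ir : MulAut H →* Hol H := SemidirectProduct.inr with hir
  have hilinj : Function.Injective il := SemidirectProduct.inl_injective
  have hirinj : Function.Injective ir := SemidirectProduct.inr_injective
  set W : Subgroup (Hol H) := il.range with hW
  have hWn : W.Normal := by
    rw [hW, hil, SemidirectProduct.range_inl_eq_ker_rightHom]
    infer_instance
  have key := Cfsg.Agent.Lib.H3.exists_mulEquiv_SL2 (G := Hol H) (p := p) (W := W)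
    (L := B.map ir) (A := A₁.map ir) (A' := A₂.map ir) ?_ ?_ ?_ ?_ ?_ ?_ ?_ ?_ ?_
  · obtain ⟨e⟩ := key
    exact ⟨(Subgroup.equivMapOfInjective B ir hirinj).trans e⟩
  · rintro _ ⟨a, rfl⟩ _ ⟨b, rfl⟩
    rw [← map_mul, ← map_mul, hc a b]
  · rintro _ ⟨a, rfl⟩
    rw [← map_pow, he a, map_one]
  · rw [← hcard]
    exact Nat.card_congr (MonoidHom.ofInjective hilinj).symm.toEquiv
  · rw [Subgroup.normalizer_eq_top_iff.2 hWn]
    exact le_top
  · rw [eq_bot_iff]
    rintro x ⟨⟨α, -, rfl⟩, hx⟩
    have hx' : ir α ∈ Subgroup.centralizer (W : Set (Hol H)) := hx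
    rw [Subgroup.mem_centralizer_iff] at hx'
    have hα : α = 1 := by
      ext h
      have h3 := hx' (il h) ⟨h, rfl⟩
      have h4 : il ((MonoidHom.id (MulAut H)) α h) = ir α * il h * ir α⁻¹ :=
        SemidirectProduct.inl_aut α h
      have h5 : il (α h) = il h := by
        have : il (α h) = ir α * il h * ir α⁻¹ := h4
        rw [this, ← h3, mul_assoc, ← map_mul, mul_inv_cancel, map_one, mul_one]
      exact hilinj h5
    rw [hα, map_one]
    exact Subgroup.mem_bot.2 rfl
  · rw [hB, Subgroup.map_sup]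
  · rw [← h1]
    exact Nat.card_congr (Subgroup.equivMapOfInjective A₁ ir hirinj).symm.toEquiv
  · rw [← h2]
    exact Nat.card_congr (Subgroup.equivMapOfInjective A₂ ir hirinj).symm.toEquiv
  · intro h
    exact hne (Subgroup.map_injective hirinj h)

/-- For an elementary abelian group `H` of order `p²`, `Aut(H)` embeds in `GL(2,p)`. -/
theorem exists_injective_GL (hc : ∀ a b : H, a * b = b * a) (he : ∀ a : H, a ^ p = 1)
    (hcard : Nat.card H = p ^ 2) :
    ∃ ψ : MulAut H →* GL (Fin 2) (ZMod p), Function.Injective ψ := by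
  classical
  set il : H →* Hol H := SemidirectProduct.inl with hil
  set ir : MulAut H →* Hol H := SemidirectProduct.inr with hir
  have hilinj : Function.Injective il := SemidirectProduct.inl_injective
  set W : Subgroup (Hol H) := il.range with hW
  haveI hWn : W.Normal := by
    rw [hW, hil, SemidirectProduct.range_inl_eq_ker_rightHom]
    infer_instance
  have hWc : ∀ a ∈ W, ∀ b ∈ W, a * b = b * a := by
    rintro _ ⟨a, rfl⟩ _ ⟨b, rfl⟩
    rw [← map_mul, ← map_mul, hc a b]
  have hWe : ∀ a ∈ W, a ^ p = 1 := by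
    rintro _ ⟨a, rfl⟩
    rw [← map_pow, he a, map_one]
  have hWcard : Nat.card W = p ^ 2 := by
    rw [← hcard]
    exact Nat.card_congr (MonoidHom.ofInjective hilinj).symm.toEquiv
  obtain ⟨φ, hφ⟩ := Cfsg.Agent.Lib.H17.exists_hom_GL_ker_eq_centralizer W p 2 hWc hWe hWcard
  refine ⟨φ.comp ir, ?_⟩
  rw [injective_iff_map_eq_one]
  intro α hα
  have h1 : ir α ∈ φ.ker := hα
  rw [hφ, Subgroup.mem_centralizer_iff] at h1
  ext h
  have h3 := h1 (il h) ⟨h, rfl⟩
  have h4 : il ((MonoidHom.id (MulAut H)) α h) = ir α * il h * ir α⁻¹ :=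
    SemidirectProduct.inl_aut α h
  have h5 : il (α h) = il h := by
    have : il (α h) = ir α * il h * ir α⁻¹ := h4
    rw [this, ← h3, mul_assoc, ← map_mul, mul_inv_cancel, map_one, mul_one]
  exact hilinj h5

/-- A `p`-subgroup of `Aut(H)`, `H` elementary abelian of order `p²`, has order dividing `p`. -/
theorem card_dvd_of_isPGroup (hc : ∀ a b : H, a * b = b * a) (he : ∀ a : H, a ^ p = 1)
    (hcard : Nat.card H = p ^ 2) (Q : Subgroup (MulAut H)) (hQ : IsPGroup p Q) :
    Nat.card Q ∣ p := by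
  have hp : p.Prime := Fact.out
  obtain ⟨ψ, hψ⟩ := exists_injective_GL hc he hcard
  have h1 : Nat.card Q ∣ Nat.card (GL (Fin 2) (ZMod p)) := by
    have e := Nat.card_congr (Subgroup.equivMapOfInjective Q ψ hψ).toEquiv
    rw [e]
    exact Subgroup.card_subgroup_dvd_card _
  rw [Matrix.card_GL_field, Fin.prod_univ_two] at h1
  simp only [Fin.val_zero, Fin.val_one, pow_zero, pow_one, ZMod.card] at h1
  obtain ⟨k, hk⟩ := hQ.exists_card_eq
  rw [hk] at h1 ⊢
  -- `p ^ k ∣ (p ^ 2 - 1) * (p ^ 2 - p)`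
  have hp2 : 2 ≤ p := hp.two_le
  have h2 : p ^ 2 - p = p * (p - 1) := by
    rw [Nat.mul_sub, mul_one, sq]
  have hN : (p ^ 2 - 1) * (p ^ 2 - p) = p * ((p ^ 2 - 1) * (p - 1)) := by
    rw [h2]; ring
  rcases Nat.lt_or_ge k 2 with hk2 | hk2
  · calc p ^ k ∣ p ^ 1 := pow_dvd_pow p (by omega)
      _ = p := pow_one p
  · exfalso
    have h3 : p ^ 2 ∣ (p ^ 2 - 1) * (p ^ 2 - p) := (pow_dvd_pow p hk2).trans h1
    rw [hN, sq] at h3
    have h4 : p ∣ (p * p - 1) * (p - 1) := Nat.dvd_of_mul_dvd_mul_left hp.pos h3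
    rcases (hp.dvd_mul).1 h4 with h5 | h5
    · have h6 : p ∣ p * p - (p * p - 1) := Nat.dvd_sub (dvd_mul_right p p) h5
      have h7 : 1 ≤ p * p := Nat.mul_pos hp.pos hp.pos
      have h8 : p * p - (p * p - 1) = 1 := by omega
      rw [h8] at h6
      exact hp.one_lt.ne' (Nat.dvd_one.1 h6)
    · have h6 : p ≤ p - 1 := Nat.le_of_dvd (by omega) h5
      omega

end Holomorph

/-- Let F be a saturated fusion system over a finite p-group S and H an essential subgroup of order p². Then H is elementary abelian (isomorphic to C_p × C_p) and its F-automorphism group contains a subgroup isomorphic to SL(2,p). -/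
theorem result {Ω : Type u} [Group Ω] {S : Subgroup Ω} [Finite S] (p : ℕ) [Fact p.Prime] (hS : IsPGroup p S)
    (F : Cfsg.FusionSystem S) (hF : F.IsSaturated p) (H : Subgroup Ω) (hH : F.IsEssential p H) (hcard : Nat.card H = p ^ 2) :
    Cfsg.IsElementaryAbelian p H ∧
      ∃ K : Subgroup ↥(F.autGroup H), Nonempty (↥K ≃* Matrix.SpecialLinearGroup (Fin 2) (ZMod p)) := by
  classical
  have hp : p.Prime := Fact.out
  obtain ⟨hcen, hfn, hnorm, E, hE⟩ := hH
  have hHS : H ≤ S := hcen.1
  haveI : Finite H := finite_of_le S hHS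
  have hc : ∀ a b : H, a * b = b * a := IsPGroup.commutative_of_card_eq_prime_sq hcard
  have hInn : Inn H = ⊥ := by
    rw [eq_bot_iff]
    rintro _ ⟨h, rfl⟩
    rw [Subgroup.mem_bot]
    ext x
    rw [MulAut.conj_apply, hc h x, mul_inv_cancel_right]
    rfl
  set A := F.autGroup H with hA
  have hN : (Inn H).subgroupOf A = ⊥ := by
    rw [hInn, Subgroup.bot_subgroupOf]
  haveI := hnorm
  -- `O_p(Aut_F(H)) = 1`
  have hcoreQ : pCore p (A ⧸ (Inn H).subgroupOf A) = ⊥ := pCore_eq_bot_of_stronglyPEmbedded hE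
  have hcore : pCore p A = ⊥ := by
    rw [eq_bot_iff]
    intro x hx
    have h1 : ((pCore p A).map (QuotientGroup.mk' ((Inn H).subgroupOf A))).Normal :=
      Subgroup.Normal.map inferInstance _ (QuotientGroup.mk'_surjective _)
    have h2 : IsPGroup p ((pCore p A).map (QuotientGroup.mk' ((Inn H).subgroupOf A))) :=
      (pCore_isPGroup p A).map _
    have h3 := le_pCore h1 h2
    rw [hcoreQ] at h3
    have h4 : QuotientGroup.mk' ((Inn H).subgroupOf A) x = 1 :=
      Subgroup.mem_bot.1 (h3 ⟨x, hx, rfl⟩)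
    have h5 : x ∈ (Inn H).subgroupOf A := (QuotientGroup.eq_one_iff x).1 h4
    rwa [hN] at h5
  have hdvd : p ∣ Nat.card A := by
    have h1 := hE.1
    have h2 := Subgroup.card_eq_card_quotient_mul_card_subgroup ((Inn H).subgroupOf A)
    rw [h2]
    exact Dvd.dvd.mul_right h1 _
  -- no Sylow `p`-subgroup of `Aut_F(H)` is normal
  have hnn : ∀ P : Sylow p A, ¬ (P : Subgroup A).Normal := by
    intro P hPn
    have h1 := le_pCore hPn P.isPGroup'
    rw [hcore] at h1
    have h2 : (P : Subgroup A) = ⊥ := le_bot_iff.1 h1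
    exact P.ne_bot_of_dvd_card hdvd h2
  obtain ⟨P₁⟩ : Nonempty (Sylow p A) := inferInstance
  obtain ⟨P₂, hP₂⟩ : ∃ P₂ : Sylow p A, P₂ ≠ P₁ := by
    by_contra hcon
    push Not at hcon
    haveI : Subsingleton (Sylow p A) := ⟨fun a b => (hcon a).trans (hcon b).symm⟩
    exact hnn P₁ (Sylow.normal_of_subsingleton P₁)
  -- `H` has exponent `p`
  have he : ∀ a : H, a ^ p = 1 := by
    intro a
    by_contra ha
    have h1 : orderOf a ∣ p ^ 2 := hcard ▸ orderOf_dvd_natCard a
    obtain ⟨j, hj, hj'⟩ := (Nat.dvd_prime_pow hp).1 h1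
    have hj2 : j = 2 := by
      by_contra hne
      have hj1 : j ≤ 1 := by omega
      apply ha
      apply orderOf_dvd_iff_pow_eq_one.1
      rw [hj']
      calc p ^ j ∣ p ^ 1 := pow_dvd_pow p hj1
        _ = p := pow_one p
    rw [hj2, ← hcard] at hj'
    haveI hcyc : IsCyclic H := isCyclic_of_orderOf_eq_card a hj'
    have hcomm : ∀ α β : MulAut H, α * β = β * α := by
      intro α β
      apply (IsCyclic.mulAutMulEquiv H).injective
      rw [map_mul, map_mul, mul_comm]
    apply hnn P₁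
    refine ⟨fun n hn g => ?_⟩
    have : g * n * g⁻¹ = n := by
      apply Subtype.ext
      show (g : MulAut H) * (n : MulAut H) * (g : MulAut H)⁻¹ = n
      rw [hcomm, ← mul_assoc, inv_mul_cancel, one_mul]
    rwa [this]
  refine ⟨⟨⟨⟨fun a b => hc a b⟩⟩, ?_⟩, ?_⟩
  · intro a ha
    have := he ⟨a, ha⟩
    simpa using congrArg (fun z : H => (z : Ω)) this
  -- the two Sylow subgroups have order `p`
  have hinj : Function.Injective A.subtype := Subgroup.subtype_injective A
  have hcardP : ∀ P : Sylow p A, Nat.card ((P : Subgroup A).map A.subtype) = p := by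
    intro P
    have h1 : IsPGroup p ((P : Subgroup A).map A.subtype) := P.isPGroup'.map _
    have h2 := card_dvd_of_isPGroup hc he hcard _ h1
    have e := Nat.card_congr (Subgroup.equivMapOfInjective (P : Subgroup A) A.subtype hinj).toEquiv
    rcases (Nat.dvd_prime hp).1 h2 with h3 | h3
    · exfalso
      rw [← e] at h3
      have h4 : (P : Subgroup A) = ⊥ := Subgroup.card_eq_one.1 h3
      exact P.ne_bot_of_dvd_card hdvd h4
    · exact h3
  set K : Subgroup A := (P₁ : Subgroup A) ⊔ (P₂ : Subgroup A) with hK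
  have hne : (P₁ : Subgroup A).map A.subtype ≠ (P₂ : Subgroup A).map A.subtype := by
    intro h
    have h1 : (P₁ : Subgroup A) = (P₂ : Subgroup A) := Subgroup.map_injective hinj h
    exact hP₂ (Sylow.ext h1.symm)
  obtain ⟨e⟩ := sl2_of_two_subgroups hc he hcard (K.map A.subtype) _ _
    (by rw [hK, Subgroup.map_sup]) (hcardP P₁) (hcardP P₂) hne
  exact ⟨K, ⟨(Subgroup.equivMapOfInjective K A.subtype hinj).trans e⟩⟩

end Cfsg.Agent.S5185
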