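import Cfsg.Statements.S5186
import Cfsg.Agent.Lib.H25.EssChain
import Cfsg.Agent.Lib.H25.OrderCube

set_option autoImplicit false
universe u
open Cfsg

namespace Cfsg.Agent.S5186

/-- Let F be a saturated fusion system over a finite p-group S and H an essential subgroup of order p³. Then H is elementary abelian, or p is odd and H is extraspecial of exponent p, or p = 2 and H is the quaternion group of order 8. -/
theorem result {Ω : Type u} [Group Ω] {S : Subgroup Ω} [Finite S] (p : ℕ) [Fact p.Prime] (hS : IsPGroup p S)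
    (F : Cfsg.FusionSystem S) (hF : F.IsSaturated p) (H : Subgroup Ω) (hH : F.IsEssential p H) (hcard : Nat.card H = p ^ 3) :
    Cfsg.IsElementaryAbelian p H ∨ (Odd p ∧ Cfsg.IsExtraspecial p ↥H ∧ ∀ x ∈ H, x ^ p = 1) ∨
      (p = 2 ∧ Nonempty (↥H ≃* QuaternionGroup 2)) := by
  have hHS : H ≤ S := hH.1.1
  haveI : Finite H := Finite.of_injective (Subgroup.inclusion hHS) (Subgroup.inclusion_injective hHS)
  rcases Cfsg.Agent.Lib.H25.OrderCube.order_cube (K := ↥H) (p := p) hcard with h | h | h | h
  · left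
    refine ⟨⟨⟨fun a b => h.1 a b⟩⟩, fun a ha => ?_⟩
    have := h.2 ⟨a, ha⟩
    exact congrArg Subtype.val this
  · exfalso
    obtain ⟨L, hL, hΦL, h1, h2⟩ := h
    exact Cfsg.Agent.Lib.H25.EssChain.not_essential_of_char_mid hS hF hH L hL hΦL h1 h2
  · right; left
    obtain ⟨hp2, hext, hexp⟩ := h
    refine ⟨(Fact.out : p.Prime).odd_of_ne_two hp2, hext, fun x hx => ?_⟩
    have := hexp ⟨x, hx⟩
    exact congrArg Subtype.val this
  · right; right
    exact h

end Cfsg.Agent.S5186
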