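import Cfsg.Statements.S5187
import Cfsg.Agent.Lib.H25.EssChain
import Cfsg.Agent.Lib.H25.EssRadical
import Cfsg.Agent.Lib.H25.AbPow
import Cfsg.Agent.Lib.H25.AbAutFrat

set_option autoImplicit false
universe u
open Cfsg

namespace Cfsg.Agent.S5187

/-- Let F be a saturated fusion system over a finite p-group S and H an abelian essential subgroup that can be generated by two elements (its Frattini quotient has order at most p²). Then H is elementary abelian of order p², or p ≤ 3 and H is homocyclic of rank two, that is isomorphic to C_{pᵏ} × C_{pᵏ} for some k. -/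
theorem result {Ω : Type u} [Group Ω] {S : Subgroup Ω} [Finite S] (p : ℕ) [Fact p.Prime] (hS : IsPGroup p S)
    (F : Cfsg.FusionSystem S) (hF : F.IsSaturated p) (H : Subgroup Ω) (hH : F.IsEssential p H) (hab : IsMulCommutative ↥H) (hrk : (frattini ↥H).index ≤ p ^ 2) :
    (Cfsg.IsElementaryAbelian p H ∧ Nat.card H = p ^ 2) ∨
      (p ≤ 3 ∧ ∃ k : ℕ, Nonempty (↥H ≃* Multiplicative (ZMod (p ^ k) × ZMod (p ^ k)))) := by
  classical
  have hHS : H ≤ S := hH.1.1
  haveI : Finite H := Finite.of_injective (Subgroup.inclusion hHS) (Subgroup.inclusion_injective hHS)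
  have hp : p.Prime := Fact.out
  have hK : IsPGroup p H := hS.to_le hHS
  have hcomm : ∀ a b : H, a * b = b * a := fun a b => hab.1.1 a b
  rcases Cfsg.Agent.Lib.H25.AbPow.rank_two hK hcomm hrk with h | ⟨a, ha1, hexp, hcard, hiso, hidx, hΩ⟩
  · exfalso
    obtain ⟨L, hL, hΦL, h1, h2⟩ := h
    exact Cfsg.Agent.Lib.H25.EssChain.not_essential_of_char_mid hS hF hH L hL hΦL h1 h2
  · by_cases ha : a = 1
    · left
      subst ha
      refine ⟨⟨hab, fun x hx => ?_⟩, ?_⟩
      · have := hexp ⟨x, hx⟩
        rw [pow_one] at this
        exact congrArg Subtype.val this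
      · rw [hcard]
    · by_cases hp3 : p ≤ 3
      · right
        exact ⟨hp3, a, hiso⟩
      · exfalso
        have hp5 : 5 ≤ p := by
          have : p ≠ 4 := by
            intro h
            rw [h] at hp
            exact absurd hp (by norm_num)
          omega
        have ha2 : 2 ≤ a := by omega
        have hInn : ∀ γ ∈ Inn H, γ = 1 := by
          rintro _ ⟨r, rfl⟩
          ext x
          rw [MulAut.conj_apply, hcomm r x, mul_inv_cancel_right]
          rfl
        obtain ⟨τ, hτS, hτI⟩ := Cfsg.Agent.Lib.H25.EssRadical.exists_autS_not_inn hS hF hH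
        have hτ1 : τ ≠ 1 := fun h => hτI (h ▸ Subgroup.one_mem _)
        obtain ⟨k, hk⟩ := Cfsg.Agent.Lib.H26.autInducedBy_isPGroup hS H ⟨τ, hτS⟩
        have hk' : τ ^ p ^ k = 1 := by simpa using congrArg Subtype.val hk
        have hex : ∃ m, τ ^ p ^ m = 1 := ⟨k, hk'⟩
        have hm : τ ^ p ^ (Nat.find hex) = 1 := Nat.find_spec hex
        have hm1 : 1 ≤ Nat.find hex := by
          by_contra hlt
          have h0 : Nat.find hex = 0 := by omega
          rw [h0, pow_zero, pow_one] at hm
          exact hτ1 hm
        obtain ⟨j, hj⟩ : ∃ j, Nat.find hex = j + 1 := ⟨Nat.find hex - 1, by omega⟩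
        have hσ1 : τ ^ p ^ j ≠ 1 := Nat.find_min hex (by omega)
        have hσp : (τ ^ p ^ j) ^ p = 1 := by
          rw [← pow_mul, ← pow_succ, ← hj]
          exact hm
        have hσF : τ ^ p ^ j ∈ F.autGroup H :=
          Subgroup.pow_mem _ (Cfsg.Agent.Lib.H25.autInducedBy_le_autGroup F hHS hτS) _
        have hcen := Cfsg.Agent.Lib.H25.AbAutFrat.aut_centralizes hK hcomm hp5 hidx (hΩ ha2)
          (τ ^ p ^ j) hσp
        have hΦchar : (frattini H).Characteristic := inferInstance
        have hmono : ∀ i, Cfsg.Agent.Lib.H25.EssChain.ch3 (frattini H) (frattini H) (i + 1) ≤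
            Cfsg.Agent.Lib.H25.EssChain.ch3 (frattini H) (frattini H) i := by
          intro i
          match i with
          | 0 => exact le_top
          | 1 => exact le_rfl
          | (k + 2) => exact le_rfl
        have hinn := Cfsg.Agent.Lib.H25.EssRadical.chainStab_le_inn hS hF hH
          (Cfsg.Agent.Lib.H25.EssChain.ch3 (frattini H) (frattini H)) hmono 1 rfl le_rfl ?_
          (τ ^ p ^ j) hσF ?_
        · exact hσ1 (hInn _ hinn)
        · intro i α _ x hx
          match i with
          | 0 => exact Subgroup.mem_top _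
          | 1 => exact Cfsg.Agent.Lib.H25.EssChain.char_map_mem hΦchar α hx
          | (k + 2) => exact Cfsg.Agent.Lib.H25.EssChain.char_map_mem hΦchar α hx
        · intro i x hx
          match i with
          | 0 => exact hcen x
          | 1 =>
            have hx' : x ∈ frattini H := hx
            exact (frattini H).mul_mem ((frattini H).inv_mem hx')
              (Cfsg.Agent.Lib.H25.EssChain.char_map_mem hΦchar _ hx')
          | (k + 2) =>
            have hx' : x ∈ frattini H := hx
            exact (frattini H).mul_mem ((frattini H).inv_mem hx')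
              (Cfsg.Agent.Lib.H25.EssChain.char_map_mem hΦchar _ hx')

end Cfsg.Agent.S5187
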