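import Cfsg.Statements.S5191
import Cfsg.Agent.Lib.H26.Basic

set_option autoImplicit false
open Cfsg
open scoped Pointwise

namespace Cfsg.Agent.S5191

/-- Fusion in a finite group G and in its quotient by O_{p'}(G) agree. Let S be a Sylow p-subgroup of G, N = O_{p'}(G) and P ≤ S. If an element of G/N conjugates the image of P into the image of S, then some element g of G conjugates P into S and induces the same map on P modulo N. (Together with the injectivity of S → G/N this says that g ↦ gN induces an isomorphism of the fusion system of G on S with that of G/N on SN/N.) -/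
theorem result {G : Type*} [Group G] [Finite G] {p : ℕ} [Fact p.Prime]
    [hN : (Cfsg.pPrimeCore p G).Normal] (S : Sylow p G) (P : Subgroup G) (hP : P ≤ (S : Subgroup G))
    (γ : G ⧸ Cfsg.pPrimeCore p G)
    (hγ : ∀ x ∈ P, γ * QuotientGroup.mk x * γ⁻¹ ∈ ((S : Subgroup G).map (QuotientGroup.mk' (Cfsg.pPrimeCore p G)))) :
    ∃ g : G, ∀ x ∈ P, g * x * g⁻¹ ∈ S ∧
      (QuotientGroup.mk (g * x * g⁻¹) : G ⧸ Cfsg.pPrimeCore p G) = γ * QuotientGroup.mk x * γ⁻¹ := by
  classical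
  obtain ⟨g, hg⟩ := QuotientGroup.mk_surjective γ
  -- Q = g P g⁻¹
  let Q : Subgroup G := P.map (MulAut.conj g).toMonoidHom
  have hQmem : ∀ y, y ∈ Q ↔ ∃ x ∈ P, g * x * g⁻¹ = y := by
    intro y
    simp only [Q, Subgroup.mem_map]
    rfl
  have hPp : IsPGroup p P := S.2.to_le hP
  have hQp : IsPGroup p Q := hPp.map _
  have hSH : (S : Subgroup G) ≤ (S : Subgroup G) ⊔ Cfsg.pPrimeCore p G := le_sup_left
  have hQH : Q ≤ (S : Subgroup G) ⊔ Cfsg.pPrimeCore p G := by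
    intro y hy
    obtain ⟨x, hx, rfl⟩ := (hQmem y).mp hy
    obtain ⟨s, hs, hsx⟩ := hγ x hx
    have hsx' : (QuotientGroup.mk s : G ⧸ Cfsg.pPrimeCore p G) = QuotientGroup.mk (g * x * g⁻¹) := by
      rw [QuotientGroup.mk_mul, QuotientGroup.mk_mul, QuotientGroup.mk_inv, hg]
      exact hsx
    have hn : s⁻¹ * (g * x * g⁻¹) ∈ Cfsg.pPrimeCore p G := QuotientGroup.eq.mp hsx'
    have : g * x * g⁻¹ = s * (s⁻¹ * (g * x * g⁻¹)) := by group
    rw [this]
    exact Subgroup.mul_mem _ (hSH hs)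
      ((le_sup_right : Cfsg.pPrimeCore p G ≤ (S : Subgroup G) ⊔ Cfsg.pPrimeCore p G) hn)
  obtain ⟨h, hhH, hh⟩ := Cfsg.Agent.Lib.H26.exists_conj_mem_sylow_of_le S _ Q hSH hQH hQp
  have hh' : h ∈ ((S : Subgroup G) : Set G) * (Cfsg.pPrimeCore p G : Set G) := by
    rw [← Subgroup.mul_normal]; exact hhH
  obtain ⟨s, hs, n, hn, rfl⟩ := Set.mem_mul.mp hh'
  refine ⟨n * g, fun x hx => ⟨?_, ?_⟩⟩
  · have h1 : (s * n) * (g * x * g⁻¹) * (s * n)⁻¹ ∈ S := hh _ ((hQmem _).mpr ⟨x, hx, rfl⟩)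
    have h2 : n * g * x * (n * g)⁻¹ = s⁻¹ * ((s * n) * (g * x * g⁻¹) * (s * n)⁻¹) * s := by group
    rw [h2]
    exact Subgroup.mul_mem _ (Subgroup.mul_mem _ (Subgroup.inv_mem _ hs) h1) hs
  · have hn1 : (QuotientGroup.mk n : G ⧸ Cfsg.pPrimeCore p G) = 1 := (QuotientGroup.eq_one_iff n).mpr hn
    rw [← hg]
    simp only [QuotientGroup.mk_mul, QuotientGroup.mk_inv, hn1, one_mul, mul_inv_rev, inv_one, mul_one]

end Cfsg.Agent.S5191
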