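import Cfsg.Statements.S5193
import Cfsg.Agent.Lib.H26.CtlAdm
import Cfsg.Agent.Lib.H26.QuadCenter
import Cfsg.Agent.Lib.H25.GlauFusion
import Cfsg.Agent.Lib.H25.GlauGroup
import Cfsg.Agent.Lib.H25.GlauJCenter
import Cfsg.Agent.S5144

set_option autoImplicit false
open Cfsg

namespace Cfsg.Agent.S5193

/-- Glauberman's Theorem for fusion systems. Let F be a saturated fusion system over a finite p-group S, let J(S) be the subgroup generated by the abelian subgroups of S of largest order, and let N be the normalizer fusion system of J(S) in F (a fusion system over N_S(J(S)) = S). Then every p-th power of an element of Z(S) that lies in the centre of N lies in the centre of F; and if p is odd, or if the symmetric group of degree 4 is not involved in any model of the normalizer system of a fully normalized F-centric subgroup (F is S₄-free), then the centre of N equals the centre of F. -/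
theorem result {Ω : Type*} [Group Ω] {S : Subgroup Ω} [Finite S] (p : ℕ) [Fact p.Prime] (hS : IsPGroup p S) (F : Cfsg.FusionSystem S) (hF : F.IsSaturated p) (N : Cfsg.FusionSystem (Cfsg.FusionSystem.normalizerIn S (Cfsg.thompsonSubgroupAOf S))) (hN : F.IsNormalizerSystem (Cfsg.thompsonSubgroupAOf S) N) : Subgroup.closure ((fun z : Ω => z ^ p) '' ((S ⊓ Subgroup.centralizer (S : Set Ω) : Subgroup Ω) : Set Ω)) ⊓ N.center ≤ F.center ∧ (p ≠ 2 ∨ F.IsSectionFree p (Equiv.Perm (Fin 4)) → N.center = F.center) := by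
  classical
  set Wp := Cfsg.Agent.Lib.H26.Gen.jFun p with hWp
  have hWZ' : ∀ {G : Type _} [Group G] (Q : Subgroup G), Finite Q → IsPGroup p Q →
      Q ⊓ Subgroup.centralizer (Q : Set G) ≤ Wp.W Q :=
    fun Q hfin _ => Cfsg.Agent.Lib.H25.Glau.jFun_center_le Q hfin
  -- the normalizer system
  have hXS : Wp.W S ≤ S := Wp.le S
  have hT₀ : Cfsg.FusionSystem.normalizerIn S (Cfsg.thompsonSubgroupAOf S) = S :=
    Wp.normalizerIn_self S hS
  have hXfn : F.IsFullyNormalized (Wp.W S) :=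
    Cfsg.Agent.Lib.H26.ZJ.isFullyNormalized_of_normalizerIn_eq hXS hT₀
  have hN' : ∀ P : Subgroup Ω, N.Hom P = F.normalizerHom (Wp.W S) P := hN
  have hfinT₀ : Finite (Cfsg.FusionSystem.normalizerIn S (Cfsg.thompsonSubgroupAOf S)) :=
    Cfsg.Agent.Lib.H25.finite_of_le S inf_le_left
  have hT₀p : IsPGroup p (Cfsg.FusionSystem.normalizerIn S (Cfsg.thompsonSubgroupAOf S)) :=
    hS.to_le inf_le_left
  have hZc : N.IsCentral N.center := Cfsg.Agent.S5144.result N
  have hfixN := Cfsg.Agent.Lib.H26.Ctl.fixZ_of_isCentral hZc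
  constructor
  · -- the `p`-th powers
    let Adm : ∀ {G : Type _} [Group G], Subgroup G → G → Prop :=
      fun {G} _ T x => ∃ y : G, y ∈ T ⊓ Subgroup.centralizer (T : Set G) ∧ y ^ p = x
    have hA1 : ∀ {G : Type _} [Group G] (T : Subgroup G) (z : G), Adm T z →
        z ∈ T ⊓ Subgroup.centralizer (T : Set G) := by
      rintro G _ T z ⟨y, hy, rfl⟩
      exact Subgroup.pow_mem _ hy p
    have hA2 : ∀ {G : Type _} [Group G] (S T : Subgroup G) (z : G), Adm S z → T ≤ S →
        S ⊓ Subgroup.centralizer (S : Set G) ≤ T → Adm T z := by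
      rintro G _ S T z ⟨y, hy, rfl⟩ hTS hZT
      refine ⟨y, ⟨hZT hy, ?_⟩, rfl⟩
      have hyc : y ∈ Subgroup.centralizer (S : Set G) := hy.2
      exact Subgroup.centralizer_le (show (T : Set G) ⊆ (S : Set G) from hTS) hyc
    have hA3 : ∀ {G G' : Type _} [Group G] [Group G'] (S : Subgroup G) (f : S →* G') (z : G)
        (hz : z ∈ S), Adm S z → Adm f.range (f ⟨z, hz⟩) := by
      rintro G G' _ _ S f z hz ⟨y, hy, rfl⟩
      have hyS : y ∈ S := hy.1
      have hyc : y ∈ Subgroup.centralizer (S : Set G) := hy.2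
      rw [Subgroup.mem_centralizer_iff] at hyc
      refine ⟨f ⟨y, hyS⟩, ⟨⟨⟨y, hyS⟩, rfl⟩, ?_⟩, ?_⟩
      · show f ⟨y, hyS⟩ ∈ Subgroup.centralizer ((f.range : Subgroup G') : Set G')
        rw [Subgroup.mem_centralizer_iff]
        rintro _ ⟨s, rfl⟩
        rw [← map_mul, ← map_mul]
        congr 1
        exact Subtype.ext (hyc s s.2)
      · rw [← map_pow]
        rfl
    have hC' : ∀ (L : Type _) [Group L] [Finite L] (P : Sylow p L),
        Subgroup.centralizer ((Cfsg.pCore p L : Subgroup L) : Set L) ≤ Cfsg.pCore p L → ∀ x : L,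
        Adm (P : Subgroup L) x → x ∈ Cfsg.pCore p L →
        (∀ m ∈ Subgroup.normalizer ((Wp.W (P : Subgroup L) : Subgroup L) : Set L),
          m * x = x * m) → x ∈ Subgroup.center L := by
      rintro L _ _ P hchar x ⟨y, hy, rfl⟩ - hcomm
      exact Cfsg.Agent.Lib.H26.CtlA.quad_center Wp
        (fun G _ _ P hn => Cfsg.Agent.Lib.H26.Gen.quad_J G P hn) (Nat.card L) L rfl P hchar y hy
        hcomm
    have hmain := Cfsg.Agent.Lib.H26.CtlA.main_adm Wp Adm hWZ' hA1 hA2 hA3 hC' (Nat.card S) rfl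
      hS F hF
    set A : Subgroup Ω := S ⊓ Subgroup.centralizer (S : Set Ω) with hAdef
    have hpow : ∀ z ∈ Subgroup.closure ((fun z => z ^ p) '' ((A : Subgroup Ω) : Set Ω)),
        ∃ y : Ω, y ∈ A ∧ y ^ p = z := by
      intro z hz
      induction hz using Subgroup.closure_induction with
      | mem x hx =>
        obtain ⟨y, hy, rfl⟩ := hx
        exact ⟨y, hy, rfl⟩
      | one => exact ⟨1, A.one_mem, one_pow p⟩
      | mul x₁ x₂ _ _ h₁ h₂ =>
        obtain ⟨y₁, hy₁, rfl⟩ := h₁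
        obtain ⟨y₂, hy₂, rfl⟩ := h₂
        refine ⟨y₁ * y₂, A.mul_mem hy₁ hy₂, ?_⟩
        have hc : y₂ ∈ Subgroup.centralizer (S : Set Ω) := hy₂.2
        rw [Subgroup.mem_centralizer_iff] at hc
        have hcomm : Commute y₁ y₂ := hc y₁ hy₁.1
        exact hcomm.mul_pow p
      | inv x _ h =>
        obtain ⟨y, hy, rfl⟩ := h
        exact ⟨y⁻¹, A.inv_mem hy, inv_pow y p⟩
    set Z : Subgroup Ω := Subgroup.closure ((fun z => z ^ p) '' ((A : Subgroup Ω) : Set Ω)) ⊓
      N.center with hZdef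
    have hZadm : ∀ z ∈ Z, Adm S z := fun z hz => hpow z hz.1
    have hZ : Z ≤ S ⊓ Subgroup.centralizer (S : Set Ω) := fun z hz => hA1 S z (hZadm z hz)
    have hZW : Z ≤ Wp.W S := hZ.trans (hWZ' S inferInstance hS)
    have hfix : ∀ f : Ω → Ω, Cfsg.Agent.Lib.H25.IsIso F (Wp.W S) (Wp.W S) f →
        ∀ x ∈ Z, f x = x := by
      intro f hf x hx
      obtain ⟨-, hNHom⟩ := Cfsg.Agent.Lib.H26.ZJ.isNHom_of_normalizes (le_refl (Wp.W S))
        (Cfsg.Agent.Lib.H25.le_normalizerIn hXS) hf hf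
      exact hfixN _ _ _ (Cfsg.Agent.Lib.H26.ZJ.isIso_of_isNHom hN' hf hNHom) x (hZW hx) hx.2
    have hfixF := hmain Z hZadm hfix
    have hn := Cfsg.Agent.Lib.H26.Ctl.isNormal_of_fixZ hS hF hZ hfixF
    exact le_sSup (Cfsg.Agent.Lib.H26.Ctl.isCentral_of_isNormal_of_fixZ hn hfixF)
  · -- equality of the centres
    intro hfr
    have hC' : ∀ (L : Type _) [Group L] [Finite L] (P : Sylow p L) (x : L),
        (p ≠ 2 ∨ ¬ Cfsg.Involves (Equiv.Perm (Fin 4)) L) → x ∈ Cfsg.pCore p L →
        x ∈ Subgroup.normalizer ((Wp.W (P : Subgroup L) : Subgroup L) : Set L) →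
        (∀ m ∈ Subgroup.normalizer ((Wp.W (P : Subgroup L) : Subgroup L) : Set L),
          m * x = x * m) → x ∈ Subgroup.center L := by
      intro L _ _ P x hside hx _ hcomm
      exact Cfsg.Agent.Lib.H25.Glau.glauberman_center L hside P x hx hcomm
    have hmain := Cfsg.Agent.Lib.H25.GlauF.main_center_fr Wp hWZ' hC' (Nat.card S) rfl hS F hF hfr
    have hle₁ : ∀ T : Subgroup Ω, T = S → T ⊓ Subgroup.centralizer (T : Set Ω) ≤
        S ⊓ Subgroup.centralizer (S : Set Ω) := by
      rintro T rfl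
      exact le_rfl
    have hle₂ : ∀ T : Subgroup Ω, T = S → S ⊓ Subgroup.centralizer (S : Set Ω) ≤
        T ⊓ Subgroup.centralizer (T : Set Ω) := by
      rintro T rfl
      exact le_rfl
    have hNsat : N.IsSaturated p :=
      Cfsg.Agent.Lib.H25.normalizerSystem_isSaturated hS hF hXfn N hN
    have hNF := Cfsg.Agent.Lib.H26.ZJ.hom_le_of_normalizer (F := F) hN'
    apply le_antisymm
    · -- the centre of `N` is central in `F`
      have hZ₀ := Cfsg.Agent.Lib.H26.Ctl.le_center_of_fixZ hZc.1 hfixN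
      have hZ : N.center ≤ S ⊓ Subgroup.centralizer (S : Set Ω) := hZ₀.trans (hle₁ _ hT₀)
      have hZW : N.center ≤ Wp.W S := hZ.trans (hWZ' S inferInstance hS)
      have hfix : ∀ f : Ω → Ω, Cfsg.Agent.Lib.H25.IsIso F (Wp.W S) (Wp.W S) f →
          ∀ x ∈ N.center, f x = x := by
        intro f hf x hx
        obtain ⟨-, hNHom⟩ := Cfsg.Agent.Lib.H26.ZJ.isNHom_of_normalizes (le_refl (Wp.W S))
          (Cfsg.Agent.Lib.H25.le_normalizerIn hXS) hf hf
        exact hfixN _ _ _ (Cfsg.Agent.Lib.H26.ZJ.isIso_of_isNHom hN' hf hNHom) x (hZW hx) hx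
      have hfixF := hmain N.center hZ hfix
      have hn := Cfsg.Agent.Lib.H26.Ctl.isNormal_of_fixZ hS hF hZ hfixF
      exact le_sSup (Cfsg.Agent.Lib.H26.Ctl.isCentral_of_isNormal_of_fixZ hn hfixF)
    · -- the centre of `F` is central in `N`
      have hZcF : F.IsCentral F.center := Cfsg.Agent.S5144.result F
      have hfixF := Cfsg.Agent.Lib.H26.Ctl.fixZ_of_isCentral hZcF
      have hfixN' : Cfsg.Agent.Lib.H26.Ctl.FixZ N F.center := hfixF.mono hNF
      have hZ := Cfsg.Agent.Lib.H26.Ctl.le_center_of_fixZ hZcF.1 hfixF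
      have hZ' : F.center ≤ Cfsg.FusionSystem.normalizerIn S (Cfsg.thompsonSubgroupAOf S) ⊓
          Subgroup.centralizer
            ((Cfsg.FusionSystem.normalizerIn S (Cfsg.thompsonSubgroupAOf S) : Subgroup Ω) :
              Set Ω) :=
        hZ.trans (hle₂ _ hT₀)
      have hn := Cfsg.Agent.Lib.H26.Ctl.isNormal_of_fixZ hT₀p hNsat hZ' hfixN'
      exact le_sSup (Cfsg.Agent.Lib.H26.Ctl.isCentral_of_isNormal_of_fixZ hn hfixN')

end Cfsg.Agent.S5193
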