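import Cfsg.Statements.S5194
import Cfsg.Agent.Lib.H26.ThompsonFusion

set_option autoImplicit false
open Cfsg

namespace Cfsg.Agent.S5194

/-- Thompson's normal p-complement Theorem for fusion systems. Let F be a saturated fusion system over a finite p-group S such that p is odd or F is S₄-free (the symmetric group of degree 4 is not involved in any model of the normalizer system of a fully normalized F-centric subgroup), and let J(S) be the subgroup generated by the abelian subgroups of S of largest order. If the centralizer fusion system of Z(S) in F is the inner fusion system of C_S(Z(S)) = S and the normalizer fusion system of J(S) in F is the inner fusion system of N_S(J(S)) = S, then F is the inner fusion system of S. -/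
theorem result {Ω : Type*} [Group Ω] {S : Subgroup Ω} [Finite S] (p : ℕ) [Fact p.Prime] (hS : IsPGroup p S) (F : Cfsg.FusionSystem S) (hF : F.IsSaturated p) (hp : p ≠ 2 ∨ F.IsSectionFree p (Equiv.Perm (Fin 4))) (hC : ∀ C : Cfsg.FusionSystem (Cfsg.FusionSystem.centralizerIn S (S ⊓ Subgroup.centralizer (S : Set Ω))), F.IsCentralizerSystem (S ⊓ Subgroup.centralizer (S : Set Ω)) C → ∀ P : Subgroup Ω, C.Hom P = (Cfsg.innerFusionSystem (Cfsg.FusionSystem.centralizerIn S (S ⊓ Subgroup.centralizer (S : Set Ω)))).Hom P) (hN : ∀ N : Cfsg.FusionSystem (Cfsg.FusionSystem.normalizerIn S (Cfsg.thompsonSubgroupAOf S)), F.IsNormalizerSystem (Cfsg.thompsonSubgroupAOf S) N → ∀ P : Subgroup Ω, N.Hom P = (Cfsg.innerFusionSystem (Cfsg.FusionSystem.normalizerIn S (Cfsg.thompsonSubgroupAOf S))).Hom P) : ∀ P : Subgroup Ω, F.Hom P = (Cfsg.innerFusionSystem S).Hom P := by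
  have hfr : Cfsg.Agent.Lib.H26.Thompson.Fr p F := hp
  have hZS : (S ⊓ Subgroup.centralizer (S : Set Ω)) ≤ S := inf_le_left
  have hJS : Cfsg.thompsonSubgroupAOf S ≤ S := (Cfsg.Agent.Lib.H26.Gen.jFun p).le S
  -- the centralizer system of `Z(S)` has `p`-group automizers
  have hZ : ¬ Cfsg.Agent.Lib.H26.Thompson.NTC p F ((Cfsg.Agent.Lib.H26.Thompson.zFun p).W S) := by
    intro hnt
    have hsys : F.IsCentralizerSystem (S ⊓ Subgroup.centralizer (S : Set Ω))
        (Cfsg.Agent.S5097.centSys F _ hZS) := fun _ => rfl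
    have hin := hC _ hsys
    have hpg : IsPGroup p ↥(Cfsg.FusionSystem.centralizerIn S (S ⊓ Subgroup.centralizer (S : Set Ω))) :=
      hS.to_le inf_le_left
    have hall := Cfsg.Agent.Lib.H26.Nil.allP_of_eq_inner hpg hin
    exact Cfsg.Agent.Lib.H26.Thompson.not_allP_of_NTC hsys hnt hall
  -- the normalizer system of `J(S)` has `p`-group automizers
  have hJ : ¬ Cfsg.Agent.Lib.H26.Nil.NT p F ((Cfsg.Agent.Lib.H26.Gen.jFun p).W S) := by
    intro hnt
    have hsys : F.IsNormalizerSystem (Cfsg.thompsonSubgroupAOf S)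
        (Cfsg.Agent.S5096.normSys F _ hJS) := fun _ => rfl
    have hin := hN _ hsys
    have hpg : IsPGroup p ↥(Cfsg.FusionSystem.normalizerIn S (Cfsg.thompsonSubgroupAOf S)) :=
      hS.to_le inf_le_left
    have hall := Cfsg.Agent.Lib.H26.Nil.allP_of_eq_inner hpg hin
    exact Cfsg.Agent.Lib.H26.Nil.not_allP_of_NT hJS hsys hnt hall
  have hall := Cfsg.Agent.Lib.H26.Thompson.thGoal_all (p := p) (Nat.card S) rfl hS F hF hfr hZ hJ
  exact Cfsg.Agent.Lib.H26.Nil.eq_inner_of_allP hS hF hall

end Cfsg.Agent.S5194
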