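import Cfsg.Statements.S5196
import Cfsg.Agent.Lib.H26.CtlCenter
import Cfsg.Agent.Lib.H26.ZJFunctor
import Cfsg.Agent.S5144

set_option autoImplicit false
universe u
open Cfsg

namespace Cfsg.Agent.S5196

/-- Let p be an odd prime and W a positive characteristic p-functor: W assigns to every finite p-group Q (in a fixed universe) a subgroup W(Q), nontrivial when Q is, carried to W(R) by every isomorphism Q ≅ R; assume also Z(Q) ≤ W(Q) for every finite p-group Q. Suppose W satisfies the local condition: for every finite group G with Sylow p-subgroup P, O_p(G) ∩ Z(G) = O_p(G) ∩ Z(N_G(W(P))). Then W controls weak closure of elements in every saturated fusion system F over a finite p-group S: the centre of the normalizer fusion system of W(S) in F equals the centre of F. (For p = 2 no functor satisfies the local condition, so p is taken odd.) -/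
theorem result {p : ℕ} [Fact p.Prime] (hp : p ≠ 2) (W : ∀ (Q : Type u) [Group Q], Subgroup Q) (hW1 : ∀ (Q : Type u) [Group Q] [Finite Q], IsPGroup p Q → Nontrivial Q → W Q ≠ ⊥) (hW2 : ∀ (Q R : Type u) [Group Q] [Group R] [Finite Q], IsPGroup p Q → ∀ φ : Q ≃* R, (W Q).map φ.toMonoidHom = W R) (hWZ : ∀ (Q : Type u) [Group Q] [Finite Q], IsPGroup p Q → Subgroup.center Q ≤ W Q) (hC : ∀ (G : Type u) [Group G] [Finite G] (P : Sylow p G), Cfsg.pCore p G ⊓ Subgroup.center G = Cfsg.pCore p G ⊓ (Subgroup.center ↥(Subgroup.normalizer (((W ↥(P : Subgroup G)).map (P : Subgroup G).subtype : Subgroup G) : Set G))).map (Subgroup.normalizer (((W ↥(P : Subgroup G)).map (P : Subgroup G).subtype : Subgroup G) : Set G)).subtype) {Ω : Type u} [Group Ω] {S : Subgroup Ω} [Finite S] (hS : IsPGroup p S) (F : Cfsg.FusionSystem S) (hF : F.IsSaturated p) (N : Cfsg.FusionSystem (Cfsg.FusionSystem.normalizerIn S ((W ↥S).map S.subtype))) (hN : F.IsNormalizerSystem ((W ↥S).map S.subtype) N) :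 N.center = F.center := by
  classical
  set Wp : Cfsg.Agent.Lib.H26.Nil.PFun.{u} p := Cfsg.Agent.Lib.H26.ZJ.PFun.ofType W hW1 hW2 with hWp
  have hWZ' : ∀ {G : Type u} [Group G] (Q : Subgroup G), Finite Q → IsPGroup p Q →
      Q ⊓ Subgroup.centralizer (Q : Set G) ≤ Wp.W Q := by
    intro G _ Q hfin hQ x hx
    have hxQ : x ∈ Q := hx.1
    have hxc : x ∈ Subgroup.centralizer (Q : Set G) := hx.2
    rw [Subgroup.mem_centralizer_iff] at hxc
    have h1 : (⟨x, hxQ⟩ : ↥Q) ∈ Subgroup.center ↥Q := by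
      rw [Subgroup.mem_center_iff]
      intro g
      exact Subtype.ext (hxc g g.2)
    exact ⟨⟨x, hxQ⟩, hWZ ↥Q hQ h1, rfl⟩
  have hC' : ∀ (L : Type u) [Group L] [Finite L] (P : Sylow p L) (x : L), x ∈ Cfsg.pCore p L →
      x ∈ Subgroup.normalizer ((Wp.W (P : Subgroup L) : Subgroup L) : Set L) →
      (∀ m ∈ Subgroup.normalizer ((Wp.W (P : Subgroup L) : Subgroup L) : Set L),
        m * x = x * m) → x ∈ Subgroup.center L := by
    intro L _ _ P x hx hxN hcomm
    have h := hC L P
    have h1 : x ∈ Cfsg.pCore p L ⊓ (Subgroup.center ↥(Subgroup.normalizer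
        (((W ↥(P : Subgroup L)).map (P : Subgroup L).subtype : Subgroup L) : Set L))).map
        (Subgroup.normalizer (((W ↥(P : Subgroup L)).map (P : Subgroup L).subtype :
          Subgroup L) : Set L)).subtype := by
      refine ⟨hx, ⟨⟨x, hxN⟩, ?_, rfl⟩⟩
      show (⟨x, hxN⟩ : ↥(Subgroup.normalizer
        (((W ↥(P : Subgroup L)).map (P : Subgroup L).subtype : Subgroup L) : Set L))) ∈
        Subgroup.center _
      rw [Subgroup.mem_center_iff]
      intro g
      exact Subtype.ext (hcomm g g.2)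
    rw [← h] at h1
    exact h1.2
  have hmain := Cfsg.Agent.Lib.H26.Ctl.main_center Wp hWZ' hC' (Nat.card S) rfl hS F hF
  -- the normalizer system
  have hXS : Wp.W S ≤ S := Wp.le S
  have hT₀ : Cfsg.FusionSystem.normalizerIn S ((W ↥S).map S.subtype) = S :=
    Wp.normalizerIn_self S hS
  have hXfn : F.IsFullyNormalized (Wp.W S) :=
    Cfsg.Agent.Lib.H26.ZJ.isFullyNormalized_of_normalizerIn_eq hXS hT₀
  have hN' : ∀ P : Subgroup Ω, N.Hom P = F.normalizerHom (Wp.W S) P := hN
  have hfinT₀ : Finite (Cfsg.FusionSystem.normalizerIn S ((W ↥S).map S.subtype)) :=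
    Cfsg.Agent.Lib.H25.finite_of_le S inf_le_left
  have hT₀p : IsPGroup p (Cfsg.FusionSystem.normalizerIn S ((W ↥S).map S.subtype)) :=
    hS.to_le inf_le_left
  have hle₁ : ∀ T : Subgroup Ω, T = S → T ⊓ Subgroup.centralizer (T : Set Ω) ≤
      S ⊓ Subgroup.centralizer (S : Set Ω) := by
    rintro T rfl
    exact le_rfl
  have hle₂ : ∀ T : Subgroup Ω, T = S → S ⊓ Subgroup.centralizer (S : Set Ω) ≤
      T ⊓ Subgroup.centralizer (T : Set Ω) := by
    rintro T rfl
    exact le_rfl
  have hNsat : N.IsSaturated p :=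
    Cfsg.Agent.Lib.H25.normalizerSystem_isSaturated hS hF hXfn N hN
  have hNF := Cfsg.Agent.Lib.H26.ZJ.hom_le_of_normalizer (F := F) hN'
  apply le_antisymm
  · -- the centre of `N` is central in `F`
    have hZc : N.IsCentral N.center := Cfsg.Agent.S5144.result N
    have hfixN := Cfsg.Agent.Lib.H26.Ctl.fixZ_of_isCentral hZc
    have hZ₀ := Cfsg.Agent.Lib.H26.Ctl.le_center_of_fixZ hZc.1 hfixN
    have hZ : N.center ≤ S ⊓ Subgroup.centralizer (S : Set Ω) := hZ₀.trans (hle₁ _ hT₀)
    have hZW : N.center ≤ Wp.W S := hZ.trans (hWZ' S inferInstance hS)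
    have hfix : ∀ f : Ω → Ω, Cfsg.Agent.Lib.H25.IsIso F (Wp.W S) (Wp.W S) f →
        ∀ x ∈ N.center, f x = x := by
      intro f hf x hx
      obtain ⟨-, hNHom⟩ := Cfsg.Agent.Lib.H26.ZJ.isNHom_of_normalizes (le_refl (Wp.W S))
        (Cfsg.Agent.Lib.H25.le_normalizerIn hXS) hf hf
      exact hfixN _ _ _ (Cfsg.Agent.Lib.H26.ZJ.isIso_of_isNHom hN' hf hNHom) x (hZW hx) hx
    have hfixF := hmain N.center hZ hfix
    have hn := Cfsg.Agent.Lib.H26.Ctl.isNormal_of_fixZ hS hF hZ hfixF
    exact le_sSup (Cfsg.Agent.Lib.H26.Ctl.isCentral_of_isNormal_of_fixZ hn hfixF)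
  · -- the centre of `F` is central in `N`
    have hZc : F.IsCentral F.center := Cfsg.Agent.S5144.result F
    have hfixF := Cfsg.Agent.Lib.H26.Ctl.fixZ_of_isCentral hZc
    have hfixN : Cfsg.Agent.Lib.H26.Ctl.FixZ N F.center := hfixF.mono hNF
    have hZ := Cfsg.Agent.Lib.H26.Ctl.le_center_of_fixZ hZc.1 hfixF
    have hZ' : F.center ≤ Cfsg.FusionSystem.normalizerIn S ((W ↥S).map S.subtype) ⊓
        Subgroup.centralizer
          ((Cfsg.FusionSystem.normalizerIn S ((W ↥S).map S.subtype) : Subgroup Ω) : Set Ω) :=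
      hZ.trans (hle₂ _ hT₀)
    have hn := Cfsg.Agent.Lib.H26.Ctl.isNormal_of_fixZ hT₀p hNsat hZ' hfixN
    exact le_sSup (Cfsg.Agent.Lib.H26.Ctl.isCentral_of_isNormal_of_fixZ hn hfixN)

end Cfsg.Agent.S5196
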