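import Cfsg.Statements.S5197
import Cfsg.Agent.Lib.H26.CtlFocMain
import Cfsg.Agent.Lib.H26.ZJFunctor

set_option autoImplicit false
universe u
open Cfsg

namespace Cfsg.Agent.S5197

/-- Let p be a prime and W a positive characteristic p-functor: W assigns to every finite p-group Q (in a fixed universe) a subgroup W(Q), nontrivial when Q is, carried to W(R) by every isomorphism Q ≅ R. Suppose W satisfies the local condition: for every finite group G with Sylow p-subgroup P such that C_G(O_p(G)) ≤ O_p(G), one has O_p(G) ∩ [G, G] = O_p(G) ∩ [N, N] for N = N_G(W(P)). Then W controls transfer in every saturated fusion system F over a finite p-group S: the focal subgroup of F equals the focal subgroup of the normalizer fusion system of W(S) in F. -/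
theorem result {p : ℕ} [Fact p.Prime] (W : ∀ (Q : Type u) [Group Q], Subgroup Q) (hW1 : ∀ (Q : Type u) [Group Q] [Finite Q], IsPGroup p Q → Nontrivial Q → W Q ≠ ⊥) (hW2 : ∀ (Q R : Type u) [Group Q] [Group R] [Finite Q], IsPGroup p Q → ∀ φ : Q ≃* R, (W Q).map φ.toMonoidHom = W R) (hT : ∀ (G : Type u) [Group G] [Finite G] (P : Sylow p G), Subgroup.centralizer ((Cfsg.pCore p G : Subgroup G) : Set G) ≤ Cfsg.pCore p G → Cfsg.pCore p G ⊓ commutator G = Cfsg.pCore p G ⊓ (commutator ↥(Subgroup.normalizer (((W ↥(P : Subgroup G)).map (P : Subgroup G).subtype : Subgroup G) : Set G))).map (Subgroup.normalizer (((W ↥(P : Subgroup G)).map (P : Subgroup G).subtype : Subgroup G) : Set G)).subtype) {Ω : Type u} [Group Ω] {S : Subgroup Ω} [Finite S] (hS : IsPGroup p S) (F : Cfsg.FusionSystem S) (hF : F.IsSaturated p) (N : Cfsg.FusionSystem (Cfsg.FusionSystem.normalizerIn S ((W ↥S).map S.subtype))) (hN : F.IsNormalizerSystem ((W ↥S).map S.subtype) N) : N.focalSubgroup = F.focalSubgroup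 := by
  let PW : Cfsg.Agent.Lib.H26.Nil.PFun.{u} p := Cfsg.Agent.Lib.H26.ZJ.PFun.ofType W hW1 hW2
  have hPW : PW.W S = (W ↥S).map S.subtype := rfl
  have hWS : PW.W S ≤ S := PW.le S
  have hTN : Cfsg.FusionSystem.normalizerIn S (PW.W S) = S := PW.normalizerIn_self S hS
  have hN' : ∀ P : Subgroup Ω, N.Hom P = F.normalizerHom (PW.W S) P := hN
  have hNF := Cfsg.Agent.Lib.H26.ZJ.hom_le_of_normalizer (F := F) hN'
  apply le_antisymm
  · rw [← Cfsg.Agent.Lib.H26.CtlFoc.focIn_iff]
    exact (Cfsg.Agent.Lib.H26.CtlFoc.focIn_focal F).mono hNF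
  · rw [← Cfsg.Agent.Lib.H26.CtlFoc.focIn_iff]
    have hSC : Cfsg.Agent.Lib.H26.CtlFoc.SC S N.focalSubgroup :=
      (Cfsg.Agent.Lib.H26.CtlFoc.SC_focal N).mono_left (le_of_eq hTN.symm)
    have hWF : Cfsg.Agent.Lib.H26.CtlFoc.WFoc PW F N.focalSubgroup := by
      intro A B f hf hWA hfW x hx
      have hAT : A ≤ Cfsg.FusionSystem.normalizerIn S (PW.W S) := by
        rw [hTN]; exact hf.le_left
      obtain ⟨-, hNHom⟩ := Cfsg.Agent.Lib.H26.ZJ.isNHom_of_normalizes hWA hAT hf hfW
      have hfN := Cfsg.Agent.Lib.H26.ZJ.isIso_of_isNHom hN' hf hNHom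
      exact Cfsg.Agent.Lib.H26.CtlFoc.focIn_focal N A B f hfN x hx
    exact Cfsg.Agent.Lib.H26.CtlFoc.main_foc PW (fun L _ _ P h => hT L P h) (Nat.card S) rfl hS F hF
      N.focalSubgroup hSC hWF

end Cfsg.Agent.S5197
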