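import Cfsg.Statements.S5206
import Cfsg.Agent.Lib.H26.QdFreeGroup
import Cfsg.Agent.Lib.H26.QdBadFusion

set_option autoImplicit false
universe u
open Cfsg

namespace Cfsg.Agent.S5206

/-- Let p be an odd prime, G a finite group and P a Sylow p-subgroup of G. Then the fusion system of G on P is Qd(p)-free (Qd(p), the natural semidirect product of an elementary abelian group of order p² by SL₂(p), is not involved in any model of the normalizer system of a fully normalized centric subgroup) if and only if Qd(p) is not involved in G. -/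
theorem result {G : Type u} [Group G] [Finite G] {p : ℕ} [Fact p.Prime] (hp : p ≠ 2) (P : Sylow p G) : (Cfsg.groupFusionSystem (P : Subgroup G)).IsSectionFree p ↥(Cfsg.qd p) ↔ ¬ Cfsg.Involves ↥(Cfsg.qd p) G := by
  constructor
  · intro hfree hinv
    obtain ⟨R₁, hR₁p, hgb₁⟩ := Cfsg.Agent.Lib.H26.QdBad.exists_gBad_of_involves hp hinv
    -- conjugate `R₁` into `P`, fully normalized
    obtain ⟨g₀, hg₀⟩ := Cfsg.Agent.Lib.H26.exists_conj_mem_sylow P R₁ hR₁p
    have hR₂P : Cfsg.Agent.Lib.H26.cj g₀ R₁ ≤ (P : Subgroup G) := by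
      rintro _ ⟨x, hx, rfl⟩
      exact hg₀ x hx
    obtain ⟨g, hRP, hSyl⟩ := Cfsg.Agent.Lib.H26.exists_cj_normalizer_sylow P hR₂P
    obtain ⟨R, hRdef⟩ : ∃ R : Subgroup G,
      R = Cfsg.Agent.Lib.H26.cj g (Cfsg.Agent.Lib.H26.cj g₀ R₁) := ⟨_, rfl⟩
    rw [← hRdef] at hRP hSyl
    have hgb : Cfsg.Agent.Lib.H26.QdBad.GBad p R := by
      rw [hRdef]
      exact Cfsg.Agent.Lib.H26.QdBad.GBad.map (MulAut.conj g)
        (Cfsg.Agent.Lib.H26.QdBad.GBad.map (MulAut.conj g₀) hgb₁)
    have hF := Cfsg.Agent.Lib.H26.groupFusionSystem_isSaturated P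
    have hRfn : (Cfsg.groupFusionSystem (P : Subgroup G)).IsFullyNormalized R :=
      (Cfsg.Agent.Lib.H26.isFullyNormalized_iff P hRP).2 hSyl
    have he : Function.Injective R.subtype := R.subtype_injective
    have hgb' : Cfsg.Agent.Lib.H26.QdBad.GBad p (R.subtype.range : Subgroup G) := by
      rw [Subgroup.range_subtype]
      exact hgb
    obtain ⟨A, hAr, hfail⟩ := Cfsg.Agent.Lib.H26.QdBad.quadFail_of_gBad R.subtype he hgb'
    have hA : A ≤ (Cfsg.groupFusionSystem (P : Subgroup G)).autGroup R := by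
      intro α hα
      obtain ⟨n, rfl⟩ := hAr hα
      rw [Cfsg.Agent.Lib.H25.mem_autGroup_iff _ hRP]
      have h1 : R.subtype.comp (Cfsg.Agent.Lib.H26.QdBad.thetaHom R.subtype he n).toMonoidHom =
          Cfsg.conjHom R (n : G) := by
        ext x
        exact Cfsg.Agent.Lib.H26.QdBad.thetaHom_spec R.subtype he n x
      rw [h1]
      apply Cfsg.Agent.Lib.H26.conjHom_mem_groupFusionSystem hRP
      have hn : (n : G) ∈ Subgroup.normalizer (R : Set G) := by
        have h2 : Subgroup.normalizer ((R.subtype.range : Subgroup G) : Set G) =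
            Subgroup.normalizer (R : Set G) := by rw [Subgroup.range_subtype]
        exact h2 ▸ n.2
      rw [Cfsg.Agent.Lib.H26.cj_eq_self_of_mem_normalizer hn]
      exact hRP
    exact Cfsg.Agent.Lib.H26.QdBad.not_quadFail hp P.2 _ hF hfree hRfn hA hfail
  · intro h
    exact Cfsg.Agent.Lib.H26.QdFree.groupFusionSystem_isSectionFree P h

end Cfsg.Agent.S5206
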