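import Cfsg.Statements.S5218
import Cfsg.Agent.Lib.H25.NormalInd
import Cfsg.Agent.Lib.H25.AgemoCenter
import Cfsg.Agent.Lib.H26.Basic

set_option autoImplicit false
open Cfsg

namespace Cfsg.Agent.S5218

open Cfsg.Agent.Lib.H25 Cfsg.FusionSystem
open scoped Pointwise

variable {Ω : Type*} [Group Ω] {S : Subgroup Ω}

/-- Sylow conjugation inside the stabilizer of a point `v` of `Q`. -/
theorem sylow_trick [Finite S] {p : ℕ} [Fact p.Prime] {F : FusionSystem S} {Q : Subgroup Ω}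
    (hfa : F.IsFullyAutomized p Q) {α : MulAut Q} (hα : α ∈ F.autGroup Q) (v : Q)
    (hT : ∀ t ∈ autInducedBy S Q, (α * t * α⁻¹) v = v)
    (K : Subgroup (MulAut Q)) (hKA : K ≤ F.autGroup Q) (hKp : IsPGroup p K)
    (hKv : ∀ k ∈ K, k v = v) :
    ∃ c ∈ F.autGroup Q, c v = v ∧
      ∀ k ∈ K, ∃ t ∈ autInducedBy S Q, k = (c * α) * t * (c * α)⁻¹ := by
  obtain ⟨hQS, R₀, hR₀⟩ := hfa
  have hfinQ : Finite Q := finite_of_le S hQS
  let α' : F.autGroup Q := ⟨α, hα⟩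
  let R : Sylow p (F.autGroup Q) := α' • R₀
  let H : Subgroup (F.autGroup Q) :=
    { carrier := {b | (b : MulAut Q) v = v}
      one_mem' := rfl
      mul_mem' := by
        intro a b ha hb
        show ((a : MulAut Q) * (b : MulAut Q)) v = v
        rw [MulAut.mul_apply, hb, ha]
      inv_mem' := by
        intro a ha
        show ((a : MulAut Q)⁻¹) v = v
        conv_lhs => rw [← ha]
        simp }
  have hmemR : ∀ b : F.autGroup Q, b ∈ (R : Subgroup (F.autGroup Q)) →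
      ∃ t ∈ autInducedBy S Q, (b : MulAut Q) = α * t * α⁻¹ := by
    intro b hb
    have hb' : b ∈ MulAut.conj α' • (R₀ : Subgroup (F.autGroup Q)) := hb
    obtain ⟨t, ht, htb⟩ := (Subgroup.mem_smul_pointwise_iff_exists _ _ _).1 hb'
    have ht' : t ∈ (autInducedBy S Q).subgroupOf (F.autGroup Q) := by rw [← hR₀]; exact ht
    refine ⟨(t : MulAut Q), Subgroup.mem_subgroupOf.1 ht', ?_⟩
    rw [← htb]
    rfl
  have hRH : (R : Subgroup (F.autGroup Q)) ≤ H := by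
    intro b hb
    obtain ⟨t, ht, hbt⟩ := hmemR b hb
    show (b : MulAut Q) v = v
    rw [hbt]
    exact hT t ht
  have hK'H : K.subgroupOf (F.autGroup Q) ≤ H := by
    intro b hb
    exact hKv _ (Subgroup.mem_subgroupOf.1 hb)
  have hK'p : IsPGroup p (K.subgroupOf (F.autGroup Q)) := hKp.comap_subtype
  obtain ⟨h, hhH, hh⟩ := Cfsg.Agent.Lib.H26.exists_conj_mem_sylow_of_le R H
    (K.subgroupOf (F.autGroup Q)) hRH hK'H hK'p
  refine ⟨((h⁻¹ : F.autGroup Q) : MulAut Q), (h⁻¹).2, ?_, fun k hk => ?_⟩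
  · have : (h⁻¹ : F.autGroup Q) ∈ H := H.inv_mem hhH
    exact this
  · have h1 := hh ⟨k, hKA hk⟩ (Subgroup.mem_subgroupOf.2 hk)
    obtain ⟨t, ht, hbt⟩ := hmemR _ h1
    refine ⟨t, ht, ?_⟩
    have hbt' : (h : MulAut Q) * k * (h : MulAut Q)⁻¹ = α * t * α⁻¹ := hbt
    have : k = (h : MulAut Q)⁻¹ * ((h : MulAut Q) * k * (h : MulAut Q)⁻¹) * (h : MulAut Q) := by
      group
    rw [this, hbt']
    show _ = ((h : MulAut Q)⁻¹ * α) * t * ((h : MulAut Q)⁻¹ * α)⁻¹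
    group

theorem mem_Z_iff (z : Ω) : z ∈ S ⊓ Subgroup.centralizer (S : Set Ω) ↔
    z ∈ S ∧ ∀ s ∈ S, s * z = z * s := by
  rw [Subgroup.mem_inf, Subgroup.mem_centralizer_iff]
  exact Iff.rfl

theorem W_le (p n : ℕ) : powerClosure p n (S ⊓ Subgroup.centralizer (S : Set Ω)) ≤
    S ⊓ Subgroup.centralizer (S : Set Ω) := by
  unfold powerClosure
  rw [Subgroup.closure_le]
  rintro y ⟨x, hx, rfl⟩
  exact Subgroup.pow_mem _ hx _

theorem gen_mem (p n : ℕ) {z : Ω} (hz : z ∈ S ⊓ Subgroup.centralizer (S : Set Ω)) :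
    z ^ (p ^ n) ∈ powerClosure p n (S ⊓ Subgroup.centralizer (S : Set Ω)) :=
  Subgroup.subset_closure ⟨z, hz, rfl⟩

/-- Closure induction: a homomorphism `T → T` mapping the generators of `W` into `W` maps `W`
into `W`. -/
theorem map_W_of_gens (p n : ℕ) {T : Subgroup Ω}
    (hZT : S ⊓ Subgroup.centralizer (S : Set Ω) ≤ T) (α : T →* T)
    (h : ∀ z (hz : z ∈ S ⊓ Subgroup.centralizer (S : Set Ω)),
      ((α ⟨z, hZT hz⟩ : T) : Ω) ^ (p ^ n) ∈ powerClosure p n (S ⊓ Subgroup.centralizer (S : Set Ω))) :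
    ∀ x : T, (x : Ω) ∈ powerClosure p n (S ⊓ Subgroup.centralizer (S : Set Ω)) →
      ((α x : T) : Ω) ∈ powerClosure p n (S ⊓ Subgroup.centralizer (S : Set Ω)) := by
  set W := powerClosure p n (S ⊓ Subgroup.centralizer (S : Set Ω)) with hW
  let M : Subgroup Ω := ((W.subgroupOf T).comap α).map T.subtype
  have hle : W ≤ M := by
    rw [hW]
    unfold powerClosure
    rw [Subgroup.closure_le]
    rintro y ⟨z, hz, rfl⟩
    refine ⟨⟨z, hZT hz⟩ ^ (p ^ n), ?_, rfl⟩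
    show α (⟨z, hZT hz⟩ ^ (p ^ n)) ∈ W.subgroupOf T
    rw [map_pow, Subgroup.mem_subgroupOf]
    exact h z hz
  intro x hx
  obtain ⟨y, hy, hyx⟩ := hle hx
  have : y = x := Subtype.ext hyx
  subst this
  exact Subgroup.mem_subgroupOf.1 hy

/-- Any automorphism of `S` preserves `W`. -/
theorem aut_top_inv (p n : ℕ) (α : MulAut S) :
    ∀ x : S, (x : Ω) ∈ powerClosure p n (S ⊓ Subgroup.centralizer (S : Set Ω)) →
      ((α x : S) : Ω) ∈ powerClosure p n (S ⊓ Subgroup.centralizer (S : Set Ω)) := by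
  apply map_W_of_gens p n inf_le_left α.toMonoidHom
  intro z hz
  apply gen_mem
  rw [mem_Z_iff] at hz ⊢
  refine ⟨(α ⟨z, _⟩).2, fun s hs => ?_⟩
  have h1 := hz.2 ((α⁻¹ ⟨s, hs⟩ : S) : Ω) (α⁻¹ ⟨s, hs⟩).2
  have h2 : (α⁻¹ ⟨s, hs⟩ : S) * ⟨z, hz.1⟩ = ⟨z, hz.1⟩ * (α⁻¹ ⟨s, hs⟩ : S) := Subtype.ext h1
  have h3 := congrArg (fun y : S => ((α y : S) : Ω)) h2
  simpa using h3

/-- The generator step for an essential subgroup. -/
theorem essential_gen [Finite S] {p : ℕ} [hp : Fact p.Prime] (hS : IsPGroup p S)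
    {F : FusionSystem S} (hF : F.IsSaturated p) (n : ℕ)
    (hcl : S.lowerCentralSeries (n * (p - 1) + 1) = ⊥) {Q : Subgroup Ω}
    (hQ : F.IsEssential p Q) (hQne : Q ≠ S)
    (IH : ∀ (Q' Q'' : Subgroup Ω) (k : Ω → Ω), Nat.card Q < Nat.card Q' →
      powerClosure p n (S ⊓ Subgroup.centralizer (S : Set Ω)) ≤ Q' → IsIso F Q' Q'' k →
      ∀ x ∈ powerClosure p n (S ⊓ Subgroup.centralizer (S : Set Ω)),
        k x ∈ powerClosure p n (S ⊓ Subgroup.centralizer (S : Set Ω)))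
    {α : MulAut Q} (hα : α ∈ F.autGroup Q) {z : Ω}
    (hz : z ∈ S ⊓ Subgroup.centralizer (S : Set Ω)) (hzQ : z ∈ Q) :
    ((α ⟨z, hzQ⟩ : Q) : Ω) ^ (p ^ n) ∈ powerClosure p n (S ⊓ Subgroup.centralizer (S : Set Ω)) := by
  set W := powerClosure p n (S ⊓ Subgroup.centralizer (S : Set Ω)) with hW
  have hQS : Q ≤ S := hQ.1.1
  have hfinQ : Finite Q := finite_of_le S hQS
  have hfn := hQ.2.1
  obtain ⟨hfc, hfa⟩ := fullyNormalized_props hS hF hfn
  have hrec : F.IsReceptive Q := isReceptive_of_fullyCentralized hS hF hfc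
  have hzS := (mem_Z_iff z).1 hz
  -- `Z ≤ Q` and `W ≤ Q`
  have hZQ : S ⊓ Subgroup.centralizer (S : Set Ω) ≤ Q := by
    intro y hy
    have hy' := (mem_Z_iff y).1 hy
    apply hQ.1.2 Q (isConj_refl F hQS)
    refine Subgroup.mem_inf.2 ⟨hy'.1, ?_⟩
    rw [Subgroup.mem_centralizer_iff]
    intro q hq
    exact hy'.2 q (hQS hq)
  have hWQ : W ≤ Q := (W_le p n).trans hZQ
  set zQ : Q := ⟨z, hzQ⟩ with hzQdef
  set v : Q := α (zQ ^ (p ^ n)) with hv
  set N := normalizerIn S Q with hN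
  have hNS : N ≤ S := inf_le_left
  have hQN : Q ≤ N := le_normalizerIn hQS
  set CN : Subgroup Ω := N ⊓ Subgroup.centralizer ({(v : Ω)} : Set Ω) with hCN
  have hmemCN : ∀ g, g ∈ CN ↔ g ∈ N ∧ g * (v : Ω) = (v : Ω) * g := by
    intro g
    rw [hCN, Subgroup.mem_inf, Subgroup.mem_centralizer_iff]
    constructor
    · rintro ⟨h1, h2⟩
      exact ⟨h1, (h2 _ rfl).symm⟩
    · rintro ⟨h1, h2⟩
      refine ⟨h1, fun y hy => ?_⟩
      rw [Set.mem_singleton_iff.1 hy]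
      exact h2.symm
  have hCNS : CN ≤ S := inf_le_left.trans hNS
  set K := autInducedBy CN Q with hK
  have hKT : K ≤ autInducedBy S Q := autInducedBy_mono hCNS Q
  have hKA : K ≤ F.autGroup Q := hKT.trans (autInducedBy_le_autGroup F hQS)
  have hKp : IsPGroup p K := (autInducedBy_isPGroup hS Q).to_le hKT
  have hKv : ∀ k ∈ K, k v = v := by
    intro k hk
    obtain ⟨g, hg, hkg⟩ := (mem_autInducedBy_iff CN Q k).1 hk
    apply Subtype.ext
    rw [hkg, ((hmemCN g).1 hg).2]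
    group
  -- conjugation by elements of `S` fixes `zQ`
  have hfixz : ∀ t ∈ autInducedBy S Q, t zQ = zQ := by
    intro t ht
    obtain ⟨g, hg, htg⟩ := (mem_autInducedBy_iff S Q t).1 ht
    apply Subtype.ext
    rw [htg]
    show g * z * g⁻¹ = z
    rw [hzS.2 g hg]
    group
  have hT : ∀ t ∈ autInducedBy S Q, (α * t * α⁻¹) v = v := by
    intro t ht
    rw [hv, MulAut.mul_apply, MulAut.mul_apply, MulAut.inv_apply_self, map_pow, hfixz t ht]
  obtain ⟨c, hc, hcv, hck⟩ := sylow_trick hfa hα v hT K hKA hKp hKv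
  set a' : MulAut Q := c * α with ha'
  have ha'A : a' ∈ F.autGroup Q := Subgroup.mul_mem _ hc hα
  set x' : Q := a' zQ with hx'
  have hx'v : x' ^ (p ^ n) = v := by
    rw [hx', ← map_pow, ha', MulAut.mul_apply, ← hv, hcv]
  have hx'N : (x' : Ω) ∈ N := hQN x'.2
  -- every `g ∈ C_N(v)` centralizes `x'`
  have hcent : ∀ g ∈ CN, g * (x' : Ω) = (x' : Ω) * g ∧
      ∃ t ∈ autInducedBy S Q, ∀ y : Q, ((a' (t (a'⁻¹ y)) : Q) : Ω) = g * (y : Ω) * g⁻¹ := by
    intro g hg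
    have hgN : g ∈ N := ((hmemCN g).1 hg).1
    obtain ⟨k, -, hkg⟩ := exists_mem_autGroup_of_isIso F (isIso_conj_normalizer F hQS hgN)
    have hkK : k ∈ K := (mem_autInducedBy_iff CN Q k).2 ⟨g, hg, hkg⟩
    obtain ⟨t, ht, hkt⟩ := hck k hkK
    have h1 : k x' = x' := by
      rw [hkt, hx', MulAut.mul_apply, MulAut.mul_apply, MulAut.inv_apply_self, hfixz t ht]
    have h2 : g * (x' : Ω) * g⁻¹ = (x' : Ω) := by
      rw [← hkg, h1]
    refine ⟨?_, t, ht, fun y => ?_⟩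
    · calc g * (x' : Ω) = (g * (x' : Ω) * g⁻¹) * g := by group
        _ = (x' : Ω) * g := by rw [h2]
    · rw [← hkg, hkt]
      rfl
  -- `x'` is central in `N`
  have hcentral : ∀ g ∈ N, g * (x' : Ω) = (x' : Ω) * g := by
    apply centralizer_growth hS n hcl hNS hx'N
    intro g hgN hgv
    have hgCN : g ∈ CN := by
      rw [hmemCN]
      refine ⟨hgN, ?_⟩
      rw [← hx'v]
      exact hgv
    exact (hcent g hgCN).1
  have hNCN : ∀ g ∈ N, g ∈ CN := by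
    intro g hgN
    rw [hmemCN]
    refine ⟨hgN, ?_⟩
    rw [← hx'v]
    show g * (x' : Ω) ^ (p ^ n) = (x' : Ω) ^ (p ^ n) * g
    have hcomm : Commute g (x' : Ω) := hcentral g hgN
    exact (hcomm.pow_right _).eq
  -- extend `a'⁻¹` to `N`
  have hf : IsIso F Q Q (ext1 (Q.subtype.comp (a'⁻¹).toMonoidHom)) :=
    isIso_of_mem_autGroup F hQS (Subgroup.inv_mem _ ha'A)
  have hfx : ∀ y : Q, ext1 (Q.subtype.comp (a'⁻¹).toMonoidHom) (y : Ω) = ((a'⁻¹ y : Q) : Ω) :=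
    fun y => ext1_apply _ y
  obtain ⟨f', N', hf', hf'Q⟩ := IsReceptive_extend hrec hf N (by
    intro g hgN
    refine ⟨hNS hgN, hgN.2, ?_⟩
    obtain ⟨-, t, ht, htg⟩ := hcent g (hNCN g hgN)
    obtain ⟨h, hhS, hth⟩ := (mem_autInducedBy_iff S Q t).1 ht
    refine ⟨h, hhS, fun y hy => ?_⟩
    have hgy : g * y * g⁻¹ ∈ Q := (Subgroup.mem_normalizer_iff.1 hgN.2 y).1 hy
    have e1 := hfx ⟨g * y * g⁻¹, hgy⟩
    have e2 := hfx ⟨y, hy⟩
    rw [e1, e2, ← hth]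
    -- a'⁻¹ (g y g⁻¹) = t (a'⁻¹ y)
    have e3 := htg (⟨y, hy⟩ : Q)
    have e4 : (⟨g * y * g⁻¹, hgy⟩ : Q) = a' (t (a'⁻¹ ⟨y, hy⟩)) := Subtype.ext e3.symm
    rw [e4, MulAut.inv_apply_self])
  obtain ⟨g', hg', hg'f, -⟩ := hf'.symm
  have hcard : Nat.card Q < Nat.card N' := by
    rw [← hf'.card_eq]
    obtain ⟨g₀, hg₀N, hg₀Q⟩ := exists_mem_normalizerIn_not_mem hS hQS hQne
    have hfinN : Finite N := finite_of_le S hNS
    have hlt : Q < N := lt_of_le_of_ne hQN (fun h => hg₀Q (h ▸ hg₀N))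
    exact card_lt_of_lt' hNS hlt
  have hWN' : W ≤ N' := by
    intro y hy
    have hyQ : y ∈ Q := hWQ hy
    have e1 : f' ((a' ⟨y, hyQ⟩ : Q) : Ω) = y := by
      rw [hf'Q _ (a' ⟨y, hyQ⟩).2 (hQN (a' ⟨y, hyQ⟩).2), hfx]
      simp
    rw [← e1]
    exact hf'.map_mem (hQN (a' ⟨y, hyQ⟩).2)
  have hfin := IH N' N g' hcard hWN' hg'
  -- `v = g' (f' v) = g' (w)`
  have e1 : f' (v : Ω) = z ^ (p ^ n) := by
    rw [hf'Q _ v.2 (hQN v.2), hfx]
    have : a'⁻¹ v = zQ ^ (p ^ n) := by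
      rw [← hx'v, hx', ← map_pow, MulAut.inv_apply_self]
    rw [this]
    rfl
  have e2 : g' (f' (v : Ω)) = (v : Ω) := hg'f _ (hQN v.2)
  have e3 : ((α ⟨z, hzQ⟩ : Q) : Ω) ^ (p ^ n) = (v : Ω) := by
    rw [hv, map_pow]
    rfl
  rw [e3, ← e2, e1]
  exact hfin _ (gen_mem p n hz)

theorem Z_le_of_centric {F : FusionSystem S} {Q : Subgroup Ω} (hQ : F.IsCentric Q) :
    S ⊓ Subgroup.centralizer (S : Set Ω) ≤ Q := by
  have hQS : Q ≤ S := hQ.1
  intro y hy
  have hy' := (mem_Z_iff y).1 hy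
  apply hQ.2 Q (isConj_refl F hQS)
  refine Subgroup.mem_inf.2 ⟨hy'.1, ?_⟩
  rw [Subgroup.mem_centralizer_iff]
  intro q hq
  exact hy'.2 q (hQS hq)

/-- Let p be a prime, n a natural number, S a nontrivial finite p-group of nilpotence class at most n(p−1)+1, and F a saturated fusion system over S. Then the subgroup generated by the pⁿ-th powers of the elements of Z(S) is normal in F. -/
theorem result {Ω : Type*} [Group Ω] {S : Subgroup Ω} [Finite S] (p : ℕ) [Fact p.Prime] (hS : IsPGroup p S) (F : Cfsg.FusionSystem S) (hF : F.IsSaturated p) (n : ℕ) (hS1 : S ≠ ⊥) (hcl : Subgroup.lowerCentralSeries S (n * (p - 1) + 1) = ⊥) : F.IsNormal (Cfsg.powerClosure p n (S ⊓ Subgroup.centralizer (S : Set Ω))) := by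
  apply isNormal_of_essential_ind hS hF
  intro T hT IH
  by_cases hTS : T = S
  · subst hTS
    exact ⟨(W_le p n).trans inf_le_left, fun α _ x hx => aut_top_inv p n α x hx⟩
  · have hess : F.IsEssential p T := hT.resolve_left hTS
    have hZT := Z_le_of_centric hess.1
    refine ⟨(W_le p n).trans hZT, fun α hα => ?_⟩
    apply map_W_of_gens p n hZT α.toMonoidHom
    intro z hz
    exact essential_gen hS hF n hcl hess hTS IH hα hz (hZT hz)

end Cfsg.Agent.S5218
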