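import Cfsg.Statements.S5220
import Cfsg.Agent.Lib.H26.GenMain
import Cfsg.Agent.S5097

set_option autoImplicit false
open Cfsg

namespace Cfsg.Agent.S5220

/-- Let F be a saturated fusion system over a nontrivial finite p-group S, let J(S) be the subgroup generated by the abelian subgroups of S of largest order, and let V be the subgroup generated by the p-th powers of the elements of Z(S). Then F is generated by the centralizer fusion system of V and the normalizer fusion system of J(S): every fusion system over S containing the maps of both contains every map of F. -/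
theorem result {Ω : Type*} [Group Ω] {S : Subgroup Ω} [Finite S] (p : ℕ) [Fact p.Prime] (hS : IsPGroup p S) (F : Cfsg.FusionSystem S) (hF : F.IsSaturated p) (hS1 : S ≠ ⊥) (C : Cfsg.FusionSystem (Cfsg.FusionSystem.centralizerIn S (Cfsg.powerClosure p 1 (S ⊓ Subgroup.centralizer (S : Set Ω))))) (hC : F.IsCentralizerSystem (Cfsg.powerClosure p 1 (S ⊓ Subgroup.centralizer (S : Set Ω))) C) (N : Cfsg.FusionSystem (Cfsg.FusionSystem.normalizerIn S (Cfsg.thompsonSubgroupAOf S))) (hN : F.IsNormalizerSystem (Cfsg.thompsonSubgroupAOf S) N) (E : Cfsg.FusionSystem S) (hCE : C.IsSubsystemOf E) (hNE : N.IsSubsystemOf E) : F.IsSubsystemOf E := by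
  classical
  have hVdef : Cfsg.powerClosure p 1 (S ⊓ Subgroup.centralizer (S : Set Ω)) =
      Cfsg.Agent.Lib.H26.Gen.vOf p S := rfl
  have hJdef : Cfsg.thompsonSubgroupAOf S = (Cfsg.Agent.Lib.H26.Gen.jFun p).W S := rfl
  set V := Cfsg.Agent.Lib.H26.Gen.vOf p S with hV
  set J := (Cfsg.Agent.Lib.H26.Gen.jFun p).W S with hJ
  have hVZ : V ≤ S ⊓ Subgroup.centralizer (S : Set Ω) := Cfsg.Agent.Lib.H26.Gen.vOf_le p S
  have hC' : ∀ P : Subgroup Ω, C.Hom P = F.centralizerHom V P := hC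
  have hN' : ∀ P : Subgroup Ω, N.Hom P = F.normalizerHom J P := hN
  -- the maps of `F` lying in `E`
  set E₀ := Cfsg.Agent.Lib.H26.Gen.resSys F E (le_refl S) with hE₀
  have hE₀F : ∀ P : Subgroup Ω, E₀.Hom P ⊆ F.Hom P :=
    Cfsg.Agent.Lib.H26.Gen.resSys_le F E (le_refl S)
  have hCgood : Cfsg.Agent.Lib.H26.Gen.CGood F E₀ V := by
    intro A B g hVA hg hfix
    rw [Cfsg.Agent.Lib.H26.Gen.isIso_resSys_iff]
    refine ⟨hg, ?_⟩
    have hAS := hg.le_left
    have hBS := hg.le_right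
    have hSC : S ≤ Cfsg.FusionSystem.centralizerIn S V := by
      intro x hx
      refine ⟨hx, ?_⟩
      show x ∈ Subgroup.centralizer (V : Set Ω)
      rw [Subgroup.mem_centralizer_iff]
      intro v hv
      have h3 : v ∈ Subgroup.centralizer (S : Set Ω) := (hVZ hv).2
      rw [Subgroup.mem_centralizer_iff] at h3
      exact (h3 x hx).symm
    obtain ⟨φ, hφ, hφg, hr⟩ := hg
    refine ⟨φ, hCE A ?_, hφg, hr⟩
    rw [hC' A, Cfsg.Agent.S5097.mem_centralizerHom_iff]
    refine ⟨hφ, hAS.trans hSC, fun x => hSC ?_, g, B, ?_, fun x => (hφg x).symm, hfix⟩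
    · apply hBS
      rw [← hr]; exact ⟨x, rfl⟩
    · rw [sup_eq_left.2 hVA]
      exact ⟨φ, hφ, hφg, hr⟩
  have hNgood : Cfsg.Agent.Lib.H26.ZJ.Good F E₀ J := by
    intro A B g hJA hAT hg hgJ
    rw [Cfsg.Agent.Lib.H26.Gen.isIso_resSys_iff]
    refine ⟨hg, ?_⟩
    obtain ⟨-, hNHom⟩ := Cfsg.Agent.Lib.H26.ZJ.isNHom_of_normalizes hJA hAT hg hgJ
    have h1 : Cfsg.Agent.Lib.H25.IsIso N A B g :=
      Cfsg.Agent.Lib.H26.ZJ.isIso_of_isNHom hN' hg hNHom
    exact Cfsg.Agent.Lib.H26.ZJ.isIso_of_hom_le hNE h1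
  have hmain := Cfsg.Agent.Lib.H26.Gen.main_gen (Cfsg.Agent.Lib.H26.Gen.jFun p)
    (fun G _ _ P hn => Cfsg.Agent.Lib.H26.Gen.quad_J G P hn) (Nat.card S) rfl hS F hF E₀ hE₀F
    hCgood hNgood
  intro P φ hφ
  exact (hmain P hφ).2

end Cfsg.Agent.S5220
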