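import Cfsg.Statements.S5221
import Cfsg.Agent.Lib.H26.Sparse
import Cfsg.Agent.Lib.H26.ThompsonFusion

set_option autoImplicit false
open Cfsg

namespace Cfsg.Agent.S5221

/-- Let F be a sparse fusion system over a finite p-group S: a saturated fusion system, not the inner fusion system of S, whose only saturated fusion systems over S contained in it are F itself and the inner one. If p is odd, or F is S₄-free (the symmetric group of degree 4 is not involved in any model of the normalizer system of a fully normalized F-centric subgroup), then F is constrained. -/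
theorem result {Ω : Type*} [Group Ω] {S : Subgroup Ω} [Finite S] (p : ℕ) [Fact p.Prime] (hS : IsPGroup p S) (F : Cfsg.FusionSystem S) (hF : F.IsSaturated p) (hsp : ¬ (∀ P : Subgroup Ω, F.Hom P = (Cfsg.innerFusionSystem S).Hom P) ∧ ∀ E : Cfsg.FusionSystem S, E.IsSaturated p → E.IsSubsystemOf F → (∀ P : Subgroup Ω, E.Hom P = F.Hom P) ∨ (∀ P : Subgroup Ω, E.Hom P = (Cfsg.innerFusionSystem S).Hom P)) (hp : p ≠ 2 ∨ F.IsSectionFree p (Equiv.Perm (Fin 4))) : F.IsConstrained p := by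
  classical
  have hfr : Cfsg.Agent.Lib.H26.Thompson.Fr p F := hp
  have hnot : ¬ Cfsg.Agent.Lib.H26.Nil.AllP p F :=
    fun h => hsp.1 (Cfsg.Agent.Lib.H26.Nil.eq_inner_of_allP hS hF h)
  have hsp' : ∀ E : Cfsg.FusionSystem S, E.IsSaturated p →
      (∀ P : Subgroup Ω, E.Hom P ⊆ F.Hom P) →
      (∀ P : Subgroup Ω, F.Hom P ⊆ E.Hom P) ∨ Cfsg.Agent.Lib.H26.Nil.AllP p E := by
    intro E hE hEF
    rcases hsp.2 E hE hEF with h | h
    · exact Or.inl (fun P => (h P).ge)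
    · exact Or.inr (Cfsg.Agent.Lib.H26.Nil.allP_of_eq_inner hS h)
  have hSne : S ≠ ⊥ := fun h => hnot (Cfsg.Agent.Lib.H26.Nil.allP_of_eq_bot h)
  -- a nontrivial normal subgroup
  have hex : ∃ W₀ : Subgroup Ω, F.IsNormal W₀ ∧ W₀ ≠ ⊥ := by
    have h1 : Cfsg.Agent.Lib.H26.Thompson.NTC p F ((Cfsg.Agent.Lib.H26.Thompson.zFun p).W S) ∨
        Cfsg.Agent.Lib.H26.Nil.NT p F ((Cfsg.Agent.Lib.H26.Gen.jFun p).W S) := by
      by_contra hcon
      push Not at hcon
      exact hnot (Cfsg.Agent.Lib.H26.Thompson.thGoal_all (p := p) (Nat.card S) rfl hS F hF hfr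
        hcon.1 hcon.2)
    rcases h1 with h1 | h1
    · exact ⟨_, Cfsg.Agent.Lib.H26.Sparse.isNormal_of_sparse_of_NT hS hF hsp'
        ((Cfsg.Agent.Lib.H26.Thompson.zFun p).le S)
        ((Cfsg.Agent.Lib.H26.Thompson.zFun p).normalizerIn_self S hS) h1.toNT,
        (Cfsg.Agent.Lib.H26.Thompson.zFun p).ne_bot S inferInstance hS hSne⟩
    · exact ⟨_, Cfsg.Agent.Lib.H26.Sparse.isNormal_of_sparse_of_NT hS hF hsp'
        ((Cfsg.Agent.Lib.H26.Gen.jFun p).le S)
        ((Cfsg.Agent.Lib.H26.Gen.jFun p).normalizerIn_self S hS) h1,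
        (Cfsg.Agent.Lib.H26.Gen.jFun p).ne_bot S inferInstance hS hSne⟩
  -- a normal subgroup of largest order
  have hfin : {Q : Subgroup Ω | F.IsNormal Q ∧ Q ≠ ⊥}.Finite :=
    (Cfsg.Agent.Lib.H25.finite_subgroups_le S).subset (fun Q hQ => hQ.1.1)
  obtain ⟨Q, ⟨hQ, hQne⟩, hQmax⟩ := Set.exists_max_image _
    (fun Q : Subgroup Ω => Nat.card Q) hfin hex
  have hQsc := Cfsg.Agent.Lib.H25.isNormal_stronglyClosed hQ
  have hQS := hQ.1
  have hfinQ : Finite Q := Cfsg.Agent.Lib.H25.finite_of_le S hQS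
  have hmax : ∀ R : Subgroup Ω, Q < R → ¬ F.IsNormal R := by
    intro R hQR hR
    have hRne : R ≠ ⊥ := by
      rintro rfl
      exact not_lt_bot hQR
    have h1 : Nat.card R ≤ Nat.card Q := hQmax R ⟨hR, hRne⟩
    have h2 := Cfsg.Agent.Lib.H25.card_lt_of_lt' hR.1 hQR
    omega
  have hmax' : ∀ R : Subgroup Ω, Q < R → Cfsg.FusionSystem.normalizerIn S R = S →
      ¬ Cfsg.Agent.Lib.H26.Nil.NT p F R := by
    intro R hQR hRn hnt
    have hRS : R ≤ S := by
      obtain ⟨P, f, hRP, hPN, -⟩ := hnt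
      exact hRP.trans (hPN.trans inf_le_left)
    exact hmax R hQR (Cfsg.Agent.Lib.H26.Sparse.isNormal_of_sparse_of_NT hS hF hsp' hRS hRn hnt)
  -- the quotient system
  obtain ⟨Ω', _, S', F', θ, hsm, hker, hfac⟩ := Cfsg.Agent.Lib.H26.Nil.exists_factor hS hF hQsc
  have hrange := hsm.2.1
  have hfinS' : Finite S' := Cfsg.Agent.Lib.H25.finite_S' hrange
  have hS'p : IsPGroup p S' := Cfsg.Agent.Lib.H25.isPGroup_S' hrange hS
  have hK : F.StronglyClosed (Cfsg.Agent.Lib.H25.kerSub θ) := hker ▸ hQsc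
  have hF'sat : F'.IsSaturated p :=
    Cfsg.Agent.Lib.H25.isSaturated_of_surjectiveMorphism hS hF hsm
  have hF'fr : Cfsg.Agent.Lib.H26.Thompson.Fr p F' := by
    rcases hfr with h | h
    · exact Or.inl h
    · exact Or.inr (Cfsg.Agent.Lib.H26.SecFree.factor_isSectionFree p hS F hF Q hQ h θ F' hfac)
  have hallF' : Cfsg.Agent.Lib.H26.Nil.AllP p F' := by
    by_cases hS'bot : S' = ⊥
    · exact Cfsg.Agent.Lib.H26.Nil.allP_of_eq_bot hS'bot
    apply Cfsg.Agent.Lib.H26.Thompson.thGoal_all (p := p) (Nat.card S') rfl hS'p F' hF'sat hF'fr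
    · intro hnt
      exact Cfsg.Agent.Lib.H26.Thompson.quot_aux (Cfsg.Agent.Lib.H26.Thompson.zFun p) hS hsm hker
        hK hS'bot hmax' hnt.toNT
    · exact Cfsg.Agent.Lib.H26.Thompson.quot_aux (Cfsg.Agent.Lib.H26.Gen.jFun p) hS hsm hker hK
        hS'bot hmax'
  -- automorphisms centralizing `Q` are `p`-elements
  obtain ⟨m, hm⟩ := (hS.to_le hQS).exists_card_eq
  have hstab : ∀ (P : Subgroup Ω) (f : Ω → Ω), Cfsg.Agent.Lib.H25.IsIso F P P f → Q ≤ P →
      (∀ x ∈ Q, f x = x) → Cfsg.Agent.Lib.H26.Nil.IsPAut p P f := by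
    intro P f hf hQP hfix
    exact Cfsg.Agent.Lib.H26.Nil.push_isPAut hsm.1 hallF' hf (hker ▸ hQP) (hker ▸ hfix)
      (hker ▸ hm)
  have hRn := Cfsg.Agent.Lib.H26.Nil.isNormal_sup_centralizer hS hF hQ hstab
  have hC : Cfsg.FusionSystem.centralizerIn S Q ≤ Q := by
    by_contra hC
    refine hmax (Q ⊔ Cfsg.FusionSystem.centralizerIn S Q) ?_ hRn
    refine lt_of_le_of_ne le_sup_left ?_
    intro heq
    exact hC ((le_sup_right : Cfsg.FusionSystem.centralizerIn S Q ≤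
      Q ⊔ Cfsg.FusionSystem.centralizerIn S Q).trans (le_of_eq heq.symm))
  exact ⟨hF, Q, hQ, Cfsg.Agent.Lib.H26.Nil.isCentric_of_isNormal hQ hC⟩

end Cfsg.Agent.S5221
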