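import Cfsg.Statements.S5222
import Cfsg.Agent.Lib.H26.FrattiniNormalizer
import Cfsg.Agent.Lib.H25.KNormSpecial

set_option autoImplicit false
open Cfsg Cfsg.FusionSystem Cfsg.Agent.Lib.H25 Cfsg.Agent.Lib.H26
open scoped commutatorElement

namespace Cfsg.Agent.S5222

/-- Let F be a saturated fusion system over a finite p-group S whose normalizer fusion system of S is the inner fusion system of S (Aut_F(S) is a p-group). Then for every subgroup Q of S with [S, S] ≤ Q ≤ Φ(S), the normalizer fusion system of Q in F is the inner fusion system of N_S(Q) = S. -/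
theorem result {Ω : Type*} [Group Ω] {S : Subgroup Ω} [Finite S] (p : ℕ) [Fact p.Prime] (hS : IsPGroup p S) (F : Cfsg.FusionSystem S) (hF : F.IsSaturated p) (hN : ∀ N : Cfsg.FusionSystem (Cfsg.FusionSystem.normalizerIn S S), F.IsNormalizerSystem S N → ∀ P : Subgroup Ω, N.Hom P = (Cfsg.innerFusionSystem (Cfsg.FusionSystem.normalizerIn S S)).Hom P) (Q : Subgroup Ω) (h1 : (commutator ↥S).map S.subtype ≤ Q) (h2 : Q ≤ (frattini ↥S).map S.subtype) : ∀ N : Cfsg.FusionSystem (Cfsg.FusionSystem.normalizerIn S Q), F.IsNormalizerSystem Q N → ∀ P : Subgroup Ω, N.Hom P = (Cfsg.innerFusionSystem (Cfsg.FusionSystem.normalizerIn S Q)).Hom P := by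
  classical
  intro N hNsys P
  have hfrS : (frattini ↥S).map S.subtype ≤ S := by
    rintro _ ⟨x, -, rfl⟩
    exact x.2
  have hQS : Q ≤ S := h2.trans hfrS
  have hconj : ∀ s ∈ S, ∀ q ∈ Q, s * q * s⁻¹ ∈ Q := by
    intro s hs q hq
    have hc : s * q * s⁻¹ * q⁻¹ ∈ (commutator S).map S.subtype := by
      refine ⟨⁅(⟨s, hs⟩ : S), ⟨q, hQS hq⟩⁆, ?_, rfl⟩
      rw [commutator_def]
      exact Subgroup.commutator_mem_commutator (Subgroup.mem_top _) (Subgroup.mem_top _)
    have : s * q * s⁻¹ = (s * q * s⁻¹ * q⁻¹) * q := by group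
    rw [this]
    exact Q.mul_mem (h1 hc) hq
  have hQnorm : S ≤ Subgroup.normalizer (Q : Set Ω) := by
    intro s hs
    apply mem_normalizer_of_conj_mem (hconj s hs)
    intro y hy
    have := hconj s⁻¹ (S.inv_mem hs) y hy
    rwa [inv_inv] at this
  have hT : Cfsg.FusionSystem.normalizerIn S Q = S := inf_eq_left.2 hQnorm
  have hQfn : F.IsFullyNormalized Q := by
    refine ⟨hQS, fun Q' _ => ?_⟩
    rw [hT]
    exact Nat.card_le_card_of_injective
      (Subgroup.inclusion (inf_le_left : Cfsg.FusionSystem.normalizerIn S Q' ≤ S))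
      (Subgroup.inclusion_injective _)
  have hNsat : N.IsSaturated p := normalizerSystem_isSaturated hS hF hQfn N hNsys
  have hQn : N.IsNormal Q := normalizerSystem_isNormal hQS hNsys
  -- `Aut_N(S)` is inner
  have hA : N.autGroup S ≤ Cfsg.autInducedBy S S := by
    intro α hα
    have hSS : S ≤ Cfsg.FusionSystem.normalizerIn S S := le_normalizerIn le_rfl
    have h3 := (mem_autGroup_iff N hT.ge α).1 hα
    rw [hNsys S] at h3
    have hαF : S.subtype.comp α.toMonoidHom ∈ F.Hom S := h3.1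
    obtain ⟨NS, hNS⟩ := Cfsg.Agent.S5096.result F S le_rfl
    have hmem : S.subtype.comp α.toMonoidHom ∈ NS.Hom S := by
      rw [hNS S]
      have heq : S = S ⊔ S := (sup_idem S).symm
      refine ⟨hαF, hSS, fun x => hSS (α x).2, _, hom_cast F heq hαF, fun x => rfl, ?_⟩
      ext y
      constructor
      · rintro ⟨x, hx, rfl⟩
        exact (α ⟨x, Subgroup.mem_subgroupOf.1 hx⟩).2
      · intro hy
        refine ⟨⟨((α⁻¹ ⟨y, hy⟩ : S) : Ω), (le_sup_left : S ≤ S ⊔ S) (α⁻¹ ⟨y, hy⟩).2⟩,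
          Subgroup.mem_subgroupOf.2 (α⁻¹ ⟨y, hy⟩).2, ?_⟩
        show ((α (α⁻¹ ⟨y, hy⟩) : S) : Ω) = y
        simp
    rw [hN NS hNS S] at hmem
    obtain ⟨-, g, hg, hgα⟩ := hmem
    exact (mem_autInducedBy_iff S S α).2 ⟨g, hg.1, fun x => hgα x⟩
  exact inner_of_frattini_normal' hS hT hNsat hQn h1 h2 hA P

end Cfsg.Agent.S5222
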