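import Cfsg.Statements.S5223
import Cfsg.Agent.Lib.H25.Stability
import Cfsg.Agent.Lib.H25.Saturation
import Cfsg.Agent.S5083

set_option autoImplicit false
open Cfsg

namespace Cfsg.Agent.S5223

/-- The iterated commutators `[P, A, …, A]`. -/
def commChain {G : Type*} [Group G] (A : Subgroup (MulAut G)) : ℕ → Subgroup G
  | 0 => ⊤
  | (i + 1) => Subgroup.closure {y | ∃ x ∈ commChain A i, ∃ α ∈ A, y = x⁻¹ * α x}

theorem commChain_inv {G : Type*} [Group G] (A : Subgroup (MulAut G)) :
    ∀ i, ∀ β ∈ A, ∀ x ∈ commChain A i, β x ∈ commChain A i := by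
  intro i
  induction i with
  | zero => intro β _ x _; exact Subgroup.mem_top _
  | succ i ih =>
    intro β hβ x hx
    have hle : commChain A (i + 1) ≤ (commChain A (i + 1)).comap β.toMonoidHom := by
      show Subgroup.closure _ ≤ _
      rw [Subgroup.closure_le]
      rintro y ⟨x, hx, α, hα, rfl⟩
      show β (x⁻¹ * α x) ∈ commChain A (i + 1)
      apply Subgroup.subset_closure
      refine ⟨β x, ih β hβ x hx, β * α * β⁻¹, A.mul_mem (A.mul_mem hβ hα) (A.inv_mem hβ), ?_⟩
      rw [map_mul, map_inv]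
      simp
    exact hle hx

theorem commChain_anti {G : Type*} [Group G] (A : Subgroup (MulAut G)) (i : ℕ) :
    commChain A (i + 1) ≤ commChain A i := by
  show Subgroup.closure _ ≤ _
  rw [Subgroup.closure_le]
  rintro y ⟨x, hx, α, hα, rfl⟩
  exact Subgroup.mul_mem _ (Subgroup.inv_mem _ hx) (commChain_inv A i α hα x hx)

/-- If the iterated commutator chain reaches `⊥`, the group of automorphisms is a `p`-group. -/
theorem isPGroup_of_commChain {G : Type*} [Group G] [Finite G] {p : ℕ} [Fact p.Prime]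
    (hG : IsPGroup p G) (A : Subgroup (MulAut G)) (n : ℕ) (hn : commChain A n = ⊥) :
    IsPGroup p A := by
  let U : ℕ → Subgroup G := fun j => commChain A (n - j)
  have hinv : ∀ α ∈ A, ∀ i, ∀ x ∈ U i, α x ∈ U i := fun α hα i x hx =>
    commChain_inv A (n - i) α hα x hx
  have hU0 : U 0 = ⊥ := hn
  have hUn : U n = ⊤ := by
    show commChain A (n - n) = ⊤
    rw [Nat.sub_self]
    rfl
  have hmono : ∀ i < n, U i ≤ U (i + 1) := by
    intro i hi
    show commChain A (n - i) ≤ commChain A (n - (i + 1))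
    have : n - i = (n - (i + 1)) + 1 := by omega
    rw [this]
    exact commChain_anti A _
  have hp := Cfsg.Agent.Lib.H25.stabSub_isPGroup hG A U n hinv hU0 hmono hUn
  have hle : A ≤ Cfsg.Agent.Lib.H25.stabSub A U n hinv := by
    intro β hβ
    refine ⟨hβ, fun i hi x hx => ?_⟩
    show x⁻¹ * β x ∈ commChain A (n - i)
    have : n - i = (n - (i + 1)) + 1 := by omega
    rw [this]
    exact Subgroup.subset_closure ⟨x, hx, β, hβ, rfl⟩
  exact hp.to_le hle

/-- Let F be a saturated fusion system over a finite p-group S. Suppose there are subgroups Q₀ = S, Q₁, …, Qₙ = 1 (not required to be nested) such that for each i < n the focal subgroup of Qᵢ (generated by the elements x⁻¹φ(x), x ∈ Qᵢ, φ a map of F defined on the cyclic group generated by x) lies in Qᵢ₊₁. Then F is the inner fusion system of S. -/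
theorem result {Ω : Type*} [Group Ω] {S : Subgroup Ω} [Finite S] (p : ℕ) [Fact p.Prime] (hS : IsPGroup p S) (F : Cfsg.FusionSystem S) (hF : F.IsSaturated p) (n : ℕ) (Q : Fin (n + 1) → Subgroup Ω) (hQ0 : Q 0 = S) (hQn : Q (Fin.last n) = ⊥) (hstep : ∀ i : Fin n, Subgroup.closure {y : Ω | ∃ x ∈ Q i.castSucc, ∃ φ ∈ F.Hom (Subgroup.zpowers x), y = x⁻¹ * φ ⟨x, Subgroup.mem_zpowers x⟩} ≤ Q i.succ) : ∀ P : Subgroup Ω, F.Hom P = (Cfsg.innerFusionSystem S).Hom P := by
  open Cfsg.FusionSystem Cfsg.Agent.Lib.H25 in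
  classical
  have hall : ∀ P : Subgroup Ω, P ≤ S → IsPGroup p (F.autGroup P) := by
    intro P hPS
    have : Finite P := finite_of_le S hPS
    have hPp : IsPGroup p P := hS.to_le hPS
    -- the chain lies in the `Q i`
    have hle : ∀ i (hi : i ≤ n), ∀ x ∈ commChain (F.autGroup P) i,
        ((x : P) : Ω) ∈ Q ⟨i, Nat.lt_succ_of_le hi⟩ := by
      intro i
      induction i with
      | zero =>
        intro hi x _
        have : Q ⟨0, Nat.lt_succ_of_le hi⟩ = S := hQ0
        rw [this]
        exact hPS x.2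
      | succ i ih =>
        intro hi
        have hle' : commChain (F.autGroup P) (i + 1) ≤
            (Q ⟨i + 1, Nat.lt_succ_of_le hi⟩).comap P.subtype := by
          show Subgroup.closure _ ≤ _
          rw [Subgroup.closure_le]
          rintro y ⟨x, hx, α, hα, rfl⟩
          show (((x⁻¹ * α x : P) : P) : Ω) ∈ Q ⟨i + 1, Nat.lt_succ_of_le hi⟩
          have hxQ := ih (by omega) x hx
          have hφ := (mem_autGroup_iff F hPS α).1 hα
          have hzP : Subgroup.zpowers (x : Ω) ≤ P := Subgroup.zpowers_le.2 x.2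
          have hφ' := restrict_mem F hφ hzP
          apply hstep ⟨i, by omega⟩
          apply Subgroup.subset_closure
          refine ⟨(x : Ω), hxQ, _, hφ', ?_⟩
          rfl
        intro x hx
        exact hle' hx
    apply isPGroup_of_commChain hPp (F.autGroup P) n
    rw [eq_bot_iff]
    intro x hx
    have h1 := hle n le_rfl x hx
    have h2 : Q ⟨n, Nat.lt_succ_of_le le_rfl⟩ = ⊥ := hQn
    rw [h2, Subgroup.mem_bot] at h1
    rw [Subgroup.mem_bot]
    exact Subtype.ext h1
  have := Cfsg.Agent.S5083.result p hS F hF hall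
  intro P
  rw [this]

end Cfsg.Agent.S5223
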