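import Cfsg.Statements.S5226
import Cfsg.Agent.Lib.H26.WeakSeries
import Cfsg.Agent.S5088

set_option autoImplicit false
open Cfsg

namespace Cfsg.Agent.S5226

/-- Let F be a saturated fusion system over a finite p-group S and Q a subgroup of S. Then Q is normal in F (F equals the normalizer system of Q) if and only if Q is strongly closed in F and admits a central series 1 = Q₀ ≤ Q₁ ≤ ⋯ ≤ Qₙ = Q ([Qᵢ₊₁, Q] ≤ Qᵢ) all of whose proper terms are weakly closed in F. -/
theorem result {Ω : Type*} [Group Ω] {S : Subgroup Ω} [Finite S] (p : ℕ) [Fact p.Prime] (hS : IsPGroup p S) (F : Cfsg.FusionSystem S) (hF : F.IsSaturated p) (Q : Subgroup Ω) : F.IsNormal Q ↔ F.StronglyClosed Q ∧ ∃ (n : ℕ) (C : Fin (n + 1) → Subgroup Ω), C 0 = ⊥ ∧ C (Fin.last n) = Q ∧ Monotone C ∧ (∀ i : Fin n, ⁅C i.succ, Q⁆ ≤ C i.castSucc) ∧ ∀ i : Fin n, F.WeaklyClosed (C i.castSucc) := by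
  open Cfsg.FusionSystem Cfsg.Agent.Lib.H25 Cfsg.Agent.Lib.H26 in
  classical
  constructor
  · intro hQ
    refine ⟨isNormal_stronglyClosed hQ, ?_⟩
    obtain ⟨n, Qs, h0, hn, hmono, hstep⟩ := (Cfsg.Agent.S5088.result p hS F hF Q).1 hQ
    refine ⟨n, Qs, h0, hn, hmono, fun i => ?_, fun i => ?_⟩
    · rw [Subgroup.commutator_comm]
      exact (hstep i).2
    · rcases Fin.eq_zero_or_eq_succ i.castSucc with h | ⟨j, hj⟩
      · rw [h, h0]
        exact weaklyClosed_of_stronglyClosed (stronglyClosed_bot F)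
      · rw [hj]
        exact weaklyClosed_of_stronglyClosed (hstep j).1
  · rintro ⟨hQsc, n, C, h0, hn, hmono, hcomm, hwc⟩
    let U : ℕ → Subgroup Ω := fun j => if h : j ≤ n then C ⟨j, Nat.lt_succ_of_le h⟩ else Q
    have hU : ∀ j (h : j ≤ n), U j = C ⟨j, Nat.lt_succ_of_le h⟩ := fun j h => dif_pos h
    apply isNormal_of_weaklyClosed_series hS hF hQsc U n
    · rw [hU 0 (Nat.zero_le n)]
      exact h0
    · rw [hU n le_rfl]
      exact hn
    · intro i hi
      rw [hU i hi.le, hU (i + 1) hi]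
      apply hmono
      show i ≤ i + 1
      omega
    · intro i hi
      rw [hU i hi.le]
      exact hwc ⟨i, hi⟩
    · intro i hi
      rw [hU i hi.le, hU (i + 1) hi]
      exact hcomm ⟨i, hi⟩

end Cfsg.Agent.S5226
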