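import Cfsg.Statements.S5233
import Cfsg.Agent.Lib.H26.GXSTorus2
import Cfsg.Agent.Lib.H20.GXSD8
import Cfsg.Agent.Lib.H1.GXSES

set_option autoImplicit false
open Cfsg

namespace Cfsg.Agent.S5233

/-- Let F be a saturated fusion system over a finite p-group S and P a subgroup of S strongly closed in F that is generalized extraspecial (its Frattini subgroup equals its commutator subgroup and has order p) and not isomorphic to E × A with A elementary abelian and E dihedral of order 8 (p = 2) or extraspecial of order p³ and exponent p (p odd). Then P is normal in F. -/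
theorem result {Ω : Type*} [Group Ω] {S : Subgroup Ω} [Finite S] (p : ℕ) [Fact p.Prime] (hS : IsPGroup p S) (F : Cfsg.FusionSystem S) (hF : F.IsSaturated p) (P : Subgroup Ω) (hP : F.StronglyClosed P) (hge : frattini ↥P = commutator ↥P ∧ Nat.card ↥(commutator ↥P) = p) (h2 : p = 2 → ¬ ∃ (A : Type) (_ : CommGroup A), (∀ a : A, a ^ 2 = 1) ∧ Nonempty (↥P ≃* DihedralGroup 4 × A)) (hodd : p ≠ 2 → ¬ ∃ (E : Type) (_ : Group E) (A : Type) (_ : CommGroup A), Cfsg.IsExtraspecial p E ∧ Nat.card E = p ^ 3 ∧ Monoid.exponent E = p ∧ (∀ a : A, a ^ p = 1) ∧ Nonempty (↥P ≃* E × A)) : F.IsNormal P := by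
  have hc : Nat.card ↥⁅P, P⁆ = p := by
    rw [Cfsg.Agent.Lib.H26.GXS.card_comm_eq]; exact hge.2
  apply Cfsg.Agent.Lib.H26.GXS.isNormal_of_no_core hS hF hP hc
  intro t z f C' hK
  have hfinP : Finite ↥P := Finite.of_injective (Subgroup.inclusion hP.1) (Subgroup.inclusion_injective hP.1)
  obtain ⟨hBi, hBc, hBe⟩ := Cfsg.Agent.Lib.H26.GXS.cen_sub_props hS hP hge.1 hc hK
  by_cases hp2 : p = 2
  · subst hp2
    exact h2 rfl (Cfsg.Agent.Lib.H20.GXS.exists_dihedral_decomp hge.1 hge.2 _ hBi hBc hBe)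
  · by_cases hy : ∃ y ∈ P, y ∉ Cfsg.Agent.Lib.H26.GXS.cen S P t ∧ y ^ p = 1
    · obtain ⟨y, hyP, hyB, hyp⟩ := hy
      exact hodd hp2 (Cfsg.Agent.Lib.H1.GXS.exists_extraspecial_decomp p hp2 hge.1 hge.2 _ hBi hBc
        hBe ⟨y, hyP⟩ (fun h => hyB (Subgroup.mem_subgroupOf.1 h))
        (Subtype.ext (by simpa using hyp)))
    · exact Cfsg.Agent.Lib.H26.GXS.core_torus_false hS hF hP hge.1 hc hK hp2
        (fun y hyP hyB hyp => hy ⟨y, hyP, hyB, hyp⟩)

end Cfsg.Agent.S5233
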