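import Cfsg.Statements.S5236
import Cfsg.Agent.Lib.H26.OmegaSeries
import Cfsg.Agent.S5106

set_option autoImplicit false
open Cfsg
open scoped commutatorElement

namespace Cfsg.Agent.S5236


/-- Automorphisms of `P` preserve `Ω₁(P)`. -/
theorem aut_mem_omegaOne {Ω : Type*} [Group Ω] (p : ℕ) (P : Subgroup Ω) (α : MulAut P) :
    ∀ z ∈ Cfsg.omegaOne p P, ∃ hz : z ∈ P, ((α ⟨z, hz⟩ : P) : Ω) ∈ Cfsg.omegaOne p P := by
  intro z hz
  unfold Cfsg.omegaOne at hz
  refine Subgroup.closure_induction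
    (p := fun z _ => ∃ hz : z ∈ P, ((α ⟨z, hz⟩ : P) : Ω) ∈ Cfsg.omegaOne p P) ?_ ?_ ?_ ?_ hz
  · rintro x ⟨hxP, hxp⟩
    refine ⟨hxP, Subgroup.subset_closure ⟨(α ⟨x, hxP⟩).2, ?_⟩⟩
    have h1 : (⟨x, hxP⟩ : P) ^ p = 1 := Subtype.ext (by simpa using hxp)
    have h2 : (α ⟨x, hxP⟩) ^ p = 1 := by rw [← map_pow, h1, map_one]
    have := congrArg Subtype.val h2
    simpa using this
  · refine ⟨P.one_mem, ?_⟩
    have : (⟨1, P.one_mem⟩ : P) = 1 := rfl
    rw [this, map_one]
    exact Subgroup.one_mem _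
  · rintro a b _ _ ⟨ha, ha'⟩ ⟨hb, hb'⟩
    refine ⟨P.mul_mem ha hb, ?_⟩
    have : (⟨a * b, P.mul_mem ha hb⟩ : P) = ⟨a, ha⟩ * ⟨b, hb⟩ := rfl
    rw [this, map_mul, Subgroup.coe_mul]
    exact Subgroup.mul_mem _ ha' hb'
  · rintro a _ ⟨ha, ha'⟩
    refine ⟨P.inv_mem ha, ?_⟩
    have : (⟨a⁻¹, P.inv_mem ha⟩ : P) = ⟨a, ha⟩⁻¹ := rfl
    rw [this, map_inv, Subgroup.coe_inv]
    exact Subgroup.inv_mem _ ha'

/-- Let p be an odd prime, F a saturated fusion system over a finite p-group S and P a subgroup of S strongly closed in F. Then P is normal in F if and only if Ω₁(P) (the subgroup generated by the elements of order p of P) has a chain of subgroups 1 = Q₀ ≤ Q₁ ≤ ⋯ ≤ Qₙ = Ω₁(P), each strongly closed in F, with [Qᵢ₊₁, P] ≤ Qᵢ for all i. -/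
theorem result {Ω : Type*} [Group Ω] {S : Subgroup Ω} [Finite S] (p : ℕ) [Fact p.Prime] (hS : IsPGroup p S) (F : Cfsg.FusionSystem S) (hF : F.IsSaturated p) (hp : p ≠ 2) (P : Subgroup Ω) (hP : F.StronglyClosed P) : F.IsNormal P ↔ ∃ (n : ℕ) (Q : Fin (n + 1) → Subgroup Ω), Q 0 = ⊥ ∧ Q (Fin.last n) = Cfsg.omegaOne p P ∧ Monotone Q ∧ (∀ i : Fin (n + 1), F.StronglyClosed (Q i)) ∧ ∀ i : Fin n, ⁅Q i.succ, P⁆ ≤ Q i.castSucc := by
  have hPS : P ≤ S := hP.1
  have hOmP : Cfsg.omegaOne p P ≤ P := by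
    unfold Cfsg.omegaOne
    rw [Subgroup.closure_le]
    exact fun x hx => hx.1
  constructor
  · intro hPn
    have hfinP : Finite P := Cfsg.Agent.Lib.H25.finite_of_le S hPS
    have hPp : IsPGroup p P := hS.to_le hPS
    have hnil : Group.IsNilpotent P := hPp.isNilpotent
    obtain ⟨n, hn⟩ := hnil.nilpotent
    have hZinv : ∀ (α : MulAut P) (i : ℕ) (y : P),
        (y : Ω) ∈ (Subgroup.upperCentralSeries P i).map P.subtype →
        ((α y : P) : Ω) ∈ (Subgroup.upperCentralSeries P i).map P.subtype := by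
      intro α i y hy
      obtain ⟨z, hz, hzy⟩ := hy
      have hzy' : z = y := Subtype.ext hzy
      have hchar : (Subgroup.upperCentralSeries P i).Characteristic := inferInstance
      have hfix := hchar.fixed α
      have h1 : z ∈ (Subgroup.upperCentralSeries P i).comap α.toMonoidHom := by
        rw [hfix]; exact hz
      rw [← hzy']
      exact ⟨α z, h1, rfl⟩
    refine ⟨n, fun i => Cfsg.omegaOne p P ⊓
      (Subgroup.upperCentralSeries P i.val).map P.subtype, ?_, ?_, ?_, ?_, ?_⟩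
    · show Cfsg.omegaOne p P ⊓ (Subgroup.upperCentralSeries P ((0 : Fin (n + 1)) : ℕ)).map P.subtype = ⊥
      rw [Fin.val_zero, Subgroup.upperCentralSeries_zero, Subgroup.map_bot, inf_bot_eq]
    · show Cfsg.omegaOne p P ⊓ (Subgroup.upperCentralSeries P ((Fin.last n : Fin (n + 1)) : ℕ)).map P.subtype = _
      rw [Fin.val_last, hn, ← MonoidHom.range_eq_map, Subgroup.range_subtype]
      exact inf_eq_left.2 hOmP
    · intro i j hij
      exact inf_le_inf_left _ (Subgroup.map_mono (Subgroup.upperCentralSeries_mono P hij))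
    · intro i
      refine ⟨inf_le_left.trans (hOmP.trans hPS), fun R hR φ hφ x => ?_⟩
      have hRP : R ≤ P := hR.trans (inf_le_left.trans hOmP)
      obtain ⟨α, -, hαx⟩ := (Cfsg.Agent.S5106.result p hS F hF P hPS).1 hPn R hRP φ hφ
      rw [← hαx x]
      have hx := hR x.2
      refine ⟨?_, hZinv α i.val _ hx.2⟩
      obtain ⟨hz, h1⟩ := aut_mem_omegaOne p P α _ hx.1
      exact h1
    · intro i
      rw [Subgroup.commutator_le]
      intro a ha b hb
      refine ⟨?_, ?_⟩
      · have haP : a ∈ P := hOmP ha.1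
        obtain ⟨hz, h1⟩ := aut_mem_omegaOne p P (MulAut.conj (⟨b, hb⟩ : P)) a⁻¹
          (Subgroup.inv_mem _ ha.1)
        have h2 : ((MulAut.conj (⟨b, hb⟩ : P) ⟨a⁻¹, hz⟩ : P) : Ω) = b * a⁻¹ * b⁻¹ := rfl
        rw [h2] at h1
        have h3 : ⁅a, b⁆ = a * (b * a⁻¹ * b⁻¹) := by rw [commutatorElement_def]; group
        rw [h3]
        exact Subgroup.mul_mem _ ha.1 h1
      · have h1 := Cfsg.Agent.Lib.H25.comm_upperCentralSeries_le P i.val
        rw [Subgroup.commutator_comm] at h1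
        apply h1
        have ha2 : a ∈ (Subgroup.upperCentralSeries P (i.val + 1)).map P.subtype := ha.2
        exact Subgroup.commutator_mem_commutator ha2 hb
  · rintro ⟨n, Q, hQ0, hQn, hQmono, hQsc, hQcomm⟩
    let U : ℕ → Subgroup Ω := fun j => Q ⟨min j n, by omega⟩
    have hU0 : U 0 = ⊥ := by
      rw [← hQ0]
      show Q ⟨min 0 n, _⟩ = Q 0
      congr 1
    have hUn : U n = Cfsg.omegaOne p P := by
      rw [← hQn]
      show Q ⟨min n n, _⟩ = Q (Fin.last n)
      congr 1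
      apply Fin.ext
      show min n n = n
      omega
    have hmono : ∀ i < n, U i ≤ U (i + 1) := by
      intro i _
      apply hQmono
      apply Fin.mk_le_mk.2
      omega
    have hsc : ∀ i ≤ n, F.StronglyClosed (U i) := fun i _ => hQsc _
    have hcomm : ∀ i < n, ⁅U (i + 1), P⁆ ≤ U i := by
      intro i hi
      have h1 := hQcomm ⟨i, hi⟩
      have e1 : U (i + 1) = Q (Fin.succ ⟨i, hi⟩) := by
        show Q ⟨min (i + 1) n, _⟩ = _
        congr 1
        apply Fin.ext
        show min (i + 1) n = i + 1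
        omega
      have e2 : U i = Q (Fin.castSucc ⟨i, hi⟩) := by
        show Q ⟨min i n, _⟩ = _
        congr 1
        apply Fin.ext
        show min i n = i
        omega
      rw [e1, e2]
      exact h1
    apply Cfsg.Agent.Lib.H25.isNormal_of_stronglyClosed_of_le hS hF hP
    intro T hT
    exact Cfsg.Agent.Lib.H26.le_essential_of_omega_series hS hF hp hP U n hU0 hUn hmono hsc hcomm hT

end Cfsg.Agent.S5236
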