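import Cfsg.Statements.S5238
import Cfsg.Agent.Lib.H26.PPearlMain
import Cfsg.Agent.Lib.H26.EssentialOmit
import Cfsg.Agent.Lib.H14.PPearlAP
import Cfsg.Agent.Lib.H6.PPearlNAP
import Cfsg.Agent.Lib.H1.PPearlFEXP

set_option autoImplicit false
open Cfsg

namespace Cfsg.Agent.S5238

/-- Let p be an odd prime and F a saturated fusion system over a finite p-group S having a pearl: an F-essential subgroup E that is elementary abelian of order p² or nonabelian of order p³. Then S has maximal nilpotency class (if S has order pⁿ with n ≥ 3, the term of index n − 2 of its lower central series, counting S itself as the term of index 0, is nontrivial), and every subgroup of S can be generated by at most p elements (the sectional rank of S is at most p). -/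
theorem result {Ω : Type*} [Group Ω] {S : Subgroup Ω} [Finite S] (p : ℕ) [Fact p.Prime] (hS : IsPGroup p S) (F : Cfsg.FusionSystem S) (hF : F.IsSaturated p) (hp : p ≠ 2) (E : Subgroup Ω) (hE : F.IsEssential p E) (hpearl : (Nat.card E = p ^ 2 ∧ ∀ x ∈ E, x ^ p = 1 ∧ IsMulCommutative ↥E) ∨ (Nat.card E = p ^ 3 ∧ ¬ IsMulCommutative ↥E)) : (∀ n : ℕ, Nat.card S = p ^ n → 3 ≤ n → Subgroup.lowerCentralSeries S (n - 2) ≠ ⊥) ∧ ∀ H : Subgroup Ω, H ≤ S → ∃ T : Finset Ω, T.card ≤ p ∧ Subgroup.closure (T : Set Ω) = H := by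
  classical
  have hpp : p.Prime := Fact.out
  have hES : E ≤ S := hE.1.1
  have hne : E ≠ S := Cfsg.Agent.Lib.H26.essential_ne_top hS hF hE
  have hcen : ∀ g ∈ S, (∀ x ∈ E, g * x = x * g) → g ∈ E := by
    intro g hg hx
    have h1 : Cfsg.FusionSystem.centralizerIn S E ≤ E :=
      hE.1.2 E (Cfsg.Agent.Lib.H25.isConj_refl F hES)
    apply h1
    refine ⟨hg, ?_⟩
    show g ∈ Subgroup.centralizer (E : Set Ω)
    rw [Subgroup.mem_centralizer_iff]
    intro x hx'
    exact (hx x hx').symm
  -- the uniform element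
  have huni : ∃ e ∈ E, e ≠ 1 ∧ e ^ p = 1 ∧ Nat.card {g : Ω // g ∈ S ∧ g * e = e * g} = p ^ 2 := by
    rcases hpearl with ⟨hc, hx⟩ | ⟨hc, hna⟩
    · have hcomm : IsMulCommutative ↥E := (hx 1 E.one_mem).2
      have hab : ∀ a ∈ E, ∀ b ∈ E, a * b = b * a := by
        intro a ha b hb
        have := hcomm.is_comm.comm (⟨a, ha⟩ : E) ⟨b, hb⟩
        exact congrArg Subtype.val this
      have hexp : ∀ a ∈ E, a ^ p = 1 := fun a ha => (hx a ha).1
      obtain ⟨e, heE, he1, hcard⟩ :=
        Cfsg.Agent.Lib.H14.PPearl.exists_uniform_of_abelian S E hS hES hne hc hab hexp hcen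
      exact ⟨e, heE, he1, hexp e heE, hcard⟩
    · have hna' : ∃ a ∈ E, ∃ b ∈ E, a * b ≠ b * a := by
        by_contra hcon
        push Not at hcon
        apply hna
        exact ⟨⟨fun a b => Subtype.ext (hcon a.1 a.2 b.1 b.2)⟩⟩
      have hexp : ∀ a ∈ E, a ^ p = 1 :=
        Cfsg.Agent.Lib.H1.PPearl.exponent_p_of_essential hp hS hF hE hc hna'
      obtain ⟨e, heE, he1, hcard⟩ :=
        Cfsg.Agent.Lib.H6.PPearl.exists_uniform_of_nonabelian S E hS hES hne hc hna' hexp hcen
      exact ⟨e, heE, he1, hexp e heE, hcard⟩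
  obtain ⟨e, heE, he1, hep, hcard⟩ := huni
  obtain ⟨n, hn⟩ := IsPGroup.iff_card.1 hS
  -- n ≥ 3
  have hn3 : 3 ≤ n := by
    have hlt : Nat.card E < Nat.card S := by
      by_contra hcon
      push Not at hcon
      exact hne (Subgroup.eq_of_le_of_card_ge hES hcon)
    have h2 : p ^ 2 ≤ Nat.card E := by
      rcases hpearl with ⟨hc, -⟩ | ⟨hc, -⟩
      · rw [hc]
      · rw [hc]; exact Nat.pow_le_pow_right hpp.pos (by norm_num)
    rw [hn] at hlt
    have h3 : p ^ 2 < p ^ n := lt_of_le_of_lt h2 hlt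
    have := (Nat.pow_lt_pow_iff_right hpp.one_lt).1 h3
    omega
  -- the hypothesis bundle for `G = ↥S`
  have hPP : Cfsg.Agent.Lib.H26.PPearl.PP p ↥S n (⟨e, hES heE⟩ : S) := by
    refine ⟨hn, Subtype.ext (by simpa using hep), ?_⟩
    rw [← hcard]
    refine Nat.card_congr
      { toFun := fun x => ⟨x.1.1, x.1.2, ?_⟩
        invFun := fun y => ⟨⟨y.1, y.2.1⟩, ?_⟩
        left_inv := fun x => rfl
        right_inv := fun y => rfl }
    · have := (Subgroup.mem_centralizer_iff.1 x.2) ⟨e, hES heE⟩ rfl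
      exact (congrArg Subtype.val this).symm
    · rw [Subgroup.mem_centralizer_iff]
      intro h hh
      rw [Set.mem_singleton_iff] at hh
      subst hh
      exact Subtype.ext y.2.2.symm
  obtain ⟨hmc, hgen⟩ := Cfsg.Agent.Lib.H26.PPearl.main hPP hn3
  refine ⟨?_, ?_⟩
  · intro n' hn' _ hbot
    have hnn : n' = n := Nat.pow_right_injective hpp.two_le (hn'.symm.trans hn)
    subst hnn
    apply hmc
    have h1 := Subgroup.top_subtype_lowerCentralSeries S (n' - 2)
    rw [hbot, Subgroup.map_eq_bot_iff_of_injective _ S.subtype_injective] at h1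
    exact h1
  · intro H hH
    obtain ⟨T, hT, hcl⟩ := hgen (H.subgroupOf S)
    refine ⟨T.image Subtype.val, (Finset.card_image_le).trans hT, ?_⟩
    have h1 : ((T.image Subtype.val : Finset Ω) : Set Ω) = S.subtype '' (T : Set ↥S) := by
      ext x; simp
    rw [h1, ← MonoidHom.map_closure, hcl, Subgroup.map_subgroupOf_eq_of_le hH]

end Cfsg.Agent.S5238
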