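import Cfsg.Statements.S5243
import Cfsg.Agent.Lib.H25.OliverMain

set_option autoImplicit false
open Cfsg

namespace Cfsg.Agent.S5243

open Cfsg.FusionSystem Cfsg.Agent.Lib.H25 Cfsg.Agent.S5114 Cfsg.Agent.Lib.H25.Oliver
  Cfsg.Agent.Lib.H25.FrG

/-- An element of `Aut_F(S)` as a pair of mutually inverse functions. -/
theorem autS_aut1 {Ω : Type*} [Group Ω] {S : Subgroup Ω} {F : FusionSystem S} {α : MulAut ↥S}
    (hα : α ∈ F.autGroup S) : AutS F (aut1 α) (aut1 α⁻¹) := by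
  refine ⟨isIso_aut1 F le_rfl hα, isIso_aut1 F le_rfl (Subgroup.inv_mem _ hα),
    fun x hx => ?_, fun x hx => ?_⟩
  · rw [aut1_apply_mem α hx, aut1_apply]
    simp
  · rw [aut1_apply_mem α⁻¹ hx, aut1_apply]
    simp

/-- Let F be a saturated fusion system over a finite p-group S, E a normal subsystem of F over T ≤ S, and χ a surjective homomorphism from Aut_F(T) onto a nontrivial finite group Δ of order prime to p whose kernel contains Aut_E(T). Then there is a proper normal subsystem F₀ of F over S containing E such that Aut_{F₀}(S) consists of those α ∈ Aut_F(S) whose restriction to T is an element of Aut_F(T) in the kernel of χ; moreover every p'-residual subsystem O^{p'}(F) of F is contained in F₀. -/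
theorem result {Ω : Type*} [Group Ω] {S : Subgroup Ω} [Finite S] (p : ℕ) [Fact p.Prime] (hS : IsPGroup p S) (F : Cfsg.FusionSystem S) (hF : F.IsSaturated p) {T : Subgroup Ω} (hTS : T ≤ S) (E : Cfsg.FusionSystem T) (hE : E.IsNormalIn F p) {Δ : Type*} [Group Δ] [Finite Δ] [Nontrivial Δ] (hΔ : (Nat.card Δ).Coprime p) (χ : ↥(F.autGroup T) →* Δ) (hχ : Function.Surjective χ) (hker : (E.autGroup T).subgroupOf (F.autGroup T) ≤ χ.ker) : ∃ F₀ : Cfsg.FusionSystem S, F₀.IsNormalIn F p ∧ ¬ (∀ P : Subgroup Ω, F₀.Hom P = F.Hom P) ∧ E.IsSubsystemOf F₀ ∧ (∀ α : MulAut ↥S, α ∈ F₀.autGroup S ↔ α ∈ F.autGroup S ∧ ∃ β : ↥(F.autGroup T), χ β = 1 ∧ ∀ t : ↥T, (((β : MulAut ↥T) t : ↥T) : Ω) = ((α ⟨(t : Ω), hTS t.2⟩ : ↥S) : Ω)) ∧ ∀ R : Cfsg.FusionSystem S, F.IsPPrimeResidual p R → R.IsSubsystemOf F₀ := by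
  have hsat : (F0 hS hF hE hΔ hker).IsSaturated p := F0_saturated hS hF hE hΔ hker
  have hle : (F0 hS hF hE hΔ hker).IsSubsystemOf F := F0_le hS hF hE hΔ hker
  have hres := Cfsg.Agent.S5114.result p hS F hF (F0 hS hF hE hΔ hker) hle
    (pPHyp_F0 hS hF hE hΔ hker)
  -- the automorphisms of `S` in `F₀`
  have haut : ∀ α : MulAut ↥S, α ∈ (F0 hS hF hE hΔ hker).autGroup S ↔ α ∈ F.autGroup S ∧
      ∃ β : ↥(F.autGroup T), χ β = 1 ∧ ∀ t : ↥T,
        (((β : MulAut ↥T) t : ↥T) : Ω) = ((α ⟨(t : Ω), hTS t.2⟩ : ↥S) : Ω) := by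
    intro α
    constructor
    · intro hα
      have h1 := isIso_aut1 (F0 hS hF hE hΔ hker) le_rfl hα
      obtain ⟨f', hf'⟩ := (isIso_F0_top_iff hS hF hE hΔ hker).1 h1
      refine ⟨mem_autGroup_of_isIso_aut1' hf'.1.1, ?_⟩
      obtain ⟨β, hβ1, hβv⟩ := hf'.2
      refine ⟨β, hβ1, fun t => ?_⟩
      rw [hβv, aut1_apply_mem α (hTS t.2)]
    · rintro ⟨hα, β, hβ1, hβv⟩
      apply mem_autGroup_of_isIso_aut1'
      rw [isIso_F0_top_iff]
      refine ⟨aut1 α⁻¹, autS_aut1 hα, β, hβ1, fun t => ?_⟩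
      rw [hβv, aut1_apply_mem α (hTS t.2)]
  refine ⟨F0 hS hF hE hΔ hker, ⟨⟨hsat, hF, hle, ⟨le_rfl, fun R _ φ hφ x => hom_mem_S F hφ x⟩,
    ?_, fun P _ φ hφ => hres.2.1 P φ hφ⟩, ?_⟩, ?_, E_le_F0 hS hF hE hΔ hker, haut,
    fun R hR => hR.2.2 _ hsat hres.1⟩
  · -- invariance under `Aut_F(S)`
    intro P hPS φ hφ α hα
    have ha := autS_aut1 hα
    have hf : IsIso (F0 hS hF hE hΔ hker) P φ.range (ext1 φ) := isIso_of_mem _ hφ
    obtain ⟨P₁, -, hP₁, hP₁mem⟩ := ha.1.restrict hPS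
    obtain ⟨Q₁, hQ₁⟩ := ha.exists_image hf.le_right
    have hconj := F0_conj hS hF hE hΔ hker hf ha hP₁ hQ₁
    have heq : P₁ = (P.subgroupOf S).map (S.subtype.comp α.toMonoidHom) := by
      ext y
      rw [hP₁mem]
      constructor
      · rintro ⟨x, hx, rfl⟩
        refine ⟨⟨x, hPS hx⟩, Subgroup.mem_subgroupOf.2 hx, ?_⟩
        rw [aut1_apply_mem α (hPS hx)]
        rfl
      · rintro ⟨x, hx, rfl⟩
        refine ⟨x, Subgroup.mem_subgroupOf.1 hx, ?_⟩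
        rw [aut1_apply_mem α x.2]
        rfl
    obtain ⟨ψ, hψ, hψv, -⟩ := hconj
    refine ⟨ψ.comp (MulEquiv.subgroupCongr heq.symm).toMonoidHom, hom_cast _ heq hψ,
      fun x hφx hαx => ?_⟩
    have hmem : ((α ⟨x, hPS x.2⟩ : ↥S) : Ω) ∈ P₁ := by rw [heq]; exact hαx
    have h1 : (ψ.comp (MulEquiv.subgroupCongr heq.symm).toMonoidHom)
        ⟨((α ⟨x, hPS x.2⟩ : ↥S) : Ω), hαx⟩ = ψ ⟨((α ⟨x, hPS x.2⟩ : ↥S) : Ω), hmem⟩ := rfl
    rw [h1, hψv]
    show aut1 α (ext1 φ (aut1 α⁻¹ ((α ⟨x, hPS x.2⟩ : ↥S) : Ω))) = _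
    rw [aut1_apply α⁻¹ (α ⟨x, hPS x.2⟩)]
    have h2 : α⁻¹ (α ⟨(x : Ω), hPS x.2⟩) = ⟨(x : Ω), hPS x.2⟩ := by simp
    rw [h2]
    show aut1 α (ext1 φ (x : Ω)) = _
    rw [ext1_apply φ x, aut1_apply_mem α hφx]
  · -- the extension condition
    intro α hα
    have hαF : α ∈ F.autGroup S := ((haut α).1 hα).1
    have e : S ⊔ centralizerIn S S = S := sup_eq_left.2 inf_le_left
    have hmem : S.subtype.comp α.toMonoidHom ∈ F.Hom S := (mem_autGroup_iff F le_rfl α).1 hαF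
    have hcast := hom_cast F e.symm hmem
    -- the automorphism of `S ⊔ C_S(S)`
    let ε : ↥(S ⊔ centralizerIn S S) ≃* ↥S := MulEquiv.subgroupCongr e
    let β : MulAut ↥(S ⊔ centralizerIn S S) := (ε.trans α).trans ε.symm
    have hβv : ∀ c : ↥(S ⊔ centralizerIn S S), ((β c : ↥(S ⊔ centralizerIn S S)) : Ω) =
        ((α ⟨(c : Ω), le_of_eq e c.2⟩ : ↥S) : Ω) := fun c => rfl
    have hβ : β ∈ F.autGroup (S ⊔ centralizerIn S S) := by
      rw [mem_autGroup_iff F (le_of_eq e)]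
      have : (S ⊔ centralizerIn S S).subtype.comp β.toMonoidHom =
          (S.subtype.comp α.toMonoidHom).comp
            (MulEquiv.subgroupCongr e.symm.symm).toMonoidHom := by
        ext c
        rfl
      rw [this]
      exact hcast
    refine ⟨β, hβ, fun x => ?_, fun c hc => ?_⟩
    · rw [hβv]
      rfl
    · rw [hβv]
      have hcS : (c : Ω) ∈ S := hc.1
      have hαc : ((α ⟨(c : Ω), le_of_eq e c.2⟩ : ↥S) : Ω) ∈ S ⊓ Subgroup.centralizer (S : Set Ω) := by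
        refine ⟨(α _).2, ?_⟩
        show _ ∈ Subgroup.centralizer (S : Set Ω)
        rw [Subgroup.mem_centralizer_iff]
        intro s hs
        obtain ⟨s', hs'⟩ := α.surjective ⟨s, hs⟩
        have h1 : s = ((α s' : ↥S) : Ω) := by rw [hs']
        have hcomm : s' * ⟨(c : Ω), le_of_eq e c.2⟩ = ⟨(c : Ω), le_of_eq e c.2⟩ * s' := by
          apply Subtype.ext
          exact hc.2 s' s'.2
        rw [h1, ← Subgroup.coe_mul, ← Subgroup.coe_mul, ← map_mul, ← map_mul, hcomm]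
      have hc' : (c : Ω)⁻¹ ∈ S ⊓ Subgroup.centralizer (S : Set Ω) :=
        Subgroup.inv_mem _ hc
      exact Subgroup.mul_mem _ hc' hαc
  · -- `F₀ ≠ F`
    intro hall
    obtain ⟨b, hb, hbn⟩ := F0_ne hS hF hE hΔ hker hχ
    apply hbn
    obtain ⟨φ, hφ, hφv, hr⟩ := hb
    exact ⟨φ, by rw [hall S]; exact hφ, hφv, hr⟩

end Cfsg.Agent.S5243
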