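import Cfsg.Statements.S5245
import Cfsg.Agent.Lib.H25.AutSystem
import Cfsg.Agent.Lib.H25.Hyperfocal
import Cfsg.Agent.Lib.H26.Stability
import Cfsg.Agent.S5083

set_option autoImplicit false
open Cfsg Cfsg.FusionSystem Cfsg.Agent.Lib.H25

namespace Cfsg.Agent.S5245

/-- The automorphisms of `S'` leaving the subgroup `T'` invariant. -/
def stabT {X : Type*} [Group X] (T' : Subgroup X) : Subgroup (MulAut X) where
  carrier := {α | ∀ x, x ∈ T' ↔ α x ∈ T'}
  one_mem' := fun _ => Iff.rfl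
  mul_mem' := fun {a b} ha hb x => (hb x).trans (ha (b x))
  inv_mem' := fun {a} ha x => by
    have := ha (a⁻¹ x)
    rw [MulAut.apply_inv_self] at this
    exact this.symm

theorem pow_map_mem {X : Type*} [Group X] {T' : Subgroup X} {β : MulAut X}
    (h : ∀ x, x ∈ T' → β x ∈ T') (n : ℕ) : ∀ x, x ∈ T' → (β ^ n) x ∈ T' := by
  induction n with
  | zero => intro x hx; simpa using hx
  | succ n ih =>
    intro x hx
    rw [pow_succ', MulAut.mul_apply]
    exact h _ (ih x hx)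

theorem mem_stabT_of_pow {X : Type*} [Group X] {T' : Subgroup X} {β : MulAut X}
    (h : ∀ x, x ∈ T' → β x ∈ T') {q : ℕ} (hq : 0 < q) (hβq : β ^ q = 1) : β ∈ stabT T' := by
  intro x
  refine ⟨h x, fun hx => ?_⟩
  have h1 := pow_map_mem h (q - 1) _ hx
  have h2 : (β ^ (q - 1)) (β x) = x := by
    rw [← MulAut.mul_apply, ← pow_succ, Nat.sub_add_cancel hq, hβq]
    rfl
  rwa [h2] at h1

/-- The main step: a nontrivial automorphism of prime order `q ≠ p` in `F` of an invariant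
subgroup `T` forces `T = S` and `F` to consist of restrictions. -/
theorem key {Ω : Type*} [Group Ω] {S : Subgroup Ω} [Finite S] {p : ℕ} [Fact p.Prime]
    (hS : IsPGroup p S) (F : FusionSystem S)
    (hsp : ∀ (T : Subgroup Ω) (E : FusionSystem T), E.IsSaturated p → E.IsSubsystemOf F →
      (T = S ∧ ∀ P : Subgroup Ω, E.Hom P = F.Hom P) ∨
        (∀ P : Subgroup Ω, E.Hom P = (innerFusionSystem T).Hom P))
    {S' T : Subgroup Ω} (hS' : S' ≤ S) (hT : T ≤ S') (β : MulAut S')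
    (hβF : S'.subtype.comp β.toMonoidHom ∈ F.Hom S')
    (hβT : ∀ x : S', (x : Ω) ∈ T → ((β x : S') : Ω) ∈ T)
    {q : ℕ} (hq : q.Prime) (hqp : q ≠ p) (hβq : β ^ q = 1)
    (hβ1 : ∃ x : S', (x : Ω) ∈ T ∧ β x ≠ x) :
    T = S ∧ ∀ (R : Subgroup Ω) (φ : R →* Ω), φ ∈ F.Hom R ↔ ∃ hR : R ≤ T,
      ∃ α ∈ ((T.subgroupOf S').map (MulAut.conj : S' →* MulAut S') ⊔ Subgroup.zpowers β),
        ∀ x : R, φ x = ((α ⟨x, hT (hR x.2)⟩ : S') : Ω) := by
  classical
  haveI : Finite S' := finite_of_le S hS'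
  have hp : (Fact.out : p.Prime) = Fact.out := rfl
  set N : Subgroup (MulAut S') := (T.subgroupOf S').map (MulAut.conj : S' →* MulAut S') with hN
  set A : Subgroup (MulAut S') := N ⊔ Subgroup.zpowers β with hA
  have hβstab : β ∈ stabT (T.subgroupOf S') :=
    mem_stabT_of_pow (fun x hx => hβT x hx) hq.pos hβq
  have hNstab : N ≤ stabT (T.subgroupOf S') := by
    rintro _ ⟨t, ht, rfl⟩ x
    have ht' : (t : Ω) ∈ T := ht
    show (x : Ω) ∈ T ↔ (t : Ω) * x * (t : Ω)⁻¹ ∈ T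
    constructor
    · intro hx; exact T.mul_mem (T.mul_mem ht' hx) (T.inv_mem ht')
    · intro hx
      have := T.mul_mem (T.mul_mem (T.inv_mem ht') hx) ht'
      simpa [mul_assoc] using this
  have hAstab : A ≤ stabT (T.subgroupOf S') :=
    sup_le hNstab ((Subgroup.zpowers_le).2 hβstab)
  have hinv : ∀ α ∈ A, ∀ x : S', (x : Ω) ∈ T → ((α x : S') : Ω) ∈ T :=
    fun α hα x hx => (hAstab hα x).1 hx
  have hconj : ∀ t : S', (t : Ω) ∈ T → MulAut.conj t ∈ A :=
    fun t ht => Subgroup.mem_sup_left (Subgroup.mem_map_of_mem _ ht)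
  have hcop : Nat.Coprime q p := (Nat.coprime_primes hq Fact.out).2 hqp
  -- `β` normalizes `N`
  have hβN : β ∈ Subgroup.normalizer (N : Set (MulAut S')) := by
    apply mem_normalizer_of_conj_mem
    rintro _ ⟨t, ht, rfl⟩
    refine ⟨β t, (hβstab t).1 ht, ?_⟩
    ext x
    simp [MulAut.conj_apply]
  have hpel : ∀ α ∈ A, (∃ k : ℕ, α ^ (p ^ k) = 1) →
      ∃ t ∈ T, ∀ x : S', (x : Ω) ∈ T → ((α x : S') : Ω) = t * x * t⁻¹ := by
    rintro α hα ⟨k, hk⟩
    have h1 : α ∈ N := mem_of_pPower_of_mem_sup_zpowers hcop hβN hβq hα hk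
    obtain ⟨t, ht, rfl⟩ := h1
    exact ⟨t, ht, fun x _ => rfl⟩
  have hTp : IsPGroup p T := hS.to_le (hT.trans hS')
  have hsat : (autSystem S' T hT A hinv hconj).IsSaturated p := autSystem_isSaturated hTp hpel
  have hAF : A ≤ F.autGroup S' := by
    refine sup_le ?_ ((Subgroup.zpowers_le).2 ((mem_autGroup_iff F hS' β).2 hβF))
    rintro _ ⟨t, -, rfl⟩
    rw [mem_autGroup_iff F hS']
    have : S'.subtype.comp (MulAut.conj t : MulAut S').toMonoidHom = conjHom S' (t : Ω) := by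
      ext x
      rfl
    rw [this]
    exact F.conj_mem hS' (hS' t.2)
  have hsub : (autSystem S' T hT A hinv hconj).IsSubsystemOf F :=
    autSystem_isSubsystemOf F (fun α hα => (mem_autGroup_iff F hS' α).1 (hAF hα))
  rcases hsp T _ hsat hsub with ⟨hTS, hHom⟩ | hinner
  · refine ⟨hTS, fun R φ => ?_⟩
    rw [← hHom R]
    exact Iff.rfl
  · exfalso
    -- the restriction of `β` to `T` is inner
    have h1 : (S'.subtype.comp β.toMonoidHom).comp (Subgroup.inclusion hT) ∈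
        (autSystem S' T hT A hinv hconj).Hom T :=
      ⟨le_rfl, β, Subgroup.mem_sup_right (Subgroup.mem_zpowers β), fun x => rfl⟩
    rw [hinner T] at h1
    obtain ⟨-, g, hg, hgβ⟩ := h1
    have hgβ' : ∀ x : S', (x : Ω) ∈ T → ((β x : S') : Ω) = g * x * g⁻¹ :=
      fun x hx => hgβ ⟨x, hx⟩
    obtain ⟨k, hk⟩ := hTp ⟨g, hg⟩
    have hk' : g ^ p ^ k = 1 := by
      have := congrArg (fun z : T => (z : Ω)) hk
      simpa using this
    have hpow : ∀ n : ℕ, ∀ x : S', (x : Ω) ∈ T →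
        (((β ^ n) x : S') : Ω) = g ^ n * x * (g ^ n)⁻¹ := by
      intro n
      induction n with
      | zero => intro x _; simp
      | succ n ih =>
        intro x hx
        rw [pow_succ', MulAut.mul_apply, hgβ' _ (pow_map_mem (T' := T.subgroupOf S')
          (fun x hx => hβT x hx) n x hx), ih x hx, pow_succ']
        group
    obtain ⟨j, c, hjc, hj⟩ := exists_pow_pPower_and_fix (p := p) β (isOfFinOrder_of_finite β)
      g hk'
    have hβj : β ^ j = 1 := by
      have h2 : (β ^ j) ^ q = 1 := by rw [← pow_mul, mul_comm, pow_mul, hβq, one_pow]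
      have h3 : orderOf (β ^ j) ∣ Nat.gcd q (p ^ c) :=
        Nat.dvd_gcd (orderOf_dvd_of_pow_eq_one h2) (orderOf_dvd_of_pow_eq_one hjc)
      have h4 : Nat.gcd q (p ^ c) = 1 := Nat.Coprime.pow_right c hcop
      rw [h4, Nat.dvd_one, orderOf_eq_one_iff] at h3
      exact h3
    obtain ⟨x, hxT, hx⟩ := hβ1
    apply hx
    apply Subtype.ext
    rw [hgβ' x hxT]
    have := hpow j x hxT
    rw [hβj, hj] at this
    exact this.symm

/-- Elements of prime order different from `p` in a finite group which is not a `p`-group. -/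
theorem exists_prime_order {G : Type*} [Group G] [Finite G] {p : ℕ} [Fact p.Prime]
    (h : ¬ IsPGroup p G) : ∃ (q : ℕ) (g : G), q.Prime ∧ q ≠ p ∧ orderOf g = q := by
  classical
  have h1 : ¬ ∃ n : ℕ, Nat.card G = p ^ n := fun hn => h ((IsPGroup.iff_card).2 hn)
  have h2 : ∃ q : ℕ, q.Prime ∧ q ∣ Nat.card G ∧ q ≠ p := by
    by_contra hcon
    push Not at hcon
    exact h1 ⟨_, Nat.eq_prime_pow_of_unique_prime_dvd Nat.card_pos.ne'
      (fun {d} hd hdvd => hcon d hd hdvd)⟩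
  obtain ⟨q, hq, hqd, hqp⟩ := h2
  haveI : Fact q.Prime := ⟨hq⟩
  obtain ⟨g, hg⟩ := exists_prime_orderOf_dvd_card' q hqd
  exact ⟨q, g, hq, hqp, hg⟩

/-- Let F be an extremely sparse fusion system over a finite p-group S (saturated, not the inner system, and every saturated fusion system over any subgroup T of S contained in F is F itself or the inner system of T). Then S is normal in F, the focal and hyperfocal subgroups of F are both S, and Aut_F(S) is generated by the inner automorphisms of S together with a single automorphism of prime order q ≠ p (F is the fusion system of the semidirect product of S by a cyclic group of prime order). -/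
theorem result {Ω : Type*} [Group Ω] {S : Subgroup Ω} [Finite S] (p : ℕ) [Fact p.Prime] (hS : IsPGroup p S) (F : Cfsg.FusionSystem S) (hF : F.IsSaturated p) (hxs : ¬ (∀ P : Subgroup Ω, F.Hom P = (Cfsg.innerFusionSystem S).Hom P) ∧ ∀ (T : Subgroup Ω) (E : Cfsg.FusionSystem T), E.IsSaturated p → E.IsSubsystemOf F → (T = S ∧ ∀ P : Subgroup Ω, E.Hom P = F.Hom P) ∨ (∀ P : Subgroup Ω, E.Hom P = (Cfsg.innerFusionSystem T).Hom P)) : F.IsNormal S ∧ F.focalSubgroup = S ∧ F.hyperfocalSubgroup p = S ∧ ∃ (q : ℕ) (β : MulAut ↥S), q.Prime ∧ q ≠ p ∧ β ∈ F.autGroup S ∧ orderOf β = q ∧ (F.autGroup S : Subgroup (MulAut ↥S)) = Cfsg.Inn ↥S ⊔ Subgroup.zpowers β := by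
  classical
  obtain ⟨hni, hsp⟩ := hxs
  -- some `Aut_F(P)` is not a `p`-group
  have h1 : ∃ P : Subgroup Ω, P ≤ S ∧ ¬ IsPGroup p (F.autGroup P) := by
    by_contra hcon
    push Not at hcon
    apply hni
    intro P
    rw [Cfsg.Agent.S5083.result p hS F hF hcon]
  obtain ⟨P, hPS, hPnp⟩ := h1
  haveI : Finite P := finite_of_le S hPS
  obtain ⟨q, β₀, hq, hqp, hβ₀⟩ := exists_prime_order hPnp
  have hβ₀q : (β₀ : MulAut P) ^ q = 1 := by
    have := pow_orderOf_eq_one β₀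
    rw [hβ₀] at this
    exact congrArg Subtype.val this
  have hβ₀1 : (β₀ : MulAut P) ≠ 1 := by
    intro h
    have : β₀ = 1 := Subtype.ext h
    rw [this, orderOf_one] at hβ₀
    exact hq.one_lt.ne hβ₀
  have hβ₀F := (mem_autGroup_iff F hPS β₀.1).1 β₀.2
  obtain ⟨hPS', -⟩ := key hS F hsp hPS le_rfl β₀.1 hβ₀F (fun x _ => (β₀.1 x).2) hq hqp hβ₀q
    (by
      by_contra hcon
      push Not at hcon
      apply hβ₀1
      ext x
      rw [hcon x x.2]
      rfl)
  subst hPS'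
  set β : MulAut P := β₀.1 with hβ
  obtain ⟨-, hHom⟩ := key hS F hsp le_rfl le_rfl β hβ₀F (fun x _ => (β x).2) hq hqp hβ₀q
    (by
      by_contra hcon
      push Not at hcon
      apply hβ₀1
      ext x
      rw [hcon x x.2]
      rfl)
  have hNInn : (P.subgroupOf P).map (MulAut.conj : P →* MulAut P) = Cfsg.Inn P := by
    rw [Subgroup.subgroupOf_self, ← MonoidHom.range_eq_map]
  rw [hNInn] at hHom
  have hord : orderOf β = q := by
    have h2 : orderOf β ∣ q := orderOf_dvd_of_pow_eq_one hβ₀q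
    rcases (Nat.dvd_prime hq).1 h2 with h3 | h3
    · exact absurd (orderOf_eq_one_iff.1 h3) hβ₀1
    · exact h3
  -- `Aut_F(S) = Inn(S)⟨β⟩`
  have haut : (F.autGroup P : Subgroup (MulAut P)) = Cfsg.Inn P ⊔ Subgroup.zpowers β := by
    ext α
    rw [mem_autGroup_iff F le_rfl, hHom]
    constructor
    · rintro ⟨_, α', hα', h⟩
      have : α = α' := by
        ext x
        exact h x
      rw [this]; exact hα'
    · intro hα
      exact ⟨le_rfl, α, hα, fun x => rfl⟩
  -- `S` is normal in `F`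
  have hnormal : F.IsNormal P := by
    refine ⟨le_rfl, fun R φ hφ => ?_⟩
    obtain ⟨hR, α, hα, h⟩ := (hHom R φ).1 hφ
    have hRP : R ⊔ P ≤ P := sup_le hR le_rfl
    refine ⟨(P.subtype.comp α.toMonoidHom).comp (Subgroup.inclusion hRP),
      (hHom _ _).2 ⟨hRP, α, hα, fun x => rfl⟩, fun x => (h x).symm, ?_⟩
    ext y
    constructor
    · rintro ⟨x, -, rfl⟩
      exact (α _).2
    · intro hy
      refine ⟨⟨((α⁻¹ : MulAut P) ⟨y, hy⟩ : P), (le_sup_right : P ≤ R ⊔ P) ((α⁻¹ : MulAut P) ⟨y, hy⟩).2⟩,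
        Subgroup.mem_subgroupOf.2 ((α⁻¹ : MulAut P) ⟨y, hy⟩).2, ?_⟩
      show ((α (Subgroup.inclusion hRP ⟨_, _⟩) : P) : Ω) = y
      have : (Subgroup.inclusion hRP ⟨(((α⁻¹ : MulAut P) ⟨y, hy⟩ : P) : Ω),
          (le_sup_right : P ≤ R ⊔ P) ((α⁻¹ : MulAut P) ⟨y, hy⟩).2⟩ : P) = (α⁻¹ : MulAut P) ⟨y, hy⟩ := rfl
      rw [this, MulAut.apply_inv_self]
  -- the commutator `[S, β]`
  set T₀ : Subgroup Ω := Subgroup.closure {y : Ω | ∃ x : P, y = (x : Ω)⁻¹ * ((β x : P) : Ω)}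
    with hT₀
  have hT₀P : T₀ ≤ P := by
    rw [hT₀, Subgroup.closure_le]
    rintro _ ⟨x, rfl⟩
    exact P.mul_mem (P.inv_mem x.2) (β x).2
  have hβmem : β ∈ F.autGroup P := β₀.2
  have hT₀foc : T₀ ≤ F.focalSubgroup := by
    rw [hT₀, Subgroup.closure_le]
    rintro _ ⟨x, rfl⟩
    exact Subgroup.subset_closure ⟨P, _, x, hβ₀F, rfl⟩
  have hβres : (⟨β, hβmem⟩ : F.autGroup P) ∈ pResidual p (F.autGroup P) := by
    apply Subgroup.subset_closure
    show Nat.Coprime (orderOf (⟨β, hβmem⟩ : F.autGroup P)) p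
    have : orderOf (⟨β, hβmem⟩ : F.autGroup P) = orderOf β :=
      (Subgroup.orderOf_coe (⟨β, hβmem⟩ : F.autGroup P)).symm
    rw [this, hord]
    exact (Nat.coprime_primes hq Fact.out).2 hqp
  have hT₀hyp : T₀ ≤ F.hyperfocalSubgroup p := by
    rw [hT₀, Subgroup.closure_le]
    rintro _ ⟨x, rfl⟩
    exact mem_hyperfocal_gen F p le_rfl ⟨β, hβmem⟩ hβres x
  -- `T₀` is `β`-invariant
  have hβT₀ : ∀ x : P, (x : Ω) ∈ T₀ → ((β x : P) : Ω) ∈ T₀ := by
    intro x hx
    have : (x : Ω)⁻¹ * ((β x : P) : Ω) ∈ T₀ := Subgroup.subset_closure ⟨x, rfl⟩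
    have h2 := T₀.mul_mem hx this
    simpa using h2
  have hT₀eq : T₀ = P := by
    by_cases htriv : ∃ x : P, (x : Ω) ∈ T₀ ∧ β x ≠ x
    · exact (key hS F hsp le_rfl hT₀P β hβ₀F hβT₀ hq hqp hβ₀q htriv).1
    · exfalso
      push Not at htriv
      have hstab : β ∈ Cfsg.Agent.Lib.H26.stabChain F P T₀ :=
        ⟨hβmem, fun x => Subgroup.subset_closure ⟨x, rfl⟩, htriv⟩
      have : Finite T₀ := finite_of_le P hT₀P
      have hpg := Cfsg.Agent.Lib.H26.stabChain_isPGroup (p := p) F hT₀P (hS.to_le hT₀P)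
      obtain ⟨k, hk⟩ := hpg ⟨β, hstab⟩
      have hk' : β ^ p ^ k = 1 := congrArg Subtype.val hk
      have h3 : orderOf β ∣ p ^ k := orderOf_dvd_of_pow_eq_one hk'
      rw [hord] at h3
      exact hqp ((Nat.prime_dvd_prime_iff_eq hq Fact.out).1 (hq.dvd_of_dvd_pow h3))
  have hfocle : F.focalSubgroup ≤ P := by
    unfold focalSubgroup
    rw [Subgroup.closure_le]
    rintro _ ⟨R, φ, x, hφ, rfl⟩
    exact P.mul_mem (P.inv_mem (hom_le F hφ x.2)) (hom_mem_S F hφ x)
  refine ⟨hnormal, le_antisymm hfocle (hT₀eq.symm.le.trans hT₀foc),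
    le_antisymm (hyperfocal_le F p) (hT₀eq.symm.le.trans hT₀hyp), q, β, hq, hqp, hβmem, hord, haut⟩

end Cfsg.Agent.S5245
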