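import Cfsg.Statements.S5249
import Cfsg.Agent.Lib.H26.QdFreeGroup
import Cfsg.Agent.Lib.H26.QdFreeZJ
import Cfsg.Agent.Lib.H26.NormCtl
import Cfsg.Agent.Lib.H26.ZJChain
import Cfsg.Agent.S5134
import Cfsg.Agent.S5241

set_option autoImplicit false
open Cfsg

namespace Cfsg.Agent.S5249

/-- Let p be an odd prime, G a finite group in which Qd(p) (the natural semidirect product of an elementary abelian group of order p² by SL₂(p)) is not involved, and P a Sylow p-subgroup of G. Then the fusion system of G on P is a solvable fusion system. -/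
theorem result {G : Type*} [Group G] [Finite G] {p : ℕ} [Fact p.Prime] (hp : p ≠ 2) (hqd : ¬ Cfsg.Involves ↥(Cfsg.qd p) G) (P : Sylow p G) : (Cfsg.groupFusionSystem (P : Subgroup G)).IsSolvableSystem := by
  intro R hRsc hRne hRn E hE
  have hS : IsPGroup p (P : Subgroup G) := P.2
  have hF := Cfsg.Agent.Lib.H26.groupFusionSystem_isSaturated P
  have hfree := Cfsg.Agent.Lib.H26.QdFree.groupFusionSystem_isSectionFree P hqd
  have hRS := hRsc.1
  have hNS : Cfsg.FusionSystem.normalizerIn (P : Subgroup G) R = P :=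
    Cfsg.Agent.Lib.H25.stronglyClosed_normalizerIn_eq hRsc
  have hRfn : (Cfsg.groupFusionSystem (P : Subgroup G)).IsFullyNormalized R :=
    Cfsg.Agent.Lib.H26.ZJ.isFullyNormalized_of_normalizerIn_eq hRS hNS
  obtain ⟨N₁, hN₁, hN₁sat, hN₁R, hN₁free⟩ :=
    Cfsg.Agent.Lib.H26.ZJ.exists_normalizer_on_top_free hS hF hfree hRfn hNS
  -- the kernel of the quotient map
  have hker : Cfsg.Agent.Lib.H25.kerSub (QuotientGroup.mk' (R.subgroupOf (P : Subgroup G))) = R := by
    ext x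
    rw [Cfsg.Agent.Lib.H25.mem_kerSub_iff]
    constructor
    · rintro ⟨hxS, hx⟩
      rw [Cfsg.Agent.Lib.H25.al_apply _ hxS] at hx
      exact (hE.2.1 ⟨x, hxS⟩).1 hx
    · intro hx
      refine ⟨hE.1 hx, ?_⟩
      rw [Cfsg.Agent.Lib.H25.al_apply _ (hE.1 hx)]
      exact (hE.2.1 ⟨x, hE.1 hx⟩).2 hx
  -- `E` is a factor system of `N₁`
  have hE₁ : N₁.IsFactorSystem R (QuotientGroup.mk' (R.subgroupOf (P : Subgroup G))) E := by
    refine ⟨hE.1, hE.2.1, hE.2.2.1, fun P' φ' => ?_⟩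
    rw [hE.2.2.2 P' φ']
    have hRA : R ≤ Cfsg.FusionSystem.preimageAlong
        (QuotientGroup.mk' (R.subgroupOf (P : Subgroup G))) P' := by
      exact hker.symm.le.trans (Cfsg.Agent.Lib.H25.kerSub_le_pre _ P')
    constructor
    · rintro ⟨h, φ, hφ, hind⟩
      refine ⟨h, φ, ?_, hind⟩
      have hg := Cfsg.Agent.Lib.H25.isIso_of_mem _ hφ
      have hgU := Cfsg.Agent.Lib.H25.stronglyClosed_isIso_self hRsc hg hRA
      have hAT : Cfsg.FusionSystem.preimageAlong
          (QuotientGroup.mk' (R.subgroupOf (P : Subgroup G))) P' ≤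
          Cfsg.FusionSystem.normalizerIn (P : Subgroup G) R := by
        rw [hNS]
        exact Cfsg.Agent.Lib.H25.preimageAlong_le _ _
      obtain ⟨-, φ₁, hφ₁, hφ₁e⟩ :=
        Cfsg.Agent.Lib.H26.ZJ.isNHom_of_normalizes hRA hAT hg hgU
      have : φ₁ = φ := MonoidHom.ext fun x => by
        rw [hφ₁e x, Cfsg.Agent.Lib.H25.ext1_apply]
      rw [hN₁, ← this]
      exact hφ₁
    · rintro ⟨h, φ, hφ, hind⟩
      exact ⟨h, φ, Cfsg.Agent.Lib.H26.ZJ.hom_le_of_normalizer hN₁ _ hφ, hind⟩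
  have hEfree : E.IsSectionFree p ↥(Cfsg.qd p) :=
    Cfsg.Agent.S5241.result p hS N₁ hN₁sat R hN₁R hN₁free _ E hE₁
  have hsm := Cfsg.Agent.S5134.result p hS _ hF R hRsc _ E hE
  have hrange := hsm.2.1
  haveI hfinS' : Finite (⊤ : Subgroup (↥(P : Subgroup G) ⧸ R.subgroupOf (P : Subgroup G))) :=
    Cfsg.Agent.Lib.H25.finite_S' hrange
  have hS' : IsPGroup p (⊤ : Subgroup (↥(P : Subgroup G) ⧸ R.subgroupOf (P : Subgroup G))) :=
    Cfsg.Agent.Lib.H25.isPGroup_S' hrange hS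
  have hEsat : E.IsSaturated p := Cfsg.Agent.Lib.H25.isSaturated_of_surjectiveMorphism hS hF hsm
  have hV := Cfsg.Agent.Lib.H26.QdFree.zj_isNormal hp hS' E hEsat hEfree
  -- the quotient is nontrivial
  have hne : (⊤ : Subgroup (↥(P : Subgroup G) ⧸ R.subgroupOf (P : Subgroup G))) ≠ ⊥ := by
    intro h
    apply hRne
    apply le_antisymm hRS
    intro x hx
    have h1 : (QuotientGroup.mk' (R.subgroupOf (P : Subgroup G)) ⟨x, hx⟩) ∈
        (⊤ : Subgroup (↥(P : Subgroup G) ⧸ R.subgroupOf (P : Subgroup G))) := Subgroup.mem_top _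
    rw [h, Subgroup.mem_bot] at h1
    exact (hE.2.1 ⟨x, hx⟩).1 h1
  have hVne := Cfsg.Agent.S5204.centerThompsonAOf_ne_bot _ hfinS' hS' hne
  intro hcore
  apply hVne
  rw [eq_bot_iff, ← hcore]
  exact le_sSup hV

end Cfsg.Agent.S5249
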