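import Cfsg.Statements.S5252
import Cfsg.Agent.Lib.H25.FocalProper
import Cfsg.Agent.S1984
import Cfsg.Agent.Lib.H10.LocalGlobalTransfer
import Cfsg.Agent.Lib.H10.CharFunctor
import Cfsg.Agent.Lib.H10.KInfFunctor
import Cfsg.Agent.Lib.H1.PCore

set_option autoImplicit false
open Cfsg

namespace Cfsg.Agent.S5252

/-- Let p ≥ 5 be a prime and F a saturated fusion system over a nontrivial finite p-group S such that Aut_F(S) is a p-group. Then the focal subgroup of F is a proper subgroup of S. -/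
theorem result {Ω : Type*} [Group Ω] {S : Subgroup Ω} [Finite S] (p : ℕ) [Fact p.Prime] (hS : IsPGroup p S) (F : Cfsg.FusionSystem S) (hF : F.IsSaturated p) (hp : 5 ≤ p) (hS1 : S ≠ ⊥) (haut : IsPGroup p ↥(F.autGroup S)) : F.focalSubgroup < S := by
  have hW := Cfsg.Agent.Lib.H10.isCharPFunctor_kInfLower p
  refine Cfsg.Agent.Lib.H25.FocalProper.focal_lt
    (Cfsg.Agent.Lib.H26.ZJ.PFun.ofType Cfsg.kInfLower hW.1 hW.2) ?_ hS hS1 F hF haut
  intro L _ _ P _
  have hc := Cfsg.Agent.S1984.result (G := L) (p := p) hp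
  have hconj := Cfsg.Agent.Lib.H10.isConjugacyFunctor_inducedFunctor (H := L) hW
  have h1 := Cfsg.Agent.Lib.H10.controlsTransferIn_sylowIn hconj hc P.2 le_top
    (by rw [Subgroup.relIndex_top_right]; exact P.not_dvd_index)
  simp only [top_inf_eq] at h1
  have hle : Cfsg.pCore p L ≤ P := Cfsg.Agent.Lib.H1.pCore_le_sylow P
  rw [Subgroup.map_subtype_commutator]
  have e1 : Cfsg.pCore p L ⊓ commutator L = Cfsg.pCore p L ⊓ ((P : Subgroup L) ⊓ ⁅(⊤ : Subgroup L), ⊤⁆) := by
    rw [← inf_assoc, inf_eq_left.2 hle]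
    rfl
  rw [e1, h1, ← inf_assoc, inf_eq_left.2 hle]
  rfl

end Cfsg.Agent.S5252
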