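import Cfsg.Statements.S5253
import Cfsg.Agent.Lib.H26.CtlAdm
import Cfsg.Agent.Lib.H26.QuadCenter
import Cfsg.Agent.Lib.H26.ZJFunctor
import Cfsg.Agent.S5144

set_option autoImplicit false
universe u
open Cfsg

namespace Cfsg.Agent.S5253

/-- Let p be a prime and W a positive characteristic p-functor with Z(Q) ≤ W(Q): W assigns to every finite p-group Q (in a fixed universe) a subgroup W(Q), nontrivial when Q is, carried to W(R) by every isomorphism Q ≅ R, and containing the centre of Q. Suppose that for every finite group G with Sylow p-subgroup P in which W(P) is not normal there is g ∈ P outside O_p(G) with [Z(O_p(G)), g, g] = 1. Then for every saturated fusion system F over a finite p-group S and every normalizer fusion system N of W(S) in F, every p-th power of an element of Z(S) that lies in the centre of N lies in the centre of F. -/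
theorem result {p : ℕ} [Fact p.Prime] (W : ∀ (Q : Type u) [Group Q], Subgroup Q) (hW1 : ∀ (Q : Type u) [Group Q] [Finite Q], IsPGroup p Q → Nontrivial Q → W Q ≠ ⊥) (hW2 : ∀ (Q R : Type u) [Group Q] [Group R] [Finite Q], IsPGroup p Q → ∀ φ : Q ≃* R, (W Q).map φ.toMonoidHom = W R) (hWZ : ∀ (Q : Type u) [Group Q] [Finite Q], IsPGroup p Q → Subgroup.center Q ≤ W Q) (hq : ∀ (G : Type u) [Group G] [Finite G] (P : Sylow p G), ¬ (((W ↥(P : Subgroup G)).map (P : Subgroup G).subtype : Subgroup G)).Normal → ∃ g : G, g ∈ (P : Subgroup G) ∧ g ∉ Cfsg.pCore p G ∧ ⁅⁅Subgroup.center ↥(Cfsg.pCore p G) |>.map (Cfsg.pCore p G).subtype, Subgroup.zpowers g⁆, Subgroup.zpowers g⁆ = ⊥) {Ω : Type u} [Group Ω] {S : Subgroup Ω} [Finite S] (hS : IsPGroup p S) (F : Cfsg.FusionSystem S) (hF : F.IsSaturated p) (N : Cfsg.FusionSystem (Cfsg.FusionSystem.normalizerIn S ((W ↥S).map S.subtype))) (hN : F.IsNormalizerSystem ((W ↥S).map S.subtype) N) : Subgroup.closure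 ((fun z => z ^ p) '' ((S ⊓ Subgroup.centralizer (S : Set Ω) : Subgroup Ω) : Set Ω)) ⊓ N.center ≤ F.center := by
  classical
  set Wp : Cfsg.Agent.Lib.H26.Nil.PFun.{u} p := Cfsg.Agent.Lib.H26.ZJ.PFun.ofType W hW1 hW2 with hWp
  have hWZ' : ∀ {G : Type u} [Group G] (Q : Subgroup G), Finite Q → IsPGroup p Q →
      Q ⊓ Subgroup.centralizer (Q : Set G) ≤ Wp.W Q := by
    intro G _ Q hfin hQ x hx
    have hxQ : x ∈ Q := hx.1
    have hxc : x ∈ Subgroup.centralizer (Q : Set G) := hx.2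
    rw [Subgroup.mem_centralizer_iff] at hxc
    have h1 : (⟨x, hxQ⟩ : ↥Q) ∈ Subgroup.center ↥Q := by
      rw [Subgroup.mem_center_iff]
      intro g
      exact Subtype.ext (hxc g g.2)
    exact ⟨⟨x, hxQ⟩, hWZ ↥Q hQ h1, rfl⟩
  -- the admissible elements: `p`-th powers of central elements
  let Adm : ∀ {G : Type u} [Group G], Subgroup G → G → Prop :=
    fun {G} _ T x => ∃ y : G, y ∈ T ⊓ Subgroup.centralizer (T : Set G) ∧ y ^ p = x
  have hA1 : ∀ {G : Type u} [Group G] (T : Subgroup G) (z : G), Adm T z →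
      z ∈ T ⊓ Subgroup.centralizer (T : Set G) := by
    rintro G _ T z ⟨y, hy, rfl⟩
    exact Subgroup.pow_mem _ hy p
  have hA2 : ∀ {G : Type u} [Group G] (S T : Subgroup G) (z : G), Adm S z → T ≤ S →
      S ⊓ Subgroup.centralizer (S : Set G) ≤ T → Adm T z := by
    rintro G _ S T z ⟨y, hy, rfl⟩ hTS hZT
    refine ⟨y, ⟨hZT hy, ?_⟩, rfl⟩
    have hyc : y ∈ Subgroup.centralizer (S : Set G) := hy.2
    exact Subgroup.centralizer_le (show (T : Set G) ⊆ (S : Set G) from hTS) hyc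
  have hA3 : ∀ {G G' : Type u} [Group G] [Group G'] (S : Subgroup G) (f : S →* G') (z : G)
      (hz : z ∈ S), Adm S z → Adm f.range (f ⟨z, hz⟩) := by
    rintro G G' _ _ S f z hz ⟨y, hy, rfl⟩
    have hyS : y ∈ S := hy.1
    have hyc : y ∈ Subgroup.centralizer (S : Set G) := hy.2
    rw [Subgroup.mem_centralizer_iff] at hyc
    refine ⟨f ⟨y, hyS⟩, ⟨⟨⟨y, hyS⟩, rfl⟩, ?_⟩, ?_⟩
    · show f ⟨y, hyS⟩ ∈ Subgroup.centralizer ((f.range : Subgroup G') : Set G')
      rw [Subgroup.mem_centralizer_iff]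
      rintro _ ⟨s, rfl⟩
      rw [← map_mul, ← map_mul]
      congr 1
      exact Subtype.ext (hyc s s.2)
    · rw [← map_pow]
      rfl
  have hC' : ∀ (L : Type u) [Group L] [Finite L] (P : Sylow p L),
      Subgroup.centralizer ((Cfsg.pCore p L : Subgroup L) : Set L) ≤ Cfsg.pCore p L → ∀ x : L,
      Adm (P : Subgroup L) x → x ∈ Cfsg.pCore p L →
      (∀ m ∈ Subgroup.normalizer ((Wp.W (P : Subgroup L) : Subgroup L) : Set L),
        m * x = x * m) → x ∈ Subgroup.center L := by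
    rintro L _ _ P hchar x ⟨y, hy, rfl⟩ - hcomm
    exact Cfsg.Agent.Lib.H26.CtlA.quad_center Wp hq (Nat.card L) L rfl P hchar y hy hcomm
  have hmain := Cfsg.Agent.Lib.H26.CtlA.main_adm Wp Adm hWZ' hA1 hA2 hA3 hC' (Nat.card S) rfl
    hS F hF
  -- the normalizer system
  have hXS : Wp.W S ≤ S := Wp.le S
  have hT₀ : Cfsg.FusionSystem.normalizerIn S ((W ↥S).map S.subtype) = S :=
    Wp.normalizerIn_self S hS
  have hN' : ∀ P : Subgroup Ω, N.Hom P = F.normalizerHom (Wp.W S) P := hN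
  have hfinT₀ : Finite (Cfsg.FusionSystem.normalizerIn S ((W ↥S).map S.subtype)) :=
    Cfsg.Agent.Lib.H25.finite_of_le S inf_le_left
  -- the subgroup of `p`-th powers
  set A : Subgroup Ω := S ⊓ Subgroup.centralizer (S : Set Ω) with hAdef
  have hpow : ∀ z ∈ Subgroup.closure ((fun z => z ^ p) '' ((A : Subgroup Ω) : Set Ω)),
      ∃ y : Ω, y ∈ A ∧ y ^ p = z := by
    intro z hz
    induction hz using Subgroup.closure_induction with
    | mem x hx =>
      obtain ⟨y, hy, rfl⟩ := hx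
      exact ⟨y, hy, rfl⟩
    | one => exact ⟨1, A.one_mem, one_pow p⟩
    | mul x₁ x₂ _ _ h₁ h₂ =>
      obtain ⟨y₁, hy₁, rfl⟩ := h₁
      obtain ⟨y₂, hy₂, rfl⟩ := h₂
      refine ⟨y₁ * y₂, A.mul_mem hy₁ hy₂, ?_⟩
      have hc : y₂ ∈ Subgroup.centralizer (S : Set Ω) := hy₂.2
      rw [Subgroup.mem_centralizer_iff] at hc
      have hcomm : Commute y₁ y₂ := hc y₁ hy₁.1
      exact hcomm.mul_pow p
    | inv x _ h =>
      obtain ⟨y, hy, rfl⟩ := h
      exact ⟨y⁻¹, A.inv_mem hy, inv_pow y p⟩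
  set Z : Subgroup Ω := Subgroup.closure ((fun z => z ^ p) '' ((A : Subgroup Ω) : Set Ω)) ⊓
    N.center with hZdef
  have hZadm : ∀ z ∈ Z, Adm S z := fun z hz => hpow z hz.1
  have hZ : Z ≤ S ⊓ Subgroup.centralizer (S : Set Ω) := fun z hz => hA1 S z (hZadm z hz)
  have hZW : Z ≤ Wp.W S := hZ.trans (hWZ' S inferInstance hS)
  have hZc : N.IsCentral N.center := Cfsg.Agent.S5144.result N
  have hfixN := Cfsg.Agent.Lib.H26.Ctl.fixZ_of_isCentral hZc
  have hfix : ∀ f : Ω → Ω, Cfsg.Agent.Lib.H25.IsIso F (Wp.W S) (Wp.W S) f →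
      ∀ x ∈ Z, f x = x := by
    intro f hf x hx
    obtain ⟨-, hNHom⟩ := Cfsg.Agent.Lib.H26.ZJ.isNHom_of_normalizes (le_refl (Wp.W S))
      (Cfsg.Agent.Lib.H25.le_normalizerIn hXS) hf hf
    exact hfixN _ _ _ (Cfsg.Agent.Lib.H26.ZJ.isIso_of_isNHom hN' hf hNHom) x (hZW hx) hx.2
  have hfixF := hmain Z hZadm hfix
  have hn := Cfsg.Agent.Lib.H26.Ctl.isNormal_of_fixZ hS hF hZ hfixF
  exact le_sSup (Cfsg.Agent.Lib.H26.Ctl.isCentral_of_isNormal_of_fixZ hn hfixF)

end Cfsg.Agent.S5253
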