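import Cfsg.Statements.S5265
import Cfsg.Agent.Lib.H26.SmallCenterTwoMain

set_option autoImplicit false
open Cfsg

namespace Cfsg.Agent.S5265

/-- Let p be a prime, S a nontrivial finite p-group whose centre has index at most p², and F a saturated fusion system over S with no nontrivial normal subgroup and with hyperfocal subgroup equal to S. Then S is extraspecial of order p³; for odd p it has exponent p, and for p = 2 it is dihedral of order 8. -/
theorem result {Ω : Type*} [Group Ω] {S : Subgroup Ω} [Finite S] (p : ℕ) [Fact p.Prime] (hS : IsPGroup p ↥S) (F : Cfsg.FusionSystem S) (hF : F.IsSaturated p) (hS1 : S ≠ ⊥) (hcore : F.core = ⊥) (hhyp : F.hyperfocalSubgroup p = S) (hZ : (Subgroup.center ↥S).index ≤ p ^ 2) : Cfsg.IsExtraspecial p ↥S ∧ Nat.card S = p ^ 3 ∧ (p ≠ 2 → Monoid.exponent ↥S = p) ∧ (p = 2 → Nonempty (↥S ≃* DihedralGroup 4)) := by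
  open Cfsg.Agent.Lib.H26.SmallCenter Cfsg.FusionSystem in
  obtain ⟨E, hE⟩ := exists_essential hS hF hS1 hcore
  have h : Ctx p S := ctx_of_essential hS hF hZ hE
  obtain ⟨x, d, -⟩ := exists_xdata hS h hF hE
  have hD : Nat.card (derS S) = p := d.card_derS h
  by_cases hp2 : p = 2
  · subst hp2
    obtain ⟨hz, b₁, hb₁, b₂, hb₂, h11, h22, h12⟩ := two_main hS h hF hcore hhyp hE
    have hcard := card_eq_cube h hz hD
    refine ⟨isExtraspecial_of_zs_eq hS h hz hD, hcard, fun hne => absurd rfl hne, fun _ => ?_⟩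
    refine dihedral_of_two_involutions (x := (⟨b₁, hb₁⟩ : S)) (y := (⟨b₂, hb₂⟩ : S))
      (by rw [hcard]; norm_num) (Subtype.ext h11) (Subtype.ext h22) (fun hc => h12 ?_)
    exact congrArg Subtype.val hc
  · have hz := zs_eq_derS_of_odd hp2 hS h hF hcore hE
    have hcard := card_eq_cube h hz hD
    refine ⟨isExtraspecial_of_zs_eq hS h hz hD, hcard, fun _ => ?_, fun h2 => absurd h2 hp2⟩
    have hpow := pow_eq_one_of_odd hp2 hS h hF hcore hz hE
    have hpp : p.Prime := Fact.out
    haveI : Nontrivial S := by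
      rw [← Subgroup.nontrivial_iff_ne_bot] at hS1  
      exact hS1
    rw [Monoid.exponent_eq_prime_iff hpp]
    intro g hg1
    exact orderOf_eq_prime (Subtype.ext (by simpa using hpow g g.2)) hg1

end Cfsg.Agent.S5265
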