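import Cfsg.Statements.S5270
import Cfsg.Agent.Lib.H26.MaxClass
import Cfsg.Agent.Lib.H26.EssentialPrime
import Cfsg.Agent.Lib.H26.AutSylow
import Cfsg.Agent.Lib.H26.IndexPrime

set_option autoImplicit false
open Cfsg

namespace Cfsg.Agent.S5270

open Cfsg.FusionSystem Cfsg.Agent.Lib.H25 Cfsg.Agent.Lib.H26

section aux

variable {Ω : Type*} [Group Ω] {S : Subgroup Ω}

/-- An `F`-isomorphism from `S` onto a subgroup of `S` is onto `S`. -/
theorem iso_top_eq [Finite S] {F : FusionSystem S} {N' : Subgroup Ω} {f : Ω → Ω}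
    (h : IsIso F S N' f) : N' = S := by
  have hle : N' ≤ S := h.le_right
  apply Subgroup.eq_of_le_of_card_ge hle
  have e := h.toMulEquiv
  exact (Nat.card_congr e.toEquiv).le

end aux


theorem main {Ω : Type*} [Group Ω] {S : Subgroup Ω} [Finite S] (p : ℕ) [Fact p.Prime] (hS : IsPGroup p ↥S) (n : ℕ) (hn : Nat.card S = p ^ n) (h4 : 4 ≤ n) (hmax : Subgroup.lowerCentralSeries S (n - 2) ≠ ⊥) (F : Cfsg.FusionSystem S) (hF : F.IsSaturated p)
    (Z2 Z : Subgroup Ω) (hZ2def : Z2 = (Subgroup.upperCentralSeries ↥S 2).map S.subtype)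
    (hZdef : Z = (Subgroup.center ↥S).map S.subtype)
    (φ : ↥Z2 →* Ω) (hφ : φ ∈ F.Hom Z2) (hφZ : φ.range = Z2)
    (hmove : ∃ (z : Ω) (hz : z ∈ Z2), z ∈ Z ∧ φ ⟨z, hz⟩ ∉ Z) :
    F.IsEssential p (S ⊓ Subgroup.centralizer (Z2 : Set Ω)) := by
  classical
  have hpp : p.Prime := Fact.out
  obtain ⟨C, hCdef⟩ : ∃ C : Subgroup Ω, C = S ⊓ Subgroup.centralizer (Z2 : Set Ω) := ⟨_, rfl⟩
  rw [← hCdef]
  have hmemC : ∀ x : Ω, x ∈ C ↔ x ∈ S ∧ ∀ y ∈ Z2, y * x = x * y := by
    intro x
    rw [hCdef, Subgroup.mem_inf, Subgroup.mem_centralizer_iff]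
    exact Iff.rfl
  -- maximal class facts
  have hU : Subgroup.upperCentralSeries ↥S (n - 2) ≠ ⊤ := by
    intro h
    rw [← Subgroup.lowerCentralSeries_eq_bot_iff_upperCentralSeries_eq_top] at h
    apply hmax
    rw [← Subgroup.top_subtype_lowerCentralSeries, h, Subgroup.map_bot]
  have hcards := MaxClass.card_ucs hS hn (by omega) hU
  have hc1 : Nat.card (Subgroup.center ↥S) = p := by
    have := hcards 1 (by omega)
    rwa [Subgroup.upperCentralSeries_one, pow_one] at this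
  have hc2 : Nat.card (Subgroup.upperCentralSeries ↥S 2) = p ^ 2 := hcards 2 (by omega)
  have hidx0 := MaxClass.index_centralizer_ucs_two hc1 hc2
  have hZ2S : Z2 ≤ S := by
    rw [hZ2def]
    rintro _ ⟨x, -, rfl⟩
    exact x.2
  have hZS : Z ≤ S := by
    rw [hZdef]
    rintro _ ⟨x, -, rfl⟩
    exact x.2
  have hCS : C ≤ S := fun x hx => ((hmemC x).1 hx).1
  have hmemZ2 : ∀ x : Ω, x ∈ Z2 ↔ ∃ hx : x ∈ S, (⟨x, hx⟩ : S) ∈ Subgroup.upperCentralSeries ↥S 2 := by
    intro x
    rw [hZ2def]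
    constructor
    · rintro ⟨y, hy, rfl⟩
      exact ⟨y.2, hy⟩
    · rintro ⟨hx, h⟩
      exact ⟨⟨x, hx⟩, h, rfl⟩
  have hmemZ : ∀ x : Ω, x ∈ Z ↔ ∃ hx : x ∈ S, (⟨x, hx⟩ : S) ∈ Subgroup.center ↥S := by
    intro x
    rw [hZdef]
    constructor
    · rintro ⟨y, hy, rfl⟩
      exact ⟨y.2, hy⟩
    · rintro ⟨hx, h⟩
      exact ⟨⟨x, hx⟩, h, rfl⟩
  have hmemZ' : ∀ x : Ω, x ∈ Z ↔ x ∈ S ∧ ∀ y ∈ S, y * x = x * y := by
    intro x
    rw [hmemZ]
    constructor
    · rintro ⟨hx, h⟩
      refine ⟨hx, fun y hy => ?_⟩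
      have := Subgroup.mem_center_iff.1 h ⟨y, hy⟩
      exact congrArg Subtype.val this
    · rintro ⟨hx, h⟩
      refine ⟨hx, ?_⟩
      rw [Subgroup.mem_center_iff]
      intro y
      exact Subtype.ext (h y y.2)
  -- C.subgroupOf S is the centralizer of Z₂(S) in S
  have hCsub : C.subgroupOf S = Subgroup.centralizer (Subgroup.upperCentralSeries ↥S 2 : Set ↥S) := by
    ext x
    rw [Subgroup.mem_subgroupOf, Subgroup.mem_centralizer_iff, hmemC]
    constructor
    · intro hx y hy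
      have h1 := hx.2 (y : Ω) ((hmemZ2 _).2 ⟨y.2, hy⟩)
      exact Subtype.ext h1
    · intro hx
      refine ⟨x.2, ?_⟩
      intro y hy
      obtain ⟨hyS, hy2⟩ := (hmemZ2 y).1 hy
      exact congrArg Subtype.val (hx ⟨y, hyS⟩ hy2)
  have hidxC : (C.subgroupOf S).index = p := by rw [hCsub]; exact hidx0
  -- Z₂ is abelian, so Z₂ ≤ C
  have hZ2comm : ∀ x ∈ Z2, ∀ y ∈ Z2, x * y = y * x := by
    intro x hx y hy
    obtain ⟨hxS, hx2⟩ := (hmemZ2 x).1 hx
    obtain ⟨hyS, hy2⟩ := (hmemZ2 y).1 hy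
    have := IsPGroup.commutative_of_card_eq_prime_sq hc2
      ⟨⟨x, hxS⟩, hx2⟩ ⟨⟨y, hyS⟩, hy2⟩
    exact congrArg (fun t : Subgroup.upperCentralSeries ↥S 2 => ((t : S) : Ω)) this
  have hZ2C : Z2 ≤ C := by
    intro x hx
    rw [hmemC]
    refine ⟨hZ2S hx, ?_⟩
    intro y hy
    exact hZ2comm y hy x hx
  -- S normalizes Z₂ and C
  have hSnZ2 : S ≤ Subgroup.normalizer (Z2 : Set Ω) := by
    intro s hs
    have key : ∀ t ∈ S, ∀ x ∈ Z2, t * x * t⁻¹ ∈ Z2 := by
      intro t ht x hx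
      obtain ⟨hxS, hx2⟩ := (hmemZ2 x).1 hx
      rw [hmemZ2]
      refine ⟨S.mul_mem (S.mul_mem ht hxS) (S.inv_mem ht), ?_⟩
      have hn : (Subgroup.upperCentralSeries ↥S 2).Normal := inferInstance
      exact hn.conj_mem _ hx2 ⟨t, ht⟩
    rw [Subgroup.mem_normalizer_iff]
    intro x
    constructor
    · exact key s hs x
    · intro hx
      have := key s⁻¹ (S.inv_mem hs) _ hx
      have e : s⁻¹ * (s * x * s⁻¹) * s⁻¹⁻¹ = x := by group
      rwa [e] at this
  have hSnC : S ≤ Subgroup.normalizer (C : Set Ω) := by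
    intro s hs
    have key : ∀ t ∈ S, ∀ x ∈ C, t * x * t⁻¹ ∈ C := by
      intro t ht x hx
      rw [hmemC] at hx ⊢
      refine ⟨S.mul_mem (S.mul_mem ht hx.1) (S.inv_mem ht), ?_⟩
      intro y hy
      have hy' : t⁻¹ * y * t ∈ Z2 := by
        have := (Subgroup.mem_normalizer_iff.1 (hSnZ2 (S.inv_mem ht)) y).1 hy
        simpa using this
      have hc := hx.2 _ hy'
      calc y * (t * x * t⁻¹) = t * ((t⁻¹ * y * t) * x) * t⁻¹ := by group
        _ = t * (x * (t⁻¹ * y * t)) * t⁻¹ := by rw [hc]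
        _ = t * x * t⁻¹ * y := by group
    rw [Subgroup.mem_normalizer_iff]
    intro x
    constructor
    · exact key s hs x
    · intro hx
      have := key s⁻¹ (S.inv_mem hs) _ hx
      have e : s⁻¹ * (s * x * s⁻¹) * s⁻¹⁻¹ = x := by group
      rwa [e] at this
  have hNZ2 : normalizerIn S Z2 = S := inf_eq_left.2 hSnZ2
  have hNC : normalizerIn S C = S := inf_eq_left.2 hSnC
  -- full normalization
  have hfnZ2 : F.IsFullyNormalized Z2 := by
    refine ⟨hZ2S, fun Q _ => ?_⟩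
    rw [hNZ2]
    exact Subgroup.card_le_of_le inf_le_left
  have hfnC : F.IsFullyNormalized C := by
    refine ⟨hCS, fun Q _ => ?_⟩
    rw [hNC]
    exact Subgroup.card_le_of_le inf_le_left
  obtain ⟨hfcZ2, -⟩ := fullyNormalized_props hS hF hfnZ2
  have hrecZ2 := isReceptive_of_fullyCentralized hS hF hfcZ2
  obtain ⟨hfcC, hfaC⟩ := fullyNormalized_props hS hF hfnC
  have hrecC := isReceptive_of_fullyCentralized hS hF hfcC
  -- extend φ to C
  have hf : IsIso F Z2 Z2 (ext1 φ) := by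
    have := isIso_of_mem F hφ
    rwa [hφZ] at this
  obtain ⟨f', N', hf', hf'Z2⟩ := IsReceptive_extend hrecZ2 hf C (by
    intro g hg
    rw [hmemC] at hg
    refine ⟨hg.1, hSnZ2 hg.1, 1, S.one_mem, fun x hx => ?_⟩
    have hc := hg.2 x hx
    have : g * x * g⁻¹ = x := by
      calc g * x * g⁻¹ = (x * g) * g⁻¹ := by rw [hc]
        _ = x := by group
    rw [this]
    group)
  have hN'C : N' = C := by
    have hle : N' ≤ C := by
      intro y hy
      rw [hmemC]
      refine ⟨hf'.le_right hy, ?_⟩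
      intro x hx
      obtain ⟨c, hc, rfl⟩ := hf'.surjOn hy
      obtain ⟨x', hx', rfl⟩ := hf.surjOn hx
      rw [← hf'Z2 x' hx' (hZ2C hx')]
      rw [← hf'.map_mul (hZ2C hx') hc, ← hf'.map_mul hc (hZ2C hx')]
      congr 1
      exact ((hmemC c).1 hc).2 x' hx'
    have hfinC : Finite C := finite_of_le S hCS
    apply Subgroup.eq_of_le_of_card_ge hle
    exact (Nat.card_congr hf'.toMulEquiv.toEquiv).le
  rw [hN'C] at hf'
  obtain ⟨α, hα, hαf⟩ := exists_mem_autGroup_of_isIso F hf'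
  -- Z ≠ Z₂ data
  obtain ⟨z, hz2, hzZ, hφz⟩ := hmove
  have hcardZ : Nat.card Z = p := by
    rw [hZdef, Subgroup.card_map_of_injective (Subgroup.subtype_injective S)]
    exact hc1
  have hcardZ2 : Nat.card Z2 = p ^ 2 := by
    rw [hZ2def, Subgroup.card_map_of_injective (Subgroup.subtype_injective S)]
    exact hc2
  -- centricity
  have hcen : F.IsCentric C := by
    refine ⟨hCS, fun Q hQ => ?_⟩
    obtain ⟨g, hg⟩ := (isConj_iff F).1 hQ
    have hQS : Q ≤ S := hg.le_right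
    have hfinC : Finite C := finite_of_le S hCS
    have hfinQ : Finite Q := finite_of_le S hQS
    have hcardQ : Nat.card Q = Nat.card C := (Nat.card_congr hg.toMulEquiv.toEquiv).symm
    intro x hx
    by_contra hxQ
    have hxS : x ∈ S := hx.1
    have hxc := hx.2
    -- index of Q in S is p
    have hidxQ : (Q.subgroupOf S).index = p := by
      have h1 : Nat.card (Q.subgroupOf S) = Nat.card (C.subgroupOf S) := by
        rw [Nat.card_congr (Subgroup.subgroupOfEquivOfLe hQS).toEquiv,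
          Nat.card_congr (Subgroup.subgroupOfEquivOfLe hCS).toEquiv, hcardQ]
      have h2 := Subgroup.card_mul_index (Q.subgroupOf S)
      have h3 := Subgroup.card_mul_index (C.subgroupOf S)
      rw [h1] at h2
      rw [hidxC, ← h2] at h3
      have hpos : 0 < Nat.card (C.subgroupOf S) := Nat.card_pos
      exact (Nat.eq_of_mul_eq_mul_left hpos h3).symm
    have hSnQ : S ≤ Subgroup.normalizer (Q : Set Ω) := by
      haveI : (Q.subgroupOf S).Normal := by
        apply Subgroup.normal_of_index_eq_minFac_card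
        rw [hidxQ, hn]
        have : n ≠ 0 := by omega
        rw [Nat.Prime.pow_minFac hpp this]
      intro s hs
      rw [Subgroup.mem_normalizer_iff]
      intro y
      constructor
      · intro hy
        have hyS : y ∈ S := hQS hy
        have h1 : (⟨y, hyS⟩ : S) ∈ Q.subgroupOf S := Subgroup.mem_subgroupOf.2 hy
        have := (inferInstance : (Q.subgroupOf S).Normal).conj_mem _ h1 ⟨s, hs⟩
        exact Subgroup.mem_subgroupOf.1 this
      · intro hy
        have hyS : y ∈ S := by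
          have h1 : s * y * s⁻¹ ∈ S := hQS hy
          have := S.mul_mem (S.mul_mem (S.inv_mem hs) h1) hs
          have e : s⁻¹ * (s * y * s⁻¹) * s = y := by group
          rwa [e] at this
        have h1 : (⟨s * y * s⁻¹, hQS hy⟩ : S) ∈ Q.subgroupOf S := Subgroup.mem_subgroupOf.2 hy
        have := (inferInstance : (Q.subgroupOf S).Normal).conj_mem _ h1 ⟨s, hs⟩⁻¹
        have h2 := Subgroup.mem_subgroupOf.1 this
        have e : ((⟨s, hs⟩⁻¹ * ⟨s * y * s⁻¹, hQS hy⟩ * (⟨s, hs⟩⁻¹)⁻¹ : S) : Ω) = y := by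
          show s⁻¹ * (s * y * s⁻¹) * s⁻¹⁻¹ = y
          group
        rwa [e] at h2
    -- every element of S is q * x^j
    have hdec : ∀ s ∈ S, ∃ q ∈ Q, ∃ j : ℕ, s = q * x ^ j := fun s hs =>
      IndexPrime.decomp hSnQ hidxQ hxS hxQ hs
    -- g(Z₂) is central in S
    have hgZ2 : ∀ w ∈ Z2, g w ∈ Z := by
      intro w hw
      rw [hmemZ']
      have hgw : g w ∈ Q := hg.map_mem (hZ2C hw)
      refine ⟨hQS hgw, fun s hs => ?_⟩
      obtain ⟨q, hq, j, rfl⟩ := hdec s hs
      obtain ⟨c, hc, rfl⟩ := hg.surjOn hq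
      have h1 : g c * g w = g w * g c := by
        rw [← hg.map_mul hc (hZ2C hw), ← hg.map_mul (hZ2C hw) hc]
        congr 1
        exact (((hmemC c).1 hc).2 w hw).symm
      have h2 : g w * x = x * g w := Subgroup.mem_centralizer_iff.1 hxc _ hgw
      have h3 : x ^ j * g w = g w * x ^ j := ((Commute.pow_right (show Commute (g w) x from h2) j).eq).symm
      calc g c * x ^ j * g w = g c * (x ^ j * g w) := by group
        _ = g c * (g w * x ^ j) := by rw [h3]
        _ = (g c * g w) * x ^ j := by group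
        _ = (g w * g c) * x ^ j := by rw [h1]
        _ = g w * (g c * x ^ j) := by group
    -- cardinality contradiction
    have hfinZ : Finite Z := finite_of_le S hZS
    have hfinZ2 : Finite Z2 := finite_of_le S hZ2S
    have hinj : Function.Injective (fun w : Z2 => (⟨g w, hgZ2 w w.2⟩ : Z)) := by
      intro a b hab
      have : g a = g b := congrArg Subtype.val hab
      exact Subtype.ext (hg.injOn (hZ2C a.2) (hZ2C b.2) this)
    have := Nat.card_le_card_of_injective _ hinj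
    rw [hcardZ, hcardZ2] at this
    have h1 : p * p ≤ p * 1 := by rw [← pow_two]; simpa using this
    have := Nat.le_of_mul_le_mul_left h1 hpp.pos
    have := hpp.one_lt
    omega
  -- apply the criterion
  have hidxN : (C.subgroupOf (normalizerIn S C)).index = p := by
    rw [hNC]; exact hidxC
  apply isEssential_of_index_prime hS hF hcen hfnC hidxN hα
  intro hnorm
  obtain ⟨f'', N'', hf'', hf''C⟩ := AutSylow.extend_normalizing hrecC hα hnorm
  rw [hNC] at hf''
  have hN''S : N'' = S := iso_top_eq hf''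
  rw [hN''S] at hf''
  -- f'' z is central
  apply hφz
  have hzC : z ∈ C := hZ2C hz2
  have e1 : φ ⟨z, hz2⟩ = f'' z := by
    have h1 := hf''C ⟨z, hzC⟩
    have h2 := hαf ⟨z, hzC⟩
    have h3 := hf'Z2 z hz2 hzC
    rw [h1, h2]
    show φ ⟨z, hz2⟩ = f' z
    rw [h3, ext1_apply_mem φ hz2]
  rw [e1, hmemZ']
  obtain ⟨hzS, hzc⟩ := (hmemZ' z).1 hzZ
  refine ⟨hf''.map_mem hzS, fun y hy => ?_⟩
  obtain ⟨y', hy', rfl⟩ := hf''.surjOn hy
  rw [← hf''.map_mul hy' hzS, ← hf''.map_mul hzS hy', hzc y' hy']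

/-- Let p ≥ 5 be a prime, S a finite p-group of maximal class of order p^n with n ≥ 4, and F a saturated fusion system over S. If some map of F defined on the second centre Z₂(S) with image Z₂(S) does not carry Z(S) into itself, then the centralizer C_S(Z₂(S)) is an F-essential subgroup. -/
theorem result {Ω : Type*} [Group Ω] {S : Subgroup Ω} [Finite S] (p : ℕ) [Fact p.Prime] (hS : IsPGroup p ↥S) (n : ℕ) (hn : Nat.card S = p ^ n) (h4 : 4 ≤ n) (hmax : Subgroup.lowerCentralSeries S (n - 2) ≠ ⊥) (F : Cfsg.FusionSystem S) (hF : F.IsSaturated p) (hp : 5 ≤ p) (φ : ↥((Subgroup.upperCentralSeries ↥S 2).map S.subtype) →* Ω) (hφ : φ ∈ F.Hom ((Subgroup.upperCentralSeries ↥S 2).map S.subtype)) (hφZ : φ.range = ((Subgroup.upperCentralSeries ↥S 2).map S.subtype)) (hmove : ∃ (z : Ω) (hz : z ∈ ((Subgroup.upperCentralSeries ↥S 2).map S.subtype)), z ∈ ((Subgroup.center ↥S).map S.subtype) ∧ φ ⟨z, hz⟩ ∉ ((Subgroup.center ↥S).map S.subtype)) : F.IsEssential p (S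 ⊓ Subgroup.centralizer (((Subgroup.upperCentralSeries ↥S 2).map S.subtype) : Set Ω)) :=
  main p hS n hn h4 hmax F hF _ _ rfl rfl φ hφ hφZ hmove

end Cfsg.Agent.S5270
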