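import Cfsg.Statements.S5271
import Cfsg.Agent.Lib.H25.WEmbE
import Cfsg.Agent.Lib.H25.KNormSpecial

set_option autoImplicit false
open Cfsg

namespace Cfsg.Agent.S5271

/-- A nilpotency criterion for fusion systems. Let F be a saturated fusion system over a finite p-group S of order at least p². Call a subgroup Q of S weakly embedded in F when there is a subgroup P of S strongly closed in F such that both the product QP and the intersection Q ∩ P are strongly closed in F. Then F is the inner fusion system of S if and only if there is a subgroup D of S with 1 < D < S such that every subgroup of S of the same order as D is weakly embedded in F and, for every fully normalized subgroup H of S of that order, the normalizer fusion system of H in F is the inner fusion system of N_S(H). -/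
theorem result {Ω : Type*} [Group Ω] {S : Subgroup Ω} [Finite S] (p : ℕ) [Fact p.Prime] (hS : IsPGroup p ↥S) (F : Cfsg.FusionSystem S) (hF : F.IsSaturated p) (hcard : p ^ 2 ≤ Nat.card S) : (∀ P : Subgroup Ω, F.Hom P = (Cfsg.innerFusionSystem S).Hom P) ↔ ∃ D : Subgroup Ω, ⊥ < D ∧ D < S ∧ (∀ Q : Subgroup Ω, Q ≤ S → Nat.card ↥Q = Nat.card ↥D → ∃ P : Subgroup Ω, F.StronglyClosed P ∧ F.StronglyClosed (Q ⊔ P) ∧ F.StronglyClosed (Q ⊓ P)) ∧ (∀ H : Subgroup Ω, F.IsFullyNormalized H → Nat.card ↥H = Nat.card ↥D → ∀ N : Cfsg.FusionSystem (Cfsg.FusionSystem.normalizerIn S H), F.IsNormalizerSystem H N → ∀ P : Subgroup Ω, N.Hom P = (Cfsg.innerFusionSystem (Cfsg.FusionSystem.normalizerIn S H)).Hom P) := by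
  classical
  have hp : p.Prime := Fact.out
  constructor
  · -- the inner system: a maximal subgroup works
    intro h
    obtain ⟨k, hk⟩ := hS.exists_card_eq
    have hk2 : 2 ≤ k := by
      rw [hk] at hcard
      exact (Nat.pow_le_pow_iff_right hp.one_lt).1 hcard
    obtain ⟨D, -, hDS, hDc⟩ := Cfsg.Agent.Lib.H25.WEmb.exists_between hS (bot_le : ⊥ ≤ S)
      (d := k - 1) (by rw [Subgroup.card_bot]; exact Nat.one_le_pow _ _ hp.pos)
      (by rw [hk]; exact Nat.pow_le_pow_right hp.pos (by omega))
    haveI : Finite D := Cfsg.Agent.Lib.H25.WEmb.finite_of_le hDS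
    have hDlt : Nat.card D < Nat.card S := by
      rw [hDc, hk]
      exact Nat.pow_lt_pow_right hp.one_lt (by omega)
    refine ⟨D, ?_, ?_, ?_, ?_⟩
    · rw [bot_lt_iff_ne_bot, ← Subgroup.one_lt_card_iff_ne_bot, hDc]
      exact Nat.one_lt_pow (by omega) hp.one_lt
    · refine lt_of_le_of_ne hDS ?_
      intro heq
      rw [heq] at hDlt
      exact lt_irrefl _ hDlt
    · -- subgroups of index `p` are normal, hence strongly closed in the inner system
      intro Q hQS hQc
      have hQn : (Q.subgroupOf S).Normal := by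
        apply Subgroup.normal_of_index_eq_minFac_card
        have h1 := (Q.subgroupOf S).card_mul_index
        have h2 : Nat.card (Q.subgroupOf S) = p ^ (k - 1) := by
          rw [← hDc, ← hQc]
          exact Nat.card_congr (Subgroup.subgroupOfEquivOfLe hQS).toEquiv
        rw [h2, hk] at h1
        have h3 : p ^ k = p ^ (k - 1) * p := by
          rw [← pow_succ]
          congr 1
          omega
        rw [h3] at h1
        have h4 := Nat.eq_of_mul_eq_mul_left (pow_pos hp.pos (k - 1)) h1
        rw [h4, hk, hp.pow_minFac (by omega)]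
      have hQsc : F.StronglyClosed Q := by
        refine ⟨hQS, fun R hR φ hφ x => ?_⟩
        rw [h R] at hφ
        obtain ⟨-, g, hg, hφg⟩ := hφ
        rw [hφg x]
        have hx : (⟨(x : Ω), hQS (hR x.2)⟩ : ↥S) ∈ Q.subgroupOf S :=
          Subgroup.mem_subgroupOf.2 (hR x.2)
        have := hQn.conj_mem _ hx ⟨g, hg⟩
        exact Subgroup.mem_subgroupOf.1 this
      refine ⟨Q, hQsc, ?_, ?_⟩
      · rw [sup_idem]
        exact hQsc
      · rw [inf_idem]
        exact hQsc
    · intro H hfn _ N hN
      have hfinN : Finite ↥(Cfsg.FusionSystem.normalizerIn S H) :=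
        Cfsg.Agent.Lib.H25.WEmb.finite_of_le inf_le_left
      have hNp : IsPGroup p ↥(Cfsg.FusionSystem.normalizerIn S H) := hS.to_le inf_le_left
      have hsat := Cfsg.Agent.Lib.H25.normalizerSystem_isSaturated hS hF hfn N hN
      have hall : Cfsg.Agent.Lib.H26.Nil.AllP p F := Cfsg.Agent.Lib.H26.Nil.allP_of_eq_inner hS h
      have hallN : Cfsg.Agent.Lib.H26.Nil.AllP p N :=
        Cfsg.Agent.Lib.H26.Nil.AllP.mono (fun P φ hφ => by rw [hN P] at hφ; exact hφ.1) hall
      exact Cfsg.Agent.Lib.H26.Nil.eq_inner_of_allP hNp hsat hallN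
  · rintro ⟨D, hDbot, hDS, h1, h2⟩
    have hDle : D ≤ S := hDS.le
    haveI : Finite D := Cfsg.Agent.Lib.H25.WEmb.finite_of_le hDle
    obtain ⟨d, hd⟩ := (hS.to_le hDle).exists_card_eq
    have hlt : p ^ d < Nat.card S := by
      rw [← hd]
      refine lt_of_le_of_ne (Subgroup.card_le_of_le hDle) ?_
      intro heq
      exact hDS.ne (Subgroup.eq_of_le_of_card_ge hDle (le_of_eq heq.symm))
    have hall : Cfsg.Agent.Lib.H26.Nil.AllP p F := by
      apply Cfsg.Agent.Lib.H25.WEmb.allP_of_weakly_embedded hS hF hlt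
      · intro Q hQS hQc
        exact h1 Q hQS (by rw [hQc, hd])
      · intro H hfn hHc
        exact h2 H hfn (by rw [hHc, hd])
    exact Cfsg.Agent.Lib.H26.Nil.eq_inner_of_allP hS hF hall

end Cfsg.Agent.S5271
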