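import Cfsg.Statements.S5272
import Cfsg.Agent.Lib.H26.AxFusion
import Cfsg.Agent.S5204

set_option autoImplicit false
open Cfsg

namespace Cfsg.Agent.S5272

/-- An axiomatic Glauberman–Thompson nilpotency criterion for fusion systems. Let p be an odd prime, F a saturated fusion system over a finite p-group S, and 𝒜 a nonempty family of abelian subgroups of S. For Q ≤ S write I(Q) for the intersection of the members of 𝒜 contained in Q. Assume (invariance) that for every Q ≤ S containing a member of 𝒜, every F-automorphism of Q maps I(Q) into itself, and (replacement) that for every subgroup B of S of nilpotency class at most 2, if some member of 𝒜 contains [B,B] but not B, then B normalizes some member of 𝒜 that contains [B,B] but not B. Then F is the inner fusion system of S if and only if the normalizer fusion system of I(S) in F is the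 inner fusion system of N_S(I(S)). -/
theorem result {Ω : Type*} [Group Ω] {S : Subgroup Ω} [Finite S] (p : ℕ) [Fact p.Prime] (hS : IsPGroup p ↥S) (F : Cfsg.FusionSystem S) (hF : F.IsSaturated p) (hp : p ≠ 2) (𝒜 : Set (Subgroup Ω)) (h𝒜 : ∀ A ∈ 𝒜, A ≤ S ∧ IsMulCommutative ↥A) (hne : 𝒜.Nonempty) (hinv : ∀ Q : Subgroup Ω, Q ≤ S → (∃ A ∈ 𝒜, A ≤ Q) → ∀ α ∈ F.autGroup Q, ∀ x : ↥Q, (x : Ω) ∈ (⨅ A ∈ {A : Subgroup Ω | A ∈ 𝒜 ∧ A ≤ Q}, A) → (((α : MulAut ↥Q) x : ↥Q) : Ω) ∈ (⨅ A ∈ {A : Subgroup Ω | A ∈ 𝒜 ∧ A ≤ Q}, A)) (hrep : ∀ B : Subgroup Ω, B ≤ S → ⁅⁅B, B⁆, B⁆ = ⊥ → (∃ A ∈ 𝒜, ⁅B, B⁆ ≤ A ∧ ¬ B ≤ A) → ∃ A ∈ 𝒜, ⁅B, B⁆ ≤ A ∧ ¬ B ≤ A ∧ B ≤ Subgroup.normalizer (A : Set Ω)) : (∀ P : Subgroup Ω, F.Hom P = (Cfsg.innerFusionSystem S).Hom P) ↔ ∀ N : Cfsg.FusionSystem (Cfsg.FusionSystem.normalizerIn S (⨅ A ∈ 𝒜, A)), F.IsNormalizerSystem (⨅ A ∈ 𝒜, A) N → ∀ P : Subgroup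 Ω, N.Hom P = (Cfsg.innerFusionSystem (Cfsg.FusionSystem.normalizerIn S (⨅ A ∈ 𝒜, A))).Hom P := by
  classical
  have h𝒜S : ∀ A ∈ 𝒜, A ≤ S := fun A hA => (h𝒜 A hA).1
  have h𝒜' : ∀ A ∈ 𝒜, A ≤ S ∧ ∀ x ∈ A, ∀ y ∈ A, x * y = y * x := fun A hA =>
    ⟨(h𝒜 A hA).1, (Cfsg.Agent.Lib.H4.ZJ.isMulCommutative_iff A).1 (h𝒜 A hA).2⟩
  have hII : ∀ Q : Subgroup Ω, Cfsg.Agent.Lib.H26.AxZJ.II 𝒜 Q =
      ⨅ A ∈ {A : Subgroup Ω | A ∈ 𝒜 ∧ A ≤ Q}, A := fun Q => sInf_eq_iInf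
  have hIIS : Cfsg.Agent.Lib.H26.AxZJ.II 𝒜 S = ⨅ A ∈ 𝒜, A := by
    have h1 : {A : Subgroup Ω | A ∈ 𝒜 ∧ A ≤ S} = 𝒜 := by
      ext A
      exact ⟨fun h => h.1, fun h => ⟨h, h𝒜S A h⟩⟩
    unfold Cfsg.Agent.Lib.H26.AxZJ.II
    rw [h1]
    exact sInf_eq_iInf
  obtain ⟨A₀, hA₀⟩ := hne
  have hXS : (⨅ A ∈ 𝒜, A) ≤ S := (iInf₂_le A₀ hA₀).trans (h𝒜S A₀ hA₀)
  -- invariance, at the level of functions
  have hinvF : ∀ Q : Subgroup Ω, Q ≤ S → (∃ A ∈ 𝒜, A ≤ Q) → ∀ f : Ω → Ω,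
      Cfsg.Agent.Lib.H25.IsIso F Q Q f → ∀ x ∈ Cfsg.Agent.Lib.H26.AxZJ.II 𝒜 Q,
      f x ∈ Cfsg.Agent.Lib.H26.AxZJ.II 𝒜 Q := by
    intro Q hQS hex f hf x hx
    obtain ⟨α, hα, hαf⟩ := Cfsg.Agent.Lib.H25.exists_mem_autGroup_of_isIso F hf
    obtain ⟨A, hA, hAQ⟩ := hex
    have hxQ : x ∈ Q := hAQ (Cfsg.Agent.Lib.H26.AxZJ.II_le_of_mem hA hAQ hx)
    have h1 := hinv Q hQS ⟨A, hA, hAQ⟩ α hα ⟨x, hxQ⟩ (by rw [← hII]; exact hx)
    rw [← hII, hαf] at h1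
    exact h1
  -- the intersection is normal in `S`
  have hXn : Cfsg.FusionSystem.normalizerIn S (⨅ A ∈ 𝒜, A) = S := by
    apply le_antisymm inf_le_left
    refine le_inf le_rfl ?_
    have key : ∀ s ∈ S, ∀ y ∈ (⨅ A ∈ 𝒜, A), s * y * s⁻¹ ∈ (⨅ A ∈ 𝒜, A) := by
      intro s hs y hy
      have hsN : s ∈ Cfsg.FusionSystem.normalizerIn S S := ⟨hs, Subgroup.le_normalizer hs⟩
      have hf := Cfsg.Agent.Lib.H25.isIso_conj_normalizer F (le_refl S) hsN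
      have := hinvF S le_rfl ⟨A₀, hA₀, h𝒜S A₀ hA₀⟩ _ hf y (by rw [hIIS]; exact hy)
      rw [hIIS] at this
      exact this
    intro s hs
    apply Cfsg.Agent.Lib.H26.mem_normalizer_of_conj_mem (key s hs)
    intro y hy
    have := key s⁻¹ (S.inv_mem hs) y hy
    rwa [inv_inv] at this
  have hXfn : F.IsFullyNormalized (⨅ A ∈ 𝒜, A) :=
    Cfsg.Agent.Lib.H26.ZJ.isFullyNormalized_of_normalizerIn_eq hXS hXn
  have hNsys : F.IsNormalizerSystem (⨅ A ∈ 𝒜, A)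
      (Cfsg.Agent.S5096.normSys F (⨅ A ∈ 𝒜, A) hXS) := fun _ => rfl
  have hfinN : Finite ↥(Cfsg.FusionSystem.normalizerIn S (⨅ A ∈ 𝒜, A)) :=
    Cfsg.Agent.Lib.H25.finite_of_le S inf_le_left
  have hNp : IsPGroup p ↥(Cfsg.FusionSystem.normalizerIn S (⨅ A ∈ 𝒜, A)) :=
    hS.to_le inf_le_left
  constructor
  · intro h N hN
    have hsat := Cfsg.Agent.Lib.H25.normalizerSystem_isSaturated hS hF hXfn N hN
    have hall : Cfsg.Agent.Lib.H26.Nil.AllP p F := Cfsg.Agent.Lib.H26.Nil.allP_of_eq_inner hS h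
    have hallN : Cfsg.Agent.Lib.H26.Nil.AllP p N :=
      Cfsg.Agent.Lib.H26.Nil.AllP.mono (fun P φ hφ => by rw [hN P] at hφ; exact hφ.1) hall
    exact Cfsg.Agent.Lib.H26.Nil.eq_inner_of_allP hNp hsat hallN
  · intro h
    have hN := h _ hNsys
    have hallN : Cfsg.Agent.Lib.H26.Nil.AllP p
        (Cfsg.Agent.S5096.normSys F (⨅ A ∈ 𝒜, A) hXS) :=
      Cfsg.Agent.Lib.H26.Nil.allP_of_eq_inner hNp hN
    have hnt : ¬ Cfsg.Agent.Lib.H26.Nil.NT p F (⨅ A ∈ 𝒜, A) :=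
      fun hnt => Cfsg.Agent.Lib.H26.Nil.not_allP_of_NT hXS hNsys hnt hallN
    have hall : Cfsg.Agent.Lib.H26.Nil.AllP p F := by
      apply Cfsg.Agent.Lib.H26.Sparse.allP_of_models (Cfsg.Agent.S5204.zjFun p)
        (fun G _ _ P _ hnpc => Cfsg.Agent.S0659.result hp P hnpc) hS hF
      intro E hEsat hEF G _ ι hM
      obtain ⟨hfinG, hreal, hsyl, hcent⟩ := hM
      have hntE : ¬ Cfsg.Agent.Lib.H26.Nil.NT p E (⨅ A ∈ 𝒜, A) :=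
        fun h => hnt (h.mono le_rfl hEF)
      have hnpcN := Cfsg.Agent.Lib.H26.Nil.npc_normalizer_of_not_NT hS hreal hsyl hXS hXn hntE
      rw [← hIIS] at hnpcN
      obtain ⟨T, hT⟩ := hsyl
      have hfam := Cfsg.Agent.Lib.H26.AxZJ.axFam_of_realized hS hreal T hT h𝒜' ⟨A₀, hA₀⟩
        (fun Q hQS hex f hf => hinvF Q hQS hex f (Cfsg.Agent.Lib.H26.ZJ.isIso_mono hEF hf))
        (fun B hBS hcl hex => by
          obtain ⟨A, hA, -, h2, h3⟩ := hrep B hBS hcl hex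
          exact ⟨A, hA, h2, h3⟩) hnpcN
      exact Cfsg.Agent.Lib.H26.AxZJ.ax_npc hp G T _ hfam
    exact Cfsg.Agent.Lib.H26.Nil.eq_inner_of_allP hS hF hall

end Cfsg.Agent.S5272
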