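import Cfsg.Statements.S5273
import Cfsg.Agent.Lib.H25.BGHMain

set_option autoImplicit false
open Cfsg

namespace Cfsg.Agent.S5273

/-- Small-exponent abelian subgroups control fusion. Let E and F be saturated fusion systems over the same finite p-group S with E contained in F. Suppose that E and F have the same maps between A and B for all subgroups A, B of S that are elementary abelian when p is odd, respectively abelian of exponent dividing 4 when p = 2. Then E = F (they have the same maps on every subgroup). -/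
theorem result {Ω : Type*} [Group Ω] {S : Subgroup Ω} [Finite S] (p : ℕ) [Fact p.Prime] (hS : IsPGroup p ↥S) (E F : Cfsg.FusionSystem S) (hE : E.IsSaturated p) (hF : F.IsSaturated p) (hEF : E.IsSubsystemOf F) (hodd : p ≠ 2 → ∀ A B : Subgroup Ω, A ≤ S → B ≤ S → Cfsg.IsElementaryAbelian p A → Cfsg.IsElementaryAbelian p B → E.homSet A B = F.homSet A B) (htwo : p = 2 → ∀ A B : Subgroup Ω, A ≤ S → B ≤ S → IsMulCommutative ↥A → IsMulCommutative ↥B → (∀ a ∈ A, a ^ 4 = 1) → (∀ b ∈ B, b ^ 4 = 1) → E.homSet A B = F.homSet A B) : ∀ P : Subgroup Ω, E.Hom P = F.Hom P := by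
  have hpp : p.Prime := Fact.out
  have hsmall : Cfsg.Agent.Lib.H25.HSmall p E F := by
    intro A hA hAab hAsm φ hφ
    have hB : φ.range ≤ S := Cfsg.Agent.Lib.H25.range_le_S F hφ
    have hBab : ∀ a ∈ φ.range, ∀ b ∈ φ.range, a * b = b * a := by
      rintro _ ⟨x, rfl⟩ _ ⟨y, rfl⟩
      rw [← map_mul, ← map_mul]
      congr 1
      exact Subtype.ext (hAab x x.2 y y.2)
    have hBsm : ∀ b ∈ φ.range, Cfsg.Agent.Lib.H25.Small p b := by
      rintro _ ⟨x, rfl⟩
      have : Cfsg.Agent.Lib.H25.Small p x :=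
        Cfsg.Agent.Lib.H25.Small.of_map A.subtype Subtype.val_injective (hAsm x x.2)
      exact this.map φ
    have hcA : IsMulCommutative ↥A := ⟨⟨fun a b => Subtype.ext (hAab a a.2 b b.2)⟩⟩
    have hcB : IsMulCommutative ↥φ.range := ⟨⟨fun a b => Subtype.ext (hBab a a.2 b b.2)⟩⟩
    have hmem : φ ∈ F.homSet A φ.range := ⟨hφ, fun x => ⟨x, rfl⟩⟩
    by_cases hp2 : p = 2
    · have h4 : ∀ (X : Subgroup Ω), (∀ a ∈ X, Cfsg.Agent.Lib.H25.Small p a) → ∀ a ∈ X, a ^ 4 = 1 := by
        intro X hX a ha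
        have := (Cfsg.Agent.Lib.H25.small_iff_pow a).1 (hX a ha)
        simpa [Cfsg.Agent.Lib.H25.smallExp, hp2] using this
      have := htwo hp2 A φ.range hA hB hcA hcB (h4 A hAsm) (h4 _ hBsm)
      rw [← this] at hmem
      exact hmem.1
    · have hpp' : ∀ (X : Subgroup Ω), (∀ a ∈ X, Cfsg.Agent.Lib.H25.Small p a) → ∀ a ∈ X, a ^ p = 1 := by
        intro X hX a ha
        have := (Cfsg.Agent.Lib.H25.small_iff_pow a).1 (hX a ha)
        simpa [Cfsg.Agent.Lib.H25.smallExp, hp2] using this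
      have := hodd hp2 A φ.range hA hB ⟨hcA, hpp' A hAsm⟩ ⟨hcB, hpp' _ hBsm⟩
      rw [← this] at hmem
      exact hmem.1
  intro P
  exact Set.Subset.antisymm (hEF P) (Cfsg.Agent.Lib.H25.bgh_main hS E F hE hF hEF hsmall P)

end Cfsg.Agent.S5273
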