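import Cfsg.Statements.S5275
import Cfsg.Agent.Lib.H26.SparseModel
import Cfsg.Agent.S5204
import Cfsg.Agent.S3082

set_option autoImplicit false
open Cfsg

namespace Cfsg.Agent.S5275

/-- A Glauberman–Thompson nilpotency criterion for fusion systems relative to a strongly closed subgroup. Let p be an odd prime, F a saturated fusion system over a finite p-group S, and D a subgroup of S that is strongly closed in F. Let Z(J(D)) be the centre of the subgroup of D generated by the abelian subgroups of D of largest order. Then F is the inner fusion system of S if and only if the normalizer fusion system of Z(J(D)) in F is the inner fusion system of N_S(Z(J(D))) = S. -/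
theorem result {Ω : Type*} [Group Ω] {S : Subgroup Ω} [Finite S] (p : ℕ) [Fact p.Prime] (hS : IsPGroup p ↥S) (F : Cfsg.FusionSystem S) (hF : F.IsSaturated p) (hp : p ≠ 2) (D : Subgroup Ω) (hD : F.StronglyClosed D) : (∀ P : Subgroup Ω, F.Hom P = (Cfsg.innerFusionSystem S).Hom P) ↔ ∀ N : Cfsg.FusionSystem (Cfsg.FusionSystem.normalizerIn S (Cfsg.centerThompsonAOf D)), F.IsNormalizerSystem (Cfsg.centerThompsonAOf D) N → ∀ P : Subgroup Ω, N.Hom P = (Cfsg.innerFusionSystem (Cfsg.FusionSystem.normalizerIn S (Cfsg.centerThompsonAOf D))).Hom P := by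
  have hDS : D ≤ S := hD.1
  have hXS : Cfsg.centerThompsonAOf D ≤ S := (Cfsg.Agent.Lib.L0.centerThompsonAOf_le D).trans hDS
  have hDn : S ≤ Subgroup.normalizer (D : Set Ω) :=
    Cfsg.Agent.Lib.H25.stronglyClosed_le_normalizer hD
  have hXn : Cfsg.FusionSystem.normalizerIn S (Cfsg.centerThompsonAOf D) = S := by
    apply le_antisymm inf_le_left
    refine le_inf le_rfl (hDn.trans ?_)
    rw [← Cfsg.Agent.Lib.H4.ZJ.ZJ_abClass]
    exact Cfsg.Agent.Lib.H4.ZJ.normalizer_le_normalizer_ZJ D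
  have hXfn : F.IsFullyNormalized (Cfsg.centerThompsonAOf D) :=
    Cfsg.Agent.Lib.H26.ZJ.isFullyNormalized_of_normalizerIn_eq hXS hXn
  have hNsys : F.IsNormalizerSystem (Cfsg.centerThompsonAOf D)
      (Cfsg.Agent.S5096.normSys F (Cfsg.centerThompsonAOf D) hXS) := fun _ => rfl
  have hfinN : Finite ↥(Cfsg.FusionSystem.normalizerIn S (Cfsg.centerThompsonAOf D)) :=
    Cfsg.Agent.Lib.H25.finite_of_le S inf_le_left
  have hNp : IsPGroup p ↥(Cfsg.FusionSystem.normalizerIn S (Cfsg.centerThompsonAOf D)) :=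
    hS.to_le inf_le_left
  constructor
  · intro h N hN
    have hsat := Cfsg.Agent.Lib.H25.normalizerSystem_isSaturated hS hF hXfn N hN
    have hall : Cfsg.Agent.Lib.H26.Nil.AllP p F := Cfsg.Agent.Lib.H26.Nil.allP_of_eq_inner hS h
    have hallN : Cfsg.Agent.Lib.H26.Nil.AllP p N :=
      Cfsg.Agent.Lib.H26.Nil.AllP.mono (fun P φ hφ => by rw [hN P] at hφ; exact hφ.1) hall
    exact Cfsg.Agent.Lib.H26.Nil.eq_inner_of_allP hNp hsat hallN
  · intro h
    have hN := h _ hNsys
    have hallN : Cfsg.Agent.Lib.H26.Nil.AllP p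
        (Cfsg.Agent.S5096.normSys F (Cfsg.centerThompsonAOf D) hXS) :=
      Cfsg.Agent.Lib.H26.Nil.allP_of_eq_inner hNp hN
    have hnt : ¬ Cfsg.Agent.Lib.H26.Nil.NT p F (Cfsg.centerThompsonAOf D) :=
      fun hnt => Cfsg.Agent.Lib.H26.Nil.not_allP_of_NT hXS hNsys hnt hallN
    have hall : Cfsg.Agent.Lib.H26.Nil.AllP p F := by
      apply Cfsg.Agent.Lib.H26.Sparse.allP_of_models (Cfsg.Agent.S5204.zjFun p)
        (fun G _ _ P _ hnpc => Cfsg.Agent.S0659.result hp P hnpc) hS hF
      intro E hEsat hEF G _ ι hM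
      obtain ⟨hfinG, hreal, hsyl, hcent⟩ := hM
      have hntE : ¬ Cfsg.Agent.Lib.H26.Nil.NT p E (Cfsg.centerThompsonAOf D) :=
        fun h => hnt (h.mono le_rfl hEF)
      have hnpcN := Cfsg.Agent.Lib.H26.Nil.npc_normalizer_of_not_NT hS hreal hsyl hXS hXn hntE
      have himg : Cfsg.Agent.Lib.H26.Model.imgOf ι (Cfsg.centerThompsonAOf D) =
          Cfsg.centerThompsonAOf (Cfsg.Agent.Lib.H26.Model.imgOf ι D) :=
        Cfsg.Agent.Lib.H26.Sparse.imgOf_W_of_le (Cfsg.Agent.S5204.zjFun p) hS hreal.1 hDS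
      rw [himg] at hnpcN
      obtain ⟨T, hT⟩ := hsyl
      have hsc : Cfsg.IsStronglyClosed (Cfsg.Agent.Lib.H26.Model.imgOf ι D) (T : Subgroup G) := by
        rw [hT]
        exact Cfsg.Agent.Lib.H26.Sparse.isStronglyClosed_imgOf hreal
          (Cfsg.Agent.Lib.H26.ZJ.stronglyClosed_mono hEF hD)
      exact Cfsg.Agent.S3082.result hp T _ hsc (Or.inl hnpcN)
    exact Cfsg.Agent.Lib.H26.Nil.eq_inner_of_allP hS hF hall

end Cfsg.Agent.S5275
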