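import Cfsg.Statements.S5276
import Cfsg.Agent.Lib.H25.FrattiniClosed
import Cfsg.Agent.Lib.H25.SatEquiv
import Cfsg.Agent.S5096

set_option autoImplicit false
open Cfsg

namespace Cfsg.Agent.S5276

/-- Let p be a prime and F a saturated fusion system over a finite p-group S. Then F is the inner fusion system of S if and only if the normalizer fusion system of S itself in F is the inner fusion system (equivalently, Aut_F(S) is induced by S) and the Frattini subgroup Φ(S) is strongly closed in F. -/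
theorem result {Ω : Type*} [Group Ω] {S : Subgroup Ω} [Finite S] (p : ℕ) [Fact p.Prime] (hS : IsPGroup p ↥S) (F : Cfsg.FusionSystem S) (hF : F.IsSaturated p) : (∀ P : Subgroup Ω, F.Hom P = (Cfsg.innerFusionSystem S).Hom P) ↔ (∀ N : Cfsg.FusionSystem (Cfsg.FusionSystem.normalizerIn S S), F.IsNormalizerSystem S N → ∀ P : Subgroup Ω, N.Hom P = (Cfsg.innerFusionSystem (Cfsg.FusionSystem.normalizerIn S S)).Hom P) ∧ F.StronglyClosed ((frattini ↥S).map S.subtype) := by
  classical
  have hfrS : (frattini ↥S).map S.subtype ≤ S := by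
    rintro _ ⟨x, -, rfl⟩
    exact x.2
  constructor
  · intro hin
    constructor
    · intro N hN P
      ext φ
      rw [hN P]
      constructor
      · rintro ⟨hφ, hP, hval, -⟩
        rw [hin P] at hφ
        obtain ⟨hPS, g, hg, hφg⟩ := hφ
        exact ⟨hP, g, Cfsg.Agent.Lib.H25.le_normalizerIn le_rfl hg, hφg⟩
      · rintro ⟨hP, g, hg, hφg⟩
        have hgS : g ∈ S := hg.1
        have hPS : P ≤ S := hP.trans inf_le_left
        have hφF : φ ∈ F.Hom P := by
          rw [hin P]
          exact ⟨hPS, g, hgS, hφg⟩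
        refine ⟨hφF, hP, fun x => ?_, ?_⟩
        · rw [hφg x]
          exact Cfsg.Agent.Lib.H25.le_normalizerIn le_rfl
            (S.mul_mem (S.mul_mem hgS (hPS x.2)) (S.inv_mem hgS))
        · have hle : P ⊔ S ≤ S := sup_le hPS le_rfl
          refine ⟨Cfsg.conjHom (P ⊔ S) g, F.conj_mem hle hgS, fun x => ?_, ?_⟩
          · rw [Cfsg.Agent.Lib.H25.conjHom_apply, hφg x]
            rfl
          · ext y
            constructor
            · rintro ⟨x, hx, rfl⟩
              rw [Cfsg.Agent.Lib.H25.conjHom_apply]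
              exact S.mul_mem (S.mul_mem hgS (Subgroup.mem_subgroupOf.1 hx)) (S.inv_mem hgS)
            · intro hy
              have hyS : g⁻¹ * y * g ∈ S := S.mul_mem (S.mul_mem (S.inv_mem hgS) hy) hgS
              refine ⟨⟨g⁻¹ * y * g, (le_sup_right : S ≤ P ⊔ S) hyS⟩,
                Subgroup.mem_subgroupOf.2 hyS, ?_⟩
              rw [Cfsg.Agent.Lib.H25.conjHom_apply]
              show g * (g⁻¹ * y * g) * g⁻¹ = y
              group
    · refine ⟨hfrS, fun R hR φ hφ x => ?_⟩
      rw [hin R] at hφ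
      obtain ⟨hRS, g, hg, hφg⟩ := hφ
      rw [hφg x]
      obtain ⟨y, hy, hyx⟩ := hR x.2
      refine ⟨⟨g, hg⟩ * y * ⟨g, hg⟩⁻¹, ?_, ?_⟩
      · exact (inferInstance : (frattini ↥S).Normal).conj_mem y hy ⟨g, hg⟩
      · show g * (y : Ω) * g⁻¹ = _
        rw [← hyx]
        rfl
  · rintro ⟨hN, hΦ⟩
    have hA : F.autGroup S ≤ Cfsg.autInducedBy S S := by
      intro α hα
      have hSS : S ≤ Cfsg.FusionSystem.normalizerIn S S := Cfsg.Agent.Lib.H25.le_normalizerIn le_rfl
      have hαF : S.subtype.comp α.toMonoidHom ∈ F.Hom S :=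
        (Cfsg.Agent.Lib.H25.mem_autGroup_iff F le_rfl α).1 hα
      obtain ⟨NS, hNS⟩ := Cfsg.Agent.S5096.result F S le_rfl
      have hmem : S.subtype.comp α.toMonoidHom ∈ NS.Hom S := by
        rw [hNS S]
        have heq : S = S ⊔ S := (sup_idem S).symm
        refine ⟨hαF, hSS, fun x => hSS (α x).2, _, Cfsg.Agent.Lib.H25.hom_cast F heq hαF,
          fun x => rfl, ?_⟩
        ext y
        constructor
        · rintro ⟨x, hx, rfl⟩
          exact (α ⟨x, Subgroup.mem_subgroupOf.1 hx⟩).2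
        · intro hy
          refine ⟨⟨((α⁻¹ ⟨y, hy⟩ : S) : Ω), (le_sup_left : S ≤ S ⊔ S) (α⁻¹ ⟨y, hy⟩).2⟩,
            Subgroup.mem_subgroupOf.2 (α⁻¹ ⟨y, hy⟩).2, ?_⟩
          show ((α (α⁻¹ ⟨y, hy⟩) : S) : Ω) = y
          simp
      rw [hN NS hNS S] at hmem
      obtain ⟨-, g, hg, hgα⟩ := hmem
      exact (Cfsg.Agent.Lib.H25.mem_autInducedBy_iff S S α).2 ⟨g, hg.1, fun x => hgα x⟩
    have hF' := Cfsg.Agent.Lib.H25.inner_of_frattini_stronglyClosed hS hF hA hΦ
    intro P
    rw [hF']

end Cfsg.Agent.S5276
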