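import Cfsg.Statements.S5284
import Cfsg.Agent.S5283
import Cfsg.Agent.Lib.H26.SuperFusion
import Cfsg.Agent.Lib.H26.AbelianPA
import Cfsg.Agent.Lib.H26.AbelianDistinct
import Cfsg.Agent.Lib.H26.AbelianBad

set_option autoImplicit false
open Cfsg

namespace Cfsg.Agent.S5284

/-- Let S be a finite abelian p-group. Every saturated fusion system over S is supersoluble (S has a chain of F-strongly closed subgroups from 1 to S with cyclic steps) if and only if the invariants of S are pairwise distinct, that is, S is not isomorphic to a direct product (Z/p^n × Z/p^n) × H with n ≥ 1. -/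
theorem result {Ω : Type*} [Group Ω] {S : Subgroup Ω} [Finite S] (p : ℕ) [Fact p.Prime] (hS : IsPGroup p ↥S) (hab : IsMulCommutative ↥S) : (∀ F : Cfsg.FusionSystem S, F.IsSaturated p → (∃ (m : ℕ) (c : Fin (m + 1) → Subgroup Ω), c 0 = ⊥ ∧ c (Fin.last m) = S ∧ (∀ i : Fin (m + 1), F.StronglyClosed (c i)) ∧ ∀ i : Fin m, c i.castSucc ≤ c i.succ ∧ ∃ x ∈ S, c i.succ = c i.castSucc ⊔ Subgroup.zpowers x)) ↔ ¬ ∃ (n : ℕ) (H : Type) (_ : CommGroup H), 0 < n ∧ Nonempty (↥S ≃* (Multiplicative (ZMod (p ^ n)) × Multiplicative (ZMod (p ^ n))) × H) := by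
  have hc : ∀ a b : ↥S, a * b = b * a := isMulCommutative_iff.1 hab
  constructor
  · rintro hall ⟨n, H, instH, hn, ⟨ε⟩⟩
    have h1 := ((Cfsg.Agent.S5283.result p hS).1 hall).2
    have hPA : Cfsg.Agent.Lib.H26.AbelianPA.PA p ↥S := by
      intro K hK
      obtain ⟨hcK, hpw⟩ := h1 K hK
      refine ⟨fun a ha b hb => ?_, hpw⟩
      have := (isMulCommutative_iff.1 hcK) ⟨a, ha⟩ ⟨b, hb⟩
      exact congrArg Subtype.val this
    have hPA2 := Cfsg.Agent.Lib.H26.AbelianPA.PA_of_prod
      (Cfsg.Agent.Lib.H26.AbelianPA.PA_congr ε.symm hPA)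
    haveI : NeZero (p ^ n) := ⟨(pow_pos (Fact.out : p.Prime).pos _).ne'⟩
    have hcard : Nat.card (Multiplicative (ZMod (p ^ n))) = p ^ n :=
      Cfsg.Agent.Lib.H26.AbelianDistinct.card_mult_zmod (p ^ n)
    haveI : Nontrivial (Multiplicative (ZMod (p ^ n))) := by
      rw [← Finite.one_lt_card_iff_nontrivial, hcard]
      exact Nat.one_lt_pow hn.ne' (Fact.out : p.Prime).one_lt
    exact Cfsg.Agent.Lib.H26.AbelianBad.not_PA (Multiplicative (ZMod (p ^ n)))
      (IsPGroup.of_card hcard) hPA2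
  · intro hd F hF
    have hPA := Cfsg.Agent.Lib.H26.AbelianDistinct.PA_of_distinct' hc hS hd
    have hn : F.IsNormal S := by
      apply Cfsg.Agent.Lib.H25.isNormal_of_essential hS hF
      intro T hT
      rcases hT with rfl | hT
      · exact ⟨le_rfl, fun α _ x _ => (α x).2⟩
      · exfalso
        have hTS : T ≤ S := hT.1.1
        have h2 := hT.1.2 T (Cfsg.Agent.Lib.H25.isConj_refl F hTS)
        apply Cfsg.Agent.Lib.H26.essential_ne_top hS hF hT
        apply le_antisymm hTS
        intro s hs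
        apply h2
        refine ⟨hs, ?_⟩
        show s ∈ Subgroup.centralizer (T : Set Ω)
        rw [Subgroup.mem_centralizer_iff]
        intro t ht
        have := hc ⟨t, hTS ht⟩ ⟨s, hs⟩
        exact congrArg Subtype.val this
    exact Cfsg.Agent.Lib.H26.SuperFusion.exists_chain_of_normal hS hF hn hPA

end Cfsg.Agent.S5284
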