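import Cfsg.Statements.S5287
import Cfsg.Agent.S5283
import Cfsg.Agent.S5284
import Cfsg.Agent.Lib.H26.MSFam
import Cfsg.Agent.Lib.H26.MSSmall
import Cfsg.Agent.Lib.H26.MSPAodd
import Cfsg.Agent.Lib.H26.MSAbel
import Cfsg.Agent.Lib.H26.MetaSCMain
import Cfsg.Agent.Lib.H26.MetaSC2Quat
import Cfsg.Agent.Lib.H26.AbelianBad
import Cfsg.Agent.Lib.H26.AbelianDistinct
import Cfsg.Agent.Lib.H26.SuperFusion

set_option autoImplicit false
open Cfsg

namespace Cfsg.Agent.S5287

/-- Let S be a finite metacyclic p-group (an extension of a cyclic group by a cyclic group). Every saturated fusion system over S is supersoluble (S has a chain of F-strongly closed subgroups from 1 to S with cyclic steps) if and only if S is not homocyclic of rank two (isomorphic to Z/p^n × Z/p^n with n ≥ 1) and, when p = 2, S is not dihedral of order at least 4, not quasi-dihedral (semidihedral) and not generalized quaternion of order at least 8. -/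
theorem result {Ω : Type*} [Group Ω] {S : Subgroup Ω} [Finite S] (p : ℕ) [Fact p.Prime] (hS : IsPGroup p ↥S) (hm : Cfsg.IsMetacyclic ↥S) : (∀ F : Cfsg.FusionSystem S, F.IsSaturated p → (∃ (m : ℕ) (c : Fin (m + 1) → Subgroup Ω), c 0 = ⊥ ∧ c (Fin.last m) = S ∧ (∀ i : Fin (m + 1), F.StronglyClosed (c i)) ∧ ∀ i : Fin m, c i.castSucc ≤ c i.succ ∧ ∃ x ∈ S, c i.succ = c i.castSucc ⊔ Subgroup.zpowers x)) ↔ ¬ ((∃ n : ℕ, 0 < n ∧ Nonempty (↥S ≃* Multiplicative (ZMod (p ^ n)) × Multiplicative (ZMod (p ^ n)))) ∨ (p = 2 ∧ ((∃ n : ℕ, 2 ≤ n ∧ Nonempty (↥S ≃* DihedralGroup n)) ∨ Cfsg.IsQuasiDihedral ↥S ∨ (∃ n : ℕ, 2 ≤ n ∧ Nonempty (↥S ≃* QuaternionGroup n))))) := by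
  classical
  have hpp : p.Prime := Fact.out
  constructor
  · -- every saturated system supersoluble: exclude the bad groups
    intro hall hbad
    obtain ⟨hres, hPA0⟩ := (Cfsg.Agent.S5283.result p hS).1 hall
    have hPA : Cfsg.Agent.Lib.H26.AbelianPA.PA p ↥S := by
      intro K hK
      obtain ⟨hcK, hpw⟩ := hPA0 K hK
      refine ⟨fun a ha b hb => ?_, hpw⟩
      have := (isMulCommutative_iff.1 hcK) ⟨a, ha⟩ ⟨b, hb⟩
      exact congrArg Subtype.val this
    rcases hbad with ⟨n, hn, ⟨ε⟩⟩ | ⟨rfl, ⟨n, hn, ⟨e⟩⟩ | hqd | ⟨n, hn, ⟨e⟩⟩⟩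
    · -- homocyclic
      haveI : NeZero (p ^ n) := ⟨(pow_pos hpp.pos _).ne'⟩
      have hcard : Nat.card (Multiplicative (ZMod (p ^ n))) = p ^ n :=
        Cfsg.Agent.Lib.H26.AbelianDistinct.card_mult_zmod (p ^ n)
      haveI : Nontrivial (Multiplicative (ZMod (p ^ n))) := by
        rw [← Finite.one_lt_card_iff_nontrivial, hcard]
        exact Nat.one_lt_pow hn.ne' hpp.one_lt
      exact Cfsg.Agent.Lib.H26.AbelianBad.not_PA (Multiplicative (ZMod (p ^ n)))
        (IsPGroup.of_card hcard) (Cfsg.Agent.Lib.H26.AbelianPA.PA_congr ε.symm hPA)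
    · -- dihedral
      rcases Nat.lt_or_ge n 3 with hlt | hge
      · have hn2 : n = 2 := by omega
        subst hn2
        exact Cfsg.Agent.Lib.H26.MetaSup.not_PA_klein
          (Cfsg.Agent.Lib.H26.AbelianPA.PA_congr e.symm hPA)
      · obtain ⟨F, hF, hnn⟩ := Cfsg.Agent.Lib.H26.MetaSup.exists_nonNormal_dihedral hS n hge e
        exact hnn (hres F hF)
    · -- semidihedral
      obtain ⟨F, hF, hnn⟩ := Cfsg.Agent.Lib.H26.MetaSup.exists_nonNormal_qd hS hqd
      exact hnn (hres F hF)
    · -- quaternion
      rcases Nat.lt_or_ge n 3 with hlt | hge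
      · have hn2 : n = 2 := by omega
        subst hn2
        exact Cfsg.Agent.Lib.H26.MetaSup.not_PA_quat
          (Cfsg.Agent.Lib.H26.AbelianPA.PA_congr e.symm hPA)
      · obtain ⟨F, hF, hnn⟩ := Cfsg.Agent.Lib.H26.MetaSup.exists_nonNormal_quat hS n hge e
        exact hnn (hres F hF)
  · -- the good groups
    intro hgood F hF
    rw [not_or] at hgood
    obtain ⟨hhomo, htwo⟩ := hgood
    by_cases hab : ∀ a b : ↥S, a * b = b * a
    · -- abelian
      have hab' : IsMulCommutative ↥S := isMulCommutative_iff.2 hab
      apply (Cfsg.Agent.S5284.result p hS hab').2 ?_ F hF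
      rintro ⟨n, H, instH, hn, ⟨ε⟩⟩
      apply hhomo
      haveI : NeZero (p ^ n) := ⟨(pow_pos hpp.pos _).ne'⟩
      have hcard : Nat.card (Multiplicative (ZMod (p ^ n))) = p ^ n :=
        Cfsg.Agent.Lib.H26.AbelianDistinct.card_mult_zmod (p ^ n)
      haveI : Nontrivial (Multiplicative (ZMod (p ^ n))) := by
        rw [← Finite.one_lt_card_iff_nontrivial, hcard]
        exact Nat.one_lt_pow hn.ne' hpp.one_lt
      haveI hfinX : Finite ((Multiplicative (ZMod (p ^ n)) × Multiplicative (ZMod (p ^ n))) × H) :=
        Finite.of_equiv _ ε.toEquiv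
      haveI : Finite H := Finite.prod_right
        (Multiplicative (ZMod (p ^ n)) × Multiplicative (ZMod (p ^ n)))
      have hXp : IsPGroup p
          ((Multiplicative (ZMod (p ^ n)) × Multiplicative (ZMod (p ^ n))) × H) :=
        hS.of_equiv ε
      have hHp : IsPGroup p H :=
        hXp.of_surjective (MonoidHom.snd _ H) Prod.snd_surjective
      have hmX := Cfsg.Agent.Lib.H16.Meta.isMetacyclic_of_mulEquiv hm ε
      haveI : Subsingleton H := Cfsg.Agent.Lib.H26.MetaSup.subsingleton_of_metacyclic_prod
        (IsPGroup.of_card hcard) hHp hmX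
      haveI : Unique H := uniqueOfSubsingleton 1
      exact ⟨n, hn, ⟨ε.trans MulEquiv.prodUnique⟩⟩
    · -- nonabelian
      have hfin : Nat.card ↥S ≠ 0 := Nat.card_pos.ne'
      have hn : F.IsNormal S := by
        by_cases hp2 : p = 2
        · subst hp2
          apply Cfsg.Agent.Lib.H26.MetaSC.isNormal_of_metacyclic_two hS hF
            (Cfsg.Agent.Lib.H25.stronglyClosed_self F) hm
          · rintro ⟨m, ⟨e⟩⟩
            rcases Nat.lt_or_ge m 2 with hlt | hge
            · apply hab
              have hc : IsMulCommutative (DihedralGroup m) := by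
                rcases Nat.lt_or_ge m 1 with h0 | h1
                · exfalso
                  have hm0 : m = 0 := by omega
                  subst hm0
                  apply hfin
                  rw [Nat.card_congr e.toEquiv, DihedralGroup.nat_card]
                · have hm1 : m = 1 := by omega
                  exact DihedralGroup.commutative_iff.2 (Or.inl hm1)
              intro a b
              apply e.injective
              rw [map_mul, map_mul]
              exact (isMulCommutative_iff.1 hc) _ _
            · exact htwo ⟨rfl, Or.inl ⟨m, hge, ⟨e⟩⟩⟩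
          · rintro ⟨m, ⟨e⟩⟩
            rcases Nat.lt_or_ge m 2 with hlt | hge
            · apply hab
              rcases Nat.lt_or_ge m 1 with h0 | h1
              · exfalso
                have hm0 : m = 0 := by omega
                subst hm0
                haveI : Infinite (ZMod (2 * 0)) := by
                  show Infinite ℤ
                  infer_instance
                haveI : Finite (QuaternionGroup 0) := Finite.of_equiv _ e.toEquiv
                haveI : Finite (ZMod (2 * 0)) :=
                  Finite.of_injective (QuaternionGroup.a : ZMod (2 * 0) → QuaternionGroup 0)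
                    (fun _ _ h => QuaternionGroup.a.inj h)
                exact not_finite (ZMod (2 * 0))
              · have hm1 : m = 1 := by omega
                subst hm1
                haveI := QuaternionGroup.quaternionGroup_one_isCyclic
                letI : CommGroup (QuaternionGroup 1) := IsCyclic.commGroup
                intro a b
                apply e.injective
                rw [map_mul, map_mul, mul_comm]
            · exact htwo ⟨rfl, Or.inr (Or.inr ⟨m, hge, ⟨e⟩⟩)⟩
          · intro hqd
            exact htwo ⟨rfl, Or.inr (Or.inl hqd)⟩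
        · exact Cfsg.Agent.Lib.H26.MetaSC.isNormal_of_metacyclic hS hF
            (Cfsg.Agent.Lib.H25.stronglyClosed_self F) hp2 hm
      have hPA : Cfsg.Agent.Lib.H26.AbelianPA.PA p ↥S := by
        by_cases hp2 : p = 2
        · subst hp2
          have hA : IsPGroup 2 (MulAut ↥S) := by
            by_contra hA
            rcases Cfsg.Agent.Lib.H5.MC2.main hS hm hA with ⟨⟨e⟩⟩ | ⟨n, ⟨e⟩⟩
            · exact htwo ⟨rfl, Or.inr (Or.inr ⟨2, le_rfl, ⟨e⟩⟩)⟩
            · apply hab
              intro a b
              apply e.injective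
              rw [map_mul, map_mul, mul_comm]
          intro K hK
          have hKbot : ∀ k ∈ K, k = 1 := by
            intro k hk
            obtain ⟨j, hj⟩ := hA k
            exact Cfsg.Agent.Lib.H26.SuperFusion.eq_one_of_pow_coprime
              (Nat.Coprime.pow_right j hK)
              (Cfsg.Agent.Lib.H26.SuperFusion.pow_card_subgroup_eq_one K hk) hj
          refine ⟨fun a ha b hb => ?_, fun h hh => ?_⟩
          · rw [hKbot a ha, hKbot b hb]
          · rw [hKbot h hh, one_pow]
        · exact Cfsg.Agent.Lib.H26.MetaSup.PA_of_nonabelian hp2 hS hm hab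
      exact Cfsg.Agent.Lib.H26.SuperFusion.exists_chain_of_normal hS hF hn hPA

end Cfsg.Agent.S5287
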