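import Cfsg.Statements.S5290
import Cfsg.Agent.Lib.H25.Normal
import Cfsg.Agent.Lib.H26.FusionInner
import Cfsg.Agent.S5106

set_option autoImplicit false
open Cfsg

namespace Cfsg.Agent.S5290

/-- Let F be a saturated fusion system over a finite p-group S and Q a subgroup of S. Then Q is normal in F (F = N_F(Q)) if and only if the inner fusion system of Q, consisting of the conjugations by elements of Q on subgroups of Q, is a weakly normal subsystem of F (both saturated, Q strongly closed, invariant under F-conjugation, with the Frattini property). -/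
theorem result {Ω : Type*} [Group Ω] {S : Subgroup Ω} [Finite S] (p : ℕ) [Fact p.Prime] (hS : IsPGroup p S)
    (F : Cfsg.FusionSystem S) (hF : F.IsSaturated p)
    (Q : Subgroup Ω) (hQ : Q ≤ S) :
    F.IsNormal Q ↔ (Cfsg.innerFusionSystem Q).IsWeaklyNormalIn F p := by
  open Cfsg.FusionSystem Cfsg.Agent.Lib.H25 in
  classical
  constructor
  · intro hQn
    refine ⟨Cfsg.Agent.Lib.H26.inner_isSaturated (hS.to_le hQ), hF, ?_, isNormal_stronglyClosed hQn, ?_, ?_⟩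
    · rintro P φ ⟨hP, g, hg, hφ⟩
      have : φ = Cfsg.conjHom P g := MonoidHom.ext hφ
      rw [this]
      exact F.conj_mem (hP.trans hQ) (hQ hg)
    · rintro P hPQ φ ⟨-, g, hg, hφ⟩ α hα
      refine ⟨Cfsg.conjHom _ ((α ⟨g, hg⟩ : Q) : Ω), ⟨?_, _, (α ⟨g, hg⟩).2, fun _ => rfl⟩, ?_⟩
      · rintro _ ⟨t, -, rfl⟩
        exact (α t).2
      · intro x hφx hαx
        show ((α ⟨g, hg⟩ : Q) : Ω) * ((α ⟨x, hPQ x.2⟩ : Q) : Ω) * ((α ⟨g, hg⟩ : Q) : Ω)⁻¹ = _
        have e : (⟨φ x, hφx⟩ : Q) = ⟨g, hg⟩ * ⟨x, hPQ x.2⟩ * ⟨g, hg⟩⁻¹ := Subtype.ext (hφ x)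
        rw [e, map_mul, map_mul, map_inv]
        rfl
    · intro P hPQ φ hφ
      obtain ⟨α, hα, hαφ⟩ := (Cfsg.Agent.S5106.result p hS F hF Q hQ).1 hQn P hPQ φ hφ
      refine ⟨α, hα, P.subtype, ⟨hPQ, 1, Q.one_mem, fun x => by simp⟩, fun x hx => ?_⟩
      rw [← hαφ x]
      rfl
  · rintro ⟨-, -, -, -, -, hfrat⟩
    rw [Cfsg.Agent.S5106.result p hS F hF Q hQ]
    intro P hPQ φ hφ
    obtain ⟨α₀, hα₀, φ₀, ⟨-, g, hg, hφ₀⟩, hval⟩ := hfrat P hPQ φ hφ
    have hgN : g ∈ normalizerIn S Q := ⟨hQ hg, Subgroup.le_normalizer hg⟩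
    obtain ⟨γ, hγ, hγg⟩ := exists_mem_autGroup_of_isIso F (isIso_conj_normalizer F hQ hgN)
    refine ⟨α₀ * γ, Subgroup.mul_mem _ hα₀ hγ, fun x => ?_⟩
    have hx : φ₀ x ∈ Q := by
      rw [hφ₀]
      exact Q.mul_mem (Q.mul_mem hg (hPQ x.2)) (Q.inv_mem hg)
    rw [hval x hx]
    show ((α₀ (γ (Subgroup.inclusion hPQ x)) : Q) : Ω) = _
    congr 2
    apply Subtype.ext
    rw [hγg]
    exact (hφ₀ x).symm

end Cfsg.Agent.S5290
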