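import Cfsg.Statements.S5292
import Cfsg.Agent.Lib.H26.ModelQuotient
import Cfsg.Agent.Lib.H26.PSolvableExt
import Cfsg.Agent.Lib.H10.PSolvable
import Cfsg.Agent.Lib.H9.PPrimeCore
import Cfsg.Agent.S5145

set_option autoImplicit false
universe u
open Cfsg Cfsg.FusionSystem Cfsg.Agent.Lib.H25 Cfsg.Agent.Lib.H26.Model

namespace Cfsg.Agent.S5292

/-- Let F be a saturated fusion system over a finite p-group S. Then F is the fusion system of some finite p-solvable group on a Sylow p-subgroup if and only if F is constrained (some subgroup normal in F is centric in F) and the group of automorphisms that F induces on its largest normal subgroup O_p(F) is p-solvable. -/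
theorem result {Ω : Type u} [Group Ω] {S : Subgroup Ω} [Finite S] (p : ℕ) [Fact p.Prime] (hS : IsPGroup p S)
    (F : Cfsg.FusionSystem S) (hF : F.IsSaturated p) :
    (∃ (G : Type u) (_ : Group G) (_ : Finite G) (ι : S →* G), Cfsg.IsPSolvable p G ∧ F.IsRealizedBy ι ∧
        ∃ T : Sylow p G, (T : Subgroup G) = ι.range) ↔
      (F.IsConstrained p ∧ Cfsg.IsPSolvable p ↥(F.autGroup F.core)) := by
  classical
  constructor
  · rintro ⟨G, hG, hfin, ι, hps, hreal, T, hT⟩
    -- pass to `G / O_{p'}(G)`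
    haveI hKn : (Cfsg.pPrimeCore p G).Normal := Cfsg.Agent.Lib.H22.pPrimeCore_normal p
    have hKp : (Nat.card (Cfsg.pPrimeCore p G)).Coprime p :=
      Cfsg.Agent.Lib.H22.card_pPrimeCore_coprime p
    have hreal' := realizedBy_quotient hS hreal (Cfsg.pPrimeCore p G) hKp
    obtain ⟨T', hT'⟩ := sylow_quotient (ι := ι) hS T hT (Cfsg.pPrimeCore p G)
    have hps' : Cfsg.IsPSolvable p (G ⧸ Cfsg.pPrimeCore p G) :=
      Cfsg.Agent.Lib.H10.isPSolvable_quotient hps _
    have hC := Cfsg.Agent.Lib.H10.centralizer_pCore_le_of_isPSolvable p hps'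
      (Cfsg.Agent.Lib.H9.pPrimeCore_quotient_eq_bot p)
    have hM : F.IsModel p (G ⧸ Cfsg.pPrimeCore p G)
        ((QuotientGroup.mk' (Cfsg.pPrimeCore p G)).comp ι) :=
      ⟨inferInstance, hreal', ⟨T', hT'⟩, hC⟩
    have hcon := isConstrained_of_isModel hF hM
    refine ⟨hcon, ?_⟩
    obtain ⟨-, Q', hQ'n, hQ'c⟩ := hcon
    have hQn : F.IsNormal F.core := model_core_isNormal hS hM
    have hQS := hQn.1
    have hQc : F.IsCentric F.core :=
      Cfsg.Agent.Lib.H26.isCentric_of_le hQ'c (le_sSup hQ'n) hQS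
    obtain ⟨hN, hc⟩ := model_core_struct hS hM hQS
    exact Cfsg.Agent.Lib.H26.isPSolvable_of_surjective
      (amodelOf hS hF hQn hQc hreal' hN hc).π (amodelOf hS hF hQn hQc hreal' hN hc).π_surj hps'
  · rintro ⟨hcon, hps⟩
    obtain ⟨-, Q', hQ'n, hQ'c⟩ := hcon
    have hQn : F.IsNormal F.core := Cfsg.Agent.S5145.result F
    have hQS := hQn.1
    have hQc : F.IsCentric F.core :=
      Cfsg.Agent.Lib.H26.isCentric_of_le hQ'c (le_sSup hQ'n) hQS
    obtain ⟨G, hG, ι, π, hmodel, hπ, -, hker, -⟩ := exists_model_normal_centric hS hF hQn hQc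
    haveI hfin : Finite G := hmodel.1
    refine ⟨G, hG, hfin, ι, ?_, hmodel.2.1, hmodel.2.2.1⟩
    have hkp : IsPGroup p π.ker := by
      rintro ⟨g, hg⟩
      obtain ⟨s, -, -, rfl⟩ := hker g hg
      obtain ⟨k, hk⟩ := hS s
      refine ⟨k, Subtype.ext ?_⟩
      show (ι s) ^ (p ^ k) = 1
      rw [← map_pow, hk, map_one]
    exact Cfsg.Agent.Lib.H26.isPSolvable_of_ker_isPGroup π hπ hkp hps

end Cfsg.Agent.S5292
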