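import Cfsg.Statements.S5296
import Cfsg.Agent.Lib.H25.BGHMain
import Cfsg.Agent.Lib.H25.Hyperfocal
import Cfsg.Agent.S5124

set_option autoImplicit false
universe u
open Cfsg

namespace Cfsg.Agent.S5296

/-- Small-exponent abelian subgroups of the hyperfocal subgroup control fusion. Let E and F be saturated fusion systems over the same finite p-group S with E contained in F. Suppose that E and F have the same maps between A and B for all subgroups A, B of the hyperfocal subgroup of F that are elementary abelian when p is odd, respectively abelian of exponent dividing 4 when p = 2. Then E = F. -/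
theorem result {Ω : Type u} [Group Ω] {S : Subgroup Ω} [Finite S] (p : ℕ) [Fact p.Prime] (hS : IsPGroup p S)
    (E F : Cfsg.FusionSystem S) (hE : E.IsSaturated p) (hF : F.IsSaturated p) (hEF : E.IsSubsystemOf F)
    (hodd : p ≠ 2 → ∀ A B : Subgroup Ω, A ≤ (F.hyperfocalSubgroup p) → B ≤ (F.hyperfocalSubgroup p) →
      Cfsg.IsElementaryAbelian p A → Cfsg.IsElementaryAbelian p B → E.homSet A B = F.homSet A B)
    (htwo : p = 2 → ∀ A B : Subgroup Ω, A ≤ (F.hyperfocalSubgroup p) → B ≤ (F.hyperfocalSubgroup p) →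
      IsMulCommutative ↥A → IsMulCommutative ↥B → (∀ a ∈ A, a ^ 4 = 1) → (∀ b ∈ B, b ^ 4 = 1) → E.homSet A B = F.homSet A B) :
    ∀ P : Subgroup Ω, E.Hom P = F.Hom P := by
  have hpp : p.Prime := Fact.out
  have hsc := Cfsg.Agent.S5124.result p hS F hF
  have hcl : Cfsg.Agent.Lib.H25.ClosedIn (F.hyperfocalSubgroup p) F := by
    intro P P' f hf x hx hxT
    obtain ⟨Q', -, hiso, -⟩ := hf.restrict (inf_le_left : P ⊓ F.hyperfocalSubgroup p ≤ P)
    obtain ⟨φ, hφ, hφv, -⟩ := hiso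
    have := hsc.2 _ inf_le_right φ hφ ⟨x, hx, hxT⟩
    rwa [hφv] at this
  have hpr : Cfsg.Agent.Lib.H25.PrimeIn p (F.hyperfocalSubgroup p) F := by
    intro P hP k hk hco x
    apply Cfsg.Agent.Lib.H25.mem_hyperfocal_gen F p hP ⟨k, hk⟩ _ x
    apply Subgroup.subset_closure
    show Nat.Coprime (orderOf (⟨k, hk⟩ : F.autGroup P)) p
    rw [← Subgroup.orderOf_coe]
    exact hco
  have hsmall : Cfsg.Agent.Lib.H25.HSmallIn p (F.hyperfocalSubgroup p) E F := by
    intro A hAT hA hAab hAsm φ hφ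
    have hBT : φ.range ≤ F.hyperfocalSubgroup p := by
      rintro _ ⟨x, rfl⟩
      exact hsc.2 A hAT φ hφ x
    have hBab : ∀ a ∈ φ.range, ∀ b ∈ φ.range, a * b = b * a := by
      rintro _ ⟨x, rfl⟩ _ ⟨y, rfl⟩
      rw [← map_mul, ← map_mul]
      congr 1
      exact Subtype.ext (hAab x x.2 y y.2)
    have hBsm : ∀ b ∈ φ.range, Cfsg.Agent.Lib.H25.Small p b := by
      rintro _ ⟨x, rfl⟩
      have : Cfsg.Agent.Lib.H25.Small p x :=
        Cfsg.Agent.Lib.H25.Small.of_map A.subtype Subtype.val_injective (hAsm x x.2)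
      exact this.map φ
    have hcA : IsMulCommutative ↥A := ⟨⟨fun a b => Subtype.ext (hAab a a.2 b b.2)⟩⟩
    have hcB : IsMulCommutative ↥φ.range := ⟨⟨fun a b => Subtype.ext (hBab a a.2 b b.2)⟩⟩
    have hmem : φ ∈ F.homSet A φ.range := ⟨hφ, fun x => ⟨x, rfl⟩⟩
    by_cases hp2 : p = 2
    · have h4 : ∀ (X : Subgroup Ω), (∀ a ∈ X, Cfsg.Agent.Lib.H25.Small p a) → ∀ a ∈ X, a ^ 4 = 1 := by
        intro X hX a ha
        have := (Cfsg.Agent.Lib.H25.small_iff_pow a).1 (hX a ha)
        simpa [Cfsg.Agent.Lib.H25.smallExp, hp2] using this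
      have := htwo hp2 A φ.range hAT hBT hcA hcB (h4 A hAsm) (h4 _ hBsm)
      rw [← this] at hmem
      exact hmem.1
    · have hpp' : ∀ (X : Subgroup Ω), (∀ a ∈ X, Cfsg.Agent.Lib.H25.Small p a) → ∀ a ∈ X, a ^ p = 1 := by
        intro X hX a ha
        have := (Cfsg.Agent.Lib.H25.small_iff_pow a).1 (hX a ha)
        simpa [Cfsg.Agent.Lib.H25.smallExp, hp2] using this
      have := hodd hp2 A φ.range hAT hBT ⟨hcA, hpp' A hAsm⟩ ⟨hcB, hpp' _ hBsm⟩
      rw [← this] at hmem
      exact hmem.1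
  intro P
  exact Set.Subset.antisymm (hEF P)
    (Cfsg.Agent.Lib.H25.bgh_main_in hS (F.hyperfocalSubgroup p) E F hE hF hEF hcl hpr hsmall P)

end Cfsg.Agent.S5296
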