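import Cfsg.Statements.S5298
import Cfsg.Agent.Lib.H26.SmallCyclic
import Cfsg.Agent.S5083

set_option autoImplicit false
universe u
open Cfsg

namespace Cfsg.Agent.S5298

/-- Let F be a saturated fusion system over a finite p-group S. If every map of F between cyclic subgroups of the hyperfocal subgroup of F of order p or 4 is conjugation by an element of S, then F is the inner fusion system of S. -/
theorem result {Ω : Type u} [Group Ω] {S : Subgroup Ω} [Finite S] (p : ℕ) [Fact p.Prime] (hS : IsPGroup p S)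
    (F : Cfsg.FusionSystem S) (hF : F.IsSaturated p)
    (h : ∀ A B : Subgroup Ω, A ≤ (F.hyperfocalSubgroup p) → B ≤ (F.hyperfocalSubgroup p) → IsCyclic ↥A → (Nat.card ↥A = p ∨ Nat.card ↥A = 4) → IsCyclic ↥B → (Nat.card ↥B = p ∨ Nat.card ↥B = 4) →
      F.homSet A B ⊆ (Cfsg.innerFusionSystem S).Hom A) :
    ∀ P : Subgroup Ω, F.Hom P = (Cfsg.innerFusionSystem S).Hom P := by
  have hall : ∀ P : Subgroup Ω, P ≤ S → IsPGroup p (F.autGroup P) := by
    intro P hPS g
    have hfinP : Finite P := Cfsg.Agent.Lib.H25.finite_of_le S hPS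
    have hpp : p.Prime := Fact.out
    have hpos : orderOf g ≠ 0 := (orderOf_pos g).ne'
    obtain ⟨k, m, hm, hkm⟩ := Nat.exists_eq_pow_mul_and_not_dvd hpos p hpp.ne_one
    refine ⟨k, ?_⟩
    have hord : orderOf (g ^ (p ^ k)) = m := by
      rw [orderOf_pow' g (pow_ne_zero k hpp.ne_zero), hkm, Nat.gcd_eq_right (Dvd.intro _ rfl)]
      exact Nat.mul_div_cancel_left m (pow_pos hpp.pos k)
    have hcop : Nat.Coprime (orderOf ((g ^ (p ^ k) : F.autGroup P) : MulAut P)) p := by
      rw [Subgroup.orderOf_coe, hord]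
      exact (Nat.Coprime.symm ((Nat.Prime.coprime_iff_not_dvd hpp).2 hm))
    have h1 := Cfsg.Agent.Lib.H26.eq_one_of_coprime_of_small_inner hS F h hPS
      (g ^ (p ^ k) : F.autGroup P).2 hcop
    exact Subtype.ext h1
  have := Cfsg.Agent.S5083.result p hS F hF hall
  intro P
  rw [this]

end Cfsg.Agent.S5298
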