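import Cfsg.Statements.S5301
import Cfsg.Agent.Lib.H25.Normal
import Cfsg.Agent.Lib.H25.SatEquiv
import Cfsg.Agent.Lib.H25.Alperin
import Cfsg.Agent.S5080

set_option autoImplicit false
universe u
open Cfsg

namespace Cfsg.Agent.S5301

/-- Let F be a saturated fusion system over a finite p-group S. If for every subgroup P of S that is fully normalized, centric and radical in F the automorphism group that F induces on P has a normal Sylow p-subgroup, then S is normal in F. -/
theorem result {Ω : Type u} [Group Ω] {S : Subgroup Ω} [Finite S] (p : ℕ) [Fact p.Prime] (hS : IsPGroup p S)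
    (F : Cfsg.FusionSystem S) (hF : F.IsSaturated p)
    (hcl : ∀ P : Subgroup Ω, F.IsFullyNormalized P → F.IsCentric P → F.IsRadical p P →
      ∃ R : Sylow p ↥(F.autGroup P), (R : Subgroup ↥(F.autGroup P)).Normal) :
    F.IsNormal S := by
  open Cfsg.Agent.Lib.H25 in
  classical
  apply isNormal_of_stronglyClosed_of_le hS hF
  · exact ⟨le_rfl, fun R _ φ hφ x => (F.le_of_mem hφ).2 x⟩
  · intro T hT
    have hTc := hT.1
    have hTfn := hT.2.1
    have hTr := Cfsg.Agent.S5080.result p hS F hF T hT
    have hTS := hTc.1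
    have : Finite T := finite_of_le S hTS
    obtain ⟨R, hRn⟩ := hcl T hTfn hTc hTr
    obtain ⟨-, -, R', hR'⟩ := fullyNormalized_props hS hF hTfn
    have huniq := Sylow.unique_of_normal R hRn
    have hRR' : R' = R := Subsingleton.elim _ _
    rw [hRR'] at hR'
    -- `Aut_S(T)` is a normal `p`-subgroup of `Aut_F(T)`
    have hBn : ∀ α ∈ F.autGroup T, ∀ β ∈ autInducedBy S T, α * β * α⁻¹ ∈ autInducedBy S T := by
      intro α hα β hβ
      have hβA : β ∈ F.autGroup T := autInducedBy_le_autGroup F hTS hβ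
      have h1 : (⟨β, hβA⟩ : F.autGroup T) ∈ (R : Subgroup (F.autGroup T)) := by
        rw [hR']
        exact Subgroup.mem_subgroupOf.2 hβ
      have h2 := hRn.conj_mem _ h1 ⟨α, hα⟩
      rw [hR'] at h2
      exact Subgroup.mem_subgroupOf.1 h2
    -- hence `N_S(T) ≤ T`
    by_contra hne
    have hTne : T ≠ S := fun h => hne (h ▸ le_rfl)
    obtain ⟨g, hgN, hgT⟩ := exists_mem_normalizerIn_not_mem hS hTS hTne
    obtain ⟨β, hβA, hβg⟩ := exists_mem_autGroup_of_isIso F (isIso_conj_normalizer F hTS hgN)
    have hβB : β ∈ autInducedBy S T := (mem_autInducedBy_iff S T β).2 ⟨g, hgN.1, hβg⟩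
    exact hgT (mem_of_centric_radical hTc hTr (autInducedBy S T)
      (autInducedBy_le_autGroup F hTS) hBn (autInducedBy_isPGroup hS T) hgN.1 hβB hβg)

end Cfsg.Agent.S5301
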