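import Cfsg.Statements.S5306
import Cfsg.Agent.Lib.H26.Thompson

set_option autoImplicit false
open Cfsg

namespace Cfsg.Agent.S5306

/-- Let P be a Sylow p-subgroup of the finite group X and J = J(P) its Thompson subgroup (generated by the elementary abelian subgroups of P of largest order). If x and y lie in the centre of J and y = g x g⁻¹ for some g in X, then y = n x n⁻¹ for some n in the normalizer N_X(J). -/
theorem result {X : Type*} [Group X] [Finite X] (p : ℕ) [Fact p.Prime] (P : Sylow p X) (J : Subgroup X) (hJ : J = Cfsg.thompsonSubgroupOf p (P : Subgroup X))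
    (x y : X) (hx : x ∈ J ∧ ∀ j ∈ J, Commute j x) (hy : y ∈ J ∧ ∀ j ∈ J, Commute j y) (g : X) (hg : g * x * g⁻¹ = y) :
    ∃ n ∈ Subgroup.normalizer (J : Set X), n * x * n⁻¹ = y := by
  classical
  rw [Cfsg.Agent.Lib.H26.thompsonSubgroupOf_eq] at hJ
  subst hJ
  set J := Cfsg.Agent.Lib.H26.JJ p (P : Subgroup X) with hJdef
  have hJP : J ≤ P := Cfsg.Agent.Lib.H26.JJ_le p _
  have hmap : ∀ (u : X) (K : Subgroup X) (z : X),
      z ∈ K.map (MulAut.conj u).toMonoidHom ↔ ∃ k ∈ K, u * k * u⁻¹ = z := by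
    intro u K z
    simp only [Subgroup.mem_map]
    rfl
  let C : Subgroup X := Subgroup.centralizer {y}
  have hCmem : ∀ z : X, z ∈ C ↔ y * z = z * y := by
    intro z
    simp only [C, Subgroup.mem_centralizer_iff, Set.mem_singleton_iff, forall_eq]
  have hJC : J ≤ C := fun j hj => (hCmem j).mpr (hy.2 j hj).eq.symm
  let J' : Subgroup X := J.map (MulAut.conj g).toMonoidHom
  have hJ'C : J' ≤ C := by
    intro z hz
    obtain ⟨j, hj, rfl⟩ := (hmap g J z).mp hz
    rw [hCmem, ← hg]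
    have := (hx.2 j hj).eq
    calc g * x * g⁻¹ * (g * j * g⁻¹) = g * (x * j) * g⁻¹ := by group
      _ = g * (j * x) * g⁻¹ := by rw [this]
      _ = g * j * g⁻¹ * (g * x * g⁻¹) := by group
  have hJp : IsPGroup p J := P.2.to_le hJP
  have hJ'p : IsPGroup p J' := hJp.map _
  -- Sylow subgroup R of C containing J
  obtain ⟨R, hR⟩ := (hJp.comap_subtype (K := C)).exists_le_sylow
  obtain ⟨c, hc⟩ := Cfsg.Agent.Lib.H26.exists_conj_mem_sylow R (J'.subgroupOf C)
    (hJ'p.comap_subtype)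
  let RX : Subgroup X := (R : Subgroup C).map C.subtype
  have hRXp : IsPGroup p RX := R.2.map _
  obtain ⟨h, hh⟩ := Cfsg.Agent.Lib.H26.exists_conj_mem_sylow P RX hRXp
  have hJRX : ∀ j ∈ J, j ∈ RX := fun j hj =>
    ⟨⟨j, hJC hj⟩, hR (Subgroup.mem_subgroupOf.mpr hj), rfl⟩
  have hJ'RX : ∀ j ∈ J, (c : X) * (g * j * g⁻¹) * (c : X)⁻¹ ∈ RX := by
    intro j hj
    have hz : g * j * g⁻¹ ∈ J' := (hmap g J _).mpr ⟨j, hj, rfl⟩
    have := hc ⟨g * j * g⁻¹, hJ'C hz⟩ (Subgroup.mem_subgroupOf.mpr hz)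
    exact ⟨_, this, rfl⟩
  have e1 : J.map (MulAut.conj h).toMonoidHom = J := by
    apply Cfsg.Agent.Lib.H26.JJ_weaklyClosed
    intro z hz
    obtain ⟨j, hj, rfl⟩ := (hmap h J z).mp hz
    exact hh j (hJRX j hj)
  have e2 : J.map (MulAut.conj (h * (c * g))).toMonoidHom = J := by
    apply Cfsg.Agent.Lib.H26.JJ_weaklyClosed
    intro z hz
    obtain ⟨j, hj, rfl⟩ := (hmap _ J z).mp hz
    have := hh _ (hJ'RX j hj)
    have e : h * (↑c * g) * j * (h * (↑c * g))⁻¹ = h * (↑c * (g * j * g⁻¹) * (↑c)⁻¹) * h⁻¹ := by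
      group
    rw [e]; exact this
  -- so c g normalizes J
  have e3 : ∀ j, j ∈ J ↔ (c * g) * j * (c * g : X)⁻¹ ∈ J := by
    intro j
    constructor
    · intro hj
      have h1 : (h * (c * g)) * j * (h * (c * g))⁻¹ ∈ J := by
        rw [← e2]; exact (hmap _ J _).mpr ⟨j, hj, rfl⟩
      rw [← e1] at h1
      obtain ⟨k, hk, hkeq⟩ := (hmap h J _).mp h1
      have : (c * g) * j * (c * g : X)⁻¹ = k := by
        have e : h * (↑c * g) * j * (h * (↑c * g))⁻¹ = h * ((↑c * g) * j * (↑c * g)⁻¹) * h⁻¹ := by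
          group
        rw [e] at hkeq
        exact (mul_left_cancel (mul_right_cancel hkeq)).symm
      rw [this]; exact hk
    · intro hj
      have h1 : h * ((c * g) * j * (c * g : X)⁻¹) * h⁻¹ ∈ J := by
        rw [← e1]; exact (hmap _ J _).mpr ⟨_, hj, rfl⟩
      rw [← e2] at h1
      obtain ⟨k, hk, hkeq⟩ := (hmap _ J _).mp h1
      have e : h * (↑c * g) * k * (h * (↑c * g))⁻¹ = h * ((↑c * g) * k * (↑c * g)⁻¹) * h⁻¹ := by
        group
      rw [e] at hkeq
      have h2 := mul_left_cancel (mul_right_cancel hkeq)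
      have h3 := mul_left_cancel (mul_right_cancel h2)
      rw [← h3]; exact hk
  refine ⟨c * g, Subgroup.mem_normalizer_iff.mpr e3, ?_⟩
  have hcy : y * (c : X) = (c : X) * y := (hCmem c).mp c.2
  calc (c : X) * g * x * (c * g : X)⁻¹ = c * (g * x * g⁻¹) * (c : X)⁻¹ := by group
    _ = c * y * (c : X)⁻¹ := by rw [hg]
    _ = y := by rw [← hcy]; group


end Cfsg.Agent.S5306
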