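import Cfsg.Statements.S5311
import Cfsg.Agent.Lib.H25.TrFactor
import Cfsg.Agent.Lib.H25.TrEquiv

set_option autoImplicit false
open Cfsg

namespace Cfsg.Agent.S5311

open Cfsg.FusionSystem Cfsg.Agent.Lib.H25 Cfsg.Agent.Lib.H25.Tr

/-- The layer of a saturated fusion system F over a finite p-group S is characteristic in F: for every automorphism α of S that is an automorphism of F (α and its inverse are morphisms from F to F) and every layer E of F over T, α carries T onto T and, for every map φ of E with source P, the map induced by α on α(P) (that is, α ∘ φ ∘ α⁻¹) is a map of E. -/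
theorem result {Ω : Type*} [Group Ω] {S : Subgroup Ω} [Finite S] (p : ℕ) [Fact p.Prime] (hS : IsPGroup p S) (F : Cfsg.FusionSystem S) (hF : F.IsSaturated p)
    (α : ↥S ≃* ↥S) (hα : F.IsMorphism F (S.subtype.comp α.toMonoidHom))
    (hα' : F.IsMorphism F (S.subtype.comp α.symm.toMonoidHom))
    {T : Subgroup Ω} (E : Cfsg.FusionSystem T) (hE : E.IsLayerOf F p) :
    Cfsg.FusionSystem.imageAlong (S.subtype.comp α.toMonoidHom) T = T ∧
      ∀ (P : Subgroup Ω) (φ : ↥P →* Ω), φ ∈ E.Hom P →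
        ∀ φ' : ↥(Cfsg.FusionSystem.imageAlong (S.subtype.comp α.toMonoidHom) P) →* Ω,
          Cfsg.FusionSystem.InducedAlong (S.subtype.comp α.toMonoidHom) φ φ' →
            φ' ∈ E.Hom (Cfsg.FusionSystem.imageAlong (S.subtype.comp α.toMonoidHom) P) := by
  obtain ⟨e, he⟩ : ∃ e : PIso S S, e = PIso.ofMulEquiv α := ⟨_, rfl⟩
  have hθ : ∀ x ∈ S, al (S.subtype.comp α.toMonoidHom) x = e.g x := fun x _ => by rw [he]; rfl
  have hbridge : ∀ P : Subgroup Ω, imageAlong (S.subtype.comp α.toMonoidHom) P = e.img P :=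
    fun P => e.imageAlong_eq hθ P
  have hFtr : IsTr e F F := by rw [he]; exact isTr_of_isMorphism α hα hα'
  obtain ⟨hEn, hEcomp, hEmin⟩ := hE
  have hTS : T ≤ S := hEn.1.2.2.2.1.1
  -- the transport of `E` by the inverse
  obtain ⟨E', hE'def⟩ : ∃ E' : FusionSystem (e.symm.img T), E' = push e.symm E (e.symm.img T) hTS rfl :=
    ⟨_, rfl⟩
  have hE'tr : IsTr e.symm E E' := by rw [hE'def]; exact push_isTr hTS rfl
  have hE'n : E'.IsNormalIn F p := hE'tr.isNormalIn hS hFtr.symm hEn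
  have hcomps : ∀ (U : Subgroup Ω) (C : FusionSystem U), C.IsComponentIn F p →
      C.IsSubsystemOf E' := by
    intro U C hC
    have hUT : U ≤ T := by
      have h1 := hEcomp U C hC U (subtype_mem C le_rfl)
      exact (E.le_of_mem h1).1
    have hUS : U ≤ S := hUT.trans hTS
    have hC₂tr : IsTr e C (push e C (e.img U) hUS rfl) := push_isTr hUS rfl
    have hC₂comp := hC₂tr.isComponentIn hS hFtr hC
    have hsub := hEcomp _ _ hC₂comp
    exact hC₂tr.symm.isSubsystemOf hE'tr hsub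
  have hle : E.IsSubsystemOf E' := hEmin _ E' hE'n hcomps
  -- `T` is fixed
  have hTle : T ≤ e.symm.img T := by
    have h1 := hle T (subtype_mem E le_rfl)
    exact (E'.le_of_mem h1).1
  have hfinT : Finite T := finite_of_le S hTS
  have hTeq : e.symm.img T = T := by
    have hfin' : Finite (e.symm.img T) := finite_of_le S (e.symm.img_le T)
    exact (Subgroup.eq_of_le_of_card_ge hTle (le_of_eq (e.symm.card_img hTS))).symm
  have hTfix : e.img T = T := by
    have := e.img_img' hTS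
    rwa [hTeq] at this
  refine ⟨by rw [hbridge, hTfix], fun P φ hφ φ' hind => ?_⟩
  have hφ' : φ ∈ E'.Hom P := hle P hφ
  have h1 : IsIso E (e.img P) (e.img φ.range) (e.conj (ext1 φ)) := hE'tr.bwd (isIso_of_mem E' hφ')
  rw [← hbridge P] at h1
  have hPT : P ≤ T := (E.le_of_mem hφ).1
  have hPS : P ≤ S := hPT.trans hTS
  have hφS : ∀ x : P, φ x ∈ S := fun x => hTS ((E.le_of_mem hφ).2 x)
  refine mem_hom_of_isIso E h1 (fun y => ?_)
  obtain ⟨x, hxP, hxS, hxy⟩ := (mem_image_iff _ P _).1 y.2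
  have hmem : (S.subtype.comp α.toMonoidHom) ⟨x, hxS⟩ ∈
      imageAlong (S.subtype.comp α.toMonoidHom) P := by
    rw [← al_apply _ hxS, hxy]; exact y.2
  have h2 := inducedAlong_apply hind hxP hxS (hφS ⟨x, hxP⟩) hmem
  have hy : y = ⟨(S.subtype.comp α.toMonoidHom) ⟨x, hxS⟩, hmem⟩ := by
    apply Subtype.ext
    show (y : Ω) = (S.subtype.comp α.toMonoidHom) ⟨x, hxS⟩
    rw [← al_apply _ hxS, hxy]
  rw [hy, h2, ← al_apply _ (hφS ⟨x, hxP⟩), hθ _ (hφS ⟨x, hxP⟩)]
  show e.g (φ ⟨x, hxP⟩) = e.g (ext1 φ (e.g' ((S.subtype.comp α.toMonoidHom) ⟨x, hxS⟩)))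
  rw [← al_apply _ hxS, hθ x hxS, e.linv hxS, ext1_apply_mem φ hxP]

end Cfsg.Agent.S5311
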