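import Cfsg.Statements.S5315
import Cfsg.Agent.Lib.H26.Grun

set_option autoImplicit false
open Cfsg

namespace Cfsg.Agent.S5315

/-- An analogue of Grün's lemma for fusion systems. Let F be a saturated fusion system over a finite p-group S that is perfect in the sense that its hyperfocal subgroup is all of S (F coincides with its p-residual subsystem). Then the second centre of F equals its centre: every fusion system over S/(Z(F) ∩ S) that is the factor system of F modulo its centre Z(F), read through the quotient map, has trivial centre. -/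
theorem result {Ω : Type*} [Group Ω] {S : Subgroup Ω} [Finite S] (p : ℕ) [Fact p.Prime] (hS : IsPGroup p S) (F : Cfsg.FusionSystem S) (hF : F.IsSaturated p)
    (hperf : F.hyperfocalSubgroup p = S)
    (E : Cfsg.FusionSystem (⊤ : Subgroup (↥S ⧸ (F.center).subgroupOf S)))
    (hE : F.IsFactorSystem F.center (QuotientGroup.mk' ((F.center).subgroupOf S)) E) : E.center = ⊥ := by
  have hZc : F.IsCentral F.center := Cfsg.Agent.S5144.result F
  show sSup {Q : Subgroup _ | E.IsCentral Q} = ⊥
  rw [sSup_eq_bot]
  intro Q' hQ'
  rw [eq_bot_iff]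
  intro y hy
  obtain ⟨s, rfl⟩ := QuotientGroup.mk'_surjective ((F.center).subgroupOf S) y
  have hs' : (⟨(s : Ω), s.2⟩ : S) = s := Subtype.ext rfl
  have hc := Cfsg.Agent.Lib.H26.isCentral_of_factor_central hS hF hperf hZc
    (QuotientGroup.mk' ((F.center).subgroupOf S)) hE hQ' s.2 (by rw [hs']; exact hy)
  have hs : (s : Ω) ∈ F.center :=
    (le_sSup hc : Subgroup.zpowers (s : Ω) ≤ F.center) (Subgroup.mem_zpowers _)
  rw [Subgroup.mem_bot]
  exact (QuotientGroup.eq_one_iff s).2 (Subgroup.mem_subgroupOf.2 hs)

end Cfsg.Agent.S5315
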