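-- Statement S5317: the 2-fusion system of PSL(2,q), q odd with q^2 ≡ 1 mod 16, is simple.
import Cfsg.Statements.S5317
import Cfsg.Agent.Lib.H25.DihedralSimple
import Cfsg.Agent.Lib.H25.PSL2Dihedral
import Cfsg.Agent.Lib.H2.PSLCard

set_option autoImplicit false
open Cfsg

namespace Cfsg.Agent.S5317

open Matrix

/-- Let F be a finite field of odd order q with q² ≡ 1 mod 16 (so that a Sylow 2-subgroup of PSL(2,q), dihedral of order the 2-part of (q²−1)/2, has order at least 8). Then the 2-fusion system of PSL(2,F) on a Sylow 2-subgroup is simple: saturated, over a nontrivial 2-group, with no normal subsystem other than the trivial one and itself. -/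
theorem result {F : Type*} [Field F] [Fintype F] (hodd : Fintype.card F % 2 = 1) (h16 : 16 ∣ Fintype.card F ^ 2 - 1)
    (S : Sylow 2 (Matrix.ProjectiveSpecialLinearGroup (Fin 2) F)) :
    (Cfsg.groupFusionSystem (S : Subgroup (Matrix.ProjectiveSpecialLinearGroup (Fin 2) F))).IsSimple 2 := by
  classical
  haveI : Fact (Nat.Prime 2) := ⟨Nat.prime_two⟩
  have hF : Odd (Fintype.card F) := Nat.odd_iff.2 hodd
  set q := Fintype.card F with hq
  have hq2 : 2 ≤ q := Fintype.one_lt_card
  -- q ≥ 5
  have hq5 : 5 ≤ q := by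
    by_contra hcon
    push Not at hcon
    have : q = 3 := by omega
    rw [this] at h16
    norm_num at h16
  have h4 : 4 ≤ Nat.card F := by rw [Nat.card_eq_fintype_card]; omega
  haveI hsimple : IsSimpleGroup (Matrix.ProjectiveSpecialLinearGroup (Fin 2) F) :=
    Matrix.ProjectiveSpecialLinearGroup.rank_two_simple h4
  -- order of PSL2
  have hcard := Cfsg.Agent.Lib.H2.card_PSL2_mul (F := F)
  have hgcd : Nat.gcd 2 (q - 1) = 2 := by
    obtain ⟨m, hm⟩ := hF
    have : q - 1 = 2 * m := by omega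
    rw [this]
    exact Nat.gcd_mul_right_right m 2 ▸ (by simp)
  rw [← hq, hgcd] at hcard
  -- 8 divides the order
  have h8 : 8 ∣ Nat.card (Matrix.ProjectiveSpecialLinearGroup (Fin 2) F) := by
    have h16' : 16 ∣ 2 * Nat.card (Matrix.ProjectiveSpecialLinearGroup (Fin 2) F) := by
      rw [hcard]
      exact Dvd.dvd.mul_left h16 q
    obtain ⟨c, hc⟩ := h16'
    exact ⟨c, by omega⟩
  obtain ⟨k, hk, ⟨e⟩⟩ := Cfsg.Agent.Lib.H25.PSL2Dih.sylow_dihedral hF S
  haveI : NeZero (2 ^ k) := ⟨by positivity⟩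
  have hcardS : Nat.card (S : Subgroup (Matrix.ProjectiveSpecialLinearGroup (Fin 2) F)) =
      2 ^ (k + 1) := by
    rw [Nat.card_congr e.toEquiv, DihedralGroup.nat_card, pow_succ']
  have hk2 : 2 ≤ k := by
    have h1 : (2 : ℕ) ^ 3 ∣ Nat.card (S : Subgroup (Matrix.ProjectiveSpecialLinearGroup (Fin 2) F)) :=
      S.pow_dvd_card_of_pow_dvd_card (by rw [show (2 : ℕ) ^ 3 = 8 by norm_num]; exact h8)
    rw [hcardS] at h1
    have := (Nat.pow_dvd_pow_iff_le_right (by norm_num : 1 < 2)).1 h1
    omega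
  apply Cfsg.Agent.Lib.H25.DihSimple.isSimple_of_dihedral S k hk2 e
  -- no subgroup of index two
  intro H hH
  haveI : H.Normal := Subgroup.normal_of_index_eq_two hH
  rcases hsimple.eq_bot_or_eq_top_of_normal H ‹_› with h | h
  · rw [h, Subgroup.index_bot] at hH
    rw [hH] at h8
    norm_num at h8
  · rw [h, Subgroup.index_top] at hH
    norm_num at hH

end Cfsg.Agent.S5317
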