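import Cfsg.Statements.S5318
import Cfsg.Agent.Lib.H25.SylowOdd
import Cfsg.Agent.Lib.H6.PSL3Inv
import Cfsg.Agent.Lib.H2.PSLCard
import Cfsg.Agent.Lib.H2.PSLSimple
import Cfsg.Agent.Lib.H12.CardSL
import Cfsg.Agent.S1217

set_option autoImplicit false
open Cfsg

namespace Cfsg.Agent.S5318

open Cfsg.Agent.Lib.H6.PSL3Inv Cfsg.Agent.Lib.H25.SylowOdd in
/-- the index of the image of `GL₂(F)` in `PSL₃(F)` is odd -/
theorem index_odd {F : Type*} [Field F] [Fintype F] (hodd : Fintype.card F % 2 = 1)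
    (h2 : (2 : F) ≠ 0) : Odd (Psi F).range.index := by
  classical
  have hk := card_ker_Psi (F := F) h2
  rw [Nat.card_eq_fintype_card (α := F)] at hk
  have h1 : Nat.card (Psi F).ker * Nat.card (Psi F).range = Nat.card (GL (Fin 2) F) := by
    have := (Psi F).ker.card_mul_index
    rwa [Subgroup.index_ker] at this
  have h3 := (Psi F).range.card_mul_index
  have h4 := Cfsg.Agent.Lib.H2.card_PSL_mul (F := F) 3 (by norm_num)
  have h5 := Cfsg.Agent.Lib.H12.card_SL_mul (F := F) 3 (by norm_num)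
  have h6 := Matrix.card_GL_field (𝔽 := F) (n := 2)
  rw [Fin.prod_univ_three] at h5
  rw [Fin.prod_univ_two] at h6
  simp only [Fin.val_zero, Fin.val_one, Fin.val_two, pow_zero, pow_one] at h5 h6
  have hq1 : 1 < Fintype.card F := Fintype.one_lt_card
  rw [← hk] at h4
  generalize Fintype.card F = q at *
  generalize Nat.card (Psi F).ker = k at *
  generalize Nat.card (Psi F).range = r at *
  generalize (Psi F).range.index = i at *
  generalize Nat.card (Matrix.ProjectiveSpecialLinearGroup (Fin 3) F) = g at *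
  generalize Nat.card (Matrix.SpecialLinearGroup (Fin 3) F) = s at *
  generalize Nat.card (GL (Fin 2) F) = a at *
  obtain ⟨m, rfl⟩ : ∃ m, q = m + 1 := ⟨q - 1, by omega⟩
  have hm : 0 < m := by omega
  have e1 : (m + 1) ^ 2 - 1 = m * (m + 2) := by
    have : (m + 1) ^ 2 = m * (m + 2) + 1 := by ring
    omega
  have e2 : (m + 1) ^ 2 - (m + 1) = (m + 1) * m := by
    have : (m + 1) ^ 2 = (m + 1) * m + (m + 1) := by ring
    omega
  have e3 : (m + 1) ^ 3 - 1 = m * (m ^ 2 + 3 * m + 3) := by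
    have : (m + 1) ^ 3 = m * (m ^ 2 + 3 * m + 3) + 1 := by ring
    omega
  have e4 : (m + 1) ^ 3 - (m + 1) = (m + 1) * (m * (m + 2)) := by
    have : (m + 1) ^ 3 = (m + 1) * (m * (m + 2)) + (m + 1) := by ring
    omega
  have e5 : (m + 1) ^ 3 - (m + 1) ^ 2 = (m + 1) ^ 2 * m := by
    have : (m + 1) ^ 3 = (m + 1) ^ 2 * m + (m + 1) ^ 2 := by ring
    omega
  rw [e3, e4, e5, Nat.add_sub_cancel] at h5
  rw [e1, e2] at h6
  have key : (m * m * m * (m + 2) * (m + 1)) * i =
      (m * m * m * (m + 2) * (m + 1)) * ((m ^ 2 + 3 * m + 3) * (m + 1) ^ 2) := by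
    have : m * i * a = m * s := by
      rw [← h4, ← h3, ← h1]; ring
    rw [h5, h6] at this
    have e : m * m * m * (m + 2) * (m + 1) * i = m * i * (m * (m + 2) * ((m + 1) * m)) := by ring
    rw [e, this]; ring
  have hi : i = (m ^ 2 + 3 * m + 3) * (m + 1) ^ 2 :=
    Nat.eq_of_mul_eq_mul_left (by positivity) key
  obtain ⟨j, rfl⟩ : ∃ j, m = 2 * j := ⟨m / 2, by omega⟩
  rw [hi]
  exact ⟨8 * j ^ 4 + 20 * j ^ 3 + 20 * j ^ 2 + 9 * j + 1, by ring⟩

/-- For a finite field F of odd order, the 2-fusion system of PSL(3,F) on a Sylow 2-subgroup (semidihedral or wreathed according as |F| ≡ 3 or 1 mod 4) is simple. -/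
theorem result {F : Type*} [Field F] [Fintype F] (hodd : Fintype.card F % 2 = 1) (S : Sylow 2 (Matrix.ProjectiveSpecialLinearGroup (Fin 3) F)) :
    (Cfsg.groupFusionSystem (S : Subgroup (Matrix.ProjectiveSpecialLinearGroup (Fin 3) F))).IsSimple 2 := by
  classical
  have : Fact (Nat.Prime 2) := ⟨Nat.prime_two⟩
  have h2 : (2 : F) ≠ 0 := by
    intro h
    have hc : ringChar F = 2 := CharP.ringChar_of_prime_eq_zero Nat.prime_two (by exact_mod_cast h)
    have := FiniteField.even_card_iff_char_two.mp hc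
    omega
  haveI : IsSimpleGroup (Matrix.ProjectiveSpecialLinearGroup (Fin 3) F) :=
    Cfsg.Agent.Lib.H2.PSL_simple_of_three_le (by simp)
  have hker : Odd (Nat.card (Cfsg.Agent.Lib.H6.PSL3Inv.Psi F).ker) := by
    rw [Cfsg.Agent.Lib.H6.PSL3Inv.card_ker_Psi h2]
    have hd : Nat.gcd 3 (Nat.card F - 1) ∣ 3 := Nat.gcd_dvd_left _ _
    rcases (Nat.dvd_prime Nat.prime_three).mp hd with h | h <;> rw [h] <;> decide
  have hidx := index_odd hodd h2
  let P : Sylow 2 (GL (Fin 2) F) := default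
  obtain ⟨e⟩ := Cfsg.Agent.Lib.H25.SylowOdd.sylow_equiv_of_odd
    (Cfsg.Agent.Lib.H6.PSL3Inv.Psi F) hker hidx P S
  apply Cfsg.Agent.Lib.H25.SylowOdd.isSimple_of_simple S
  obtain ⟨hqd, hwr⟩ := Cfsg.Agent.S1217.result P
  have hq4 : Fintype.card F % 4 = 3 ∨ Fintype.card F % 4 = 1 := by omega
  rcases hq4 with h | h
  · exact Or.inl (Cfsg.Agent.Lib.H5.CI.isQuasiDihedral_of_equiv e (hqd h))
  · exact Or.inr (Cfsg.Agent.Lib.H5.CI.isWreathed_of_equiv e (hwr h))

end Cfsg.Agent.S5318
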