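import Cfsg.Statements.S5323
import Cfsg.Agent.Lib.H12.McLFusB
import Cfsg.Agent.S2132

set_option autoImplicit false
open Cfsg

namespace Cfsg.Agent.S5323

open Cfsg MulAction Cfsg.Agent.Lib.H28 Cfsg.Agent.Lib.H27 Cfsg.Agent.Lib.H27.Eng Cfsg.Agent.Lib.H27.McLInv
  Cfsg.Agent.Lib.H27.McLData Cfsg.Agent.Lib.H27.McL2025Data Cfsg.Agent.S2132 in
/-- For a finite group G isomorphic to the McLaughlin group, the 2-fusion system of G on a Sylow 2-subgroup is simple: saturated, over a nontrivial 2-group, with no normal subsystem other than the trivial one and itself. -/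
theorem result {G : Type*} [Group G] [Finite G] (hG : Cfsg.Spor.IsoMcL G) (S : Sylow 2 G) : (Cfsg.groupFusionSystem (S : Subgroup G)).IsSimple 2 := by
  obtain ⟨iso⟩ := hG
  -- the standard McLaughlin group `KM` of helper27's library is isomorphic to the Prelude's `McL`
  obtain ⟨h, h1, h2⟩ := exists_std_pair8 Spor.leechU WP sqNorm_U sqNorm_WP dot_U_WP
  have e := conjStabEquiv₂ h Spor.leechU WP
  rw [h1, h2] at e
  have e2 : ↥KM ≃* ↥MC := by
    rw [MC_eq]
    exact e.symm
  exact Cfsg.Agent.Lib.H12.McLFus.fusion_of_equiv ((e2.trans mcEquiv).trans iso.symm) S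

end Cfsg.Agent.S5323
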