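import Cfsg.Statements.S5327
import Cfsg.Agent.Lib.H26.EssentialOmit

set_option autoImplicit false
open Cfsg

namespace Cfsg.Agent.S5327


open Cfsg.FusionSystem Cfsg.Agent.Lib.H25 Cfsg.Agent.Lib.H26 in
/-- The subsystem of `F` whose only automorphisms of `S` are the inner ones. -/
theorem exists_inner_top_system {Ω : Type*} [Group Ω] {S : Subgroup Ω} [Finite S]
    (F : Cfsg.FusionSystem S) :
    ∃ E₀ : Cfsg.FusionSystem S, (∀ R : Subgroup Ω, R ≠ S → F.autGroup R ≤ E₀.autGroup R) ∧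
      (F ≤ E₀ → ∀ E : Cfsg.FusionSystem S, F.autGroup S ≤ E.autGroup S) := by
  let Pr : ∀ P : Subgroup Ω, (P →* Ω) → Prop := fun P φ =>
    P = S → ∃ s ∈ S, ∀ x : P, φ x = s * (x : Ω) * s⁻¹
  have hconj : ∀ (P : Subgroup Ω) (g : Ω), P ≤ S → g ∈ S → Pr P (conjHom P g) :=
    fun P g _ hg _ => ⟨g, hg, fun x => rfl⟩
  have hcomp : ∀ (P R : Subgroup Ω) (φ : P →* Ω) (ψ : R →* Ω) (h : ∀ x : P, φ x ∈ R),
      φ ∈ F.Hom P → ψ ∈ F.Hom R → Pr P φ → Pr R ψ → Pr P (ψ.comp (φ.codRestrict R h)) := by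
    intro P R φ ψ h hφ hψ hPrφ hPrψ hPS
    obtain ⟨s, hs, hφs⟩ := hPrφ hPS
    have hRS : R ≤ S := hom_le F hψ
    have hSR : S ≤ R := by
      intro y hy
      have hy' : s⁻¹ * y * s ∈ P := by
        rw [hPS]
        exact S.mul_mem (S.mul_mem (S.inv_mem hs) hy) hs
      have := h ⟨s⁻¹ * y * s, hy'⟩
      rw [hφs] at this
      simpa [mul_assoc] using this
    obtain ⟨t, ht, hψt⟩ := hPrψ (le_antisymm hRS hSR)
    refine ⟨t * s, S.mul_mem ht hs, fun x => ?_⟩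
    show ψ ⟨φ x, h x⟩ = _
    rw [hψt]
    show t * φ x * t⁻¹ = _
    rw [hφs]
    group
  have hinv : ∀ (P : Subgroup Ω) (φ : P →* Ω) (ψ : φ.range →* Ω), φ ∈ F.Hom P →
      ψ ∈ F.Hom φ.range → (∀ x : P, ψ ⟨φ x, ⟨x, rfl⟩⟩ = (x : Ω)) → Pr P φ → Pr φ.range ψ := by
    intro P φ ψ hφ hψ hψφ hPrφ hrange
    have hPS : P ≤ S := hom_le F hφ
    have hinj := F.injective_of_mem hφ
    have hcard : Nat.card P = Nat.card φ.range :=
      Nat.card_congr (MonoidHom.ofInjective hinj).toEquiv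
    have hP : P = S := by
      apply Subgroup.eq_of_le_of_card_ge hPS
      rw [hcard, hrange]
    obtain ⟨s, hs, hφs⟩ := hPrφ hP
    refine ⟨s⁻¹, S.inv_mem hs, fun y => ?_⟩
    obtain ⟨x, hx⟩ := y.2
    have hy : y = ⟨φ x, ⟨x, rfl⟩⟩ := Subtype.ext hx.symm
    rw [hy, hψφ]
    show (x : Ω) = s⁻¹ * φ x * s⁻¹⁻¹
    rw [hφs]
    group
  refine ⟨subSys F Pr hconj hcomp hinv, ?_, ?_⟩
  · intro R hR
    by_cases hRS : R ≤ S
    · intro α hα
      rw [mem_autGroup_iff _ hRS]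
      exact ⟨(mem_autGroup_iff F hRS α).1 hα, fun h => absurd h hR⟩
    · refine (Subgroup.closure_le _).2 ?_
      intro α hα
      exact absurd (hom_le F hα) hRS
  · intro hle E α hα
    have h1 := (mem_autGroup_iff F le_rfl α).1 hα
    obtain ⟨s, hs, hαs⟩ := (hle S h1).2 rfl
    rw [mem_autGroup_iff E le_rfl]
    have : S.subtype.comp α.toMonoidHom = conjHom S s := MonoidHom.ext hαs
    rw [this]
    exact E.conj_mem le_rfl hs

/-- Let F be a saturated fusion system over a finite p-group S. Call a family of subgroups of S generating when every fusion system over S whose automorphism group of each member R contains Aut_F(R) contains every map of F. If two families are each closed under F-conjugacy and each generating, then their intersection is generating. -/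
theorem result {Ω : Type*} [Group Ω] {S : Subgroup Ω} [Finite S] (p : ℕ) [Fact p.Prime] (hS : IsPGroup p S) (F : Cfsg.FusionSystem S) (hF : F.IsSaturated p) (𝒬₁ 𝒬₂ : Set (Subgroup Ω)) (h₁ : ∀ R ∈ 𝒬₁, ∀ R' : Subgroup Ω, F.IsConj R R' → R' ∈ 𝒬₁) (h₂ : ∀ R ∈ 𝒬₂, ∀ R' : Subgroup Ω, F.IsConj R R' → R' ∈ 𝒬₂) (hg₁ : ∀ E : Cfsg.FusionSystem S, (∀ R ∈ 𝒬₁, F.autGroup R ≤ E.autGroup R) → F ≤ E) (hg₂ : ∀ E : Cfsg.FusionSystem S, (∀ R ∈ 𝒬₂, F.autGroup R ≤ E.autGroup R) → F ≤ E) (E : Cfsg.FusionSystem S) (hE : ∀ R ∈ 𝒬₁ ∩ 𝒬₂, F.autGroup R ≤ E.autGroup R) : F ≤ E := by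
  have hbot : ∀ (E' : Cfsg.FusionSystem S) (R : Subgroup Ω), ¬ R ≤ S →
      F.autGroup R ≤ E'.autGroup R := by
    intro E' R hRS
    refine (Subgroup.closure_le _).2 ?_
    intro α hα
    exact absurd (Cfsg.Agent.Lib.H25.hom_le F hα) hRS
  have key : ∀ 𝒬 : Set (Subgroup Ω), (∀ R ∈ 𝒬, ∀ R' : Subgroup Ω, F.IsConj R R' → R' ∈ 𝒬) →
      (∀ E : Cfsg.FusionSystem S, (∀ R ∈ 𝒬, F.autGroup R ≤ E.autGroup R) → F ≤ E) →
      ∀ T : Subgroup Ω, F.IsEssential p T → T ∈ 𝒬 := by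
    intro 𝒬 hcl hgen T hess
    by_contra hTn
    obtain ⟨E₀, h1, h2⟩ := Cfsg.Agent.Lib.H26.exists_omitting_system hS F hF hess
    apply h2
    apply hgen E₀
    intro R hR
    by_cases hRS : R ≤ S
    · apply h1 R hRS
      intro hc
      exact hTn (hcl R hR T (Cfsg.Agent.Lib.H25.isConj_symm F hc))
    · exact hbot E₀ R hRS
  have keyS : ∀ 𝒬 : Set (Subgroup Ω),
      (∀ E : Cfsg.FusionSystem S, (∀ R ∈ 𝒬, F.autGroup R ≤ E.autGroup R) → F ≤ E) →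
      S ∉ 𝒬 → F.autGroup S ≤ E.autGroup S := by
    intro 𝒬 hgen hSn
    obtain ⟨E₀, h1, h2⟩ := exists_inner_top_system F
    apply h2 _ E
    apply hgen E₀
    intro R hR
    apply h1 R
    intro h
    exact hSn (h ▸ hR)
  apply Cfsg.Agent.Lib.H25.alperin hS F hF E
  intro T hT
  rcases hT with rfl | hess
  · by_cases h1' : T ∈ 𝒬₁
    · by_cases h2' : T ∈ 𝒬₂
      · exact hE T ⟨h1', h2'⟩
      · exact keyS 𝒬₂ hg₂ h2'
    · exact keyS 𝒬₁ hg₁ h1'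
  · exact hE T ⟨key 𝒬₁ h₁ hg₁ T hess, key 𝒬₂ h₂ hg₂ T hess⟩

end Cfsg.Agent.S5327
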