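import Cfsg.Statements.S5331
import Cfsg.Agent.Lib.H26.FusionAbelian
import Cfsg.Agent.Lib.H26.OddAutDistinct

set_option autoImplicit false
open Cfsg

namespace Cfsg.Agent.S5331

/-- Let S be a finite abelian 2-group that is a direct product of cyclic groups of pairwise distinct orders 2^{a_1} < 2^{a_2} < ⋯ < 2^{a_n} (all a_i ≥ 1). Then every saturated fusion system over S is the inner one: its maps are exactly the conjugations by elements of S. -/
theorem result {Ω : Type*} [Group Ω] {S : Subgroup Ω} [Finite S] (n : ℕ) (a : Fin n → ℕ) (ha : StrictMono a) (ha1 : ∀ i, 1 ≤ a i) (e : ↥S ≃* Multiplicative ((i : Fin n) → ZMod (2 ^ a i))) (F : Cfsg.FusionSystem S) (hF : F.IsSaturated 2) (P : Subgroup Ω) : F.Hom P = (Cfsg.innerFusionSystem S).Hom P := by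
  classical
  haveI : Fact (Nat.Prime 2) := ⟨Nat.prime_two⟩
  -- `S` is abelian
  have hab : ∀ x ∈ S, ∀ y ∈ S, x * y = y * x := by
    intro x hx y hy
    have h1 : e (⟨x, hx⟩ * ⟨y, hy⟩) = e (⟨y, hy⟩ * ⟨x, hx⟩) := by
      rw [map_mul, map_mul, mul_comm]
    have h2 := e.injective h1
    exact congrArg Subtype.val h2
  -- every element of `Aut_F(S)` is trivial
  have hone : ∀ α ∈ F.autGroup S, α = 1 := by
    intro α hα
    have hcop := Cfsg.Agent.Lib.H26.card_autGroup_top_coprime_of_comm F 2 hF hab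
    set k := Nat.card (F.autGroup S) with hk
    have hkodd : Odd k := Nat.Coprime.odd_of_right hcop
    have hpow : α ^ k = 1 := by
      have h1 : (⟨α, hα⟩ : F.autGroup S) ^ k = 1 := pow_card_eq_one'
      have h2 := congrArg Subtype.val h1
      simpa using h2
    set Φ : MulAut S ≃* Multiplicative (AddAut ((i : Fin n) → ZMod (2 ^ a i))) :=
      (MulAut.congr e).trans (MulAutMultiplicative _) with hΦ
    have h3 : (Φ α) ^ k = 1 := by rw [← map_pow, hpow, map_one]
    have h4 : k • (Multiplicative.toAdd (Φ α)) = 0 := by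
      have := congrArg Multiplicative.toAdd h3
      simpa using this
    have h5 := Cfsg.Agent.Lib.H26.OddAut.eq_one_of_odd a ha.injective ha1 _ hkodd h4
    have h6 : Φ α = 1 := by
      apply Multiplicative.toAdd.injective
      rw [h5]; rfl
    exact (map_eq_one_iff Φ Φ.injective).1 h6
  ext φ
  rw [Cfsg.Agent.Lib.H26.mem_inner_hom_iff_of_comm hab]
  constructor
  · intro hφ
    refine ⟨Cfsg.Agent.Lib.H25.hom_le F hφ, fun x => ?_⟩
    obtain ⟨α, hα, hαφ⟩ := Cfsg.Agent.Lib.H26.exists_aut_extension_of_comm F 2 hF hab hφ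
    rw [← hαφ x, hone α hα]
    rfl
  · rintro ⟨hP, hφ⟩
    have : φ = P.subtype := MonoidHom.ext hφ
    rw [this]
    exact Cfsg.Agent.Lib.H25.subtype_mem F hP

end Cfsg.Agent.S5331
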