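import Cfsg.Statements.S5333
import Cfsg.Agent.Lib.H26.CentralizerControl

set_option autoImplicit false
open Cfsg

namespace Cfsg.Agent.S5333

/-- Let F′ ≤ F be saturated fusion systems over the same finite p-group S. Suppose that for every subgroup Z ≤ S of order p that is fully centralized in F′, the maps of F and of F′ with source Z coincide and the centralizer systems C_F(Z) and C_{F′}(Z) coincide. Then F = F′. -/
theorem result {Ω : Type*} [Group Ω] {S : Subgroup Ω} [Finite S] (p : ℕ) [Fact p.Prime] (hS : IsPGroup p S) (F : Cfsg.FusionSystem S) (hF : F.IsSaturated p) (F' : Cfsg.FusionSystem S) (hF' : F'.IsSaturated p) (hle : F' ≤ F) (hZ : ∀ Z : Subgroup Ω, Z ≤ S → Nat.card Z = p → F'.IsFullyCentralized Z → F.Hom Z = F'.Hom Z ∧ ∀ (C C' : Cfsg.FusionSystem (Cfsg.FusionSystem.centralizerIn S Z)), F.IsCentralizerSystem Z C → F'.IsCentralizerSystem Z C' → ∀ P : Subgroup Ω, C.Hom P = C'.Hom P) (P : Subgroup Ω) : F.Hom P = F'.Hom P := by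
  apply Set.Subset.antisymm _ (hle P)
  apply Cfsg.Agent.Lib.H26.hom_subset_of_centralizers hS hF hF' hle
  intro Z hZS hZc hZfc
  obtain ⟨h1, h2⟩ := hZ Z hZS hZc hZfc
  refine ⟨h1, fun P => ?_⟩
  obtain ⟨C, hC⟩ := Cfsg.Agent.S5097.result F Z hZS
  obtain ⟨C', hC'⟩ := Cfsg.Agent.S5097.result F' Z hZS
  have := h2 C C' hC hC' P
  rw [hC P, hC' P] at this
  exact this

end Cfsg.Agent.S5333
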