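import Cfsg.Statements.S5334
import Cfsg.Agent.Lib.H26.SubsystemExt

set_option autoImplicit false
open Cfsg

namespace Cfsg.Agent.S5334

/-- Let F′ ≤ F be saturated fusion systems over the same finite p-group S, let Q and R be F-centric subgroups, φ a map of F with source Q and values in R, and ψ a map of F with source R. If two of φ, ψ and the composite ψ ∘ φ are maps of F′ then so is the third. -/
theorem result {Ω : Type*} [Group Ω] {S : Subgroup Ω} [Finite S] (p : ℕ) [Fact p.Prime] (hS : IsPGroup p S) (F : Cfsg.FusionSystem S) (hF : F.IsSaturated p) (F' : Cfsg.FusionSystem S) (hF' : F'.IsSaturated p) (hle : F' ≤ F) (Q R : Subgroup Ω) (hQ : F.IsCentric Q) (hR : F.IsCentric R) (φ : ↥Q →* Ω) (hφ : φ ∈ F.Hom Q) (hφR : ∀ x : Q, φ x ∈ R) (ψ : ↥R →* Ω) (hψ : ψ ∈ F.Hom R) : (φ ∈ F'.Hom Q → ψ ∈ F'.Hom R → ψ.comp (φ.codRestrict R hφR) ∈ F'.Hom Q) ∧ (ψ ∈ F'.Hom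 R → ψ.comp (φ.codRestrict R hφR) ∈ F'.Hom Q → φ ∈ F'.Hom Q) ∧ (φ ∈ F'.Hom Q → ψ.comp (φ.codRestrict R hφR) ∈ F'.Hom Q → ψ ∈ F'.Hom R) := by
  have hQ₀R : φ.range ≤ R := by
    rintro _ ⟨x, rfl⟩
    exact hφR x
  have hcompval : ∀ x ∈ Q, Cfsg.Agent.Lib.H25.ext1 (ψ.comp (φ.codRestrict R hφR)) x =
      (Cfsg.Agent.Lib.H25.ext1 ψ ∘ Cfsg.Agent.Lib.H25.ext1 φ) x := by
    intro x hx
    show _ = Cfsg.Agent.Lib.H25.ext1 ψ (Cfsg.Agent.Lib.H25.ext1 φ x)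
    rw [Cfsg.Agent.Lib.H25.ext1_apply_mem _ hx, Cfsg.Agent.Lib.H25.ext1_apply_mem φ hx,
      Cfsg.Agent.Lib.H25.ext1_apply_mem ψ (hφR ⟨x, hx⟩)]
    rfl
  refine ⟨fun h1 h2 => F'.comp_mem h1 h2 hφR, fun h2 h3 => ?_, fun h1 h3 => ?_⟩
  · have hkR := Cfsg.Agent.Lib.H25.isIso_of_mem F' h2
    have hcomp := (Cfsg.Agent.Lib.H25.isIso_of_mem F' h3).congr hcompval
    have hfQ := Cfsg.Agent.Lib.H25.isIso_of_mem F hφ
    obtain ⟨X, -, hkQ₀, hXmem⟩ := hkR.restrict hQ₀R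
    obtain ⟨k', hk', hk'k, -⟩ := hkQ₀.symm
    have hcomp' : Cfsg.Agent.Lib.H25.IsIso F' Q X
        (Cfsg.Agent.Lib.H25.ext1 ψ ∘ Cfsg.Agent.Lib.H25.ext1 φ) := by
      refine hcomp.restrict' le_rfl (fun x hx => ?_) (fun y hy => ?_)
      · exact hkQ₀.map_mem (hfQ.map_mem hx)
      · obtain ⟨u, hu, rfl⟩ := hkQ₀.surjOn hy
        obtain ⟨x, hx, rfl⟩ := hfQ.surjOn hu
        exact ⟨x, hx, rfl⟩
    have hfin := (hcomp'.trans hk').congr (g := Cfsg.Agent.Lib.H25.ext1 φ) (fun x hx => by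
      show k' (Cfsg.Agent.Lib.H25.ext1 ψ (Cfsg.Agent.Lib.H25.ext1 φ x)) = _
      rw [hk'k _ (hfQ.map_mem hx)])
    exact Cfsg.Agent.Lib.H25.mem_hom_of_isIso F' hfin
      (fun x => (Cfsg.Agent.Lib.H25.ext1_apply φ x).symm)
  · have hfQ' := Cfsg.Agent.Lib.H25.isIso_of_mem F' h1
    have hfQ := Cfsg.Agent.Lib.H25.isIso_of_mem F hφ
    obtain ⟨f', hf', -, hff'⟩ := hfQ'.symm
    have hcomp := (Cfsg.Agent.Lib.H25.isIso_of_mem F' h3).congr hcompval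
    have hkQ₀ := (hf'.trans hcomp).congr (g := Cfsg.Agent.Lib.H25.ext1 ψ) (fun y hy => by
      show Cfsg.Agent.Lib.H25.ext1 ψ (Cfsg.Agent.Lib.H25.ext1 φ (f' y)) = _
      rw [hff' y hy])
    have hkR := Cfsg.Agent.Lib.H25.isIso_of_mem F hψ
    have hQ₀c : F.IsCentric φ.range := Cfsg.Agent.Lib.H26.isCentric_of_isConj hQ hfQ.isConj
    have hfin := Cfsg.Agent.Lib.H26.isIso_of_restrict_centric hS hF hF' hle hkR hQ₀R hQ₀c hkQ₀
    exact Cfsg.Agent.Lib.H25.mem_hom_of_isIso F' hfin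
      (fun x => (Cfsg.Agent.Lib.H25.ext1_apply ψ x).symm)

end Cfsg.Agent.S5334
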