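import Cfsg.Statements.S5335
import Cfsg.Agent.Lib.H26.SubsystemExt

set_option autoImplicit false
open Cfsg

namespace Cfsg.Agent.S5335

/-- Let F′ ≤ F be saturated fusion systems over the same finite p-group S. If the maps of F and of F′ with source Q coincide for every F-centric subgroup Q that is minimal among F-centric subgroups, then F = F′. -/
theorem result {Ω : Type*} [Group Ω] {S : Subgroup Ω} [Finite S] (p : ℕ) [Fact p.Prime] (hS : IsPGroup p S) (F : Cfsg.FusionSystem S) (hF : F.IsSaturated p) (F' : Cfsg.FusionSystem S) (hF' : F'.IsSaturated p) (hle : F' ≤ F) (hmin : ∀ Q : Subgroup Ω, F.IsCentric Q → (∀ R : Subgroup Ω, R < Q → ¬ F.IsCentric R) → F.Hom Q = F'.Hom Q) (P : Subgroup Ω) : F.Hom P = F'.Hom P := by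
  open Cfsg.Agent.Lib.H25 Cfsg.Agent.Lib.H26 in
  classical
  -- every `F`-centric subgroup contains a minimal one
  have hexmin : ∀ R : Subgroup Ω, F.IsCentric R → ∃ Q : Subgroup Ω, Q ≤ R ∧ F.IsCentric Q ∧
      ∀ R' : Subgroup Ω, R' < Q → ¬ F.IsCentric R' := by
    intro R hR
    have hex : ∃ n : ℕ, ∃ Q : Subgroup Ω, Q ≤ R ∧ F.IsCentric Q ∧ Nat.card Q = n :=
      ⟨_, R, le_rfl, hR, rfl⟩
    obtain ⟨Q, hQR, hQc, hQn⟩ := Nat.find_spec hex
    refine ⟨Q, hQR, hQc, fun R' hlt hR'c => ?_⟩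
    have hlt' : Nat.card R' < Nat.card Q := card_lt_of_lt' (S := S) hQc.1 hlt
    rw [hQn] at hlt'
    exact Nat.find_min hex hlt' ⟨R', hlt.le.trans hQR, hR'c, rfl⟩
  have hScentric : F.IsCentric S := by
    refine ⟨le_rfl, fun Q hQ => ?_⟩
    obtain ⟨f, hf⟩ := (isConj_iff F).1 hQ
    have hQS : Q = S := Subgroup.eq_of_le_of_card_ge hf.le_right (le_of_eq hf.card_eq)
    rw [hQS]
    exact inf_le_left
  apply Set.Subset.antisymm
  · apply alperin hS F hF F'
    intro R hR
    have hRc : F.IsCentric R := by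
      rcases hR with rfl | hR
      · exact hScentric
      · exact hR.1
    have hRS := hRc.1
    obtain ⟨Q, hQR, hQc, hQmin⟩ := hexmin R hRc
    have hQeq := hmin Q hQc hQmin
    intro α hα
    have hk := isIso_of_mem_autGroup F hRS hα
    obtain ⟨X, -, hkQ, -⟩ := hk.restrict hQR
    obtain ⟨φ, hφ, hφk, hφr⟩ := hkQ
    rw [hQeq] at hφ
    have hkQ' : IsIso F' Q X (ext1 (R.subtype.comp α.toMonoidHom)) := ⟨φ, hφ, hφk, hφr⟩
    have hfin := isIso_of_restrict_centric hS hF hF' hle hk hQR hQc hkQ'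
    obtain ⟨α', hα', hα'v⟩ := exists_mem_autGroup_of_isIso F' hfin
    have : α = α' := by
      ext x
      rw [hα'v, ext1_apply]
      rfl
    rw [this]
    exact hα'
  · exact hle P

end Cfsg.Agent.S5335
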