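import Cfsg.Statements.S5336
import Cfsg.Agent.Lib.H26.NormalSubgroupFusion

set_option autoImplicit false
open Cfsg

namespace Cfsg.Agent.S5336

/-- Let G be a finite group with Sylow p-subgroup S whose fusion system F_S(G) is simple. If G has no nontrivial normal subgroup of order prime to p and no proper subgroup H containing S induces the same fusion system on S as G does, then G is a simple group. -/
theorem result {G : Type*} [Group G] [Finite G] (p : ℕ) [Fact p.Prime] (S : Sylow p G) (hsimple : (Cfsg.groupFusionSystem (S : Subgroup G)).IsSimple p) (hcore : Cfsg.pPrimeCore p G = ⊥) (hmin : ∀ (H : Subgroup G) (hSH : (S : Subgroup G) ≤ H), H ≠ ⊤ → ∃ P : Subgroup G, (Cfsg.fusionSystemOfSubgroup H (S : Subgroup G) hSH).Hom P ≠ (Cfsg.groupFusionSystem (S : Subgroup G)).Hom P) : IsSimpleGroup G := by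
  obtain ⟨-, hSne, hsimp⟩ := hsimple
  have hp : p.Prime := Fact.out
  have hnt : Nontrivial G := by
    by_contra hnt
    rw [not_nontrivial_iff_subsingleton] at hnt
    exact hSne (Subsingleton.elim _ _)
  refine { exists_pair_ne := hnt.exists_pair_ne, eq_bot_or_eq_top_of_normal := ?_ }
  intro N hN
  have hnorm := Cfsg.Agent.Lib.H26.fusionSystemOfSubgroup_isNormalIn S N
  rcases hsimp _ _ hnorm with hbot | ⟨htop, hHom⟩
  · left
    have hsyl := Cfsg.Agent.Lib.H26.sylow_inf_normal_isSylowIn S N
    obtain ⟨R, hR⟩ := hsyl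
    rw [hbot] at hR
    have hRbot : (R : Subgroup N) = ⊥ := by
      rw [hR]
      exact Subgroup.bot_subgroupOf N
    have h1 := R.not_dvd_index
    rw [hRbot, Subgroup.index_bot] at h1
    have hcop : (Nat.card N).Coprime p := ((Nat.Prime.coprime_iff_not_dvd hp).2 h1).symm
    have hle : N ≤ Cfsg.pPrimeCore p G := le_sSup ⟨hN, hcop⟩
    rw [hcore] at hle
    exact le_bot_iff.1 hle
  · right
    by_contra hne
    have hSN : (S : Subgroup G) ≤ N := by
      rw [← htop]
      exact inf_le_right
    obtain ⟨P, hP⟩ := hmin N hSN hne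
    apply hP
    rw [← hHom P]
    ext φ
    constructor
    · rintro ⟨h1, h2, h3⟩
      refine ⟨?_, ?_, h3⟩
      · rw [htop]; exact h1
      · intro x
        rw [htop]
        exact h2 x
    · rintro ⟨h1, h2, h3⟩
      refine ⟨?_, ?_, h3⟩
      · rw [htop] at h1; exact h1
      · intro x
        have := h2 x
        rw [htop] at this
        exact this

end Cfsg.Agent.S5336
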