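import Cfsg.Statements.S5337
import Cfsg.Agent.Lib.H26.FusionAbelian

set_option autoImplicit false
open Cfsg

namespace Cfsg.Agent.S5337

/-- Let F be a saturated fusion system over a finite abelian p-group S. Then F is simple if and only if S has order p and F is the inner system of S (whose only maps are the inclusions, S being abelian). -/
theorem result {Ω : Type*} [Group Ω] {S : Subgroup Ω} [Finite S] (p : ℕ) [Fact p.Prime] (hS : IsPGroup p S) (F : Cfsg.FusionSystem S) (hF : F.IsSaturated p) (hab : ∀ x ∈ S, ∀ y ∈ S, x * y = y * x) : F.IsSimple p ↔ (Nat.card S = p ∧ ∀ P : Subgroup Ω, F.Hom P = (Cfsg.innerFusionSystem S).Hom P) := by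
  have hp : p.Prime := Fact.out
  constructor
  · rintro ⟨-, hS1, hsimple⟩
    -- F is the inner system
    have hinner : ∀ P : Subgroup Ω, F.Hom P = (Cfsg.innerFusionSystem S).Hom P := by
      have hSsc : F.StronglyClosed S :=
        ⟨le_rfl, fun R _ φ hφ x => Cfsg.Agent.Lib.H25.hom_mem_S F hφ x⟩
      have hN := Cfsg.Agent.Lib.H26.inner_isNormalIn_of_comm F p hS hF hab S hSsc
      rcases hsimple S _ hN with h | ⟨-, h⟩
      · exact absurd h hS1
      · exact fun P => (h P).symm
    refine ⟨?_, hinner⟩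
    -- every subgroup of S is trivial or S
    have hTsub : ∀ T : Subgroup Ω, T ≤ S → T = ⊥ ∨ T = S := by
      intro T hTS
      have hTsc : F.StronglyClosed T := by
        refine ⟨hTS, fun R hRT φ hφ x => ?_⟩
        rw [hinner] at hφ
        obtain ⟨-, hφx⟩ := (Cfsg.Agent.Lib.H26.mem_inner_hom_iff_of_comm hab φ).1 hφ
        rw [hφx]; exact hRT x.2
      have hN := Cfsg.Agent.Lib.H26.inner_isNormalIn_of_comm F p hS hF hab T hTsc
      rcases hsimple T _ hN with h | ⟨h, -⟩
      · exact Or.inl h
      · exact Or.inr h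
    have hSnt : Nontrivial S := (Subgroup.nontrivial_iff_ne_bot S).mpr hS1
    obtain ⟨n, hn0, hn⟩ := hS.nontrivial_iff_card.mp hSnt
    have hdvd : p ∣ Nat.card S := by rw [hn]; exact dvd_pow_self p (by omega)
    obtain ⟨z, hz⟩ := exists_prime_orderOf_dvd_card' p hdvd
    have hzΩ : orderOf (z : Ω) = p := by rw [Subgroup.orderOf_coe]; exact hz
    have hzS : Subgroup.zpowers (z : Ω) ≤ S := by
      rw [Subgroup.zpowers_le]; exact z.2
    rcases hTsub _ hzS with h | h
    · exfalso
      have : (z : Ω) = 1 := by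
        have := Subgroup.mem_zpowers (z : Ω)
        rw [h] at this
        exact Subgroup.mem_bot.mp this
      rw [this, orderOf_one] at hzΩ
      exact hp.one_lt.ne hzΩ
    · rw [← h, Nat.card_zpowers]; exact hzΩ
  · rintro ⟨hcard, hinner⟩
    have hS1 : S ≠ ⊥ := by
      intro h
      rw [h, Subgroup.card_bot] at hcard
      exact hp.one_lt.ne hcard
    refine ⟨hF, hS1, ?_⟩
    intro T E hE
    obtain ⟨⟨-, -, hsub, hTsc, -, -⟩, -⟩ := hE
    have hTS : T ≤ S := hTsc.1
    have hprime : Fact (Nat.card S).Prime := ⟨by rw [hcard]; exact hp⟩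
    rcases Subgroup.eq_bot_or_eq_top_of_prime_card (T.subgroupOf S) with h | h
    · left
      rw [Subgroup.subgroupOf_eq_bot] at h
      rw [eq_bot_iff]
      intro x hx
      have : x ∈ T ⊓ S := ⟨hx, hTS hx⟩
      have := h.le_bot this
      exact this
    · right
      have hTS' : T = S := le_antisymm hTS (Subgroup.subgroupOf_eq_top.mp h)
      subst hTS'
      refine ⟨rfl, fun P => ?_⟩
      apply Set.Subset.antisymm (hsub P)
      intro φ hφ
      rw [hinner] at hφ
      obtain ⟨hP, g, hg, hφx⟩ := hφ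
      have : φ = Cfsg.conjHom P g := MonoidHom.ext hφx
      rw [this]
      exact E.conj_mem hP hg


end Cfsg.Agent.S5337
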