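import Cfsg.Statements.S5338
import Cfsg.Agent.Lib.H26.InvariantFrattini

set_option autoImplicit false
open Cfsg

namespace Cfsg.Agent.S5338

/-- Let F be a saturated fusion system over a finite p-group S and F′ ≤ F a saturated subsystem over all of S that is invariant under F in the conjugation sense: for every map φ of F with source Q and every map ψ of F′ between subgroups R ≤ Q (with values in Q), the transported map φψφ⁻¹ defined on φ(R) is again a map of F′. If moreover Aut_{F′}(S) = Aut_F(S), then F′ = F. -/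
theorem result {Ω : Type*} [Group Ω] {S : Subgroup Ω} [Finite S] (p : ℕ) [Fact p.Prime] (hS : IsPGroup p S) (F : Cfsg.FusionSystem S) (hF : F.IsSaturated p) (F' : Cfsg.FusionSystem S) (hF' : F'.IsSaturated p) (hle : F' ≤ F) (hinv : ∀ (Q : Subgroup Ω) (φ : ↥Q →* Ω), φ ∈ F.Hom Q → ∀ (R : Subgroup Ω) (hRQ : R ≤ Q) (ψ : ↥R →* Ω), ψ ∈ F'.Hom R → ∀ (hψQ : ∀ x : R, ψ x ∈ Q), ∃ χ ∈ F'.Hom ((R.subgroupOf Q).map φ), ∀ (x : R) (hx : φ ⟨(x : Ω), hRQ x.2⟩ ∈ (R.subgroupOf Q).map φ), χ ⟨φ ⟨(x : Ω), hRQ x.2⟩, hx⟩ = φ ⟨ψ x, hψQ x⟩) (htop : F'.autGroup S = F.autGroup S) (P : Subgroup Ω) : F'.Hom P = F.Hom P := by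
  open Cfsg.FusionSystem Cfsg.Agent.Lib.H25 Cfsg.Agent.Lib.H26 in
  classical
  have hN : ∀ R : Subgroup Ω, R ≤ S → ∀ β ∈ F.autGroup R, ∀ γ ∈ F'.autGroup R,
      β * γ * β⁻¹ ∈ F'.autGroup R := by
    intro R hRS β hβ γ hγ
    have : Finite R := finite_of_le S hRS
    have hφ := (mem_autGroup_iff F hRS β).1 hβ
    have hψ := (mem_autGroup_iff F' hRS γ).1 hγ
    obtain ⟨χ, hχ, hχval⟩ := hinv R _ hφ R le_rfl _ hψ (fun x => (γ x).2)
    have hXmem : ∀ x : R, ((β x : R) : Ω) ∈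
        (R.subgroupOf R).map (R.subtype.comp β.toMonoidHom) :=
      fun x => ⟨x, Subgroup.mem_subgroupOf.2 x.2, rfl⟩
    obtain ⟨k, X', hk, hkval⟩ : ∃ (k : Ω → Ω) (X' : Subgroup Ω),
        IsIso F' ((R.subgroupOf R).map (R.subtype.comp β.toMonoidHom)) X' k ∧
        ∀ x : R, k ((β x : R) : Ω) = ((β (γ x) : R) : Ω) := by
      refine ⟨ext1 χ, χ.range, isIso_of_mem F' hχ, fun x => ?_⟩
      rw [ext1_apply_mem χ (hXmem x)]
      exact hχval x (hXmem x)
    have hXR : (R.subgroupOf R).map (R.subtype.comp β.toMonoidHom) = R := by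
      ext y
      constructor
      · rintro ⟨r, -, rfl⟩
        exact (β r).2
      · intro hy
        refine ⟨β⁻¹ ⟨y, hy⟩, Subgroup.mem_subgroupOf.2 (β⁻¹ ⟨y, hy⟩).2, ?_⟩
        show ((β (β⁻¹ ⟨y, hy⟩) : R) : Ω) = y
        simp
    rw [hXR] at hk
    have hX'R : X' = R := by
      have hle : X' ≤ R := by
        intro y hy
        obtain ⟨x, hx, rfl⟩ := hk.surjOn hy
        have e : x = ((β (β⁻¹ ⟨x, hx⟩) : R) : Ω) := by simp
        rw [e, hkval]
        exact (β _).2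
      exact Subgroup.eq_of_le_of_card_ge hle (le_of_eq hk.card_eq)
    rw [hX'R] at hk
    obtain ⟨δ, hδ, hδval⟩ := exists_mem_autGroup_of_isIso F' hk
    have : β * γ * β⁻¹ = δ := by
      ext x
      rw [hδval]
      have e : (x : Ω) = ((β (β⁻¹ x) : R) : Ω) := by simp
      rw [e, hkval]
      simp
    rw [this]
    exact hδ
  apply Set.Subset.antisymm
  · exact hle P
  · exact hom_subset_of_frattini hS hF hle hN (le_of_eq htop.symm) P

end Cfsg.Agent.S5338
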