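import Cfsg.Statements.S5340
import Cfsg.Agent.S5339

set_option autoImplicit false
open Cfsg

namespace Cfsg.Agent.S5340

/-- Let F be a saturated fusion system over a nontrivial finite p-group S such that S is generated by its elements of order p, any two subgroups of S of order p are F-conjugate, and Aut_F(S) consists of inner automorphisms only. Then F is simple. -/
theorem result {Ω : Type*} [Group Ω] {S : Subgroup Ω} [Finite S] (p : ℕ) [Fact p.Prime] (hS : IsPGroup p S) (F : Cfsg.FusionSystem S) (hF : F.IsSaturated p) (hS1 : S ≠ ⊥) (hgen : Subgroup.closure {x : Ω | x ∈ S ∧ orderOf x = p} = S) (htr : ∀ A B : Subgroup Ω, A ≤ S → B ≤ S → Nat.card A = p → Nat.card B = p → F.IsConj A B) (htop : F.autGroup S = Cfsg.Inn ↥S) : F.IsSimple p := by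
  apply Cfsg.Agent.S5339.result p hS F hF hS1 htop
  intro T hT
  by_cases hTb : T = ⊥
  · exact Or.inl hTb
  right
  obtain ⟨hTS, hTcl⟩ := hT
  apply le_antisymm hTS
  have hp : p.Prime := Fact.out
  -- T is a nontrivial finite p-group: it has an element of order p
  have hTfin : Finite T := Finite.of_injective (fun t : T => (⟨t, hTS t.2⟩ : S))
      (fun a b h => Subtype.ext (congrArg (fun z : S => (z : Ω)) h))
  have hTp : IsPGroup p T := by
    intro t
    obtain ⟨k, hk⟩ := hS ⟨t, hTS t.2⟩
    refine ⟨k, Subtype.ext ?_⟩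
    have := congrArg (fun z : S => (z : Ω)) hk
    simpa using this
  have hTnt : Nontrivial T := (Subgroup.nontrivial_iff_ne_bot T).mpr hTb
  obtain ⟨n, hn0, hn⟩ := hTp.nontrivial_iff_card.mp hTnt
  have hdvd : p ∣ Nat.card T := by rw [hn]; exact dvd_pow_self p (by omega)
  obtain ⟨z, hz⟩ := exists_prime_orderOf_dvd_card' p hdvd
  have hzΩ : orderOf (z : Ω) = p := by rw [Subgroup.orderOf_coe]; exact hz
  have hA : Subgroup.zpowers (z : Ω) ≤ T := by
    rw [Subgroup.zpowers_le]; exact z.2
  have hAcard : Nat.card (Subgroup.zpowers (z : Ω)) = p := by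
    rw [Nat.card_zpowers]; exact hzΩ
  conv_lhs => rw [← hgen]
  rw [Subgroup.closure_le]
  rintro x ⟨hxS, hxo⟩
  have hBcard : Nat.card (Subgroup.zpowers x) = p := by
    rw [Nat.card_zpowers]; exact hxo
  have hB : Subgroup.zpowers x ≤ S := by
    rw [Subgroup.zpowers_le]; exact hxS
  obtain ⟨φ, hφ, hrange⟩ := htr _ _ (hA.trans hTS) hB hAcard hBcard
  have hx : x ∈ φ.range := by rw [hrange]; exact Subgroup.mem_zpowers x
  obtain ⟨a, rfl⟩ := hx
  exact hTcl _ hA φ hφ a


end Cfsg.Agent.S5340
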