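import Cfsg.Statements.S5341
import Cfsg.Agent.Lib.H25.Normal
import Cfsg.Agent.Lib.H25.SatEquiv
import Cfsg.Agent.Lib.H25.Alperin

set_option autoImplicit false
open Cfsg

namespace Cfsg.Agent.S5341

open Cfsg.FusionSystem Cfsg.Agent.Lib.H25 in
theorem map_mem_of_stronglyClosed {Ω : Type*} [Group Ω] {S : Subgroup Ω} {F : Cfsg.FusionSystem S}
    {T : Subgroup Ω} (hT : F.StronglyClosed T) {N N' : Subgroup Ω} {f : Ω → Ω}
    (hf : IsIso F N N' f) {x : Ω} (hx : x ∈ N) (hxT : x ∈ T) : f x ∈ T := by
  obtain ⟨X, -, hf', -⟩ := hf.restrict (inf_le_left : N ⊓ T ≤ N)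
  exact stronglyClosed_map_mem hT hf' inf_le_right ⟨hx, hxT⟩

/-- Let F be a saturated fusion system over a finite p-group S, T a subgroup strongly closed in F, and F′ any fusion system over T all of whose maps are maps of F. For a subgroup Q ≤ T: if Q is fully centralized in F then it is fully centralized in F′, and if Q is fully normalized in F then it is fully normalized in F′. -/
theorem result {Ω : Type*} [Group Ω] {S : Subgroup Ω} [Finite S] (p : ℕ) [Fact p.Prime] (hS : IsPGroup p S) (F : Cfsg.FusionSystem S) (hF : F.IsSaturated p) (T : Subgroup Ω) (hT : F.StronglyClosed T) (F' : Cfsg.FusionSystem T) (hsub : F'.IsSubsystemOf F) (Q : Subgroup Ω) (hQT : Q ≤ T) : (F.IsFullyCentralized Q → F'.IsFullyCentralized Q) ∧ (F.IsFullyNormalized Q → F'.IsFullyNormalized Q) := by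
  open Cfsg.FusionSystem Cfsg.Agent.Lib.H25 in
  classical
  have hTS : T ≤ S := hT.1
  have hconj : ∀ Q' : Subgroup Ω, F'.IsConj Q Q' → F.IsConj Q' Q := by
    rintro Q' ⟨φ, hφ, hr⟩
    exact isConj_symm F ⟨φ, hsub Q hφ, hr⟩
  refine ⟨fun hQ => ⟨hQT, fun Q' hQ' => ?_⟩, fun hQ => ⟨hQT, fun Q' hQ' => ?_⟩⟩
  · have hrec := isReceptive_of_fullyCentralized hS hF hQ
    obtain ⟨f₀, hf₀⟩ := (isConj_iff F).1 (hconj Q' hQ')
    have hQ'S : Q' ≤ S := hf₀.le_left
    obtain ⟨f, N', hf, hff₀⟩ := IsReceptive_extend hrec hf₀ (Q' ⊔ centralizerIn S Q') (by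
      intro g hg
      obtain ⟨φ, hφ, hφf, hr⟩ := hf₀
      have hle : Q' ⊔ centralizerIn S Q' ≤ extender S Q' φ :=
        sup_le (le_extender F hφ) (centralizerIn_le_extender S Q' φ)
      exact (mem_extender_iff' hφf g).1 (hle hg))
    have hQN : Q' ≤ Q' ⊔ centralizerIn S Q' := le_sup_left
    have hCN : centralizerIn S Q' ≤ Q' ⊔ centralizerIn S Q' := le_sup_right
    have hCTS : centralizerIn T Q' ≤ centralizerIn S Q' := inf_le_inf_right _ hTS
    have key : ∀ c : centralizerIn T Q', f c ∈ centralizerIn T Q := by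
      intro c
      have hcS : (c : Ω) ∈ centralizerIn S Q' := hCTS c.2
      refine ⟨map_mem_of_stronglyClosed hT hf (hCN hcS) c.2.1, ?_⟩
      show _ ∈ Subgroup.centralizer (Q : Set Ω)
      rw [Subgroup.mem_centralizer_iff]
      intro y hy
      obtain ⟨x, hx, rfl⟩ := hf₀.surjOn hy
      rw [← hff₀ x hx (hQN hx), ← hf.map_mul (hQN hx) (hCN hcS), ← hf.map_mul (hCN hcS) (hQN hx)]
      congr 1
      exact c.2.2 x hx
    let k : centralizerIn T Q' → centralizerIn T Q := fun c => ⟨f c, key c⟩
    have hk : Function.Injective k := by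
      intro a b hab
      have : f a = f b := congrArg Subtype.val hab
      exact Subtype.ext (hf.injOn (hCN (hCTS a.2)) (hCN (hCTS b.2)) this)
    have : Finite (centralizerIn T Q) :=
      finite_of_le S ((inf_le_left : centralizerIn T Q ≤ T).trans hTS)
    exact Nat.card_le_card_of_injective k hk
  · obtain ⟨hfc, hfa⟩ := fullyNormalized_props hS hF hQ
    have hrec := isReceptive_of_fullyCentralized hS hF hfc
    obtain ⟨f, N', hf, hN', -⟩ := exists_normalizer_map hS hfa hrec (hconj Q' hQ')
    have hNTS : normalizerIn T Q' ≤ normalizerIn S Q' := inf_le_inf_right _ hTS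
    have key : ∀ n : normalizerIn T Q', f n ∈ normalizerIn T Q := by
      intro n
      have hnS : (n : Ω) ∈ normalizerIn S Q' := hNTS n.2
      exact ⟨map_mem_of_stronglyClosed hT hf hnS n.2.1, (hN' (hf.map_mem hnS)).2⟩
    let k : normalizerIn T Q' → normalizerIn T Q := fun n => ⟨f n, key n⟩
    have hk : Function.Injective k := by
      intro a b hab
      have : f a = f b := congrArg Subtype.val hab
      exact Subtype.ext (hf.injOn (hNTS a.2) (hNTS b.2) this)
    have : Finite (normalizerIn T Q) :=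
      finite_of_le S ((inf_le_left : normalizerIn T Q ≤ T).trans hTS)
    exact Nat.card_le_card_of_injective k hk

end Cfsg.Agent.S5341
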