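import Cfsg.Statements.S5343
import Cfsg.Agent.Lib.H25.RealizedNormal
import Cfsg.Agent.Lib.H26.ModelQuotient

set_option autoImplicit false
universe u
open Cfsg

namespace Cfsg.Agent.S5343

open Cfsg.FusionSystem Cfsg.Agent.Lib.H25 Cfsg.Agent.Lib.H26 Cfsg.Agent.Lib.H26.Model

/-- Let F be a simple saturated fusion system over a finite p-group S that is realized by some finite group on a Sylow p-subgroup. Then F is realized by a finite simple group on a Sylow p-subgroup. -/
theorem result {Ω : Type u} [Group Ω] {S : Subgroup Ω} [Finite S] (p : ℕ) [Fact p.Prime] (hS : IsPGroup p S) (F : Cfsg.FusionSystem S) (hsimple : F.IsSimple p) (hreal : F.IsRealizable p) : ∃ (G : Type u) (_ : Group G) (_ : Finite G) (_ : IsSimpleGroup G) (ι : ↥S →* G), F.IsRealizedBy ι ∧ ∃ T : Sylow p G, (T : Subgroup G) = ι.range := by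
  classical
  obtain ⟨hF, hS1, hsimp⟩ := hsimple
  -- a realizing group of least order
  let Q : ℕ → Prop := fun n => ∃ (G : Type u) (_ : Group G) (_ : Finite G) (ι : ↥S →* G),
    F.IsRealizedBy ι ∧ (∃ T : Sylow p G, (T : Subgroup G) = ι.range) ∧ Nat.card G = n
  have hQ : ∃ n, Q n := by
    obtain ⟨G, hG, hfin, ι, h1, h2⟩ := hreal
    exact ⟨_, G, hG, hfin, ι, h1, h2, rfl⟩
  obtain ⟨G, hG, hfin, ι, hr, ⟨T, hT⟩, hcard⟩ := Nat.find_spec hQ
  have hmin : ∀ m, m < Nat.find hQ → ¬ Q m := fun m hm => Nat.find_min hQ hm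
  have hinj := hr.1
  -- `G` is nontrivial
  have hnt : Nontrivial G := by
    obtain ⟨s, hs1⟩ := (Subgroup.ne_bot_iff_exists_ne_one).1 hS1
    refine ⟨⟨ι s, 1, fun h => hs1 (hinj (h.trans (map_one ι).symm))⟩⟩
  refine ⟨G, hG, hfin, ⟨fun N hNn => ?_⟩, ι, hr, T, hT⟩
  by_contra hcon
  push Not at hcon
  obtain ⟨hNbot, hNtop⟩ := hcon
  have hnormal := realizedSub_isNormalIn hr N hF T hT
  have hcardN_lt : Nat.card N < Nat.card G := by
    have h1 : Nat.card N ∣ Nat.card G := Subgroup.card_subgroup_dvd_card N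
    have h2 : Nat.card N ≤ Nat.card G := Nat.le_of_dvd Nat.card_pos h1
    rcases Nat.lt_or_ge (Nat.card N) (Nat.card G) with h | h
    · exact h
    · exact absurd ((Subgroup.card_eq_iff_eq_top N).1 (le_antisymm h2 h)) hNtop
  rcases hsimp _ _ hnormal with hbot | ⟨htop, hHom⟩
  · -- `N` is a `p'`-group and `G ⧸ N` realizes `F`
    obtain ⟨R, hR⟩ := sylow_inf_normal_isSylowIn T N
    have hRbot : (R : Subgroup N) = ⊥ := by
      rw [hR, Subgroup.eq_bot_iff_forall]
      rintro ⟨y, hyN⟩ hy
      rw [Subgroup.mem_subgroupOf] at hy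
      obtain ⟨t, ht, h2⟩ := exists_of_mem_inf N T hT hy
      rw [hbot, Subgroup.mem_bot] at ht
      apply Subtype.ext
      show y = 1
      have h2' : ι ⟨t, preSub_le ι N (by rw [hbot, Subgroup.mem_bot]; exact ht)⟩ = y := h2
      rw [← h2']
      have : (⟨t, preSub_le ι N (by rw [hbot, Subgroup.mem_bot]; exact ht)⟩ : S) = 1 :=
        Subtype.ext ht
      rw [this, map_one]
    have hKp : (Nat.card N).Coprime p := by
      have h1 := R.not_dvd_index
      rw [hRbot, Subgroup.index_bot] at h1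
      exact ((Nat.Prime.coprime_iff_not_dvd Fact.out).2 h1).symm
    have hr' := realizedBy_quotient hS hr N hKp
    obtain ⟨T', hT'⟩ := sylow_quotient (ι := ι) hS T hT N
    have hlt : Nat.card (G ⧸ N) < Nat.card G := by
      have h1 : Nat.card G = Nat.card (G ⧸ N) * Nat.card N := Subgroup.card_eq_card_quotient_mul_card_subgroup N
      have h2 : 1 < Nat.card N := by
        rcases Nat.lt_or_ge 1 (Nat.card N) with h | h
        · exact h
        · exfalso
          apply hNbot
          have h3 : Nat.card N = 1 := le_antisymm h Nat.card_pos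
          exact (Subgroup.card_eq_one).1 h3
      rw [h1]
      exact lt_mul_of_one_lt_right Nat.card_pos h2
    rw [hcard] at hlt
    exact hmin _ hlt ⟨G ⧸ N, inferInstance, inferInstance, _, hr', ⟨T', hT'⟩, rfl⟩
  · -- `N` realizes `F`
    have hιN : ∀ s : S, ι s ∈ N := by
      intro s
      have h1 : (s : Ω) ∈ preSub ι N := by rw [htop]; exact s.2
      exact (mem_preSub.1 h1).2
    set ιN : S →* N := ι.codRestrict N hιN with hιNdef
    have hrN : F.IsRealizedBy ιN := by
      refine ⟨fun a b hab => hinj (congrArg Subtype.val hab), fun P hP φ hφ => ?_⟩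
      rw [← hHom P]
      constructor
      · rintro ⟨_, _, n, hn, h⟩
        exact ⟨⟨n, hn⟩, fun x => Subtype.ext (h x)⟩
      · rintro ⟨g, h⟩
        exact ⟨by rw [htop]; exact hP, fun x => by rw [htop]; exact hφ x, g.1, g.2,
          fun x => congrArg Subtype.val (h x)⟩
    obtain ⟨R, hR⟩ := sylow_inf_normal_isSylowIn T N
    have hRr : (R : Subgroup N) = ιN.range := by
      rw [hR]
      ext ⟨y, hy⟩
      rw [Subgroup.mem_subgroupOf]
      constructor
      · rintro ⟨h1, -⟩
        rw [hT] at h1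
        obtain ⟨s, hs⟩ := h1
        exact ⟨s, Subtype.ext hs⟩
      · rintro ⟨s, hs⟩
        have e : ι s = y := congrArg Subtype.val hs
        refine ⟨?_, hy⟩
        show y ∈ (T : Subgroup G)
        rw [hT]
        exact ⟨s, e⟩
    rw [hcard] at hcardN_lt
    exact hmin _ hcardN_lt ⟨N, inferInstance, inferInstance, ιN, hrN, ⟨R, hRr⟩, rfl⟩

end Cfsg.Agent.S5343
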