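import Cfsg.Statements.S5344
import Mathlib
import Cfsg.Agent.Lib.H17.PresCert

set_option autoImplicit false
open Cfsg

namespace Cfsg.Agent.S5344

open Cfsg.Agent.Lib.H17.PresCert

def relW : List (Word (Fin 3)) :=
  [[(0, true), (0, true)], [(1, true), (1, true)], [(2, true), (2, true)], [(0, true), (1, true), (0, true), (1, true), (0, true), (1, true)], [(1, true), (2, true), (1, true), (2, true), (1, true), (2, true)], [(0, true), (2, true), (0, true), (2, true)]]

def hgens : List (Word (Fin 3)) := []

def reps : List (Word (Fin 3)) :=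
  [[],
   [(0, true)],
   [(1, true)],
   [(2, true)],
   [(0, true), (1, true)],
   [(0, true), (2, true)],
   [(1, true), (0, true)],
   [(1, true), (2, true)],
   [(2, true), (1, true)],
   [(0, true), (1, true), (0, true)],
   [(0, true), (1, true), (2, true)],
   [(0, true), (2, true), (1, true)],
   [(1, true), (0, true), (2, true)],
   [(1, true), (2, true), (1, true)],
   [(2, true), (1, true), (0, true)],
   [(0, true), (1, true), (0, true), (2, true)],
   [(0, true), (1, true), (2, true), (1, true)],
   [(0, true), (2, true), (1, true), (0, true)],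
   [(1, true), (0, true), (2, true), (1, true)],
   [(1, true), (2, true), (1, true), (0, true)],
   [(0, true), (1, true), (0, true), (2, true), (1, true)],
   [(0, true), (1, true), (2, true), (1, true), (0, true)],
   [(1, true), (0, true), (2, true), (1, true), (0, true)],
   [(0, true), (1, true), (0, true), (2, true), (1, true), (0, true)]]

def tab : List (Entry (Fin 3)) :=
  [⟨0, 0, 1, [], []⟩,
   ⟨0, 1, 2, [], []⟩,
   ⟨0, 2, 3, [], []⟩,
   ⟨1, 0, 0, [], [([], 0, true)]⟩,
   ⟨1, 1, 4, [], []⟩,
   ⟨1, 2, 5, [], []⟩,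
   ⟨2, 0, 6, [], []⟩,
   ⟨2, 1, 0, [], [([], 1, true)]⟩,
   ⟨2, 2, 7, [], []⟩,
   ⟨3, 0, 5, [], [([], 0, false), ([(0, true)], 5, true), ([(0, true)], 2, false)]⟩,
   ⟨3, 1, 8, [], []⟩,
   ⟨3, 2, 0, [], [([], 2, true)]⟩,
   ⟨4, 0, 9, [], []⟩,
   ⟨4, 1, 1, [], [([(0, true)], 1, true)]⟩,
   ⟨4, 2, 10, [], []⟩,
   ⟨5, 0, 3, [], [([], 5, true), ([], 2, false)]⟩,
   ⟨5, 1, 11, [], []⟩,
   ⟨5, 2, 1, [], [([(0, true)], 2, true)]⟩,
   ⟨6, 0, 2, [], [([(1, true)], 0, true)]⟩,
   ⟨6, 1, 9, [], [([(1, true), (0, true)], 1, true), ([(1, true)], 0, true), ([], 1, true), ([(0, true), (1, true)], 3, false)]⟩,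
   ⟨6, 2, 12, [], []⟩,
   ⟨7, 0, 12, [], [([(1, true)], 0, false), ([(1, true), (0, true)], 5, true), ([(1, true), (0, true)], 2, false)]⟩,
   ⟨7, 1, 13, [], []⟩,
   ⟨7, 2, 2, [], [([(1, true)], 2, true)]⟩,
   ⟨8, 0, 14, [], []⟩,
   ⟨8, 1, 3, [], [([(2, true)], 1, true)]⟩,
   ⟨8, 2, 13, [], [([(2, true), (1, true)], 2, true), ([(2, true)], 1, true), ([], 2, true), ([(1, true), (2, true)], 4, false)]⟩,
   ⟨9, 0, 4, [], [([(0, true), (1, true)], 0, true)]⟩,
   ⟨9, 1, 6, [], [([(0, true), (1, true)], 3, true), ([], 1, false), ([(1, true)], 0, false)]⟩,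
   ⟨9, 2, 15, [], []⟩,
   ⟨10, 0, 15, [], [([(0, true), (1, true)], 0, false), ([(0, true), (1, true), (0, true)], 5, true), ([(0, true), (1, true), (0, true)], 2, false)]⟩,
   ⟨10, 1, 16, [], []⟩,
   ⟨10, 2, 4, [], [([(0, true), (1, true)], 2, true)]⟩,
   ⟨11, 0, 17, [], []⟩,
   ⟨11, 1, 5, [], [([(0, true), (2, true)], 1, true)]⟩,
   ⟨11, 2, 16, [], [([(0, true), (2, true), (1, true)], 2, true), ([(0, true), (2, true)], 1, true), ([(0, true)], 2, true), ([(0, true), (1, true), (2, true)], 4, false)]⟩,
   ⟨12, 0, 7, [], [([(1, true)], 5, true), ([(1, true)], 2, false)]⟩,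
   ⟨12, 1, 18, [], []⟩,
   ⟨12, 2, 6, [], [([(1, true), (0, true)], 2, true)]⟩,
   ⟨13, 0, 19, [], []⟩,
   ⟨13, 1, 7, [], [([(1, true), (2, true)], 1, true)]⟩,
   ⟨13, 2, 8, [], [([(1, true), (2, true)], 4, true), ([], 2, false), ([(2, true)], 1, false)]⟩,
   ⟨14, 0, 8, [], [([(2, true), (1, true)], 0, true)]⟩,
   ⟨14, 1, 17, [], [([(2, true), (1, true), (0, true)], 1, true), ([(2, true), (1, true)], 0, true), ([(2, true)], 1, true), ([], 0, false), ([(0, true)], 5, true), ([(0, true)], 2, false), ([(0, true), (2, true), (1, true)], 3, false)]⟩,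
   ⟨14, 2, 19, [], [([(2, true), (1, true), (0, true)], 2, true), ([(2, true), (1, true)], 0, true), ([(2, true), (1, true)], 2, true), ([(2, true)], 1, true), ([], 2, true), ([(1, true), (2, true)], 4, false), ([(1, true), (2, true), (1, true)], 5, false)]⟩,
   ⟨15, 0, 10, [], [([(0, true), (1, true)], 5, true), ([(0, true), (1, true)], 2, false)]⟩,
   ⟨15, 1, 20, [], []⟩,
   ⟨15, 2, 9, [], [([(0, true), (1, true), (0, true)], 2, true)]⟩,
   ⟨16, 0, 21, [], []⟩,
   ⟨16, 1, 10, [], [([(0, true), (1, true), (2, true)], 1, true)]⟩,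
   ⟨16, 2, 11, [], [([(0, true), (1, true), (2, true)], 4, true), ([(0, true)], 2, false), ([(0, true), (2, true)], 1, false)]⟩,
   ⟨17, 0, 11, [], [([(0, true), (2, true), (1, true)], 0, true)]⟩,
   ⟨17, 1, 14, [], [([(0, true), (2, true), (1, true)], 3, true), ([(0, true)], 2, true), ([(0, true)], 5, false), ([], 0, true), ([(2, true)], 1, false), ([(2, true), (1, true)], 0, false)]⟩,
   ⟨17, 2, 21, [], [([(0, true), (2, true), (1, true), (0, true)], 2, true), ([(0, true), (2, true), (1, true)], 0, true), ([(0, true), (2, true), (1, true)], 2, true), ([(0, true), (2, true)], 1, true), ([(0, true)], 2, true), ([(0, true), (1, true), (2, true)], 4, false), ([(0, true), (1, true), (2, true), (1, true)], 5, false)]⟩,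
   ⟨18, 0, 22, [], []⟩,
   ⟨18, 1, 12, [], [([(1, true), (0, true), (2, true)], 1, true)]⟩,
   ⟨18, 2, 20, [], [([(1, true), (0, true), (2, true), (1, true)], 2, true), ([(1, true), (0, true), (2, true)], 1, true), ([(1, true), (0, true)], 2, true), ([(1, true), (0, true)], 1, true), ([(1, true)], 0, true), ([], 1, true), ([(0, true), (1, true)], 3, false), ([(0, true), (1, true), (0, true), (2, true)], 4, false)]⟩,
   ⟨19, 0, 13, [], [([(1, true), (2, true), (1, true)], 0, true)]⟩,
   ⟨19, 1, 22, [], [([(1, true), (2, true), (1, true), (0, true)], 1, true), ([(1, true), (2, true), (1, true)], 0, true), ([(1, true), (2, true)], 1, true), ([(1, true)], 0, false), ([(1, true), (0, true)], 5, true), ([(1, true), (0, true)], 2, false), ([(1, true), (0, true), (2, true), (1, true)], 3, false)]⟩,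
   ⟨19, 2, 14, [], [([(1, true), (2, true), (1, true)], 5, true), ([(1, true), (2, true)], 4, true), ([], 2, false), ([(2, true)], 1, false), ([(2, true), (1, true)], 2, false), ([(2, true), (1, true)], 0, false)]⟩,
   ⟨20, 0, 23, [], []⟩,
   ⟨20, 1, 15, [], [([(0, true), (1, true), (0, true), (2, true)], 1, true)]⟩,
   ⟨20, 2, 18, [], [([(0, true), (1, true), (0, true), (2, true)], 4, true), ([(0, true), (1, true)], 3, true), ([], 1, false), ([(1, true)], 0, false), ([(1, true), (0, true)], 1, false), ([(1, true), (0, true)], 2, false), ([(1, true), (0, true), (2, true)], 1, false)]⟩,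
   ⟨21, 0, 16, [], [([(0, true), (1, true), (2, true), (1, true)], 0, true)]⟩,
   ⟨21, 1, 23, [], [([(0, true), (1, true), (2, true), (1, true), (0, true)], 1, true), ([(0, true), (1, true), (2, true), (1, true)], 0, true), ([(0, true), (1, true), (2, true)], 1, true), ([(0, true), (1, true)], 0, false), ([(0, true), (1, true), (0, true)], 5, true), ([(0, true), (1, true), (0, true)], 2, false), ([(0, true), (1, true), (0, true), (2, true), (1, true)], 3, false)]⟩,
   ⟨21, 2, 17, [], [([(0, true), (1, true), (2, true), (1, true)], 5, true), ([(0, true), (1, true), (2, true)], 4, true), ([(0, true)], 2, false), ([(0, true), (2, true)], 1, false), ([(0, true), (2, true), (1, true)], 2, false), ([(0, true), (2, true), (1, true)], 0, false)]⟩,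
   ⟨22, 0, 18, [], [([(1, true), (0, true), (2, true), (1, true)], 0, true)]⟩,
   ⟨22, 1, 19, [], [([(1, true), (0, true), (2, true), (1, true)], 3, true), ([(1, true), (0, true)], 2, true), ([(1, true), (0, true)], 5, false), ([(1, true)], 0, true), ([(1, true), (2, true)], 1, false), ([(1, true), (2, true), (1, true)], 0, false)]⟩,
   ⟨22, 2, 23, [], [([(1, true), (0, true), (2, true), (1, true), (0, true)], 2, true), ([(1, true), (0, true), (2, true), (1, true)], 0, true), ([(1, true), (0, true), (2, true), (1, true)], 2, true), ([(1, true), (0, true), (2, true)], 1, true), ([(1, true), (0, true)], 2, true), ([(1, true), (0, true)], 1, true), ([(1, true)], 0, true), ([], 1, true), ([(0, true), (1, true)], 3, false), ([(0, true), (1, true), (0, true), (2, true)], 4, false), ([(0, true), (1, true), (0, true), (2, true), (1, true)], 5, false)]⟩,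
   ⟨23, 0, 20, [], [([(0, true), (1, true), (0, true), (2, true), (1, true)], 0, true)]⟩,
   ⟨23, 1, 21, [], [([(0, true), (1, true), (0, true), (2, true), (1, true)], 3, true), ([(0, true), (1, true), (0, true)], 2, true), ([(0, true), (1, true), (0, true)], 5, false), ([(0, true), (1, true)], 0, true), ([(0, true), (1, true), (2, true)], 1, false), ([(0, true), (1, true), (2, true), (1, true)], 0, false)]⟩,
   ⟨23, 2, 22, [], [([(0, true), (1, true), (0, true), (2, true), (1, true)], 5, true), ([(0, true), (1, true), (0, true), (2, true)], 4, true), ([(0, true), (1, true)], 3, true), ([], 1, false), ([(1, true)], 0, false), ([(1, true), (0, true)], 1, false), ([(1, true), (0, true)], 2, false), ([(1, true), (0, true), (2, true)], 1, false), ([(1, true), (0, true), (2, true), (1, true)], 2, false), ([(1, true), (0, true), (2, true), (1, true)], 0, false)]⟩]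

/-- the Coxeter relators of `S₄` -/
abbrev rels : Set (FreeGroup (Fin 3)) :=
  {FreeGroup.of (0 : Fin 3) ^ 2, FreeGroup.of (1 : Fin 3) ^ 2, FreeGroup.of (2 : Fin 3) ^ 2,
    (FreeGroup.of (0 : Fin 3) * FreeGroup.of 1) ^ 3, (FreeGroup.of (1 : Fin 3) * FreeGroup.of 2) ^ 3,
    (FreeGroup.of (0 : Fin 3) * FreeGroup.of 2) ^ 2}

theorem hrel : ∀ r ∈ relW, FreeGroup.mk r ∈ rels := by
  intro r hr
  simp only [relW, List.mem_cons, List.not_mem_nil, or_false] at hr
  rcases hr with rfl | rfl | rfl | rfl | rfl | rfl
  · left; decide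
  · right; left; decide
  · right; right; left; decide
  · right; right; right; left; decide
  · right; right; right; right; left; decide
  · right; right; right; right; right; decide

theorem hsub : subgroupOfWords rels hgens = ⊥ := by
  unfold subgroupOfWords
  rw [Subgroup.closure_eq_bot_iff]
  intro g hg
  simp [hgens] at hg

theorem card_le_24 : Finite (PresentedGroup rels) ∧ Nat.card (PresentedGroup rels) ≤ 24 := by
  have : Finite (subgroupOfWords rels hgens) := by rw [hsub]; infer_instance
  have h := card_le rels relW hgens reps [0, 1, 2] tab hrel (by decide) (by decide)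
  refine ⟨h.1, ?_⟩
  have h2 := h.2
  rw [hsub, Subgroup.card_bot, mul_one] at h2
  exact h2

/-- the map to `S₄` -/
def toPerm : PresentedGroup rels →* Equiv.Perm (Fin 4) :=
  PresentedGroup.toGroup (rels := rels)
    (f := ![Equiv.swap (0 : Fin 4) 1, Equiv.swap (1 : Fin 4) 2, Equiv.swap (2 : Fin 4) 3]) (by
      intro r hr
      simp only [Set.mem_insert_iff, Set.mem_singleton_iff] at hr
      rcases hr with rfl | rfl | rfl | rfl | rfl | rfl <;>
        simp only [map_pow, map_mul, FreeGroup.lift_apply_of] <;> decide)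

theorem toPerm_of0 : toPerm (PresentedGroup.of 0) = Equiv.swap (0 : Fin 4) 1 := by
  unfold toPerm; rw [PresentedGroup.toGroup.of]; rfl

theorem toPerm_of1 : toPerm (PresentedGroup.of 1) = Equiv.swap (1 : Fin 4) 2 := by
  unfold toPerm; rw [PresentedGroup.toGroup.of]; rfl

theorem toPerm_of2 : toPerm (PresentedGroup.of 2) = Equiv.swap (2 : Fin 4) 3 := by
  unfold toPerm; rw [PresentedGroup.toGroup.of]; rfl

theorem toPerm_surjective : Function.Surjective toPerm := by
  have key : ∀ g ∈ Submonoid.closure (Set.range fun i : Fin 3 => Equiv.swap i.castSucc i.succ),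
      g ∈ toPerm.range := by
    intro g hg
    induction hg using Submonoid.closure_induction with
    | mem x hx =>
      obtain ⟨i, rfl⟩ := hx
      fin_cases i
      · exact ⟨PresentedGroup.of 0, toPerm_of0⟩
      · exact ⟨PresentedGroup.of 1, toPerm_of1⟩
      · exact ⟨PresentedGroup.of 2, toPerm_of2⟩
    | one => exact one_mem _
    | mul x y _ _ hx hy => exact mul_mem hx hy
  intro g
  have h := Equiv.Perm.mclosure_swap_castSucc_succ 3
  have hg : g ∈ Submonoid.closure (Set.range fun i : Fin 3 => Equiv.swap i.castSucc i.succ) := by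
    rw [h]; trivial
  exact key g hg

theorem toPerm_bijective : Function.Bijective toPerm := by
  obtain ⟨hfin, hcard⟩ := card_le_24
  have := hfin
  rw [Nat.bijective_iff_surjective_and_card]
  refine ⟨toPerm_surjective, le_antisymm ?_ ?_⟩
  · have : Nat.card (Equiv.Perm (Fin 4)) = 24 := by
      rw [Nat.card_eq_fintype_card, Fintype.card_perm, Fintype.card_fin]; rfl
    rw [this]; exact hcard
  · exact Nat.card_le_card_of_surjective _ toPerm_surjective

/-- the presented group is `S₄` -/
noncomputable def equivPerm : PresentedGroup rels ≃* Equiv.Perm (Fin 4) :=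
  MulEquiv.ofBijective toPerm toPerm_bijective

theorem normal_contains : ∀ g : Equiv.Perm (Fin 4), g ≠ 1 →
    ∃ h k : Equiv.Perm (Fin 4), h * g * h⁻¹ * (k * g * k⁻¹) = Equiv.swap 0 1 * Equiv.swap 2 3 := by
  decide +kernel

/-- In a set of 3-transpositions, let a, b, c be members with a and c different and commuting, while neither a nor c commutes with b (a 3-string). Then there is an injective homomorphism from the symmetric group of degree 4 into the ambient group sending the transpositions (0 1), (1 2), (2 3) to a, b, c; so a, b, c generate a copy of the symmetric group of degree 4 in which they are transpositions. -/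
theorem result {G : Type*} [Group G] {D : Set G} (hD : Cfsg.IsThreeTranspositionSet D) {a b c : G} (ha : a ∈ D) (hb : b ∈ D) (hc : c ∈ D) (hac : a ≠ c) (hac' : Commute a c) (hab : ¬ Commute a b) (hbc : ¬ Commute b c) : ∃ φ : Equiv.Perm (Fin 4) →* G, Function.Injective φ ∧ φ (Equiv.swap 0 1) = a ∧ φ (Equiv.swap 1 2) = b ∧ φ (Equiv.swap 2 3) = c := by
  obtain ⟨hord, hprod⟩ := hD
  have ha2 : a * a = 1 := by
    have := hord a ha
    rw [← pow_two, ← this, pow_orderOf_eq_one]
  have hb2 : b * b = 1 := by
    have := hord b hb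
    rw [← pow_two, ← this, pow_orderOf_eq_one]
  have hc2 : c * c = 1 := by
    have := hord c hc
    rw [← pow_two, ← this, pow_orderOf_eq_one]
  have key : ∀ x y : G, x * x = 1 → y * y = 1 → (x * y) ^ 2 = 1 → Commute x y := by
    intro x y hx hy h
    have hxi : x⁻¹ = x := inv_eq_of_mul_eq_one_right hx
    have hyi : y⁻¹ = y := inv_eq_of_mul_eq_one_right hy
    have h1 : x * y = (x * y)⁻¹ := by
      rw [eq_inv_iff_mul_eq_one, ← pow_two]; exact h
    rw [mul_inv_rev, hxi, hyi] at h1
    exact h1
  have hab3 : (a * b) ^ 3 = 1 := by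
    rcases hprod a ha b hb with h | h
    · exact absurd (key a b ha2 hb2 h) hab
    · exact h
  have hbc3 : (b * c) ^ 3 = 1 := by
    rcases hprod b hb c hc with h | h
    · exact absurd (key b c hb2 hc2 h) hbc
    · exact h
  have hac2 : (a * c) ^ 2 = 1 := by
    rw [pow_two]
    calc a * c * (a * c) = a * (c * a) * c := by group
      _ = a * (a * c) * c := by rw [← hac'.eq]
      _ = (a * a) * (c * c) := by group
      _ = 1 := by rw [ha2, hc2, one_mul]
  let f : PresentedGroup rels →* G := PresentedGroup.toGroup (rels := rels) (f := ![a, b, c]) (by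
    intro r hr
    simp only [Set.mem_insert_iff, Set.mem_singleton_iff] at hr
    rcases hr with rfl | rfl | rfl | rfl | rfl | rfl
    · simp only [map_pow, FreeGroup.lift_apply_of]
      rw [pow_two]; exact ha2
    · simp only [map_pow, FreeGroup.lift_apply_of]
      rw [pow_two]; exact hb2
    · simp only [map_pow, FreeGroup.lift_apply_of]
      rw [pow_two]; exact hc2
    · simp only [map_pow, map_mul, FreeGroup.lift_apply_of]
      exact hab3
    · simp only [map_pow, map_mul, FreeGroup.lift_apply_of]
      exact hbc3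
    · simp only [map_pow, map_mul, FreeGroup.lift_apply_of]
      exact hac2)
  have hf0 : f (PresentedGroup.of 0) = a := by
    show PresentedGroup.toGroup _ (PresentedGroup.of 0) = a
    rw [PresentedGroup.toGroup.of]; rfl
  have hf1 : f (PresentedGroup.of 1) = b := by
    show PresentedGroup.toGroup _ (PresentedGroup.of 1) = b
    rw [PresentedGroup.toGroup.of]; rfl
  have hf2 : f (PresentedGroup.of 2) = c := by
    show PresentedGroup.toGroup _ (PresentedGroup.of 2) = c
    rw [PresentedGroup.toGroup.of]; rfl
  have he0 : equivPerm.symm (Equiv.swap 0 1) = PresentedGroup.of 0 := by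
    rw [MulEquiv.symm_apply_eq]; exact toPerm_of0.symm
  have he1 : equivPerm.symm (Equiv.swap 1 2) = PresentedGroup.of 1 := by
    rw [MulEquiv.symm_apply_eq]; exact toPerm_of1.symm
  have he2 : equivPerm.symm (Equiv.swap 2 3) = PresentedGroup.of 2 := by
    rw [MulEquiv.symm_apply_eq]; exact toPerm_of2.symm
  refine ⟨f.comp equivPerm.symm.toMonoidHom, ?_, ?_, ?_, ?_⟩
  · rw [injective_iff_map_eq_one]
    intro g hg
    by_contra hne
    obtain ⟨h, k, hk⟩ := normal_contains g hne
    have h1 : (f.comp equivPerm.symm.toMonoidHom) (Equiv.swap 0 1 * Equiv.swap 2 3) = 1 := by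
      rw [← hk]
      simp only [map_mul, map_inv, hg, mul_one, mul_inv_cancel]
    rw [map_mul] at h1
    simp only [MonoidHom.comp_apply, MulEquiv.coe_toMonoidHom, he0, he2, hf0, hf2] at h1
    apply hac
    calc a = a * (c * c) := by rw [hc2, mul_one]
      _ = (a * c) * c := by rw [mul_assoc]
      _ = c := by rw [h1, one_mul]
  · simp only [MonoidHom.comp_apply, MulEquiv.coe_toMonoidHom, he0, hf0]
  · simp only [MonoidHom.comp_apply, MulEquiv.coe_toMonoidHom, he1, hf1]
  · simp only [MonoidHom.comp_apply, MulEquiv.coe_toMonoidHom, he2, hf2]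

end Cfsg.Agent.S5344
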