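import Cfsg.Statements.S5345
import Cfsg.Agent.Lib.H26.Basic

set_option autoImplicit false
open Cfsg

namespace Cfsg.Agent.S5345

/-- Let D be a conjugation-invariant generating set of 3-transpositions of a finite group G and T a Sylow 2-subgroup of G. Then the members of D lying in T generate an abelian subgroup, and their number is the width of D (the largest number of pairwise commuting members of D). -/
theorem result {G : Type*} [Group G] [Finite G] {D : Set G} (hD : Cfsg.IsThreeTranspositionGroup D) (T : Sylow 2 G) : IsMulCommutative (Subgroup.closure {d : G | d ∈ D ∧ d ∈ T}) ∧ {d : G | d ∈ D ∧ d ∈ T}.ncard = Cfsg.commutingWidth D := by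
  classical
  obtain ⟨⟨hord, hprod⟩, hconj, hgen⟩ := hD
  have hsq : ∀ d ∈ D, d ^ 2 = 1 := fun d hd => by rw [← hord d hd]; exact pow_orderOf_eq_one d
  have hinv' : ∀ d ∈ D, d⁻¹ = d := fun d hd => by
    rw [inv_eq_iff_mul_eq_one, ← sq]; exact hsq d hd
  have hcomm2 : ∀ (Q : Subgroup G), IsPGroup 2 Q → ∀ a ∈ D, ∀ b ∈ D, a ∈ Q → b ∈ Q →
      a * b = b * a := by
    intro Q hQ a ha b hb haQ hbQ
    have hab : a * b ∈ Q := Q.mul_mem haQ hbQ
    obtain ⟨k, hk⟩ := hQ ⟨a * b, hab⟩
    have hk' : (a * b) ^ (2 ^ k) = 1 := by simpa using congrArg Subtype.val hk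
    have h2 : (a * b) ^ 2 = 1 := by
      rcases hprod a ha b hb with h | h
      · exact h
      · have h1 : a * b = 1 := by
          have d1 := orderOf_dvd_of_pow_eq_one hk'
          have d2 := orderOf_dvd_of_pow_eq_one h
          have hc : Nat.Coprime (2 ^ k) 3 := by
            apply Nat.Coprime.pow_left; decide
          exact orderOf_eq_one_iff.mp (Nat.eq_one_of_dvd_coprimes hc d1 d2)
        rw [h1, one_pow]
    have h3 : a * b = (a * b)⁻¹ := by
      rw [eq_inv_iff_mul_eq_one, ← sq]; exact h2
    rw [h3, mul_inv_rev, hinv' a ha, hinv' b hb]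
  refine ⟨Subgroup.isMulCommutative_closure
    (fun x hx y hy => hcomm2 T T.2 x hx.1 y hy.1 hx.2 hy.2), ?_⟩
  unfold Cfsg.commutingWidth
  symm
  apply IsGreatest.csSup_eq
  constructor
  · exact ⟨{d : G | d ∈ D ∧ d ∈ T}, fun x hx => hx.1, Set.toFinite _,
      fun a ha b hb => hcomm2 T T.2 a ha.1 b hb.1 ha.2 hb.2, rfl⟩
  · rintro n ⟨E, hED, hEfin, hEcomm, rfl⟩
    have hEcomm' : ∀ x ∈ E, ∀ y ∈ E, x * y = y * x := fun x hx y hy => hEcomm x hx y hy
    have hHc : IsMulCommutative (Subgroup.closure E) := Subgroup.isMulCommutative_closure hEcomm'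
    have hH2 : ∀ x ∈ Subgroup.closure E, x ^ 2 = 1 := by
      intro x hx
      induction hx using Subgroup.closure_induction with
      | mem x hx => exact hsq x (hED hx)
      | one => exact one_pow 2
      | mul x y hx hy ihx ihy =>
        have hc : Commute x y := setLike_mul_comm (s := Subgroup.closure E) hx hy
        rw [hc.mul_pow, ihx, ihy, one_mul]
      | inv x hx ih => rw [inv_pow, ih, inv_one]
    have hHp : IsPGroup 2 (Subgroup.closure E) := fun x =>
      ⟨1, Subtype.ext (by simpa using hH2 x x.2)⟩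
    obtain ⟨g, hg⟩ := Cfsg.Agent.Lib.H26.exists_conj_mem_sylow T (Subgroup.closure E) hHp
    apply Set.ncard_le_ncard_of_injOn (fun e => g * e * g⁻¹)
    · intro e he
      exact ⟨hconj g e (hED he), hg e (Subgroup.subset_closure he)⟩
    · intro a _ b _ hab
      simpa using hab


end Cfsg.Agent.S5345
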