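import Cfsg.Statements.S5346
import Cfsg.Agent.S5561
import Cfsg.Agent.Lib.H1.PCore

set_option autoImplicit false
open Cfsg

namespace Cfsg.Agent.S5346


/-- Let D be a conjugation-invariant generating set of 3-transpositions of a finite group G and d a member of D. Then D has width 1 (no two different members of D commute) if and only if G is the product of the subgroup generated by d with the largest normal 3-subgroup of G. -/
theorem result {G : Type*} [Group G] [Finite G] {D : Set G} (hD : Cfsg.IsThreeTranspositionGroup D) {d : G} (hd : d ∈ D) : Cfsg.commutingWidth D = 1 ↔ Subgroup.zpowers d ⊔ Cfsg.pCore 3 G = ⊤ := by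
  obtain ⟨⟨hinv, hprod⟩, hconj, hgen⟩ := hD
  have hN : (Cfsg.pCore 3 G).Normal := Cfsg.Agent.Lib.H1.pCore_normal 3 G
  haveI : Fact (Nat.Prime 3) := ⟨Nat.prime_three⟩
  have hNp : IsPGroup 3 (Cfsg.pCore 3 G) := Cfsg.Agent.Lib.H1.pCore_isPGroup 3 G
  have hsq : ∀ a ∈ D, a * a = 1 := by
    intro a ha
    rw [← pow_two, ← hinv a ha]; exact pow_orderOf_eq_one a
  have hinvs : ∀ a ∈ D, a⁻¹ = a := fun a ha => inv_eq_of_mul_eq_one_right (hsq a ha)
  have hne1 : ∀ a ∈ D, a ≠ 1 := by
    intro a ha h1
    have := hinv a ha
    rw [h1, orderOf_one] at this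
    norm_num at this
  -- the set defining the width is bounded
  have hbdd : BddAbove {n : ℕ | ∃ E : Set G, E ⊆ D ∧ E.Finite ∧ (∀ a ∈ E, ∀ b ∈ E, Commute a b) ∧
      E.ncard = n} := by
    refine ⟨Nat.card G, ?_⟩
    rintro n ⟨E, -, -, -, rfl⟩
    rw [← Set.ncard_univ]
    exact Set.ncard_le_ncard (Set.subset_univ E) Set.finite_univ
  constructor
  · intro hw
    -- distinct members do not commute
    have hnc : ∀ a ∈ D, ∀ b ∈ D, Commute a b → a = b := by
      intro a ha b hb hab
      by_contra hne
      have h2 : (2 : ℕ) ∈ {n : ℕ | ∃ E : Set G, E ⊆ D ∧ E.Finite ∧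
          (∀ a ∈ E, ∀ b ∈ E, Commute a b) ∧ E.ncard = n} := by
        refine ⟨{a, b}, ?_, Set.toFinite _, ?_, Set.ncard_pair hne⟩
        · intro x hx
          rcases hx with rfl | rfl
          · exact ha
          · exact hb
        · intro x hx y hy
          rcases hx with rfl | rfl <;> rcases hy with rfl | rfl
          · exact Commute.refl _
          · exact hab
          · exact hab.symm
          · exact Commute.refl _
      have := le_csSup hbdd h2
      unfold Cfsg.commutingWidth at hw
      omega
    -- products of members have 3-power order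
    have hord : ∀ a ∈ D, ∀ b ∈ D, ∃ k : ℕ, orderOf (a * b) = 3 ^ k := by
      intro a ha b hb
      by_cases hab : a = b
      · refine ⟨0, ?_⟩
        rw [hab, hsq b hb, orderOf_one, pow_zero]
      · rcases hprod a ha b hb with h2 | h3
        · exfalso
          apply hab
          apply hnc a ha b hb
          -- (ab)^2 = 1 ⇒ ab = ba
          have h4 : a * b * (a * b) = 1 := by rw [← pow_two]; exact h2
          have h5 : a * b = (a * b)⁻¹ := (inv_eq_of_mul_eq_one_right h4).symm
          rw [mul_inv_rev, hinvs a ha, hinvs b hb] at h5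
          exact h5
        · refine ⟨1, ?_⟩
          rw [pow_one]
          apply orderOf_eq_prime h3
          intro h1
          apply hab
          have : a = b⁻¹ := eq_inv_of_mul_eq_one_left h1
          rw [this, hinvs b hb]
    have hdo : orderOf d = 2 := hinv d hd
    have hcd : ∀ a ∈ conjugatesOf d, a ∈ D := by
      intro a ha
      have ha' : IsConj d a := ha
      obtain ⟨g, hg⟩ := isConj_iff.1 ha'
      rw [← hg]
      exact hconj g d hd
    have hS := Cfsg.Agent.S5561.result d hdo
      (fun a ha b hb => hord a (hcd a ha) b (hcd b hb))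
    -- every member of D is a conjugate of d
    have hall : ∀ e ∈ D, e ∈ conjugatesOf d := by
      intro e he
      show IsConj d e
      rw [isConj_iff]
      by_cases hde : d = e
      · exact ⟨1, by rw [hde]; group⟩
      · refine ⟨d * e, ?_⟩
        rcases hprod d hd e he with h2 | h3
        · exfalso
          apply hde
          apply hnc d hd e he
          have h4 : d * e * (d * e) = 1 := by rw [← pow_two]; exact h2
          have h5 : d * e = (d * e)⁻¹ := (inv_eq_of_mul_eq_one_right h4).symm
          rw [mul_inv_rev, hinvs d hd, hinvs e he] at h5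
          exact h5
        · -- (de) d (de)⁻¹ = e
          have h6 : d * e * (d * e) * (d * e) = 1 := by
            rw [← h3, pow_succ, pow_two]
          rw [mul_inv_rev, hinvs d hd, hinvs e he]
          -- d e d e d = e
          have h13 : d * e * d * e * d = e⁻¹ := by
            have h8 : d * e * d * e * d * e = 1 := by
              have : d * e * (d * e) * (d * e) = d * e * d * e * d * e := by group
              rw [← this]; exact h6
            exact eq_inv_of_mul_eq_one_left h8
          calc d * e * d * (e * d) = d * e * d * e * d := by group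
            _ = e⁻¹ := h13
            _ = e := hinvs e he
    -- conclude
    rw [eq_top_iff, ← hgen, Subgroup.closure_le]
    intro e he
    have hdc : d ∈ conjugatesOf d := mem_conjugatesOf_self
    have h1 := hS d hdc e (hall e he)
    have h2 : e = d * (d * e) := by
      rw [← mul_assoc, hsq d hd, one_mul]
    rw [h2]
    exact Subgroup.mul_mem _ ((le_sup_left : Subgroup.zpowers d ≤ _) (Subgroup.mem_zpowers d))
      ((le_sup_right : Cfsg.pCore 3 G ≤ _) h1)
  · intro htop
    -- members of D lie in the coset d N
    have hcoset : ∀ a ∈ D, d * a ∈ Cfsg.pCore 3 G := by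
      intro a ha
      have hmem : a ∈ Subgroup.zpowers d ⊔ Cfsg.pCore 3 G := by rw [htop]; exact Subgroup.mem_top a
      rw [Subgroup.mem_sup_of_normal_right] at hmem
      obtain ⟨y, hy, n, hn, rfl⟩ := hmem
      obtain ⟨k, rfl⟩ := Subgroup.mem_zpowers_iff.1 hy
      -- d^k is 1 or d
      have hk : d ^ k = 1 ∨ d ^ k = d := by
        rcases Int.emod_two_eq_zero_or_one k with h0 | h1
        · left
          have : k = 2 * (k / 2) := by omega
          rw [this, zpow_mul, zpow_ofNat, pow_two, hsq d hd, one_zpow]
        · right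
          have : k = 2 * (k / 2) + 1 := by omega
          rw [this, zpow_add, zpow_mul, zpow_ofNat, pow_two, hsq d hd, one_zpow, one_mul, zpow_one]
      rcases hk with hk | hk
      · exfalso
        rw [hk, one_mul] at ha
        -- n ∈ N is an involution in a 3-group
        obtain ⟨j, hj⟩ := hNp ⟨n, hn⟩
        have hj' : n ^ 3 ^ j = 1 := congrArg Subtype.val hj
        have h2 : orderOf n ∣ 3 ^ j := orderOf_dvd_of_pow_eq_one hj'
        rw [hinv n ha] at h2
        have := (Nat.Prime.dvd_of_dvd_pow Nat.prime_two h2)
        norm_num at this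
      · rw [hk, ← mul_assoc, hsq d hd, one_mul]
        exact hn
    have hsub : ∀ E : Set G, E ⊆ D → (∀ a ∈ E, ∀ b ∈ E, Commute a b) → E.Subsingleton := by
      intro E hE hcomm a ha b hb
      have h1 := hcoset a (hE ha)
      have h2 := hcoset b (hE hb)
      -- a * b = (d a)⁻¹ * (d b) ∈ N
      have h3 : a * b ∈ Cfsg.pCore 3 G := by
        have : a * b = (d * a)⁻¹ * (d * b) := by
          calc a * b = a⁻¹ * b := by rw [hinvs a (hE ha)]
            _ = (d * a)⁻¹ * (d * b) := by group
        rw [this]
        exact Subgroup.mul_mem _ (Subgroup.inv_mem _ h1) h2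
      obtain ⟨j, hj⟩ := hNp ⟨a * b, h3⟩
      have hj' : (a * b) ^ 3 ^ j = 1 := congrArg Subtype.val hj
      have hc : a * b = b * a := (hcomm a ha b hb).eq
      have h4 : (a * b) ^ 2 = 1 := by
        rw [pow_two]
        calc a * b * (a * b) = a * (b * a) * b := by group
          _ = a * (a * b) * b := by rw [hc]
          _ = (a * a) * (b * b) := by group
          _ = 1 := by rw [hsq a (hE ha), hsq b (hE hb), one_mul]
      have h5 : orderOf (a * b) ∣ 2 := orderOf_dvd_of_pow_eq_one h4
      have h6 : orderOf (a * b) ∣ 3 ^ j := orderOf_dvd_of_pow_eq_one hj'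
      have h7 : orderOf (a * b) = 1 := by
        have hcop : Nat.Coprime 2 (3 ^ j) := Nat.Coprime.pow_right j (by norm_num)
        exact Nat.eq_one_of_dvd_coprimes hcop h5 h6
      have h8 : a * b = 1 := orderOf_eq_one_iff.1 h7
      have h9 : a = b⁻¹ := eq_inv_of_mul_eq_one_left h8
      rw [h9, hinvs b (hE hb)]
    unfold Cfsg.commutingWidth
    apply le_antisymm
    · have hne : Set.Nonempty {n : ℕ | ∃ E : Set G, E ⊆ D ∧ E.Finite ∧
          (∀ a ∈ E, ∀ b ∈ E, Commute a b) ∧ E.ncard = n} :=
        ⟨0, ∅, Set.empty_subset _, Set.finite_empty,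
          fun a ha => absurd ha (Set.notMem_empty a), Set.ncard_empty G⟩
      apply csSup_le hne
      rintro n ⟨E, hE, -, hcomm, rfl⟩
      exact Set.ncard_le_one_iff_subsingleton.2 (hsub E hE hcomm)
    · apply le_csSup hbdd
      refine ⟨{d}, Set.singleton_subset_iff.2 hd, Set.finite_singleton d, ?_, Set.ncard_singleton d⟩
      intro a ha b hb
      rw [Set.mem_singleton_iff] at ha hb
      rw [ha, hb]

end Cfsg.Agent.S5346
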