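import Cfsg.Statements.S5347
-- import your own Cfsg.Agent.* helpers here

set_option autoImplicit false
open Cfsg

namespace Cfsg.Agent.S5347

/-- Let D be a conjugation-invariant generating set of 3-transpositions of a finite group G, p a prime bigger than 3, and P a p-subgroup of G. If a member d of D normalizes P then d centralizes P. -/
theorem result {G : Type*} [Group G] [Finite G] {D : Set G} (hD : Cfsg.IsThreeTranspositionGroup D) {p : ℕ} (hp : p.Prime) (hp3 : 3 < p) (P : Subgroup G) (hP : IsPGroup p P) {d : G} (hd : d ∈ D) (hnorm : d ∈ Subgroup.normalizer (P : Set G)) : ∀ x ∈ P, Commute d x := by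
  intro x hx
  obtain ⟨⟨hord, hprod⟩, hconj, -⟩ := hD
  have hd2 : d ^ 2 = 1 := by rw [← hord d hd]; exact pow_orderOf_eq_one d
  have hdinv : d⁻¹ = d := by
    rw [inv_eq_iff_mul_eq_one, ← sq]; exact hd2
  have he : x * d * x⁻¹ ∈ D := hconj x d hd
  -- the product d * (x d x⁻¹) lies in P
  have hdx : d * x * d⁻¹ ∈ P := (Subgroup.mem_normalizer_iff.mp hnorm x).mp hx
  have hmem : d * (x * d * x⁻¹) ∈ P := by
    have : d * (x * d * x⁻¹) = (d * x * d⁻¹) * x⁻¹ := by rw [hdinv]; group
    rw [this]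
    exact P.mul_mem hdx (P.inv_mem hx)
  obtain ⟨k, hk⟩ := hP ⟨_, hmem⟩
  have hk' : (d * (x * d * x⁻¹)) ^ (p ^ k) = 1 := by
    have := congrArg Subtype.val hk
    simpa using this
  have h6 : (d * (x * d * x⁻¹)) ^ 6 = 1 := by
    rcases hprod d hd _ he with h | h
    · calc (d * (x * d * x⁻¹)) ^ 6 = ((d * (x * d * x⁻¹)) ^ 2) ^ 3 := by rw [← pow_mul]
        _ = 1 := by rw [h, one_pow]
    · calc (d * (x * d * x⁻¹)) ^ 6 = ((d * (x * d * x⁻¹)) ^ 3) ^ 2 := by rw [← pow_mul]
        _ = 1 := by rw [h, one_pow]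
  have hcop : Nat.Coprime (p ^ k) 6 := by
    apply Nat.Coprime.pow_left
    have h2 : Nat.Coprime p 2 := by
      rw [Nat.coprime_primes hp Nat.prime_two]; omega
    have h3 : Nat.Coprime p 3 := by
      rw [Nat.coprime_primes hp Nat.prime_three]; omega
    exact Nat.Coprime.mul_right h2 h3
  have h1 : d * (x * d * x⁻¹) = 1 := by
    have hdvd1 := orderOf_dvd_of_pow_eq_one hk'
    have hdvd2 := orderOf_dvd_of_pow_eq_one h6
    have := Nat.eq_one_of_dvd_coprimes hcop hdvd1 hdvd2
    exact orderOf_eq_one_iff.mp this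
  -- d x d x⁻¹ = 1  →  d x = x d
  show d * x = x * d
  have h2 : d * x * d = x := by
    have : d * x * d = (d * (x * d * x⁻¹)) * x := by group
    rw [this, h1, one_mul]
  calc d * x = d * x * d * d⁻¹ := by group
    _ = x * d := by rw [h2, hdinv]


end Cfsg.Agent.S5347
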