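import Cfsg.Statements.S5350
import Cfsg.Agent.Lib.H7.TTW

set_option autoImplicit false
open Cfsg

namespace Cfsg.Agent.S5350

/-- Let D be a conjugacy class of 3-transpositions generating the finite group G, with at least two members, and d a member of D. Then the set of members w of D whose commuting partners in D (other than w) are exactly those of d (other than d) coincides with the set of members of D lying in the coset of d modulo the largest normal 3-subgroup of G, and also with the orbit of d under conjugation by that normal 3-subgroup. -/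
theorem result {G : Type*} [Group G] [Finite G] {D : Set G} (hD : Cfsg.IsThreeTranspositionClass D) (hD2 : ∃ a ∈ D, ∃ b ∈ D, a ≠ b) {d : G} (hd : d ∈ D) : {w : G | w ∈ D ∧ {y : G | y ∈ D ∧ y ≠ d ∧ Commute d y} = {y : G | y ∈ D ∧ y ≠ w ∧ Commute w y}} = {w : G | w ∈ D ∧ d⁻¹ * w ∈ Cfsg.pCore 3 G} ∧ {w : G | w ∈ D ∧ {y : G | y ∈ D ∧ y ≠ d ∧ Commute d y} = {y : G | y ∈ D ∧ y ≠ w ∧ Commute w y}} = {w : G | ∃ g ∈ Cfsg.pCore 3 G, w = g * d * g⁻¹} := by
  classical
  haveI : Fact (Nat.Prime 3) := ⟨Nat.prime_three⟩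
  have hS := hD.1
  have hconj := Cfsg.Agent.Lib.H26.ThreeTrans.class_conj hD
  haveI hQn : (Cfsg.pCore 3 G).Normal := Cfsg.Agent.Lib.H1.pCore_normal 3 G
  have hQ : IsPGroup 3 (Cfsg.pCore 3 G) := Cfsg.Agent.Lib.H1.pCore_isPGroup 3 G
  have hdinv : d⁻¹ = d := Cfsg.Agent.Lib.H26.ThreeTrans.inv_eq hS hd
  have hset : {w : G | w ∈ D ∧ {y : G | y ∈ D ∧ y ≠ d ∧ Commute d y} = {y : G | y ∈ D ∧ y ≠ w ∧ Commute w y}}
      = {w : G | Cfsg.Agent.Lib.H7.TT.Weq D d w} := rfl
  rw [hset]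
  constructor
  · ext w
    constructor
    · intro hw
      refine ⟨hw.1, ?_⟩
      rw [hdinv]
      exact Cfsg.Agent.Lib.H7.TT.mul_mem_pCore_of_weq hS hconj hd hw
    · rintro ⟨hw, h⟩
      rw [hdinv] at h
      exact Cfsg.Agent.Lib.H7.TT.weq_of_mul_mem hS hQ hd hw h
  · ext w
    constructor
    · intro hw
      refine ⟨d * w, Cfsg.Agent.Lib.H7.TT.mul_mem_pCore_of_weq hS hconj hd hw, ?_⟩
      exact (Cfsg.Agent.Lib.H7.TT.conj_eq_of_weq hS hd hw).symm
    · rintro ⟨g, hg, rfl⟩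
      apply Cfsg.Agent.Lib.H7.TT.weq_of_mul_mem hS hQ hd (hconj g d hd)
      have h1 : d * g * d⁻¹ ∈ Cfsg.pCore 3 G := hQn.conj_mem _ hg d
      have : d * (g * d * g⁻¹) = (d * g * d⁻¹) * g⁻¹ := by rw [hdinv]; group
      rw [this]
      exact Subgroup.mul_mem _ h1 (Subgroup.inv_mem _ hg)

end Cfsg.Agent.S5350
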