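import Cfsg.Statements.S5354
import Cfsg.Agent.Lib.H7.TTMax

set_option autoImplicit false
open Cfsg
open Cfsg.Agent.Lib.H7.TT Cfsg.Agent.Lib.H26.ThreeTrans

namespace Cfsg.Agent.S5354

/-- Let D be a conjugation-invariant generating set of 3-transpositions of the finite group G on which G acts primitively by conjugation, and suppose two different members of D commute (width at least 2). Then G has a quasisimple normal subgroup L of index at most 2 with the generalized Fitting subgroup of G equal to L times the centre, the commuting graph of D is connected, and for d in D the subgroup generated by the members of D commuting with d is a maximal D-subgroup: it is proper, and every subgroup generated by members of D that contains it is either it or G. -/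
theorem result {G : Type*} [Group G] [Finite G] {D : Set G} (hD : Cfsg.IsThreeTranspositionGroup D) (hprim : Cfsg.IsPrimitiveUnderConj D) (hw : ∃ a ∈ D, ∃ b ∈ D, a ≠ b ∧ Commute a b) : (∃ L : Subgroup G, L.Normal ∧ Cfsg.IsQuasisimple L ∧ L.index ≤ 2 ∧ Cfsg.generalizedFittingSubgroup G = L ⊔ Subgroup.center G) ∧ (Cfsg.commutingGraph D).Connected ∧ ∀ d ∈ D, Subgroup.closure {y : G | y ∈ D ∧ Commute d y} ≠ ⊤ ∧ ∀ H : Subgroup G, Cfsg.IsDSubgroup D H → Subgroup.closure {y : G | y ∈ D ∧ Commute d y} ≤ H → H = Subgroup.closure {y : G | y ∈ D ∧ Commute d y} ∨ H = ⊤ := by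
  have hD2 := hprim.2.1
  have hcls : Cfsg.IsThreeTranspositionClass D := by
    refine ⟨hD.1, ?_, hD.2.2⟩
    obtain ⟨a, ha, -⟩ := hD2
    refine ⟨a, ha, ?_⟩
    ext b
    rw [mem_conjugatesOf_iff', isConj_iff]
    constructor
    · intro hb
      exact hprim.1 a ha b hb
    · rintro ⟨g, rfl⟩
      exact hD.2.1 g a ha
  have h2 := pCore_two_le_center_of_primitive hcls hprim
  have h3 := pCore_three_le_center_of_primitive hcls hprim hw
  have hconn := connected_of_primitive hD.2.1 hprim hw
  have hne := layer_ne_bot_of_le_center hcls hD2 h2 h3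
  rw [Ne, Cfsg.Agent.Lib.H7.layer_eq_bot_iff] at hne
  push Not at hne
  obtain ⟨L, hL⟩ := hne
  refine ⟨⟨L, component_normal hcls hL, hL.2, index_le_two_of_connected hcls hL hconn,
    generalizedFittingSubgroup_eq hcls h2 h3 hL⟩, hconn, ?_⟩
  intro d hd
  exact ⟨closure_commuting_ne_top hcls hD2 hd,
    fun H hH hle => maximal_dsubgroup hcls hprim hw hd hH hle⟩

end Cfsg.Agent.S5354
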