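import Cfsg.Statements.S5355
import Cfsg.Agent.Lib.H26.ThreeTransS4c

set_option autoImplicit false
open Cfsg

namespace Cfsg.Agent.S5355

/-- Let D be a conjugacy class of 3-transpositions generating the finite group G, with at least two members, and d a member of D. Suppose that every member of D commuting with d commutes with exactly the same members of D as d does, and that exactly one member of D other than d commutes with d. Then G is isomorphic to the symmetric group of degree 4. -/
theorem result {G : Type*} [Group G] [Finite G] {D : Set G} (hD : Cfsg.IsThreeTranspositionClass D) (hD2 : ∃ a ∈ D, ∃ b ∈ D, a ≠ b) {d : G} (hd : d ∈ D) (hV : {y : G | y ∈ D ∧ Commute d y} = {v : G | v ∈ D ∧ ∀ e ∈ D, Commute v e ↔ Commute d e}) (hm : {y : G | y ∈ D ∧ Commute d y}.ncard = 2) : Nonempty (G ≃* Equiv.Perm (Fin 4)) := by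
  classical
  have hS := hD.1
  have hconj := Cfsg.Agent.Lib.H26.ThreeTrans.class_conj hD
  -- the commuting set of d is {d, v}
  obtain ⟨x, y, hxy, hset⟩ := Set.ncard_eq_two.1 hm
  have hdmem : d ∈ {y : G | y ∈ D ∧ Commute d y} := ⟨hd, Commute.refl d⟩
  obtain ⟨v, hvne, hvmem, hall⟩ : ∃ v : G, v ≠ d ∧ v ∈ {y : G | y ∈ D ∧ Commute d y} ∧
      ∀ z ∈ {y : G | y ∈ D ∧ Commute d y}, z = d ∨ z = v := by
    have hd' := hdmem
    rw [hset] at hd'
    rcases hd' with e | e
    · refine ⟨y, ?_, ?_, ?_⟩
      · rw [e]; exact fun h => hxy h.symm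
      · rw [hset]; exact Or.inr rfl
      · intro z hz
        rw [hset] at hz
        rcases hz with hz | hz
        · left; rw [hz, e]
        · right; exact hz
    · rw [Set.mem_singleton_iff] at e
      refine ⟨x, ?_, ?_, ?_⟩
      · rw [e]; exact hxy
      · rw [hset]; exact Or.inl rfl
      · intro z hz
        rw [hset] at hz
        rcases hz with hz | hz
        · right; exact hz
        · left; rw [Set.mem_singleton_iff] at hz; rw [hz, e]
  have hveq : Cfsg.Agent.Lib.H26.ThreeTrans.Veq D d v := by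
    have := hvmem
    rw [hV] at this
    exact this
  have hctx : Cfsg.Agent.Lib.H26.ThreeTrans.PairCtx D := by
    refine ⟨hS, hconj, ?_⟩
    intro x hx
    have hx' := hx
    rw [Cfsg.Agent.Lib.H26.ThreeTrans.class_eq_conjugatesOf hD hd] at hx'
    obtain ⟨g, rfl⟩ := isConj_iff.1 hx'
    refine ⟨g * v * g⁻¹, hconj g v hveq.1, ?_, hveq.conj hconj g, ?_⟩
    · intro e
      apply hvne
      have := congrArg (fun z => g⁻¹ * z * g) e
      simpa [mul_assoc] using this
    · intro z hz hcm
      have hz' : g⁻¹ * z * g ∈ D := by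
        have := hconj g⁻¹ z hz
        rwa [inv_inv] at this
      have hcm' : Commute d (g⁻¹ * z * g) := by
        have e : g * d * g⁻¹ * z = z * (g * d * g⁻¹) := hcm
        show d * (g⁻¹ * z * g) = g⁻¹ * z * g * d
        calc d * (g⁻¹ * z * g) = g⁻¹ * (g * d * g⁻¹ * z) * g := by group
          _ = g⁻¹ * (z * (g * d * g⁻¹)) * g := by rw [e]
          _ = g⁻¹ * z * g * d := by group
      rcases hall _ ⟨hz', hcm'⟩ with e | e
      · left
        calc z = g * (g⁻¹ * z * g) * g⁻¹ := by group
          _ = g * d * g⁻¹ := by rw [e]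
      · right
        calc z = g * (g⁻¹ * z * g) * g⁻¹ := by group
          _ = g * v * g⁻¹ := by rw [e]
  obtain ⟨a, ha, hda⟩ := Cfsg.Agent.Lib.H26.ThreeTrans.exists_not_commute hD hD2 hd
  obtain ⟨a', haa'⟩ := hctx.exists_partner ha
  have hdv : Cfsg.Agent.Lib.H26.ThreeTrans.IsPartner D d v :=
    ⟨hd, hveq.1, hvne, hveq.commute hd⟩
  exact hctx.equiv_perm_four hdv haa' (fun hcm => hda hcm.symm) hD.2.2

end Cfsg.Agent.S5355
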