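import Cfsg.Statements.S5357
import Cfsg.Agent.Lib.H11.SpinSign

set_option autoImplicit false
open scoped MatrixGroups
open Cfsg

namespace Cfsg.Agent.S5357

open Cfsg.Agent.Lib.H11.CD Cfsg.Agent.Lib.H11.SpinSign

section general
variable {F : Type*} [Field F] {n : ℕ} (Q : QuadraticForm F (Fin n → F))

theorem exists_aniso_perp (hQ : (QuadraticMap.polarBilin Q).Nondegenerate) (h2 : (2 : F) ≠ 0)
    {k : ℕ} (hk : k < n) (s : Fin k → (Fin n → F)) (hs : ∀ i, Q (s i) ≠ 0)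
    (hortho : ∀ i j, i ≠ j → QuadraticMap.polar (⇑Q) (s i) (s j) = 0) :
    ∃ z, Q z ≠ 0 ∧ ∀ i, QuadraticMap.polar (⇑Q) (s i) z = 0 := by
  classical
  let f : (Fin n → F) →ₗ[F] (Fin k → F) := LinearMap.pi (fun i => QuadraticMap.polarBilin Q (s i))
  have hker : LinearMap.ker f ≠ ⊥ := by
    apply LinearMap.ker_ne_bot_of_finrank_lt
    simp [hk]
  obtain ⟨z0, hz0, hz0ne⟩ := (Submodule.ne_bot_iff _).1 hker
  have hz0s : ∀ i, QuadraticMap.polar (⇑Q) (s i) z0 = 0 := fun i => by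
    have := congrFun (LinearMap.mem_ker.1 hz0) i
    simpa [f] using this
  by_contra hcon
  push Not at hcon
  have hcon' : ∀ z, (∀ i, QuadraticMap.polar (⇑Q) (s i) z = 0) → Q z = 0 := by
    intro z hz
    by_contra h
    obtain ⟨i, hi⟩ := hcon z h
    exact hi (hz i)
  apply hz0ne
  apply hQ.1 z0
  intro t
  let a : Fin k → F := fun i => (QuadraticMap.polar (⇑Q) (s i) (s i))⁻¹ * QuadraticMap.polar (⇑Q) (s i) t
  have hpol : ∀ x (b : Fin k → F), QuadraticMap.polar (⇑Q) x (∑ i, b i • s i) =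
      ∑ i, b i * QuadraticMap.polar (⇑Q) x (s i) := by
    intro x b
    have := map_sum (QuadraticMap.polarBilin Q x) (fun i => b i • s i) Finset.univ
    simp only [QuadraticMap.polarBilin_apply_apply, map_smul, smul_eq_mul] at this
    exact this
  have hp : ∀ j, QuadraticMap.polar (⇑Q) (s j) (t - ∑ i, a i • s i) = 0 := by
    intro j
    rw [QuadraticMap.polar_sub_right, hpol, Finset.sum_eq_single j]
    · have : QuadraticMap.polar (⇑Q) (s j) (s j) ≠ 0 := by
        rw [Cfsg.Agent.Lib.H4.polar_self]; exact mul_ne_zero h2 (hs j)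
      simp only [a]; field_simp; ring
    · intro i _ hij
      rw [hortho j i (Ne.symm hij), mul_zero]
    · simp
  have h1 : Q z0 = 0 := hcon' z0 hz0s
  have h2' : Q (t - ∑ i, a i • s i) = 0 := hcon' _ hp
  have h3 : Q (z0 + (t - ∑ i, a i • s i)) = 0 := hcon' _ (fun i => by
    rw [QuadraticMap.polar_add_right, hz0s i, hp i, add_zero])
  have h4 : QuadraticMap.polar (⇑Q) z0 (t - ∑ i, a i • s i) = 0 := by
    rw [QuadraticMap.polar, h3, h1, h2']; ring
  have ht : t = (t - ∑ i, a i • s i) + ∑ i, a i • s i := by abel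
  rw [QuadraticMap.polarBilin_apply_apply, ht, QuadraticMap.polar_add_right, h4, hpol, zero_add]
  apply Finset.sum_eq_zero
  intro i _
  rw [QuadraticMap.polar_comm, hz0s i, mul_zero]

theorem mem_refl (c : F) (v : Fin n → F) (hv : Q v ≠ 0) (hvc : Q v = c) :
    reflEl Q v hv ∈ Cfsg.reflectionsOfNorm (⇑Q) c :=
  ⟨v, hvc, rfl⟩

theorem mem_reflSub (c : F) (v : Fin n → F) (hv : Q v ≠ 0) (hvc : Q v = c) :
    reflEl Q v hv ∈ Cfsg.reflectionSubgroup (⇑Q) c :=
  Subgroup.subset_closure (mem_refl Q c v hv hvc)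

theorem eq_reflEl_of_mem (c : F) (hc : c ≠ 0) (g : ↥(Cfsg.isometryGroup F ⇑Q))
    (hg : g ∈ Cfsg.reflectionsOfNorm (⇑Q) c) :
    ∃ v, ∃ hv : Q v ≠ 0, Q v = c ∧ g = reflEl Q v hv := by
  obtain ⟨v, hv, hgv⟩ := hg
  refine ⟨v, by rw [hv]; exact hc, hv, ?_⟩
  apply Subtype.ext
  apply Units.ext
  rw [hgv, reflEl_val]

theorem refl_ne_one (h2 : (2 : F) ≠ 0) (v : Fin n → F) (hv : Q v ≠ 0) : reflEl Q v hv ≠ 1 := by
  intro h
  have h1 := reflEl_act_self Q v hv
  rw [h, act_one] at h1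
  have hv0 : v ≠ 0 := by
    rintro rfl
    exact hv (map_zero Q)
  have : (2 : F) • v = 0 := by
    rw [two_smul]
    nth_rewrite 1 [h1]
    simp
  rcases smul_eq_zero.1 this with h | h
  · exact h2 h
  · exact hv0 h

theorem braid_cube' {G : Type*} [Group G] (d e t : G) (h1 : d * e = t * d) (h2 : e * d = t * e)
    (hd : d * d = 1) (he : e * e = 1) (ht : t * t = 1) : (d * e) ^ 3 = 1 := by
  have h3 : (d * e) ^ 3 = (d * e) * d * (e * d) * e := by
    rw [pow_succ, pow_two]; group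
  rw [h3, h1, h2]
  calc t * d * d * (t * e) * e = t * (d * d) * t * (e * e) := by group
    _ = 1 := by rw [hd, he, mul_one, mul_one, ht]

theorem inv_reflEl (v : Fin n → F) (hv : Q v ≠ 0) : (reflEl Q v hv)⁻¹ = reflEl Q v hv :=
  inv_eq_of_mul_eq_one_right (reflEl_mul_self Q v hv)

/-- the step: adjacent vectors of the same norm are swapped (up to sign) by a reflection of that norm -/
theorem step (c : F) (hc : c ≠ 0) (u v : Fin n → F) (hu : Q u = c) (hv : Q v = c)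
    (h : QuadraticMap.polar (⇑Q) u v = c ∨ QuadraticMap.polar (⇑Q) u v = -c) :
    ∃ g ∈ Cfsg.reflectionSubgroup (⇑Q) c, act Q g u = v ∨ act Q g u = -v := by
  rcases h with h | h
  · have hq : Q (u - v) = c := by rw [Q_sub, hu, hv, h]; ring
    have hq0 : Q (u - v) ≠ 0 := by rw [hq]; exact hc
    exact ⟨reflEl Q (u - v) hq0, mem_reflSub Q c _ hq0 hq,
      Or.inl (reflEl_sub_act Q u v (by rw [hu, hv]) hq0)⟩
  · have hq : Q (u + v) = c := by
      rw [show Q (u + v) = Q u + Q v + QuadraticMap.polar (⇑Q) u v by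
        rw [QuadraticMap.polar]; ring, hu, hv, h]; ring
    have hq0 : Q (u + v) ≠ 0 := by rw [hq]; exact hc
    exact ⟨reflEl Q (u + v) hq0, mem_reflSub Q c _ hq0 hq,
      Or.inr (reflEl_add_act Q u v (by rw [hu, hv]) hq0)⟩

end general

section three
variable {n : ℕ} (Q : QuadraticForm (ZMod 3) (Fin n → ZMod 3))

theorem zmod3_cases : ∀ (b c : ZMod 3), c ≠ 0 → b ≠ 0 → b = c ∨ b = -c := by decide

theorem zmod3_two : ∀ (c : ZMod 3), c + c = -c := by decide

theorem Q_add' (x y : Fin n → ZMod 3) : Q (x + y) = Q x + Q y + QuadraticMap.polar (⇑Q) x y := by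
  rw [QuadraticMap.polar]; ring

theorem exists_z (hQ : (QuadraticMap.polarBilin Q).Nondegenerate) (hn : 4 ≤ n) (c : ZMod 3)
    (hc : c ≠ 0) (u v : Fin n → ZMod 3) (hu : Q u = c) (hv : Q v = c)
    (huv : QuadraticMap.polar (⇑Q) u v = 0) :
    ∃ z, Q z = -c ∧ QuadraticMap.polar (⇑Q) u z = 0 ∧ QuadraticMap.polar (⇑Q) v z = 0 := by
  have h2 : (2 : ZMod 3) ≠ 0 := by decide
  have hvu : QuadraticMap.polar (⇑Q) v u = 0 := by rw [QuadraticMap.polar_comm]; exact huv
  obtain ⟨z1, hz1, hz1p⟩ := exists_aniso_perp Q hQ h2 (k := 2) (by omega) ![u, v]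
    (by intro i; fin_cases i <;> simp [hu, hv, hc])
    (by intro i j hij; fin_cases i <;> fin_cases j <;> simp_all)
  have hz1u : QuadraticMap.polar (⇑Q) u z1 = 0 := hz1p 0
  have hz1v : QuadraticMap.polar (⇑Q) v z1 = 0 := hz1p 1
  rcases zmod3_cases (Q z1) c hc hz1 with h | h
  · have hz1u' : QuadraticMap.polar (⇑Q) z1 u = 0 := by rw [QuadraticMap.polar_comm]; exact hz1u
    have hz1v' : QuadraticMap.polar (⇑Q) z1 v = 0 := by rw [QuadraticMap.polar_comm]; exact hz1v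
    obtain ⟨z2, hz2, hz2p⟩ := exists_aniso_perp Q hQ h2 (k := 3) (by omega) ![u, v, z1]
      (by intro i; fin_cases i <;> simp [hu, hv, hc, h])
      (by intro i j hij; fin_cases i <;> fin_cases j <;> simp_all)
    have hz2u : QuadraticMap.polar (⇑Q) u z2 = 0 := hz2p 0
    have hz2v : QuadraticMap.polar (⇑Q) v z2 = 0 := hz2p 1
    have hz2z : QuadraticMap.polar (⇑Q) z1 z2 = 0 := hz2p 2
    rcases zmod3_cases (Q z2) c hc hz2 with h' | h'
    · refine ⟨z1 + z2, ?_, ?_, ?_⟩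
      · rw [Q_add', h, h', hz2z, add_zero, zmod3_two]
      · rw [QuadraticMap.polar_add_right, hz1u, hz2u, add_zero]
      · rw [QuadraticMap.polar_add_right, hz1v, hz2v, add_zero]
    · exact ⟨z2, h', hz2u, hz2v⟩
  · exact ⟨z1, h, hz1u, hz1v⟩

theorem trans (hQ : (QuadraticMap.polarBilin Q).Nondegenerate) (hn : 4 ≤ n) (c : ZMod 3)
    (hc : c ≠ 0) (u v : Fin n → ZMod 3) (hu : Q u = c) (hv : Q v = c) :
    ∃ g ∈ Cfsg.reflectionSubgroup (⇑Q) c, act Q g u = v ∨ act Q g u = -v := by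
  by_cases huv : QuadraticMap.polar (⇑Q) u v = 0
  · obtain ⟨z, hz, hzu, hzv⟩ := exists_z Q hQ hn c hc u v hu hv huv
    have hw : Q (u + v + z) = c := by
      rw [Q_add', Q_add', hu, hv, hz, huv, QuadraticMap.polar_add_left, hzu, hzv]; ring
    have h1 : QuadraticMap.polar (⇑Q) u (u + v + z) = 2 * c := by
      rw [QuadraticMap.polar_add_right, QuadraticMap.polar_add_right, hzu, huv,
        Cfsg.Agent.Lib.H4.polar_self, hu]; ring
    have h2 : QuadraticMap.polar (⇑Q) (u + v + z) v = 2 * c := by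
      rw [QuadraticMap.polar_add_left, QuadraticMap.polar_add_left, huv,
        QuadraticMap.polar_comm (⇑Q) z v, hzv,
        Cfsg.Agent.Lib.H4.polar_self, hv]; ring
    have h2c : (2 : ZMod 3) * c ≠ 0 := mul_ne_zero (by decide) hc
    obtain ⟨g1, hg1, hg1a⟩ := step Q c hc u (u + v + z) hu hw
      (zmod3_cases _ c hc (by rw [h1]; exact h2c))
    obtain ⟨g2, hg2, hg2a⟩ := step Q c hc (u + v + z) v hw hv
      (zmod3_cases _ c hc (by rw [h2]; exact h2c))
    refine ⟨g2 * g1, Subgroup.mul_mem _ hg2 hg1, ?_⟩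
    rw [act_mul]
    rcases hg1a with e1 | e1 <;> rcases hg2a with e2 | e2
    · left; rw [e1, e2]
    · right; rw [e1, e2]
    · right; rw [e1, act_neg, e2]
    · left; rw [e1, act_neg, e2, neg_neg]
  · exact step Q c hc u v hu hv (zmod3_cases _ c hc huv)

theorem zmod3_sq : ∀ (x : ZMod 3), x ≠ 0 → x * x = 1 := by decide

theorem reflEl_neg' (v : Fin n → ZMod 3) (hv : Q v ≠ 0) (hnv : Q (-v) ≠ 0) :
    reflEl Q (-v) hnv = reflEl Q v hv := by
  have h1 : Q ((-1 : ZMod 3) • v) ≠ 0 := by rw [neg_one_smul]; exact hnv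
  rw [reflEl_congr Q (-v) ((-1 : ZMod 3) • v) hnv h1 (by rw [neg_one_smul])]
  exact reflEl_smul Q v hv (-1) (by decide) h1

end three

theorem result (n : ℕ) (hn : 5 ≤ n) (Q : QuadraticForm (ZMod 3) (Fin n → ZMod 3)) (hQ : (QuadraticMap.polarBilin Q).Nondegenerate) (c : ZMod 3) (hc : c ≠ 0) : Cfsg.IsThreeTranspositionClass {g : ↥(Cfsg.reflectionSubgroup (⇑Q) c) | (g : ↥(Cfsg.isometryGroup (ZMod 3) (⇑Q))) ∈ Cfsg.reflectionsOfNorm (⇑Q) c} := by
  have h2 : (2 : ZMod 3) ≠ 0 := by decide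
  refine ⟨⟨?_, ?_⟩, ?_, ?_⟩
  · intro d hd
    obtain ⟨v, hv0, hvc, hdv⟩ := eq_reflEl_of_mem Q c hc d.1 hd
    apply orderOf_eq_prime
    · apply Subtype.ext
      rw [Subgroup.coe_pow, Subgroup.coe_one, hdv, pow_two, reflEl_mul_self]
    · intro h
      apply refl_ne_one Q h2 v hv0
      rw [← hdv, h, Subgroup.coe_one]
  · intro d hd e he
    obtain ⟨u, hu0, huc, hdu⟩ := eq_reflEl_of_mem Q c hc d.1 hd
    obtain ⟨v, hv0, hvc, hev⟩ := eq_reflEl_of_mem Q c hc e.1 he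
    have hdd : d.1 * d.1 = 1 := by rw [hdu, reflEl_mul_self]
    have hee : e.1 * e.1 = 1 := by rw [hev, reflEl_mul_self]
    have hdinv : d.1⁻¹ = d.1 := inv_eq_of_mul_eq_one_right hdd
    have heinv : e.1⁻¹ = e.1 := inv_eq_of_mul_eq_one_right hee
    have ht0 : Q (act Q d.1 v) ≠ 0 := by rw [Q_act]; exact hv0
    have h1 : d.1 * e.1 * d.1⁻¹ = reflEl Q (act Q d.1 v) ht0 := by
      rw [hev]; exact reflEl_conj Q d.1 v hv0 ht0
    by_cases huv : QuadraticMap.polar (⇑Q) u v = 0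
    · left
      have hfix : act Q d.1 v = v := by
        rw [hdu]; exact reflEl_act_of_polar_zero Q u hu0 v huv
      have h1' : d.1 * e.1 * d.1⁻¹ = e.1 := by
        rw [h1, hev]; exact reflEl_congr Q _ _ _ _ hfix
      have hcomm : d.1 * e.1 = e.1 * d.1 := mul_inv_eq_iff_eq_mul.1 h1'
      apply Subtype.ext
      rw [Subgroup.coe_pow, Subgroup.coe_mul, Subgroup.coe_one, pow_two]
      calc d.1 * e.1 * (d.1 * e.1) = d.1 * e.1 * (e.1 * d.1) := by rw [hcomm]
        _ = d.1 * (e.1 * e.1) * d.1 := by group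
        _ = 1 := by rw [hee, mul_one, hdd]
    · right
      have hs0 : Q (act Q e.1 u) ≠ 0 := by rw [Q_act]; exact hu0
      have h2' : e.1 * d.1 * e.1⁻¹ = reflEl Q (act Q e.1 u) hs0 := by
        rw [hdu]; exact reflEl_conj Q e.1 u hu0 hs0
      have hε : c⁻¹ * QuadraticMap.polar (⇑Q) u v ≠ 0 := mul_ne_zero (inv_ne_zero hc) huv
      have hεε := zmod3_sq _ hε
      have hact : act Q e.1 u = (-(c⁻¹ * QuadraticMap.polar (⇑Q) u v)) • act Q d.1 v := by
        rw [hdu, hev, reflEl_act, reflEl_act, huc, hvc, QuadraticMap.polar_comm (⇑Q) v u,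
          smul_sub, smul_smul, neg_mul, hεε, neg_smul, neg_smul, one_smul]
        abel
      have hs1 : Q ((-(c⁻¹ * QuadraticMap.polar (⇑Q) u v)) • act Q d.1 v) ≠ 0 := by
        rw [← hact]; exact hs0
      have h3 : reflEl Q (act Q e.1 u) hs0 = reflEl Q (act Q d.1 v) ht0 := by
        rw [reflEl_congr Q _ _ hs0 hs1 hact]
        exact reflEl_smul Q _ ht0 _ (neg_ne_zero.2 hε) hs1
      rw [h3] at h2'
      have htt : reflEl Q (act Q d.1 v) ht0 * reflEl Q (act Q d.1 v) ht0 = 1 :=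
        reflEl_mul_self Q _ ht0
      apply Subtype.ext
      rw [Subgroup.coe_pow, Subgroup.coe_mul, Subgroup.coe_one]
      exact braid_cube' d.1 e.1 _ (mul_inv_eq_iff_eq_mul.1 h1) (mul_inv_eq_iff_eq_mul.1 h2')
        hdd hee htt
  · obtain ⟨v0, hv0⟩ := exists_Q_eq Q hQ h2 (by omega) c hc
    have hv00 : Q v0 ≠ 0 := by rw [hv0]; exact hc
    refine ⟨⟨reflEl Q v0 hv00, mem_reflSub Q c v0 hv00 hv0⟩, mem_refl Q c v0 hv00 hv0, ?_⟩
    ext e
    show _ ↔ IsConj _ e
    rw [isConj_iff]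
    constructor
    · intro he
      obtain ⟨v, hv0', hvc, hev⟩ := eq_reflEl_of_mem Q c hc e.1 he
      obtain ⟨g, hg, hga⟩ := trans Q hQ (by omega) c hc v0 v hv0 hvc
      refine ⟨⟨g, hg⟩, ?_⟩
      apply Subtype.ext
      have hgv : Q (act Q g v0) ≠ 0 := by rw [Q_act]; exact hv00
      show g * reflEl Q v0 hv00 * g⁻¹ = e.1
      rw [reflEl_conj Q g v0 hv00 hgv, hev]
      rcases hga with h | h
      · exact reflEl_congr Q _ _ _ _ h
      · have hnv : Q (-v) ≠ 0 := by rw [← h]; exact hgv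
        rw [reflEl_congr Q _ _ hgv hnv h]
        exact reflEl_neg' Q v hv0' hnv
    · rintro ⟨g, hg⟩
      show (e : ↥(Cfsg.isometryGroup (ZMod 3) (⇑Q))) ∈ Cfsg.reflectionsOfNorm (⇑Q) c
      have hgv : Q (act Q g.1 v0) ≠ 0 := by rw [Q_act]; exact hv00
      have : (e : ↥(Cfsg.isometryGroup (ZMod 3) (⇑Q))) = reflEl Q (act Q g.1 v0) hgv := by
        rw [← hg]
        exact reflEl_conj Q g.1 v0 hv00 hgv
      rw [this]
      exact mem_refl Q c _ hgv (by rw [Q_act]; exact hv0)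
  · exact Subgroup.closure_closure_coe_preimage

end Cfsg.Agent.S5357
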