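import Cfsg.Statements.S5359
import Cfsg.Agent.Lib.H11.ReflClass
import Cfsg.Agent.S5357

set_option autoImplicit false
open scoped MatrixGroups
open Cfsg

namespace Cfsg.Agent.S5359

open Cfsg.Agent.Lib.H11.CD Cfsg.Agent.Lib.H11.SpinSign Cfsg.Agent.Lib.H11.ReflClass
open Cfsg.Agent.S5357

variable {n : ℕ} (Q : QuadraticForm (ZMod 3) (Fin n → ZMod 3))

theorem zmod3_negneg : ∀ a : ZMod 3, -a + -a = a := by decide

/-- a prescribed nonzero value is represented orthogonally to a small orthogonal anisotropic family -/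
theorem exists_perp_value (hQ : (QuadraticMap.polarBilin Q).Nondegenerate) {k : ℕ}
    (hk : k + 2 ≤ n) (s : Fin k → (Fin n → ZMod 3)) (hs : ∀ i, Q (s i) ≠ 0)
    (hortho : ∀ i j, i ≠ j → QuadraticMap.polar (⇑Q) (s i) (s j) = 0) (a : ZMod 3) (ha : a ≠ 0) :
    ∃ z, Q z = a ∧ ∀ i, QuadraticMap.polar (⇑Q) (s i) z = 0 := by
  have h2 : (2 : ZMod 3) ≠ 0 := by decide
  obtain ⟨z1, hz1, hz1p⟩ := exists_aniso_perp Q hQ h2 (by omega) s hs hortho
  rcases zmod3_cases (Q z1) a ha hz1 with h | h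
  · exact ⟨z1, h, hz1p⟩
  · obtain ⟨z2, hz2, hz2p⟩ := exists_aniso_perp Q hQ h2 (k := k + 1) (by omega)
      (Fin.cons z1 s : Fin (k + 1) → (Fin n → ZMod 3))
      (by
        intro i
        refine Fin.cases ?_ (fun j => ?_) i
        · simpa using hz1
        · simpa using hs j)
      (by
        intro i j
        refine Fin.cases ?_ (fun i' => ?_) i <;> refine Fin.cases ?_ (fun j' => ?_) j
        · intro h; exact absurd rfl h
        · intro _
          simp only [Fin.cons_zero, Fin.cons_succ]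
          rw [QuadraticMap.polar_comm]; exact hz1p j'
        · intro _
          simp only [Fin.cons_zero, Fin.cons_succ]
          exact hz1p i'
        · intro hij
          simp only [Fin.cons_succ]
          exact hortho i' j' (fun e => hij (by rw [e])))
    have hz12 : QuadraticMap.polar (⇑Q) z1 z2 = 0 := by simpa using hz2p 0
    have hz2s : ∀ i, QuadraticMap.polar (⇑Q) (s i) z2 = 0 := fun i => by simpa using hz2p i.succ
    rcases zmod3_cases (Q z2) a ha hz2 with h' | h'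
    · exact ⟨z2, h', hz2s⟩
    · refine ⟨z1 + z2, ?_, ?_⟩
      · rw [Q_add', h, h', hz12, add_zero]; exact zmod3_negneg a
      · intro i; rw [QuadraticMap.polar_add_right, hz1p i, hz2s i, add_zero]

theorem exists_partner (hQ : (QuadraticMap.polarBilin Q).Nondegenerate)
    (c' : ZMod 3) (hc' : c' ≠ 0) (w u : Fin n → ZMod 3) (hw : Q w = c')
    (hu : Q u = 0) (hwu : QuadraticMap.polar (⇑Q) w u = 0) (hu0 : u ≠ 0) :
    ∃ (u' : Fin n → ZMod 3) (κ : ZMod 3), κ ≠ 0 ∧ Q u' = 0 ∧ QuadraticMap.polar (⇑Q) w u' = 0 ∧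
      QuadraticMap.polar (⇑Q) u u' = κ := by
  have h2 : (2 : ZMod 3) ≠ 0 := by decide
  obtain ⟨x₀, hx₀⟩ : ∃ x₀, QuadraticMap.polar (⇑Q) u x₀ ≠ 0 := by
    by_contra h
    push Not at h
    exact hu0 (hQ.1 u h)
  set κ := QuadraticMap.polar (⇑Q) u x₀ with hκ
  have huw : QuadraticMap.polar (⇑Q) u w = 0 := by rw [QuadraticMap.polar_comm]; exact hwu
  have huu : QuadraticMap.polar (⇑Q) u u = 0 := by rw [Cfsg.Agent.Lib.H4.polar_self, hu, mul_zero]
  have hww : QuadraticMap.polar (⇑Q) w w = 2 * c' := by rw [Cfsg.Agent.Lib.H4.polar_self, hw]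
  set x' := x₀ - (QuadraticMap.polar (⇑Q) w x₀ / (2 * c')) • w with hx'
  have h1 : QuadraticMap.polar (⇑Q) w x' = 0 := by
    rw [hx', QuadraticMap.polar_sub_right, QuadraticMap.polar_smul_right, hww, smul_eq_mul]
    field_simp
    ring
  have h3 : QuadraticMap.polar (⇑Q) u x' = κ := by
    rw [hx', QuadraticMap.polar_sub_right, QuadraticMap.polar_smul_right, huw, smul_eq_mul,
      mul_zero, sub_zero]
  set u' := x' - (Q x' / κ) • u with hu'
  have h4 : Q u' = 0 := by
    rw [hu', Q_sub_smul, hu, QuadraticMap.polar_comm (⇑Q) x' u, h3]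
    field_simp
    ring
  have h5 : QuadraticMap.polar (⇑Q) w u' = 0 := by
    rw [hu', QuadraticMap.polar_sub_right, QuadraticMap.polar_smul_right, h1, hwu, smul_eq_mul,
      mul_zero, sub_zero]
  have h6 : QuadraticMap.polar (⇑Q) u u' = κ := by
    rw [hu', QuadraticMap.polar_sub_right, QuadraticMap.polar_smul_right, h3, huu, smul_eq_mul,
      mul_zero, sub_zero]
  exact ⟨u', κ, hx₀, h4, h5, h6⟩

theorem exists_e3 (hQ : (QuadraticMap.polarBilin Q).Nondegenerate) (hn : 5 ≤ n)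
    (c' : ZMod 3) (hc' : c' ≠ 0) (w u : Fin n → ZMod 3) (hw : Q w = c')
    (hu : Q u = 0) (hwu : QuadraticMap.polar (⇑Q) w u = 0) (hu0 : u ≠ 0) :
    ∃ e : Fin n → ZMod 3, Q e = c' ∧ QuadraticMap.polar (⇑Q) w e = 0 ∧
      QuadraticMap.polar (⇑Q) u e = 0 := by
  have h2 : (2 : ZMod 3) ≠ 0 := by decide
  obtain ⟨u', κ, hκ, h4, h5, h6⟩ := exists_partner Q hQ c' hc' w u hw hu hwu hu0
  have huu : QuadraticMap.polar (⇑Q) u u = 0 := by rw [Cfsg.Agent.Lib.H4.polar_self, hu, mul_zero]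
  have h6' : QuadraticMap.polar (⇑Q) u' u = κ := by rw [QuadraticMap.polar_comm]; exact h6
  have hu'u' : QuadraticMap.polar (⇑Q) u' u' = 0 := by
    rw [Cfsg.Agent.Lib.H4.polar_self, h4, mul_zero]
  have hQ1 : Q (u + u') = κ := by rw [Q_add', hu, h4, h6]; ring
  have hQ2 : Q (u - u') = -κ := by rw [Q_sub, hu, h4, h6]; ring
  have h12 : QuadraticMap.polar (⇑Q) (u + u') (u - u') = 0 := by
    rw [QuadraticMap.polar_add_left, QuadraticMap.polar_sub_right, QuadraticMap.polar_sub_right,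
      huu, h6, h6', hu'u']; ring
  have h21 : QuadraticMap.polar (⇑Q) (u - u') (u + u') = 0 := by
    rw [QuadraticMap.polar_comm]; exact h12
  have hw1 : QuadraticMap.polar (⇑Q) w (u + u') = 0 := by
    rw [QuadraticMap.polar_add_right, hwu, h5, add_zero]
  have hw2 : QuadraticMap.polar (⇑Q) w (u - u') = 0 := by
    rw [QuadraticMap.polar_sub_right, hwu, h5, sub_zero]
  have h1w : QuadraticMap.polar (⇑Q) (u + u') w = 0 := by rw [QuadraticMap.polar_comm]; exact hw1
  have h2w : QuadraticMap.polar (⇑Q) (u - u') w = 0 := by rw [QuadraticMap.polar_comm]; exact hw2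
  obtain ⟨e, he, hep⟩ := exists_perp_value Q hQ (k := 3) (by omega) ![w, u + u', u - u']
    (by
      intro i
      fin_cases i
      · simpa [hw] using hc'
      · simpa [hQ1] using hκ
      · simpa [hQ2] using hκ)
    (by
      intro i j hij
      fin_cases i <;> fin_cases j
      · exact absurd rfl hij
      · exact hw1
      · exact hw2
      · exact h1w
      · exact absurd rfl hij
      · exact h12
      · exact h2w
      · exact h21
      · exact absurd rfl hij)
    c' hc'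
  have e0 : QuadraticMap.polar (⇑Q) w e = 0 := hep 0
  have e1 : QuadraticMap.polar (⇑Q) (u + u') e = 0 := hep 1
  have e2 : QuadraticMap.polar (⇑Q) (u - u') e = 0 := hep 2
  refine ⟨e, he, e0, ?_⟩
  rw [QuadraticMap.polar_add_left] at e1
  rw [QuadraticMap.polar_sub_left] at e2
  have : (2 : ZMod 3) * QuadraticMap.polar (⇑Q) u e = 0 := by linear_combination e1 + e2
  exact (mul_eq_zero.1 this).resolve_left h2

theorem pair_mem_deg3 (hQ : (QuadraticMap.polarBilin Q).Nondegenerate) (hn : 5 ≤ n)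
    (c c' : ZMod 3) (hc : c ≠ 0) (hc' : c' ≠ 0)
    (H : Subgroup ↥(Cfsg.isometryGroup (ZMod 3) ⇑Q))
    (hH : ∀ (v : Fin n → ZMod 3) (t : ZMod 3) (hv : Q v ≠ 0), t ≠ 0 → Q v = c * t ^ 2 →
      reflEl Q v hv ∈ H)
    (w w' : Fin n → ZMod 3) (hw : Q w = c') (hw' : Q w' = c')
    (hb : QuadraticMap.polar (⇑Q) w w' = 2 * c') :
    reflEl Q w (by rw [hw]; exact hc') * reflEl Q w' (by rw [hw']; exact hc') ∈ H := by
  have h2 : (2 : ZMod 3) ≠ 0 := by decide
  have h4 : (4 : ZMod 3) ≠ 0 := by decide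
  have hu : Q (w - w') = 0 := by
    rw [Q_sub, hw, hw', hb]
    ring
  have hwu : QuadraticMap.polar (⇑Q) w (w - w') = 0 := by
    rw [QuadraticMap.polar_sub_right, Cfsg.Agent.Lib.H4.polar_self, hw, hb, sub_self]
  by_cases hu0 : w - w' = 0
  · have hww' : w = w' := sub_eq_zero.1 hu0
    subst hww'
    rw [reflEl_mul_self]
    exact H.one_mem
  · obtain ⟨e, he, hwe, hue⟩ := exists_e3 Q hQ hn c' hc' w (w - w') hw hu hwu hu0
    have h4c : (4 : ZMod 3) * c' ^ 2 ≠ 0 := mul_ne_zero h4 (pow_ne_zero 2 hc')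
    have hD1 : 4 * c' ^ 2 - (QuadraticMap.polar (⇑Q) w e) ^ 2 ≠ 0 := by
      rw [hwe]
      intro h
      apply h4c
      rw [← h]
      ring
    have hew' : QuadraticMap.polar (⇑Q) e w' = 0 := by
      have : QuadraticMap.polar (⇑Q) e w' = -QuadraticMap.polar (⇑Q) (w - w') e := by
        rw [QuadraticMap.polar_sub_left, hwe, QuadraticMap.polar_comm (⇑Q) w' e]
        ring
      rw [this, hue, neg_zero]
    have hD2 : 4 * c' ^ 2 - (QuadraticMap.polar (⇑Q) e w') ^ 2 ≠ 0 := by
      rw [hew']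
      intro h
      apply h4c
      rw [← h]
      ring
    have m1 := pair_mem_A Q h2 c c' hc hc' H hH w e hw he hD1
    have m2 := pair_mem_A Q h2 c c' hc hc' H hH e w' he hw' hD2
    have := H.mul_mem m1 m2
    rw [mul_assoc, ← mul_assoc (reflEl Q e _), reflEl_mul_self, one_mul] at this
    exact this

theorem pair_mem3 (hQ : (QuadraticMap.polarBilin Q).Nondegenerate) (hn : 5 ≤ n)
    (c c' : ZMod 3) (hc : c ≠ 0) (hc' : c' ≠ 0)
    (H : Subgroup ↥(Cfsg.isometryGroup (ZMod 3) ⇑Q))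
    (hH : ∀ (v : Fin n → ZMod 3) (t : ZMod 3) (hv : Q v ≠ 0), t ≠ 0 → Q v = c * t ^ 2 →
      reflEl Q v hv ∈ H)
    (w w' : Fin n → ZMod 3) (hw : Q w = c') (hw' : Q w' = c') :
    reflEl Q w (by rw [hw]; exact hc') * reflEl Q w' (by rw [hw']; exact hc') ∈ H := by
  have h2 : (2 : ZMod 3) ≠ 0 := by decide
  by_cases hD : 4 * c' ^ 2 - (QuadraticMap.polar (⇑Q) w w') ^ 2 ≠ 0
  · exact pair_mem_A Q h2 c c' hc hc' H hH w w' hw hw' hD
  · rw [not_not] at hD
    have : (QuadraticMap.polar (⇑Q) w w' - 2 * c') * (QuadraticMap.polar (⇑Q) w w' + 2 * c') = 0 := by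
      linear_combination -hD
    rcases mul_eq_zero.1 this with h | h
    · exact pair_mem_deg3 Q hQ hn c c' hc hc' H hH w w' hw hw'
        (by linear_combination h)
    · have hnw' : Q (-w') = c' := by rw [QuadraticMap.map_neg, hw']
      have := pair_mem_deg3 Q hQ hn c c' hc hc' H hH w (-w') hw hnw'
        (by rw [QuadraticMap.polar_neg_right]; linear_combination -h)
      rw [reflEl_neg Q w' (by rw [hw']; exact hc')] at this
      exact this

theorem zmod3_sq' : ∀ t : ZMod 3, t ≠ 0 → t ^ 2 = 1 := by decide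

theorem gensC_eq (c : ZMod 3) : gensC Q c = Cfsg.reflectionsOfNorm (⇑Q) c := by
  ext g
  constructor
  · rintro ⟨v, t, ht, hv, hg⟩
    exact ⟨v, by rw [hv, zmod3_sq' t ht, mul_one], hg⟩
  · rintro ⟨v, hv, hg⟩
    exact ⟨v, 1, one_ne_zero, by rw [hv]; ring, hg⟩

open scoped Classical in
theorem index_two3 (hQ : (QuadraticMap.polarBilin Q).Nondegenerate) (hn : 5 ≤ n)
    (c : ZMod 3) (hc : c ≠ 0) : (Subgroup.closure (gensC Q c)).index = 2 := by
  have h2 : (2 : ZMod 3) ≠ 0 := by decide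
  set H := Subgroup.closure (gensC Q c) with hHdef
  have hHn : H.Normal := closure_normal Q c hc
  have hH : ∀ (v : Fin n → ZMod 3) (t : ZMod 3) (hv : Q v ≠ 0), t ≠ 0 → Q v = c * t ^ 2 →
      reflEl Q v hv ∈ H := by
    intro v t hv ht hvt
    exact Subgroup.subset_closure ⟨v, t, ht, hvt, rfl⟩
  have hc' : -c ≠ 0 := neg_ne_zero.2 hc
  obtain ⟨w₀, hw₀⟩ := exists_Q_eq Q hQ h2 (by omega) (-c) hc'
  have hw₀0 : Q w₀ ≠ 0 := by rw [hw₀]; exact hc'
  set r₀ := reflEl Q w₀ hw₀0 with hr₀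
  have hr₀r₀ : r₀ * r₀ = 1 := reflEl_mul_self Q w₀ hw₀0
  have hr₀inv : r₀⁻¹ = r₀ := inv_eq_of_mul_eq_one_left hr₀r₀
  have hnosq : ∀ (a s : ZMod 3), a ≠ 0 → a * (s * s) ≠ -a := by decide
  -- H is contained in the kernel of the sign character
  have hker : H ≤ (chi Q (-c)).ker := by
    rw [hHdef, Subgroup.closure_le]
    rintro s ⟨v, t, ht, hv, hs⟩
    have hv0 : Q v ≠ 0 := by
      rw [hv]
      exact mul_ne_zero hc (pow_ne_zero 2 ht)
    have hsv : s = reflEl Q v hv0 := Subtype.ext (Units.ext hs)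
    rw [SetLike.mem_coe, MonoidHom.mem_ker, hsv, chi_reflEl Q h2 v hv0 (-c) hc', if_neg]
    rintro ⟨x, hx⟩
    rw [hv, zmod3_sq' t ht, mul_one] at hx
    exact hnosq c x hc hx
  have hr₀ker : r₀ ∉ H := by
    intro h
    have := hker h
    rw [MonoidHom.mem_ker, hr₀, chi_reflEl Q h2 w₀ hw₀0 (-c) hc',
      if_pos ⟨1, by rw [hw₀]; ring⟩] at this
    exact absurd this (by decide)
  -- every element lies in `H` or in `H r₀`
  have hclaim : ∀ g : ↥(Cfsg.isometryGroup (ZMod 3) ⇑Q), g ∈ H ∨ g * r₀ ∈ H := by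
    intro g
    have hg := cartan_dieudonne Q hQ h2 g
    induction hg using Subgroup.closure_induction with
    | mem r hr =>
      obtain ⟨u, hu, hr⟩ := hr
      have hru : r = reflEl Q u hu := Subtype.ext (Units.ext hr)
      rcases zmod3_cases (Q u) c hc hu with hl | hl
      · left
        rw [hru]
        exact hH u 1 hu one_ne_zero (by rw [hl]; ring)
      · right
        have := pair_mem3 Q hQ hn c (-c) hc hc' H hH u w₀ hl hw₀
        rw [hru]
        exact this
    | one => left; exact H.one_mem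
    | mul x y _ _ hx hy =>
      rcases hx with hx | hx <;> rcases hy with hy | hy
      · left; exact H.mul_mem hx hy
      · right
        rw [mul_assoc]
        exact H.mul_mem hx hy
      · right
        have h1 := hHn.conj_mem y hy r₀
        rw [hr₀inv] at h1
        have h3 : x * y * r₀ = (x * r₀) * (r₀ * y * r₀) := aux1 x y r₀ hr₀r₀
        rw [h3]
        exact H.mul_mem hx h1
      · left
        have h1 := hHn.conj_mem (y * r₀) hy r₀
        rw [hr₀inv, aux3 y r₀ hr₀r₀] at h1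
        have h3 : x * y = (x * r₀) * (r₀ * y) := aux2 x y r₀ hr₀r₀
        rw [h3]
        exact H.mul_mem hx h1
    | inv x _ hx =>
      rcases hx with hx | hx
      · left; exact H.inv_mem hx
      · right
        have h1 := hHn.conj_mem _ (H.inv_mem hx) r₀
        rw [hr₀inv, aux4 x r₀ hr₀r₀] at h1
        exact h1
  rw [Subgroup.index_eq_two_iff]
  refine ⟨r₀, fun b => ?_⟩
  rcases hclaim b with hb | hb
  · refine Or.inr ⟨hb, fun hbr => ?_⟩
    apply hr₀ker
    have := H.mul_mem (H.inv_mem hb) hbr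
    rw [inv_mul_cancel_left] at this
    exact this
  · refine Or.inl ⟨hb, fun hb' => ?_⟩
    apply hr₀ker
    have := H.mul_mem (H.inv_mem hb') hb
    rw [inv_mul_cancel_left] at this
    exact this

theorem result (n : ℕ) (hn : 5 ≤ n) (hodd : Odd n) (Q : QuadraticForm (ZMod 3) (Fin n → ZMod 3)) (hQ : (QuadraticMap.polarBilin Q).Nondegenerate) (c : ZMod 3) (hc : c ≠ 0) : (Cfsg.reflectionSubgroup (⇑Q) c).index = 2 := by
  have := index_two3 Q hQ hn c hc
  rw [gensC_eq] at this
  exact this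

end Cfsg.Agent.S5359
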