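import Cfsg.Statements.S5360
import Cfsg.Agent.Lib.H11.Refl3Geo
import Cfsg.Agent.S5349
import Cfsg.Agent.S5350
import Cfsg.Agent.S5352
import Cfsg.Agent.S5353

set_option autoImplicit false
open scoped MatrixGroups
open Cfsg

namespace Cfsg.Agent.S5360

open Cfsg.Agent.Lib.H11.CD Cfsg.Agent.Lib.H11.SpinSign Cfsg.Agent.Lib.H11.ReflClass
open Cfsg.Agent.S5357 Cfsg.Agent.Lib.H11.Refl3

section aux
variable {n : ℕ} (Q : QuadraticForm (ZMod 3) (Fin n → ZMod 3)) (c : ZMod 3) (hc : c ≠ 0)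
include hc

/-- the class of reflections of norm `c` inside the group they generate -/
def DD : Set ↥(Cfsg.reflectionSubgroup (⇑Q) c) :=
  {g | (g : ↥(Cfsg.isometryGroup (ZMod 3) (⇑Q))) ∈ Cfsg.reflectionsOfNorm (⇑Q) c}

/-- the reflection in a vector of norm `c` as a member of the reflection subgroup -/
noncomputable def mkD (v : Fin n → ZMod 3) (hv : Q v = c) : ↥(Cfsg.reflectionSubgroup (⇑Q) c) :=
  ⟨reflEl Q v (by rw [hv]; exact hc), mem_reflSub Q c v (by rw [hv]; exact hc) hv⟩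

theorem mkD_mem (v : Fin n → ZMod 3) (hv : Q v = c) : mkD Q c hc v hv ∈ DD Q c :=
  mem_refl Q c v (by rw [hv]; exact hc) hv

theorem exists_mkD (d : ↥(Cfsg.reflectionSubgroup (⇑Q) c)) (hd : d ∈ DD Q c) :
    ∃ (v : Fin n → ZMod 3) (hv : Q v = c), d = mkD Q c hc v hv := by
  obtain ⟨v, hv0, hvc, hdv⟩ := eq_reflEl_of_mem Q c hc d.1 hd
  exact ⟨v, hvc, Subtype.ext hdv⟩

theorem mkD_neg (v : Fin n → ZMod 3) (hv : Q v = c) (hv' : Q (-v) = c) :
    mkD Q c hc (-v) hv' = mkD Q c hc v hv := by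
  apply Subtype.ext
  exact reflEl_neg' Q v (by rw [hv]; exact hc) (by rw [hv']; exact hc)

theorem mkD_congr (u v : Fin n → ZMod 3) (hu : Q u = c) (hv : Q v = c) (h : u = v) :
    mkD Q c hc u hu = mkD Q c hc v hv := by
  subst h; rfl

theorem commute_of_perp (u x : Fin n → ZMod 3) (hu : Q u = c) (hx : Q x = c)
    (h : QuadraticMap.polar (⇑Q) u x = 0) : Commute (mkD Q c hc u hu) (mkD Q c hc x hx) := by
  have hu0 : Q u ≠ 0 := by rw [hu]; exact hc
  have hx0 : Q x ≠ 0 := by rw [hx]; exact hc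
  have hax : Q (act Q (reflEl Q u hu0) x) ≠ 0 := by rw [Q_act]; exact hx0
  have h1 : reflEl Q u hu0 * reflEl Q x hx0 * (reflEl Q u hu0)⁻¹ = reflEl Q x hx0 := by
    rw [reflEl_conj Q (reflEl Q u hu0) x hx0 hax]
    exact reflEl_congr Q _ _ _ _ (reflEl_act_of_polar_zero Q u hu0 x h)
  have h2 : reflEl Q u hu0 * reflEl Q x hx0 = reflEl Q x hx0 * reflEl Q u hu0 :=
    mul_inv_eq_iff_eq_mul.1 h1
  exact Subtype.ext h2

theorem not_commute (hQ : (QuadraticMap.polarBilin Q).Nondegenerate) (v x : Fin n → ZMod 3)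
    (hv : Q v = c) (hx : Q x = c) (h : QuadraticMap.polar (⇑Q) v x ≠ 0) (h1 : x ≠ v)
    (h2 : x ≠ -v) : ¬ Commute (mkD Q c hc v hv) (mkD Q c hc x hx) := by
  intro hcomm
  have hv0 : Q v ≠ 0 := by rw [hv]; exact hc
  have e := hcomm.eq
  have e' := congrArg (fun g : ↥(Cfsg.reflectionSubgroup (⇑Q) c) =>
    ((g.1.1 : GL (Fin n) (ZMod 3)) : Matrix (Fin n) (Fin n) (ZMod 3))) e
  have e'' : Cfsg.reflectionMatrix (⇑Q) v * Cfsg.reflectionMatrix (⇑Q) x =
      Cfsg.reflectionMatrix (⇑Q) x * Cfsg.reflectionMatrix (⇑Q) v := e'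
  exact h ((Cfsg.Agent.S5358.result n Q hQ v x hv0 (by rw [hv, hx]) h1 h2).1 e'')

theorem ne_of_perp (u x : Fin n → ZMod 3) (hu : Q u = c) (hx : Q x = c)
    (h : QuadraticMap.polar (⇑Q) u x = 0) : mkD Q c hc u hu ≠ mkD Q c hc x hx := by
  intro he
  have hu0 : Q u ≠ 0 := by rw [hu]; exact hc
  have hx0 : Q x ≠ 0 := by rw [hx]; exact hc
  have e : reflEl Q u hu0 = reflEl Q x hx0 := congrArg Subtype.val he
  have h1 := reflEl_act_self Q u hu0
  rw [e, reflEl_act_of_polar_zero Q x hx0 u (by rw [QuadraticMap.polar_comm]; exact h)] at h1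
  have h2 : (2 : ZMod 3) • u = 0 := by
    rw [two_smul]
    nth_rewrite 1 [h1]
    simp
  rcases smul_eq_zero.1 h2 with h3 | h3
  · exact absurd h3 (by decide)
  · rw [h3, map_zero] at hu0
    exact hu0 rfl

/-- separation: two different reflections of norm `c` are separated by a third one commuting with
the first but not with the second -/
theorem exists_sep_D (hQ : (QuadraticMap.polarBilin Q).Nondegenerate) (hn : 5 ≤ n)
    (d e : ↥(Cfsg.reflectionSubgroup (⇑Q) c)) (hd : d ∈ DD Q c) (he : e ∈ DD Q c) (hne : e ≠ d) :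
    ∃ y ∈ DD Q c, y ≠ d ∧ Commute d y ∧ ¬ Commute e y := by
  obtain ⟨u, hu, rfl⟩ := exists_mkD Q c hc d hd
  obtain ⟨v, hv, rfl⟩ := exists_mkD Q c hc e he
  have h1 : v ≠ u := by
    rintro rfl
    exact hne rfl
  have h2 : v ≠ -u := by
    intro h
    apply hne
    have hnu : Q (-u) = c := by rw [← h]; exact hv
    rw [mkD_congr Q c hc v (-u) hv hnu h]
    exact mkD_neg Q c hc u hu hnu
  obtain ⟨x, hx, hux, hvx, hx1, hx2⟩ := exists_sep Q hQ hn c hc u v hu hv h1 h2
  refine ⟨mkD Q c hc x hx, mkD_mem Q c hc x hx, ?_, commute_of_perp Q c hc u x hu hx hux,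
    not_commute Q c hc hQ v x hv hx hvx hx1 hx2⟩
  exact (ne_of_perp Q c hc u x hu hx hux).symm

end aux

/-- Let Q be a non-degenerate quadratic form on the n-dimensional coordinate space over the field with three elements, n ≥ 5, c a non-zero scalar, and R the subgroup of the isometry group generated by the reflections of norm c. Then the commutator subgroup of R is quasisimple of index at most 2, the generalized Fitting subgroup of R is the product of the centre and the commutator subgroup, and R acts primitively by conjugation on its reflections of norm c. -/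
theorem result (n : ℕ) (hn : 5 ≤ n) (Q : QuadraticForm (ZMod 3) (Fin n → ZMod 3)) (hQ : (QuadraticMap.polarBilin Q).Nondegenerate) (c : ZMod 3) (hc : c ≠ 0) : Cfsg.IsQuasisimple (commutator ↥(Cfsg.reflectionSubgroup (⇑Q) c)) ∧ (commutator ↥(Cfsg.reflectionSubgroup (⇑Q) c)).index ≤ 2 ∧ Cfsg.generalizedFittingSubgroup ↥(Cfsg.reflectionSubgroup (⇑Q) c) = Subgroup.center ↥(Cfsg.reflectionSubgroup (⇑Q) c) ⊔ commutator ↥(Cfsg.reflectionSubgroup (⇑Q) c) ∧ Cfsg.IsPrimitiveUnderConj {g : ↥(Cfsg.reflectionSubgroup (⇑Q) c) | (g : ↥(Cfsg.isometryGroup (ZMod 3) (⇑Q))) ∈ Cfsg.reflectionsOfNorm (⇑Q) c} := by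
  classical
  have h2 : (2 : ZMod 3) ≠ 0 := by decide
  have hD : Cfsg.IsThreeTranspositionClass (DD Q c) := Cfsg.Agent.S5357.result n hn Q hQ c hc
  have hgen : Subgroup.closure (DD Q c) = ⊤ := hD.2.2
  -- two different members
  obtain ⟨v0, hv0⟩ := exists_Q_eq Q hQ h2 (by omega) c hc
  obtain ⟨x0, hx0, hx0p, -⟩ := exists_common Q hQ hn c hc v0 v0 hv0 hv0
  have hD2 : ∃ a ∈ DD Q c, ∃ b ∈ DD Q c, a ≠ b :=
    ⟨mkD Q c hc v0 hv0, mkD_mem Q c hc v0 hv0, mkD Q c hc x0 hx0, mkD_mem Q c hc x0 hx0,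
      ne_of_perp Q c hc v0 x0 hv0 hx0 hx0p⟩
  -- a subgroup centralising the class is central
  have hcent : ∀ g : ↥(Cfsg.reflectionSubgroup (⇑Q) c),
      (∀ d ∈ DD Q c, g * d * g⁻¹ = d) → g ∈ Subgroup.center ↥(Cfsg.reflectionSubgroup (⇑Q) c) := by
    intro g hg
    have hle : Subgroup.closure (DD Q c) ≤ Subgroup.centralizer {g} := by
      rw [Subgroup.closure_le]
      intro d hd
      rw [SetLike.mem_coe, Subgroup.mem_centralizer_iff]
      intro k hk
      rw [Set.mem_singleton_iff] at hk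
      subst hk
      have := hg d hd
      exact (mul_inv_eq_iff_eq_mul.1 this)
    rw [hgen] at hle
    rw [Subgroup.mem_center_iff]
    intro k
    have hk : k ∈ Subgroup.centralizer {g} := hle (Subgroup.mem_top k)
    rw [Subgroup.mem_centralizer_iff] at hk
    exact (hk g rfl).symm
  -- the 2-core is central
  have hO2 : Cfsg.pCore 2 ↥(Cfsg.reflectionSubgroup (⇑Q) c) ≤
      Subgroup.center ↥(Cfsg.reflectionSubgroup (⇑Q) c) := by
    intro g hg
    apply hcent
    intro d hd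
    have h49 := (Cfsg.Agent.S5349.result hD hD2 hd).2
    have hmem : g * d * g⁻¹ ∈ {v : ↥(Cfsg.reflectionSubgroup (⇑Q) c) | v ∈ DD Q c ∧
        ∀ e ∈ DD Q c, Commute v e ↔ Commute d e} := by
      rw [h49]
      exact ⟨g, hg, rfl⟩
    obtain ⟨hmD, hmc⟩ := hmem
    by_contra hne
    obtain ⟨y, hy, -, hdy, hey⟩ := exists_sep_D Q c hc hQ hn d (g * d * g⁻¹) hd hmD hne
    exact hey ((hmc y hy).2 hdy)
  -- the 3-core is central
  have hO3 : Cfsg.pCore 3 ↥(Cfsg.reflectionSubgroup (⇑Q) c) ≤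
      Subgroup.center ↥(Cfsg.reflectionSubgroup (⇑Q) c) := by
    intro g hg
    apply hcent
    intro d hd
    have h50 := (Cfsg.Agent.S5350.result hD hD2 hd).2
    have hmem : g * d * g⁻¹ ∈ {w : ↥(Cfsg.reflectionSubgroup (⇑Q) c) | w ∈ DD Q c ∧
        {y | y ∈ DD Q c ∧ y ≠ d ∧ Commute d y} =
          {y | y ∈ DD Q c ∧ y ≠ (w : ↥(Cfsg.reflectionSubgroup (⇑Q) c)) ∧ Commute w y}} := by
      rw [h50]
      exact ⟨g, hg, rfl⟩
    obtain ⟨hmD, hmc⟩ := hmem
    by_contra hne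
    obtain ⟨y, hy, hyd, hdy, hey⟩ := exists_sep_D Q c hc hQ hn d (g * d * g⁻¹) hd hmD hne
    have : y ∈ {y | y ∈ DD Q c ∧ y ≠ d ∧ Commute d y} := ⟨hy, hyd, hdy⟩
    rw [hmc] at this
    exact hey this.2.2
  -- the component
  obtain ⟨L, hLn, hLq, hLF, -⟩ := Cfsg.Agent.S5352.result hD hD2 hO2 hO3
  have hLn' := hLn
  have : L.Normal := hLn'
  obtain ⟨hprim, hidx⟩ := Cfsg.Agent.S5353.result hD hD2 hO2 hO3 L hLq hLF
  -- connectedness of the commuting graph
  have hconn : (Cfsg.commutingGraph (DD Q c)).Connected := by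
    have : Nonempty ↥(DD Q c) := ⟨⟨mkD Q c hc v0 hv0, mkD_mem Q c hc v0 hv0⟩⟩
    refine ⟨?_⟩
    rintro ⟨a, ha⟩ ⟨b, hb⟩
    obtain ⟨u, hu, rfl⟩ := exists_mkD Q c hc a ha
    obtain ⟨v, hv, rfl⟩ := exists_mkD Q c hc b hb
    obtain ⟨x, hx, hux, hvx⟩ := exists_common Q hQ hn c hc u v hu hv
    have hadj1 : (Cfsg.commutingGraph (DD Q c)).Adj ⟨mkD Q c hc u hu, ha⟩
        ⟨mkD Q c hc x hx, mkD_mem Q c hc x hx⟩ := by
      rw [Cfsg.commutingGraph, SimpleGraph.fromRel_adj]
      refine ⟨?_, Or.inl (commute_of_perp Q c hc u x hu hx hux)⟩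
      intro h
      exact ne_of_perp Q c hc u x hu hx hux (congrArg Subtype.val h)
    have hadj2 : (Cfsg.commutingGraph (DD Q c)).Adj ⟨mkD Q c hc v hv, hb⟩
        ⟨mkD Q c hc x hx, mkD_mem Q c hc x hx⟩ := by
      rw [Cfsg.commutingGraph, SimpleGraph.fromRel_adj]
      refine ⟨?_, Or.inl (commute_of_perp Q c hc v x hv hx hvx)⟩
      intro h
      exact ne_of_perp Q c hc v x hv hx hvx (congrArg Subtype.val h)
    exact hadj1.reachable.trans hadj2.reachable.symm
  have hidx2 : L.index ≤ 2 := hidx hconn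
  have hP : Cfsg.IsPrimitiveUnderConj (DD Q c) := hprim hidx2
  -- identify `L` with the commutator subgroup
  have hLeq : L = commutator ↥(Cfsg.reflectionSubgroup (⇑Q) c) := by
    apply le_antisymm
    · -- `L` is perfect
      have : Group.IsPerfect ↥L := hLq.1
      have h1 : ⁅L, L⁆ = L := Subgroup.commutator_eq_self
      rw [← h1, commutator_def]
      exact Subgroup.commutator_mono le_top le_top
    · rw [commutator_def, Subgroup.commutator_le]
      intro a _ b _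
      have hi0 : L.index ≠ 0 := Subgroup.index_ne_zero_of_finite
      have hi : L.index = 1 ∨ L.index = 2 := by omega
      rcases hi with hi | hi
      · rw [Subgroup.index_eq_one] at hi
        rw [hi]; trivial
      · have key : ∀ x y : ↥(Cfsg.reflectionSubgroup (⇑Q) c), x * y ∈ L ↔ (x ∈ L ↔ y ∈ L) :=
          fun x y => Subgroup.mul_mem_iff_of_index_two hi
        have e : a * b * a⁻¹ * b⁻¹ = (a * b) * (b * a)⁻¹ := by group
        rw [commutatorElement_def, e, key, inv_mem_iff, key, key]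
        tauto
  refine ⟨?_, ?_, ?_, hP⟩
  · rw [← hLeq]; exact hLq
  · rw [← hLeq]; exact hidx2
  · rw [← hLeq, hLF, sup_comm]

end Cfsg.Agent.S5360
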