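import Cfsg.Statements.S5361
import Cfsg.Agent.Lib.H7.TTPrim4

set_option autoImplicit false
open Cfsg
open Cfsg.Agent.Lib.H7.TT Cfsg.Agent.Lib.H26.ThreeTrans

namespace Cfsg.Agent.S5361

theorem prim_iff_aux {G : Type*} [Group G] [Finite G] {D : Set G} (hD : Cfsg.IsThreeTranspositionClass D) (hZ : Subgroup.center G = ⊥) (hw : ∃ a ∈ D, ∃ b ∈ D, a ≠ b ∧ Commute a b) :
    Cfsg.IsPrimitiveUnderConj D ↔ (Cfsg.pCore 2 G = ⊥ ∧ Cfsg.pCore 3 G = ⊥ ∧ (Cfsg.commutingGraph D).Connected) := by
  have hD2 : ∃ a ∈ D, ∃ b ∈ D, a ≠ b := by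
    obtain ⟨a, ha, b, hb, hab, -⟩ := hw
    exact ⟨a, ha, b, hb, hab⟩
  constructor
  · intro hprim
    refine ⟨?_, ?_, connected_of_primitive (class_conj hD) hprim hw⟩
    · have := pCore_two_le_center_of_primitive hD hprim
      rwa [hZ, le_bot_iff] at this
    · have := pCore_three_le_center_of_primitive hD hprim hw
      rwa [hZ, le_bot_iff] at this
  · rintro ⟨h2, h3, hconn⟩
    have h2' : Cfsg.pCore 2 G ≤ Subgroup.center G := by rw [h2]; exact bot_le
    have h3' : Cfsg.pCore 3 G ≤ Subgroup.center G := by rw [h3]; exact bot_le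
    have hne := layer_ne_bot_of_le_center hD hD2 h2' h3'
    rw [Ne, Cfsg.Agent.Lib.H7.layer_eq_bot_iff] at hne
    push Not at hne
    obtain ⟨L, hL⟩ := hne
    exact primitive_of_index_le_two hD hD2 h2' h3' hL (index_le_two_of_connected hD hL hconn)


/-- Let D be a conjugacy class of 3-transpositions generating the finite group G, and suppose the centre of G is trivial and some two different members of D commute. Then the following are equivalent: (1) the commutator subgroup of G is simple (possibly of prime order); (2) G acts primitively on D by conjugation; (3) the largest normal 2-subgroup and the largest normal 3-subgroup of G are trivial and the commuting graph of D is connected. -/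
theorem result {G : Type*} [Group G] [Finite G] {D : Set G} (hD : Cfsg.IsThreeTranspositionClass D) (hZ : Subgroup.center G = ⊥) (hw : ∃ a ∈ D, ∃ b ∈ D, a ≠ b ∧ Commute a b) : (IsSimpleGroup (commutator G) ↔ Cfsg.IsPrimitiveUnderConj D) ∧ (Cfsg.IsPrimitiveUnderConj D ↔ (Cfsg.pCore 2 G = ⊥ ∧ Cfsg.pCore 3 G = ⊥ ∧ (Cfsg.commutingGraph D).Connected)) := by
  have hD2 : ∃ a ∈ D, ∃ b ∈ D, a ≠ b := by
    obtain ⟨a, ha, b, hb, hab, -⟩ := hw
    exact ⟨a, ha, b, hb, hab⟩
  refine ⟨⟨fun hs => primitive_of_isSimpleGroup_commutator hD hZ hw hs, ?_⟩, prim_iff_aux hD hZ hw⟩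
  intro hprim
  obtain ⟨h2, h3, hconn⟩ := (prim_iff_aux hD hZ hw).1 hprim
  have h2' : Cfsg.pCore 2 G ≤ Subgroup.center G := by rw [h2]; exact bot_le
  have h3' : Cfsg.pCore 3 G ≤ Subgroup.center G := by rw [h3]; exact bot_le
  have hne := layer_ne_bot_of_le_center hD hD2 h2' h3'
  rw [Ne, Cfsg.Agent.Lib.H7.layer_eq_bot_iff] at hne
  push Not at hne
  obtain ⟨L, hL⟩ := hne
  have hidx := index_le_two_of_connected hD hL hconn
  rw [commutator_eq_component hD hL hidx]
  exact isSimpleGroup_component hD h2' h3' hL hZ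

end Cfsg.Agent.S5361
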