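import Cfsg.Statements.S5363
import Mathlib

set_option autoImplicit false
open Cfsg

namespace Cfsg.Agent.S5363

/-- Let D be a conjugation-invariant set of involutions of a finite group G. Then every product of two members of D has odd order or order 2 if and only if, for every a in D and every b in D different from a and commuting with a, the members of D commuting with a b are exactly those commuting with both a and b. -/
theorem result {G : Type*} [Group G] [Finite G] {D : Set G} (hinv : ∀ d ∈ D, orderOf d = 2) (hconj : ∀ g : G, ∀ d ∈ D, g * d * g⁻¹ ∈ D) : (∀ a ∈ D, ∀ b ∈ D, Odd (orderOf (a * b)) ∨ orderOf (a * b) = 2) ↔ ∀ a ∈ D, ∀ b ∈ D, b ≠ a → Commute a b → {y : G | y ∈ D ∧ Commute (a * b) y} = {y : G | y ∈ D ∧ Commute a y} ∩ {y : G | y ∈ D ∧ Commute b y} := by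
  classical
  have hsq : ∀ d ∈ D, d * d = 1 := fun d hd => by
    rw [← sq, ← hinv d hd]; exact pow_orderOf_eq_one d
  have hinv' : ∀ d ∈ D, d⁻¹ = d := fun d hd => inv_eq_of_mul_eq_one_right (hsq d hd)
  constructor
  · -- order condition ⟹ centralizer condition
    intro H a ha b hb hba hab
    ext y
    simp only [Set.mem_ofPred_eq, Set.mem_inter_iff]
    constructor
    · rintro ⟨hy, hty⟩
      suffices hay : Commute a y by
        refine ⟨⟨hy, hay⟩, hy, ?_⟩
        have : b = a⁻¹ * (a * b) := by group
        rw [this]
        exact (hay.inv_left).mul_left hty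
      rcases H y hy a ha with hodd | h2
      · -- odd order m of y a forces y = a
        have ht2 : (a * b) ^ 2 = 1 := by
          rw [hab.mul_pow, sq, sq, hsq a ha, hsq b hb, one_mul]
        have ht1 : a * b ≠ 1 := by
          intro h
          apply hba
          have : b = a⁻¹ := (inv_eq_of_mul_eq_one_right h).symm
          rw [this, hinv' a ha]
        have hto : orderOf (a * b) = 2 := orderOf_eq_prime ht2 ht1
        have hyb : y * b = (y * a) * (a * b) := by
          rw [mul_assoc y a, ← mul_assoc a a b, hsq a ha, one_mul]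
        have hc : Commute (y * a) (a * b) := by
          apply Commute.mul_left hty.symm
          exact (Commute.refl a).mul_right hab
        have hord : orderOf (y * b) = orderOf (y * a) * 2 := by
          rw [hyb, hc.orderOf_mul_eq_mul_orderOf_of_coprime (by rw [hto]; exact hodd.coprime_two_right),
            hto]
        have hm : orderOf (y * a) = 1 := by
          rcases H y hy b hb with h | h
          · rw [hord] at h
            exact absurd h (by simp)
          · rw [hord] at h; omega
        have hya : y = a := by
          have := orderOf_eq_one_iff.mp hm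
          have : y = a⁻¹ := eq_inv_of_mul_eq_one_left this
          rw [this, hinv' a ha]
        rw [hya]
      · have h1 : (y * a) * (y * a) = 1 := by
          rw [← sq, ← h2]; exact pow_orderOf_eq_one _
        have h3 : y * a = (y * a)⁻¹ := (inv_eq_of_mul_eq_one_right h1).symm
        rw [mul_inv_rev, hinv' a ha, hinv' y hy] at h3
        exact h3.symm
    · rintro ⟨⟨hy, hay⟩, -, hby⟩
      exact ⟨hy, hay.mul_left hby⟩
  · -- centralizer condition ⟹ order condition
    intro H a ha b hb
    by_contra hcon
    rw [not_or, Nat.not_odd_iff_even] at hcon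
    obtain ⟨⟨k, hk⟩, hne2⟩ := hcon
    obtain ⟨r, hr⟩ : ∃ r, r = a * b := ⟨_, rfl⟩
    rw [← hr] at hk hne2
    have hnpos : 0 < orderOf r := orderOf_pos r
    have hkpos : 0 < k := by omega
    -- all elements a r^i belong to D
    have hara : a * r * a⁻¹ = r⁻¹ := by
      calc a * r * a⁻¹ = (a * a) * b * a⁻¹ := by rw [hr]; group
        _ = b * a := by rw [hsq a ha, one_mul, hinv' a ha]
        _ = r⁻¹ := by rw [hr, mul_inv_rev, hinv' a ha, hinv' b hb]
    have hstep : ∀ i : ℕ, a * r ^ (i + 2) = r⁻¹ * (a * r ^ i) * r⁻¹⁻¹ := by
      intro i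
      have h1 : r⁻¹ * a = a * r := by
        rw [← hara]; group
      symm
      calc r⁻¹ * (a * r ^ i) * r⁻¹⁻¹ = (r⁻¹ * a) * r ^ i * r := by rw [inv_inv]; group
        _ = a * r * r ^ i * r := by rw [h1]
        _ = a * r ^ (i + 2) := by rw [pow_add, pow_two]; group
    have hD : ∀ i : ℕ, a * r ^ i ∈ D ∧ a * r ^ (i + 1) ∈ D := by
      intro i
      induction i with
      | zero =>
        refine ⟨by simpa using ha, ?_⟩
        rw [zero_add, pow_one, hr, ← mul_assoc, hsq a ha, one_mul]; exact hb
      | succ i ih =>
        refine ⟨ih.2, ?_⟩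
        rw [hstep i]
        exact hconj _ _ ih.1
    set z := r ^ k with hz
    have hz2 : z * z = 1 := by
      rw [hz, ← pow_add, ← hk]; exact pow_orderOf_eq_one r
    have hz1 : z ≠ 1 := pow_ne_one_of_lt_orderOf (by omega) (by omega)
    have hzinv : z⁻¹ = z := inv_eq_of_mul_eq_one_right hz2
    have haz : Commute a z := by
      have h1 : a * z * a⁻¹ = z⁻¹ := by
        rw [hz, ← inv_pow, ← hara, conj_pow]
      rw [hzinv] at h1
      show a * z = z * a
      calc a * z = a * z * a⁻¹ * a := by group
        _ = z * a := by rw [h1]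
    have hbz : Commute b z := by
      have hb' : b = a⁻¹ * r := by rw [hr]; group
      rw [hb']
      exact haz.inv_left.mul_left (Commute.pow_right (Commute.refl r) k)
    have hcD : a * z ∈ D := (hD k).1
    have hca : a * z ≠ a := by
      intro h
      exact hz1 (by simpa using h)
    have hset := H a ha (a * z) hcD hca (by
      exact (Commute.refl a).mul_right haz)
    have haaz : a * (a * z) = z := by rw [← mul_assoc, hsq a ha, one_mul]
    rw [haaz] at hset
    have hbin : b ∈ {y : G | y ∈ D ∧ Commute z y} := ⟨hb, hbz.symm⟩
    rw [hset] at hbin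
    have hab : Commute a b := hbin.1.2
    have hr2 : r ^ 2 = 1 := by
      rw [hr, hab.mul_pow, sq, sq, hsq a ha, hsq b hb, one_mul]
    have hdvd : orderOf r ∣ 2 := orderOf_dvd_of_pow_eq_one hr2
    have hle : orderOf r ≤ 2 := Nat.le_of_dvd (by norm_num) hdvd
    omega


end Cfsg.Agent.S5363
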