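import Cfsg.Statements.S5364
-- import your own Cfsg.Agent.* helpers here

set_option autoImplicit false
open Cfsg

namespace Cfsg.Agent.S5364

/-- Let D be a conjugation-invariant set of involutions of a finite group G and t an involution in the centre of G such that d t does not lie in D for any d in D. If the images of the members of D in G modulo the subgroup generated by t satisfy the 3-transposition order conditions (each has order 2 and any two have product of order at most 3), then so do the members of D. -/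
theorem result {G : Type*} [Group G] [Finite G] {D : Set G} (hinv : ∀ d ∈ D, orderOf d = 2) (hconj : ∀ g : G, ∀ d ∈ D, g * d * g⁻¹ ∈ D) (t : G) (ht : orderOf t = 2) (htZ : t ∈ Subgroup.center G) (hDt : ∀ d ∈ D, d * t ∉ D) [(Subgroup.zpowers t).Normal] (himg : Cfsg.IsThreeTranspositionSet ((QuotientGroup.mk : G → G ⧸ Subgroup.zpowers t) '' D)) : Cfsg.IsThreeTranspositionSet D := by
  obtain ⟨-, hprod⟩ := himg
  refine ⟨hinv, ?_⟩
  have ht2 : t ^ 2 = 1 := by rw [← ht]; exact pow_orderOf_eq_one t
  have hzp : ∀ x ∈ Subgroup.zpowers t, x = 1 ∨ x = t := by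
    intro x hx
    obtain ⟨n, rfl⟩ := Subgroup.mem_zpowers_iff.mp hx
    rcases Int.even_or_odd' n with ⟨k, rfl | rfl⟩
    · left
      rw [zpow_mul, zpow_ofNat, ht2, one_zpow]
    · right
      rw [zpow_add, zpow_mul, zpow_ofNat, ht2, one_zpow, one_mul, zpow_one]
  have hsq : ∀ d ∈ D, d ^ 2 = 1 := fun d hd => by rw [← hinv d hd]; exact pow_orderOf_eq_one d
  have hinv' : ∀ d ∈ D, d⁻¹ = d := fun d hd => by
    rw [inv_eq_iff_mul_eq_one, ← sq]; exact hsq d hd
  have htc : ∀ g : G, g * t = t * g := fun g => Subgroup.mem_center_iff.mp htZ g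
  intro a ha b hb
  have hab := hprod _ ⟨a, ha, rfl⟩ _ ⟨b, hb, rfl⟩
  have hmk : ∀ k : ℕ, ((QuotientGroup.mk a : G ⧸ Subgroup.zpowers t) * QuotientGroup.mk b) ^ k = 1 →
      (a * b) ^ k = 1 ∨ (a * b) ^ k = t := by
    intro k hk
    have : ((QuotientGroup.mk ((a * b) ^ k) : G ⧸ Subgroup.zpowers t)) = 1 := by
      rw [QuotientGroup.mk_pow, QuotientGroup.mk_mul]; exact hk
    exact hzp _ ((QuotientGroup.eq_one_iff _).mp this)
  rcases hab with h | h
  · rcases hmk 2 h with h2 | h2
    · exact Or.inl h2
    · exfalso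
      -- a b a b = t, so a b a⁻¹ = b t
      apply hDt b hb
      have hc : a * b * a⁻¹ ∈ D := hconj a b hb
      have : a * b * a⁻¹ = b * t := by
        rw [← h2, hinv' a ha]
        have hb' := hinv' b hb
        calc a * b * a = a * b * a * b * b⁻¹ := by group
          _ = (a * b) ^ 2 * b := by rw [hb', sq]; group
          _ = b * (a * b) ^ 2 := by rw [h2]; exact (htc b).symm
      rw [← this]; exact hc
  · rcases hmk 3 h with h3 | h3
    · exact Or.inr h3
    · exfalso
      have hc : a * b * a⁻¹ ∈ D := hconj a b hb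
      have he : b * a * b⁻¹ ∈ D := hconj b a ha
      apply hDt _ hc
      have hce : (a * b * a⁻¹) * (b * a * b⁻¹) = t := by
        rw [hinv' a ha, hinv' b hb, ← h3, pow_succ, sq]; group
      have hcinv := hinv' _ hc
      have : a * b * a⁻¹ * t = b * a * b⁻¹ := by
        rw [← hce, ← mul_assoc]
        nth_rewrite 1 [← hcinv]
        group
      rw [this]; exact he


end Cfsg.Agent.S5364
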