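import Cfsg.Statements.S5366
import Cfsg.Agent.Lib.H9.Fischer2
-- import your own Cfsg.Agent.* helpers here

set_option autoImplicit false
open Cfsg

namespace Cfsg.Agent.S5366

open Cfsg.LineSystem Cfsg.Agent.Lib.H9.Fischer in
theorem tPerm_ne_one {X : Type*} (L : Set (Set X)) (hL : Cfsg.IsFischerSpace L)
    (hnd : Cfsg.LineSystem.IsNondegenerate L) (x : X) : tPerm L hL.1 x ≠ 1 := by
  obtain ⟨l, hl, hxl⟩ := hnd x
  obtain ⟨a, b, c, hab, hac, hbc, rfl⟩ := Set.ncard_eq_three.mp (hL.2.1 l hl)
  have hy : ∃ y ∈ ({a, b, c} : Set X), y ≠ x := by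
    by_cases h : a = x
    · exact ⟨b, by simp, fun h' => hab (h.trans h'.symm)⟩
    · exact ⟨a, by simp, h⟩
  obtain ⟨y, hyl, hyx⟩ := hy
  obtain ⟨z, hz, -⟩ := exists_third hL.2.1 hl hxl hyl (Ne.symm hyx)
  intro h
  have h1 : tPerm L hL.1 x y = y := by rw [h]; rfl
  rw [tPerm_apply, lineMap_eq_of_third hL.1 hz] at h1
  exact hz.2.1 h1


/-- Let L be a nondegenerate Fischer space on the point type X (every point on a line). Then for every point x the map t(x) — sending a point collinear with x to the third point of their common line and fixing every other point — is a permutation of X of order 2 and an automorphism of the line system; and the set of all t(x) satisfies the 3-transposition order conditions in the permutation group of X (any two have product of order at most 3). -/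
theorem result {X : Type*} (L : Set (Set X)) (hL : Cfsg.IsFischerSpace L) (hnd : Cfsg.LineSystem.IsNondegenerate L) : (∀ x : X, ∃ σ : Equiv.Perm X, ⇑σ = Cfsg.LineSystem.lineMap L x ∧ orderOf σ = 2 ∧ Cfsg.LineSystem.IsIso L L σ) ∧ Cfsg.IsThreeTranspositionSet {σ : Equiv.Perm X | ∃ x : X, ⇑σ = Cfsg.LineSystem.lineMap L x} := by
  open Cfsg.LineSystem Cfsg.Agent.Lib.H9.Fischer in
  have hPL := hL.1
  have hiso : ∀ x, IsIso L L (tPerm L hPL x) := fun x =>
    isIso_tPerm hL (fun h p => da_image h p) (fun h p => ag3_image h p) x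
  have hord : ∀ x, orderOf (tPerm L hPL x) = 2 := by
    intro x
    apply orderOf_eq_prime
    · rw [pow_two]; exact tPerm_mul_self L hPL x
    · exact tPerm_ne_one L hL hnd x
  have hD : ∀ d ∈ {σ : Equiv.Perm X | ∃ x : X, ⇑σ = Cfsg.LineSystem.lineMap L x},
      ∃ x, d = tPerm L hPL x := by
    rintro d ⟨x, hx⟩
    exact ⟨x, Equiv.ext (fun y => by rw [hx]; rfl)⟩
  refine ⟨fun x => ⟨tPerm L hPL x, rfl, hord x, hiso x⟩, ?_, ?_⟩
  · intro d hd
    obtain ⟨x, rfl⟩ := hD d hd
    exact hord x
  · intro d hd e he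
    obtain ⟨x, rfl⟩ := hD d hd
    obtain ⟨y, rfl⟩ := hD e he
    exact three_transp hPL hiso x y

end Cfsg.Agent.S5366
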