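import Cfsg.Statements.S5367
import Cfsg.Agent.Lib.H6.FischerSp4

set_option autoImplicit false
open Cfsg

namespace Cfsg.Agent.S5367

/-- Let D be a conjugation-invariant generating set of 3-transpositions of a finite group G. Then the line system on D whose lines are the triples {x, y, y x y⁻¹} for non-commuting members x, y of D is a Fischer space: two points lie on at most one line, lines have three points, and two different meeting lines generate a subspace isomorphic to the dual affine plane of order two or to the affine plane of order three. -/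
theorem result {G : Type*} [Group G] [Finite G] {D : Set G} (hD : Cfsg.IsThreeTranspositionGroup D) : Cfsg.IsFischerSpace (Cfsg.threeTranspositionLines D) := by

  open Cfsg.Agent.Lib.H6.FischerSp Cfsg.LineSystem in
  have h := TT.of_group hD
  refine ⟨h.isPartialLinear, h.ncard_eq_three, ?_⟩
  intro l hl m hm hlm hne
  obtain ⟨x, y, hxy, hl'⟩ := (mem_lines_iff l).mp hl
  obtain ⟨x', y', hxy', hm'⟩ := (mem_lines_iff m).mp hm
  subst hl' hm'
  obtain ⟨a, hal, ham⟩ := hne
  have hex : ∀ {u v : ↥D}, ¬ Commute (u : G) v → a ∈ line u v → ∃ b ∈ line u v, b ≠ a := by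
    intro u v huv _
    by_cases e : a = u
    · refine ⟨v, right_mem_line u v, ?_⟩
      rintro rfl
      exact huv (by rw [e])
    · exact ⟨u, left_mem_line u v, Ne.symm e⟩
  by_cases hA : ∃ b ∈ line x y, ∃ c ∈ line x' y', b ≠ a ∧ c ≠ a ∧ Commute (b : G) c
  · obtain ⟨b, hb, c, hc, hba, hca, hbc⟩ := hA
    obtain ⟨hab, hl⟩ := h.line_eq_of_mem hxy hal hb (Ne.symm hba)
    obtain ⟨hac, hm⟩ := h.line_eq_of_mem hxy' ham hc (Ne.symm hca)
    left
    rw [hl, hm] at hlm ⊢
    apply caseA h hab hac hbc
    · intro hc2
      apply hlm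
      exact (h.line_eq_of_mem hab (left_mem_line a b) hc2 (Ne.symm hca)).2
    · intro hc2
      have hne : a ≠ h.Tm a c := by
        intro e
        apply h.not_commute_T_left a.2 c.2 hac
        have : (a : G) = T (a : G) c := congrArg Subtype.val e
        rw [← this]
      have e1 := (h.line_eq_of_mem hab (left_mem_line a b) hc2 hne).2
      have e2 := (h.line_eq_of_mem hac (left_mem_line a c) (h.third_mem_line a c) hne).2
      apply hlm
      rw [e1, e2]
  · right
    push_neg at hA
    obtain ⟨b, hb, hba⟩ := hex hxy hal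
    obtain ⟨c, hc, hca⟩ := hex hxy' ham
    obtain ⟨hab, hl⟩ := h.line_eq_of_mem hxy hal hb (Ne.symm hba)
    obtain ⟨hac, hm⟩ := h.line_eq_of_mem hxy' ham hc (Ne.symm hca)
    have hb'l : h.Tm a b ∈ line x y := by rw [hl]; exact h.third_mem_line a b
    have hc'm : h.Tm a c ∈ line x' y' := by rw [hm]; exact h.third_mem_line a c
    have hb'a : h.Tm a b ≠ a := by
      intro e
      apply h.not_commute_T_left a.2 b.2 hab
      have : T (a : G) b = (a : G) := congrArg Subtype.val e
      rw [this]
    have hc'a : h.Tm a c ≠ a := by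
      intro e
      apply h.not_commute_T_left a.2 c.2 hac
      have : T (a : G) c = (a : G) := congrArg Subtype.val e
      rw [this]
    rw [hl, hm]
    exact caseB h hab hac (hA b hb c hc hba hca) (hA b hb _ hc'm hba hc'a)
      (hA _ hb'l c hc hb'a hca) (hA _ hb'l _ hc'm hb'a hc'a)

end Cfsg.Agent.S5367
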