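import Mathlib
import Cfsg.Statements.S5393
import Cfsg.Agent.Lib.H28.M24Orbit
import Cfsg.Agent.Lib.H27.GolayFacts

set_option autoImplicit false
open Cfsg

namespace Cfsg.Agent.S5393

open Cfsg.Agent.Lib.H28 Cfsg.Agent.Lib.H27
open scoped Pointwise

/-- transport of a word in an invariant subspace along `M24`-equivalence of supports -/
theorem mem_of_smul_support {W' : Submodule (ZMod 2) (GolayPt → ZMod 2)}
    (hinv : ∀ σ ∈ Cfsg.M24, ∀ w ∈ W', (fun p => w (σ.symm p)) ∈ W')
    {w w' : GolayPt → ZMod 2} (hw : w ∈ W') {g : Equiv.Perm GolayPt} (hg : g ∈ M24)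
    (h : g • support₂ w = support₂ w') : w' ∈ W' := by
  rw [smul_support₂] at h
  have := hinv g hg w hw
  have e : (fun p => w (g.symm p)) = w' := support₂_injective h
  rw [← e]; exact this

theorem weight_cases {w : GolayPt → ZMod 2} (hw : w ∈ golayCode) (h0 : w ≠ 0) (h1 : w ≠ 1) :
    hammingNorm w = 8 ∨ hammingNorm w = 12 ∨ hammingNorm w = 16 := by
  rcases golayCode_weight hw with h | h | h | h | h
  · exact absurd (hammingNorm_eq_zero.1 h) h0
  · exact Or.inl h
  · exact Or.inr (Or.inl h)
  · exact Or.inr (Or.inr h)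
  · exfalso
    apply h1
    have h2 := wt_one_add w
    have h3 : Fintype.card GolayPt = 24 := by decide
    rw [h, h3] at h2
    have h4 : hammingNorm (1 + w) = 0 := by omega
    have h5 : 1 + w = 0 := hammingNorm_eq_zero.1 h4
    have h6 : w = 1 + (1 + w) := by
      rw [← add_assoc, add_self', zero_add]
    rw [h6, h5, add_zero]

theorem result : (fun _ : Cfsg.GolayPt => (1 : ZMod 2)) ∈ Cfsg.golayCode ∧ ∀ W : Submodule (ZMod 2) (Cfsg.GolayPt → ZMod 2), (fun _ => (1 : ZMod 2)) ∈ W → W ≤ Cfsg.golayCode → (∀ σ ∈ Cfsg.M24, ∀ w ∈ W, (fun p => w (σ.symm p)) ∈ W) → W = Submodule.span (ZMod 2) {fun _ => (1 : ZMod 2)} ∨ W = Cfsg.golayCode := by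
  refine ⟨one_mem_golayCode, ?_⟩
  intro W' h1W hle hinv
  have h1W' : (1 : GolayPt → ZMod 2) ∈ W' := h1W
  by_cases hsp : W' ≤ Submodule.span (ZMod 2) {fun _ => (1 : ZMod 2)}
  · left
    apply le_antisymm hsp
    rw [Submodule.span_le]
    intro x hx
    rw [Set.mem_singleton_iff] at hx
    rw [hx]; exact h1W
  · right
    apply le_antisymm hle
    -- a word of `W'` other than `0`, `1`
    obtain ⟨w, hwW, hwn⟩ := Set.not_subset.1 hsp
    have hw0 : w ≠ 0 := by
      rintro rfl
      exact hwn (Submodule.zero_mem _)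
    have hw1 : w ≠ 1 := by
      rintro rfl
      exact hwn (Submodule.subset_span rfl)
    have hwC : w ∈ golayCode := hle hwW
    -- `W'` contains a word of weight 8
    have hoct : ∃ o ∈ W', hammingNorm o = 8 := by
      rcases weight_cases hwC hw0 hw1 with h | h | h
      · exact ⟨w, hwW, h⟩
      · -- dodecad: all dodecads lie in `W'`
        have hd : support₂ w ∈ dodecads :=
          ⟨⟨w, hwC, rfl⟩, by rw [card_support₂_eq]; exact h⟩
        have hall : ∀ m : ℕ, inC m = true → popc m = 12 → W m ∈ W' := by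
          intro m hm hp
          have hd' : support₂ (W m) ∈ dodecads :=
            ⟨⟨W m, W_mem_of_inC hm, rfl⟩, by rw [card_support₂_eq, hammingNorm_W]; exact hp⟩
          obtain ⟨g, hg, hgd⟩ := exists_M24_smul_dodecad hd hd'
          exact mem_of_smul_support hinv hwW hg hgd
        have h1 := hall 340831 (by decide +kernel) (by decide +kernel)
        have h2 := hall 11472927 (by decide +kernel) (by decide +kernel)
        refine ⟨W (340831 ^^^ 11472927), ?_, ?_⟩
        · rw [W_xor]; exact W'.add_mem h1 h2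
        · rw [hammingNorm_W]; decide +kernel
      · refine ⟨1 + w, W'.add_mem h1W' hwW, ?_⟩
        have h2 := wt_one_add w
        have h3 : Fintype.card GolayPt = 24 := by decide
        rw [h, h3] at h2
        omega
    obtain ⟨o, hoW, ho8⟩ := hoct
    have hoC : o ∈ golayCode := hle hoW
    have ho : support₂ o ∈ octads := ⟨⟨o, hoC, rfl⟩, by rw [card_support₂_eq]; exact ho8⟩
    rw [← span_octads golayCode_isAbsGolay, Submodule.span_le]
    rintro o' ⟨ho'C, ho'8⟩
    have ho' : support₂ o' ∈ octads := ⟨⟨o', ho'C, rfl⟩, by rw [card_support₂_eq]; exact ho'8⟩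
    obtain ⟨g, hg, hgo⟩ := exists_M24_smul_octad ho ho'
    exact mem_of_smul_support hinv hoW hg hgo

end Cfsg.Agent.S5393
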