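import Mathlib
import Cfsg.Statements.S5395

set_option autoImplicit false
open Cfsg

namespace Cfsg.Agent.S5395

open scoped IsMulCommutative commutatorElement

section helpers
variable {E : Type*} [Group E]

/-- For a map `φ` that is multiplicative and trivial modulo the centre, `x ↦ φ x * x⁻¹` is a
homomorphism to the centre. -/
def fHom (φ : E →* E) (hφ : ∀ x : E, φ x * x⁻¹ ∈ Subgroup.center E) : E →* Subgroup.center E where
  toFun x := ⟨φ x * x⁻¹, hφ x⟩
  map_one' := by ext; simp
  map_mul' x y := by
    ext
    have hy := hφ y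
    rw [Subgroup.mem_center_iff] at hy
    simp only [map_mul, mul_inv_rev, Subgroup.coe_mul]
    calc φ x * φ y * (y⁻¹ * x⁻¹) = φ x * ((φ y * y⁻¹) * x⁻¹) := by simp only [mul_assoc]
      _ = φ x * (x⁻¹ * (φ y * y⁻¹)) := by rw [hy x⁻¹]
      _ = φ x * x⁻¹ * (φ y * y⁻¹) := by simp only [mul_assoc]

theorem fHom_apply (φ : E →* E) (hφ : ∀ x : E, φ x * x⁻¹ ∈ Subgroup.center E) (x : E) :
    (fHom φ hφ x : E) = φ x * x⁻¹ := rfl

theorem conj_mem_center (hc : commutator E = Subgroup.center E) (g x : E) :
    (MulAut.conj g).toMonoidHom x * x⁻¹ ∈ Subgroup.center E := by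
  rw [← hc, commutator_def]
  have : (MulAut.conj g).toMonoidHom x * x⁻¹ = ⁅g, x⁆ := by
    simp [commutatorElement_def]
  rw [this]
  exact Subgroup.commutator_mem_commutator (Subgroup.mem_top g) (Subgroup.mem_top x)

/-- the commutator pairing as a homomorphism `E →* (E →* ℂˣ)` -/
noncomputable def pairing (hc : commutator E = Subgroup.center E) (ι : Subgroup.center E →* ℂˣ) :
    E →* (E →* ℂˣ) :=
  MonoidHom.mk' (fun g => ι.comp (fHom (MulAut.conj g).toMonoidHom (conj_mem_center hc g))) (by
    intro g h
    ext x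
    simp only [MonoidHom.comp_apply, MonoidHom.mul_apply]
    rw [← map_mul]
    congr 2
    ext
    rw [Subgroup.coe_mul, fHom_apply, fHom_apply, fHom_apply]
    have hh := conj_mem_center hc h x
    rw [Subgroup.mem_center_iff] at hh
    simp only [MulEquiv.coe_toMonoidHom, MulAut.conj_apply] at hh ⊢
    calc g * h * x * (g * h)⁻¹ * x⁻¹ = g * ((h * x * h⁻¹ * x⁻¹) * (x * g⁻¹ * x⁻¹)) := by group
      _ = g * ((x * g⁻¹ * x⁻¹) * (h * x * h⁻¹ * x⁻¹)) := by rw [hh]
      _ = g * x * g⁻¹ * x⁻¹ * (h * x * h⁻¹ * x⁻¹) := by group)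

theorem pairing_apply (hc : commutator E = Subgroup.center E) (ι : Subgroup.center E →* ℂˣ)
    (g x : E) : pairing hc ι g x = ι ⟨g * x * g⁻¹ * x⁻¹, by
      have := conj_mem_center hc g x
      simpa using this⟩ := rfl

end helpers

theorem result {E : Type*} [Group E] [Finite E] (hE : Cfsg.IsExtraspecial 2 E) (φ : E ≃* E) (hφ : ∀ x : E, φ x * x⁻¹ ∈ Subgroup.center E) : ∃ g : E, ∀ x : E, φ x = g * x * g⁻¹ := by
  obtain ⟨⟨hp, hfr, hc⟩, hcard⟩ := hE
  -- an injective hom center E → ℂˣ
  have hι : ∃ ι : Subgroup.center E →* ℂˣ, Function.Injective ι := by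
    have hnt : ∃ z : Subgroup.center E, z ≠ 1 := by
      by_contra h
      push Not at h
      have : Subsingleton (Subgroup.center E) := ⟨fun a b => (h a).trans (h b).symm⟩
      have := Nat.card_of_subsingleton (1 : Subgroup.center E)
      omega
    obtain ⟨z, hz⟩ := hnt
    have : NeZero ((Monoid.exponent (Subgroup.center E) : ℕ) : ℂ) :=
      ⟨Nat.cast_ne_zero.mpr Monoid.exponent_ne_zero_of_finite⟩
    obtain ⟨ι, hιz⟩ := CommGroup.exists_apply_ne_one_of_hasEnoughRootsOfUnity
      (Subgroup.center E) ℂ hz
    refine ⟨ι, ?_⟩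
    rw [injective_iff_map_eq_one]
    intro w hw
    by_contra hw1
    -- center has exactly two elements: 1, z
    have h2 : ∀ a : Subgroup.center E, a = 1 ∨ a = z := by
      intro a
      by_contra hne
      push Not at hne
      have h3 : 3 ≤ Nat.card (Subgroup.center E) := by
        have hinj : Function.Injective (![1, z, a] : Fin 3 → Subgroup.center E) := by
          intro i j hij
          fin_cases i <;> fin_cases j <;> simp_all
        have := Nat.card_le_card_of_injective _ hinj
        simpa using this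
      omega
    rcases h2 w with h | h
    · exact hw1 h
    · rw [h] at hw; exact hιz hw
  obtain ⟨ι, hιinj⟩ := hι
  -- cardinalities
  have hcardE1 : Nat.card E = Nat.card (E ⧸ commutator E) * Nat.card (commutator E) :=
    Subgroup.card_eq_card_quotient_mul_card_subgroup _
  have hker : (pairing hc ι).ker = Subgroup.center E := by
    ext g
    rw [MonoidHom.mem_ker, Subgroup.mem_center_iff]
    constructor
    · intro h x
      have := congrArg (fun f : E →* ℂˣ => f x) h
      simp only [pairing_apply, MonoidHom.one_apply] at this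
      rw [← map_one ι] at this
      have h1 := congrArg Subtype.val (hιinj this)
      simp only [Subgroup.coe_one] at h1
      calc x * g = (g * x * g⁻¹ * x⁻¹) * (x * g) := by rw [h1, one_mul]
        _ = g * x := by group
    · intro h
      ext x
      simp only [pairing_apply, MonoidHom.one_apply]
      rw [← map_one ι]
      congr 2
      ext
      simp only [Subgroup.coe_one]
      rw [← h x]; group
  have hcardE2 : Nat.card E = Nat.card (pairing hc ι).range * Nat.card (pairing hc ι).ker := by
    rw [Subgroup.card_eq_card_quotient_mul_card_subgroup (pairing hc ι).ker]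
    congr 1
    exact Nat.card_congr (QuotientGroup.quotientKerEquivRange (pairing hc ι)).toEquiv
  have hdual : Nat.card (E →* ℂˣ) = Nat.card (E ⧸ commutator E) := by
    have : NeZero ((Monoid.exponent (Abelianization E) : ℕ) : ℂ) :=
      ⟨Nat.cast_ne_zero.mpr Monoid.exponent_ne_zero_of_finite⟩
    rw [Nat.card_congr (Abelianization.lift (G := E) (A := ℂˣ))]
    exact CommGroup.card_monoidHom_of_hasEnoughRootsOfUnity (Abelianization E) ℂ
  have hfin : Finite (E →* ℂˣ) := by
    apply Nat.finite_of_card_ne_zero
    rw [hdual]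
    exact Nat.card_pos.ne'
  have hrange : (pairing hc ι).range = ⊤ := by
    apply Subgroup.eq_top_of_card_eq
    rw [hdual]
    rw [hker, ← hc] at hcardE2
    have hpos : 0 < Nat.card (commutator E) := Nat.card_pos
    have := hcardE1.symm.trans hcardE2
    exact (Nat.eq_of_mul_eq_mul_right hpos this).symm
  -- apply to φ
  have hmem : ι.comp (fHom φ.toMonoidHom hφ) ∈ (pairing hc ι).range := by rw [hrange]; trivial
  obtain ⟨g, hg⟩ := hmem
  refine ⟨g, fun x => ?_⟩
  have := congrArg (fun f : E →* ℂˣ => f x) hg
  simp only [pairing_apply, MonoidHom.comp_apply] at this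
  have h1 := congrArg Subtype.val (hιinj this)
  have h1' : g * x * g⁻¹ * x⁻¹ = φ x * x⁻¹ := h1
  have := mul_right_cancel h1'
  exact this.symm

end Cfsg.Agent.S5395
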