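import Cfsg.Statements.S5396
import Mathlib
import Cfsg.Agent.S3763
import Cfsg.Agent.Lib.H27.Extraspecial
import Cfsg.Agent.Lib.H5.NCTools

set_option autoImplicit false
open Cfsg

namespace Cfsg.Agent.S5396

open Cfsg.Agent.Lib.H1 Cfsg.Agent.S0099
open scoped commutatorElement

/-- central elements of square one -/
def CInv (E : Type) [Group E] : Type := {z : E // (∀ g : E, g * z = z * g) ∧ z * z = 1}

/-- the carrier of the central product of `E` with a dihedral group of order eight -/
@[ext] structure Ext (E : Type) [Group E] (z : CInv E) where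
  e : E
  i : Bool
  j : Bool

section ext

variable {E : Type} [Group E] (z : CInv E)

/-- the cocycle -/
def cz (a b : Bool) : E := if a && b then z.1 else 1

theorem cz_comm (a b : Bool) (g : E) : g * cz z a b = cz z a b * g := by
  unfold cz
  split
  · exact z.2.1 g
  · rw [mul_one, one_mul]

theorem cz_sq (a b : Bool) : cz z a b * cz z a b = 1 := by
  unfold cz
  split
  · exact z.2.2
  · rw [mul_one]

theorem cz_cocycle (j j' i' i'' : Bool) :
    cz z j i' * cz z (xor j j') i'' = cz z j' i'' * cz z j (xor i' i'') := by
  have hz := z.2.2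
  have hc := z.2.1
  cases j <;> cases j' <;> cases i' <;> cases i'' <;> simp [cz, hz]

instance : Mul (Ext E z) := ⟨fun a b => ⟨a.e * b.e * cz z a.j b.i, xor a.i b.i, xor a.j b.j⟩⟩
instance : One (Ext E z) := ⟨⟨1, false, false⟩⟩
instance : Inv (Ext E z) := ⟨fun a => ⟨a.e⁻¹ * cz z a.j a.i, a.i, a.j⟩⟩

theorem mul_e (a b : Ext E z) : (a * b).e = a.e * b.e * cz z a.j b.i := rfl
theorem mul_i (a b : Ext E z) : (a * b).i = xor a.i b.i := rfl
theorem mul_j (a b : Ext E z) : (a * b).j = xor a.j b.j := rfl
theorem one_e : (1 : Ext E z).e = 1 := rfl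
theorem one_i : (1 : Ext E z).i = false := rfl
theorem one_j : (1 : Ext E z).j = false := rfl
theorem inv_e (a : Ext E z) : (a⁻¹).e = a.e⁻¹ * cz z a.j a.i := rfl
theorem inv_i (a : Ext E z) : (a⁻¹).i = a.i := rfl
theorem inv_j (a : Ext E z) : (a⁻¹).j = a.j := rfl

instance : Group (Ext E z) :=
  Group.ofLeftAxioms
    (by
      intro a b c
      apply Ext.ext
      · simp only [mul_e, mul_i, mul_j]
        calc a.e * b.e * cz z a.j b.i * c.e * cz z (xor a.j b.j) c.i
            = a.e * b.e * c.e * (cz z a.j b.i * cz z (xor a.j b.j) c.i) := by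
              rw [mul_assoc (a.e * b.e) _ c.e, ← cz_comm z _ _ c.e]
              simp only [mul_assoc]
          _ = a.e * b.e * c.e * (cz z b.j c.i * cz z a.j (xor b.i c.i)) := by rw [cz_cocycle]
          _ = a.e * (b.e * c.e * cz z b.j c.i) * cz z a.j (xor b.i c.i) := by
              simp only [mul_assoc]
      · simp only [mul_i, Bool.xor_assoc]
      · simp only [mul_j, Bool.xor_assoc])
    (by
      intro a
      apply Ext.ext
      · simp [mul_e, one_e, one_j, cz]
      · simp [mul_i, one_i]
      · simp [mul_j, one_j])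
    (by
      intro a
      apply Ext.ext
      · rw [mul_e, inv_e, inv_j, one_e]
        calc a.e⁻¹ * cz z a.j a.i * a.e * cz z a.j a.i
            = a.e⁻¹ * a.e * (cz z a.j a.i * cz z a.j a.i) := by
              rw [mul_assoc a.e⁻¹ _ a.e, ← cz_comm z _ _ a.e]
              simp only [mul_assoc]
          _ = 1 := by rw [cz_sq, inv_mul_cancel, mul_one]
      · simp [mul_i, inv_i, one_i]
      · simp [mul_j, inv_j, one_j])

/-- the embedding of `E` -/
def inl : E →* Ext E z where
  toFun e := ⟨e, false, false⟩
  map_one' := rfl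
  map_mul' a b := by
    apply Ext.ext
    · simp [mul_e, cz]
    · simp [mul_i]
    · simp [mul_j]

theorem inl_injective : Function.Injective (inl z) := by
  intro a b h
  exact congrArg Ext.e h

/-- the two new involutions -/
def gx : Ext E z := ⟨1, true, false⟩
def gy : Ext E z := ⟨1, false, true⟩

theorem gx_sq : gx z ^ 2 = 1 := by
  rw [pow_two]
  apply Ext.ext
  · simp [mul_e, gx, cz, one_e]
  · simp [mul_i, gx, one_i]
  · simp [mul_j, gx, one_j]

theorem gy_sq : gy z ^ 2 = 1 := by
  rw [pow_two]
  apply Ext.ext
  · simp [mul_e, gy, cz, one_e]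
  · simp [mul_i, gy, one_i]
  · simp [mul_j, gy, one_j]

theorem gx_gy_ne (hz : z.1 ≠ 1) : ⁅gx z, gy z⁆ ≠ 1 := by
  intro h
  have h1 := commutatorElement_eq_one_iff_mul_comm.mp h
  have h2 := congrArg Ext.e h1
  simp [mul_e, gx, gy, cz] at h2
  exact hz h2.symm

theorem mem_pc_iff (hz : z.1 ≠ 1) (g : Ext E z) :
    g ∈ pairCentralizer (gx z) (gy z) ↔ g.i = false ∧ g.j = false := by
  rw [mem_pairCentralizer_iff]
  constructor
  · rintro ⟨h1, h2⟩
    have h1e := congrArg Ext.e h1
    have h2e := congrArg Ext.e h2
    simp only [mul_e, gx, gy, one_mul, mul_one] at h1e h2e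
    constructor
    · by_contra hi
      have hi' : g.i = true := by simpa using hi
      rw [hi'] at h2e
      simp [cz] at h2e
      exact hz h2e
    · by_contra hj
      have hj' : g.j = true := by simpa using hj
      rw [hj'] at h1e
      simp [cz] at h1e
      exact hz h1e
  · rintro ⟨hi, hj⟩
    constructor
    · apply Ext.ext
      · simp [mul_e, gx, cz, hj]
      · simp [mul_i, gx, hi]
      · simp [mul_j, gx, hj]
    · apply Ext.ext
      · simp [mul_e, gy, cz, hi]
      · simp [mul_i, gy, hi]
      · simp [mul_j, gy, hj]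

/-- the centralizer of the new pair is the old group -/
noncomputable def pcEquiv (hz : z.1 ≠ 1) : E ≃* pairCentralizer (gx z) (gy z) :=
  MulEquiv.ofBijective
    ((inl z).codRestrict (pairCentralizer (gx z) (gy z)) (fun e => (mem_pc_iff z hz _).mpr ⟨rfl, rfl⟩))
    (by
      constructor
      · intro a b h
        exact inl_injective z (congrArg Subtype.val h)
      · intro g
        obtain ⟨hi, hj⟩ := (mem_pc_iff z hz g.1).mp g.2
        refine ⟨g.1.e, ?_⟩
        apply Subtype.ext
        apply Ext.ext
        · rfl
        · exact hi.symm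
        · exact hj.symm)

theorem mem_center_iff (hz : z.1 ≠ 1) (g : Ext E z) :
    g ∈ Subgroup.center (Ext E z) ↔ g.e ∈ Subgroup.center E ∧ g.i = false ∧ g.j = false := by
  constructor
  · intro hg
    have hpc : g ∈ pairCentralizer (gx z) (gy z) := center_le_pairCentralizer _ _ hg
    obtain ⟨hi, hj⟩ := (mem_pc_iff z hz g).mp hpc
    refine ⟨?_, hi, hj⟩
    rw [Subgroup.mem_center_iff]
    intro e
    have h1 := Subgroup.mem_center_iff.mp hg (inl z e)
    have h2 := congrArg Ext.e h1
    simpa [mul_e, inl, cz, hj] using h2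
  · rintro ⟨he, hi, hj⟩
    rw [Subgroup.mem_center_iff]
    intro a
    have h1 := Subgroup.mem_center_iff.mp he a.e
    apply Ext.ext
    · simp [mul_e, cz, hi, hj, h1]
    · simp [mul_i, hi]
    · simp [mul_j, hj]

theorem inl_mem_center (hz : z.1 ≠ 1) {c : E} (hc : c ∈ Subgroup.center E) :
    inl z c ∈ Subgroup.center (Ext E z) :=
  (mem_center_iff z hz _).mpr ⟨hc, rfl, rfl⟩

theorem card_ext [Finite E] : Nat.card (Ext E z) = 4 * Nat.card E := by
  have e : Ext E z ≃ E × Bool × Bool :=
    { toFun := fun a => (a.e, a.i, a.j)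
      invFun := fun t => ⟨t.1, t.2.1, t.2.2⟩
      left_inv := fun a => rfl
      right_inv := fun t => rfl }
  rw [Nat.card_congr e, Nat.card_prod, Nat.card_prod]
  simp
  ring

instance [Finite E] : Finite (Ext E z) := by
  have e : Ext E z ≃ E × Bool × Bool :=
    { toFun := fun a => (a.e, a.i, a.j)
      invFun := fun t => ⟨t.1, t.2.1, t.2.2⟩
      left_inv := fun a => rfl
      right_inv := fun t => rfl }
  exact Finite.of_equiv _ e.symm

theorem isHeis_ext (h : IsHeis 2 E) (hz : z.1 ≠ 1) : IsHeis 2 (Ext E z) where
  card_center := by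
    rw [← h.card_center]
    apply Nat.card_congr
    refine Equiv.ofBijective
      (fun g : Subgroup.center (Ext E z) =>
        (⟨g.1.e, ((mem_center_iff z hz g.1).mp g.2).1⟩ : Subgroup.center E)) ⟨?_, ?_⟩
    · intro a b hab
      have h1 : a.1.e = b.1.e := congrArg Subtype.val hab
      obtain ⟨_, hai, haj⟩ := (mem_center_iff z hz a.1).mp a.2
      obtain ⟨_, hbi, hbj⟩ := (mem_center_iff z hz b.1).mp b.2
      apply Subtype.ext
      apply Ext.ext
      · exact h1
      · rw [hai, hbi]
      · rw [haj, hbj]
    · intro c
      exact ⟨⟨inl z c.1, inl_mem_center z hz c.2⟩, rfl⟩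
  comm_mem := by
    intro a b
    -- `a * b = inl w * (b * a)` for a central `w`
    set w : E := ⁅a.e, b.e⁆ * cz z a.j b.i * cz z b.j a.i with hw
    have hwc : w ∈ Subgroup.center E := by
      have hcz : ∀ s t : Bool, cz z s t ∈ Subgroup.center E := by
        intro s t
        rw [Subgroup.mem_center_iff]
        intro g
        exact cz_comm z s t g
      exact Subgroup.mul_mem _ (Subgroup.mul_mem _ (h.comm_mem _ _) (hcz _ _)) (hcz _ _)
    have key : a * b = inl z w * (b * a) := by
      apply Ext.ext
      · simp only [mul_e, inl, MonoidHom.coe_mk, OneHom.coe_mk]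
        have h0 : cz z false (b * a).i = 1 := by simp [cz]
        rw [h0, mul_one, hw]
        have c1 := cz_comm z a.j b.i
        have c2 := cz_comm z b.j a.i
        have s2 := cz_sq z b.j a.i
        generalize cz z a.j b.i = u at c1 ⊢
        generalize cz z b.j a.i = v at c2 s2 ⊢
        have e2 : u * v * (b.e * a.e * v) = b.e * a.e * u := by
          calc u * v * (b.e * a.e * v) = u * (v * (b.e * a.e)) * v := by simp only [mul_assoc]
            _ = u * ((b.e * a.e) * v) * v := by rw [c2 (b.e * a.e)]
            _ = u * (b.e * a.e) * (v * v) := by simp only [mul_assoc]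
            _ = (b.e * a.e) * u := by rw [s2, mul_one, c1]
        calc a.e * b.e * u = ⁅a.e, b.e⁆ * (b.e * a.e * u) := by
              rw [commutatorElement_def]; group
          _ = ⁅a.e, b.e⁆ * (u * v * (b.e * a.e * v)) := by rw [e2]
          _ = ⁅a.e, b.e⁆ * u * v * (b.e * a.e * v) := by simp only [mul_assoc]
      · simp [mul_i, inl, Bool.xor_comm]
      · simp [mul_j, inl, Bool.xor_comm]
    have h2 : ⁅a, b⁆ = inl z w := by
      rw [commutatorElement_def]
      calc a * b * a⁻¹ * b⁻¹ = inl z w * (b * a) * a⁻¹ * b⁻¹ := by rw [← key]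
        _ = inl z w := by group
    rw [h2]
    exact inl_mem_center z hz hwc
  pow_mem := by
    intro a
    rw [pow_two, mem_center_iff z hz]
    refine ⟨?_, by simp [mul_i], by simp [mul_j]⟩
    rw [mul_e]
    have h1 := h.pow_mem a.e
    rw [pow_two] at h1
    refine Subgroup.mul_mem _ h1 ?_
    rw [Subgroup.mem_center_iff]
    intro g
    exact cz_comm z _ _ g

end ext

section transport

universe u

theorem map_mem_pc {E E' : Type*} [Group E] [Group E'] (f : E ≃* E') {x y g : E}
    (hg : g ∈ pairCentralizer x y) : f g ∈ pairCentralizer (f x) (f y) := by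
  rw [mem_pairCentralizer_iff] at hg ⊢
  constructor
  · rw [← map_mul, hg.1, map_mul]
  · rw [← map_mul, hg.2, map_mul]

/-- restriction of an isomorphism to pair centralizers -/
noncomputable def pcCongr {E E' : Type*} [Group E] [Group E'] (f : E ≃* E') (x y : E) :
    pairCentralizer x y ≃* pairCentralizer (f x) (f y) where
  toFun g := ⟨f g.1, map_mem_pc f g.2⟩
  invFun g := ⟨f.symm g.1, by
    have := map_mem_pc f.symm g.2
    simpa using this⟩
  left_inv g := by apply Subtype.ext; simp
  right_inv g := by apply Subtype.ext; simp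
  map_mul' a b := by apply Subtype.ext; simp

theorem hasTy_of_equiv {b : Bool} {E : Type u} [Group E] (t : HasTy b E) :
    ∀ (E' : Type u) [Group E'], (E ≃* E') → HasTy b E' := by
  induction t with
  | baseD E x y hc hxy hx hy =>
    intro E' _ f
    refine HasTy.baseD E' (f x) (f y) ?_ ?_ ?_ ?_
    · rw [← hc]; exact (Nat.card_congr f.toEquiv).symm
    · rw [← map_commutatorElement]
      intro h
      apply hxy
      exact f.injective (by rw [h, map_one])
    · rw [← map_pow, hx, map_one]
    · rw [← map_pow, hy, map_one]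
  | baseQ E x y hc hxy hx hy =>
    intro E' _ f
    refine HasTy.baseQ E' (f x) (f y) ?_ ?_ ?_ ?_
    · rw [← hc]; exact (Nat.card_congr f.toEquiv).symm
    · rw [← map_commutatorElement]
      intro h
      apply hxy
      exact f.injective (by rw [h, map_one])
    · rw [← map_pow, hx, map_commutatorElement]
    · rw [← map_pow, hy, map_commutatorElement]
  | step b E x y hxy hx hy tQ ih =>
    intro E' _ f
    refine HasTy.step b E' (f x) (f y) ?_ ?_ ?_ (ih _ (pcCongr f x y))
    · rw [← map_commutatorElement]
      intro h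
      apply hxy
      exact f.injective (by rw [h, map_one])
    · rw [← map_pow, hx, map_one]
    · rw [← map_pow, hy, map_one]

end transport

/-- a group with a central involution -/
structure Pack where
  E : Type
  [grp : Group E]
  z : CInv E

attribute [instance] Pack.grp

/-- the central product with a dihedral group of order eight -/
def Pack.next (P : Pack) : Pack where
  E := Ext P.E P.z
  z := ⟨inl P.z P.z.1, by
    constructor
    · intro g
      apply Ext.ext
      · simp [mul_e, inl, cz, P.z.2.1 g.e]
      · simp [mul_i, inl]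
      · simp [mul_j, inl]
    · rw [← map_mul, P.z.2.2, map_one]⟩

/-- the invariant -/
structure Good (b : Bool) (P : Pack) : Prop where
  fin : Finite P.E
  heis : IsHeis 2 P.E
  ne : P.z.1 ≠ 1
  ty : HasTy b P.E

theorem Good.next {b : Bool} {P : Pack} (h : Good b P) : Good b P.next where
  fin := by
    have := h.fin
    show Finite (Ext P.E P.z)
    infer_instance
  heis := isHeis_ext P.z h.heis h.ne
  ne := by
    intro h1
    apply h.ne
    apply inl_injective P.z
    rw [map_one]
    exact h1
  ty := HasTy.step b (Ext P.E P.z) (gx P.z) (gy P.z) (gx_gy_ne P.z h.ne) (gx_sq P.z) (gy_sq P.z)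
    (hasTy_of_equiv h.ty _ (pcEquiv P.z h.ne))

theorem card_next (P : Pack) [Finite P.E] : Nat.card P.next.E = 4 * Nat.card P.E :=
  card_ext P.z

/-- the cyclic group of order two -/
def packC : Pack where
  E := Multiplicative (ZMod 2)
  z := ⟨Multiplicative.ofAdd 1, by
    constructor
    · intro g; exact mul_comm _ _
    · decide⟩

/-- the quaternion group of order eight -/
def packQ : Pack where
  E := QuaternionGroup 2
  z := ⟨QuaternionGroup.a 2, by
    constructor
    · decide
    · decide⟩

theorem card_packC : Nat.card packC.E = 2 := by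
  show Nat.card (Multiplicative (ZMod 2)) = 2
  rw [Nat.card_eq_fintype_card]
  rfl

theorem packC_comm (a b : packC.E) : a * b = b * a :=
  mul_comm (G := Multiplicative (ZMod 2)) a b

theorem packC_ne : packC.z.1 ≠ 1 := by
  show (Multiplicative.ofAdd (1 : ZMod 2)) ≠ 1
  decide

theorem isHeis_packC : IsHeis 2 packC.E where
  card_center := by
    have : Subgroup.center packC.E = ⊤ := by
      rw [eq_top_iff]
      intro g _
      rw [Subgroup.mem_center_iff]
      intro h
      exact packC_comm _ _
    rw [this, Subgroup.card_top, card_packC]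
  comm_mem := by
    intro a b
    have : ⁅a, b⁆ = 1 := by
      rw [commutatorElement_eq_one_iff_mul_comm]
      exact packC_comm _ _
    rw [this]
    exact Subgroup.one_mem _
  pow_mem := by
    intro g
    rw [Subgroup.mem_center_iff]
    intro h
    exact packC_comm _ _

theorem good_packD : Good true packC.next where
  fin := by
    show Finite (Ext packC.E packC.z)
    have : Finite packC.E := by
      show Finite (Multiplicative (ZMod 2))
      infer_instance
    infer_instance
  heis := isHeis_ext packC.z isHeis_packC packC_ne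
  ne := by
    intro h1
    apply packC_ne
    apply inl_injective packC.z
    rw [map_one]
    exact h1
  ty := by
    have : Finite packC.E := by
      show Finite (Multiplicative (ZMod 2))
      infer_instance
    refine HasTy.baseD (Ext packC.E packC.z) (gx packC.z) (gy packC.z) ?_
      (gx_gy_ne packC.z packC_ne) (gx_sq packC.z) (gy_sq packC.z)
    rw [card_ext, card_packC]

theorem good_packQ : Good false packQ where
  fin := by
    show Finite (QuaternionGroup 2)
    infer_instance
  heis := by
    show IsHeis 2 (QuaternionGroup 2)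
    exact
      { card_center := Cfsg.Agent.Lib.H5.NC.card_center_quaternion
        comm_mem := by decide
        pow_mem := by decide }
  ne := by
    show QuaternionGroup.a (2 : ZMod (2 * 2)) ≠ 1
    decide
  ty := by
    refine HasTy.baseQ (QuaternionGroup 2) (QuaternionGroup.a 1) (QuaternionGroup.xa 0) ?_ ?_ ?_ ?_
    · rw [Nat.card_eq_fintype_card, QuaternionGroup.card]
    · decide
    · decide
    · decide

/-- iterating the central product -/
def iter (P : Pack) : ℕ → Pack
  | 0 => P
  | (k + 1) => (iter P k).next

theorem good_iter {b : Bool} {P : Pack} (h : Good b P) (k : ℕ) : Good b (iter P k) := by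
  induction k with
  | zero => exact h
  | succ k ih => exact ih.next

theorem card_iter {b : Bool} {P : Pack} (h : Good b P) (k : ℕ) :
    Nat.card (iter P k).E = 4 ^ k * Nat.card P.E := by
  induction k with
  | zero => simp [iter]
  | succ k ih =>
    have := (good_iter h k).fin
    show Nat.card (iter P k).next.E = _
    rw [card_next, ih]
    ring

/-- the conclusion for a good pack -/
theorem main_of_good {b : Bool} {P : Pack} (g : Good b P) (n : ℕ)
    (hcard : Nat.card P.E = 2 ^ (2 * n + 1)) :
    ∃ (_ : Finite P.E), Cfsg.IsExtraspecial 2 P.E ∧ Nat.card P.E = 2 ^ (2 * n + 1) ∧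
      sSup {k : ℕ | ∃ A : Subgroup P.E, Cfsg.IsElementaryAbelian 2 A ∧ Nat.card A = 2 ^ k}
        = if b then n + 1 else n := by
  have : Fact (Nat.Prime 2) := ⟨Nat.prime_two⟩
  have hfin := g.fin
  have hH := g.heis
  obtain ⟨m, hm1, hcard', r, hr1, hrT, hrF, hle, hnle⟩ := Cfsg.Agent.S3763.hasTy_rank g.ty hH hfin
  have hmn : m = n := by
    rw [hcard] at hcard'
    have := Nat.pow_right_injective (le_refl 2) hcard'
    omega
  subst hmn
  have hr : r = if b then m + 1 else m := by
    cases b
    · simpa using hrF rfl
    · simpa using hrT rfl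
  refine ⟨hfin, ?_, hcard, ?_⟩
  · -- extraspecial
    have h8 := g.ty.card_ge hH hfin
    have hna : ∃ a b : P.E, a * b ≠ b * a := by
      by_contra hcon
      push Not at hcon
      have := (hH.card_eq_iff_comm).mpr hcon
      omega
    obtain ⟨a, c, hac⟩ := hna
    have hac1 : ⁅a, c⁆ ≠ 1 := fun h' => hac (commutatorElement_eq_one_iff_mul_comm.mp h')
    apply Cfsg.Agent.Lib.H27.isExtraspecial_of_center 2 (IsPGroup.of_card hcard) hH.card_center
      ?_ hH.pow_mem
    apply le_antisymm
    · rw [commutator_def, Subgroup.commutator_le]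
      intro x _ y _
      exact hH.comm_mem x y
    · intro w hw
      have h1 := hH.mem_zpowers (hH.comm_mem a c) hac1 hw
      have h2 : Subgroup.zpowers ⁅a, c⁆ ≤ commutator P.E := by
        rw [Subgroup.zpowers_le, commutator_def]
        exact Subgroup.commutator_mem_commutator (Subgroup.mem_top a) (Subgroup.mem_top c)
      exact h2 h1
  · rw [← hr]
    apply IsGreatest.csSup_eq
    constructor
    · -- `r` is attained
      unfold PRankLE at hnle
      push Not at hnle
      obtain ⟨A, hAc, hA2, hAcard⟩ := hnle
      have hA2' : IsPGroup 2 A := by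
        intro x
        refine ⟨1, ?_⟩
        apply Subtype.ext
        rw [pow_one]
        exact hA2 x.1 x.2
      obtain ⟨k, hk⟩ := IsPGroup.iff_card.mp hA2'
      have h1 := hle A hAc hA2
      rw [hk] at h1 hAcard
      have h2 : k ≤ r := (Nat.pow_le_pow_iff_right (by norm_num)).mp h1
      have h3 : r - 1 < k := (Nat.pow_lt_pow_iff_right (by norm_num)).mp hAcard
      have h4 : k = r := by omega
      exact ⟨A, ⟨hAc, hA2⟩, by rw [hk, h4]⟩
    · rintro k ⟨A, ⟨hAc, hA2⟩, hk⟩
      have h1 := hle A hAc hA2
      rw [hk] at h1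
      exact (Nat.pow_le_pow_iff_right (by norm_num)).mp h1

/-- For every n ≥ 1 there exist finite extraspecial 2-groups of order 2^(2n+1) whose 2-rank (the largest rank of an elementary abelian subgroup) is n, and ones whose 2-rank is n + 1 (so for each such order there are two non-isomorphic extraspecial 2-groups, told apart by their 2-rank). -/
theorem result (n : ℕ) (hn : 1 ≤ n) : ∀ r ∈ ({n, n + 1} : Set ℕ), ∃ (E : Type) (_ : Group E) (_ : Finite E), Cfsg.IsExtraspecial 2 E ∧ Nat.card E = 2 ^ (2 * n + 1) ∧ sSup {k : ℕ | ∃ A : Subgroup E, Cfsg.IsElementaryAbelian 2 A ∧ Nat.card A = 2 ^ k} = r := by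
  intro r hr
  obtain ⟨m, rfl⟩ : ∃ m, n = m + 1 := ⟨n - 1, by omega⟩
  rcases hr with rfl | rfl
  · -- rank `n`: quaternion type
    have g := good_iter good_packQ m
    have hc : Nat.card (iter packQ m).E = 2 ^ (2 * (m + 1) + 1) := by
      rw [card_iter good_packQ]
      have : Nat.card packQ.E = 8 := by
        show Nat.card (QuaternionGroup 2) = 8
        rw [Nat.card_eq_fintype_card, QuaternionGroup.card]
      rw [this]
      have e1 : (4 : ℕ) = 2 ^ 2 := by norm_num
      have e2 : (8 : ℕ) = 2 ^ 3 := by norm_num
      rw [e1, e2, ← pow_mul, ← pow_add]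
      congr 1
    obtain ⟨hf, h1, h2, h3⟩ := main_of_good g (m + 1) hc
    exact ⟨(iter packQ m).E, inferInstance, hf, h1, h2, by simpa using h3⟩
  · -- rank `n + 1`: dihedral type
    have g := good_iter good_packD m
    have hc : Nat.card (iter packC.next m).E = 2 ^ (2 * (m + 1) + 1) := by
      rw [card_iter good_packD]
      have : Nat.card packC.next.E = 8 := by
        have : Finite packC.E := by
          show Finite (Multiplicative (ZMod 2))
          infer_instance
        rw [card_next, card_packC]
      rw [this]
      have e1 : (4 : ℕ) = 2 ^ 2 := by norm_num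
      have e2 : (8 : ℕ) = 2 ^ 3 := by norm_num
      rw [e1, e2, ← pow_mul, ← pow_add]
      congr 1
    obtain ⟨hf, h1, h2, h3⟩ := main_of_good g (m + 1) hc
    exact ⟨(iter packC.next m).E, inferInstance, hf, h1, h2, by simpa using h3⟩

end Cfsg.Agent.S5396
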