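import Cfsg.Statements.S5401
import Cfsg.Agent.Lib.H17.FT.Fi24Type

set_option autoImplicit false
open Cfsg

namespace Cfsg.Agent.S5401

/-- Existence of the Fischer 3-transposition groups: there exist finite groups generated by a conjugacy class of 3-transpositions on which they act primitively that are of type M(22), of type M(23), and of type M(24) respectively. -/
theorem result : (∃ (X : Type) (_ : Group X) (_ : Finite X) (E : Set X), Cfsg.IsThreeTranspositionClass E ∧ Cfsg.IsPrimitiveUnderConj E ∧ Cfsg.IsOfTypeM22 X E) ∧ (∃ (X : Type) (_ : Group X) (_ : Finite X) (E : Set X), Cfsg.IsThreeTranspositionClass E ∧ Cfsg.IsPrimitiveUnderConj E ∧ Cfsg.IsOfTypeM23 X E) ∧ (∃ (X : Type) (_ : Group X) (_ : Finite X) (E : Set X), Cfsg.IsThreeTranspositionClass E ∧ Cfsg.IsPrimitiveUnderConj E ∧ Cfsg.IsOfTypeM24 X E) := by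
  refine ⟨?_, ?_, ?_⟩
  · obtain ⟨E, h1, h2, h3⟩ := Cfsg.Agent.Lib.H17.FT24.exists_M22
    exact ⟨Cfsg.Agent.Lib.H17.Fi22U62.G, inferInstance, Cfsg.Agent.Lib.H17.Fi22Word.finite_G, E, h1, h2, h3⟩
  · obtain ⟨E, h1, h2, h3⟩ := Cfsg.Agent.Lib.H17.FT24.exists_M23
    exact ⟨Cfsg.Agent.Lib.H17.Fi23Fi22.G, inferInstance, Cfsg.Agent.Lib.H17.Fi23Ord.finite_G, E, h1, h2, h3⟩
  · obtain ⟨E, h1, h2, h3⟩ := Cfsg.Agent.Lib.H17.FT24.exists_M24
    exact ⟨Cfsg.Agent.Lib.H17.Fi24S.G, inferInstance, Cfsg.Agent.Lib.H17.Fi24S.finite_G, E, h1, h2, h3⟩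

end Cfsg.Agent.S5401
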