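import Cfsg.Statements.S5552
import Cfsg.Agent.Lib.H27.Co0Mod2

set_option autoImplicit false
open Cfsg

namespace Cfsg.Agent.S5552

open Cfsg.Agent.Lib.H27 Cfsg.Agent.Lib.H28

/-- A vector given by its list of coordinates. -/
def ofL (l : List ℤ) : GolayPt → ℤ := fun p => l.getD (gIdx p) 0

def uF : GolayPt → ℤ := ofL [4, 4, 0, 0, 0, 0, 0, 0, 0, 0, 0, 0, 0, 0, 0, 0, 0, 0, 0, 0, 0, 0, 0, 0]
def vF : GolayPt → ℤ := ofL [-4, 0, 4, 0, 0, 0, 0, 0, 0, 0, 0, 0, 0, 0, 0, 0, 0, 0, 0, 0, 0, 0, 0, 0]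
def wF : GolayPt → ℤ := ofL [-2, 0, -2, 0, 0, 0, 0, 0, 0, 0, 0, 0, 0, 2, 2, 2, 2, 2, 0, 0, 2, 0, 0, 0]
def xF : GolayPt → ℤ :=
  ofL [-1, -1, 1, -3, 1, 1, 1, 1, 1, 1, 1, 1, 1, -1, 1, -1, 1, -1, -1, -1, 1, 1, 1, -1]

def uL : leechLattice := ⟨uF, mem_of_inLeech (by decide +kernel)⟩
def vL : leechLattice := ⟨vF, mem_of_inLeech (by decide +kernel)⟩
def wL : leechLattice := ⟨wF, mem_of_inLeech (by decide +kernel)⟩
def xL : leechLattice := ⟨xF, mem_of_inLeech (by decide +kernel)⟩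

theorem norms : sqNorm uF = 32 ∧ sqNorm vF = 32 ∧ sqNorm wF = 32 ∧ sqNorm xF = 32 ∧
    sqNorm (uF + vF) = 32 ∧ sqNorm (uF + wF) = 48 ∧ sqNorm (vF + wF) = 64 ∧
    sqNorm (uF + vF + wF) = 48 ∧ sqNorm (uF + xF) = 48 ∧ sqNorm (wF + xF) = 64 ∧
    sqNorm (uF + wF + xF) = 64 := by
  decide +kernel

theorem sqNorm_add (y w : GolayPt → ℤ) : sqNorm (y + w) = sqNorm y + 2 * dotInt y w + sqNorm w := by
  unfold sqNorm dotInt
  rw [Finset.mul_sum, ← Finset.sum_add_distrib, ← Finset.sum_add_distrib]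
  apply Finset.sum_congr rfl
  intro i _
  rw [Pi.add_apply]
  ring

theorem eight_dvd_dot {y z : GolayPt → ℤ} (hy : y ∈ leechLattice) (hz : z ∈ leechLattice) :
    (8 : ℤ) ∣ dotInt y z := by
  obtain ⟨a, ha⟩ := sixteen_dvd_sqNorm golay_doubly_even hy
  obtain ⟨b, hb⟩ := sixteen_dvd_sqNorm golay_doubly_even hz
  obtain ⟨c, hc⟩ := sixteen_dvd_sqNorm golay_doubly_even (add_mem hy hz)
  have := sqNorm_add y z
  omega

theorem sqNorm_coset {y z : GolayPt → ℤ} (hy : y ∈ leechLattice) (hz : z ∈ leechLattice) :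
    (sqNorm (y + (z + z)) / 16) % 2 = (sqNorm y / 16) % 2 := by
  obtain ⟨a, ha⟩ := sixteen_dvd_sqNorm golay_doubly_even hy
  obtain ⟨b, hb⟩ := sixteen_dvd_sqNorm golay_doubly_even hz
  obtain ⟨c, hc⟩ := eight_dvd_dot hy hz
  have h1 := sqNorm_add y (z + z)
  have h2 : dotInt y (z + z) = 2 * dotInt y z := by
    unfold dotInt
    rw [Finset.mul_sum]
    apply Finset.sum_congr rfl
    intro i _
    rw [Pi.add_apply]
    ring
  have h3 : sqNorm (z + z) = 4 * sqNorm z := by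
    unfold sqNorm
    rw [Finset.mul_sum]
    apply Finset.sum_congr rfl
    intro i _
    rw [Pi.add_apply]
    ring
  rw [h2, h3] at h1
  omega

/-- On the Leech lattice of the definitions, let Q be a function to the field with two elements that is constant on cosets of twice the lattice, is a quadratic form there (Q(u+v+w) + Q(u) + Q(v) + Q(w) = Q(u+v) + Q(u+w) + Q(v+w) for all u, v, w), is invariant under every lattice automorphism, and is not identically zero. Then Q(v) is the squared length of v divided by 16, reduced modulo 2, for every lattice vector v (squared lengths of lattice vectors are multiples of 16). -/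
theorem result (Q : ↥Cfsg.leechLattice → ZMod 2) (hcoset : ∀ v w : ↥Cfsg.leechLattice, Q (v + (w + w)) = Q v) (hquad : ∀ u v w : ↥Cfsg.leechLattice, Q (u + v + w) + Q u + Q v + Q w = Q (u + v) + Q (u + w) + Q (v + w)) (hinv : ∀ (g : ↥Cfsg.Co0) (v : ↥Cfsg.leechLattice), Q (g • v) = Q v) (hne : ∃ v : ↥Cfsg.leechLattice, Q v ≠ 0) (v : ↥Cfsg.leechLattice) : Q v = ((Cfsg.sqNorm (v : Cfsg.GolayPt → ℤ) / 16 : ℤ) : ZMod 2) := by
  obtain ⟨n1, n2, n3, n4, n5, n6, n7, n8, n9, n10, n11⟩ := norms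
  -- value at zero
  have hQ0 : Q 0 = 0 := by
    have h := hquad 0 0 0
    simp only [add_zero] at h
    have : ∀ a : ZMod 2, a + a + a + a = a + a + a → a = 0 := by decide
    exact this _ h
  -- constants on the three orbits
  have c2 : ∀ x : leechLattice, sqNorm (x : GolayPt → ℤ) = 32 → Q x = Q uL := by
    intro x hx
    obtain ⟨g, hg⟩ := co0_trans32 uL x n1 hx
    rw [← hg, hinv]
  have c3 : ∀ x y : leechLattice, sqNorm (x : GolayPt → ℤ) = 48 →
      sqNorm (y : GolayPt → ℤ) = 48 → Q x = Q y := by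
    intro x y hx hy
    obtain ⟨g, hg⟩ := co0_trans48 y x hy hx
    rw [← hg, hinv]
  have c4 : ∀ x y : leechLattice, sqNorm (x : GolayPt → ℤ) = 64 →
      sqNorm (y : GolayPt → ℤ) = 64 → Q x = Q y := by
    intro x y hx hy
    obtain ⟨g, hg⟩ := co0_trans64 y x hy hx
    rw [← hg, hinv]
  -- the two relations
  have r1 := hquad uL wL xL
  rw [c2 wL n3, c2 xL n4, c3 (uL + wL) (uL + xL) n6 n9, c4 (uL + wL + xL) (wL + xL) n11 n10] at r1
  have hq2 : Q uL = 0 := by
    have : ∀ a b c : ZMod 2, c + a + a + a = b + b + c → a = 0 := by decide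
    exact this _ _ _ r1
  have r2 := hquad uL vL wL
  rw [c2 vL n2, c2 wL n3, c2 (uL + vL) n5, c3 (uL + vL + wL) (uL + wL) n8 n6, hq2] at r2
  have hq4 : Q (vL + wL) = 0 := by
    have : ∀ b c : ZMod 2, b + 0 + 0 + 0 = 0 + b + c → c = 0 := by decide
    exact this _ _ r2
  -- reduce to short vectors
  have hshort : ∀ y : leechLattice, sqNorm (y : GolayPt → ℤ) ≤ 64 → (∀ y' : leechLattice,
      sqNorm (y' : GolayPt → ℤ) = 48 → Q y' = 1) →
      Q y = ((sqNorm (y : GolayPt → ℤ) / 16 : ℤ) : ZMod 2) := by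
    intro y hy h3
    rcases norm_cases y.2 hy with h | h | h | h
    · have : y = 0 := Subtype.ext h
      rw [this, hQ0]
      show (0 : ZMod 2) = ((sqNorm (0 : GolayPt → ℤ) / 16 : ℤ) : ZMod 2)
      have : sqNorm (0 : GolayPt → ℤ) = 0 := by unfold sqNorm; simp
      rw [this]; rfl
    · rw [c2 y h, hq2, h]; rfl
    · rw [h3 y h, h]; rfl
    · rw [c4 y (vL + wL) h n7, hq4, h]; rfl
  have hred : ∀ x : leechLattice, ∃ y : leechLattice, sqNorm (y : GolayPt → ℤ) ≤ 64 ∧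
      Q x = Q y ∧ (sqNorm (x : GolayPt → ℤ) / 16) % 2 = (sqNorm (y : GolayPt → ℤ) / 16) % 2 := by
    intro x
    obtain ⟨y, hy, hyn, z, hz, hxyz⟩ := exists_short x.1 x.2
    refine ⟨⟨y, hy⟩, hyn, ?_, ?_⟩
    · have : x = (⟨y, hy⟩ : leechLattice) + (⟨z, hz⟩ + ⟨z, hz⟩) := by
        apply Subtype.ext
        show (x : GolayPt → ℤ) = y + (z + z)
        rw [← two_nsmul, ← hxyz]
        abel
      rw [this, hcoset]
    · have : (x : GolayPt → ℤ) = y + (z + z) := by
        rw [← two_nsmul, ← hxyz]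
        abel
      rw [this]
      exact sqNorm_coset hy hz
  -- the value on vectors of squared length 48
  have h3 : ∀ y' : leechLattice, sqNorm (y' : GolayPt → ℤ) = 48 → Q y' = 1 := by
    by_contra hcon
    push Not at hcon
    obtain ⟨y', hy', hQy'⟩ := hcon
    have hy0 : Q y' = 0 := by
      have : ∀ a : ZMod 2, a ≠ 1 → a = 0 := by decide
      exact this _ hQy'
    obtain ⟨x, hx⟩ := hne
    apply hx
    obtain ⟨y, hyn, hxy, _⟩ := hred x
    rw [hxy]
    rcases norm_cases y.2 hyn with h | h | h | h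
    · have : y = 0 := Subtype.ext h
      rw [this, hQ0]
    · rw [c2 y h, hq2]
    · rw [c3 y y' h hy', hy0]
    · rw [c4 y (vL + wL) h n7, hq4]
  obtain ⟨y, hyn, hvy, hmod⟩ := hred v
  rw [hvy, hshort y hyn h3]
  rw [ZMod.intCast_eq_intCast_iff]
  unfold Int.ModEq
  exact hmod.symm

end Cfsg.Agent.S5552
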