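import Cfsg.Statements.S5408
import Cfsg.Agent.S5552
import Cfsg.Agent.S5553
import Cfsg.Agent.Lib.H27.ExtraQuad

set_option autoImplicit false
open Cfsg

namespace Cfsg.Agent.S5408

open Cfsg.Agent.Lib.H27.ExtraQuad

/-- Let G be a finite group of Monster type at the involution z with Q the extraspecial normal subgroup of order 2^25 of C = C_G(z) (so C/Q is identified with the first Conway group with Q modulo its centre the Leech lattice modulo 2, and z is not weakly closed in Q). Then Q is of plus type: it contains an elementary abelian subgroup of order 2^13. -/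
theorem result {G : Type*} [Group G] [Finite G] (z : G) (Q : Subgroup (Subgroup.centralizer ({z} : Set G))) [Q.Normal] (hM : Cfsg.IsOfMonsterType z Q) : ∃ E : Subgroup Q, Cfsg.IsElementaryAbelian 2 E ∧ Nat.card E = 2 ^ 13 := by
  classical
  obtain ⟨⟨hz2, hF, hES, hcardQ, hweak⟩, e, ψ, hadd, hsurj, hker, hequiv⟩ := hM
  have hlift : ∀ v : leechLattice, ∃ q : Q, ψ v = QuotientGroup.mk q := fun v =>
    (QuotientGroup.mk_surjective (ψ v)).imp (fun q h => h.symm)
  choose lift hlift using hlift
  let f : leechLattice → ZMod 2 := fun v => s (lift v)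
  have hf_rep : ∀ (v : leechLattice) (q : Q), ψ v = QuotientGroup.mk q → f v = s q := by
    intro v q hq
    exact s_congr hES ((hlift v).symm.trans hq)
  have hψ0 : ψ 0 = 1 := by
    have h := hadd 0 0
    rw [add_zero] at h
    exact left_eq_mul.1 h
  have hf_add : ∀ v w, f (v + w) = b (lift v) (lift w) + f v + f w := by
    intro v w
    have h : ψ (v + w) = QuotientGroup.mk (lift v * lift w) := by
      rw [hadd, hlift v, hlift w]; rfl
    rw [hf_rep _ _ h, s_mul hES, b_symm]
  have hB_add : ∀ u v w, b (lift (u + v)) (lift w) = b (lift u) (lift w) + b (lift v) (lift w) := by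
    intro u v w
    have h : (QuotientGroup.mk (lift (u + v)) : Q ⧸ Subgroup.center Q) =
        QuotientGroup.mk (lift u * lift v) := by
      rw [← hlift, hadd, hlift u, hlift v]; rfl
    rw [b_congr_left hES _ h, b_mul_left hES]
  have hquad : ∀ u v w : leechLattice,
      f (u + v + w) + f u + f v + f w = f (u + v) + f (u + w) + f (v + w) := by
    intro u v w
    rw [hf_add (u + v) w, hf_add u w, hf_add v w, hB_add]
    ring
  have hcoset : ∀ v w : leechLattice, f (v + (w + w)) = f v := by
    intro v w
    have h : ψ (v + (w + w)) = QuotientGroup.mk (lift v) := by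
      rw [hadd, (hker (w + w)).2 ⟨w, rfl⟩, mul_one, hlift v]
    exact hf_rep _ _ h
  have hinv : ∀ (g : Co0) (v : leechLattice), f (g • v) = f v := by
    intro g v
    obtain ⟨h, hh⟩ := QuotientGroup.mk_surjective (e.symm (QuotientGroup.mk g))
    have h1 : (QuotientGroup.mk g : Spor.Co1) = e (QuotientGroup.mk h) := by
      rw [hh, e.apply_symm_apply]
    have h2 := hequiv h g h1 v (lift v) (hlift v)
    rw [hf_rep _ _ h2]
    unfold s
    apply chi_congr
    have key : ∀ (q x : Q), (x : Subgroup.centralizer ({z} : Set G)) = h * (q : _) * h⁻¹ →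
        (x ^ 2 = 1 ↔ q ^ 2 = 1) := by
      intro q x hx
      constructor
      · intro hx2
        have h3 : ((x ^ 2 : Q) : Subgroup.centralizer ({z} : Set G)) = 1 := by rw [hx2]; rfl
        rw [Subgroup.coe_pow, hx, conj_pow, conj_eq_one_iff] at h3
        apply Subtype.ext
        rw [Subgroup.coe_pow, h3]; rfl
      · intro hq2
        apply Subtype.ext
        rw [Subgroup.coe_pow, hx, conj_pow, ← Subgroup.coe_pow, hq2]
        simp
    exact key _ _ rfl
  have hne : ∃ v : leechLattice, f v ≠ 0 := by
    by_contra hall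
    simp only [not_exists, not_not] at hall
    have hsq : ∀ q : Q, q ^ 2 = 1 := by
      intro q
      obtain ⟨v, hv⟩ := hsurj (QuotientGroup.mk q)
      have := hf_rep v q hv
      rw [hall v] at this
      exact (chi_eq_zero_iff _).1 this.symm
    have hcomm : ∀ a c : Q, a * c = c * a := by
      intro a c
      have h1 := hsq a
      have h2 := hsq c
      have h3 := hsq (a * c)
      rw [pow_two] at h1 h2 h3
      have ha : a⁻¹ = a := inv_eq_of_mul_eq_one_left h1
      have hc : c⁻¹ = c := inv_eq_of_mul_eq_one_left h2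
      have hac : (a * c)⁻¹ = a * c := inv_eq_of_mul_eq_one_left h3
      rw [mul_inv_rev, ha, hc] at hac
      exact hac.symm
    have htop : Subgroup.center Q = ⊤ := by
      rw [eq_top_iff]
      intro x _
      rw [Subgroup.mem_center_iff]
      intro g
      exact hcomm g x
    have hc2 := hES.2
    rw [htop, Subgroup.card_top, hcardQ] at hc2
    norm_num at hc2
  have hf := S5552.result f hcoset hquad hinv hne
  obtain ⟨A, hAle, hA2, hAidx, hA32⟩ := S5553.result
  have hfA : ∀ v : leechLattice, v ∈ A.addSubgroupOf leechLattice → f v = 0 := by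
    intro v hv
    rw [AddSubgroup.mem_addSubgroupOf] at hv
    obtain ⟨k, hk⟩ := hA32 _ hv
    rw [hf v, hk]
    have : (32 * k / 16 : ℤ) = 2 * k := by omega
    rw [this]
    push_cast
    have : (2 : ZMod 2) = 0 := by decide
    rw [this, zero_mul]
  -- the homomorphism
  let ψm : Multiplicative leechLattice →* Q ⧸ Subgroup.center Q :=
    { toFun := fun v => ψ (Multiplicative.toAdd v)
      map_one' := hψ0
      map_mul' := fun v w => hadd _ _ }
  have hψm_surj : Function.Surjective ψm := fun x => by
    obtain ⟨v, hv⟩ := hsurj x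
    exact ⟨Multiplicative.ofAdd v, hv⟩
  have hψm_ker : ψm.ker ≤ AddSubgroup.toSubgroup (A.addSubgroupOf leechLattice) := by
    intro v hv
    rw [MonoidHom.mem_ker] at hv
    obtain ⟨w, hw⟩ := (hker (Multiplicative.toAdd v)).1 hv
    show Multiplicative.toAdd v ∈ A.addSubgroupOf leechLattice
    rw [AddSubgroup.mem_addSubgroupOf, hw]
    have := hA2 _ w.2
    rw [two_smul] at this
    exact this
  let E : Subgroup Q :=
    ((AddSubgroup.toSubgroup (A.addSubgroupOf leechLattice)).map ψm).comap
      (QuotientGroup.mk' (Subgroup.center Q))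
  have hEmem : ∀ q : Q, q ∈ E → ∃ v : leechLattice, v ∈ A.addSubgroupOf leechLattice ∧
      ψ v = QuotientGroup.mk q := by
    intro q hq
    obtain ⟨v, hv, hvq⟩ := hq
    exact ⟨Multiplicative.toAdd v, hv, hvq⟩
  have hEsq : ∀ q ∈ E, q ^ 2 = 1 := by
    intro q hq
    obtain ⟨v, hv, hvq⟩ := hEmem q hq
    have := hf_rep v q hvq
    rw [hfA v hv] at this
    exact (chi_eq_zero_iff _).1 this.symm
  refine ⟨E, ⟨⟨⟨?_⟩⟩, hEsq⟩, ?_⟩
  · intro a c
    have h1 := hEsq a a.2
    have h2 := hEsq c c.2
    have h3 := hEsq (a * c) (E.mul_mem a.2 c.2)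
    rw [pow_two] at h1 h2 h3
    have ha : (a : Q)⁻¹ = a := inv_eq_of_mul_eq_one_left h1
    have hc : (c : Q)⁻¹ = c := inv_eq_of_mul_eq_one_left h2
    have hac : ((a : Q) * c)⁻¹ = a * c := inv_eq_of_mul_eq_one_left h3
    rw [mul_inv_rev, ha, hc] at hac
    exact Subtype.ext hac.symm
  · have hidx : E.index = 2 ^ 12 := by
      show (((AddSubgroup.toSubgroup (A.addSubgroupOf leechLattice)).map ψm).comap
        (QuotientGroup.mk' (Subgroup.center Q))).index = 2 ^ 12
      rw [Subgroup.index_comap_of_surjective _ (QuotientGroup.mk'_surjective _),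
        Subgroup.index_map_eq _ hψm_surj hψm_ker, AddSubgroup.index_toSubgroup, hAidx]
    have h := Subgroup.card_mul_index E
    rw [hidx, hcardQ] at h
    have : (2 : ℕ) ^ (2 * 12 + 1) = 2 ^ 13 * 2 ^ 12 := by norm_num
    rw [this] at h
    exact Nat.eq_of_mul_eq_mul_right (by norm_num) h

end Cfsg.Agent.S5408
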