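import Cfsg.Statements.S5420
import Cfsg.Agent.Lib.H27.Basic

set_option autoImplicit false
open Cfsg

namespace Cfsg.Agent.S5420

open Cfsg.Agent.Lib.H27

/-- Let Q be an extraspecial 2-subgroup of the finite group G whose centralizer in G is its centre Z and which is normal in the centralizer of Z. If Z lies in the largest normal 2-subgroup of G, then Q is a large extraspecial 2-subgroup of G: it normalizes no non-trivial subgroup of G of odd order. -/
theorem result {G : Type*} [Group G] [Finite G] (Q : Subgroup G) (hL1 : Cfsg.IsExtraspecial 2 ↥Q) (hL2 : Subgroup.centralizer (Q : Set G) = ((Subgroup.center ↥Q).map Q.subtype)) (hL3 : Subgroup.centralizer (((Subgroup.center ↥Q).map Q.subtype) : Set G) ≤ Subgroup.normalizer (Q : Set G)) (hZ : ((Subgroup.center ↥Q).map Q.subtype) ≤ Cfsg.pCore 2 G) : Cfsg.IsLargeExtraspecial Q := by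
  refine ⟨hL1, hL2, hL3, ?_⟩
  intro K hK hQK
  set Z : Subgroup G := (Subgroup.center ↥Q).map Q.subtype with hZdef
  have hZQ : Z ≤ Q := by
    rintro _ ⟨x, _, rfl⟩
    exact x.2
  -- Step 1: K centralizes Z
  have hO2 : IsPGroup 2 (pCore 2 G) := pCore_isPGroup
  have hO2n : (pCore 2 G).Normal := pCore_normal'
  have h1 : K ⊓ pCore 2 G = ⊥ := odd_inf_two_group_eq_bot K _ hK hO2
  have hKZ : K ≤ Subgroup.centralizer (Z : Set G) := by
    intro k hk
    rw [Subgroup.mem_centralizer_iff]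
    intro z hz
    have hzQ : z ∈ Q := hZQ hz
    have hzN := hQK hzQ
    rw [Subgroup.mem_normalizer_iff] at hzN
    have hc1 : z * k * z⁻¹ * k⁻¹ ∈ K := K.mul_mem ((hzN k).mp hk) (K.inv_mem hk)
    have hc2 : z * k * z⁻¹ * k⁻¹ ∈ pCore 2 G := by
      have : z * k * z⁻¹ * k⁻¹ = z * (k * z⁻¹ * k⁻¹) := by group
      rw [this]
      exact (pCore 2 G).mul_mem (hZ hz) (hO2n.conj_mem _ ((pCore 2 G).inv_mem (hZ hz)) k)
    have hc : z * k * z⁻¹ * k⁻¹ ∈ K ⊓ pCore 2 G := ⟨hc1, hc2⟩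
    rw [h1, Subgroup.mem_bot] at hc
    calc z * k = z * k * z⁻¹ * k⁻¹ * (k * z) := by group
      _ = k * z := by rw [hc, one_mul]
  -- Step 2: K centralizes Q
  have hQ2 : IsPGroup 2 Q := hL1.1.1
  have h2 : K ⊓ Q = ⊥ := odd_inf_two_group_eq_bot K _ hK hQ2
  have hKQ : K ≤ Subgroup.centralizer (Q : Set G) := by
    intro k hk
    rw [Subgroup.mem_centralizer_iff]
    intro q hq
    have hqN := hQK hq
    rw [Subgroup.mem_normalizer_iff] at hqN
    have hkN : k ∈ Subgroup.normalizer (Q : Set G) := hL3 (hKZ hk)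
    rw [Subgroup.mem_normalizer_iff] at hkN
    have hc1 : q * k * q⁻¹ * k⁻¹ ∈ K := K.mul_mem ((hqN k).mp hk) (K.inv_mem hk)
    have hc2 : q * k * q⁻¹ * k⁻¹ ∈ Q := by
      have : q * k * q⁻¹ * k⁻¹ = q * (k * q⁻¹ * k⁻¹) := by group
      rw [this]
      exact Q.mul_mem hq ((hkN q⁻¹).mp (Q.inv_mem hq))
    have hc : q * k * q⁻¹ * k⁻¹ ∈ K ⊓ Q := ⟨hc1, hc2⟩
    rw [h2, Subgroup.mem_bot] at hc
    calc q * k = q * k * q⁻¹ * k⁻¹ * (k * q) := by group
      _ = k * q := by rw [hc, one_mul]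
  -- Step 3: K ≤ Z, which has order 2
  rw [hL2] at hKQ
  have hcardZ : Nat.card Z = 2 := by
    rw [hZdef, Subgroup.card_map_of_injective Q.subtype_injective]
    exact hL1.2
  have hdvd : Nat.card K ∣ 2 := hcardZ ▸ Subgroup.card_dvd_of_le hKQ
  have hK1 : Nat.card K = 1 := by
    rcases (Nat.dvd_prime Nat.prime_two).mp hdvd with h | h
    · exact h
    · rw [h] at hK; exact absurd hK (by decide)
  exact Subgroup.card_eq_one.mp hK1  

end Cfsg.Agent.S5420
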