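-- Statement S5421 (row 5421).
import Cfsg.Statements.S5421
import Cfsg.Agent.Lib.H27.Basic

set_option autoImplicit false
open Cfsg

namespace Cfsg.Agent.S5421

open Cfsg.Agent.Lib.H27
open scoped commutatorElement

/-- In a group of order two, two non-identity elements coincide. -/
theorem eq_of_ne_one_of_card_two {G : Type*} [Group G] (Z : Subgroup G) (hZ : Nat.card Z = 2)
    {a b : G} (ha : a ∈ Z) (hb : b ∈ Z) (ha1 : a ≠ 1) (hb1 : b ≠ 1) : a = b := by
  obtain ⟨y, _, hy⟩ := (Nat.card_eq_two_iff' (1 : Z)).mp hZ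
  have h1 := hy ⟨a, ha⟩ (by intro h; exact ha1 (congrArg Subtype.val h))
  have h2 := hy ⟨b, hb⟩ (by intro h; exact hb1 (congrArg Subtype.val h))
  exact congrArg Subtype.val (h1.trans h2.symm)

/-- Let Q be an extraspecial 2-subgroup of the finite group G whose centralizer in G is its centre Z and which is normal in the centralizer of Z, and suppose some involution b of Q outside Z has Z contained in the largest normal 2-subgroup of the centralizer of b. Then Q is a large extraspecial 2-subgroup of G. -/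
theorem result {G : Type*} [Group G] [Finite G] (Q : Subgroup G) (hL1 : Cfsg.IsExtraspecial 2 ↥Q) (hL2 : Subgroup.centralizer (Q : Set G) = ((Subgroup.center ↥Q).map Q.subtype)) (hL3 : Subgroup.centralizer (((Subgroup.center ↥Q).map Q.subtype) : Set G) ≤ Subgroup.normalizer (Q : Set G)) (b : G) (hbQ : b ∈ Q) (hbZ : b ∉ ((Subgroup.center ↥Q).map Q.subtype)) (hb : orderOf b = 2) (hZ : ((Subgroup.center ↥Q).map Q.subtype) ≤ (Cfsg.pCore 2 ↥(Subgroup.centralizer ({b} : Set G))).map (Subgroup.centralizer ({b} : Set G)).subtype) : Cfsg.IsLargeExtraspecial Q := by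
  refine ⟨hL1, hL2, hL3, ?_⟩
  intro K hK hQK
  set Z : Subgroup G := (Subgroup.center ↥Q).map Q.subtype with hZdef
  have hZQ : Z ≤ Q := by
    rintro _ ⟨x, _, rfl⟩
    exact x.2
  have hcardZ : Nat.card Z = 2 := by
    rw [hZdef, Subgroup.card_map_of_injective Q.subtype_injective]
    exact hL1.2
  -- elements of Z commute with elements of Q
  have hZcomm : ∀ z ∈ Z, ∀ q ∈ Q, z * q = q * z := by
    rintro _ ⟨x, hx, rfl⟩ q hq
    have := Subgroup.mem_center_iff.mp hx ⟨q, hq⟩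
    exact (congrArg Subtype.val this).symm
  -- a generator z of Z
  obtain ⟨z, hzZ, hz1⟩ : ∃ z ∈ Z, z ≠ 1 := by
    by_contra h
    push_neg at h
    have : Z = ⊥ := (Subgroup.eq_bot_iff_forall Z).mpr h
    rw [this] at hcardZ
    simp at hcardZ
  have hzQ : z ∈ Q := hZQ hzZ
  have hzz : z * z = 1 := by
    by_contra h
    have h2 : z * z ∈ Z := Z.mul_mem hzZ hzZ
    have := eq_of_ne_one_of_card_two Z hcardZ h2 hzZ h hz1
    apply hz1
    calc z = z⁻¹ * (z * z) := by group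
      _ = z⁻¹ * z := by rw [this]
      _ = 1 := by group
  have hbb : b * b = 1 := by
    have := pow_orderOf_eq_one b
    rw [hb, pow_two] at this
    exact this
  -- normalization facts
  have hnormK : ∀ q ∈ Q, ∀ k ∈ K, q * k * q⁻¹ ∈ K := by
    intro q hq k hk
    have := hQK hq
    rw [Subgroup.mem_normalizer_iff] at this
    exact (this k).mp hk
  have hQ2 : IsPGroup 2 Q := hL1.1.1
  have hKQ0 : K ⊓ Q = ⊥ := odd_inf_two_group_eq_bot K _ hK hQ2
  -- Claim A: an element of K commuting with z is trivial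
  have hA : ∀ k ∈ K, z * k = k * z → k = 1 := by
    intro k hk hzk
    -- k centralizes Z
    have hkZ : k ∈ Subgroup.centralizer (Z : Set G) := by
      rw [Subgroup.mem_centralizer_iff]
      intro y hy
      by_cases hy1 : y = 1
      · subst hy1; simp
      · have := eq_of_ne_one_of_card_two Z hcardZ hy hzZ hy1 hz1
        rw [this]; exact hzk
    have hkN : k ∈ Subgroup.normalizer (Q : Set G) := hL3 hkZ
    rw [Subgroup.mem_normalizer_iff] at hkN
    -- k centralizes Q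
    have hkQ : k ∈ Subgroup.centralizer (Q : Set G) := by
      rw [Subgroup.mem_centralizer_iff]
      intro q hq
      have hc1 : q * k * q⁻¹ * k⁻¹ ∈ K := K.mul_mem (hnormK q hq k hk) (K.inv_mem hk)
      have hc2 : q * k * q⁻¹ * k⁻¹ ∈ Q := by
        have : q * k * q⁻¹ * k⁻¹ = q * (k * q⁻¹ * k⁻¹) := by group
        rw [this]
        exact Q.mul_mem hq ((hkN q⁻¹).mp (Q.inv_mem hq))
      have hc : q * k * q⁻¹ * k⁻¹ ∈ K ⊓ Q := Subgroup.mem_inf.mpr ⟨hc1, hc2⟩
      rw [hKQ0, Subgroup.mem_bot] at hc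
      calc q * k = q * k * q⁻¹ * k⁻¹ * (k * q) := by group
        _ = k * q := by rw [hc, one_mul]
    rw [hL2] at hkQ
    -- k ∈ K ⊓ Z = ⊥
    have hZ2 : IsPGroup 2 Z := hQ2.to_le hZQ
    have hKZ0 : K ⊓ Z = ⊥ := odd_inf_two_group_eq_bot K _ hK hZ2
    have : k ∈ K ⊓ Z := Subgroup.mem_inf.mpr ⟨hk, hkQ⟩
    rw [hKZ0, Subgroup.mem_bot] at this
    exact this
  -- Claim B: an element of K commuting with b is trivial
  set Cb : Subgroup G := Subgroup.centralizer ({b} : Set G) with hCbdef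
  set O : Subgroup G := (Cfsg.pCore 2 ↥Cb).map Cb.subtype with hOdef
  have hO2 : IsPGroup 2 O := (pCore_isPGroup (G := ↥Cb) (p := 2)).map Cb.subtype
  have hKO0 : K ⊓ O = ⊥ := odd_inf_two_group_eq_bot K _ hK hO2
  have hOnorm : ∀ c ∈ Cb, ∀ x ∈ O, c * x * c⁻¹ ∈ O := by
    rintro c hc _ ⟨x, hx, rfl⟩
    have hn : (Cfsg.pCore 2 ↥Cb).Normal := pCore_normal'
    exact ⟨⟨c, hc⟩ * x * ⟨c, hc⟩⁻¹, hn.conj_mem x hx ⟨c, hc⟩, rfl⟩
  have hB : ∀ k ∈ K, b * k = k * b → k = 1 := by
    intro k hk hbk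
    apply hA k hk
    have hkCb : k ∈ Cb := by
      rw [hCbdef, Subgroup.mem_centralizer_iff]
      intro y hy
      rw [Set.mem_singleton_iff] at hy
      subst hy
      exact hbk
    have hzO : z ∈ O := hZ hzZ
    have hc1 : z * k * z⁻¹ * k⁻¹ ∈ K := K.mul_mem (hnormK z hzQ k hk) (K.inv_mem hk)
    have hc2 : z * k * z⁻¹ * k⁻¹ ∈ O := by
      have : z * k * z⁻¹ * k⁻¹ = z * (k * z⁻¹ * k⁻¹) := by group
      rw [this]
      exact O.mul_mem hzO (hOnorm k hkCb _ (O.inv_mem hzO))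
    have hc : z * k * z⁻¹ * k⁻¹ ∈ K ⊓ O := Subgroup.mem_inf.mpr ⟨hc1, hc2⟩
    rw [hKO0, Subgroup.mem_bot] at hc
    calc z * k = z * k * z⁻¹ * k⁻¹ * (k * z) := by group
      _ = k * z := by rw [hc, one_mul]
  -- some q ∈ Q with q b q⁻¹ = b z
  obtain ⟨q, hqQ, hqb⟩ : ∃ q ∈ Q, q * b * q⁻¹ = b * z := by
    -- b is not central in Q
    have hbnc : (⟨b, hbQ⟩ : Q) ∉ Subgroup.center Q := by
      intro h
      exact hbZ ⟨⟨b, hbQ⟩, h, rfl⟩
    rw [Subgroup.mem_center_iff] at hbnc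
    push_neg at hbnc
    obtain ⟨q, hq⟩ := hbnc
    refine ⟨q, q.2, ?_⟩
    -- the commutator lies in the centre of Q
    have hcomm : ⁅q, ⟨b, hbQ⟩⁆ ∈ Subgroup.center Q := by
      rw [← hL1.1.2.2]
      exact Subgroup.commutator_mem_commutator (Subgroup.mem_top _) (Subgroup.mem_top _)
    have hcZ : (q : G) * b * (q : G)⁻¹ * b⁻¹ ∈ Z := ⟨⁅q, ⟨b, hbQ⟩⁆, hcomm, rfl⟩
    have hc1 : (q : G) * b * (q : G)⁻¹ * b⁻¹ ≠ 1 := by
      intro h
      apply hq
      apply Subtype.ext
      show (q : G) * b = b * q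
      calc (q : G) * b = (q : G) * b * (q : G)⁻¹ * b⁻¹ * (b * q) := by group
        _ = b * q := by rw [h, one_mul]
    have := eq_of_ne_one_of_card_two Z hcardZ hcZ hzZ hc1 hz1
    calc (q : G) * b * (q : G)⁻¹ = ((q : G) * b * (q : G)⁻¹ * b⁻¹) * b := by group
      _ = z * b := by rw [this]
      _ = b * z := hZcomm z hzZ b hbQ
  -- Claim C: an element of K commuting with b z is trivial
  have hC : ∀ k ∈ K, (b * z) * k = k * (b * z) → k = 1 := by
    intro k hk hbzk
    have hk' : q⁻¹ * k * q⁻¹⁻¹ ∈ K := hnormK q⁻¹ (Q.inv_mem hqQ) k hk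
    have : q⁻¹ * k * q⁻¹⁻¹ = 1 := by
      apply hB _ hk'
      rw [← hqb] at hbzk
      calc b * (q⁻¹ * k * q⁻¹⁻¹) = q⁻¹ * ((q * b * q⁻¹) * k) * q := by group
        _ = q⁻¹ * (k * (q * b * q⁻¹)) * q := by rw [hbzk]
        _ = q⁻¹ * k * q⁻¹⁻¹ * b := by group
    calc k = q * (q⁻¹ * k * q⁻¹⁻¹) * q⁻¹ := by group
      _ = 1 := by rw [this]; group
  -- z, b and b z all invert K
  have : Finite K := inferInstance
  have hbz2 : (b * z) * (b * z) = 1 := by
    have h := hZcomm z hzZ b hbQ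
    calc (b * z) * (b * z) = b * (z * b) * z := by group
      _ = b * (b * z) * z := by rw [h]
      _ = (b * b) * (z * z) := by group
      _ = 1 := by rw [hbb, hzz, one_mul]
  have iz := inverts_of_fixedPointFree K z hzz (hnormK z hzQ) hA
  have ib := inverts_of_fixedPointFree K b hbb (hnormK b hbQ) hB
  have ibz := inverts_of_fixedPointFree K (b * z) hbz2 (hnormK (b * z) (Q.mul_mem hbQ hzQ)) hC
  -- hence every element of K is its own inverse
  rw [Subgroup.eq_bot_iff_forall]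
  intro k hk
  have h1 : k⁻¹ = k := by
    have e1 := ibz k hk
    have e2 := iz k hk
    have e3 := ib k⁻¹ (K.inv_mem hk)
    calc k⁻¹ = (b * z) * k * (b * z)⁻¹ := e1.symm
      _ = b * (z * k * z⁻¹) * b⁻¹ := by group
      _ = b * k⁻¹ * b⁻¹ := by rw [e2]
      _ = k⁻¹⁻¹ := e3
      _ = k := inv_inv k
  have hk2 : k ^ 2 = 1 := by
    rw [pow_two]
    calc k * k = k⁻¹ * k := by rw [h1]
      _ = 1 := by group
  have hord : orderOf k ∣ 2 := orderOf_dvd_of_pow_eq_one hk2
  have hodd : Odd (orderOf k) := by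
    have hdvd : orderOf k ∣ Nat.card K := by
      have := orderOf_dvd_natCard (⟨k, hk⟩ : K)
      rwa [Subgroup.orderOf_mk] at this
    exact Odd.of_dvd_nat hK hdvd
  rcases (Nat.dvd_prime Nat.prime_two).mp hord with h | h
  · exact orderOf_eq_one_iff.mp h
  · rw [h] at hodd; exact absurd hodd (by decide)

end Cfsg.Agent.S5421
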