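import Cfsg.Statements.S5427
import Cfsg.Agent.Lib.H27.LxSimpleB
import Cfsg.Agent.S5421
import Cfsg.Agent.S5422

set_option autoImplicit false
open Cfsg

namespace Cfsg.Agent.S5427

/-- Let z be an involution of the finite group G whose centralizer C has generalized Fitting subgroup Q, an extraspecial 2-group of width at least 2 (order 2^(2w+1), w ≥ 2). Let K be a subgroup of G such that the subgroup U generated by the K-conjugates of z is abelian and C is generated by the C-conjugates of U. Suppose that either some K-conjugate of z other than z lies in Q, or some element u of U ∩ Q outside the subgroup generated by z has z in the largest normal 2-subgroup of its centralizer. Then G is simple and Q is a large extraspecial 2-subgroup of G. -/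
theorem result {G : Type*} [Group G] [Finite G] (z : G) (hz : orderOf z = 2) (Q : Subgroup G) (hQC : Q ≤ Subgroup.centralizer ({z} : Set G)) (hF : (Cfsg.generalizedFittingSubgroup ↥(Subgroup.centralizer ({z} : Set G))).map (Subgroup.centralizer ({z} : Set G)).subtype = Q) (hQ : Cfsg.IsExtraspecial 2 ↥Q) (w : ℕ) (hw : 2 ≤ w) (hcard : Nat.card ↥Q = 2 ^ (2 * w + 1)) (K U : Subgroup G) (hU : U = Subgroup.closure {x : G | ∃ k ∈ K, x = k * z * k⁻¹}) (hUab : IsMulCommutative ↥U) (hgen : Subgroup.closure {x : G | ∃ c ∈ Subgroup.centralizer ({z} : Set G), ∃ u ∈ U, x = c * u * c⁻¹} = Subgroup.centralizer ({z} : Set G)) (h3 : (∃ k ∈ K, k * z * k⁻¹ ∈ Q ∧ k * z * k⁻¹ ≠ z) ∨ ∃ u ∈ U ⊓ Q, u ∉ Subgroup.zpowers z ∧ (∃ hz' : z ∈ Subgroup.centralizer ({u} : Set G), (⟨z, hz'⟩ : ↥(Subgroup.centralizer ({u} : Set G))) ∈ Cfsg.pCore 2 ↥(Subgroup.centralizer ({u} : Set G)))) : IsSimpleGroup G ∧ Cfsg.IsLargeExtraspecial Q := by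
  open Cfsg.Agent.Lib.H27.LxS in
  have e : ESet z Q := ⟨hz, hQC, hF, hQ⟩
  have hL2 := e.centralizer_eq
  have hL3 := e.centralizer_center_le
  have hMn : (Subgroup.normalClosure ({z} : Set G)).Normal := Subgroup.normalClosure_normal
  have hzM : z ∈ Subgroup.normalClosure ({z} : Set G) :=
    Subgroup.subset_normalClosure (Set.mem_singleton z)
  -- `U` lies in the normal closure of `z` and has exponent two
  have hUM : U ≤ Subgroup.normalClosure ({z} : Set G) := by
    rw [hU, Subgroup.closure_le]
    rintro _ ⟨k, _, rfl⟩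
    exact hMn.conj_mem z hzM k
  have hUcomm : ∀ a ∈ U, ∀ b ∈ U, a * b = b * a := by
    intro a ha b hb
    exact congrArg Subtype.val (isMulCommutative_iff.mp hUab ⟨a, ha⟩ ⟨b, hb⟩)
  have hUsq : ∀ a ∈ U, a * a = 1 := by
    intro a ha
    have ha' := ha
    rw [hU] at ha'
    induction ha' using Subgroup.closure_induction with
    | mem x hx =>
      obtain ⟨k, _, rfl⟩ := hx
      calc k * z * k⁻¹ * (k * z * k⁻¹) = k * (z * z) * k⁻¹ := by group
        _ = 1 := by rw [e.z_sq]; group
    | one => rw [one_mul]
    | mul x y hx hy ihx ihy =>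
      have hxU : x ∈ U := by rw [hU]; exact hx
      have hyU : y ∈ U := by rw [hU]; exact hy
      calc x * y * (x * y) = x * (y * x) * y := by group
        _ = x * (x * y) * y := by rw [hUcomm y hyU x hxU]
        _ = (x * x) * (y * y) := by group
        _ = 1 := by rw [ihx hxU, ihy hyU, one_mul]
    | inv x hx ihx =>
      have hxU : x ∈ U := by rw [hU]; exact hx
      rw [← mul_inv_rev, ihx hxU, inv_one]
  have hLarge : Cfsg.IsLargeExtraspecial Q := by
    rcases h3 with ⟨k, _, hkQ, hkz⟩ | ⟨u, hu, huz, hz', hzO⟩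
    · refine (Cfsg.Agent.S5422.result Q hQ hL2 hL3 w hw hcard k ?_ ?_).2.2
      · intro hkN
        have := (Subgroup.mem_normalizer_iff.mp hkN z).mp (e.mem_center_iff.mpr (Or.inr rfl))
        rcases e.mem_center_iff.mp this with h1 | h1
        · apply e.z_ne_one
          have : z = k⁻¹ * (k * z * k⁻¹) * k := by group
          rw [this, h1]; group
        · exact hkz h1
      · rintro _ ⟨x, hx, rfl⟩
        rcases e.mem_center_iff.mp hx with rfl | rfl
        · simp
        · exact hkQ
    · have huU := (Subgroup.mem_inf.mp hu).1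
      have huQ := (Subgroup.mem_inf.mp hu).2
      refine Cfsg.Agent.S5421.result Q hQ hL2 hL3 u huQ ?_ ?_ ?_
      · rw [e.center_eq]
        exact huz
      · apply orderOf_eq_prime
        · rw [pow_two]; exact hUsq u huU
        · intro h1
          apply huz
          rw [h1]
          exact Subgroup.one_mem _
      · intro x hx
        rcases e.mem_center_iff.mp hx with rfl | rfl
        · exact Subgroup.one_mem _
        · exact ⟨⟨x, hz'⟩, hzO, rfl⟩
  refine ⟨?_, hLarge⟩
  apply e.simple_of_le_normalClosure hLarge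
  · rw [hcard]
    calc 2 < 2 ^ 2 := by norm_num
      _ ≤ 2 ^ (2 * w + 1) := Nat.pow_le_pow_right (by norm_num) (by omega)
  · rw [← hgen, Subgroup.closure_le]
    rintro _ ⟨c, _, u, hu, rfl⟩
    exact hMn.conj_mem u (hUM hu) c

end Cfsg.Agent.S5427
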