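import Cfsg.Statements.S5428
import Cfsg.Agent.Lib.H27.LxOddC

set_option autoImplicit false
open Cfsg

namespace Cfsg.Agent.S5428

/-- Let z be an involution of the finite group G whose centralizer C has generalized Fitting subgroup Q extraspecial (as a 2-group), let A be a subgroup of C of odd order, and let R be the centralizer of A in Q; suppose R has order at least 32, the largest normal subgroup of odd order of the centralizer of the subgroup generated by A and R lies in A, the order of that centralizer is not divisible by 4, and g is an element of G with g z g⁻¹ in R but outside the centre Z of Q. Let M be the subgroup generated by A and the centralizer of A (A is normal in it). Then: the centralizer in M of the subgroup generated by R and A, joined with A, equals the subgroup generated by A and Z; the image of R in M/A is a large extraspecial 2-subgroup of M/A; and g z g⁻¹ is conjugate to z inside the subgroup generated by R and the centralizer of A in g Q g⁻¹. -/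
theorem result {G : Type*} [Group G] [Finite G] (z : G) (hz : orderOf z = 2) (Q : Subgroup G) (hQC : Q ≤ Subgroup.centralizer ({z} : Set G)) (hF : (Cfsg.generalizedFittingSubgroup ↥(Subgroup.centralizer ({z} : Set G))).map (Subgroup.centralizer ({z} : Set G)).subtype = Q) (hQ : Cfsg.IsExtraspecial 2 ↥Q) (A : Subgroup G) (hA : A ≤ Subgroup.centralizer ({z} : Set G)) (hAodd : Odd (Nat.card ↥A)) (R : Subgroup G) (hR : R = Q ⊓ Subgroup.centralizer (A : Set G)) (hR32 : 32 ≤ Nat.card ↥R) (hO : (Cfsg.oddCore ↥(Subgroup.centralizer ((A ⊔ R : Subgroup G) : Set G))).map (Subgroup.centralizer ((A ⊔ R : Subgroup G) : Set G)).subtype ≤ A) (h4 : ¬ 4 ∣ Nat.card ↥(Subgroup.centralizer ((A ⊔ R : Subgroup G) : Set G))) (g : G) (hgR : g * z * g⁻¹ ∈ R) (hgZ : g * z * g⁻¹ ∉ ((Subgroup.center ↥Q).map Q.subtype)) (M : Subgroup G) (hM : M = Subgroup.centralizer (A : Set G) ⊔ A) [hn : (A.subgroupOf M).Normal] : (M ⊓ Subgroup.centralizer ((R ⊔ A : Subgroup G) : Set G)) ⊔ A = A ⊔ ((Subgroup.center ↥Q).map Q.subtype) ∧ Cfsg.IsLargeExtraspecial ((R.subgroupOf M).map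 (QuotientGroup.mk' (A.subgroupOf M))) ∧ ∃ x ∈ R ⊔ ((Q).map (MulAut.conj g).toMonoidHom ⊓ Subgroup.centralizer (A : Set G)), x * (g * z * g⁻¹) * x⁻¹ = z := by
  open Cfsg.Agent.Lib.H27.LxS in
  have e : ESet z Q := ⟨hz, hQC, hF, hQ⟩
  subst hR
  subst hM
  have hxz : g * z * g⁻¹ ≠ z := by
    intro h
    apply hgZ
    rw [h]
    exact e.mem_center_iff.mpr (Or.inr rfl)
  have c : ACtx Q z A g (g * z * g⁻¹) :=
    { e := e
      hA := hA
      odd := hAodd
      xdef := rfl
      xR := hgR
      xz := hxz }
  refine ⟨?_, c.large hO h4 hR32, ?_⟩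
  · apply le_antisymm
    · apply sup_le _ le_sup_left
      intro d hd
      have hdD : d ∈ Subgroup.centralizer
          ((A ⊔ (Q ⊓ Subgroup.centralizer (A : Set G)) : Subgroup G) : Set G) := by
        rw [sup_comm]; exact (Subgroup.mem_inf.mp hd).2
      obtain ⟨a, ha, h1⟩ := c.mem_D hO h4 hdD
      rcases h1 with h1 | h1
      · rw [h1]; exact Subgroup.mem_sup_left ha
      · rw [h1]
        exact Subgroup.mul_mem _ (Subgroup.mem_sup_left ha)
          (Subgroup.mem_sup_right (e.mem_center_iff.mpr (Or.inr rfl)))
    · apply sup_le le_sup_right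
      intro v hv
      apply Subgroup.mem_sup_left
      rcases e.mem_center_iff.mp hv with rfl | rfl
      · exact Subgroup.one_mem _
      · refine Subgroup.mem_inf.mpr ⟨Subgroup.mem_sup_left (Subgroup.mem_inf.mp c.z_mem_R).2, ?_⟩
        have hle : (Q ⊓ Subgroup.centralizer (A : Set G)) ⊔ A ≤
            Subgroup.centralizer ({v} : Set G) := sup_le (inf_le_left.trans hQC) hA
        rw [Subgroup.mem_centralizer_iff]
        intro h hh
        exact Subgroup.mem_centralizer_singleton_iff.mp (hle hh)
  · obtain ⟨q, hq, q', hq', hy⟩ := c.exists_y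
    exact ⟨q' * q, Subgroup.mul_mem _ (Subgroup.mem_sup_right hq') (Subgroup.mem_sup_left hq), hy⟩

end Cfsg.Agent.S5428
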