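import Cfsg.Statements.S5429
import Cfsg.Agent.Lib.H27.LxQuotC
import Cfsg.Agent.S5422

set_option autoImplicit false
open Cfsg

namespace Cfsg.Agent.S5429

/-- Let z be an involution of the finite group G with centralizer C whose generalized Fitting subgroup Q is extraspecial of width at least 3 (order 2^(2w+1), w ≥ 3); let g be an element of G with g z g⁻¹ in Q but outside the centre Z of Q, and t an involution lying in both Q and g Q g⁻¹ that is not conjugate to z; write P for the centralizer of t in Q and suppose that the elements of C acting trivially by conjugation on P modulo the subgroup generated by t and z are exactly the elements of Q. Then the image of P in the centralizer of t modulo the subgroup generated by t is a large extraspecial 2-subgroup there, and g z g⁻¹ is conjugate to z inside the subgroup generated by P and the centralizer of t in g Q g⁻¹. -/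
theorem result {G : Type*} [Group G] [Finite G] (z : G) (hz : orderOf z = 2) (Q : Subgroup G) (hQC : Q ≤ Subgroup.centralizer ({z} : Set G)) (hF : (Cfsg.generalizedFittingSubgroup ↥(Subgroup.centralizer ({z} : Set G))).map (Subgroup.centralizer ({z} : Set G)).subtype = Q) (hQ : Cfsg.IsExtraspecial 2 ↥Q) (w : ℕ) (hw : 3 ≤ w) (hcard : Nat.card ↥Q = 2 ^ (2 * w + 1)) (g : G) (hgQ : g * z * g⁻¹ ∈ Q) (hgZ : g * z * g⁻¹ ∉ ((Subgroup.center ↥Q).map Q.subtype)) (t : G) (ht : orderOf t = 2) (htQ : t ∈ Q ⊓ (Q).map (MulAut.conj g).toMonoidHom) (htz : ¬ IsConj z t) (P : Subgroup G) (hP : P = Q ⊓ Subgroup.centralizer ({t} : Set G)) (hCP : ∀ c ∈ Subgroup.centralizer ({z} : Set G), (∀ x ∈ P, ∃ y ∈ Subgroup.closure ({t, z} : Set G), c * x * c⁻¹ = x * y) ↔ c ∈ Q) [hn : ((Subgroup.zpowers t).subgroupOf (Subgroup.centralizer ({t} : Set G))).Normal] : Cfsg.IsLargeExtraspecial ((P.subgroupOf (Subgroup.centralizer ({t} : Set G))).map (QuotientGroup.mk' ((Subgroup.zpowers t).subgroupOf (Subgroup.centralizer ({t} : Set G))))) ∧ ∃ x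 ∈ P ⊔ ((Q).map (MulAut.conj g).toMonoidHom ⊓ Subgroup.centralizer ({t} : Set G)), x * (g * z * g⁻¹) * x⁻¹ = z := by
  open Cfsg.Agent.Lib.H27.LxS in
  have e : ESet z Q := ⟨hz, hQC, hF, hQ⟩
  subst hP
  have htt : t * t = 1 := by
    have := pow_orderOf_eq_one t
    rwa [ht, pow_two] at this
  have ht1 : t ≠ 1 := by
    intro h
    rw [h, orderOf_one] at ht
    omega
  have hxz : g * z * g⁻¹ ≠ z := by
    intro h
    apply hgZ
    rw [h]
    exact e.mem_center_iff.mpr (Or.inr rfl)
  have hzQg : z ∈ (Q).map (MulAut.conj g).toMonoidHom := by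
    refine (Cfsg.Agent.S5422.result Q hQ e.centralizer_eq e.centralizer_center_le w (by omega) hcard g
      ?_ ?_).1 (e.mem_center_iff.mpr (Or.inr rfl))
    · intro hgN
      exact hgZ ((Subgroup.mem_normalizer_iff.mp hgN z).mp (e.mem_center_iff.mpr (Or.inr rfl)))
    · rintro _ ⟨v, hv, rfl⟩
      rcases e.mem_center_iff.mp hv with rfl | rfl
      · simp
      · exact hgQ
  have c : TCtx Q z t g (g * z * g⁻¹) :=
    { lx := e.lx
      two := hQ.1.1
      tQ := (Subgroup.mem_inf.mp htQ).1
      tQg := (Subgroup.mem_inf.mp htQ).2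
      tt := htt
      t1 := ht1
      ntz := htz
      xdef := rfl
      xQ := hgQ
      xz := hxz
      zQg := hzQg
      hCP := by
        intro k hkz hkt hk
        refine (hCP k (Subgroup.mem_centralizer_singleton_iff.mpr hkz)).mp ?_
        intro p hp
        obtain ⟨hpQ, hpt⟩ := Subgroup.mem_inf.mp hp
        rcases hk p hpQ (Subgroup.mem_centralizer_singleton_iff.mp hpt) with h1 | h1
        · exact ⟨1, Subgroup.one_mem _, by rw [h1, mul_one]⟩
        · exact ⟨t, Subgroup.subset_closure (Set.mem_insert t _), h1⟩ }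
  refine ⟨c.large w hw hcard, ?_⟩
  obtain ⟨f, hf, f', hf', hft, hft', hy⟩ := c.exists_y
  refine ⟨f' * f, ?_, hy⟩
  apply Subgroup.mul_mem
  · apply Subgroup.mem_sup_right
    exact Subgroup.mem_inf.mpr ⟨hf', Subgroup.mem_centralizer_singleton_iff.mpr hft'⟩
  · apply Subgroup.mem_sup_left
    exact Subgroup.mem_inf.mpr ⟨hf, Subgroup.mem_centralizer_singleton_iff.mpr hft⟩

end Cfsg.Agent.S5429
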