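import Cfsg.Statements.S5430
import Cfsg.Agent.Lib.H22.LargeExtra5
import Cfsg.Agent.Lib.H22.LargeExtra6
-- import your own Cfsg.Agent.* helpers here

set_option autoImplicit false
open Cfsg

namespace Cfsg.Agent.S5430
open Cfsg.Agent.Lib.H22.LargeExtra
open Cfsg.Agent.Lib.H15
open Cfsg.Agent.Lib.H1

set_option maxHeartbeats 3200000 in
/-- Let Q be a large extraspecial 2-subgroup of the finite group G (extraspecial; centralizer equal to its centre; normal in the centralizer of its centre; normalizing no non-trivial subgroup of odd order) with centre generated by z, an involution, of width w ≥ 2 (order 2^(2w+1)); let g be an element outside the centralizer H of z with g z g⁻¹ in Q; write V for the subgroup generated by z and g z g⁻¹, X for the subgroup generated by Q and g Q g⁻¹, R for the subgroup generated by the centralizer of z in g Q g⁻¹ and the centralizer of g z g⁻¹ in Q, and E for the intersection of Q and g Q g⁻¹. Then R is the centralizer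 of V in X and is the largest normal 2-subgroup of X, and X/R is isomorphic to the symmetric group of degree 3; moreover the normalizer of V is the product of X and the centralizer of V in H, X is normal in it, and modulo R it is the direct product of X/R and of the centralizer of V in H modulo R. -/
theorem result {G : Type*} [Group G] [Finite G] (Q : Subgroup G) (hQ : Cfsg.IsLargeExtraspecial Q) (z : G) (hz : ((Subgroup.center ↥Q).map Q.subtype) = Subgroup.zpowers z) (hz2 : orderOf z = 2) (w : ℕ) (hw : 2 ≤ w) (hcard : Nat.card ↥Q = 2 ^ (2 * w + 1)) (g : G) (hgH : g ∉ Subgroup.centralizer ({z} : Set G)) (hgQ : g * z * g⁻¹ ∈ Q) (V X R E : Subgroup G) (hV : V = Subgroup.closure ({z, g * z * g⁻¹} : Set G)) (hX : X = Q ⊔ (Q).map (MulAut.conj g).toMonoidHom) (hR : R = ((Q).map (MulAut.conj g).toMonoidHom ⊓ Subgroup.centralizer ({z} : Set G)) ⊔ (Q ⊓ Subgroup.centralizer ({g * z * g⁻¹} : Set G))) (hE : E = Q ⊓ (Q).map (MulAut.conj g).toMonoidHom) : R = X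 ⊓ Subgroup.centralizer (V : Set G) ∧ R = (Cfsg.pCore 2 ↥X).map X.subtype ∧ (∃ h : (R.subgroupOf X).Normal, Nonempty (↥X ⧸ R.subgroupOf X ≃* Equiv.Perm (Fin 3))) ∧ Subgroup.normalizer (V : Set G) = X ⊔ (Subgroup.centralizer ({z} : Set G) ⊓ Subgroup.centralizer (V : Set G)) ∧ (∀ y ∈ Subgroup.normalizer (V : Set G), ∀ x ∈ X, y * x * y⁻¹ ∈ X) ∧ R ≤ Subgroup.centralizer ({z} : Set G) ⊓ Subgroup.centralizer (V : Set G) ∧ (∀ x ∈ X, ∀ c ∈ Subgroup.centralizer ({z} : Set G) ⊓ Subgroup.centralizer (V : Set G), x * c * x⁻¹ * c⁻¹ ∈ R) ∧ X ⊓ (Subgroup.centralizer ({z} : Set G) ⊓ Subgroup.centralizer (V : Set G)) = R := by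
  have h : LXP Q (cj g Q) z (g * z * g⁻¹) := lxp_of_hyp Q hQ z hz hz2 g hgH hgQ
  obtain ⟨x, hxdef⟩ : ∃ x, x = g * z * g⁻¹ := ⟨_, rfl⟩
  rw [← hxdef] at h hV hR
  obtain ⟨Qx, hQx⟩ : ∃ Qx, Qx = cj g Q := ⟨_, rfl⟩
  have hQx' : (Q).map (MulAut.conj g).toMonoidHom = Qx := hQx.symm
  rw [hQx'] at hX hR hE
  rw [← hQx] at h
  have hVV : V = h.V := by rw [hV, h.V_eq_closure]
  subst hVV
  clear hV
  -- basic containments
  have hRmem : ∀ r, r ∈ R ↔ r ∈ (Qx ⊓ Subgroup.centralizer ({z} : Set G)) ⊔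
      (Q ⊓ Subgroup.centralizer ({x} : Set G)) := by intro r; rw [hR]
  have hQX : Q ≤ X := by rw [hX]; exact le_sup_left
  have hQxX : Qx ≤ X := by rw [hX]; exact le_sup_right
  have hRX : R ≤ X := by
    rw [hR]
    exact sup_le (inf_le_left.trans hQxX) (inf_le_left.trans hQX)
  have hXN : X ≤ Subgroup.normalizer (h.V : Set G) := by rw [hX]; exact h.X_le_normalizer
  have hCV : ∀ c, c ∈ Subgroup.centralizer (h.V : Set G) ↔ (c * z = z * c ∧ c * x = x * c) := by
    intro c
    rw [Subgroup.mem_centralizer_iff]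
    constructor
    · intro hc
      exact ⟨(hc z h.z_mem_V).symm, (hc x h.x_mem_V).symm⟩
    · rintro ⟨h1, h2⟩ v hv
      exact (h.comm_V h1 h2 hv).symm
  have hRcv : ∀ r ∈ R, r * z = z * r ∧ r * x = x * r := fun r hr => h.R_cv ((hRmem r).mp hr)
  -- `X` normalizes `R`
  have hQnR : Q ≤ Subgroup.normalizer (R : Set G) := by
    intro q hq
    rw [Subgroup.mem_normalizer_iff]
    intro r
    constructor
    · intro hr; exact (hRmem _).mpr (h.R_conj_Q hq ((hRmem r).mp hr))
    · intro hr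
      have := h.R_conj_Q (Q.inv_mem hq) ((hRmem _).mp hr)
      have e : q⁻¹ * (q * r * q⁻¹) * q⁻¹⁻¹ = r := by group
      rw [e] at this
      exact (hRmem r).mpr this
  have hQxnR : Qx ≤ Subgroup.normalizer (R : Set G) := by
    have hRmem' : ∀ r, r ∈ R ↔ r ∈ (Q ⊓ Subgroup.centralizer ({x} : Set G)) ⊔
        (Qx ⊓ Subgroup.centralizer ({z} : Set G)) := by intro r; rw [hR, sup_comm]
    intro q hq
    rw [Subgroup.mem_normalizer_iff]
    intro r
    constructor
    · intro hr; exact (hRmem' _).mpr (h.symm.R_conj_Q hq ((hRmem' r).mp hr))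
    · intro hr
      have := h.symm.R_conj_Q (Qx.inv_mem hq) ((hRmem' _).mp hr)
      have e : q⁻¹ * (q * r * q⁻¹) * q⁻¹⁻¹ = r := by group
      rw [e] at this
      exact (hRmem' r).mpr this
  have hRnorm : X ≤ Subgroup.normalizer (R : Set G) := by
    rw [hX]; exact sup_le hQnR hQxnR
  have hRconj : ∀ a ∈ X, ∀ r ∈ R, a * r * a⁻¹ ∈ R := by
    intro a ha r hr
    exact (Subgroup.mem_normalizer_iff.mp (hRnorm ha) r).mp hr
  -- the permutation representation
  obtain ⟨ψ, hψ⟩ := h.exists_perm_hom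
  obtain ⟨ψX, hψXdef⟩ : ∃ ψX : ↥X →* Equiv.Perm (Fin 3), ψX = ψ.comp (Subgroup.inclusion hXN) :=
    ⟨_, rfl⟩
  have hψX1 : ∀ y : ↥X, ψX y = 1 ↔ ((y : G) * z = z * y ∧ (y : G) * x = x * y) := by
    intro y
    rw [hψXdef]
    exact h.perm_hom_eq_one_iff ψ hψ (Subgroup.inclusion hXN y)
  obtain ⟨q, hq, hqx⟩ := h.exists_not_comm
  obtain ⟨q', hq', hq'z⟩ := h.symm.exists_not_comm
  obtain ⟨s, hsdef⟩ : ∃ s : ↥X, s = ⟨q, hQX hq⟩ := ⟨_, rfl⟩
  obtain ⟨t, htdef⟩ : ∃ t : ↥X, t = ⟨q', hQxX hq'⟩ := ⟨_, rfl⟩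
  have hψs : ψX s = Equiv.swap 1 2 := by
    rw [hψXdef, hsdef]
    exact h.perm_hom_Q ψ hψ hq hqx (hXN (hQX hq))
  have hψt : ψX t = Equiv.swap 0 2 := by
    rw [hψXdef, htdef]
    exact h.perm_hom_Qx ψ hψ hq' hq'z (hXN (hQxX hq'))
  have hsurj : Function.Surjective ψX := by
    intro σ
    rcases perm3_list σ with h1 | h1 | h1 | h1 | h1 | h1
    · exact ⟨1, by rw [map_one, h1]⟩
    · exact ⟨s, by rw [hψs, h1]⟩
    · exact ⟨t, by rw [hψt, h1]⟩
    · exact ⟨s * t, by rw [map_mul, hψs, hψt, h1]⟩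
    · exact ⟨t * s, by rw [map_mul, hψs, hψt, h1]⟩
    · exact ⟨s * t * s, by rw [map_mul, map_mul, hψs, hψt, h1]⟩
  -- the normal subgroup `N = R` of `X`
  have hNnormal : (R.subgroupOf X).Normal :=
    (Subgroup.normal_subgroupOf_iff_le_normalizer hRX).mpr hRnorm
  have hNker : ∀ y : ↥X, y ∈ R.subgroupOf X → ψX y = 1 := by
    intro y hy
    rw [hψX1]
    exact hRcv _ (Subgroup.mem_subgroupOf.mp hy)
  -- the crux: the braid relation modulo `R`
  have hqz : q * z * q⁻¹ = z := h.conj_z hq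
  have hq'x : q' * x * q'⁻¹ = x := h.symm.conj_z hq'
  have hqxc : q * x * q⁻¹ = z * x := h.conj_x_of_not hq hqx
  have hq'zc : q' * z * q'⁻¹ = x * z := h.symm.conj_x_of_not hq' hq'z
  have hzz := h.l.sq_one
  have hxx := h.lx.sq_one
  have hzx := h.comm_zx
  have k1 : (q * q') * z * (q * q')⁻¹ = x := by
    calc (q * q') * z * (q * q')⁻¹ = q * (q' * z * q'⁻¹) * q⁻¹ := by group
      _ = q * (x * z) * q⁻¹ := by rw [hq'zc]
      _ = (q * x * q⁻¹) * (q * z * q⁻¹) := by group
      _ = (z * x) * z := by rw [hqxc, hqz]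
      _ = x := by rw [hzx, mul_assoc, hzz, mul_one]
  have k2 : (q * q') * x * (q * q')⁻¹ = z * x := by
    calc (q * q') * x * (q * q')⁻¹ = q * (q' * x * q'⁻¹) * q⁻¹ := by group
      _ = z * x := by rw [hq'x, hqxc]
  have k3 : (q * q')⁻¹ * z * (q * q') = z * x := by
    have : (q * q') * (z * x) * (q * q')⁻¹ = z := by
      calc (q * q') * (z * x) * (q * q')⁻¹
          = ((q * q') * z * (q * q')⁻¹) * ((q * q') * x * (q * q')⁻¹) := by group
        _ = x * (z * x) := by rw [k1, k2]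
        _ = z := by rw [← mul_assoc, ← hzx, mul_assoc, hxx, mul_one]
    calc (q * q')⁻¹ * z * (q * q') = (q * q')⁻¹ * ((q * q') * (z * x) * (q * q')⁻¹) * (q * q') := by
          rw [this]
      _ = z * x := by group
  obtain ⟨u, hu⟩ : ∃ u, u = (q * q') * q * (q * q')⁻¹ := ⟨_, rfl⟩
  have huQx : u ∈ Qx := by rw [hu]; exact h.conj _ k1 q hq
  have huz : u * z ≠ z * u := by
    intro hc
    apply hqx
    -- q commutes with (qq')⁻¹ z (qq') = z x, hence with x
    have h1 : q * (z * x) = (z * x) * q := by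
      have e1 : q = (q * q')⁻¹ * u * (q * q') := by rw [hu]; group
      have hc' : Commute u z := hc
      have : Commute ((q * q')⁻¹ * u * (q * q')) ((q * q')⁻¹ * z * (q * q')) := by
        have e2 : (q * q')⁻¹ * u * (q * q') * ((q * q')⁻¹ * z * (q * q'))
            = (q * q')⁻¹ * (u * z) * (q * q') := by group
        have e3 : (q * q')⁻¹ * z * (q * q') * ((q * q')⁻¹ * u * (q * q'))
            = (q * q')⁻¹ * (z * u) * (q * q') := by group
        show _ = _
        rw [e2, e3, hc]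
      rw [← e1, k3] at this
      exact this.eq
    have c1 : Commute q z := h.l.cz q hq
    have c2 : Commute q (z * x) := h1
    have : Commute q (z * (z * x)) := c1.mul_right c2
    rw [← mul_assoc, hzz, one_mul] at this
    exact this.eq
  -- b := q'⁻¹ u ∈ B
  have hbz : (q'⁻¹ * u) * z = z * (q'⁻¹ * u) := h.symm.coset hq' hq'z huQx huz
  have hbR : q'⁻¹ * u ∈ R :=
    (hRmem _).mpr (h.mem_R_of_B (Qx.mul_mem (Qx.inv_mem hq') huQx) hbz)
  have hbraid : (q' * q * q')⁻¹ * (q * q' * q) ∈ R := by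
    have e : (q' * q * q')⁻¹ * (q * q' * q) = (q * q')⁻¹ * (q'⁻¹ * u) * (q * q')⁻¹⁻¹ := by
      rw [hu]; group
    rw [e]
    exact hRconj _ (X.inv_mem (X.mul_mem (hQX hq) (hQxX hq'))) _ hbR
  have hqqR : q * q ∈ R := by
    rcases h.l.sq q hq with h1 | h1
    · rw [h1]; exact R.one_mem
    · rw [h1]; exact (hRmem _).mpr (h.V_le_R h.z_mem_V)
  have hq'q'R : q' * q' ∈ R := by
    rcases h.lx.sq q' hq' with h1 | h1
    · rw [h1]; exact R.one_mem
    · rw [h1]; exact (hRmem _).mpr (h.V_le_R h.x_mem_V)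
  have hgen : Q.subgroupOf X ⊔ Qx.subgroupOf X = ⊤ := by
    rw [← Subgroup.subgroupOf_sup hQX hQxX, ← hX, Subgroup.subgroupOf_self]
  have hcover := @cover6 ↥X _ (R.subgroupOf X) hNnormal s t
    (by rw [Subgroup.mem_subgroupOf, hsdef]; exact hqqR)
    (by rw [Subgroup.mem_subgroupOf, htdef]; exact hq'q'R)
    (by rw [Subgroup.mem_subgroupOf, hsdef, htdef]; exact hbraid)
    (Q.subgroupOf X) (Qx.subgroupOf X) hgen
    (by
      intro a ha
      rw [Subgroup.mem_subgroupOf] at ha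
      by_cases hax : (a : G) * x = x * a
      · left
        rw [Subgroup.mem_subgroupOf]
        exact (hRmem _).mpr (h.mem_R_of_A ha hax)
      · right
        rw [Subgroup.mem_subgroupOf, hsdef]
        have h1 := h.coset hq hqx ha hax
        exact (hRmem _).mpr (h.mem_R_of_A (Q.mul_mem (Q.inv_mem hq) ha) h1))
    (by
      intro a ha
      rw [Subgroup.mem_subgroupOf] at ha
      by_cases haz : (a : G) * z = z * a
      · left
        rw [Subgroup.mem_subgroupOf]
        exact (hRmem _).mpr (h.mem_R_of_B ha haz)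
      · right
        rw [Subgroup.mem_subgroupOf, htdef]
        have h1 := h.symm.coset hq' hq'z ha haz
        exact (hRmem _).mpr (h.mem_R_of_B (Qx.mul_mem (Qx.inv_mem hq') ha) h1))
  have hw1 : ∀ w y : ↥X, w⁻¹ * y ∈ R.subgroupOf X → ψX y = 1 → ψX w = 1 := by
    intro w y hwy hy
    have := hNker _ hwy
    rw [map_mul, map_inv, hy, mul_one, inv_eq_one] at this
    exact this
  obtain ⟨n1, n2, n3, n4, n5⟩ := perm3_ne
  have hker : ψX.ker = R.subgroupOf X := by
    ext y
    rw [MonoidHom.mem_ker]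
    constructor
    · intro hy
      rcases hcover y with c | c | c | c | c | c
      · exact c
      · exfalso; have := hw1 _ _ c hy; rw [hψs] at this; exact n1 this
      · exfalso; have := hw1 _ _ c hy; rw [hψt] at this; exact n2 this
      · exfalso; have := hw1 _ _ c hy; rw [map_mul, hψs, hψt] at this; exact n3 this
      · exfalso; have := hw1 _ _ c hy; rw [map_mul, hψs, hψt] at this; exact n4 this
      · exfalso; have := hw1 _ _ c hy; rw [map_mul, map_mul, hψs, hψt] at this; exact n5 this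
    · exact hNker y
  have hXcv : ∀ r ∈ X, r * z = z * r → r * x = x * r → r ∈ R := by
    intro r hr h1 h2
    have : (⟨r, hr⟩ : ↥X) ∈ ψX.ker := by
      rw [MonoidHom.mem_ker, hψX1]; exact ⟨h1, h2⟩
    rw [hker] at this
    exact Subgroup.mem_subgroupOf.mp this
  -- decomposition of `N(V)`
  have hdec : ∀ n ∈ Subgroup.normalizer (h.V : Set G), ∃ a ∈ X,
      (a⁻¹ * n) * z = z * (a⁻¹ * n) ∧ (a⁻¹ * n) * x = x * (a⁻¹ * n) := by
    intro n hn
    obtain ⟨y, hy⟩ := hsurj (ψ ⟨n, hn⟩)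
    refine ⟨y, y.2, ?_⟩
    have h1 : ψ ((Subgroup.inclusion hXN y)⁻¹ * ⟨n, hn⟩) = 1 := by
      rw [map_mul, map_inv, ← hy, hψXdef]
      simp
    exact (h.perm_hom_eq_one_iff ψ hψ _).mp h1
  -- `C(V)` normalizes `X`
  have hcX : ∀ c : G, c * z = z * c → c * x = x * c → ∀ a ∈ X, c * a * c⁻¹ ∈ X := by
    intro c hcz hcx a ha
    rw [hX, Subgroup.sup_eq_closure] at ha
    induction ha using Subgroup.closure_induction with
    | mem y hy =>
      rcases hy with hy | hy
      · exact hQX (h.l.normal c hcz y hy)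
      · exact hQxX (h.lx.normal c hcx y hy)
    | one => simp [X.one_mem]
    | mul a b _ _ iha ihb =>
      have e : c * (a * b) * c⁻¹ = (c * a * c⁻¹) * (c * b * c⁻¹) := by group
      rw [e]; exact X.mul_mem iha ihb
    | inv a _ iha =>
      have e : c * a⁻¹ * c⁻¹ = (c * a * c⁻¹)⁻¹ := by group
      rw [e]; exact X.inv_mem iha
  have hR2 : IsPGroup 2 ↥R := by
    intro r
    refine ⟨2, ?_⟩
    apply Subtype.ext
    have h1 := h.R_sq ((hRmem _).mp r.2)
    have h2 := h.E_sq h1.1 h1.2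
    show ((r ^ 2 ^ 2 : ↥R) : G) = 1
    rw [Subgroup.coe_pow]
    calc (r : G) ^ 2 ^ 2 = ((r : G) * r) * ((r : G) * r) := by
          norm_num [pow_succ, mul_assoc]
      _ = 1 := h2
  refine ⟨?_, ?_, ?_, ?_, ?_, ?_, ?_, ?_⟩
  · -- R = X ⊓ C(V)
    ext r
    rw [Subgroup.mem_inf, hCV]
    constructor
    · intro hr; exact ⟨hRX hr, hRcv r hr⟩
    · rintro ⟨h1, h2, h3⟩; exact hXcv r h1 h2 h3
  · -- R = O₂(X)
    show R = Cfsg.pCoreOf 2 X
    apply le_antisymm
    · exact le_pcoreOf hRX hRnorm hR2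
    · intro y hy
      obtain ⟨hyX, hyP⟩ := mem_pcoreOf_iff.mp hy
      have hbot : (Cfsg.pCore 2 ↥X).map ψX = ⊥ :=
        perm3_normal_two_group _ ((pCore_normal 2 ↥X).map ψX hsurj)
          ((pCore_isPGroup 2 ↥X).map ψX)
      have h1 : ψX ⟨y, hyX⟩ ∈ (Cfsg.pCore 2 ↥X).map ψX := Subgroup.mem_map_of_mem _ hyP
      rw [hbot, Subgroup.mem_bot] at h1
      have h2 : (⟨y, hyX⟩ : ↥X) ∈ ψX.ker := h1
      rw [hker] at h2
      exact Subgroup.mem_subgroupOf.mp h2
  · -- X/R ≅ S₃
    refine ⟨hNnormal, ⟨?_⟩⟩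
    exact (QuotientGroup.quotientMulEquivOfEq hker.symm).trans
      (QuotientGroup.quotientKerEquivOfSurjective ψX hsurj)
  · -- N(V) = X C(V)
    apply le_antisymm
    · intro n hn
      obtain ⟨a, ha, h1, h2⟩ := hdec n hn
      have e : n = a * (a⁻¹ * n) := by group
      rw [e]
      apply Subgroup.mul_mem_sup ha
      rw [Subgroup.mem_inf, hCV, Subgroup.mem_centralizer_singleton_iff]
      exact ⟨h1, h1, h2⟩
    · apply sup_le hXN
      exact inf_le_right.trans (Subgroup.centralizer_le_normalizer _)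
  · -- N(V) normalizes X
    intro n hn a ha
    obtain ⟨b, hb, h1, h2⟩ := hdec n hn
    have e : n * a * n⁻¹ = b * ((b⁻¹ * n) * a * (b⁻¹ * n)⁻¹) * b⁻¹ := by group
    rw [e]
    exact X.mul_mem (X.mul_mem hb (hcX _ h1 h2 a ha)) (X.inv_mem hb)
  · -- R ≤ C(V)
    intro r hr
    have := hRcv r hr
    rw [Subgroup.mem_inf, hCV, Subgroup.mem_centralizer_singleton_iff]
    exact ⟨this.1, this.1, this.2⟩
  · -- [X, C(V)] ≤ R
    intro a ha c hc
    rw [Subgroup.mem_inf, hCV] at hc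
    obtain ⟨_, hcz, hcx⟩ := hc
    have hmX : a * c * a⁻¹ * c⁻¹ ∈ X := by
      have e : a * c * a⁻¹ * c⁻¹ = a * (c * a⁻¹ * c⁻¹) := by group
      rw [e]; exact X.mul_mem ha (hcX c hcz hcx _ (X.inv_mem ha))
    -- a c a⁻¹ centralizes V
    have hact := (h.X_act (by rw [← hX]; exact ha)).1
    have hconjc : ∀ v ∈ h.V, (a * c * a⁻¹) * v = v * (a * c * a⁻¹) := by
      intro v hv
      have hv' := (hact v hv).2
      have hcv : c * (a⁻¹ * v * a) = (a⁻¹ * v * a) * c := h.comm_V hcz hcx hv'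
      calc (a * c * a⁻¹) * v = a * (c * (a⁻¹ * v * a)) * a⁻¹ := by group
        _ = a * ((a⁻¹ * v * a) * c) * a⁻¹ := by rw [hcv]
        _ = v * (a * c * a⁻¹) := by group
    have c1 : Commute (a * c * a⁻¹) z := hconjc z h.z_mem_V
    have c2 : Commute (a * c * a⁻¹) x := hconjc x h.x_mem_V
    have c3 : Commute c⁻¹ z := (show Commute c z from hcz).inv_left
    have c4 : Commute c⁻¹ x := (show Commute c x from hcx).inv_left
    exact hXcv _ hmX (c1.mul_left c3).eq (c2.mul_left c4).eq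
  · -- X ⊓ C(V) = R
    ext r
    rw [Subgroup.mem_inf, Subgroup.mem_inf, hCV]
    constructor
    · rintro ⟨h1, _, h2, h3⟩; exact hXcv r h1 h2 h3
    · intro hr
      have := hRcv r hr
      refine ⟨hRX hr, ?_, this⟩
      rw [Subgroup.mem_centralizer_singleton_iff]; exact this.1

end Cfsg.Agent.S5430
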