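import Cfsg.Statements.S5431
import Cfsg.Agent.Lib.H22.LargeExtra5
-- import your own Cfsg.Agent.* helpers here

set_option autoImplicit false
open Cfsg

namespace Cfsg.Agent.S5431
open Cfsg.Agent.Lib.H22.LargeExtra
open Cfsg.Agent.Lib.H15

set_option maxHeartbeats 1600000 in
/-- Let Q be a large extraspecial 2-subgroup of the finite group G (extraspecial; centralizer equal to its centre; normal in the centralizer of its centre; normalizing no non-trivial subgroup of odd order) with centre generated by z, an involution, of width w ≥ 2 (order 2^(2w+1)); let g be an element outside the centralizer H of z with g z g⁻¹ in Q; write V for the subgroup generated by z and g z g⁻¹, X for the subgroup generated by Q and g Q g⁻¹, R for the subgroup generated by the centralizer of z in g Q g⁻¹ and the centralizer of g z g⁻¹ in Q, and E for the intersection of Q and g Q g⁻¹. Then V is the centre of R, E lies in the second centre of R, R is nilpotent of class at most 3,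 E and R/E are elementary abelian, R/E is the direct product of the images of the centralizer of g z g⁻¹ in Q and of the centralizer of z in g Q g⁻¹ (R is their product and they meet in E), and the commutator subgroup of X and E lies in V. -/
theorem result {G : Type*} [Group G] [Finite G] (Q : Subgroup G) (hQ : Cfsg.IsLargeExtraspecial Q) (z : G) (hz : ((Subgroup.center ↥Q).map Q.subtype) = Subgroup.zpowers z) (hz2 : orderOf z = 2) (w : ℕ) (hw : 2 ≤ w) (hcard : Nat.card ↥Q = 2 ^ (2 * w + 1)) (g : G) (hgH : g ∉ Subgroup.centralizer ({z} : Set G)) (hgQ : g * z * g⁻¹ ∈ Q) (V X R E : Subgroup G) (hV : V = Subgroup.closure ({z, g * z * g⁻¹} : Set G)) (hX : X = Q ⊔ (Q).map (MulAut.conj g).toMonoidHom) (hR : R = ((Q).map (MulAut.conj g).toMonoidHom ⊓ Subgroup.centralizer ({z} : Set G)) ⊔ (Q ⊓ Subgroup.centralizer ({g * z * g⁻¹} : Set G))) (hE : E = Q ⊓ (Q).map (MulAut.conj g).toMonoidHom) : (Subgroup.center ↥R).map R.subtype = V ∧ E ≤ (Subgroup.upperCentralSeries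 ↥R 2).map R.subtype ∧ Subgroup.upperCentralSeries ↥R 3 = ⊤ ∧ Cfsg.IsElementaryAbelian 2 E ∧ (∀ x ∈ R, ∀ y ∈ R, x * y * x⁻¹ * y⁻¹ ∈ E ∧ x ^ 2 ∈ E) ∧ ((Q).map (MulAut.conj g).toMonoidHom ⊓ Subgroup.centralizer ({z} : Set G)) ⊓ (Q ⊓ Subgroup.centralizer ({g * z * g⁻¹} : Set G)) = E ∧ ⁅X, E⁆ ≤ V := by
  have h : LXP Q (cj g Q) z (g * z * g⁻¹) := lxp_of_hyp Q hQ z hz hz2 g hgH hgQ
  obtain ⟨x, hxdef⟩ : ∃ x, x = g * z * g⁻¹ := ⟨_, rfl⟩
  rw [← hxdef] at h hV hR
  obtain ⟨Qx, hQx⟩ : ∃ Qx, Qx = cj g Q := ⟨_, rfl⟩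
  have hQx' : (Q).map (MulAut.conj g).toMonoidHom = Qx := hQx.symm
  rw [hQx'] at hX hR hE
  rw [← hQx] at h
  rw [← hxdef, hQx']
  have hVV : V = h.V := by rw [hV, h.V_eq_closure]
  have hmemE : ∀ e, e ∈ E ↔ e ∈ Q ∧ e ∈ Qx := by
    intro e; rw [hE, Subgroup.mem_inf]
  have hER : E ≤ R := by
    intro e he
    obtain ⟨h1, h2⟩ := (hmemE e).mp he
    rw [hR]
    exact h.mem_R_of_A h1 (h.lx.cz e h2)
  -- `V`-valued elements are central in `R`
  have hVcen : ∀ c : ↥R, (c : G) ∈ h.V → c ∈ Subgroup.center ↥R := by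
    intro c hc
    rw [Subgroup.mem_center_iff]
    intro r
    apply Subtype.ext
    have hr : (r : G) ∈ (Qx ⊓ Subgroup.centralizer ({z} : Set G)) ⊔
        (Q ⊓ Subgroup.centralizer ({x} : Set G)) := by rw [← hR]; exact r.2
    exact h.V_central hc hr
  have hE2 : ∀ e : ↥R, (e : G) ∈ Q → (e : G) ∈ Qx → e ∈ Subgroup.upperCentralSeries ↥R 2 := by
    intro e he he'
    rw [Subgroup.mem_upperCentralSeries_succ_iff]
    intro y
    rw [Subgroup.upperCentralSeries_one]
    apply hVcen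
    have hy : (y : G) ∈ (Qx ⊓ Subgroup.centralizer ({z} : Set G)) ⊔
        (Q ⊓ Subgroup.centralizer ({x} : Set G)) := by rw [← hR]; exact y.2
    have := h.E_R_comm he he' hy
    rw [commutatorElement_def]
    exact this
  refine ⟨?_, ?_, ?_, ?_, ?_, ?_, ?_⟩
  · -- centre
    rw [hVV]
    ext c
    constructor
    · rintro ⟨c', hc', rfl⟩
      have hc' : c' ∈ Subgroup.center ↥R := hc'
      rw [Subgroup.mem_center_iff] at hc'
      show (c' : G) ∈ h.V
      have hc : (c' : G) ∈ (Qx ⊓ Subgroup.centralizer ({z} : Set G)) ⊔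
          (Q ⊓ Subgroup.centralizer ({x} : Set G)) := by rw [← hR]; exact c'.2
      apply h.center_R hc
      intro r hr
      have hr' : r ∈ R := by rw [hR]; exact hr
      have := hc' ⟨r, hr'⟩
      exact congrArg Subtype.val this
    · intro hc
      have hcR : c ∈ R := by rw [hR]; exact h.V_le_R hc
      exact ⟨⟨c, hcR⟩, hVcen ⟨c, hcR⟩ hc, rfl⟩
  · -- E ≤ Z₂
    intro e he
    obtain ⟨h1, h2⟩ := (hmemE e).mp he
    exact ⟨⟨e, hER he⟩, hE2 ⟨e, hER he⟩ h1 h2, rfl⟩
  · -- class ≤ 3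
    rw [eq_top_iff]
    intro r _
    rw [Subgroup.mem_upperCentralSeries_succ_iff]
    intro y
    have hr : (r : G) ∈ (Qx ⊓ Subgroup.centralizer ({z} : Set G)) ⊔
        (Q ⊓ Subgroup.centralizer ({x} : Set G)) := by rw [← hR]; exact r.2
    have hy : (y : G) ∈ (Qx ⊓ Subgroup.centralizer ({z} : Set G)) ⊔
        (Q ⊓ Subgroup.centralizer ({x} : Set G)) := by rw [← hR]; exact y.2
    have := h.R_comm hr hy
    apply hE2
    · rw [commutatorElement_def]; exact this.1
    · rw [commutatorElement_def]; exact this.2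
  · -- E elementary abelian
    refine ⟨⟨⟨fun a b => ?_⟩⟩, ?_⟩
    · obtain ⟨a1, a2⟩ := (hmemE a).mp a.2
      obtain ⟨b1, b2⟩ := (hmemE b).mp b.2
      apply Subtype.ext
      exact h.E_comm a1 a2 b1 b2
    · intro a ha
      obtain ⟨a1, a2⟩ := (hmemE a).mp ha
      rw [pow_two]
      exact h.E_sq a1 a2
  · -- R/E elementary abelian
    intro r hr s hs
    rw [hR] at hr hs
    constructor
    · exact (hmemE _).mpr (h.R_comm hr hs)
    · rw [pow_two]
      exact (hmemE _).mpr (h.R_sq hr)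
  · -- B ⊓ A = E
    ext e
    rw [hmemE, Subgroup.mem_inf, mem_inf_cent, mem_inf_cent]
    constructor
    · rintro ⟨⟨h1, _⟩, ⟨h2, _⟩⟩
      exact ⟨h2, h1⟩
    · rintro ⟨h1, h2⟩
      exact ⟨⟨h2, h.l.cz e h1⟩, ⟨h1, h.lx.cz e h2⟩⟩
  · -- [X, E] ≤ V
    rw [Subgroup.commutator_le]
    intro a ha e he
    rw [hX] at ha
    obtain ⟨h1, h2⟩ := (hmemE e).mp he
    rw [commutatorElement_def, hVV]
    exact ((h.X_act ha).2 e h1 h2).1

end Cfsg.Agent.S5431
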