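import Cfsg.Statements.S5435
import Cfsg.Agent.S1853
import Cfsg.Agent.S3279
import Cfsg.Agent.Lib.H1.PGroupBasic
import Cfsg.Agent.Lib.H1.TwoInvolutions
import Cfsg.Agent.Lib.H1.ZStar
import Cfsg.Agent.Lib.H6.Dihedral

set_option autoImplicit false
open Cfsg

namespace Cfsg.Agent.S5435


open scoped commutatorElement

/-- Extremal conjugation (the argument of `S1853`, without its unused hypothesis). -/
theorem extremal {G : Type*} [Group G] [Finite G] [IsSimpleGroup G] (hG : ¬ IsMulCommutative G)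
    (S : Sylow 2 G) (T : Subgroup G) (hTS : T ≤ S)
    [hTn : (T.subgroupOf (S : Subgroup G)).Normal]
    (hcyc : IsCyclic (↥(S : Subgroup G) ⧸ T.subgroupOf (S : Subgroup G)))
    (y : G) (hy : orderOf y = 2) (hyS : y ∈ S) (hyT : y ∉ T) :
    ∃ g : G, g * y * g⁻¹ ∈ T ∧
      ((S : Subgroup G) ⊓ Subgroup.centralizer {y}).map (MulAut.conj g).toMonoidHom ≤
        (S : Subgroup G) := by
  classical
  let _ : CommGroup (↥(S : Subgroup G) ⧸ T.subgroupOf (S : Subgroup G)) := IsCyclic.commGroup
  have hy2 : y * y = 1 := by rw [← sq, ← hy, pow_orderOf_eq_one]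
  have hTnorm : ∀ h ∈ (S : Subgroup G), ∀ k ∈ T, h⁻¹ * k * h ∈ T := by
    intro h hh k hk
    have := hTn.conj_mem ⟨k, hTS hk⟩ (Subgroup.mem_subgroupOf.mpr hk) ⟨h, hh⟩⁻¹
    rw [Subgroup.mem_subgroupOf] at this
    simpa using this
  have hu1 : QuotientGroup.mk' (T.subgroupOf (S : Subgroup G)) ⟨y, hyS⟩ ≠ 1 := by
    intro h
    rw [QuotientGroup.mk'_apply, QuotientGroup.eq_one_iff, Subgroup.mem_subgroupOf] at h
    exact hyT h
  have hu2 : (QuotientGroup.mk' (T.subgroupOf (S : Subgroup G)) ⟨y, hyS⟩) ^ 2 = 1 := by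
    rw [← map_pow]
    have : (⟨y, hyS⟩ : ↥(S : Subgroup G)) ^ 2 = 1 := Subtype.ext (by simp [sq, hy2])
    rw [this, map_one]
  have hV : (QuotientGroup.mk' (T.subgroupOf (S : Subgroup G))).transfer y = 1 :=
    Cfsg.Agent.S1853.hom_eq_one_of_simple hG _ y
  have hpow := Cfsg.Agent.Lib.H9.transfer_involution_eq_pow
    (QuotientGroup.mk' (T.subgroupOf (S : Subgroup G))) y hy2 T
    (QuotientGroup.mk' (T.subgroupOf (S : Subgroup G)) ⟨y, hyS⟩) ?_ ?_
  rotate_left
  · intro x hxS hxT
    rw [Cfsg.Agent.Lib.H9.extendHom_of_mem _ hxS]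
    apply Cfsg.Agent.S1853.eq_of_sq_eq_one_of_isCyclic _ _ hu2 ?_ hu1 ?_
    · rw [← map_pow]
      have hx2 : x⁻¹ * y * x * (x⁻¹ * y * x) = 1 := by
        calc x⁻¹ * y * x * (x⁻¹ * y * x) = x⁻¹ * (y * y) * x := by group
          _ = 1 := by rw [hy2]; group
      have : (⟨x⁻¹ * y * x, hxS⟩ : ↥(S : Subgroup G)) ^ 2 = 1 := Subtype.ext (by simp [sq, hx2])
      rw [this, map_one]
    · intro h
      rw [QuotientGroup.mk'_apply, QuotientGroup.eq_one_iff, Subgroup.mem_subgroupOf] at h
      exact hxT h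
  · intro x hxT
    rw [Cfsg.Agent.Lib.H9.extendHom_of_mem _ (hTS hxT)]
    rw [QuotientGroup.mk'_apply, QuotientGroup.eq_one_iff, Subgroup.mem_subgroupOf]
    exact hxT
  rw [hV] at hpow
  have heven : 2 ∣ Nat.card {q : G ⧸ (S : Subgroup G) // y • q = q ∧ q.out⁻¹ * y * q.out ∉ T} := by
    have ho : orderOf (QuotientGroup.mk' (T.subgroupOf (S : Subgroup G)) ⟨y, hyS⟩) = 2 :=
      orderOf_eq_prime hu2 hu1
    have := orderOf_dvd_of_pow_eq_one hpow.symm
    rwa [ho] at this
  obtain ⟨R, hR, hCR⟩ := Cfsg.Agent.Lib.H5.exists_isSylowIn_ge (p := 2)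
    (Q := (S : Subgroup G) ⊓ Subgroup.centralizer {y}) (H := Subgroup.centralizer {y})
    (S.2.to_le inf_le_left) inf_le_right
  have hyR : y ∈ R := hCR (Subgroup.mem_inf.mpr ⟨hyS, Subgroup.mem_centralizer_singleton_iff.mpr rfl⟩)
  have hex : ∃ q : G ⧸ (S : Subgroup G), (∀ r ∈ R, r • q = q) ∧ q.out⁻¹ * y * q.out ∈ T := by
    by_contra hno
    push Not at hno
    have hmod := Cfsg.Agent.Lib.H9.card_invariant_modEq (p := 2) (P := ↥R)
      (X := G ⧸ (S : Subgroup G)) hR.2.1
      {q : G ⧸ (S : Subgroup G) | y • q = q ∧ q.out⁻¹ * y * q.out ∉ T} ?_ ?_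
    · have h2 : ¬ 2 ∣ Nat.card (G ⧸ (S : Subgroup G)) := S.not_dvd_index
      exact h2 (Nat.modEq_zero_iff_dvd.mp (hmod.symm.trans (Nat.modEq_zero_iff_dvd.mpr heven)))
    · intro r q hq
      have hrc : (r : G) * y = y * r := by
        have := hR.1 r.2
        rw [Subgroup.mem_centralizer_singleton_iff] at this
        exact this
      exact Cfsg.Agent.Lib.H9.fixedSet_invariant hTnorm y (r : G) hrc q hq
    · intro q hq
      have hfix : ∀ r ∈ R, r • q = q := fun r hr => hq ⟨r, hr⟩
      exact ⟨hfix y hyR, hno q hfix⟩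
  obtain ⟨q, hqfix, hqT⟩ := hex
  have hRgS : R.map (MulAut.conj q.out⁻¹).toMonoidHom ≤ (S : Subgroup G) := by
    rintro _ ⟨r, hr, rfl⟩
    have := Cfsg.Agent.Lib.H9.out_conj_mem_of_smul_eq r q (hqfix r hr)
    simpa [MulAut.conj_apply] using this
  refine ⟨q.out⁻¹, ?_, ?_⟩
  · rw [inv_inv]; exact hqT
  · exact (Subgroup.map_mono hCR).trans hRgS

variable {L : Type*} [Group L]

theorem mem_zpowers_two {z w : L} (hz : orderOf z = 2) (hw : w ∈ Subgroup.zpowers z) :
    w = 1 ∨ w = z := by
  obtain ⟨k, rfl⟩ := Subgroup.mem_zpowers_iff.1 hw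
  have h2 : z ^ (k % 2) = z ^ k := by
    have := zpow_mod_orderOf z k
    rwa [hz] at this
  rcases Int.emod_two_eq_zero_or_one k with h0 | h0
  · rw [h0, zpow_zero] at h2
    left; exact h2.symm
  · rw [h0, zpow_one] at h2
    right; exact h2.symm

/-- the working context: `R = C_L(z)`, squares and commutators of `R` lie in `{1,z}`, and `z` is
one of them. -/
structure Ctx (z : L) (R : Subgroup L) : Prop where
  z2 : z * z = 1
  z1 : z ≠ 1
  memR : ∀ a, a ∈ R ↔ a * z = z * a
  sq : ∀ a ∈ R, a * a = 1 ∨ a * a = z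
  comm : ∀ a ∈ R, ∀ b ∈ R, a * b * a⁻¹ * b⁻¹ = 1 ∨ a * b * a⁻¹ * b⁻¹ = z
  wit : ∃ a ∈ R, ∃ b ∈ R, a * a = z ∨ a * b * a⁻¹ * b⁻¹ = z

theorem mkCtx [Finite L] (z : L) (hz : orderOf z = 2) (R : Sylow 2 L)
    (hR : (R : Subgroup L) = Subgroup.centralizer ({z} : Set L))
    (hΦ : (frattini ↥(R : Subgroup L)).map (R : Subgroup L).subtype = Subgroup.zpowers z) :
    Ctx z (R : Subgroup L) := by
  have hz2 : z * z = 1 := by rw [← sq, ← hz, pow_orderOf_eq_one]
  have hz1 : z ≠ 1 := by intro h; rw [h, orderOf_one] at hz; omega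
  have hfr : ∀ w : ↥(R : Subgroup L), w ∈ frattini ↥(R : Subgroup L) → (w : L) = 1 ∨ (w : L) = z := by
    intro w hw
    apply mem_zpowers_two hz
    rw [← hΦ]
    exact ⟨w, hw, rfl⟩
  have hsq : ∀ a ∈ (R : Subgroup L), a * a = 1 ∨ a * a = z := by
    intro a ha
    have := hfr _ (Cfsg.Agent.Lib.H1.isPGroup_pow_mem_frattini R.2 ⟨a, ha⟩)
    simpa [sq] using this
  have hcomm : ∀ a ∈ (R : Subgroup L), ∀ b ∈ (R : Subgroup L),
      a * b * a⁻¹ * b⁻¹ = 1 ∨ a * b * a⁻¹ * b⁻¹ = z := by
    intro a ha b hb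
    have hmem : ⁅(⟨a, ha⟩ : ↥(R : Subgroup L)), ⟨b, hb⟩⁆ ∈ commutator ↥(R : Subgroup L) :=
      Subgroup.commutator_mem_commutator (Subgroup.mem_top _) (Subgroup.mem_top _)
    have := hfr _ (Cfsg.Agent.Lib.H1.isPGroup_commutator_le_frattini R.2 hmem)
    simpa [commutatorElement_def] using this
  refine ⟨hz2, hz1, ?_, hsq, hcomm, ?_⟩
  · intro a
    rw [hR, Subgroup.mem_centralizer_singleton_iff]
  · by_contra hno
    push Not at hno
    have h1 : frattini ↥(R : Subgroup L) ≤ ⊥ := by
      have : Fact (Nat.Prime 2) := ⟨Nat.prime_two⟩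
      apply Cfsg.Agent.Lib.H1.frattini_le_of_commutator_le_of_pow_mem (p := 2)
      · rw [commutator_eq_closure, Subgroup.closure_le]
        rintro x ⟨a, b, rfl⟩
        rw [SetLike.mem_coe, Subgroup.mem_bot]
        apply Subtype.ext
        rcases hcomm a a.2 b b.2 with h | h
        · simpa [commutatorElement_def] using h
        · exact absurd h (hno a a.2 b b.2).2
      · intro x
        rw [Subgroup.mem_bot]
        apply Subtype.ext
        rcases hsq x x.2 with h | h
        · simpa [sq] using h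
        · exact absurd h (hno x x.2 x x.2).1
    have h2 : z ∈ (frattini ↥(R : Subgroup L)).map (R : Subgroup L).subtype := by
      rw [hΦ]; exact Subgroup.mem_zpowers z
    obtain ⟨w, hw, hwz⟩ := h2
    have := h1 hw
    rw [Subgroup.mem_bot] at this
    rw [this] at hwz
    exact hz1 hwz.symm


theorem Ctx.mem_of_normalizes {z : L} {R : Subgroup L} (h : Ctx z R) {g : L}
    (hg : ∀ a ∈ R, g * a * g⁻¹ ∈ R) : g ∈ R := by
  rw [h.memR]
  obtain ⟨a, ha, b, hb, hab⟩ := h.wit
  have key : g * z * g⁻¹ = 1 ∨ g * z * g⁻¹ = z := by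
    rcases hab with hab | hab
    · have := h.sq _ (hg a ha)
      have e : g * a * g⁻¹ * (g * a * g⁻¹) = g * z * g⁻¹ := by rw [← hab]; group
      rwa [e] at this
    · have := h.comm _ (hg a ha) _ (hg b hb)
      have e : g * a * g⁻¹ * (g * b * g⁻¹) * (g * a * g⁻¹)⁻¹ * (g * b * g⁻¹)⁻¹ = g * z * g⁻¹ := by
        rw [← hab]; group
      rwa [e] at this
  rcases key with k | k
  · exfalso
    apply h.z1
    calc z = g⁻¹ * (g * z * g⁻¹) * g := by group
      _ = 1 := by rw [k]; group
  · calc g * z = (g * z * g⁻¹) * g := by group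
      _ = z * g := by rw [k]

theorem Ctx.conj_mem {z : L} {R : Subgroup L} (h : Ctx z R) (g : L) {q : L}
    (hq : q * (g * z * g⁻¹) = (g * z * g⁻¹) * q) : g⁻¹ * q * g ∈ R := by
  rw [h.memR]
  calc g⁻¹ * q * g * z = g⁻¹ * (q * (g * z * g⁻¹)) * g := by group
    _ = g⁻¹ * ((g * z * g⁻¹) * q) * g := by rw [hq]
    _ = z * (g⁻¹ * q * g) := by group

theorem Ctx.sq_eq_one {z : L} {R : Subgroup L} (h : Ctx z R) (g : L) (hne : g * z * g⁻¹ ≠ z)
    {q : L} (hqR : q ∈ R) (hq : q * (g * z * g⁻¹) = (g * z * g⁻¹) * q) : q * q = 1 := by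
  rcases h.sq q hqR with h1 | h1
  · exact h1
  · rcases h.sq _ (h.conj_mem g hq) with h2 | h2
    · calc q * q = g * (g⁻¹ * q * g * (g⁻¹ * q * g)) * g⁻¹ := by group
        _ = 1 := by rw [h2]; group
    · exfalso
      apply hne
      calc g * z * g⁻¹ = g * (g⁻¹ * q * g * (g⁻¹ * q * g)) * g⁻¹ := by rw [h2]
        _ = q * q := by group
        _ = z := h1

theorem Ctx.comm_of {z : L} {R : Subgroup L} (h : Ctx z R) (g : L) (hne : g * z * g⁻¹ ≠ z)
    {q q' : L} (hqR : q ∈ R) (hq : q * (g * z * g⁻¹) = (g * z * g⁻¹) * q)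
    (hq'R : q' ∈ R) (hq' : q' * (g * z * g⁻¹) = (g * z * g⁻¹) * q') : q * q' = q' * q := by
  have key : q * q' * q⁻¹ * q'⁻¹ = 1 := by
    rcases h.comm q hqR q' hq'R with h1 | h1
    · exact h1
    · rcases h.comm _ (h.conj_mem g hq) _ (h.conj_mem g hq') with h2 | h2
      · calc q * q' * q⁻¹ * q'⁻¹
            = g * (g⁻¹ * q * g * (g⁻¹ * q' * g) * (g⁻¹ * q * g)⁻¹ * (g⁻¹ * q' * g)⁻¹) * g⁻¹ := by
              group
          _ = 1 := by rw [h2]; group
      · exfalso
        apply hne
        calc g * z * g⁻¹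
            = g * (g⁻¹ * q * g * (g⁻¹ * q' * g) * (g⁻¹ * q * g)⁻¹ * (g⁻¹ * q' * g)⁻¹) * g⁻¹ := by
              rw [h2]
          _ = q * q' * q⁻¹ * q'⁻¹ := by group
          _ = z := h1
  calc q * q' = (q * q' * q⁻¹ * q'⁻¹) * q' * q := by group
    _ = q' * q := by rw [key, one_mul]

/-- `z` is not isolated. -/
theorem exists_conj [Finite L] [IsSimpleGroup L] (hL : ¬ IsMulCommutative L) (z : L)
    (hz : orderOf z = 2) :
    ∃ g : L, g * z * g⁻¹ ≠ z ∧ z * (g * z * g⁻¹) = (g * z * g⁻¹) * z := by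
  by_contra hno
  push Not at hno
  have hz2 : z * z = 1 := by rw [← sq, ← hz, pow_orderOf_eq_one]
  have hz1 : z ≠ 1 := by intro h; rw [h, orderOf_one] at hz; omega
  have hiso : Cfsg.IsIsolatedInvolution z := ⟨hz, fun g hc => by
    by_contra hne
    exact hno g hne hc.eq⟩
  have hzinv : z⁻¹ = z := inv_eq_of_mul_eq_one_left hz2
  have hIso : Cfsg.Agent.Lib.H1.ZStar.Iso z := ⟨hz, fun g => by
    have := Cfsg.Agent.Lib.H6.isolated_odd_orderOf hiso g
    have e : z * g * z⁻¹ * g⁻¹ = z * (g * z * g⁻¹) := by rw [hzinv]; group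
    rw [e]; exact this⟩
  have hzs := Cfsg.Agent.Lib.H1.ZStar.zstar z hIso
  have hzc : z ∈ Subgroup.center L := by
    rw [Subgroup.mem_center_iff]
    intro g
    have := hzs g
    rw [Cfsg.Agent.S3279.oddCore_eq_bot hz, Subgroup.mem_bot] at this
    calc g * z = (z * g * z⁻¹ * g⁻¹)⁻¹ * (z * g) := by group
      _ = z * g := by rw [this]; group
  apply hL
  exact ⟨⟨Cfsg.Agent.S3279.comm_of_central hz1 hzc⟩⟩

/-- There is no central involution of `R` other than `z` (Thompson transfer). -/
theorem no_central_involution [Finite L] [IsSimpleGroup L] (hL : ¬ IsMulCommutative L) (z : L)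
    (hz : orderOf z = 2) (R : Sylow 2 L)
    (hR : (R : Subgroup L) = Subgroup.centralizer ({z} : Set L))
    (hΦ : (frattini ↥(R : Subgroup L)).map (R : Subgroup L).subtype = Subgroup.zpowers z)
    (e : L) (heR : e ∈ (R : Subgroup L)) (he2 : e * e = 1) (he1 : e ≠ 1) (hez : e ≠ z)
    (hec : ∀ a ∈ (R : Subgroup L), a * e = e * a) : False := by
  have h := mkCtx z hz R hR hΦ
  have : Fact (Nat.Prime 2) := ⟨Nat.prime_two⟩
  have hnot : (⟨e, heR⟩ : ↥(R : Subgroup L)) ∉ frattini ↥(R : Subgroup L) := by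
    intro hmem
    have : e ∈ (frattini ↥(R : Subgroup L)).map (R : Subgroup L).subtype := ⟨_, hmem, rfl⟩
    rw [hΦ] at this
    rcases mem_zpowers_two hz this with h1 | h1
    · exact he1 h1
    · exact hez h1
  obtain ⟨M, hM, heM⟩ : ∃ M : Subgroup ↥(R : Subgroup L), IsCoatom M ∧
      (⟨e, heR⟩ : ↥(R : Subgroup L)) ∉ M := by
    by_contra hno
    push Not at hno
    apply hnot
    have : Subgroup.zpowers (⟨e, heR⟩ : ↥(R : Subgroup L)) ≤ frattini ↥(R : Subgroup L) := by
      rw [Cfsg.Agent.Lib.H1.le_frattini_iff]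
      intro M hM
      rw [Subgroup.zpowers_le]
      exact hno M hM
    exact this (Subgroup.mem_zpowers _)
  set T : Subgroup L := M.map (R : Subgroup L).subtype with hT
  have hTM : T.subgroupOf (R : Subgroup L) = M := by
    unfold Subgroup.subgroupOf
    exact Subgroup.comap_map_eq_self_of_injective (Subgroup.subtype_injective _) M
  have hTS : T ≤ (R : Subgroup L) := Subgroup.map_subtype_le M
  have hTn : (T.subgroupOf (R : Subgroup L)).Normal := by
    rw [hTM]; exact Cfsg.Agent.Lib.H1.isPGroup_coatom_normal R.2 hM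
  have hidx : (T.subgroupOf (R : Subgroup L)).index = 2 := by
    rw [hTM]; exact Cfsg.Agent.Lib.H1.isPGroup_coatom_index R.2 hM
  have hcyc : IsCyclic (↥(R : Subgroup L) ⧸ T.subgroupOf (R : Subgroup L)) := by
    apply isCyclic_of_prime_card (p := 2)
    rw [← Subgroup.index_eq_card, hidx]
  have heT : e ∉ T := by
    rintro ⟨m, hm, hme⟩
    apply heM
    have : m = ⟨e, heR⟩ := Subtype.ext hme
    rwa [← this]
  have hoe : orderOf e = 2 := orderOf_eq_prime (by rw [sq]; exact he2) he1
  obtain ⟨g, hgT, hgS⟩ := extremal hL R T hTS hcyc e hoe heR heT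
  have hgR : g ∈ (R : Subgroup L) := by
    apply h.mem_of_normalizes
    intro a ha
    apply hgS
    refine ⟨a, ⟨ha, ?_⟩, rfl⟩
    exact Subgroup.mem_centralizer_singleton_iff.mpr (hec a ha)
  apply heT
  have : g * e * g⁻¹ = e := by rw [hec g hgR]; group
  rwa [this] at hgT


/-- A group of order `8` with two noncommuting involutions is dihedral (as in helper26's library). -/
theorem dihedral_of_two_inv {G : Type*} [Group G] [Finite G] (hcard : Nat.card G = 8)
    {x y : G} (hx : x * x = 1) (hy : y * y = 1) (hxy : x * y ≠ y * x) :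
    Nonempty (G ≃* DihedralGroup 4) := by
  have hx1 : x ≠ 1 := by rintro rfl; exact hxy (by simp)
  have hy1 : y ≠ 1 := by rintro rfl; exact hxy (by simp)
  have hox : orderOf x = 2 := orderOf_eq_prime (by rw [sq]; exact hx) hx1
  have hoy : orderOf y = 2 := orderOf_eq_prime (by rw [sq]; exact hy) hy1
  have hne : x ≠ y := by rintro rfl; exact hxy rfl
  obtain ⟨e⟩ := Cfsg.Agent.Lib.H1.twoInv_closure_equiv_dihedral hox hoy hne
  have hpos : 0 < orderOf (x * y) := orderOf_pos _
  have : NeZero (orderOf (x * y)) := ⟨hpos.ne'⟩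
  have hcardH : Nat.card (Subgroup.closure ({x, y} : Set G)) = 2 * orderOf (x * y) := by
    rw [Nat.card_congr e.toEquiv, DihedralGroup.nat_card]
  have hdvd : 2 * orderOf (x * y) ∣ 2 * 4 := by
    rw [← hcardH, show 2 * 4 = 8 by norm_num, ← hcard]
    exact Subgroup.card_subgroup_dvd_card _
  have hn4 : orderOf (x * y) ∣ 2 ^ 2 := Nat.dvd_of_mul_dvd_mul_left (by norm_num) hdvd
  have hxinv : x⁻¹ = x := inv_eq_of_mul_eq_one_right hx
  have hyinv : y⁻¹ = y := inv_eq_of_mul_eq_one_right hy
  obtain ⟨j, hj, hnj⟩ := (Nat.dvd_prime_pow Nat.prime_two).1 hn4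
  have hn : orderOf (x * y) = 4 := by
    interval_cases j
    · exfalso
      rw [pow_zero, orderOf_eq_one_iff] at hnj
      apply hxy
      have : y = x⁻¹ := (inv_eq_of_mul_eq_one_right hnj).symm
      rw [this, mul_inv_cancel, inv_mul_cancel]
    · exfalso
      rw [pow_one] at hnj
      have h2 : (x * y) ^ 2 = 1 := by rw [← hnj]; exact pow_orderOf_eq_one _
      rw [sq] at h2
      apply hxy
      have : x * y = (x * y)⁻¹ := (inv_eq_of_mul_eq_one_right h2).symm
      rw [this, mul_inv_rev, hxinv, hyinv]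
    · rw [hnj]; norm_num
  have htop : Subgroup.closure ({x, y} : Set G) = ⊤ := by
    apply Subgroup.eq_top_of_card_eq
    rw [hcardH, hn, hcard]
  rw [hn] at e
  exact ⟨(Subgroup.topEquiv.symm.trans (MulEquiv.subgroupCongr htop.symm)).trans e⟩

/-- Let L be a finite non-abelian simple group with an involution z whose centralizer R is a Sylow 2-subgroup of L whose Frattini subgroup is the subgroup generated by z. Then R is dihedral of order 8. -/
theorem result {L : Type*} [Group L] [Finite L] [IsSimpleGroup L] (hL : ¬ IsMulCommutative L) (z : L) (hz : orderOf z = 2) (R : Sylow 2 L) (hR : (R : Subgroup L) = Subgroup.centralizer ({z} : Set L)) (hΦ : (frattini ↥(R : Subgroup L)).map (R : Subgroup L).subtype = Subgroup.zpowers z) : Nonempty (↥(R : Subgroup L) ≃* DihedralGroup 4) := by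
  classical
  have h := mkCtx z hz R hR hΦ
  obtain ⟨g, hne, hzt⟩ := exists_conj hL z hz
  set t := g * z * g⁻¹ with ht
  have ht2 : t * t = 1 := Cfsg.Agent.Lib.H6.conj_mul_self h.z2 g
  have ht1 : t ≠ 1 := by
    intro h1
    apply h.z1
    calc z = g⁻¹ * t * g := by rw [ht]; group
      _ = 1 := by rw [h1]; group
  have htz : t * z = z * t := hzt.symm
  have htR : t ∈ (R : Subgroup L) := (h.memR t).2 htz
  have hzc : ∀ a ∈ (R : Subgroup L), a * z = z * a := fun a ha => (h.memR a).1 ha
  have hzR : z ∈ (R : Subgroup L) := (h.memR z).2 rfl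
  -- noncommuting elements of `R` have commutator `z`
  have hnc : ∀ a ∈ (R : Subgroup L), ∀ b ∈ (R : Subgroup L), a * b ≠ b * a →
      a * b = z * b * a := by
    intro a ha b hb hab
    rcases h.comm a ha b hb with h1 | h1
    · exfalso
      apply hab
      calc a * b = (a * b * a⁻¹ * b⁻¹) * b * a := by group
        _ = b * a := by rw [h1, one_mul]
    · calc a * b = (a * b * a⁻¹ * b⁻¹) * b * a := by group
        _ = z * b * a := by rw [h1]
  -- `t` is not central in `R`
  have hex : ∃ r ∈ (R : Subgroup L), r * t ≠ t * r := by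
    by_contra hno
    push Not at hno
    exact no_central_involution hL z hz R hR hΦ t htR ht2 ht1 hne hno
  obtain ⟨r, hrR, hrt⟩ := hex
  -- an involution of `R` not commuting with `t`
  obtain ⟨x, hxR, hx2, hxt⟩ : ∃ x ∈ (R : Subgroup L), x * x = 1 ∧ x * t ≠ t * x := by
    rcases h.sq r hrR with h1 | h1
    · exact ⟨r, hrR, h1, hrt⟩
    · refine ⟨r * t, (R : Subgroup L).mul_mem hrR htR, ?_, ?_⟩
      · have e1 := hnc r hrR t htR hrt
        calc r * t * (r * t) = (r * t) * r * t := by group
          _ = (z * t * r) * r * t := by rw [e1]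
          _ = z * t * (r * r) * t := by group
          _ = z * t * z * t := by rw [h1]
          _ = z * (t * z) * t := by group
          _ = z * (z * t) * t := by rw [htz]
          _ = (z * z) * (t * t) := by group
          _ = 1 := by rw [h.z2, ht2, one_mul]
      · intro hc
        apply hrt
        calc r * t = (r * t * t) * t⁻¹ := by group
          _ = t * (r * t) * t⁻¹ := by rw [hc]
          _ = t * r := by group
  have hxt' : x * t = z * t * x := hnc x hxR t htR hxt
  have htx' : t * x = z * x * t := hnc t htR x hxR (fun hc => hxt hc.symm)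
  have hxz : x * z = z * x := hzc x hxR
  -- for `b ∈ R` not commuting with `t`, `x * b` commutes with `t`
  have hxb : ∀ b ∈ (R : Subgroup L), b * t ≠ t * b → (x * b) * t = t * (x * b) := by
    intro b hb hbt
    have e1 := hnc b hb t htR hbt
    calc x * b * t = x * (b * t) := by group
      _ = x * (z * t * b) := by rw [e1]
      _ = (x * z) * t * b := by group
      _ = (z * x) * t * b := by rw [hxz]
      _ = z * (x * t) * b := by group
      _ = z * (z * t * x) * b := by rw [hxt']
      _ = (z * z) * t * x * b := by group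
      _ = t * (x * b) := by rw [h.z2]; group
  -- elements of `R` commuting with `t` and `x` are `1` or `z`
  have hP1 : ∀ a ∈ (R : Subgroup L), a * t = t * a → a * x = x * a → a = 1 ∨ a = z := by
    intro a ha hat hax
    by_contra hcon
    push Not at hcon
    have ha2 : a * a = 1 := h.sq_eq_one g hne ha hat
    refine no_central_involution hL z hz R hR hΦ a ha ha2 hcon.1 hcon.2 ?_
    intro b hb
    by_cases hbt : b * t = t * b
    · exact h.comm_of g hne hb hbt ha hat
    · have e1 : (x * b) * a = a * (x * b) :=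
        h.comm_of g hne ((R : Subgroup L).mul_mem hxR hb) (hxb b hb hbt) ha hat
      calc b * a = x⁻¹ * ((x * b) * a) := by group
        _ = x⁻¹ * (a * (x * b)) := by rw [e1]
        _ = x⁻¹ * ((a * x) * b) := by group
        _ = x⁻¹ * ((x * a) * b) := by rw [hax]
        _ = a * b := by group
  have hxinv : x⁻¹ = x := inv_eq_of_mul_eq_one_right hx2
  have htinv : t⁻¹ = t := inv_eq_of_mul_eq_one_right ht2
  -- elements of `R` commuting with `t`
  have hP2 : ∀ a ∈ (R : Subgroup L), a * t = t * a → a = 1 ∨ a = z ∨ a = t ∨ a = t * z := by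
    intro a ha hat
    by_cases hax : a * x = x * a
    · rcases hP1 a ha hat hax with h1 | h1
      · left; exact h1
      · right; left; exact h1
    · have e1 := hnc a ha x hxR hax
      have hatR : a * t ∈ (R : Subgroup L) := (R : Subgroup L).mul_mem ha htR
      have hatt : (a * t) * t = t * (a * t) :=
        (congrArg (· * t) hat).trans (mul_assoc _ _ _)
      have hatx : (a * t) * x = x * (a * t) := by
        calc a * t * x = a * (t * x) := by group
          _ = a * (z * x * t) := by rw [htx']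
          _ = (a * z) * x * t := by group
          _ = (z * a) * x * t := by rw [hzc a ha]
          _ = z * (a * x) * t := by group
          _ = z * (z * x * a) * t := by rw [e1]
          _ = (z * z) * x * a * t := by group
          _ = x * (a * t) := by rw [h.z2]; group
      rcases hP1 (a * t) hatR hatt hatx with h1 | h1
      · right; right; left
        calc a = (a * t) * t⁻¹ := by group
          _ = t := by rw [h1, htinv, one_mul]
      · right; right; right
        calc a = (a * t) * t⁻¹ := by group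
          _ = z * t := by rw [h1, htinv]
          _ = t * z := htz.symm
  have hP3 : ∀ a ∈ (R : Subgroup L),
      a ∈ ([1, z, t, t * z, x, x * z, x * t, x * (t * z)] : List L) := by
    intro a ha
    simp only [List.mem_cons, List.mem_nil_iff, or_false]
    by_cases hat : a * t = t * a
    · rcases hP2 a ha hat with h1 | h1 | h1 | h1
      · left; exact h1
      · right; left; exact h1
      · right; right; left; exact h1
      · right; right; right; left; exact h1
    · have e0 : a = x * (x * a) := by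
        calc a = (x * x) * a := by rw [hx2, one_mul]
          _ = x * (x * a) := by group
      rcases hP2 (x * a) ((R : Subgroup L).mul_mem hxR ha) (hxb a ha hat) with h1 | h1 | h1 | h1
      · right; right; right; right; left
        rw [e0, h1, mul_one]
      · right; right; right; right; right; left
        rw [e0, h1]
      · right; right; right; right; right; right; left
        rw [e0, h1]
      · right; right; right; right; right; right; right
        rw [e0, h1]
  -- the order of `R` is at most `8`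
  have hle : Nat.card ↥(R : Subgroup L) ≤ 8 := by
    have hsub : ((R : Subgroup L) : Set L) ⊆
        ↑([1, z, t, t * z, x, x * z, x * t, x * (t * z)] : List L).toFinset := by
      intro a ha
      rw [Finset.mem_coe, List.mem_toFinset]
      exact hP3 a ha
    have h1 := Set.ncard_le_ncard hsub (Finset.finite_toSet _)
    rw [Set.ncard_coe_finset] at h1
    have h2 := List.toFinset_card_le ([1, z, t, t * z, x, x * z, x * t, x * (t * z)] : List L)
    have h3 : Nat.card ↥(R : Subgroup L) = ((R : Subgroup L) : Set L).ncard := rfl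
    rw [h3]
    exact h1.trans (h2.trans (by simp))
  have hnab : (⟨x, hxR⟩ : ↥(R : Subgroup L)) * ⟨t, htR⟩ ≠ ⟨t, htR⟩ * ⟨x, hxR⟩ := by
    intro hc
    exact hxt (congrArg Subtype.val hc)
  have hcard : Nat.card ↥(R : Subgroup L) = 8 := by
    obtain ⟨k, hk⟩ := IsPGroup.iff_card.mp R.2
    have hk3 : k ≤ 3 := by
      by_contra hk3
      push Not at hk3
      have : 2 ^ 4 ≤ 2 ^ k := Nat.pow_le_pow_right (by norm_num) hk3
      omega
    interval_cases k
    · exfalso
      have : Subsingleton ↥(R : Subgroup L) := by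
        rw [← Finite.card_le_one_iff_subsingleton, hk]; norm_num
      exact hnab (Subsingleton.elim _ _)
    · exfalso
      have : Fact (Nat.Prime 2) := ⟨Nat.prime_two⟩
      have hc : IsCyclic ↥(R : Subgroup L) := isCyclic_of_prime_card (p := 2) (by rw [hk]; norm_num)
      let _ := IsCyclic.commGroup (α := ↥(R : Subgroup L))
      exact hnab (mul_comm _ _)
    · exfalso
      have : Fact (Nat.Prime 2) := ⟨Nat.prime_two⟩
      have hcm : IsMulCommutative ↥(R : Subgroup L) :=
        IsPGroup.isMulCommutative_of_card_eq_prime_sq (p := 2) hk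
      exact hnab (hcm.is_comm.comm _ _)
    · rw [hk]; norm_num
  exact dihedral_of_two_inv hcard (x := ⟨x, hxR⟩) (y := ⟨t, htR⟩) (Subtype.ext hx2)
    (Subtype.ext ht2) hnab

end Cfsg.Agent.S5435
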