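import Cfsg.Statements.S5436
import Cfsg.Agent.S1265
import Cfsg.Agent.Lib.H1.NilpotentBasic

set_option autoImplicit false
open Cfsg

namespace Cfsg.Agent.S5436


open scoped commutatorElement

variable {G : Type*} [Group G]

theorem mem_zpowers_two {z w : G} (hz : orderOf z = 2) (hw : w ∈ Subgroup.zpowers z) :
    w = 1 ∨ w = z := by
  obtain ⟨k, rfl⟩ := Subgroup.mem_zpowers_iff.1 hw
  have h2 : z ^ (k % 2) = z ^ k := by
    have := zpow_mod_orderOf z k
    rwa [hz] at this
  rcases Int.emod_two_eq_zero_or_one k with h0 | h0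
  · rw [h0, zpow_zero] at h2
    left; exact h2.symm
  · rw [h0, zpow_one] at h2
    right; exact h2.symm

/-- The working context: `Q` is a `2`-subgroup containing the involution `z`, centralizing `z`,
self-centralizing in `G`, with centre `{1, z}` and commutators in `{1, z}`, normalized by `C(z)`. -/
structure Ctx (z : G) (Q : Subgroup G) : Prop where
  z2 : z * z = 1
  z1 : z ≠ 1
  zQ : z ∈ Q
  QH : ∀ q ∈ Q, q * z = z * q
  two : IsPGroup 2 Q
  cent : ∀ g, (∀ q ∈ Q, g * q = q * g) → g ∈ Q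
  center : ∀ x ∈ Q, (∀ q ∈ Q, q * x = x * q) → x = 1 ∨ x = z
  comm : ∀ x ∈ Q, ∀ q ∈ Q, q * x = x * q ∨ q * x * q⁻¹ = z * x
  normH : ∀ h, h * z = z * h → ∀ q ∈ Q, h * q * h⁻¹ ∈ Q

namespace Ctx

variable {z : G} {Q : Subgroup G}

/-- An element of `Q` lying in a subgroup of odd order is trivial. -/
theorem eq_one_of_odd (h : Ctx z Q) [Finite G] {N : Subgroup G} (hN : Odd (Nat.card N)) {x : G}
    (hxN : x ∈ N) (hxQ : x ∈ Q) : x = 1 := by
  obtain ⟨k, hk⟩ := h.two ⟨x, hxQ⟩
  have h1 : x ^ 2 ^ k = 1 := by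
    have := congrArg Subtype.val hk
    simpa using this
  have h2 : orderOf x ∣ 2 ^ k := orderOf_dvd_of_pow_eq_one h1
  have h3 : orderOf x ∣ Nat.card N := by
    have := orderOf_dvd_natCard (⟨x, hxN⟩ : N)
    rwa [Subgroup.orderOf_mk] at this
  have hcop : Nat.Coprime (2 ^ k) (Nat.card N) :=
    Nat.Coprime.pow_left k (Nat.coprime_two_left.mpr hN)
  have : orderOf x = 1 := Nat.eq_one_of_dvd_coprimes hcop h2 h3
  exact orderOf_eq_one_iff.mp this

/-- A normal subgroup of odd order is trivial. -/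
theorem odd_normal_eq_bot (h : Ctx z Q) [Finite G] {N : Subgroup G} [hNn : N.Normal]
    (hN : Odd (Nat.card N)) {t : G} (htQ : t ∈ Q) (ht1 : t ≠ 1) (htz : t ≠ z)
    (g : G) (htg : t = g * z * g⁻¹) : N = ⊥ := by
  have hzinv : z⁻¹ = z := inv_eq_of_mul_eq_one_right h.z2
  -- `C_N(z) = 1`
  have hfix : ∀ d ∈ N, d * z = z * d → d = 1 := by
    intro d hdN hdz
    have hdQ : d ∈ Q := by
      apply h.cent
      intro q hq
      have hc : d * q * d⁻¹ * q⁻¹ = 1 := by
        apply h.eq_one_of_odd hN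
        · have : d * q * d⁻¹ * q⁻¹ = d * (q * d⁻¹ * q⁻¹) := by group
          rw [this]
          exact N.mul_mem hdN (hNn.conj_mem _ (N.inv_mem hdN) q)
        · exact Q.mul_mem (h.normH d hdz q hq) (Q.inv_mem hq)
      calc d * q = (d * q * d⁻¹ * q⁻¹) * q * d := by group
        _ = q * d := by rw [hc, one_mul]
    exact h.eq_one_of_odd hN hdN hdQ
  -- `z` inverts `N`
  have hinv : ∀ n ∈ N, z * n * z⁻¹ = n⁻¹ := by
    let φ : ↥N →* ↥N := (MulAut.conjNormal z : MulAut N).toMonoidHom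
    have hφ : ∀ n : ↥N, ((φ n : ↥N) : G) = z * n * z⁻¹ := fun n => MulAut.conjNormal_apply z n
    have hfpf : MonoidHom.FixedPointFree φ := by
      intro n hn
      have h1 : z * (n : G) * z⁻¹ = n := by rw [← hφ n, hn]
      have h2 : (n : G) * z = z * n := by
        calc (n : G) * z = (z * n * z⁻¹) * z := by rw [h1]
          _ = z * n := by group
      exact Subtype.ext (hfix n n.2 h2)
    have hinvol : Function.Involutive φ := by
      intro n
      apply Subtype.ext
      rw [hφ, hφ, hzinv]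
      calc z * (z * (n : G) * z) * z = (z * z) * n * (z * z) := by group
        _ = n := by rw [h.z2, one_mul, mul_one]
    have := MonoidHom.FixedPointFree.coe_eq_inv_of_involutive hfpf hinvol
    intro n hn
    have h1 := congrFun this ⟨n, hn⟩
    have h2 := congrArg Subtype.val h1
    rw [hφ] at h2
    simpa using h2
  -- `t` inverts `N`
  have hinvt : ∀ n ∈ N, t * n * t⁻¹ = n⁻¹ := by
    intro n hn
    have h1 : g⁻¹ * n * g ∈ N := by
      have := hNn.conj_mem n hn g⁻¹
      simpa using this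
    have h2 := hinv _ h1
    calc t * n * t⁻¹ = g * (z * (g⁻¹ * n * g) * z⁻¹) * g⁻¹ := by rw [htg]; group
      _ = g * (g⁻¹ * n * g)⁻¹ * g⁻¹ := by rw [h2]
      _ = n⁻¹ := by group
  -- `z * t` centralizes `N`
  have hcen : ∀ n ∈ N, (z * t) * n * (z * t)⁻¹ = n := by
    intro n hn
    calc (z * t) * n * (z * t)⁻¹ = z * (t * n * t⁻¹) * z⁻¹ := by group
      _ = z * n⁻¹ * z⁻¹ := by rw [hinvt n hn]
      _ = (n⁻¹)⁻¹ := hinv _ (N.inv_mem hn)
      _ = n := inv_inv n
  -- `t` is conjugate in `Q` to `z * t`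
  obtain ⟨q, hqQ, hqt⟩ : ∃ q ∈ Q, q * t * q⁻¹ = z * t := by
    by_contra hno
    push Not at hno
    have : t = 1 ∨ t = z := by
      apply h.center t htQ
      intro q hq
      rcases h.comm t htQ q hq with h1 | h1
      · exact h1
      · exact absurd h1 (hno q hq)
    rcases this with h1 | h1
    · exact ht1 h1
    · exact htz h1
  -- so `t` centralizes `N`
  have hcent : ∀ n ∈ N, t * n * t⁻¹ = n := by
    intro n hn
    have h1 : q * n * q⁻¹ ∈ N := hNn.conj_mem n hn q
    have h2 := hcen _ h1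
    calc t * n * t⁻¹ = q⁻¹ * ((q * t * q⁻¹) * (q * n * q⁻¹) * (q * t * q⁻¹)⁻¹) * q := by group
      _ = q⁻¹ * (q * n * q⁻¹) * q := by rw [hqt, h2]
      _ = n := by group
  rw [eq_bot_iff]
  intro n hn
  rw [Subgroup.mem_bot]
  have h1 : n⁻¹ = n := by rw [← hinvt n hn, hcent n hn]
  have h2 : n ^ 2 = 1 := by
    rw [sq]
    calc n * n = n⁻¹ * n := by rw [h1]
      _ = 1 := inv_mul_cancel n
  have h3 : orderOf n ∣ 2 := orderOf_dvd_of_pow_eq_one h2
  have h4 : orderOf n ∣ Nat.card N := by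
    have := orderOf_dvd_natCard (⟨n, hn⟩ : N)
    rwa [Subgroup.orderOf_mk] at this
  have : orderOf n = 1 :=
    Nat.eq_one_of_dvd_coprimes (Nat.coprime_two_left.mpr hN) h3 h4
  exact orderOf_eq_one_iff.mp this

end Ctx


theorem mem_smul_iff (g x : G) (P : Sylow 2 G) :
    x ∈ ((g • P : Sylow 2 G) : Subgroup G) ↔ g⁻¹ * x * g ∈ (P : Subgroup G) := by
  rw [Sylow.coe_subgroup_smul, Subgroup.mem_pointwise_smul_iff_inv_smul_mem]
  simp [MulAut.smul_def, mul_assoc]

namespace Ctx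

variable {z : G} {Q : Subgroup G}

/-- A nontrivial element centralizing a subgroup containing `Q` is `z`. -/
theorem eq_z_of_central (h : Ctx z Q) {S : Subgroup G} (hQS : Q ≤ S) {c : G}
    (hc : ∀ s ∈ S, s * c = c * s) (hc1 : c ≠ 1) : c = z := by
  have hcQ : c ∈ Q := h.cent c (fun q hq => (hc q (hQS hq)).symm)
  rcases h.center c hcQ (fun q hq => hc q (hQS hq)) with h1 | h1
  · exact absurd h1 hc1
  · exact h1

/-- `z` is central in every Sylow 2-subgroup containing `Q`. -/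
theorem z_central (h : Ctx z Q) [Finite G] (S : Sylow 2 G) (hQS : Q ≤ S) :
    ∀ s ∈ (S : Subgroup G), s * z = z * s := by
  have : Nontrivial ↥(S : Subgroup G) :=
    ⟨⟨⟨z, hQS h.zQ⟩, 1, fun hh => h.z1 (congrArg Subtype.val hh)⟩⟩
  have hnt : Nontrivial (Subgroup.center ↥(S : Subgroup G)) := S.2.center_nontrivial
  obtain ⟨c, hc1⟩ := exists_ne (1 : Subgroup.center ↥(S : Subgroup G))
  have hcc : ∀ s ∈ (S : Subgroup G), s * ((c : ↥(S : Subgroup G)) : G) = ((c : ↥(S : Subgroup G)) : G) * s := by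
    intro s hs
    have := Subgroup.mem_center_iff.mp c.2 ⟨s, hs⟩
    exact congrArg Subtype.val this
  have hne : ((c : ↥(S : Subgroup G)) : G) ≠ 1 := by
    intro hh
    apply hc1
    apply Subtype.ext
    apply Subtype.ext
    exact hh
  have hcz := h.eq_z_of_central hQS hcc hne
  rw [hcz] at hcc
  exact hcc

/-- the normalizer of a Sylow 2-subgroup containing `Q` centralizes `z` -/
theorem normalizer_le (h : Ctx z Q) [Finite G] (S : Sylow 2 G) (hQS : Q ≤ S) {g : G}
    (hg : g ∈ Subgroup.normalizer ((S : Subgroup G) : Set G)) : g * z = z * g := by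
  have hzc := h.z_central S hQS
  have hcc : ∀ s ∈ (S : Subgroup G), s * (g * z * g⁻¹) = (g * z * g⁻¹) * s := by
    intro s hs
    have h1 : g⁻¹ * s * g ∈ (S : Subgroup G) := by
      exact (Subgroup.mem_normalizer_iff''.mp hg s).mp hs
    have h2 := hzc _ h1
    calc s * (g * z * g⁻¹) = g * ((g⁻¹ * s * g) * z) * g⁻¹ := by group
      _ = g * (z * (g⁻¹ * s * g)) * g⁻¹ := by rw [h2]
      _ = (g * z * g⁻¹) * s := by group
  have hne : g * z * g⁻¹ ≠ 1 := by
    intro hh
    apply h.z1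
    calc z = g⁻¹ * (g * z * g⁻¹) * g := by group
      _ = 1 := by rw [hh]; group
  have := h.eq_z_of_central hQS hcc hne
  calc g * z = (g * z * g⁻¹) * g := by group
    _ = z * g := by rw [this]

/-- `z` lies in every nontrivial normal subgroup. -/
theorem z_mem_normal (h : Ctx z Q) [Finite G] {t : G} (htQ : t ∈ Q) (ht1 : t ≠ 1) (htz : t ≠ z)
    (g : G) (htg : t = g * z * g⁻¹) (N : Subgroup G) [hNn : N.Normal] (hN : N ≠ ⊥) : z ∈ N := by
  have heven : ¬ Odd (Nat.card N) := fun ho => hN (h.odd_normal_eq_bot ho htQ ht1 htz g htg)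
  rw [Nat.not_odd_iff_even] at heven
  obtain ⟨u, hu⟩ := exists_prime_orderOf_dvd_card' 2 heven.two_dvd
  obtain ⟨S, hQS⟩ := h.two.exists_le_sylow
  have hup : IsPGroup 2 (Subgroup.zpowers (u : G)) := by
    apply IsPGroup.of_card (n := 1)
    rw [Nat.card_zpowers, Subgroup.orderOf_coe, hu, pow_one]
  obtain ⟨P, hP⟩ := hup.exists_le_sylow
  obtain ⟨a, ha⟩ := MulAction.exists_smul_eq G P S
  have hvS : a * (u : G) * a⁻¹ ∈ (S : Subgroup G) := by
    rw [← ha, mem_smul_iff]
    have : a⁻¹ * (a * (u : G) * a⁻¹) * a = u := by group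
    rw [this]
    exact hP (Subgroup.mem_zpowers _)
  have hvN : a * (u : G) * a⁻¹ ∈ N := hNn.conj_mem _ u.2 a
  have hv1 : a * (u : G) * a⁻¹ ≠ 1 := by
    intro hh
    have h1 : (u : G) = 1 := by
      calc (u : G) = a⁻¹ * (a * (u : G) * a⁻¹) * a := by group
        _ = 1 := by rw [hh]; group
    have h2 : orderOf (u : G) = 2 := by rw [Subgroup.orderOf_coe, hu]
    rw [h1, orderOf_one] at h2
    omega
  have hnil : Group.IsNilpotent ↥(S : Subgroup G) := S.2.isNilpotent
  have hKn : (N.subgroupOf (S : Subgroup G)).Normal := hNn.subgroupOf _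
  have hKne : N.subgroupOf (S : Subgroup G) ≠ ⊥ := by
    intro hh
    have : (⟨a * (u : G) * a⁻¹, hvS⟩ : ↥(S : Subgroup G)) ∈ N.subgroupOf (S : Subgroup G) :=
      Subgroup.mem_subgroupOf.mpr hvN
    rw [hh, Subgroup.mem_bot] at this
    exact hv1 (congrArg Subtype.val this)
  have hne := Cfsg.Agent.Lib.H1.normal_inf_center_ne_bot (N.subgroupOf (S : Subgroup G)) hKne
  obtain ⟨⟨c, hc⟩, hc1⟩ := (Subgroup.ne_bot_iff_exists_ne_one).mp hne
  have hcN : (c : G) ∈ N := Subgroup.mem_subgroupOf.mp hc.1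
  have hcc : ∀ s ∈ (S : Subgroup G), s * (c : G) = (c : G) * s := by
    intro s hs
    have := Subgroup.mem_center_iff.mp hc.2 ⟨s, hs⟩
    exact congrArg Subtype.val this
  have hcne : (c : G) ≠ 1 := by
    intro hh
    apply hc1
    apply Subtype.ext
    apply Subtype.ext
    exact hh
  have := h.eq_z_of_central hQS hcc hcne
  rw [← this]
  exact hcN

end Ctx


/-- Building the context from the hypotheses of the statement. -/
theorem mkCtx [Finite G] (z : G) (hz : orderOf z = 2) (H : Subgroup G)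
    (hcomm_H : ∀ x : G, x ∈ H ↔ x * z = z * x)
    (Q : Subgroup H) [hQn : Q.Normal]
    (hF : Cfsg.generalizedFittingSubgroup ↥H = Q)
    (hQ : Cfsg.IsExtraspecial 2 ↥Q) :
    Ctx z (Q.map H.subtype) := by
  have hz2 : z * z = 1 := by rw [← sq, ← hz, pow_orderOf_eq_one]
  have hz1 : z ≠ 1 := by intro h; rw [h, orderOf_one] at hz; omega
  have hzH : z ∈ H := (hcomm_H z).mpr rfl
  have hCQ : Subgroup.centralizer (Q : Set ↥H) ≤ Q := by
    have := Cfsg.Agent.S1265.result (G := ↥H)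
    rwa [hF] at this
  have hmemQ' : ∀ x : G, x ∈ Q.map H.subtype ↔ ∃ hx : x ∈ H, (⟨x, hx⟩ : ↥H) ∈ Q := by
    intro x
    constructor
    · rintro ⟨y, hy, rfl⟩
      exact ⟨y.2, hy⟩
    · rintro ⟨hx, hxQ⟩
      exact ⟨⟨x, hx⟩, hxQ, rfl⟩
  -- `z ∈ Q`
  have hzQ : (⟨z, hzH⟩ : ↥H) ∈ Q := by
    apply hCQ
    rw [Subgroup.mem_centralizer_iff]
    intro y _
    apply Subtype.ext
    exact ((hcomm_H y).mp y.2)
  -- the centre of `Q`
  have hcard : Nat.card (Subgroup.center ↥Q) = 2 := hQ.2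
  have hzc : (⟨⟨z, hzH⟩, hzQ⟩ : ↥Q) ∈ Subgroup.center ↥Q := by
    rw [Subgroup.mem_center_iff]
    intro y
    apply Subtype.ext
    apply Subtype.ext
    exact (hcomm_H y).mp y.1.2
  have hoz : orderOf (⟨⟨z, hzH⟩, hzQ⟩ : ↥Q) = 2 := by
    rw [← hz]
    have h1 : orderOf ((⟨⟨z, hzH⟩, hzQ⟩ : ↥Q) : ↥H) = orderOf (⟨⟨z, hzH⟩, hzQ⟩ : ↥Q) :=
      Subgroup.orderOf_coe _
    have h2 : orderOf ((⟨z, hzH⟩ : ↥H) : G) = orderOf (⟨z, hzH⟩ : ↥H) := Subgroup.orderOf_coe _
    rw [← h1, ← h2]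
  have hcenter : ∀ y : ↥Q, y ∈ Subgroup.center ↥Q → y = 1 ∨ y = ⟨⟨z, hzH⟩, hzQ⟩ := by
    intro y hy
    have hle : Subgroup.zpowers (⟨⟨z, hzH⟩, hzQ⟩ : ↥Q) ≤ Subgroup.center ↥Q := by
      rw [Subgroup.zpowers_le]; exact hzc
    have heq : Subgroup.zpowers (⟨⟨z, hzH⟩, hzQ⟩ : ↥Q) = Subgroup.center ↥Q := by
      apply Subgroup.eq_of_le_of_card_ge hle
      rw [hcard, Nat.card_zpowers, hoz]
    rw [← heq] at hy
    exact mem_zpowers_two hoz hy
  refine ⟨hz2, hz1, (hmemQ' z).mpr ⟨hzH, hzQ⟩, ?_, ?_, ?_, ?_, ?_, ?_⟩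
  · intro q hq
    obtain ⟨hqH, -⟩ := (hmemQ' q).mp hq
    exact (hcomm_H q).mp hqH
  · exact hQ.1.1.map _
  · intro g hg
    have hgH : g ∈ H := by
      rw [hcomm_H]
      exact hg z ((hmemQ' z).mpr ⟨hzH, hzQ⟩)
    rw [hmemQ']
    refine ⟨hgH, hCQ ?_⟩
    rw [Subgroup.mem_centralizer_iff]
    intro y hy
    apply Subtype.ext
    have := hg y ((hmemQ' y).mpr ⟨y.2, hy⟩)
    exact this.symm
  · intro x hx hxc
    obtain ⟨hxH, hxQ⟩ := (hmemQ' x).mp hx
    have : (⟨⟨x, hxH⟩, hxQ⟩ : ↥Q) ∈ Subgroup.center ↥Q := by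
      rw [Subgroup.mem_center_iff]
      intro y
      apply Subtype.ext
      apply Subtype.ext
      exact hxc y ((hmemQ' y).mpr ⟨y.1.2, y.2⟩)
    rcases hcenter _ this with h1 | h1
    · left
      exact congrArg (fun w : ↥Q => ((w : ↥H) : G)) h1
    · right
      exact congrArg (fun w : ↥Q => ((w : ↥H) : G)) h1
  · intro x hx q hq
    obtain ⟨hxH, hxQ⟩ := (hmemQ' x).mp hx
    obtain ⟨hqH, hqQ⟩ := (hmemQ' q).mp hq
    have hmem : ⁅(⟨⟨q, hqH⟩, hqQ⟩ : ↥Q), ⟨⟨x, hxH⟩, hxQ⟩⁆ ∈ commutator ↥Q :=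
      Subgroup.commutator_mem_commutator (Subgroup.mem_top _) (Subgroup.mem_top _)
    rw [hQ.1.2.2] at hmem
    rcases hcenter _ hmem with h1 | h1
    · left
      have h2 : q * x * q⁻¹ * x⁻¹ = 1 := by
        have := congrArg (fun w : ↥Q => ((w : ↥H) : G)) h1
        simpa [commutatorElement_def] using this
      calc q * x = (q * x * q⁻¹ * x⁻¹) * x * q := by group
        _ = x * q := by rw [h2, one_mul]
    · right
      have h2 : q * x * q⁻¹ * x⁻¹ = z := by
        have := congrArg (fun w : ↥Q => ((w : ↥H) : G)) h1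
        simpa [commutatorElement_def] using this
      calc q * x * q⁻¹ = (q * x * q⁻¹ * x⁻¹) * x := by group
        _ = z * x := by rw [h2]
  · intro h hh q hq
    have hhH : h ∈ H := (hcomm_H h).mpr hh
    obtain ⟨hqH, hqQ⟩ := (hmemQ' q).mp hq
    rw [hmemQ']
    refine ⟨H.mul_mem (H.mul_mem hhH hqH) (H.inv_mem hhH), ?_⟩
    have := hQn.conj_mem ⟨q, hqH⟩ hqQ ⟨h, hhH⟩
    exact this

/-- Let z be an involution of the finite group G with centralizer H whose generalized Fitting subgroup Q is extraspecial of width at least 2 (order 2^(2w+1), w ≥ 2); suppose some conjugate of z other than z lies in Q, H/Q is a non-abelian simple group, H acts irreducibly by conjugation on Q modulo the subgroup generated by z (the only H-invariant subgroups of Q containing z are that subgroup and Q), and Q is not the subgroup generated by the conjugates of z lying in H. Then G is simple. -/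
theorem result {G : Type*} [Group G] [Finite G] (z : G) (hz : orderOf z = 2) (Q : Subgroup (Subgroup.centralizer ({z} : Set G))) [Q.Normal] (hF : Cfsg.generalizedFittingSubgroup ↥(Subgroup.centralizer ({z} : Set G)) = Q) (hQ : Cfsg.IsExtraspecial 2 ↥Q) (w : ℕ) (hw : 2 ≤ w) (hcard : Nat.card ↥Q = 2 ^ (2 * w + 1)) (hnwc : ∃ g : G, (∃ hq : g * z * g⁻¹ ∈ Subgroup.centralizer ({z} : Set G), (⟨g * z * g⁻¹, hq⟩ : Subgroup.centralizer ({z} : Set G)) ∈ Q) ∧ g * z * g⁻¹ ≠ z) (hsimp : IsSimpleGroup (↥(Subgroup.centralizer ({z} : Set G)) ⧸ Q)) (hna : ¬ IsMulCommutative (↥(Subgroup.centralizer ({z} : Set G)) ⧸ Q)) (hirr : ∀ W : Subgroup (Subgroup.centralizer ({z} : Set G)), W.Normal → W ≤ Q → (W = Q ∨ ∀ x ∈ W, (x : G) ∈ Subgroup.zpowers z)) (hwcl : Subgroup.closure {x : Subgroup.centralizer ({z} : Set G) | IsConj z (x : G)} ≠ Q) : IsSimpleGroup G := by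
  classical
  have hp2 : Fact (Nat.Prime 2) := ⟨Nat.prime_two⟩
  have h := mkCtx z hz (Subgroup.centralizer ({z} : Set G))
    (fun x => Subgroup.mem_centralizer_singleton_iff) Q hF hQ
  obtain ⟨g, ⟨hgH, hgQ⟩, hgz⟩ := hnwc
  have htQ' : g * z * g⁻¹ ∈ Q.map (Subgroup.centralizer ({z} : Set G)).subtype :=
    ⟨⟨_, hgH⟩, hgQ, rfl⟩
  have ht1 : g * z * g⁻¹ ≠ 1 := by
    intro hh
    apply h.z1
    calc z = g⁻¹ * (g * z * g⁻¹) * g := by group
      _ = 1 := by rw [hh]; group
  have htnz : g * z * g⁻¹ ∉ Subgroup.zpowers z := by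
    intro hm
    rcases mem_zpowers_two hz hm with h1 | h1
    · exact ht1 h1
    · exact hgz h1
  refine { exists_pair_ne := ⟨z, 1, h.z1⟩, eq_bot_or_eq_top_of_normal := ?_ }
  intro N hNn
  by_cases hN : N = ⊥
  · left; exact hN
  right
  have hzN : z ∈ N := h.z_mem_normal htQ' ht1 hgz g rfl N hN
  have htN : g * z * g⁻¹ ∈ N := hNn.conj_mem z hzN g
  have hMn : (N.subgroupOf (Subgroup.centralizer ({z} : Set G))).Normal := hNn.subgroupOf _
  -- `Q ≤ N`
  have hQM : Q ≤ N.subgroupOf (Subgroup.centralizer ({z} : Set G)) := by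
    have hWn : (N.subgroupOf (Subgroup.centralizer ({z} : Set G)) ⊓ Q).Normal := inferInstance
    rcases hirr _ hWn inf_le_right with h1 | h1
    · rw [← h1]; exact inf_le_left
    · exfalso
      apply htnz
      exact h1 ⟨g * z * g⁻¹, hgH⟩ ⟨Subgroup.mem_subgroupOf.mpr htN, hgQ⟩
  have hmapn : ((N.subgroupOf (Subgroup.centralizer ({z} : Set G))).map
      (QuotientGroup.mk' Q)).Normal :=
    Subgroup.Normal.map hMn _ (QuotientGroup.mk'_surjective Q)
  rcases hsimp.eq_bot_or_eq_top_of_normal _ hmapn with hb | ht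
  · -- `N ∩ C(z) = Q`
    exfalso
    have hMQ : N.subgroupOf (Subgroup.centralizer ({z} : Set G)) ≤ Q := by
      intro m hm
      have : QuotientGroup.mk' Q m ∈
          (N.subgroupOf (Subgroup.centralizer ({z} : Set G))).map (QuotientGroup.mk' Q) :=
        ⟨m, hm, rfl⟩
      rw [hb, Subgroup.mem_bot] at this
      exact (QuotientGroup.eq_one_iff m).mp this
    have hClQ : Subgroup.closure {x : Subgroup.centralizer ({z} : Set G) | IsConj z (x : G)} ≤ Q := by
      rw [Subgroup.closure_le]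
      intro x hx
      obtain ⟨c, hc⟩ := isConj_iff.mp hx
      apply hMQ
      rw [Subgroup.mem_subgroupOf, ← hc]
      exact hNn.conj_mem z hzN c
    have hCln : (Subgroup.closure
        {x : Subgroup.centralizer ({z} : Set G) | IsConj z (x : G)}).Normal := by
      have heq : Subgroup.closure {x : Subgroup.centralizer ({z} : Set G) | IsConj z (x : G)} =
          Subgroup.normalClosure {x : Subgroup.centralizer ({z} : Set G) | IsConj z (x : G)} := by
        apply le_antisymm Subgroup.closure_le_normalClosure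
        unfold Subgroup.normalClosure
        apply Subgroup.closure_mono
        intro a ha
        obtain ⟨b, hb, hba⟩ := Group.mem_conjugatesOfSet_iff.mp ha
        obtain ⟨c, hc⟩ := isConj_iff.mp hba
        have hb' : IsConj z (b : G) := hb
        obtain ⟨d, hd⟩ := isConj_iff.mp hb'
        show IsConj z (a : G)
        rw [isConj_iff]
        refine ⟨(c : G) * d, ?_⟩
        rw [← hc]
        simp only [Subgroup.coe_mul, Subgroup.coe_inv]
        rw [← hd]
        group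
      rw [heq]
      exact Subgroup.normalClosure_normal
    rcases hirr _ hCln hClQ with h1 | h1
    · exact hwcl h1
    · apply htnz
      apply h1 ⟨g * z * g⁻¹, hgH⟩
      apply Subgroup.subset_closure
      show IsConj z (g * z * g⁻¹)
      exact isConj_iff.mpr ⟨g, rfl⟩
  · -- `C(z) ≤ N`
    have hHN : Subgroup.centralizer ({z} : Set G) ≤ N := by
      intro x hx
      have hmem : QuotientGroup.mk' Q ⟨x, hx⟩ ∈
          (N.subgroupOf (Subgroup.centralizer ({z} : Set G))).map (QuotientGroup.mk' Q) := by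
        rw [ht]; exact Subgroup.mem_top _
      obtain ⟨m, hm, hmx⟩ := hmem
      have h1 : m⁻¹ * ⟨x, hx⟩ ∈ Q := QuotientGroup.eq.mp hmx
      have h2 : (⟨x, hx⟩ : Subgroup.centralizer ({z} : Set G)) ∈
          N.subgroupOf (Subgroup.centralizer ({z} : Set G)) := by
        have := (N.subgroupOf (Subgroup.centralizer ({z} : Set G))).mul_mem hm (hQM h1)
        simpa using this
      exact Subgroup.mem_subgroupOf.mp h2
    obtain ⟨S, hQS⟩ := h.two.exists_le_sylow
    have hSH : (S : Subgroup G) ≤ Subgroup.centralizer ({z} : Set G) := fun s hs =>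
      Subgroup.mem_centralizer_singleton_iff.mpr (h.z_central S hQS s hs)
    have hSN : (S : Subgroup G) ≤ N := hSH.trans hHN
    have hfr := Sylow.normalizer_sup_eq_top' S hSN
    rw [eq_top_iff, ← hfr]
    apply sup_le _ le_rfl
    intro x hx
    exact hHN (Subgroup.mem_centralizer_singleton_iff.mpr (h.normalizer_le S hQS hx))

end Cfsg.Agent.S5436
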