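-- Statement S5437 (row 5437).
import Cfsg.Statements.S5437

set_option autoImplicit false
open Cfsg

namespace Cfsg.Agent.S5437

/-- the fixed-coset criterion -/
theorem smul_coset_eq_iff {G : Type*} [Group G] (H : Subgroup G) (x g : G) :
    x • (g : G ⧸ H) = (g : G ⧸ H) ↔ g⁻¹ * x * g ∈ H := by
  rw [MulAction.Quotient.smul_coe, QuotientGroup.eq]
  constructor
  · intro h
    have := H.inv_mem h
    simpa [mul_assoc] using this
  · intro h
    have := H.inv_mem h
    simpa [mul_assoc] using this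

theorem mem_conj_iff {G : Type*} [Group G] (H : Subgroup G) (g x : G) :
    x ∈ H.map (MulAut.conj g).toMonoidHom ↔ g⁻¹ * x * g ∈ H := by
  rw [Subgroup.mem_map]
  constructor
  · rintro ⟨y, hy, rfl⟩
    simpa [MulAut.conj_apply, mul_assoc] using hy
  · intro h
    exact ⟨g⁻¹ * x * g, h, by simp [MulAut.conj_apply, mul_assoc]⟩

theorem coset_eq_one_iff {G : Type*} [Group G] (H : Subgroup G) (g : G) :
    (g : G ⧸ H) = ((1 : G) : G ⧸ H) ↔ g ∈ H := by
  rw [QuotientGroup.eq]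
  constructor
  · intro h
    have := H.inv_mem h
    simpa using this
  · intro h
    simpa using H.inv_mem h

/-- For a conjugation-closed set `I` of involutions and `H ≤ G`: `H` controls fusion of `I ∩ H` and contains the centralizers, iff `I ∩ H ∩ H^g = ∅` for `g ∉ H`, iff each member of `I ∩ H` fixes a unique coset of `H`. -/
theorem result {G : Type*} [Group G] [Finite G] (I : Set G) (hI : ∀ x ∈ I, orderOf x = 2) (hIc : ∀ g : G, ∀ x ∈ I, g * x * g⁻¹ ∈ I) (H : Subgroup G) : ((∀ x ∈ I, x ∈ H → (∀ g : G, g * x * g⁻¹ ∈ H → ∃ h ∈ H, h * x * h⁻¹ = g * x * g⁻¹) ∧ Subgroup.centralizer ({x} : Set G) ≤ H) ↔ (∀ g : G, g ∉ H → ∀ x ∈ I, ¬ (x ∈ H ∧ x ∈ (H : Subgroup G).map (MulAut.conj g).toMonoidHom))) ∧ ((∀ g : G, g ∉ H → ∀ x ∈ I, ¬ (x ∈ H ∧ x ∈ (H : Subgroup G).map (MulAut.conj g).toMonoidHom)) ↔ ∀ x ∈ I, x ∈ H → ∃! c : G ⧸ H, x • c = c) := by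
  refine ⟨⟨?_, ?_⟩, ⟨?_, ?_⟩⟩
  · -- A → B
    intro hA g hg x hxI ⟨hxH, hxg⟩
    rw [mem_conj_iff] at hxg
    apply hg
    have hyI : g⁻¹ * x * g ∈ I := by
      have := hIc g⁻¹ x hxI
      simpa using this
    obtain ⟨hfus, hcen⟩ := hA _ hyI hxg
    have hgy : g * (g⁻¹ * x * g) * g⁻¹ = x := by group
    obtain ⟨h, hh, hheq⟩ := hfus g (by rw [hgy]; exact hxH)
    have hc : h⁻¹ * g ∈ Subgroup.centralizer ({g⁻¹ * x * g} : Set G) := by
      rw [Subgroup.mem_centralizer_iff]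
      intro y hy
      rw [Set.mem_singleton_iff] at hy
      subst hy
      have e1 : g⁻¹ * x * g = h⁻¹ * (h * (g⁻¹ * x * g) * h⁻¹) * h := by group
      rw [hheq, hgy] at e1
      -- e1 : g⁻¹ x g = h⁻¹ x h
      calc g⁻¹ * x * g * (h⁻¹ * g) = (h⁻¹ * x * h) * (h⁻¹ * g) := by rw [e1]
        _ = h⁻¹ * g * (g⁻¹ * x * g) := by group
    have := H.mul_mem hh (hcen hc)
    simpa using this
  · -- B → A
    intro hB x hxI hxH
    refine ⟨?_, ?_⟩
    · intro g hgx
      by_cases hg : g ∈ H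
      · exact ⟨g, hg, rfl⟩
      · exfalso
        apply hB g hg (g * x * g⁻¹) (hIc g x hxI)
        refine ⟨hgx, ?_⟩
        rw [mem_conj_iff]
        have : g⁻¹ * (g * x * g⁻¹) * g = x := by group
        rw [this]; exact hxH
    · intro c hc
      by_contra hcH
      apply hB c hcH x hxI
      refine ⟨hxH, ?_⟩
      rw [mem_conj_iff]
      rw [Subgroup.mem_centralizer_iff] at hc
      have h1 := hc x (Set.mem_singleton x)
      have : c⁻¹ * x * c = x := by
        calc c⁻¹ * x * c = c⁻¹ * (x * c) := by group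
          _ = c⁻¹ * (c * x) := by rw [h1]
          _ = x := by group
      rw [this]; exact hxH
  · -- B → C
    intro hB x hxI hxH
    refine ⟨((1 : G) : G ⧸ H), ?_, ?_⟩
    · show x • ((1 : G) : G ⧸ H) = ((1 : G) : G ⧸ H)
      rw [smul_coset_eq_iff]; simpa using hxH
    · intro c hc
      obtain ⟨g, rfl⟩ := QuotientGroup.mk_surjective c
      have hc' : x • ((g : G) : G ⧸ H) = ((g : G) : G ⧸ H) := hc
      rw [smul_coset_eq_iff] at hc'
      show ((g : G) : G ⧸ H) = ((1 : G) : G ⧸ H)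
      rw [coset_eq_one_iff]
      by_contra hg
      apply hB g hg x hxI
      exact ⟨hxH, (mem_conj_iff H g x).mpr hc'⟩
  · -- C → B
    intro hC g hg x hxI ⟨hxH, hxg⟩
    rw [mem_conj_iff] at hxg
    obtain ⟨c, _, huniq⟩ := hC x hxI hxH
    have h1 : x • ((1 : G) : G ⧸ H) = ((1 : G) : G ⧸ H) := by
      rw [smul_coset_eq_iff]; simpa using hxH
    have h2 : x • ((g : G) : G ⧸ H) = ((g : G) : G ⧸ H) := by
      rw [smul_coset_eq_iff]; exact hxg
    have := (huniq _ h2).trans (huniq _ h1).symm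
    rw [coset_eq_one_iff] at this
    exact hg this

end Cfsg.Agent.S5437
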