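import Mathlib
import Cfsg.Statements.S5438

set_option autoImplicit false
open Cfsg

namespace Cfsg.Agent.S5438

open scoped Pointwise

theorem mem_sylow_smul_iff {G : Type*} [Group G] {p : ℕ} (P : Sylow p G) (b t : G) :
    t ∈ b • P ↔ b⁻¹ * t * b ∈ P := by
  change t ∈ ((b • P : Sylow p G) : Subgroup G) ↔ _
  rw [Sylow.coe_subgroup_smul, Subgroup.mem_pointwise_smul_iff_inv_smul_mem, MulAut.smul_def]
  simp [MulAut.conj_apply]
  rfl

/-- A Sylow-type lemma phrased inside `G`: two `p`-subgroups of `K` can be put, after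
conjugating the first by an element of `K`, in a common `p`-subgroup of `K`. -/
theorem sylow_in_subgroup {G : Type*} [Group G] [Finite G] (p : ℕ) [Fact p.Prime]
    (K T₁ T₂ : Subgroup G) (h₁ : T₁ ≤ K) (h₂ : T₂ ≤ K) (hp₁ : IsPGroup p T₁)
    (hp₂ : IsPGroup p T₂) :
    ∃ c ∈ K, ∃ T : Subgroup G, IsPGroup p T ∧ T ≤ K ∧ T₂ ≤ T ∧ ∀ t ∈ T₁, c * t * c⁻¹ ∈ T := by
  have hp₁' : IsPGroup p (T₁.subgroupOf K) := hp₁.comap_subtype
  have hp₂' : IsPGroup p (T₂.subgroupOf K) := hp₂.comap_subtype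
  obtain ⟨Q₁, hQ₁⟩ := hp₁'.exists_le_sylow
  obtain ⟨Q₂, hQ₂⟩ := hp₂'.exists_le_sylow
  obtain ⟨c, hc⟩ := MulAction.exists_smul_eq K Q₁ Q₂
  refine ⟨c, c.2, (Q₂ : Subgroup K).map K.subtype, Q₂.2.map _, Subgroup.map_subtype_le _, ?_, ?_⟩
  · intro t ht
    exact ⟨⟨t, h₂ ht⟩, hQ₂ (Subgroup.mem_subgroupOf.mpr ht), rfl⟩
  · intro t ht
    have h1 : (⟨t, h₁ ht⟩ : K) ∈ Q₁ := hQ₁ (Subgroup.mem_subgroupOf.mpr ht)
    have h2 : c * ⟨t, h₁ ht⟩ * c⁻¹ ∈ Q₂ := by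
      rw [← hc, mem_sylow_smul_iff]
      have : c⁻¹ * (c * ⟨t, h₁ ht⟩ * c⁻¹) * c = ⟨t, h₁ ht⟩ := by group
      rw [this]; exact h1
    exact ⟨_, h2, rfl⟩

theorem result {G : Type*} [Group G] [Finite G] (z : G) (hz : Cfsg.IsTwoCentralInvolution z) (H : Subgroup G) (hzH : z ∈ H) (hfix : ∀ g : G, g⁻¹ * z * g ∈ H → g ∈ H) : Odd H.index ∧ ∀ x ∈ H, (∃ k : ℕ, orderOf x = 2 ^ k) → ∀ g : G, g * x * g⁻¹ ∈ H → ∃ h ∈ H, h * x * h⁻¹ = g * x * g⁻¹ := by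
  obtain ⟨hz2, P, hzP, hzc⟩ := hz
  haveI : Fact (Nat.Prime 2) := ⟨Nat.prime_two⟩
  have hPH : (P : Subgroup G) ≤ H := by
    intro x hx
    apply hfix
    have := hzc x hx
    have e : x⁻¹ * z * x = z := by
      rw [mul_assoc, ← this, inv_mul_cancel_left]
    rw [e]; exact hzH
  -- (a)
  have hA : ∀ T : Subgroup G, IsPGroup 2 T → ∀ a : G, a * z * a⁻¹ ∈ T →
      ∀ t ∈ T, a⁻¹ * t * a ∈ H := by
    intro T hT a ha t ht
    obtain ⟨Q, hTQ⟩ := hT.exists_le_sylow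
    obtain ⟨b, hb⟩ := MulAction.exists_smul_eq G P Q
    have hmem : ∀ s ∈ T, b⁻¹ * s * b ∈ H := by
      intro s hs
      have : s ∈ b • P := by rw [hb]; exact hTQ hs
      rw [mem_sylow_smul_iff] at this
      exact hPH this
    have hu : a⁻¹ * b ∈ H := by
      apply hfix
      have := hmem _ ha
      have e : (a⁻¹ * b)⁻¹ * z * (a⁻¹ * b) = b⁻¹ * (a * z * a⁻¹) * b := by group
      rw [e]; exact this
    have e : a⁻¹ * t * a = (a⁻¹ * b) * (b⁻¹ * t * b) * (a⁻¹ * b)⁻¹ := by group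
    rw [e]
    exact H.mul_mem (H.mul_mem hu (hmem t ht)) (H.inv_mem hu)
  -- (a')
  have hA' : ∀ T : Subgroup G, IsPGroup 2 T → ∀ a b : G, a * z * a⁻¹ ∈ T → b * z * b⁻¹ ∈ T →
      b⁻¹ * a ∈ H := by
    intro T hT a b ha hb
    apply hfix
    have := hA T hT a ha _ hb
    have e : (b⁻¹ * a)⁻¹ * z * (b⁻¹ * a) = a⁻¹ * (b * z * b⁻¹) * a := by group
    rw [e]; exact this
  -- zpowers of a 2-element is a 2-group
  have hzp : ∀ x : G, (∃ k : ℕ, orderOf x = 2 ^ k) → IsPGroup 2 (Subgroup.zpowers x) := by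
    rintro x ⟨k, hk⟩
    apply IsPGroup.of_card (n := k)
    rw [Nat.card_zpowers, hk]
  -- (b)
  have hB : ∀ x ∈ H, (∃ k : ℕ, orderOf x = 2 ^ k) →
      ∃ h ∈ H, x * (h * z * h⁻¹) = (h * z * h⁻¹) * x := by
    intro x hx hk
    obtain ⟨c, hc, T, hT, hTH, hPT, hcT⟩ := sylow_in_subgroup 2 H (Subgroup.zpowers x) P
      (by rw [Subgroup.zpowers_le]; exact hx) hPH (hzp x hk) P.2
    have hTP : T = P := (P.3 hT hPT)
    have h1 : c * x * c⁻¹ ∈ (P : Subgroup G) := by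
      rw [← hTP]; exact hcT x (Subgroup.mem_zpowers x)
    have h2 := hzc _ h1
    refine ⟨c⁻¹, H.inv_mem hc, ?_⟩
    calc x * (c⁻¹ * z * c⁻¹⁻¹) = c⁻¹ * ((c * x * c⁻¹) * z) * c := by group
      _ = c⁻¹ * (z * (c * x * c⁻¹)) * c := by rw [h2]
      _ = (c⁻¹ * z * c⁻¹⁻¹) * x := by group
  refine ⟨?_, ?_⟩
  · have h1 : H.index ∣ (P : Subgroup G).index := Subgroup.index_dvd_of_le hPH
    have h2 : ¬ 2 ∣ (P : Subgroup G).index := P.not_dvd_index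
    rw [← Nat.not_even_iff_odd, even_iff_two_dvd]
    intro h
    exact h2 (h.trans h1)
  · intro x hx hk g hgx
    have hk' : ∃ k : ℕ, orderOf (g * x * g⁻¹) = 2 ^ k := by
      obtain ⟨k, hk⟩ := hk
      refine ⟨k, ?_⟩
      rw [← hk]
      have : g * x * g⁻¹ = MulAut.conj g x := by simp [MulAut.conj_apply]
      rw [this, MulEquiv.orderOf_eq]
    obtain ⟨h, hh, hhc⟩ := hB x hx hk
    obtain ⟨k, hkH, hkc⟩ := hB _ hgx hk'
    -- x commutes with z'' = h z h⁻¹ and with z' = (g⁻¹k) z (g⁻¹k)⁻¹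
    have hz'c : x * ((g⁻¹ * k) * z * (g⁻¹ * k)⁻¹) = ((g⁻¹ * k) * z * (g⁻¹ * k)⁻¹) * x := by
      calc x * ((g⁻¹ * k) * z * (g⁻¹ * k)⁻¹) = g⁻¹ * ((g * x * g⁻¹) * (k * z * k⁻¹)) * g := by group
        _ = g⁻¹ * ((k * z * k⁻¹) * (g * x * g⁻¹)) * g := by rw [hkc]
        _ = ((g⁻¹ * k) * z * (g⁻¹ * k)⁻¹) * x := by group
    have hconj2 : ∀ a : G, ∃ k : ℕ, orderOf (a * z * a⁻¹) = 2 ^ k := by
      intro a
      refine ⟨1, ?_⟩
      have : a * z * a⁻¹ = MulAut.conj a z := by simp [MulAut.conj_apply]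
      rw [this, MulEquiv.orderOf_eq, hz2, pow_one]
    have hcen : ∀ w : G, x * w = w * x → w ∈ Subgroup.centralizer ({x} : Set G) := by
      intro w hw
      rw [Subgroup.mem_centralizer_iff]
      intro y hy
      rw [Set.mem_singleton_iff] at hy
      subst hy
      exact hw
    obtain ⟨c, hc, T, hT, hTC, hT2, hcT⟩ := sylow_in_subgroup 2 (Subgroup.centralizer ({x} : Set G))
      (Subgroup.zpowers (h * z * h⁻¹)) (Subgroup.zpowers ((g⁻¹ * k) * z * (g⁻¹ * k)⁻¹))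
      (by rw [Subgroup.zpowers_le]; exact hcen _ hhc)
      (by rw [Subgroup.zpowers_le]; exact hcen _ hz'c) (hzp _ (hconj2 h)) (hzp _ (hconj2 _))
    have m1 : (c * h) * z * (c * h)⁻¹ ∈ T := by
      have := hcT _ (Subgroup.mem_zpowers (h * z * h⁻¹))
      have e : (c * h) * z * (c * h)⁻¹ = c * (h * z * h⁻¹) * c⁻¹ := by group
      rw [e]; exact this
    have m2 : (g⁻¹ * k) * z * (g⁻¹ * k)⁻¹ ∈ T := hT2 (Subgroup.mem_zpowers _)
    have hmem := hA' T hT (c * h) (g⁻¹ * k) m1 m2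
    -- (g⁻¹ k)⁻¹ (c h) = k⁻¹ g c h ∈ H ⇒ g c ∈ H
    have hgc : g * c ∈ H := by
      have e : g * c = k * ((g⁻¹ * k)⁻¹ * (c * h)) * h⁻¹ := by group
      rw [e]
      exact H.mul_mem (H.mul_mem hkH hmem) (H.inv_mem hh)
    refine ⟨g * c, hgc, ?_⟩
    rw [Subgroup.mem_centralizer_iff] at hc
    have hcx : x * c = c * x := hc x rfl
    calc g * c * x * (g * c)⁻¹ = g * (c * x) * c⁻¹ * g⁻¹ := by group
      _ = g * (x * c) * c⁻¹ * g⁻¹ := by rw [hcx]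
      _ = g * x * g⁻¹ := by group

end Cfsg.Agent.S5438
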