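-- Statement S5439 (row 5439).
import Cfsg.Statements.S5439

set_option autoImplicit false
open Cfsg

namespace Cfsg.Agent.S5439

/-- the fixed-coset criterion -/
theorem smul_coset_eq_iff {G : Type*} [Group G] (H : Subgroup G) (x g : G) :
    x • (g : G ⧸ H) = (g : G ⧸ H) ↔ g⁻¹ * x * g ∈ H := by
  rw [MulAction.Quotient.smul_coe, QuotientGroup.eq]
  constructor
  · intro h
    have := H.inv_mem h
    simpa [mul_assoc] using this
  · intro h
    have := H.inv_mem h
    simpa [mul_assoc] using this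

/-- inversion relation passes to powers -/
theorem inv_rel_pow {G : Type*} [Group G] (e r : G) (h : e * r = r⁻¹ * e) (m : ℕ) :
    e * r ^ m = (r ^ m)⁻¹ * e := by
  induction m with
  | zero => simp
  | succ m ih =>
    calc e * r ^ (m + 1) = (e * r ^ m) * r := by rw [pow_succ]; group
      _ = (r ^ m)⁻¹ * (e * r) := by rw [ih]; group
      _ = (r ^ m)⁻¹ * (r⁻¹ * e) := by rw [h]
      _ = (r ^ (m + 1))⁻¹ * e := by rw [pow_succ]; group

/-- conjugating by a power of `r` an element inverting `r` -/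
theorem conj_pow {G : Type*} [Group G] (e r : G) (h : e * r = r⁻¹ * e) (j : ℕ) :
    (r ^ j)⁻¹ * e * ((r ^ j)⁻¹)⁻¹ = e * r ^ (2 * j) := by
  have h1 := inv_rel_pow e r h j
  rw [inv_inv, two_mul, pow_add]
  calc (r ^ j)⁻¹ * e * r ^ j = ((r ^ j)⁻¹ * e) * r ^ j := by group
    _ = (e * r ^ j) * r ^ j := by rw [h1]
    _ = e * (r ^ j * r ^ j) := by group

/-- Let `I`, `J` be distinct conjugacy classes of involutions of the finite group `G`, and `H` a subgroup such that every element of `I ∪ J` fixes a unique coset of `H`, and the centralizer of `ab` lies in `H` whenever `a ∈ I ∩ H` and `b ∈ (I ∪ J) ∩ H` are distinct and commute. Then `H = G`. -/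
theorem result {G : Type*} [Group G] [Finite G] (I J : Set G) (a₀ b₀ : G) (ha₀ : orderOf a₀ = 2) (hb₀ : orderOf b₀ = 2) (hI : I = {x | IsConj a₀ x}) (hJ : J = {x | IsConj b₀ x}) (hIJ : I ≠ J) (H : Subgroup G) (hfix : ∀ x ∈ I ∪ J, ∃! c : G ⧸ H, x • c = c) (hcent : ∀ a ∈ I, a ∈ H → ∀ b ∈ I ∪ J, b ∈ H → a ≠ b → a * b = b * a → Subgroup.centralizer ({a * b} : Set G) ≤ H) : H = ⊤ := by
  -- a₀ and b₀ are not conjugate
  have hnc : ¬ IsConj a₀ b₀ := by
    intro h
    apply hIJ
    rw [hI, hJ]
    ext y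
    exact ⟨fun hy => h.symm.trans hy, fun hy => h.trans hy⟩
  have ha₀I : a₀ ∈ I := by rw [hI]; exact IsConj.refl _
  have hb₀J : b₀ ∈ J := by rw [hJ]; exact IsConj.refl _
  -- some a ∈ I ∩ H
  obtain ⟨a, haI, haH⟩ : ∃ a ∈ I, a ∈ H := by
    obtain ⟨c, hc, -⟩ := hfix a₀ (Or.inl ha₀I)
    obtain ⟨g, rfl⟩ := QuotientGroup.mk_surjective c
    refine ⟨g⁻¹ * a₀ * g, ?_, (smul_coset_eq_iff H a₀ g).mp hc⟩
    rw [hI]
    exact isConj_iff.mpr ⟨g⁻¹, by group⟩
  by_contra hH
  -- some b ∈ J outside H
  obtain ⟨b, hbJ, hbH⟩ : ∃ b ∈ J, b ∉ H := by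
    by_contra hcon
    push Not at hcon
    apply hH
    obtain ⟨c, hc, huniq⟩ := hfix b₀ (Or.inr hb₀J)
    have hall : ∀ g : G, b₀ • (g : G ⧸ H) = (g : G ⧸ H) := by
      intro g
      rw [smul_coset_eq_iff]
      apply hcon
      rw [hJ]
      exact isConj_iff.mpr ⟨g⁻¹, by group⟩
    rw [eq_top_iff]
    intro g _
    have h1 := huniq _ (hall g)
    have h2 := huniq _ (hall 1)
    have : (g : G ⧸ H) = ((1 : G) : G ⧸ H) := h1.trans h2.symm
    have := QuotientGroup.eq.mp this
    have := H.inv_mem this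
    simpa using this
  have haconj : IsConj a₀ a := by rw [hI] at haI; exact haI
  have hbconj : IsConj b₀ b := by rw [hJ] at hbJ; exact hbJ
  have hab_nc : ¬ IsConj a b := fun h => hnc ((haconj.trans h).trans hbconj.symm)
  have haa : a * a = 1 := by
    have : orderOf a = 2 := by
      obtain ⟨c, hc⟩ := haconj
      rw [← SemiconjBy.orderOf_eq _ hc]
      exact ha₀
    have h := pow_orderOf_eq_one a
    rwa [this, pow_two] at h
  have hbb : b * b = 1 := by
    have : orderOf b = 2 := by
      obtain ⟨c, hc⟩ := hbconj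
      rw [← SemiconjBy.orderOf_eq _ hc]
      exact hb₀
    have h := pow_orderOf_eq_one b
    rwa [this, pow_two] at h
  have hainv : a⁻¹ = a := inv_eq_of_mul_eq_one_right haa
  have hbinv : b⁻¹ = b := inv_eq_of_mul_eq_one_right hbb
  obtain ⟨r, hrdef⟩ : ∃ r : G, r = a * b := ⟨_, rfl⟩
  have hrinv : r⁻¹ = b * a := by rw [hrdef, mul_inv_rev, hainv, hbinv]
  have har : a * r = r⁻¹ * a := by
    rw [hrinv, hrdef]
    calc a * (a * b) = (a * a) * b := by group
      _ = b := by rw [haa, one_mul]
      _ = b * (a * a) := by rw [haa, mul_one]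
      _ = b * a * a := by group
  have hbr : b * r = r⁻¹ * b := by
    rw [hrinv, hrdef]; group
  have hb_eq : b = a * r := by
    rw [hrdef]
    calc b = (a * a) * b := by rw [haa, one_mul]
      _ = a * (a * b) := by group
  have hrpos : 0 < orderOf r := orderOf_pos r
  -- the order of r is even
  have heven : Even (orderOf r) := by
    by_contra hodd
    rw [Nat.not_even_iff_odd] at hodd
    obtain ⟨k, hk⟩ := hodd
    apply hab_nc
    -- b = a r = a r^(2(k+1)) is conjugate to a
    have hrn : r ^ (2 * k + 1) = 1 := hk ▸ pow_orderOf_eq_one r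
    have h1 : a * r ^ (2 * (k + 1)) = b := by
      have : 2 * (k + 1) = (2 * k + 1) + 1 := by ring
      rw [this, pow_succ, hrn, one_mul, ← hb_eq]
    rw [isConj_iff]
    exact ⟨(r ^ (k + 1))⁻¹, (conj_pow a r har (k + 1)).trans h1⟩
  obtain ⟨m, hm⟩ := heven
  have hm' : orderOf r = 2 * m := by omega
  have hmpos : 0 < m := by omega
  obtain ⟨t, htdef⟩ : ∃ t : G, t = r ^ m := ⟨_, rfl⟩
  have htt : t * t = 1 := by
    rw [htdef, ← pow_add, ← two_mul, ← hm']
    exact pow_orderOf_eq_one r
  have ht1 : t ≠ 1 := by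
    rw [htdef]
    intro h
    have := orderOf_dvd_of_pow_eq_one h
    rw [hm'] at this
    have := Nat.le_of_dvd hmpos this
    omega
  have htinv : t⁻¹ = t := inv_eq_of_mul_eq_one_right htt
  have hat : a * t = t * a := by
    have := inv_rel_pow a r har m
    rw [← htdef, htinv] at this
    exact this
  have hbt : b * t = t * b := by
    have := inv_rel_pow b r hbr m
    rw [← htdef, htinv] at this
    exact this
  -- a t lies in I ∪ J
  have hat_mem : a * t ∈ I ∪ J := by
    rcases Nat.even_or_odd' m with ⟨j, hj | hj⟩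
    · -- m = 2 j: a t = a r^(2j) conjugate to a
      left
      rw [hI]
      refine haconj.trans ?_
      rw [isConj_iff]
      refine ⟨(r ^ j)⁻¹, ?_⟩
      rw [conj_pow a r har j, htdef, hj]
    · -- m = 2 j + 1: a t = b r^(2j) conjugate to b
      right
      rw [hJ]
      refine hbconj.trans ?_
      rw [isConj_iff]
      refine ⟨(r ^ j)⁻¹, ?_⟩
      rw [conj_pow b r hbr j, htdef, hj, hb_eq, pow_succ']
      group
  -- t ∈ H
  have htH : t ∈ H := by
    obtain ⟨c, hc, huniq⟩ := hfix a (Or.inl haI)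
    have h1 : a • ((1 : G) : G ⧸ H) = ((1 : G) : G ⧸ H) := by
      rw [smul_coset_eq_iff]; simpa using haH
    have h2 : a • ((t : G) : G ⧸ H) = ((t : G) : G ⧸ H) := by
      rw [smul_coset_eq_iff]
      have : t⁻¹ * a * t = a := by
        calc t⁻¹ * a * t = t⁻¹ * (a * t) := by group
          _ = t⁻¹ * (t * a) := by rw [hat]
          _ = a := by group
      rw [this]; exact haH
    have := (huniq _ h2).trans (huniq _ h1).symm
    have := QuotientGroup.eq.mp this
    have := H.inv_mem this
    simpa using this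
  have hatH : a * t ∈ H := H.mul_mem haH htH
  have hne : a ≠ a * t := by
    intro h
    apply ht1
    calc t = a⁻¹ * (a * t) := by group
      _ = a⁻¹ * a := by rw [← h]
      _ = 1 := by group
  have hcomm : a * (a * t) = (a * t) * a := by
    calc a * (a * t) = a * (t * a) := by rw [hat]
      _ = (a * t) * a := by group
  have hC := hcent a haI haH (a * t) hat_mem hatH hne hcomm
  have hprod : a * (a * t) = t := by
    calc a * (a * t) = (a * a) * t := by group
      _ = t := by rw [haa, one_mul]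
  rw [hprod] at hC
  apply hbH
  apply hC
  rw [Subgroup.mem_centralizer_iff]
  intro y hy
  rw [Set.mem_singleton_iff] at hy
  subst hy
  exact hbt.symm

end Cfsg.Agent.S5439
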