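import Mathlib
import Cfsg.Statements.S5459

set_option autoImplicit false
open Cfsg

namespace Cfsg.Agent.S5459

open scoped commutatorElement

section core
variable {G : Type*} [Group G]

theorem mem_conjugatesOf_iff' {a b : G} : b ∈ conjugatesOf a ↔ IsConj a b := Iff.rfl

/-- the conjugate of `d` by `g` as a vertex -/
def conjD (d g : G) : conjugatesOf d := ⟨g * d * g⁻¹, isConj_iff.mpr ⟨g, rfl⟩⟩

/-- conjugation as a graph homomorphism of the commuting graph -/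
def actHom (d g : G) : commutingGraph (conjugatesOf d) →g commutingGraph (conjugatesOf d) where
  toFun x := ⟨g * x.1 * g⁻¹, by
    have hx := x.2
    rw [mem_conjugatesOf_iff', isConj_iff] at hx ⊢
    obtain ⟨c, hc⟩ := hx
    exact ⟨g * c, by rw [← hc]; group⟩⟩
  map_rel' := by
    intro a b hab
    simp only [commutingGraph, SimpleGraph.fromRel_adj] at hab ⊢
    obtain ⟨hne, hcomm⟩ := hab
    refine ⟨?_, ?_⟩
    · intro h
      apply hne
      have h1 := congrArg Subtype.val h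
      simp only at h1
      apply Subtype.ext
      have := mul_left_cancel (mul_right_cancel h1)
      exact this
    · have hc : Commute (a : G) (b : G) := by
        rcases hcomm with h | h
        · exact h
        · exact h.symm
      left
      show Commute (g * (a : G) * g⁻¹) (g * (b : G) * g⁻¹)
      have h1 : g * (a : G) * g⁻¹ * (g * (b : G) * g⁻¹) = g * ((a : G) * b) * g⁻¹ := by group
      have h2 : g * (b : G) * g⁻¹ * (g * (a : G) * g⁻¹) = g * ((b : G) * a) * g⁻¹ := by group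
      show _ * _ = _ * _
      rw [h1, h2, hc.eq]

theorem actHom_conjD (d g h : G) : actHom d g (conjD d h) = conjD d (g * h) := by
  apply Subtype.ext
  show g * (h * d * h⁻¹) * g⁻¹ = g * h * d * (g * h)⁻¹
  group

theorem core [Finite G] (L Z : Subgroup G) [hn : Z.Normal] (d : G) (hd : orderOf d = 2)
    (hZL : Z ≤ L) (hZc : ∀ c ∈ Z, ∀ l ∈ L, l * c = c * l) (k : ℕ)
    (hpow : ∀ c ∈ Z, c ^ (2 * k + 1) = 1) (hinv : ∀ c ∈ Z, d * c * d⁻¹ = c⁻¹)
    (hperf : ∀ K : Subgroup G, (∀ l₁ ∈ L, ∀ l₂ ∈ L, ⁅l₁, l₂⁆ ∈ K) → L ≤ K)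
    (hconn : (commutingGraph (conjugatesOf (QuotientGroup.mk d : G ⧸ Z))).Connected) :
    (commutingGraph (conjugatesOf d)).Connected := by
  classical
  -- square roots in Z
  have hr : ∀ c ∈ Z, c ^ (k + 1) * c ^ (k + 1) = c := by
    intro c hc
    rw [← pow_add, show k + 1 + (k + 1) = (2 * k + 1) + 1 by ring, pow_succ, hpow c hc, one_mul]
  have hrZ : ∀ c ∈ Z, c ^ (k + 1) ∈ Z := fun c hc => Z.pow_mem hc _
  have hZab : ∀ c ∈ Z, ∀ c' ∈ Z, c * c' = c' * c := fun c hc c' hc' => hZc c' hc' c (hZL hc)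
  have hdd : d * d = 1 := by
    have := pow_orderOf_eq_one d
    rw [hd, pow_two] at this
    exact this
  have hdinv : d⁻¹ = d := inv_eq_of_mul_eq_one_right hdd
  -- conjugates of d invert Z
  have hDinv : ∀ g : G, ∀ c ∈ Z, (g * d * g⁻¹) * c * (g * d * g⁻¹)⁻¹ = c⁻¹ := by
    intro g c hc
    have h1 : g⁻¹ * c * g ∈ Z := by
      have := hn.conj_mem c hc g⁻¹
      simpa using this
    have h2 := hinv _ h1
    calc (g * d * g⁻¹) * c * (g * d * g⁻¹)⁻¹ = g * (d * (g⁻¹ * c * g) * d⁻¹) * g⁻¹ := by group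
      _ = g * (g⁻¹ * c * g)⁻¹ * g⁻¹ := by rw [h2]
      _ = c⁻¹ := by group
  have hDsq : ∀ g : G, (g * d * g⁻¹) * (g * d * g⁻¹) = 1 := by
    intro g
    calc (g * d * g⁻¹) * (g * d * g⁻¹) = g * (d * d) * g⁻¹ := by group
      _ = 1 := by rw [hdd]; group
  have hconjZ : ∀ g : G, ∀ v ∈ Z, v * (g * d * g⁻¹) * v⁻¹ = v * v * (g * d * g⁻¹) := by
    intro g v hv
    have h1 := hDinv g v⁻¹ (Z.inv_mem hv)
    rw [inv_inv] at h1
    -- h1 : x v⁻¹ x⁻¹ = v
    have h2 : (g * d * g⁻¹) * v⁻¹ = v * (g * d * g⁻¹) := by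
      calc (g * d * g⁻¹) * v⁻¹ = ((g * d * g⁻¹) * v⁻¹ * (g * d * g⁻¹)⁻¹) * (g * d * g⁻¹) := by group
        _ = v * (g * d * g⁻¹) := by rw [h1]
    calc v * (g * d * g⁻¹) * v⁻¹ = v * ((g * d * g⁻¹) * v⁻¹) := by group
      _ = v * (v * (g * d * g⁻¹)) := by rw [h2]
      _ = v * v * (g * d * g⁻¹) := by group
  -- the reachability predicate
  let Γ := commutingGraph (conjugatesOf d)
  let S : G → Prop := fun g => Γ.Reachable (conjD d 1) (conjD d g)
  have hS1 : S 1 := SimpleGraph.Reachable.refl _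
  have hSmul : ∀ g h : G, S g → S h → S (g * h) := by
    intro g h hg hh
    have h1 := hh.map (actHom d g)
    rw [actHom_conjD, actHom_conjD, mul_one] at h1
    exact hg.trans h1
  have hSinv : ∀ g : G, S g → S g⁻¹ := by
    intro g hg
    have h1 := hg.map (actHom d g⁻¹)
    rw [actHom_conjD, actHom_conjD, mul_one, inv_mul_cancel] at h1
    exact h1.symm
  have hSeq : ∀ g h : G, g * d * g⁻¹ = h * d * h⁻¹ → S g → S h := by
    intro g h hgh hg
    have : conjD d g = conjD d h := Subtype.ext hgh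
    show Γ.Reachable (conjD d 1) (conjD d h)
    rw [← this]; exact hg
  -- lifting lemma
  have hlift : ∀ g : G, ∀ cbar ∈ conjugatesOf (QuotientGroup.mk d : G ⧸ Z),
      Commute (QuotientGroup.mk (g * d * g⁻¹) : G ⧸ Z) cbar →
      ∃ h : G, (QuotientGroup.mk (h * d * h⁻¹) : G ⧸ Z) = cbar ∧
        Commute (g * d * g⁻¹) (h * d * h⁻¹) := by
    intro g cbar hcbar hcomm
    rw [mem_conjugatesOf_iff', isConj_iff] at hcbar
    obtain ⟨gbar, hgbar⟩ := hcbar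
    obtain ⟨g', rfl⟩ := QuotientGroup.mk_surjective gbar
    -- c' = g' d g'⁻¹
    have hc' : (QuotientGroup.mk (g' * d * g'⁻¹) : G ⧸ Z) = cbar := by
      rw [← hgbar]; simp
    obtain ⟨b, hb⟩ : ∃ b : G, b = g * d * g⁻¹ := ⟨_, rfl⟩
    obtain ⟨c', hc'def⟩ : ∃ c' : G, c' = g' * d * g'⁻¹ := ⟨_, rfl⟩
    rw [← hb, ← hc'] at hcomm
    rw [← hc'def] at hcomm hc'
    have he : b * c' * b⁻¹ * c'⁻¹ ∈ Z := by
      rw [← QuotientGroup.eq_one_iff]
      have := hcomm.eq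
      simp only [QuotientGroup.mk_mul, QuotientGroup.mk_inv]
      rw [this]; group
    obtain ⟨e, hedef⟩ : ∃ e : G, e = b * c' * b⁻¹ * c'⁻¹ := ⟨_, rfl⟩
    rw [← hedef] at he
    have hbc' : b * c' * b⁻¹ = e * c' := by rw [hedef]; group
    obtain ⟨u, hudef⟩ : ∃ u : G, u = e ^ (k + 1) := ⟨_, rfl⟩
    have hu : u ∈ Z := by rw [hudef]; exact hrZ e he
    have huu : u * u = e := by rw [hudef]; exact hr e he
    obtain ⟨v, hvdef⟩ : ∃ v : G, v = u ^ (k + 1) := ⟨_, rfl⟩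
    have hv : v ∈ Z := by rw [hvdef]; exact hrZ u hu
    have hvv : v * v = u := by rw [hvdef]; exact hr u hu
    refine ⟨v * g', ?_, ?_⟩
    · have h1 : (v * g') * d * (v * g')⁻¹ = v * c' * v⁻¹ := by rw [hc'def]; group
      rw [h1, ← hc']
      have hv1 : (QuotientGroup.mk v : G ⧸ Z) = 1 := (QuotientGroup.eq_one_iff v).mpr hv
      simp only [QuotientGroup.mk_mul, QuotientGroup.mk_inv, hv1]
      group
    · have h1 : (v * g') * d * (v * g')⁻¹ = u * c' := by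
        have h2 := hconjZ g' v hv
        rw [← hc'def, hvv] at h2
        rw [← h2, hc'def]; group
      rw [h1, ← hb]
      -- b (u c') b⁻¹ = u⁻¹ e c' = u c'
      have hbu : b * u * b⁻¹ = u⁻¹ := by rw [hb]; exact hDinv g u hu
      have h3 : b * (u * c') * b⁻¹ = u * c' := by
        calc b * (u * c') * b⁻¹ = (b * u * b⁻¹) * (b * c' * b⁻¹) := by group
          _ = u⁻¹ * (e * c') := by rw [hbu, hbc']
          _ = u⁻¹ * (u * u * c') := by rw [huu]
          _ = u * c' := by group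
      show b * (u * c') = (u * c') * b
      calc b * (u * c') = (b * (u * c') * b⁻¹) * b := by group
        _ = (u * c') * b := by rw [h3]
  -- every vertex of the quotient graph lifts to a vertex reachable from d
  have hreach : ∀ ybar : conjugatesOf (QuotientGroup.mk d : G ⧸ Z),
      (commutingGraph (conjugatesOf (QuotientGroup.mk d : G ⧸ Z))).Reachable
        ⟨QuotientGroup.mk d, mem_conjugatesOf_self⟩ ybar →
      ∃ g : G, (QuotientGroup.mk (g * d * g⁻¹) : G ⧸ Z) = ybar.1 ∧ S g := by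
    intro ybar hy
    rw [SimpleGraph.reachable_iff_reflTransGen] at hy
    induction hy with
    | refl => exact ⟨1, by simp, hS1⟩
    | tail _ hadj ih =>
      obtain ⟨g, hg, hSg⟩ := ih
      simp only [commutingGraph, SimpleGraph.fromRel_adj] at hadj
      obtain ⟨hne, hcomm⟩ := hadj
      rename_i bbar cbar _
      have hc : Commute (bbar : G ⧸ Z) (cbar : G ⧸ Z) := by
        rcases hcomm with h | h
        · exact h
        · exact h.symm
      rw [← hg] at hc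
      obtain ⟨h, hh, hcomm'⟩ := hlift g cbar.1 cbar.2 hc
      refine ⟨h, hh, ?_⟩
      have hadj' : Γ.Adj (conjD d g) (conjD d h) := by
        simp only [Γ, commutingGraph, SimpleGraph.fromRel_adj]
        refine ⟨?_, Or.inl hcomm'⟩
        intro heq
        apply hne
        apply Subtype.ext
        rw [← hg, ← hh]
        have := congrArg Subtype.val heq
        simp only [conjD] at this
        rw [this]
      exact hSg.trans hadj'.reachable
  -- G = Z S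
  have hZS : ∀ g : G, ∃ v ∈ Z, ∃ s : G, S s ∧ g = v * s := by
    intro g
    have hmem : (QuotientGroup.mk (g * d * g⁻¹) : G ⧸ Z) ∈
        conjugatesOf (QuotientGroup.mk d : G ⧸ Z) := by
      rw [mem_conjugatesOf_iff', isConj_iff]
      exact ⟨QuotientGroup.mk g, by simp⟩
    obtain ⟨h, hh, hSh⟩ := hreach ⟨_, hmem⟩ (hconn.preconnected _ _)
    simp only at hh
    -- g d g⁻¹ = e * (h d h⁻¹), e ∈ Z
    have he : (g * d * g⁻¹) * (h * d * h⁻¹)⁻¹ ∈ Z := by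
      rw [← QuotientGroup.eq_one_iff]
      rw [QuotientGroup.mk_mul, QuotientGroup.mk_inv, hh]
      group
    obtain ⟨e, hedef⟩ : ∃ e : G, e = (g * d * g⁻¹) * (h * d * h⁻¹)⁻¹ := ⟨_, rfl⟩
    rw [← hedef] at he
    have hg' : g * d * g⁻¹ = e * (h * d * h⁻¹) := by rw [hedef]; group
    obtain ⟨v, hvdef⟩ : ∃ v : G, v = e ^ (k + 1) := ⟨_, rfl⟩
    have hv : v ∈ Z := by rw [hvdef]; exact hrZ e he
    have hvv : v * v = e := by rw [hvdef]; exact hr e he
    have h1 : g * d * g⁻¹ = v * (h * d * h⁻¹) * v⁻¹ := by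
      rw [hconjZ h v hv, hvv, hg']
    -- t = (v h)⁻¹ g centralizes d
    have ht : ((v * h)⁻¹ * g) * d * ((v * h)⁻¹ * g)⁻¹ = 1 * d * 1⁻¹ := by
      calc ((v * h)⁻¹ * g) * d * ((v * h)⁻¹ * g)⁻¹ = (v * h)⁻¹ * (g * d * g⁻¹) * (v * h) := by group
        _ = (v * h)⁻¹ * (v * (h * d * h⁻¹) * v⁻¹) * (v * h) := by rw [h1]
        _ = 1 * d * 1⁻¹ := by group
    have hSt : S ((v * h)⁻¹ * g) := hSeq 1 _ ht.symm hS1
    refine ⟨v, hv, h * ((v * h)⁻¹ * g), hSmul _ _ hSh hSt, by group⟩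
  -- the subgroup K = L ∩ S
  let K : Subgroup G :=
    { carrier := {g | g ∈ L ∧ S g}
      mul_mem' := fun {a b} ha hb => ⟨L.mul_mem ha.1 hb.1, hSmul a b ha.2 hb.2⟩
      one_mem' := ⟨L.one_mem, hS1⟩
      inv_mem' := fun {a} ha => ⟨L.inv_mem ha.1, hSinv a ha.2⟩ }
  have hLK : L ≤ K := by
    apply hperf
    intro l₁ hl₁ l₂ hl₂
    obtain ⟨v₁, hv₁, s₁, hs₁, e₁⟩ := hZS l₁
    obtain ⟨v₂, hv₂, s₂, hs₂, e₂⟩ := hZS l₂
    have hs₁L : s₁ ∈ L := by
      have : s₁ = v₁⁻¹ * l₁ := by rw [e₁]; group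
      rw [this]; exact L.mul_mem (L.inv_mem (hZL hv₁)) hl₁
    have hs₂L : s₂ ∈ L := by
      have : s₂ = v₂⁻¹ * l₂ := by rw [e₂]; group
      rw [this]; exact L.mul_mem (L.inv_mem (hZL hv₂)) hl₂
    have hcomm : ⁅l₁, l₂⁆ = ⁅s₁, s₂⁆ := by
      rw [commutatorElement_def, commutatorElement_def, e₁, e₂]
      have a1 : s₁ * v₂ = v₂ * s₁ := hZc v₂ hv₂ s₁ hs₁L
      have a2 : s₂ * v₁ = v₁ * s₂ := hZc v₁ hv₁ s₂ hs₂L
      have a3 : s₁ * v₁ = v₁ * s₁ := hZc v₁ hv₁ s₁ hs₁L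
      have a4 : s₂ * v₂ = v₂ * s₂ := hZc v₂ hv₂ s₂ hs₂L
      have a5 : v₁ * v₂ = v₂ * v₁ := hZab v₁ hv₁ v₂ hv₂
      -- move everything: v₁ s₁ v₂ s₂ s₁⁻¹ v₁⁻¹ s₂⁻¹ v₂⁻¹
      have b1 : v₁ * s₁ * (v₂ * s₂) = v₁ * v₂ * (s₁ * s₂) := by
        calc v₁ * s₁ * (v₂ * s₂) = v₁ * (s₁ * v₂) * s₂ := by group
          _ = v₁ * (v₂ * s₁) * s₂ := by rw [a1]
          _ = v₁ * v₂ * (s₁ * s₂) := by group
      have b2 : (v₁ * s₁)⁻¹ * (v₂ * s₂)⁻¹ = (s₁⁻¹ * s₂⁻¹) * (v₁ * v₂)⁻¹ := by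
        have : (v₂ * s₂) * (v₁ * s₁) = (v₁ * v₂) * (s₂ * s₁) := by
          calc (v₂ * s₂) * (v₁ * s₁) = v₂ * (s₂ * v₁) * s₁ := by group
            _ = v₂ * (v₁ * s₂) * s₁ := by rw [a2]
            _ = (v₂ * v₁) * (s₂ * s₁) := by group
            _ = (v₁ * v₂) * (s₂ * s₁) := by rw [a5]
        calc (v₁ * s₁)⁻¹ * (v₂ * s₂)⁻¹ = ((v₂ * s₂) * (v₁ * s₁))⁻¹ := by group
          _ = ((v₁ * v₂) * (s₂ * s₁))⁻¹ := by rw [this]
          _ = (s₁⁻¹ * s₂⁻¹) * (v₁ * v₂)⁻¹ := by group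
      have hvL : v₁ * v₂ ∈ Z := Z.mul_mem hv₁ hv₂
      have b3 : (v₁ * v₂) * (s₁ * s₂ * s₁⁻¹ * s₂⁻¹) = (s₁ * s₂ * s₁⁻¹ * s₂⁻¹) * (v₁ * v₂) :=
        (hZc _ hvL _ (L.mul_mem (L.mul_mem (L.mul_mem hs₁L hs₂L) (L.inv_mem hs₁L))
          (L.inv_mem hs₂L))).symm
      calc v₁ * s₁ * (v₂ * s₂) * (v₁ * s₁)⁻¹ * (v₂ * s₂)⁻¹
          = (v₁ * s₁ * (v₂ * s₂)) * ((v₁ * s₁)⁻¹ * (v₂ * s₂)⁻¹) := by group
        _ = (v₁ * v₂ * (s₁ * s₂)) * ((s₁⁻¹ * s₂⁻¹) * (v₁ * v₂)⁻¹) := by rw [b1, b2]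
        _ = ((v₁ * v₂) * (s₁ * s₂ * s₁⁻¹ * s₂⁻¹)) * (v₁ * v₂)⁻¹ := by group
        _ = ((s₁ * s₂ * s₁⁻¹ * s₂⁻¹) * (v₁ * v₂)) * (v₁ * v₂)⁻¹ := by rw [b3]
        _ = s₁ * s₂ * s₁⁻¹ * s₂⁻¹ := by group
    rw [hcomm]
    refine ⟨?_, ?_⟩
    · rw [commutatorElement_def]
      exact L.mul_mem (L.mul_mem (L.mul_mem hs₁L hs₂L) (L.inv_mem hs₁L)) (L.inv_mem hs₂L)
    · rw [commutatorElement_def]
      exact hSmul _ _ (hSmul _ _ (hSmul _ _ hs₁ hs₂) (hSinv _ hs₁)) (hSinv _ hs₂)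
  have hall : ∀ g : G, S g := by
    intro g
    obtain ⟨v, hv, s, hs, e⟩ := hZS g
    rw [e]
    exact hSmul _ _ (hLK (hZL hv)).2 hs
  haveI : Nonempty (conjugatesOf d) := ⟨conjD d 1⟩
  refine ⟨?_⟩
  intro x y
  obtain ⟨x, hx⟩ := x
  obtain ⟨y, hy⟩ := y
  rw [mem_conjugatesOf_iff', isConj_iff] at hx hy
  obtain ⟨g, rfl⟩ := hx
  obtain ⟨h, rfl⟩ := hy
  exact (hall g).symm.trans (hall h)

end core

theorem result {G : Type*} [Group G] [Finite G] (L : Subgroup G) [L.Normal] (hL : Cfsg.IsQuasisimple ↥L) (d : G) (hd : orderOf d = 2) (hgen : L ⊔ Subgroup.zpowers d = ⊤) (hodd : Odd (Nat.card ↥(Subgroup.center ↥L))) (hinv : ∀ c ∈ (Subgroup.center ↥L).map L.subtype, d * c * d⁻¹ = c⁻¹) [hn : ((Subgroup.center ↥L).map L.subtype).Normal] (hconn : (Cfsg.commutingGraph (conjugatesOf (QuotientGroup.mk d : G ⧸ (Subgroup.center ↥L).map L.subtype))).Connected) : (Cfsg.commutingGraph (conjugatesOf d)).Connected :=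 by
  obtain ⟨k, hk⟩ := hodd
  refine core L ((Subgroup.center ↥L).map L.subtype) d hd (Subgroup.map_subtype_le _) ?_ k ?_ hinv ?_
    hconn
  · rintro c ⟨x, hx, rfl⟩ l hl
    rw [SetLike.mem_coe, Subgroup.mem_center_iff] at hx
    have := congrArg Subtype.val (hx ⟨l, hl⟩)
    simpa using this
  · rintro c ⟨x, hx, rfl⟩
    have h1 : (⟨x, hx⟩ : Subgroup.center ↥L) ^ Nat.card (Subgroup.center ↥L) = 1 := pow_card_eq_one'
    rw [hk] at h1
    have h2 := congrArg (fun y : Subgroup.center ↥L => ((y : ↥L) : G)) h1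
    simpa using h2
  · intro K hK
    have hperf : Group.IsPerfect ↥L := hL.1
    have := (Subgroup.isPerfect_iff (H := L)).mp hperf
    rw [← this, Subgroup.commutator_le]
    exact hK

end Cfsg.Agent.S5459
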