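import Cfsg.Statements.S5515
import Cfsg.Agent.Lib.H13.OutConj
import Cfsg.Agent.Lib.H13.Tri10
import Cfsg.Agent.Lib.H7.FStar
import Cfsg.Agent.S0287

set_option autoImplicit false
open Cfsg

namespace Cfsg.Agent.S5515

/-- the centre of `PΩ⁺₈(3)` is trivial -/
theorem center_L : Subgroup.center (Cfsg.POmega (ZMod 3) (Cfsg.quadFormPlus 4 (ZMod 3))) = ⊥ := by
  have hQ := Cfsg.Agent.S0287.nondeg (F := ZMod 3) 4
  have hcard : 7 ≤ Fintype.card (Fin 4 ⊕ Fin 4) := by
    simp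
  have h1 := Cfsg.Agent.Lib.H13.AutPO.perfect_all (Cfsg.Agent.Lib.H13.plusQF (ZMod 3) 4) hQ hcard
  have h2 := Cfsg.Agent.Lib.H13.AutPO.center_quot_eq_bot_of_perfect h1
  rw [Cfsg.Agent.S0287.coe_plusQF] at h2
  exact h2

/-- `Out(PΩ⁺₈(3)) ≅ S₄` -/
theorem out_L : Nonempty (Cfsg.Out (Cfsg.POmega (ZMod 3) (Cfsg.quadFormPlus 4 (ZMod 3))) ≃* Equiv.Perm (Fin 4)) := by
  haveI : Fact (Nat.Prime 3) := ⟨by norm_num⟩
  have h := Cfsg.Agent.Lib.H13.Tri.out_plus_odd (F := ZMod 3) (p := 3) (f := 1) (m := 4) le_rfl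
    (by rw [ZMod.card, pow_one]) (by norm_num) le_rfl
  rw [if_pos rfl, Cfsg.Agent.S0287.coe_plusQF] at h
  obtain ⟨ε⟩ := h
  haveI : Unique (Multiplicative (ZMod 1)) := by
    have : Unique (ZMod 1) := inferInstance
    exact this
  exact ⟨ε.trans MulEquiv.prodUnique⟩

/-- Let G and G′ be finite groups whose generalized Fitting subgroups are isomorphic to PΩ⁺(8, 3) (the commutator subgroup of the isometry group of the hyperbolic quadratic form in dimension 8 over the field with three elements, modulo its centre) with quotients isomorphic to the symmetric group of degree 3. Then G and G′ are isomorphic. -/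
theorem result {G G' : Type*} [Group G] [Finite G] [Group G'] [Finite G'] (hF : Nonempty (↥(Cfsg.generalizedFittingSubgroup G) ≃* Cfsg.POmega (ZMod 3) (Cfsg.quadFormPlus 4 (ZMod 3)))) (hF' : Nonempty (↥(Cfsg.generalizedFittingSubgroup G') ≃* Cfsg.POmega (ZMod 3) (Cfsg.quadFormPlus 4 (ZMod 3)))) [hn : (Cfsg.generalizedFittingSubgroup G).Normal] [hn' : (Cfsg.generalizedFittingSubgroup G').Normal] (hq : Nonempty (G ⧸ Cfsg.generalizedFittingSubgroup G ≃* Equiv.Perm (Fin 3))) (hq' : Nonempty (G' ⧸ Cfsg.generalizedFittingSubgroup G' ≃* Equiv.Perm (Fin 3))) : Nonempty (G ≃* G') := by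
  obtain ⟨e⟩ := hF
  obtain ⟨e'⟩ := hF'
  obtain ⟨q⟩ := hq
  obtain ⟨q'⟩ := hq'
  obtain ⟨ε⟩ := out_L
  have h6 : Nat.card (Equiv.Perm (Fin 3)) = 6 := by
    rw [Nat.card_eq_fintype_card, Fintype.card_perm, Fintype.card_fin]
    rfl
  have hidx : (Cfsg.generalizedFittingSubgroup G).index = 6 := by
    rw [Subgroup.index, Nat.card_congr q.toEquiv, h6]
  have hidx' : (Cfsg.generalizedFittingSubgroup G').index = 6 := by
    rw [Subgroup.index, Nat.card_congr q'.toEquiv, h6]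
  exact Cfsg.Agent.Lib.H13.OutConj.nonempty_mulEquiv_of_S4 (Cfsg.generalizedFittingSubgroup G) e
    Cfsg.Agent.Lib.H7.centralizer_generalizedFittingSubgroup_le (Cfsg.generalizedFittingSubgroup G') e'
    Cfsg.Agent.Lib.H7.centralizer_generalizedFittingSubgroup_le center_L ε hidx hidx'

end Cfsg.Agent.S5515
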