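import Mathlib
import Cfsg.Statements.S5521
import Cfsg.Agent.Lib.H28.M24Order

set_option autoImplicit false
open Cfsg

namespace Cfsg.Agent.S5521

open Cfsg.Agent.Lib.H28

/-- The Mathieu group M₂₄ in its natural action on the 24 coordinate positions of the binary Golay code has minimal base size exactly 7: every set of at most 6 positions is fixed pointwise by some non-identity element of M₂₄, while some set of 7 positions is fixed pointwise only by the identity. -/
theorem result :
    (∀ B : Finset Cfsg.GolayPt, B.card ≤ 6 → ∃ g ∈ Cfsg.M24, g ≠ 1 ∧ ∀ b ∈ B, g b = b) ∧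
    (∃ B : Finset Cfsg.GolayPt, B.card = 7 ∧ ∀ g ∈ Cfsg.M24, (∀ b ∈ B, g b = b) → g = 1) := by
  constructor
  · intro B hB
    by_contra hcon
    push Not at hcon
    have hinj : Function.Injective (fun (g : M24) (b : B) => (g : Equiv.Perm GolayPt) b.1) := by
      intro g h hgh
      have h1 : ((h⁻¹ * g : M24) : Equiv.Perm GolayPt) = 1 := by
        by_contra hne
        obtain ⟨b, hb, hbne⟩ := hcon _ (h⁻¹ * g).2 hne
        apply hbne
        have := congrFun hgh ⟨b, hb⟩
        simp only at this
        simp only [Subgroup.coe_mul, Subgroup.coe_inv, Equiv.Perm.coe_mul, Function.comp_apply]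
        rw [this]
        simp
      have h2 : h⁻¹ * g = 1 := Subtype.ext h1
      exact (inv_mul_eq_one.1 h2).symm
    have hle := Nat.card_le_card_of_injective _ hinj
    rw [card_M24, Nat.card_eq_fintype_card, Fintype.card_fun, Fintype.card_coe] at hle
    have h24 : Fintype.card GolayPt = 24 := by decide
    rw [h24] at hle
    have : 24 ^ B.card ≤ 24 ^ 6 := Nat.pow_le_pow_right (by norm_num) hB
    omega
  · refine ⟨Finset.image gPt {5, 4, 3, 2, 1, 0, 23}, by decide, ?_⟩
    intro g hg hfix
    have hmem : g ∈ fixSub M24 (levelFix 7) := by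
      rw [mem_fixSub]
      refine ⟨hg, fun k hk => ?_⟩
      apply hfix
      rw [Finset.mem_image]
      refine ⟨k, ?_, rfl⟩
      have : levelFix 7 = [5, 4, 3, 2, 1, 0, 23] := rfl
      rw [this] at hk
      simp only [List.mem_cons, List.not_mem_nil, or_false] at hk
      simp only [Finset.mem_insert, Finset.mem_singleton]
      exact hk
    rw [fixSub_M24_top] at hmem
    exact Subgroup.mem_bot.1 hmem

end Cfsg.Agent.S5521
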