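import Cfsg.Statements.S5529
import Mathlib
import Cfsg.Agent.Lib.H5.M23Gen.Certs
import Cfsg.Agent.Lib.H5.M23Gen.Neg

set_option autoImplicit false
open Cfsg

namespace Cfsg.Agent.S5529

/-- Generation of the Mathieu group M₂₃ (the stabiliser of a point in the Mathieu group M₂₄ acting on 24 points) by triples of prime orders. Let p ≤ q ≤ r be primes dividing |M₂₃| = 10200960 = 2⁷·3²·5·7·11·23, not both p and q equal to 2. Then M₂₃ contains elements x, y, z of orders p, q, r with xyz = 1 and ⟨x, y⟩ = M₂₃ if and only if (p, q, r) is none of: (2, 3, r) for any r, (2, 5, 5), (2, 5, 7), (3, 3, 3), (3, 3, 5), (3, 3, 7). -/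
theorem result (p q r : ℕ) (hp : p.Prime) (hq : q.Prime)
    (hr : r.Prime) (hpq : p ≤ q) (hqr : q ≤ r) (hp2 : ¬ (p = 2 ∧ q = 2))
    (hdvd : p ∣ 10200960 ∧ q ∣ 10200960 ∧ r ∣ 10200960) :
    (∃ x y z : Cfsg.Spor.M23, orderOf x = p ∧ orderOf y = q ∧ orderOf z = r ∧ x * y * z = 1 ∧
        Subgroup.closure {x, y} = ⊤) ↔
      ¬ ((p = 2 ∧ q = 3) ∨ (p = 2 ∧ q = 5 ∧ r = 5) ∨ (p = 2 ∧ q = 5 ∧ r = 7) ∨ (p = 3 ∧ q = 3 ∧ r ≤ 7)) := by
  have hmem : ∀ n : ℕ, n.Prime → n ∣ 10200960 → n ∈ Cfsg.Agent.Lib.H5.M23Gen.primes23 := by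
    intro n hn hd
    have h0 : (10200960 : ℕ) = 2 ^ 7 * 3 ^ 2 * 5 * 7 * 11 * 23 := by norm_num
    rw [h0] at hd
    have hcase : n = 2 ∨ n = 3 ∨ n = 5 ∨ n = 7 ∨ n = 11 ∨ n = 23 := by
      rcases (Nat.Prime.dvd_mul hn).1 hd with hd | hd
      · rcases (Nat.Prime.dvd_mul hn).1 hd with hd | hd
        · rcases (Nat.Prime.dvd_mul hn).1 hd with hd | hd
          · rcases (Nat.Prime.dvd_mul hn).1 hd with hd | hd
            · rcases (Nat.Prime.dvd_mul hn).1 hd with hd | hd
              · left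
                exact (Nat.prime_dvd_prime_iff_eq hn Nat.prime_two).1 (hn.dvd_of_dvd_pow hd)
              · right; left
                exact (Nat.prime_dvd_prime_iff_eq hn Nat.prime_three).1 (hn.dvd_of_dvd_pow hd)
            · right; right; left
              exact (Nat.prime_dvd_prime_iff_eq hn Nat.prime_five).1 hd
          · right; right; right; left
            exact (Nat.prime_dvd_prime_iff_eq hn (by norm_num)).1 hd
        · right; right; right; right; left
          exact (Nat.prime_dvd_prime_iff_eq hn (by norm_num)).1 hd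
      · right; right; right; right; right
        exact (Nat.prime_dvd_prime_iff_eq hn (by norm_num)).1 hd
    rcases hcase with rfl | rfl | rfl | rfl | rfl | rfl <;> decide
  constructor
  · rintro ⟨x, y, z, ox, oy, oz, h1, hgen⟩
    exact Cfsg.Agent.Lib.H5.M23Gen.not_excluded x y z p q r hp hq hr hqr ox oy oz h1 hgen
  · intro hne
    have hc := Cfsg.Agent.Lib.H5.M23Gen.certs_cover p (hmem p hp hdvd.1) q (hmem q hq hdvd.2.1) r
      (hmem r hr hdvd.2.2) hpq hqr hp2 hne
    obtain ⟨c, hcmem, hceq⟩ := List.any_eq_true.1 hc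
    simp only [Bool.and_eq_true, beq_iff_eq] at hceq
    obtain ⟨⟨rfl, rfl⟩, rfl⟩ := hceq
    have hchk := List.all_eq_true.1 Cfsg.Agent.Lib.H5.M23Gen.certs_ok c hcmem
    exact Cfsg.Agent.Lib.H5.M23Gen.check_sound c hchk hp hq hr

end Cfsg.Agent.S5529
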