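import Mathlib
import Cfsg.Statements.S5541

set_option autoImplicit false
open Cfsg

namespace Cfsg.Agent.S5541

section helpers
variable {H : Type*} [Group H] {U : Type*} [AddCommGroup U] [Module ℝ U] [FiniteDimensional ℝ U]

theorem ker_eq_bot_of_irr (ρ : Representation ℝ H U)
    (hirr : ∀ W : Submodule ℝ U, (∀ g : H, W.map (ρ g) ≤ W) → W = ⊥ ∨ W = ⊤)
    (B : LinearMap.BilinForm ℝ U) (hB0 : B ≠ 0)
    (hBi : ∀ (g : H) (u v : U), B (ρ g u) (ρ g v) = B u v) : LinearMap.ker B = ⊥ := by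
  have hinv : ∀ g : H, (LinearMap.ker B).map (ρ g) ≤ LinearMap.ker B := by
    intro g
    rintro _ ⟨u, hu, rfl⟩
    rw [SetLike.mem_coe, LinearMap.mem_ker] at hu
    rw [LinearMap.mem_ker]
    ext v
    have h1 : B (ρ g u) (ρ g (ρ g⁻¹ v)) = B u (ρ g⁻¹ v) := hBi g u _
    have h2 : ρ g (ρ g⁻¹ v) = v := by
      rw [← Module.End.mul_apply, ← map_mul, mul_inv_cancel, map_one, Module.End.one_apply]
    rw [h2, hu] at h1
    simpa using h1
  rcases hirr (LinearMap.ker B) hinv with h | h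
  · exact h
  · exfalso
    apply hB0
    ext u v
    have : u ∈ LinearMap.ker B := by rw [h]; trivial
    rw [LinearMap.mem_ker] at this
    rw [this]
    rfl

/-- The equivalence `U ≃ Dual U` given by a form with trivial kernel. -/
noncomputable def dualEquiv (B : LinearMap.BilinForm ℝ U) (hker : LinearMap.ker B = ⊥) :
    U ≃ₗ[ℝ] (U →ₗ[ℝ] ℝ) :=
  LinearMap.linearEquivOfInjective B (LinearMap.ker_eq_bot.mp hker) Subspace.dual_finrank_eq.symm

theorem dualEquiv_apply (B : LinearMap.BilinForm ℝ U) (hker : LinearMap.ker B = ⊥) (u : U) :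
    dualEquiv B hker u = B u := rfl

theorem B_dualEquiv_symm (B : LinearMap.BilinForm ℝ U) (hker : LinearMap.ker B = ⊥)
    (f : U →ₗ[ℝ] ℝ) : B ((dualEquiv B hker).symm f) = f := by
  rw [← dualEquiv_apply B hker, LinearEquiv.apply_symm_apply]

/-- trilinear form of a product -/
noncomputable def toTri (B : LinearMap.BilinForm ℝ U) (m : U →ₗ[ℝ] U →ₗ[ℝ] U) :
    U →ₗ[ℝ] U →ₗ[ℝ] U →ₗ[ℝ] ℝ := m.compr₂ B

theorem toTri_apply (B : LinearMap.BilinForm ℝ U) (m : U →ₗ[ℝ] U →ₗ[ℝ] U) (u v w : U) :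
    toTri B m u v w = B (m u v) w := rfl

/-- product of a trilinear form -/
noncomputable def toProd (B : LinearMap.BilinForm ℝ U) (hker : LinearMap.ker B = ⊥)
    (t : U →ₗ[ℝ] U →ₗ[ℝ] U →ₗ[ℝ] ℝ) : U →ₗ[ℝ] U →ₗ[ℝ] U :=
  t.compr₂ ((dualEquiv B hker).symm : (U →ₗ[ℝ] ℝ) →ₗ[ℝ] U)

theorem B_toProd (B : LinearMap.BilinForm ℝ U) (hker : LinearMap.ker B = ⊥)
    (t : U →ₗ[ℝ] U →ₗ[ℝ] U →ₗ[ℝ] ℝ) (u v w : U) : B (toProd B hker t u v) w = t u v w := by
  have : toProd B hker t u v = (dualEquiv B hker).symm (t u v) := rfl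
  rw [this, B_dualEquiv_symm]

theorem eq_of_B_eq (B : LinearMap.BilinForm ℝ U) (hker : LinearMap.ker B = ⊥) (x y : U)
    (h : ∀ w, B x w = B y w) : x = y := by
  apply LinearMap.ker_eq_bot.mp hker
  ext w
  exact h w

theorem rho_cancel (ρ : Representation ℝ H U) (g : H) (v : U) : ρ g (ρ g⁻¹ v) = v := by
  rw [← Module.End.mul_apply, ← map_mul, mul_inv_cancel, map_one, Module.End.one_apply]

end helpers

theorem result {H : Type*} [Group H] {U : Type*} [AddCommGroup U] [Module ℝ U] [FiniteDimensional ℝ U] (ρ : Representation ℝ H U) (hirr : ∀ W : Submodule ℝ U, (∀ g : H, W.map (ρ g) ≤ W) → W = ⊥ ∨ W = ⊤) (B : LinearMap.BilinForm ℝ U) (hB0 : B ≠ 0) (hBs : ∀ u v, B u v = B v u) (hBi : ∀ (g : H) (u v : U), B (ρ g u) (ρ g v) = B u v) : (∃ m : U →ₗ[ℝ] U →ₗ[ℝ] U, m ≠ 0 ∧ (∀ u v, m u v = m v u) ∧ (∀ (g : H) (u v : U), m (ρ g u) (ρ g v) = ρ g (m u v)) ∧ ∀ m' : U →ₗ[ℝ] U →ₗ[ℝ] U, (∀ (g : H) (u v : U), m' (ρ g u) (ρ g v)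 = ρ g (m' u v)) → ∃ c : ℝ, m' = c • m) ↔ (∃ t : U →ₗ[ℝ] U →ₗ[ℝ] U →ₗ[ℝ] ℝ, t ≠ 0 ∧ (∀ u v w, t u v w = t v u w ∧ t u v w = t u w v) ∧ (∀ (g : H) (u v w : U), t (ρ g u) (ρ g v) (ρ g w) = t u v w) ∧ ∀ t' : U →ₗ[ℝ] U →ₗ[ℝ] U →ₗ[ℝ] ℝ, (∀ (g : H) (u v w : U), t' (ρ g u) (ρ g v) (ρ g w) = t' u v w) → ∃ c : ℝ, t' = c • t) := by
  have hker := ker_eq_bot_of_irr ρ hirr B hB0 hBi
  -- invariance transfer
  have inv_of_equiv : ∀ m : U →ₗ[ℝ] U →ₗ[ℝ] U,
      (∀ (g : H) (u v : U), m (ρ g u) (ρ g v) = ρ g (m u v)) →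
      ∀ (g : H) (u v w : U), toTri B m (ρ g u) (ρ g v) (ρ g w) = toTri B m u v w := by
    intro m hm g u v w
    rw [toTri_apply, toTri_apply, hm, hBi]
  have equiv_of_inv : ∀ t : U →ₗ[ℝ] U →ₗ[ℝ] U →ₗ[ℝ] ℝ,
      (∀ (g : H) (u v w : U), t (ρ g u) (ρ g v) (ρ g w) = t u v w) →
      ∀ (g : H) (u v : U), toProd B hker t (ρ g u) (ρ g v) = ρ g (toProd B hker t u v) := by
    intro t ht g u v
    apply eq_of_B_eq B hker
    intro w
    rw [B_toProd]
    have h1 : t (ρ g u) (ρ g v) (ρ g (ρ g⁻¹ w)) = t u v (ρ g⁻¹ w) := ht g u v _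
    rw [rho_cancel] at h1
    rw [h1, ← B_toProd B hker t u v, ← hBi g, rho_cancel]
  constructor
  · rintro ⟨m, hm0, hmc, hme, hmu⟩
    have ht0 : toTri B m ≠ 0 := by
      intro h
      apply hm0
      ext u v
      apply eq_of_B_eq B hker
      intro w
      have := congrArg (fun t : U →ₗ[ℝ] U →ₗ[ℝ] U →ₗ[ℝ] ℝ => t u v w) h
      simpa [toTri_apply] using this
    have htu : ∀ t' : U →ₗ[ℝ] U →ₗ[ℝ] U →ₗ[ℝ] ℝ,
        (∀ (g : H) (u v w : U), t' (ρ g u) (ρ g v) (ρ g w) = t' u v w) →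
        ∃ c : ℝ, t' = c • toTri B m := by
      intro t' ht'
      obtain ⟨c, hc⟩ := hmu _ (equiv_of_inv t' ht')
      refine ⟨c, ?_⟩
      ext u v w
      rw [← B_toProd B hker t' u v w, hc]
      simp [toTri_apply]
    have hsym1 : ∀ u v w, toTri B m u v w = toTri B m v u w := by
      intro u v w
      rw [toTri_apply, toTri_apply, hmc]
    -- the flipped form
    obtain ⟨c, hc⟩ := htu ((LinearMap.lflip (R₀ := ℝ) (M := U) (N := U) (P := ℝ) (ρ₁₂ := RingHom.id ℝ)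
        (σ₁₂ := RingHom.id ℝ)).toLinearMap ∘ₗ toTri B m) (by
      intro g u v w
      exact inv_of_equiv m hme g u w v)
    have hflip : ∀ u v w, toTri B m u w v = c * toTri B m u v w := by
      intro u v w
      have := congrArg (fun t : U →ₗ[ℝ] U →ₗ[ℝ] U →ₗ[ℝ] ℝ => t u v w) hc
      simpa using this
    have hsym2 : ∀ u v w, toTri B m u v w = toTri B m u w v := by
      -- find a nonzero value
      have hex : ∃ u v w, toTri B m u v w ≠ 0 := by
        by_contra hno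
        push Not at hno
        apply ht0
        ext u v w
        exact hno u v w
      obtain ⟨u₀, v₀, w₀, hne⟩ := hex
      have hcc : c * c = 1 := by
        have h1 := hflip u₀ v₀ w₀
        have h2 := hflip u₀ w₀ v₀
        rw [h1] at h2
        have : (c * c - 1) * toTri B m u₀ v₀ w₀ = 0 := by linarith
        rcases mul_eq_zero.mp this with h | h
        · linarith
        · exact absurd h hne
      have hc1 : c = 1 ∨ c = -1 := by
        have : (c - 1) * (c + 1) = 0 := by ring_nf; linarith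
        rcases mul_eq_zero.mp this with h | h
        · left; linarith
        · right; linarith
      rcases hc1 with h | h
      · intro u v w
        rw [hflip u v w, h, one_mul]
      · exfalso
        apply hne
        have f : ∀ u v w, toTri B m u w v = - toTri B m u v w := by
          intro u v w; rw [hflip, h]; ring
        -- t(u,v,w) = −t(u,w,v) = −t(w,u,v) = t(w,v,u) = t(v,w,u) = −t(v,u,w) = −t(u,v,w)
        have e1 : toTri B m u₀ v₀ w₀ = - toTri B m u₀ w₀ v₀ := f u₀ w₀ v₀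
        have e2 : toTri B m u₀ w₀ v₀ = toTri B m w₀ u₀ v₀ := hsym1 _ _ _
        have e3 : toTri B m w₀ u₀ v₀ = - toTri B m w₀ v₀ u₀ := f w₀ v₀ u₀
        have e4 : toTri B m w₀ v₀ u₀ = toTri B m v₀ w₀ u₀ := hsym1 _ _ _
        have e5 : toTri B m v₀ w₀ u₀ = - toTri B m v₀ u₀ w₀ := f v₀ u₀ w₀
        have e6 : toTri B m v₀ u₀ w₀ = toTri B m u₀ v₀ w₀ := hsym1 _ _ _
        linarith
    exact ⟨toTri B m, ht0, fun u v w => ⟨hsym1 u v w, hsym2 u v w⟩, inv_of_equiv m hme, htu⟩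
  · rintro ⟨t, ht0, hts, hti, htu⟩
    refine ⟨toProd B hker t, ?_, ?_, equiv_of_inv t hti, ?_⟩
    · intro h
      apply ht0
      ext u v w
      rw [← B_toProd B hker t u v w, h]
      simp
    · intro u v
      apply eq_of_B_eq B hker
      intro w
      rw [B_toProd, B_toProd, (hts u v w).1]
    · intro m' hm'
      obtain ⟨c, hc⟩ := htu _ (inv_of_equiv m' hm')
      refine ⟨c, ?_⟩
      ext u v
      apply eq_of_B_eq B hker
      intro w
      have := congrArg (fun t : U →ₗ[ℝ] U →ₗ[ℝ] U →ₗ[ℝ] ℝ => t u v w) hc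
      simp only [toTri_apply] at this
      rw [this]
      simp [B_toProd]

end Cfsg.Agent.S5541
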