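-- Statement S5543 (row 5543).
import Cfsg.Statements.S5543

set_option autoImplicit false
open Cfsg

namespace Cfsg.Agent.S5543

/-- a subgroup with more elements than a finset has an element outside the finset -/
theorem exists_not_mem {G : Type*} [Group G] (X : Subgroup G) (S : Finset G)
    (h : S.card < Nat.card X) : ∃ z ∈ X, z ∉ S := by
  by_contra hcon
  push Not at hcon
  have hsub : (X : Set G) ⊆ (S : Set G) := fun z hz => hcon z hz
  have h1 : Nat.card X = Set.ncard (X : Set G) := (Nat.card_coe_set_eq (X : Set G))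
  have h2 : Set.ncard (X : Set G) ≤ Set.ncard (S : Set G) :=
    Set.ncard_le_ncard hsub (Finset.finite_toSet S)
  rw [Set.ncard_coe_finset] at h2
  omega

section core

variable {G : Type*} [Group G] {V : Type*} [AddCommGroup V] [Module ℝ V]

/-- The abstract core of the argument. -/
theorem core (X : Subgroup G) (hX : ∀ x ∈ X, x * x = 1)
    (mul : V →ₗ[ℝ] V →ₗ[ℝ] V) (B : LinearMap.BilinForm ℝ V) (ax : G → V)
    (hidem : ∀ x ∈ X, x ≠ 1 → mul (ax x) (ax x) = ax x)
    (hassoc : ∀ u v w : V, B u (mul v w) = B (mul u v) w)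
    (hfus : ∀ x ∈ X, x ≠ 1 → ∀ u v : V, mul (ax x) u = (1 / 4 : ℝ) • u →
      mul (ax x) v = (1 / 4 : ℝ) • v →
      ∃ w1 w0 : V, mul u v = w1 + w0 ∧ mul (ax x) w1 = w1 ∧ mul (ax x) w0 = 0)
    (h1 : ∀ x ∈ X, x ≠ 1 → B (ax x) (ax x) = 1)
    (h2A : ∀ x ∈ X, ∀ y ∈ X, x ≠ 1 → y ≠ 1 → x ≠ y →
      mul (ax x) (ax y) = (1 / 8 : ℝ) • (ax x + ax y - ax (x * y))) :
    Nat.card X ≤ 4 := by
  classical
  by_contra hcard
  push Not at hcard
  have hinv : ∀ s ∈ X, s⁻¹ = s := fun s hs => inv_eq_of_mul_eq_one_right (hX s hs)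
  -- commutativity
  have hcomm : ∀ s ∈ X, ∀ t ∈ X, s * t = t * s := by
    intro s hs t ht
    have h := hinv (s * t) (X.mul_mem hs ht)
    rw [mul_inv_rev, hinv s hs, hinv t ht] at h
    exact h.symm
  -- s * (s * t) = t
  have hsst : ∀ s ∈ X, ∀ t : G, s * (s * t) = t := by
    intro s hs t
    rw [← mul_assoc, hX s hs, one_mul]
  -- L1: inner products of distinct axes
  have L1 : ∀ s ∈ X, ∀ t ∈ X, s ≠ 1 → t ≠ 1 → s ≠ t → B (ax s) (ax t) = 1 / 8 := by
    intro s hs t ht hs1 ht1 hst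
    have hstX : s * t ∈ X := X.mul_mem hs ht
    have hst1 : s * t ≠ 1 := by
      intro h
      apply hst
      have := eq_inv_of_mul_eq_one_left h
      rw [hinv t ht] at this
      exact this
    have hsst' : s ≠ s * t := by
      intro h
      apply ht1
      have : s * 1 = s * t := by rw [mul_one]; exact h
      exact (mul_left_cancel this).symm
    have e1 := h2A s hs t ht hs1 ht1 hst
    have e2 := h2A s hs (s * t) hstX hs1 hst1 hsst'
    rw [hsst s hs t] at e2
    -- p = B(a_s,a_t), q = B(a_s, a_{st})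
    have p1 : B (ax s) (ax t) = B (ax s) (mul (ax s) (ax t)) := by
      rw [hassoc, hidem s hs hs1]
    have q1 : B (ax s) (ax (s * t)) = B (ax s) (mul (ax s) (ax (s * t))) := by
      rw [hassoc, hidem s hs hs1]
    rw [e1] at p1
    rw [e2] at q1
    simp only [map_smul, map_add, map_sub, smul_eq_mul, h1 s hs hs1] at p1 q1
    linarith
  -- L2: a_t - a_{st} is a 1/4-eigenvector of a_s
  have L2 : ∀ s ∈ X, ∀ t ∈ X, s ≠ 1 → t ≠ 1 → s ≠ t →
      mul (ax s) (ax t - ax (s * t)) = (1 / 4 : ℝ) • (ax t - ax (s * t)) := by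
    intro s hs t ht hs1 ht1 hst
    have hstX : s * t ∈ X := X.mul_mem hs ht
    have hst1 : s * t ≠ 1 := by
      intro h
      apply hst
      have := eq_inv_of_mul_eq_one_left h
      rw [hinv t ht] at this
      exact this
    have hsst' : s ≠ s * t := by
      intro h
      apply ht1
      have : s * 1 = s * t := by rw [mul_one]; exact h
      exact (mul_left_cancel this).symm
    have e1 := h2A s hs t ht hs1 ht1 hst
    have e2 := h2A s hs (s * t) hstX hs1 hst1 hsst'
    rw [hsst s hs t] at e2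
    rw [map_sub, e1, e2]
    module
  -- choose three independent elements
  obtain ⟨x, hxX, hx⟩ := exists_not_mem X {1} (by simp; omega)
  obtain ⟨y, hyX, hy⟩ := exists_not_mem X {1, x} (by
    have := Finset.card_le_two (a := (1 : G)) (b := x); omega)
  obtain ⟨z, hzX, hz⟩ := exists_not_mem X {1, x, y, x * y} (by
    have := Finset.card_le_four (a := (1 : G)) (b := x) (c := y) (d := x * y); omega)
  simp only [Finset.mem_singleton] at hx
  simp only [Finset.mem_insert, Finset.mem_singleton, not_or] at hy hz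
  obtain ⟨hy1, hyx⟩ := hy
  obtain ⟨hz1, hzx, hzy, hzxy⟩ := hz
  have hxy : x ≠ y := fun h => hyx h.symm
  -- the relevant products
  have hxyX : x * y ∈ X := X.mul_mem hxX hyX
  have hxzX : x * z ∈ X := X.mul_mem hxX hzX
  have hyzX : y * z ∈ X := X.mul_mem hyX hzX
  have hxy1 : x * y ≠ 1 := by
    intro h
    have := eq_inv_of_mul_eq_one_left h
    rw [hinv y hyX] at this
    exact hxy this
  have hxz1 : x * z ≠ 1 := by
    intro h
    have := eq_inv_of_mul_eq_one_left h
    rw [hinv z hzX] at this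
    exact hzx this.symm
  have hyz1 : y * z ≠ 1 := by
    intro h
    have := eq_inv_of_mul_eq_one_left h
    rw [hinv z hzX] at this
    exact hzy this.symm
  have hx_yz : x ≠ y * z := by
    intro h
    apply hzxy
    -- z = y * x = x * y
    have : y * x = z := by rw [h, hsst y hyX z]
    rw [← this, hcomm y hyX x hxX]
  have hy_xz : y ≠ x * z := by
    intro h
    apply hzxy
    have : x * y = z := by rw [h, hsst x hxX z]
    exact this.symm
  have hxy_z : x * y ≠ z := fun h => hzxy h.symm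
  have hxy_xz : x * y ≠ x * z := fun h => hzy (mul_left_cancel h).symm
  have hyz : y ≠ z := fun h => hzy h.symm
  -- product identities
  have p_y_xz : y * (x * z) = x * (y * z) := by
    rw [← mul_assoc, hcomm y hyX x hxX, mul_assoc]
  have p_xy_z : x * y * z = x * (y * z) := mul_assoc _ _ _
  have p_xy_xz : x * y * (x * z) = y * z := by
    rw [hcomm x hxX y hyX, mul_assoc, hsst x hxX z]
  -- u, v eigenvectors
  have hu := L2 x hxX y hyX hx hy1 hxy
  have hv := L2 x hxX z hzX hx hz1 (fun h => hzx h.symm)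
  have hw := L2 x hxX (y * z) hyzX hx hyz1 hx_yz
  -- product of u and v
  have huv : mul (ax y - ax (x * y)) (ax z - ax (x * z)) =
      (1 / 4 : ℝ) • (ax (x * (y * z)) - ax (y * z)) := by
    have e1 := h2A y hyX z hzX hy1 hz1 hyz
    have e2 := h2A y hyX (x * z) hxzX hy1 hxz1 hy_xz
    have e3 := h2A (x * y) hxyX z hzX hxy1 hz1 hxy_z
    have e4 := h2A (x * y) hxyX (x * z) hxzX hxy1 hxz1 hxy_xz
    rw [p_y_xz] at e2
    rw [p_xy_z] at e3
    rw [p_xy_xz] at e4
    simp only [map_sub, LinearMap.sub_apply, e1, e2, e3, e4]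
    module
  obtain ⟨w1, w0, hsum, hw1, hw0⟩ := hfus x hxX hx _ _ hu hv
  rw [huv] at hsum
  -- W = a_{xyz} - a_{yz} is a 1/4-eigenvector and lies in E_1 + E_0
  set W : V := ax (x * (y * z)) - ax (y * z) with hWdef
  have hWeig : mul (ax x) W = (1 / 4 : ℝ) • W := by
    have : W = -(ax (y * z) - ax (x * (y * z))) := by rw [hWdef]; abel
    rw [this, map_neg, hw, smul_neg]
  have hW : W = (4 : ℝ) • w1 + (4 : ℝ) • w0 := by
    have : W = (4 : ℝ) • ((1 / 4 : ℝ) • W) := by rw [smul_smul]; norm_num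
    rw [this, hsum, smul_add]
  -- apply a_x
  have h3 : mul (ax x) W = (4 : ℝ) • w1 := by
    rw [hW, map_add, map_smul, map_smul, hw1, hw0, smul_zero, add_zero]
  have h4 : (4 : ℝ) • w1 = w1 + w0 := by
    rw [← h3, hWeig, hsum]
  have h5 : w0 = (3 : ℝ) • w1 := by
    have : w0 = (4 : ℝ) • w1 - w1 := by rw [h4]; abel
    rw [this]; module
  have h6 : w1 = 0 := by
    have : mul (ax x) w0 = (3 : ℝ) • w1 := by rw [h5, map_smul, hw1]
    rw [hw0] at this
    have h7 : (3 : ℝ) • w1 = 0 := this.symm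
    rcases smul_eq_zero.mp h7 with h | h
    · norm_num at h
    · exact h
  have hW0 : W = 0 := by rw [hW, h5, h6]; simp
  -- contradiction with inner products
  have heq : ax (x * (y * z)) = ax (y * z) := sub_eq_zero.mp hW0
  have hxyzX : x * (y * z) ∈ X := X.mul_mem hxX hyzX
  have hxyz1 : x * (y * z) ≠ 1 := by
    intro h
    have := eq_inv_of_mul_eq_one_left h
    rw [hinv _ hyzX] at this
    exact hx_yz this
  have hne : y * z ≠ x * (y * z) := by
    intro h
    apply hx
    have : 1 * (y * z) = x * (y * z) := by rw [one_mul]; exact h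
    exact (mul_right_cancel this).symm
  have := L1 (y * z) hyzX (x * (y * z)) hxyzX hyz1 hxyz1 hne
  rw [heq, h1 (y * z) hyzX hyz1] at this
  norm_num at this

end core

/-- Majorana setting: an elementary abelian 2-group of Majorana involutions whose axes pairwise generate 2A-type subalgebras has order at most 4. -/
theorem result {V : Type*} [AddCommGroup V] [Module ℝ V] [FiniteDimensional ℝ V] (mul : V →ₗ[ℝ] V →ₗ[ℝ] V) (B : LinearMap.BilinForm ℝ V) (hV : Cfsg.Axial.IsMajoranaAmbient mul B) (X : Subgroup (V ≃ₗ[ℝ] V)) (hX : ∀ x ∈ X, x * x = 1) (ax : (V ≃ₗ[ℝ] V) → V) (hax : ∀ x ∈ X, x ≠ 1 → Cfsg.Axial.IsMajoranaPair mul B x (ax x)) (h1 : ∀ x ∈ X, x ≠ 1 → B (ax x) (ax x) = 1) (h2A : ∀ x ∈ X, ∀ y ∈ X, x ≠ 1 → y ≠ 1 → x ≠ y → mul (ax x) (ax y) = (1 / 8 : ℝ) • (ax x + ax y - ax (x * y))) : Nat.card ↥X ≤ 4 := by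
  obtain ⟨-, -, -, hassoc, -⟩ := hV
  refine core X hX mul B ax ?_ hassoc ?_ h1 h2A
  · intro x hx hx1
    exact (hax x hx hx1).2.2.1.1.2.1
  · intro x hx hx1 u v hu hv
    obtain ⟨-, -, hprim, -⟩ := hax x hx hx1
    obtain ⟨⟨-, -, -, hlaw⟩, -⟩ := hprim
    have hmem : (1 / 4 : ℝ) ∈ Cfsg.Axial.majoranaSpectrum := by
      simp [Cfsg.Axial.majoranaSpectrum]
    have hu' : u ∈ Cfsg.Axial.eigen mul (ax x) (1 / 4) := by
      rw [Cfsg.Axial.eigen, Module.End.mem_eigenspace_iff]; exact hu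
    have hv' : v ∈ Cfsg.Axial.eigen mul (ax x) (1 / 4) := by
      rw [Cfsg.Axial.eigen, Module.End.mem_eigenspace_iff]; exact hv
    have h := hlaw (1 / 4) hmem (1 / 4) hmem u hu' v hv'
    have hlaw_eq : Cfsg.Axial.monsterLaw (1 / 4 : ℝ) (1 / 32) (1 / 4) (1 / 4) = {1, 0} := by
      unfold Cfsg.Axial.monsterLaw
      norm_num
    rw [hlaw_eq, Cfsg.Axial.eigenSum, iSup_insert, iSup_singleton] at h
    obtain ⟨w1, hw1, w0, hw0, hsum⟩ := Submodule.mem_sup.mp h
    refine ⟨w1, w0, hsum.symm, ?_, ?_⟩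
    · rw [Cfsg.Axial.eigen, Module.End.mem_eigenspace_iff] at hw1
      simpa using hw1
    · rw [Cfsg.Axial.eigen, Module.End.mem_eigenspace_iff] at hw0
      simpa using hw0

end Cfsg.Agent.S5543
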