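import Mathlib
import Cfsg.Prelude.Def_AxialAlgebras
import Cfsg.Statements.S5545

set_option autoImplicit false

namespace Cfsg.Agent.S5545

open Cfsg Cfsg.Axial

section helpers
variable {V : Type*} [AddCommGroup V] [Module ℝ V] (mul : V →ₗ[ℝ] V →ₗ[ℝ] V)


theorem eigen_map (σ : V ≃ₗ[ℝ] V) (hσ : ∀ u v : V, σ (mul u v) = mul (σ u) (σ v)) (a : V) (c : ℝ) :
    eigen mul (σ a) c = (eigen mul a c).map (σ : V →ₗ[ℝ] V) := by
  ext v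
  simp only [eigen, Module.End.mem_eigenspace_iff, Submodule.mem_map]
  constructor
  · intro h
    refine ⟨σ.symm v, ?_, by simp⟩
    apply σ.injective
    rw [hσ, map_smul]
    simpa using h
  · rintro ⟨w, hw, rfl⟩
    have := congrArg σ hw
    rw [hσ, map_smul] at this
    simpa using this

theorem eigenSum_map (σ : V ≃ₗ[ℝ] V) (hσ : ∀ u v : V, σ (mul u v) = mul (σ u) (σ v)) (a : V) (S : Set ℝ) :
    eigenSum mul (σ a) S = (eigenSum mul a S).map (σ : V →ₗ[ℝ] V) := by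
  simp only [eigenSum, Submodule.map_iSup, eigen_map mul σ hσ]

theorem transport (B : LinearMap.BilinForm ℝ V) (μ σ : V ≃ₗ[ℝ] V) (a : V)
    (h : IsMajoranaPair mul B μ a) (hσ : ∀ u v : V, σ (mul u v) = mul (σ u) (σ v))
    (hc : μ * σ = σ * μ) : IsMajoranaPair mul B μ (σ a) := by
  obtain ⟨hm, hB, ⟨⟨hne, hidem, htop, hlaw⟩, hprim⟩, hmiy1, hmiy2⟩ := h
  have hcomm : ∀ v, μ (σ v) = σ (μ v) := fun v => by
    have := congrArg (fun f : V ≃ₗ[ℝ] V => f v) hc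
    simpa using this
  refine ⟨hm, hB, ⟨⟨?_, ?_, ?_, ?_⟩, ?_⟩, ?_, ?_⟩
  · intro h0
    apply hne
    apply σ.injective
    rw [h0, map_zero]
  · rw [← hσ, hidem]
  · rw [eigenSum_map mul σ hσ, htop, Submodule.map_top]
    exact LinearMap.range_eq_top.mpr σ.surjective
  · intro c hcS d hdS u hu v hv
    rw [eigen_map mul σ hσ] at hu hv
    obtain ⟨u', hu', rfl⟩ := hu
    obtain ⟨v', hv', rfl⟩ := hv
    rw [eigenSum_map mul σ hσ]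
    refine ⟨mul u' v', hlaw c hcS d hdS u' hu' v' hv', ?_⟩
    simp [hσ]
  · rw [eigen_map mul σ hσ, hprim, Submodule.map_span]
    simp
  · intro v hv
    rw [eigenSum_map mul σ hσ] at hv
    obtain ⟨v', hv', rfl⟩ := hv
    have := hmiy1 v' hv'
    simp only [LinearEquiv.coe_coe] at this ⊢
    rw [hcomm, this]
  · intro v hv
    rw [eigen_map mul σ hσ] at hv
    obtain ⟨v', hv', rfl⟩ := hv
    have := hmiy2 v' hv'
    simp only [LinearEquiv.coe_coe] at this ⊢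
    rw [hcomm, this, map_neg]


theorem law_0_4 : monsterLaw (1 / 4 : ℝ) (1 / 32) 0 (1 / 4) = {1 / 4} := by
  unfold monsterLaw; norm_num
theorem law_0_0 : monsterLaw (1 / 4 : ℝ) (1 / 32) 0 0 = {0} := by
  unfold monsterLaw; norm_num
theorem law_4_4 : monsterLaw (1 / 4 : ℝ) (1 / 32) (1 / 4) (1 / 4) = {1, 0} := by
  unfold monsterLaw; norm_num

theorem mem_eigen_iff (a v : V) (c : ℝ) : v ∈ eigen mul a c ↔ mul a v = c • v := by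
  rw [eigen, Module.End.mem_eigenspace_iff]

theorem decomp (B : LinearMap.BilinForm ℝ V) (hV : IsMajoranaAmbient mul B) (μ₀ : V ≃ₗ[ℝ] V)
    (a₀ a₁ : V) (h₀ : IsMajoranaPair mul B μ₀ a₀) (hfix : μ₀ a₁ = a₁) (hn₀ : B a₀ a₀ = 1) :
    ∃ α₀ α : V, a₁ = (B a₀ a₁) • a₀ + α₀ + α ∧ mul a₀ α₀ = 0 ∧ mul a₀ α = (1 / 4 : ℝ) • α ∧
      mul a₀ (mul α₀ α) = (1 / 4 : ℝ) • mul α₀ α ∧ mul a₀ (mul α₀ α₀) = 0 ∧
      ∃ p₁ p₀ : V, mul α α = p₁ + p₀ ∧ mul a₀ p₁ = p₁ ∧ mul a₀ p₀ = 0 := by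
  obtain ⟨hcomm, hsymm, hpos, hassoc, -⟩ := hV
  obtain ⟨-, -, ⟨⟨hne, hidem, htop, hlaw⟩, hprim⟩, hmiy1, hmiy2⟩ := h₀
  have hmem : a₁ ∈ eigenSum mul a₀ majoranaSpectrum := by rw [htop]; trivial
  rw [majoranaSpectrum, eigenSum, iSup_insert, iSup_insert, iSup_insert, iSup_singleton] at hmem
  obtain ⟨e₁, he₁, r₁, hr₁, hsum₁⟩ := Submodule.mem_sup.mp hmem
  obtain ⟨e₀, he₀, r₂, hr₂, hsum₂⟩ := Submodule.mem_sup.mp hr₁
  obtain ⟨e₄, he₄, e₃₂, he₃₂, hsum₃⟩ := Submodule.mem_sup.mp hr₂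
  -- the 1/32-component vanishes
  have hplus : e₁ + e₀ + e₄ ∈ eigenSum mul a₀ {1, 0, 1 / 4} := by
    rw [eigenSum, iSup_insert, iSup_insert, iSup_singleton]
    exact Submodule.add_mem _ (Submodule.add_mem _ (Submodule.mem_sup_left he₁)
      (Submodule.mem_sup_right (Submodule.mem_sup_left he₀)))
      (Submodule.mem_sup_right (Submodule.mem_sup_right he₄))
  have h1 := hmiy1 _ hplus
  have h2 := hmiy2 _ he₃₂
  simp only [LinearEquiv.coe_coe] at h1 h2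
  have ha₁ : a₁ = e₁ + e₀ + e₄ + e₃₂ := by
    rw [← hsum₁, ← hsum₂, ← hsum₃]; abel
  have h32 : e₃₂ = 0 := by
    have h3 : μ₀ a₁ = e₁ + e₀ + e₄ - e₃₂ := by
      rw [ha₁, map_add, h1, h2]; abel
    rw [hfix, ha₁] at h3
    have h4 : (2 : ℝ) • e₃₂ = 0 := by
      have : e₃₂ + e₃₂ = 0 := by
        have := sub_eq_zero.mpr h3
        rw [← this]; abel
      rw [two_smul]; exact this
    rcases smul_eq_zero.mp h4 with h | h
    · norm_num at h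
    · exact h
  rw [h32, add_zero] at ha₁
  rw [mem_eigen_iff] at he₀ he₄
  rw [hprim] at he₁
  obtain ⟨k, hk⟩ := Submodule.mem_span_singleton.mp he₁
  have he₀' : mul a₀ e₀ = 0 := by rw [he₀, zero_smul]
  -- k = B a₀ a₁
  have hB0 : B a₀ e₀ = 0 := by
    have : B a₀ e₀ = B (mul a₀ a₀) e₀ := by rw [hidem]
    rw [this, ← hassoc, he₀', map_zero]
  have hB4 : B a₀ e₄ = 0 := by
    have h5 : B a₀ e₄ = B (mul a₀ a₀) e₄ := by rw [hidem]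
    rw [← hassoc, he₄, map_smul, smul_eq_mul] at h5
    linarith
  have hk' : k = B a₀ a₁ := by
    rw [ha₁, ← hk, map_add, map_add, map_smul, hn₀, hB0, hB4]
    simp
  refine ⟨e₀, e₄, ?_, he₀', he₄, ?_, ?_, ?_⟩
  · rw [← hk', hk]; exact ha₁
  · have hS0 : (0 : ℝ) ∈ majoranaSpectrum := by simp [majoranaSpectrum]
    have hS4 : (1 / 4 : ℝ) ∈ majoranaSpectrum := by simp [majoranaSpectrum]
    have := hlaw 0 hS0 (1 / 4) hS4 e₀ ((mem_eigen_iff mul _ _ _).mpr he₀) e₄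
      ((mem_eigen_iff mul _ _ _).mpr he₄)
    rw [law_0_4, eigenSum, iSup_singleton, mem_eigen_iff] at this
    exact this
  · have hS0 : (0 : ℝ) ∈ majoranaSpectrum := by simp [majoranaSpectrum]
    have := hlaw 0 hS0 0 hS0 e₀ ((mem_eigen_iff mul _ _ _).mpr he₀) e₀
      ((mem_eigen_iff mul _ _ _).mpr he₀)
    rw [law_0_0, eigenSum, iSup_singleton, mem_eigen_iff, zero_smul] at this
    exact this
  · have hS4 : (1 / 4 : ℝ) ∈ majoranaSpectrum := by simp [majoranaSpectrum]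
    have := hlaw (1 / 4) hS4 (1 / 4) hS4 e₄ ((mem_eigen_iff mul _ _ _).mpr he₄) e₄
      ((mem_eigen_iff mul _ _ _).mpr he₄)
    rw [law_4_4, eigenSum, iSup_insert, iSup_singleton] at this
    obtain ⟨p₁, hp₁, p₀, hp₀, hsum⟩ := Submodule.mem_sup.mp this
    rw [mem_eigen_iff] at hp₁ hp₀
    exact ⟨p₁, p₀, hsum.symm, by simpa using hp₁, by simpa using hp₀⟩


theorem coreA (hcomm : ∀ u v : V, mul u v = mul v u) (a₀ a₁ α₀ α : V) (l : ℝ)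
    (h00 : mul a₀ a₀ = a₀) (hdec : a₁ = l • a₀ + α₀ + α)
    (hα₀ : mul a₀ α₀ = 0) (hα : mul a₀ α = (1 / 4 : ℝ) • α) :
    mul a₀ a₁ = l • a₀ + (1 / 4 : ℝ) • α ∧
    mul a₀ (mul a₀ a₁) = (3 * l / 4) • a₀ + (1 / 4 : ℝ) • mul a₀ a₁ := by
  have hs : mul a₀ a₁ = l • a₀ + (1 / 4 : ℝ) • α := by
    rw [hdec, map_add, map_add, map_smul, h00, hα₀, hα, add_zero]
  refine ⟨hs, ?_⟩
  rw [hs, map_add, map_smul, map_smul, h00, hα]
  module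

theorem coreB (hcomm : ∀ u v : V, mul u v = mul v u) (a₀ a₁ α₀ α : V) (l : ℝ)
    (h00 : mul a₀ a₀ = a₀) (h11 : mul a₁ a₁ = a₁) (hdec : a₁ = l • a₀ + α₀ + α)
    (hα₀ : mul a₀ α₀ = 0) (hα : mul a₀ α = (1 / 4 : ℝ) • α)
    (f1 : mul a₀ (mul α₀ α) = (1 / 4 : ℝ) • mul α₀ α) (f2 : mul a₀ (mul α₀ α₀) = 0)
    (f3 : ∃ p₁ p₀ : V, mul α α = p₁ + p₀ ∧ mul a₀ p₁ = p₁ ∧ mul a₀ p₀ = 0) :
    (2 : ℝ) • mul α₀ α = (1 - l / 2) • α := by
  obtain ⟨p₁, p₀, hαα, hp₁, hp₀⟩ := f3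
  have hα₀' : mul α₀ a₀ = 0 := by rw [hcomm, hα₀]
  have hα' : mul α a₀ = (1 / 4 : ℝ) • α := by rw [hcomm, hα]
  have hαα₀ : mul α α₀ = mul α₀ α := hcomm _ _
  have expand : mul a₁ a₁ = (l ^ 2) • a₀ + (l / 2) • α + mul α₀ α₀ + (2 : ℝ) • mul α₀ α + (p₁ + p₀) := by
    rw [← hαα]
    conv_lhs => rw [hdec]
    simp only [map_add, map_smul, LinearMap.add_apply, LinearMap.smul_apply, h00, hα₀, hα, hα₀',
      hα', hαα₀]
    module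
  obtain ⟨w₁, hw₁⟩ : ∃ w₁ : V, w₁ = (l ^ 2) • a₀ + p₁ - l • a₀ := ⟨_, rfl⟩
  obtain ⟨w₀, hw₀⟩ : ∃ w₀ : V, w₀ = mul α₀ α₀ + p₀ - α₀ := ⟨_, rfl⟩
  obtain ⟨w₄, hw₄⟩ : ∃ w₄ : V, w₄ = (l / 2) • α + (2 : ℝ) • mul α₀ α - α := ⟨_, rfl⟩
  have hsum : w₁ + w₀ + w₄ = 0 := by
    have h : mul a₁ a₁ - a₁ = 0 := by rw [h11, sub_self]
    rw [expand] at h
    conv at h => lhs; rhs; rw [hdec]
    rw [← h, hw₁, hw₀, hw₄]
    module
  have hL₁ : mul a₀ w₁ = w₁ := by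
    rw [hw₁, map_sub, map_add, map_smul, map_smul, h00, hp₁]
  have hL₀ : mul a₀ w₀ = 0 := by
    rw [hw₀, map_sub, map_add, f2, hp₀, hα₀]; simp
  have hL₄ : mul a₀ w₄ = (1 / 4 : ℝ) • w₄ := by
    rw [hw₄, map_sub, map_add, map_smul, map_smul, f1, hα]
    module
  have e1 : w₁ + (1 / 4 : ℝ) • w₄ = 0 := by
    have := congrArg (mul a₀) hsum
    rw [map_add, map_add, hL₁, hL₀, hL₄, map_zero, add_zero] at this
    exact this
  have e2 : w₁ + (1 / 16 : ℝ) • w₄ = 0 := by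
    have := congrArg (mul a₀) e1
    rw [map_add, map_smul, hL₁, hL₄, map_zero, smul_smul] at this
    rw [← this]; norm_num
  have e3 : w₄ = 0 := by
    have : (3 / 16 : ℝ) • w₄ = 0 := by
      have h := sub_eq_zero.mpr (e1.trans e2.symm)
      rw [← h]; module
    rcases smul_eq_zero.mp this with h | h
    · norm_num at h
    · exact h
  rw [hw₄] at e3
  have := sub_eq_zero.mp e3
  -- (l/2) α + 2 α₀α = α
  calc (2 : ℝ) • mul α₀ α = ((l / 2) • α + (2 : ℝ) • mul α₀ α) - (l / 2) • α := by abel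
    _ = α - (l / 2) • α := by rw [this]
    _ = (1 - l / 2) • α := by module

theorem coreC (hcomm : ∀ u v : V, mul u v = mul v u) (a₀ a₁ α₀ α s : V) (l : ℝ)
    (h00 : mul a₀ a₀ = a₀) (hdec : a₁ = l • a₀ + α₀ + α) (hs : s = mul a₀ a₁)
    (hsα : s = l • a₀ + (1 / 4 : ℝ) • α)
    (r0 : mul a₀ s = (3 * l / 4) • a₀ + (1 / 4 : ℝ) • s)
    (r1 : mul a₁ s = (3 * l / 4) • a₁ + (1 / 4 : ℝ) • s)
    (hB : (2 : ℝ) • mul α₀ α = (1 - l / 2) • α) :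
    (16 : ℝ) • mul s s = (3 * l) • a₁ + (4 * l - 1) • s + (8 * l ^ 2 + 2 * l) • a₀ := by
  have hα : α = (4 : ℝ) • s - (4 * l) • a₀ := by rw [hsα]; module
  have hα₀ : α₀ = a₁ + (3 * l) • a₀ - (4 : ℝ) • s := by
    have : α₀ = a₁ - l • a₀ - α := by rw [hdec]; abel
    rw [this, hα]; module
  have h10 : mul a₁ a₀ = s := by rw [hcomm, hs]
  have hs0 : mul s a₀ = (3 * l / 4) • a₀ + (1 / 4 : ℝ) • s := by rw [hcomm, r0]
  have expand : mul α₀ α = (3 * l) • a₁ + (1 + 3 * l) • s + (9 * l ^ 2) • a₀ - (16 : ℝ) • mul s s := by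
    rw [hα₀, hα]
    simp only [map_add, map_sub, map_smul, LinearMap.add_apply, LinearMap.sub_apply,
      LinearMap.smul_apply, h00, h10, r0, r1, hs0]
    module
  rw [expand, hα] at hB
  have : (32 : ℝ) • mul s s = (2 : ℝ) • ((3 * l) • a₁ + (1 + 3 * l) • s + (9 * l ^ 2) • a₀)
      - (1 - l / 2) • ((4 : ℝ) • s - (4 * l) • a₀) := by
    rw [← hB]; module
  have h16 : (16 : ℝ) • mul s s = (1 / 2 : ℝ) • ((32 : ℝ) • mul s s) := by module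
  rw [h16, this]
  module

end helpers

theorem result {V : Type*} [AddCommGroup V] [Module ℝ V] [FiniteDimensional ℝ V] (mul : V →ₗ[ℝ] V →ₗ[ℝ] V) (B : LinearMap.BilinForm ℝ V) (hV : Cfsg.Axial.IsMajoranaAmbient mul B) (μ₀ μ₁ : V ≃ₗ[ℝ] V) (a₀ a₁ : V) (h₀ : Cfsg.Axial.IsMajoranaPair mul B μ₀ a₀) (h₁ : Cfsg.Axial.IsMajoranaPair mul B μ₁ a₁) (hu₀ : ∀ a : V, Cfsg.Axial.IsMajoranaPair mul B μ₀ a → a = a₀) (hu₁ : ∀ a : V, Cfsg.Axial.IsMajoranaPair mul B μ₁ a → a = a₁) (hn₀ : B a₀ a₀ = 1) (hn₁ : B a₁ a₁ = 1) (hc : μ₀ * μ₁ = μ₁ * μ₀) (hne : a₀ ≠ a₁) : (B a₀ a₁ = 0 ∧ mul a₀ a₁ = 0) ∨ (B a₀ a₁ = 1 / 8 ∧ mul (a₀ + a₁ - (8 : ℝ) • mul a₀ a₁) (a₀ + a₁ - (8 : ℝ) • mul a₀ a₁) = a₀ + a₁ - (8 : ℝ) • mul a₀ a₁ ∧ mul a₀ (a₀ + a₁ - (8 : ℝ) • mul a₀ a₁) = (1 / 8 : ℝ) • (a₀ + (a₀ + a₁ - (8 : ℝ) • mul a₀ a₁) - a₁) ∧ mul a₁ (a₀ + a₁ - (8 : ℝ) • mul a₀ a₁) = (1 / 8 : ℝ) •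 (a₁ + (a₀ + a₁ - (8 : ℝ) • mul a₀ a₁) - a₀)) := by
  have hV' := hV
  obtain ⟨hcomm, hsymm, hpos, hassoc, hnorton⟩ := hV'
  have hfix01 : μ₁ a₀ = a₀ := hu₀ _ (transport mul B μ₀ μ₁ a₀ h₀ h₁.1 hc)
  have hfix10 : μ₀ a₁ = a₁ := hu₁ _ (transport mul B μ₁ μ₀ a₁ h₁ h₀.1 hc.symm)
  have h00 : mul a₀ a₀ = a₀ := h₀.2.2.1.1.2.1
  have h11 : mul a₁ a₁ = a₁ := h₁.2.2.1.1.2.1
  obtain ⟨α₀, α, hdec, hα₀, hα, f1, f2, f3⟩ := decomp mul B hV μ₀ a₀ a₁ h₀ hfix10 hn₀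
  obtain ⟨β₀, β, hdec', hβ₀, hβ, g1, g2, g3⟩ := decomp mul B hV μ₁ a₁ a₀ h₁ hfix01 hn₁
  obtain ⟨l, hl⟩ : ∃ l : ℝ, l = B a₀ a₁ := ⟨_, rfl⟩
  have hl' : B a₁ a₀ = l := by rw [hl]; exact hsymm _ _
  rw [← hl] at hdec
  rw [hl'] at hdec'
  obtain ⟨s, hs⟩ : ∃ s : V, s = mul a₀ a₁ := ⟨_, rfl⟩
  have hs' : s = mul a₁ a₀ := by rw [hs]; exact hcomm _ _
  obtain ⟨hsα, r0⟩ := coreA mul hcomm a₀ a₁ α₀ α l h00 hdec hα₀ hα
  obtain ⟨hsβ, r1⟩ := coreA mul hcomm a₁ a₀ β₀ β l h11 hdec' hβ₀ hβ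
  rw [← hs] at hsα r0
  rw [← hs'] at hsβ r1
  have hB0 := coreB mul hcomm a₀ a₁ α₀ α l h00 h11 hdec hα₀ hα f1 f2 f3
  have hB1 := coreB mul hcomm a₁ a₀ β₀ β l h11 h00 hdec' hβ₀ hβ g1 g2 g3
  have hC0 := coreC mul hcomm a₀ a₁ α₀ α s l h00 hdec hs hsα r0 r1 hB0
  have hC1 := coreC mul hcomm a₁ a₀ β₀ β s l h11 hdec' hs' hsβ r1 r0 hB1
  have hdiff : (l - 8 * l ^ 2) • (a₁ - a₀) = 0 := by
    have h := sub_eq_zero.mpr (hC0.symm.trans hC1)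
    rw [← h]; module
  have hcases : l = 0 ∨ l = 1 / 8 := by
    rcases smul_eq_zero.mp hdiff with h | h
    · have : l * (1 - 8 * l) = 0 := by ring_nf; ring_nf at h; linarith
      rcases mul_eq_zero.mp this with h1 | h1
      · left; exact h1
      · right; linarith
    · exact absurd (sub_eq_zero.mp h).symm hne
  rw [← hl, ← hs]
  rcases hcases with h0 | h8
  · left
    refine ⟨h0, ?_⟩
    by_contra hsne
    have hp := hpos s hsne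
    have hn := hnorton a₀ a₁
    rw [h00, h11, ← hs, ← hl, h0] at hn
    linarith
  · right
    have hs0 : mul s a₀ = (3 * l / 4) • a₀ + (1 / 4 : ℝ) • s := by rw [hcomm, r0]
    have hs1 : mul s a₁ = (3 * l / 4) • a₁ + (1 / 4 : ℝ) • s := by rw [hcomm, r1]
    have h10 : mul a₁ a₀ = s := hs'.symm
    have h01 : mul a₀ a₁ = s := hs.symm
    have hss : mul s s = (1 / 16 : ℝ) • ((3 * l) • a₁ + (4 * l - 1) • s + (8 * l ^ 2 + 2 * l) • a₀) := by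
      rw [← hC0]; module
    refine ⟨h8, ?_, ?_, ?_⟩
    · simp only [map_add, map_sub, map_smul, LinearMap.add_apply, LinearMap.sub_apply,
        LinearMap.smul_apply, h00, h11, h10, h01, r0, r1, hs0, hs1, hss]
      rw [h8]
      module
    · simp only [map_add, map_sub, map_smul, h00, h01, r0]
      rw [h8]
      module
    · simp only [map_add, map_sub, map_smul, h11, h10, r1]
      rw [h8]
      module

end Cfsg.Agent.S5545
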