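import Mathlib
import Cfsg.Statements.S5548
import Cfsg.Agent.Lib.H27.GolayInv
import Cfsg.Agent.S5393

set_option autoImplicit false
open Cfsg

namespace Cfsg.Agent.S5548

open Finset Cfsg.Agent.Lib.H28 Cfsg.Agent.Lib.H27
open scoped Pointwise

theorem one_fun : (fun _ : GolayPt => (1 : ZMod 2)) = 1 := rfl

theorem actW_one (σ : Equiv.Perm GolayPt) : actW σ 1 = 1 := rfl

theorem actW_add (σ : Equiv.Perm GolayPt) (u v : GolayPt → ZMod 2) :
    actW σ (u + v) = actW σ u + actW σ v := rfl

theorem actW_smul (σ : Equiv.Perm GolayPt) (a : ZMod 2) (u : GolayPt → ZMod 2) :
    actW σ (a • u) = a • actW σ u := rfl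

theorem mem_span_one {w : GolayPt → ZMod 2} :
    w ∈ Submodule.span (ZMod 2) {(1 : GolayPt → ZMod 2)} ↔ w = 0 ∨ w = 1 := by
  rw [Submodule.mem_span_singleton]
  constructor
  · rintro ⟨a, rfl⟩
    have : a = 0 ∨ a = 1 := by
      have : ∀ b : ZMod 2, b = 0 ∨ b = 1 := by decide
      exact this a
    rcases this with rfl | rfl
    · left; simp
    · right; simp
  · rintro (rfl | rfl)
    · exact ⟨0, by simp⟩
    · exact ⟨1, by simp⟩

theorem invSub_golayCode : InvSub golayCode := fun _ hσ _ hw => comp_symm_mem_of_mem_M24 hσ hw

/-- Invariant subspaces of the code. -/
theorem inv_le_code {U : Submodule (ZMod 2) (GolayPt → ZMod 2)} (hU : InvSub U)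
    (hle : U ≤ golayCode) :
    U = ⊥ ∨ U = Submodule.span (ZMod 2) {(1 : GolayPt → ZMod 2)} ∨ U = golayCode := by
  by_cases h1 : (1 : GolayPt → ZMod 2) ∈ U
  · right
    exact Cfsg.Agent.S5393.result.2 U h1 hle hU
  · -- adjoin the all-ones word
    set U' := U ⊔ Submodule.span (ZMod 2) {(1 : GolayPt → ZMod 2)} with hU'
    have h1U' : (1 : GolayPt → ZMod 2) ∈ U' :=
      Submodule.mem_sup_right (Submodule.subset_span rfl)
    have hle' : U' ≤ golayCode := by
      apply sup_le hle
      rw [Submodule.span_le]
      intro x hx
      rw [Set.mem_singleton_iff] at hx
      rw [hx]; exact one_mem_golayCode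
    have hinv' : InvSub U' := by
      intro σ hσ w hw
      rw [hU', Submodule.mem_sup] at hw
      obtain ⟨y, hy, z, hz, rfl⟩ := hw
      rw [actW_add]
      apply Submodule.add_mem
      · exact Submodule.mem_sup_left (hU σ hσ y hy)
      · apply Submodule.mem_sup_right
        rcases mem_span_one.1 hz with rfl | rfl
        · exact Submodule.zero_mem _
        · exact Submodule.subset_span rfl
    rcases Cfsg.Agent.S5393.result.2 U' h1U' hle' hinv' with h | h
    · left
      rw [Submodule.eq_bot_iff]
      intro u hu
      have : u ∈ U' := Submodule.mem_sup_left hu
      rw [h] at this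
      rcases mem_span_one.1 this with rfl | rfl
      · rfl
      · exact absurd hu h1
    · exfalso
      -- no octad word lies in `U`
      have hno : ∀ o ∈ U, hammingNorm o ≠ 8 := by
        intro o hoU ho8
        apply h1
        have hoC : o ∈ golayCode := hle hoU
        have ho : support₂ o ∈ octads := ⟨⟨o, hoC, rfl⟩, by rw [card_support₂_eq]; exact ho8⟩
        have : golayCode ≤ U := by
          rw [← span_octads golayCode_isAbsGolay, Submodule.span_le]
          rintro o' ⟨ho'C, ho'8⟩
          have ho' : support₂ o' ∈ octads :=
            ⟨⟨o', ho'C, rfl⟩, by rw [card_support₂_eq]; exact ho'8⟩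
          obtain ⟨g, hg, hgo⟩ := exists_M24_smul_octad ho ho'
          exact Cfsg.Agent.S5393.mem_of_smul_support hU hoU hg hgo
        exact this one_mem_golayCode
      have hoct : ∀ m : ℕ, inC m = true → popc m = 8 → W m + 1 ∈ U := by
        intro m hm hp
        have hmC : W m ∈ U' := by rw [h]; exact W_mem_of_inC hm
        rw [hU', Submodule.mem_sup] at hmC
        obtain ⟨y, hy, z, hz, hyz⟩ := hmC
        rcases mem_span_one.1 hz with rfl | rfl
        · exfalso
          rw [add_zero] at hyz
          rw [hyz] at hy
          exact hno _ hy (by rw [hammingNorm_W]; exact hp)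
        · rw [← hyz, add_assoc, add_self', add_zero]; exact hy
      have h1' := hoct 13062145 (by decide +kernel) (by decide +kernel)
      have h2' := hoct 4845570 (by decide +kernel) (by decide +kernel)
      have h3 : W (13062145 ^^^ 4845570) ∈ U := by
        rw [W_xor]
        have := U.add_mem h1' h2'
        have e : W 13062145 + 1 + (W 4845570 + 1) = W 13062145 + W 4845570 := by
          rw [add_add_add_comm, add_self', add_zero]
        rwa [e] at this
      exact hno _ h3 (by rw [hammingNorm_W]; decide +kernel)

theorem code_le_evenW : (golayCode : Set (GolayPt → ZMod 2)) ⊆ evenW := by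
  intro c hc
  show ∑ p, c p = 0
  rw [sum_eq_card_supp, supp_eq_support₂]
  obtain ⟨t, ht⟩ := golay_doubly_even c hc
  rw [ht]
  push_cast
  have : (4 : ZMod 2) = 0 := by decide
  rw [this, zero_mul]

theorem result (W : Submodule (ZMod 2) (Cfsg.GolayPt → ZMod 2)) (hW : ∀ σ ∈ Cfsg.M24, ∀ w ∈ W, (fun p => w (σ.symm p)) ∈ W) : W = ⊥ ∨ W = Submodule.span (ZMod 2) {fun _ => (1 : ZMod 2)} ∨ W = Cfsg.golayCode ∨ (W : Set (Cfsg.GolayPt → ZMod 2)) = {w | ∑ p, w p = 0} ∨ W = ⊤ := by
  classical
  have hInv : InvSub W := hW
  rw [one_fun]
  -- consequences of containing all even words
  have hbig : evenW ⊆ W → (W : Set (GolayPt → ZMod 2)) = evenW ∨ W = ⊤ := by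
    intro hE
    by_cases hsub : (W : Set (GolayPt → ZMod 2)) ⊆ evenW
    · exact Or.inl (Set.Subset.antisymm hsub hE)
    · right
      obtain ⟨y, hyW, hyE⟩ := Set.not_subset.1 hsub
      have hy1 : ∑ p, y p = 1 := by
        have : ∀ a : ZMod 2, a ≠ 0 → a = 1 := by decide
        exact this _ hyE
      rw [Submodule.eq_top_iff']
      intro v
      by_cases hv : v ∈ evenW
      · exact hE hv
      · have hv1 : ∑ p, v p = 1 := by
          have : ∀ a : ZMod 2, a ≠ 0 → a = 1 := by decide
          exact this _ hv
        have hvy : v + y ∈ evenW := by
          show ∑ p, (v + y) p = 0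
          simp only [Pi.add_apply, Finset.sum_add_distrib, hv1, hy1]
          decide
        have := W.add_mem (hE hvy) hyW
        rwa [add_assoc, add_self', add_zero] at this
  by_cases hC : golayCode ≤ W
  · by_cases hWC : W ≤ golayCode
    · right; right; left
      exact le_antisymm hWC hC
    · obtain ⟨x, hxW, hxC⟩ := Set.not_subset.1 hWC
      obtain ⟨e, hxe, he4⟩ := exists_leader x
      have heW : e ∈ W := by
        have := W.add_mem hxW (hC hxe)
        rwa [← add_assoc, add_self', zero_add] at this
      have he0 : e ≠ 0 := by
        rintro rfl
        rw [add_zero] at hxe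
        exact hxC hxe
      have hE : evenW ⊆ W :=
        evenW_le_of_small hInv heW (fun g _ => by rw [add_self']; rfl) he0 he4
      rcases hbig hE with h | h
      · right; right; right; left; exact h
      · right; right; right; right; exact h
  · -- `W` does not contain the code
    have hU : InvSub (W ⊓ golayCode) := by
      intro σ hσ w hw
      exact ⟨hInv σ hσ w hw.1, invSub_golayCode σ hσ w hw.2⟩
    have hUle : W ⊓ golayCode ≤ Submodule.span (ZMod 2) {(1 : GolayPt → ZMod 2)} := by
      rcases inv_le_code hU inf_le_right with h | h | h
      · rw [h]; exact bot_le
      · rw [h]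
      · exfalso
        apply hC
        rw [← h]; exact inf_le_left
    have hnotE : ¬ evenW ⊆ W := fun hE => hC (fun c hc => hE (code_le_evenW hc))
    have hWle : W ≤ Submodule.span (ZMod 2) {(1 : GolayPt → ZMod 2)} := by
      intro x hxW
      by_cases hxC : x ∈ golayCode
      · exact hUle ⟨hxW, hxC⟩
      · exfalso
        obtain ⟨e, hxe, he4⟩ := exists_leader x
        have he0 : e ≠ 0 := by
          rintro rfl
          rw [add_zero] at hxe
          exact hxC hxe
        set c := x + e with hc
        -- `c` is invariant under the pointwise stabiliser of the support of `e`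
        have hfix : ∀ g ∈ M24, (∀ t ∈ supp e, g t = t) → actW g c = c := by
          intro g hg hgt
          have hge : actW g e = e := by
            funext p
            unfold actW
            by_cases hp : p ∈ supp e
            · have : g.symm p = p := by
                rw [Equiv.symm_apply_eq]; exact (hgt p hp).symm
              rw [this]
            · have hp' : g.symm p ∉ supp e := by
                intro h
                have := hgt _ h
                rw [Equiv.apply_symm_apply] at this
                rw [this] at hp
                exact hp h
              have h1 : e p = 0 := by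
                by_contra h; exact hp (mem_supp.2 h)
              have h2 : e (g.symm p) = 0 := by
                by_contra h; exact hp' (mem_supp.2 h)
              rw [h1, h2]
          have hmem : actW g c + c ∈ W ⊓ golayCode := by
            constructor
            · have h1 := W.add_mem (hInv g hg x hxW) hxW
              have : actW g x + x = actW g c + c := by
                rw [hc, actW_add, hge]
                rw [add_add_add_comm, add_self', add_zero]
              rwa [this] at h1
            · exact golayCode.add_mem (invSub_golayCode g hg c hxe) hxe
          rcases mem_span_one.1 (hUle hmem) with h | h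
          · have : actW g c = actW g c + c + c := by
              rw [add_assoc, add_self', add_zero]
            rw [this, h, zero_add]
          · exfalso
            have hne : (supp e).Nonempty := by
              rw [Finset.nonempty_iff_ne_empty, Ne, supp_eq_empty]; exact he0
            obtain ⟨t, ht⟩ := hne
            have h1 := congrFun h t
            have : g.symm t = t := by
              rw [Equiv.symm_apply_eq]; exact (hgt t ht).symm
            simp only [Pi.add_apply, actW, this, Pi.one_apply] at h1
            have : ∀ a : ZMod 2, a + a ≠ 1 := by decide
            exact this _ h1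
        -- `c` is constant off the support of `e`
        have hconst : ∀ p q, p ∉ supp e → q ∉ supp e → c p = c q := by
          intro p q hp hq
          obtain ⟨g, hg, hgfix, hgpq⟩ := exists_M24_fix_move (supp e) he4 p q hp hq
          have h1 := congrFun (hfix g hg hgfix) q
          unfold actW at h1
          have : g.symm q = p := by
            rw [Equiv.symm_apply_eq, hgpq]
          rw [this] at h1
          exact h1
        -- hence `c` is `0` or `1`
        have hc01 : c = 0 ∨ c = 1 := by
          have hex : ∃ b, b ∉ supp e := by
            by_contra hcon
            push Not at hcon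
            have : supp e = Finset.univ := Finset.eq_univ_iff_forall.2 hcon
            have h5 : (supp e).card ≤ 4 := he4
            rw [this, Finset.card_univ] at h5
            have : Fintype.card GolayPt = 24 := by decide
            omega
          obtain ⟨b, hb⟩ := hex
          have hw := golayCode_weight hxe
          rw [hammingNorm_eq_card_supp] at hw
          have h24 : Fintype.card GolayPt = 24 := by decide
          have h5 : (supp e).card ≤ 4 := he4
          by_cases hcb : c b = 0
          · left
            have hsub : supp c ⊆ supp e := by
              intro p hp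
              by_contra hpe
              have := hconst p b hpe hb
              rw [hcb] at this
              exact (mem_supp.1 hp) this
            have := Finset.card_le_card hsub
            have h0 : (supp c).card = 0 := by omega
            rw [Finset.card_eq_zero, supp_eq_empty] at h0
            exact h0
          · right
            have hsub : (supp e)ᶜ ⊆ supp c := by
              intro p hp
              rw [Finset.mem_compl] at hp
              rw [mem_supp, hconst p b hp hb]
              exact hcb
            have := Finset.card_le_card hsub
            rw [Finset.card_compl, h24] at this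
            have h24' : (supp c).card = 24 := by omega
            have : supp c = Finset.univ := by
              apply Finset.eq_univ_of_card
              rw [h24', h24]
            apply supp_injective
            rw [this]
            ext p
            simp [mem_supp]
        apply hnotE
        apply evenW_le_of_small hInv hxW _ he0 he4
        intro g _
        rcases hc01 with h | h
        · rw [← hc, h]; rfl
        · rw [← hc, h]; rfl
    by_cases h1 : (1 : GolayPt → ZMod 2) ∈ W
    · right; left
      apply le_antisymm hWle
      rw [Submodule.span_le]
      intro x hx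
      rw [Set.mem_singleton_iff] at hx
      rw [hx]; exact h1
    · left
      rw [Submodule.eq_bot_iff]
      intro x hx
      rcases mem_span_one.1 (hWle hx) with rfl | rfl
      · rfl
      · exact absurd hx h1

end Cfsg.Agent.S5548
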