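import Mathlib
import Cfsg.Statements.S5551
import Cfsg.Agent.Lib.H27.Leech
import Cfsg.Agent.Lib.H27.GolayFacts

set_option autoImplicit false
open Cfsg

namespace Cfsg.Agent.S5551

open Cfsg.Agent.Lib.H27

/-- In the Leech lattice of the definitions (integer coordinates, minimal squared length 32), let v and w be non-zero lattice vectors of squared length at most 64 that are congruent modulo twice the lattice. Then they have the same squared length, and if that length is less than 64 then w = v or w = −v. (So a class that contains a non-zero vector of squared length at most 64 has a well-defined type 2, 3 or 4, and a class of type 2 or 3 contains no such vector other than v and −v.) -/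
theorem result (v w : Cfsg.GolayPt → ℤ) (hv : v ∈ Cfsg.leechLattice) (hw : w ∈ Cfsg.leechLattice) (hv0 : v ≠ 0) (hw0 : w ≠ 0) (hvn : Cfsg.sqNorm v ≤ 64) (hwn : Cfsg.sqNorm w ≤ 64) (hc : ∃ z ∈ Cfsg.leechLattice, v - w = 2 • z) : Cfsg.sqNorm v = Cfsg.sqNorm w ∧ (Cfsg.sqNorm v < 64 → w = v ∨ w = -v) := by
  obtain ⟨z, hz, hvw⟩ := hc
  by_cases h1 : w = v
  · subst h1; exact ⟨rfl, fun _ => Or.inl rfl⟩
  by_cases h2 : w = -v
  · subst h2
    refine ⟨?_, fun _ => Or.inr rfl⟩
    unfold sqNorm
    apply Finset.sum_congr rfl
    intro i _
    simp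
  -- otherwise both v - w and v + w are nonzero vectors of 2Λ
  have hz0 : z ≠ 0 := by
    intro h
    rw [h, smul_zero] at hvw
    exact h1 (sub_eq_zero.mp hvw).symm
  have hzw : z + w ∈ leechLattice := leechLattice.add_mem hz hw
  have hvw' : v + w = 2 • (z + w) := by
    have : v + w = (v - w) + 2 • w := by rw [two_smul]; abel
    rw [this, hvw, smul_add]
  have hzw0 : z + w ≠ 0 := by
    intro h
    rw [h, smul_zero] at hvw'
    apply h2
    exact (eq_neg_of_add_eq_zero_right hvw')
  have n1 := leech_min_norm golay_doubly_even golay_min_weight hz hz0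
  have n2 := leech_min_norm golay_doubly_even golay_min_weight hzw hzw0
  have e1 : sqNorm (v - w) = 4 * sqNorm z := by rw [hvw]; exact sqNorm_two_smul z
  have e2 : sqNorm (v + w) = 4 * sqNorm (z + w) := by rw [hvw']; exact sqNorm_two_smul _
  have hp := sqNorm_parallelogram v w
  rw [e1, e2] at hp
  constructor
  · linarith
  · intro h; exfalso; linarith

end Cfsg.Agent.S5551
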