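import Cfsg.Statements.S5555
import Cfsg.Agent.Lib.H7.TTSyl4
import Cfsg.Agent.Lib.H7.SU32Inv

set_option autoImplicit false
open Cfsg
open Cfsg.Agent.Lib.H7.TT Cfsg.Agent.Lib.H26.ThreeTrans

namespace Cfsg.Agent.S5555

/-- Let G be a finite group generated by a conjugacy class D of 3-transpositions, with trivial centre and with generalized Fitting subgroup F*(G) = O₂(G) (so the Fitting subgroup is O₂(G) too). If G/O₂(G) is isomorphic to the derived group of SU₃(2) (the group of order 54 generated by nine 3-transpositions), then O₂(G) has a complement in G. -/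
theorem result {G : Type*} [Group G] [Finite G] {D : Set G} (hD : Cfsg.IsThreeTranspositionClass D)
    (hZ : Subgroup.center G = ⊥) (hF : Cfsg.generalizedFittingSubgroup G = Cfsg.pCore 2 G)
    (hq : ∃ (F : Type) (_ : Field F) (_ : Fintype F), Fintype.card F = 4 ∧ Nonempty (G ⧸ Cfsg.pCore 2 G ≃* ↥(commutator ↥(Cfsg.SU 3 F 2)))) :
    ∃ K : Subgroup G, (Cfsg.pCore 2 G).IsComplement' K := by
  obtain ⟨F, _, _, hF4, ⟨e⟩⟩ := hq
  haveI : Fact (Nat.Prime 2) := ⟨Nat.prime_two⟩
  have hS := hD.1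
  have hD2 : ∃ a ∈ D, ∃ b ∈ D, a ≠ b := by
    by_contra hcon
    push Not at hcon
    obtain ⟨d, hd, -⟩ := hD.2.1
    have hcen : d ∈ Subgroup.center G :=
      mem_center_of_commute hD.2.2 (fun x hx => by rw [hcon d hd x hx])
    rw [hZ, Subgroup.mem_bot] at hcen
    exact ne_one hS hd hcen
  obtain ⟨d, hd, -⟩ := hD.2.1
  apply exists_complement_of_veq hD hD2 hd
  intro y hy hc
  let φ : G →* ↥(Cfsg.SU 3 F 2) :=
    (commutator ↥(Cfsg.SU 3 F 2)).subtype.comp
      (e.toMonoidHom.comp (QuotientGroup.mk' (Cfsg.pCore 2 G)))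
  have hker : ∀ g : G, φ g = 1 → g ∈ Cfsg.pCore 2 G := by
    intro g hg
    have h1 : e (QuotientGroup.mk g) = 1 := by
      apply Subtype.ext
      exact hg
    have h2 : (QuotientGroup.mk g : G ⧸ Cfsg.pCore 2 G) = 1 := by
      rw [← e.map_eq_one_iff]
      exact h1
    exact (QuotientGroup.eq_one_iff g).1 h2
  have hx1 : φ d ≠ 1 := fun h => not_mem_pCore_two hD hD2 hd (hker d h)
  have hy1 : φ y ≠ 1 := fun h => not_mem_pCore_two hD hD2 hy (hker y h)
  have hxx : φ d * φ d = 1 := by rw [← map_mul, sq_eq_one hS hd, map_one]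
  have hyy : φ y * φ y = 1 := by rw [← map_mul, sq_eq_one hS hy, map_one]
  have heq := Cfsg.Agent.Lib.H7.SU32Inv.commuting_involutions_eq hF4 hxx hyy hx1 hy1 (hc.map φ)
  have hmem : d * y ∈ Cfsg.pCore 2 G := hker _ (by rw [map_mul, ← heq, hxx])
  exact veq_of_mul_mem hS (Cfsg.Agent.Lib.H1.pCore_isPGroup 2 G) hd hy hmem

end Cfsg.Agent.S5555
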