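-- Statement S5562 (row 5562).
import Cfsg.Statements.S5562

set_option autoImplicit false
open Cfsg

namespace Cfsg.Agent.S5562

/-- an element of odd order whose square is trivial is trivial -/
theorem eq_one_of_sq_of_odd {G : Type*} [Group G] (y : G) (h2 : y * y = 1) (ho : Odd (orderOf y)) :
    y = 1 := by
  have hdvd : orderOf y ∣ 2 := orderOf_dvd_of_pow_eq_one (by rw [pow_two]; exact h2)
  rcases (Nat.dvd_prime Nat.prime_two).mp hdvd with h | h
  · exact orderOf_eq_one_iff.mp h
  · rw [h] at ho; exact absurd ho (by decide)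

theorem mem_conj_iff {G : Type*} [Group G] {a b : G} : b ∈ conjugatesOf a ↔ IsConj a b := Iff.rfl

/-- members of the class of an involution square to one -/
theorem sq_of_mem {G : Type*} [Group G] (d : G) (hd : orderOf d = 2) {e : G}
    (he : e ∈ conjugatesOf d) : e * e = 1 := by
  rw [mem_conj_iff, isConj_iff] at he
  obtain ⟨c, rfl⟩ := he
  have hdd : d * d = 1 := by
    have := pow_orderOf_eq_one d
    rwa [hd, pow_two] at this
  calc c * d * c⁻¹ * (c * d * c⁻¹) = c * (d * d) * c⁻¹ := by group
    _ = 1 := by rw [hdd]; group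

theorem conj_mem {G : Type*} [Group G] (d : G) {e : G} (he : e ∈ conjugatesOf d) (c : G) :
    c * e * c⁻¹ ∈ conjugatesOf d := by
  rw [mem_conj_iff] at he ⊢
  exact he.trans (isConj_iff.mpr ⟨c, rfl⟩)

/-- inversion relation passes to powers -/
theorem inv_rel_pow {G : Type*} [Group G] (e r : G) (h : e * r = r⁻¹ * e) (m : ℕ) :
    e * r ^ m = (r ^ m)⁻¹ * e := by
  induction m with
  | zero => simp
  | succ m ih =>
    calc e * r ^ (m + 1) = (e * r ^ m) * r := by rw [pow_succ]; group
      _ = (r ^ m)⁻¹ * (e * r) := by rw [ih]; group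
      _ = (r ^ m)⁻¹ * (r⁻¹ * e) := by rw [h]
      _ = (r ^ (m + 1))⁻¹ * e := by rw [pow_succ]; group

/-- If `d` is an involution of the finite group `G` such that the product of any two conjugates of `d` has odd order, and `x` is any involution of `G`, then for each conjugate `e` of `d` there is exactly one conjugate `a` of `d` commuting with `x` such that `e` commutes with `a x`. -/
theorem result {G : Type*} [Group G] [Finite G] (d : G) (hd : orderOf d = 2)
    (hodd : ∀ a ∈ conjugatesOf d, ∀ b ∈ conjugatesOf d, Odd (orderOf (a * b)))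
    (x : G) (hx : orderOf x = 2) :
    ∀ e ∈ conjugatesOf d,
      ∃! a : G, a ∈ conjugatesOf d ∧ Commute a x ∧ Commute e (a * x) := by
  intro e he
  have hxx : x * x = 1 := by
    have := pow_orderOf_eq_one x
    rwa [hx, pow_two] at this
  have hxinv : x⁻¹ = x := inv_eq_of_mul_eq_one_right hxx
  have hee : e * e = 1 := sq_of_mem d hd he
  have heinv : e⁻¹ = e := inv_eq_of_mul_eq_one_right hee
  -- f = x e x⁻¹
  obtain ⟨f, hfdef⟩ : ∃ f : G, f = x * e * x⁻¹ := ⟨_, rfl⟩
  have hf : f ∈ conjugatesOf d := hfdef ▸ conj_mem d he x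
  have hff : f * f = 1 := sq_of_mem d hd hf
  obtain ⟨r, hrdef⟩ : ∃ r : G, r = e * f := ⟨_, rfl⟩
  have hrodd : Odd (orderOf r) := hrdef ▸ hodd e he f hf
  obtain ⟨k, hk⟩ := hrodd
  -- u with u^4 = r
  obtain ⟨u, hudef⟩ : ∃ u : G, u = r ^ ((k + 1) ^ 2) := ⟨_, rfl⟩
  have hrn : r ^ (2 * k + 1) = 1 := hk ▸ pow_orderOf_eq_one r
  have hu4 : u ^ 4 = r := by
    rw [hudef, ← pow_mul]
    have : (k + 1) ^ 2 * 4 = (2 * k + 1) * (2 * k + 3) + 1 := by ring
    rw [this, pow_succ, pow_mul, hrn, one_pow, one_mul]
  -- relations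
  have her : e * r = r⁻¹ * e := by
    rw [hrdef]
    calc e * (e * f) = (e * e) * f := by group
      _ = f := by rw [hee, one_mul]
      _ = f * (e * e) := by rw [hee, mul_one]
      _ = (e * f)⁻¹ * e := by
        have : (e * f)⁻¹ = f * e := by
          rw [mul_inv_rev, heinv, inv_eq_of_mul_eq_one_right hff]
        rw [this]; group
  have heu : e * u = u⁻¹ * e := hudef ▸ inv_rel_pow e r her _
  have hf_eq : f = e * u ^ 4 := by
    rw [hu4, hrdef]
    calc f = (e * e) * f := by rw [hee, one_mul]
      _ = e * (e * f) := by group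
  -- x inverts r
  have hxr : x * r = r⁻¹ * x := by
    have h1 : x * e = f * x := by
      rw [hfdef]; group
    have h2 : x * f = e * x := by
      rw [hfdef, hxinv]
      calc x * (x * e * x) = (x * x) * e * x := by group
        _ = e * x := by rw [hxx, one_mul]
    have hrinv : r⁻¹ = f * e := by
      rw [hrdef, mul_inv_rev, heinv, inv_eq_of_mul_eq_one_right hff]
    rw [hrinv, hrdef]
    calc x * (e * f) = (x * e) * f := by group
      _ = f * (x * f) := by rw [h1]; group
      _ = f * e * x := by rw [h2]; group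
  have hxu : x * u = u⁻¹ * x := hudef ▸ inv_rel_pow x r hxr _
  -- more relations: e u⁻¹ = u e
  have heu' : e * u⁻¹ = u * e := by
    calc e * u⁻¹ = u * (u⁻¹ * e) * u⁻¹ := by group
      _ = u * (e * u) * u⁻¹ := by rw [heu]
      _ = u * e := by group
  have hxu' : x * u⁻¹ = u * x := by
    calc x * u⁻¹ = u * (u⁻¹ * x) * u⁻¹ := by group
      _ = u * (x * u) * u⁻¹ := by rw [hxu]
      _ = u * x := by group
  have hxe : x * e = e * u ^ 4 * x := by
    rw [← hf_eq, hfdef]; group
  have h4 : u ^ 4 = u * u * u * u := by simp only [pow_succ, pow_zero, one_mul]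
  -- the element a
  obtain ⟨a, hadef⟩ : ∃ a : G, a = u⁻¹ * e * u := ⟨_, rfl⟩
  have ha_eq : a = u⁻¹ * u⁻¹ * e := by
    rw [hadef]
    calc u⁻¹ * e * u = u⁻¹ * (e * u) := by group
      _ = u⁻¹ * (u⁻¹ * e) := by rw [heu]
      _ = u⁻¹ * u⁻¹ * e := by group
  have haD : a ∈ conjugatesOf d := by
    have := conj_mem d he u⁻¹
    rw [inv_inv] at this
    rw [hadef]; exact this
  have haa : a * a = 1 := sq_of_mem d hd haD
  have hainv : a⁻¹ = a := inv_eq_of_mul_eq_one_right haa
  have hax : Commute a x := by
    show a * x = x * a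
    have h1 : x * a = u * (e * u ^ 4) * u⁻¹ * x := by
      rw [hadef]
      calc x * (u⁻¹ * e * u) = (x * u⁻¹) * e * u := by group
        _ = u * (x * e) * u := by rw [hxu']; group
        _ = u * (e * u ^ 4) * (x * u) := by rw [hxe]; group
        _ = u * (e * u ^ 4) * (u⁻¹ * x) := by rw [hxu]
        _ = u * (e * u ^ 4) * u⁻¹ * x := by group
    have h2 : u * (e * u ^ 4) * u⁻¹ = a := by
      rw [ha_eq]
      calc u * (e * u ^ 4) * u⁻¹ = u * (e * u) * u * u := by
            rw [h4]; group
        _ = u * (u⁻¹ * e) * u * u := by rw [heu]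
        _ = (e * u) * u := by group
        _ = (u⁻¹ * e) * u := by rw [heu]
        _ = u⁻¹ * (e * u) := by group
        _ = u⁻¹ * (u⁻¹ * e) := by rw [heu]
        _ = u⁻¹ * u⁻¹ * e := by group
    rw [h1, h2]
  have heax : Commute e (a * x) := by
    show e * (a * x) = a * x * e
    -- a x e = a f x = a (e u^4) x and e a x
    have h1 : a * x * e = a * (e * u ^ 4) * x := by
      calc a * x * e = a * (x * e) := by group
        _ = a * (e * u ^ 4 * x) := by rw [hxe]
        _ = a * (e * u ^ 4) * x := by group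
    have h2 : a * (e * u ^ 4) = e * a := by
      rw [ha_eq, h4]
      calc u⁻¹ * u⁻¹ * e * (e * (u * u * u * u)) = u⁻¹ * u⁻¹ * (e * e) * (u * u * u * u) := by group
        _ = u⁻¹ * u⁻¹ * (u * u * u * u) := by rw [hee, mul_one]
        _ = u * u := by simp [mul_assoc]
        _ = u * u * (e * e) := by rw [hee, mul_one]
        _ = u * (u * e) * e := by group
        _ = u * (e * u⁻¹) * e := by rw [heu']
        _ = (u * e) * u⁻¹ * e := by group
        _ = (e * u⁻¹) * u⁻¹ * e := by rw [heu']
        _ = e * (u⁻¹ * u⁻¹ * e) := by group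
    rw [h1, h2]; group
  refine ⟨a, ⟨haD, hax, heax⟩, ?_⟩
  -- uniqueness
  rintro a' ⟨ha'D, ha'x, hea'x⟩
  have ha'a' : a' * a' = 1 := sq_of_mem d hd ha'D
  -- general claim: for such b, (b x) is a power of (e x)
  have key : ∀ b : G, b ∈ conjugatesOf d → Commute b x → Commute e (b * x) →
      b * x ∈ Subgroup.zpowers (e * x) := by
    intro b hbD hbx hebx
    have hbb : b * b = 1 := sq_of_mem d hd hbD
    obtain ⟨t, htdef⟩ : ∃ t : G, t = b * x := ⟨_, rfl⟩
    have htt : t * t = 1 := by
      rw [htdef]
      calc b * x * (b * x) = b * (x * b) * x := by group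
        _ = b * (b * x) * x := by rw [hbx.eq]
        _ = (b * b) * (x * x) := by group
        _ = 1 := by rw [hbb, hxx, one_mul]
    have htx : Commute t x := by
      show t * x = x * t
      rw [htdef]
      calc b * x * x = (x * b) * x := by rw [hbx.eq]
        _ = x * (b * x) := by group
    have hte : Commute t e := htdef ▸ hebx.symm
    have htex : Commute t (e * x) := hte.mul_right htx
    have heb : e * b = t * (e * x) := by
      rw [htdef]
      calc e * b = e * b * (x * x) := by rw [hxx, mul_one]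
        _ = e * (b * x) * x := by group
        _ = (b * x) * e * x := by rw [hebx.eq]
        _ = b * x * (e * x) := by group
    obtain ⟨j, hj⟩ := hodd e he b hbD
    have hpow : (e * b) ^ (2 * j + 1) = 1 := hj ▸ pow_orderOf_eq_one _
    rw [heb, htex.mul_pow] at hpow
    have htpow : t ^ (2 * j + 1) = t := by
      rw [pow_succ, pow_mul, pow_two, htt, one_pow, one_mul]
    rw [htpow] at hpow
    -- t = ((e x)^(2j+1))⁻¹
    have : t = ((e * x) ^ (2 * j + 1))⁻¹ := eq_inv_of_mul_eq_one_left hpow
    rw [← htdef, this]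
    exact Subgroup.inv_mem _ (Subgroup.pow_mem _ (Subgroup.mem_zpowers _) _)
  have h1 := key a haD hax heax
  have h2 := key a' ha'D ha'x hea'x
  -- the two powers commute
  have hcomm : (a * x) * (a' * x) = (a' * x) * (a * x) := by
    obtain ⟨i, hi⟩ := Subgroup.mem_zpowers_iff.mp h1
    obtain ⟨j, hj⟩ := Subgroup.mem_zpowers_iff.mp h2
    rw [← hi, ← hj, ← zpow_add, ← zpow_add, add_comm]
  have haa' : a * a' = a' * a := by
    have e1 : (a * x) * (a' * x) = a * a' := by
      calc (a * x) * (a' * x) = a * (x * a') * x := by group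
        _ = a * (a' * x) * x := by rw [ha'x.eq]
        _ = a * a' * (x * x) := by group
        _ = a * a' := by rw [hxx, mul_one]
    have e2 : (a' * x) * (a * x) = a' * a := by
      calc (a' * x) * (a * x) = a' * (x * a) * x := by group
        _ = a' * (a * x) * x := by rw [hax.eq]
        _ = a' * a * (x * x) := by group
        _ = a' * a := by rw [hxx, mul_one]
    rw [← e1, ← e2, hcomm]
  have hsq : (a * a') * (a * a') = 1 := by
    calc (a * a') * (a * a') = a * (a' * a) * a' := by group
      _ = a * (a * a') * a' := by rw [haa']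
      _ = (a * a) * (a' * a') := by group
      _ = 1 := by rw [haa, ha'a', one_mul]
  have hone := eq_one_of_sq_of_odd (a * a') hsq (hodd a haD a' ha'D)
  calc a' = a⁻¹ * (a * a') := by group
    _ = a⁻¹ := by rw [hone, mul_one]
    _ = a := hainv

end Cfsg.Agent.S5562
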