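import Cfsg.Statements.S5588
import Cfsg.Agent.Lib.H6.YModel
import Cfsg.Agent.Lib.H6.YOrient

set_option autoImplicit false
set_option maxRecDepth 100000
open Cfsg

namespace Cfsg.Agent.S5588

open Cfsg.Spor Cfsg.Spor.Bimonster Cfsg.Agent.Lib.H17.CoxGlue Cfsg.Agent.Lib.H6.YChain
  Cfsg.Agent.Lib.H6

/-- the spider relator -/
abbrev Sp : FreeGroup Gen := (a * b1 * c1 * a * b2 * c2 * a * b3 * c3) ^ 10

/-- the relators: Coxeter relations of `Y₅₅₅` and the spider -/
abbrev R : Set (FreeGroup Gen) := coxRelators edges ∪ {r' | r' ∈ [Sp]}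

/-- the generators of the presented group -/
def o (x : Gen) : PresentedGroup R := PresentedGroup.of x

theorem mem_nodes (u : Gen) : u ∈ coxNodes edges := by cases u <;> decide

theorem o_mul_self (u : Gen) : o u * o u = 1 := cox_of_mul_self edges _ u (mem_nodes u)

theorem o_pair (x y : Gen) : (o x * o y) ^ coxLabel edges x y = 1 := by
  have hmem : (FreeGroup.of x * FreeGroup.of y) ^ coxLabel edges x y ∈ R :=
    Or.inl ⟨x, mem_nodes x, y, mem_nodes y, rfl⟩
  have := PresentedGroup.one_of_mem hmem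
  rw [map_pow, map_mul] at this
  exact this

/-- the spider word -/
def W0 : List Gen := (List.replicate 10 [.a, .b1, .c1, .a, .b2, .c2, .a, .b3, .c3]).flatten

/-- the spider word with the first two arms interchanged -/
def W1 : List Gen := (List.replicate 10 [.a, .b2, .c2, .a, .b1, .c1, .a, .b3, .c3]).flatten

theorem prod_replicate_flatten {K : Type*} [Monoid K] {β : Type*} (f : β → K) (L : List β) (n : ℕ) :
    (((List.replicate n L).flatten).map f).prod = ((L.map f).prod) ^ n := by
  induction n with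
  | zero => simp
  | succ n ih =>
    rw [List.replicate_succ, List.flatten_cons, List.map_append, List.prod_append, ih, pow_succ']

theorem W0_trivial : (W0.map o).prod = 1 := by
  have hmem : Sp ∈ R := Or.inr (by simp)
  have := PresentedGroup.one_of_mem hmem
  rw [map_pow] at this
  simp only [map_mul] at this
  unfold W0
  rw [prod_replicate_flatten]
  simp only [List.map_cons, List.map_nil, List.prod_cons, List.prod_nil, mul_one]
  rw [← this]
  simp only [mul_assoc]
  rfl

/-- relators of an embedded diagram: pairs by the labels, the spider word by hypothesis -/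
theorem hf_of_emb (pairs : List (ℕ × ℕ × ℕ)) (sw : List ℕ) (ν : ℕ → Gen)
    (hlab : ∀ t ∈ pairs, coxLabel edges (ν t.1) (ν t.2.1) = t.2.2)
    (hsp : ((sw.map ν).map o).prod = 1) :
    ∀ w ∈ pairs.map (fun t => pairW t.1 t.2.1 t.2.2) ++ [sw],
      (w.map fun x => o (ν x)).prod = 1 := by
  intro w hw
  rw [List.mem_append, List.mem_singleton] at hw
  rcases hw with hw | rfl
  · obtain ⟨t, ht, rfl⟩ := List.mem_map.mp hw
    rw [prod_pairW, ← hlab t ht]
    exact o_pair _ _
  · rw [List.map_map] at hsp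
    exact hsp

/-- the embedding of `Y₃₂₂` used for the orientation of the spider -/
def ν8 (x : ℕ) : Gen := [Gen.c1, .b1, .a, .b2, .c2, .d2, .b3, .c3].getD x .a

theorem W1_trivial : (W1.map o).prod = 1 := by
  have h := YOrient.sm_any (fun x => o (ν8 x)) (fun j _ => o_mul_self _) (by
    rw [relW8_eq]
    exact hf_of_emb pairs8 spiderW ν8 (by decide) (by
      have : spiderW.map ν8 = W0 := by decide
      rw [this]
      exact W0_trivial))
  have h' : ((YOrient.sm.map ν8).map o).prod = 1 := by
    rw [List.map_map]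
    exact h
  have : YOrient.sm.map ν8 = W1 := by decide
  rw [this] at h'
  exact h'

/-- the relation for an embedding of the model whose spider is a rotation of `W0` or `W1` -/
theorem rel_of_emb (ν : ℕ → Gen)
    (hlab : ∀ t ∈ pairs11, coxLabel edges (ν t.1) (ν t.2.1) = t.2.2)
    (hsp : (∃ k, spiderW.map ν = W0.rotate k) ∨ ∃ k, spiderW.map ν = W1.rotate k) :
    o (ν 10) = (o (ν 2) * o (ν 3) * o (ν 1) * o (ν 6) * o (ν 4) * o (ν 0) * o (ν 5)) ^ 9 := by
  have hsp' : ((spiderW.map ν).map o).prod = 1 := by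
    rcases hsp with ⟨k, hk⟩ | ⟨k, hk⟩
    · rw [hk, List.map_rotate]
      exact List.prod_rotate_eq_one_of_prod_eq_one W0_trivial k
    · rw [hk, List.map_rotate]
      exact List.prod_rotate_eq_one_of_prod_eq_one W1_trivial k
  have h := YModel.main_any (fun x => o (ν x)) (fun j _ => o_mul_self _) (by
    rw [relW11_eq]
    exact hf_of_emb pairs11 spiderW ν hlab hsp')
  rw [h]
  unfold YModel.z7word
  rw [prod_replicate_flatten]
  simp only [List.map_cons, List.map_nil, List.prod_cons, List.prod_nil, mul_one, mul_assoc]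

/-- the form of the relators of the statement -/
theorem mk_rel (x p q r s t u v : Gen)
    (h : o x = (o p * o q * o r * o s * o t * o u * o v) ^ 9) :
    PresentedGroup.mk R (FreeGroup.of x * ((FreeGroup.of p * FreeGroup.of q * FreeGroup.of r *
      FreeGroup.of s * FreeGroup.of t * FreeGroup.of u * FreeGroup.of v) ^ 9)⁻¹) = 1 := by
  rw [map_mul, map_inv, map_pow]
  simp only [map_mul]
  rw [mul_inv_eq_one]
  exact h

/-- In the group presented by the sixteen involutions of the Y₅₅₅ Coxeter diagram subject only to the Coxeter relations and the single spider relation (a b₁ c₁ a b₂ c₂ a b₃ c₃)^10 = 1, each of the further relators used in the definitions' presentation of the Bimonster (each end node equals the ninth power of the Coxeter element of a sub-diagram of type E₇) already holds. Equivalently, the Y₅₅₅ diagram with the spider relation alone presents the Bimonster. -/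
theorem result :
    ∀ r ∈ Cfsg.Spor.Bimonster.extra,
      (PresentedGroup.mk (Cfsg.Spor.coxRelators Cfsg.Spor.Bimonster.edges ∪ {r' | r' ∈ [(Cfsg.Spor.Bimonster.a * Cfsg.Spor.Bimonster.b1 * Cfsg.Spor.Bimonster.c1 * Cfsg.Spor.Bimonster.a * Cfsg.Spor.Bimonster.b2 * Cfsg.Spor.Bimonster.c2 * Cfsg.Spor.Bimonster.a * Cfsg.Spor.Bimonster.b3 * Cfsg.Spor.Bimonster.c3) ^ 10]}) r) = 1 := by
  intro r hr
  simp only [Cfsg.Spor.Bimonster.extra, List.mem_cons, List.not_mem_nil, or_false] at hr
  rcases hr with rfl | rfl | rfl | rfl | rfl | rfl | rfl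
  · exact PresentedGroup.one_of_mem (Or.inr (by simp))
  · exact mk_rel .f1 .a .b1 .b2 .b3 .c1 .c2 .d1
      (rel_of_emb (fun x => [Gen.c2, .b2, .a, .b1, .c1, .d1, .b3, .c3, .d2, .e1, .f1].getD x .a)
        (by decide) (Or.inr ⟨0, by decide⟩))
  · exact mk_rel .f1 .a .b1 .b3 .b2 .c1 .c3 .d1
      (rel_of_emb (fun x => [Gen.c3, .b3, .a, .b1, .c1, .d1, .b2, .c2, .d3, .e1, .f1].getD x .a)
        (by decide) (Or.inl ⟨6, by decide⟩))
  · exact mk_rel .f2 .a .b2 .b1 .b3 .c2 .c1 .d2
      (rel_of_emb (fun x => [Gen.c1, .b1, .a, .b2, .c2, .d2, .b3, .c3, .d1, .e2, .f2].getD x .a)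
        (by decide) (Or.inl ⟨0, by decide⟩))
  · exact mk_rel .f2 .a .b2 .b3 .b1 .c2 .c3 .d2
      (rel_of_emb (fun x => [Gen.c3, .b3, .a, .b2, .c2, .d2, .b1, .c1, .d3, .e2, .f2].getD x .a)
        (by decide) (Or.inr ⟨6, by decide⟩))
  · exact mk_rel .f3 .a .b3 .b1 .b2 .c3 .c1 .d3
      (rel_of_emb (fun x => [Gen.c1, .b1, .a, .b3, .c3, .d3, .b2, .c2, .d1, .e3, .f3].getD x .a)
        (by decide) (Or.inr ⟨3, by decide⟩))
  · exact mk_rel .f3 .a .b3 .b2 .b1 .c3 .c2 .d3
      (rel_of_emb (fun x => [Gen.c2, .b2, .a, .b3, .c3, .d3, .b1, .c1, .d2, .e3, .f3].getD x .a)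
        (by decide) (Or.inl ⟨3, by decide⟩))

end Cfsg.Agent.S5588
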