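import Mathlib
import Cfsg.Statements.S5592
import Cfsg.Agent.Lib.H27.Leech
import Cfsg.Agent.Lib.H27.GolayFacts

set_option autoImplicit false
open Cfsg

namespace Cfsg.Agent.S5592

open Finset Cfsg.Agent.Lib.H27

theorem sqNorm_sub_add_dot (v w : GolayPt → ℤ) :
    sqNorm (v + w) - sqNorm (v - w) = 4 * dotInt v w := by
  unfold sqNorm dotInt
  rw [mul_sum, ← sum_sub_distrib]
  apply sum_congr rfl
  intro i _
  simp only [Pi.sub_apply, Pi.add_apply]
  ring

theorem result (x y : Cfsg.GolayPt → ℤ) (hx : x ∈ Cfsg.leechLattice) (hy : y ∈ Cfsg.leechLattice) (hxy : x ≠ y) (hxn : Cfsg.sqNorm x ≤ 64) (hyn : Cfsg.sqNorm y ≤ 64) (hc : (∃ z ∈ Cfsg.leechLattice, x - y = 2 • z)) :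
    x = -y ∨ (Cfsg.sqNorm x = 64 ∧ Cfsg.sqNorm y = 64 ∧ Cfsg.dotInt x y = 0) := by
  obtain ⟨z, hz, hxyz⟩ := hc
  have hz0 : z ≠ 0 := by
    rintro rfl
    apply hxy
    have : x - y = 0 := by rw [hxyz]; simp
    exact sub_eq_zero.mp this
  have hzn : 32 ≤ sqNorm z := leech_min_norm golay_doubly_even golay_min_weight hz hz0
  have h1 : sqNorm (x - y) = 4 * sqNorm z := by
    rw [hxyz]; exact sqNorm_two_smul z
  by_cases hw0 : z + y = 0
  · left
    have : x + y = 0 := by
      have : x + y = (x - y) + 2 • y := by rw [two_nsmul]; abel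
      rw [this, hxyz, ← smul_add, hw0, smul_zero]
    exact eq_neg_of_add_eq_zero_left this
  · right
    have hw : z + y ∈ leechLattice := add_mem hz hy
    have hwn : 32 ≤ sqNorm (z + y) := leech_min_norm golay_doubly_even golay_min_weight hw hw0
    have h2 : sqNorm (x + y) = 4 * sqNorm (z + y) := by
      have : x + y = 2 • (z + y) := by
        have : x + y = (x - y) + 2 • y := by rw [two_nsmul]; abel
        rw [this, hxyz, ← smul_add]
      rw [this]; exact sqNorm_two_smul _
    have hp := sqNorm_parallelogram x y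
    have hd := sqNorm_sub_add_dot x y
    refine ⟨by omega, by omega, by omega⟩

end Cfsg.Agent.S5592
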