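import Mathlib
import Cfsg.Statements.S5594
import Cfsg.Agent.Lib.H27.Co0Basic
import Cfsg.Agent.Lib.H27.LeechGen

set_option autoImplicit false
open Cfsg

namespace Cfsg.Agent.S5594

open Cfsg.Agent.Lib.H27 Cfsg.Agent.Lib.H28

theorem qr_mem : qrWord 0 ∈ golayCode :=
  Submodule.subset_span (Set.mem_union_left _ ⟨0, rfl⟩)

/-- the element squaring to `-1` -/
def gElt : Co0 := monoCo0 projInv projInv_mem_M24 (qrWord 0) qr_mem

theorem swap_C : ∀ i : GolayPt, (i ∈ support₂ (qrWord 0)) ↔ ¬ (projInv.symm i ∈ support₂ (qrWord 0)) := by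
  decide

theorem projInv_symm_symm : ∀ i : GolayPt, projInv.symm (projInv.symm i) = i := by decide

theorem gElt_sq : gElt * gElt = negCo0 := by
  apply Co0_ext
  intro v
  rw [mul_smul, negCo0_smul]
  unfold gElt
  rw [monoCo0_smul, monoCo0_smul]
  funext i
  unfold signedPerm
  rw [projInv_symm_symm]
  have h := swap_C i
  by_cases hi : i ∈ support₂ (qrWord 0)
  · have h2 : projInv.symm i ∉ support₂ (qrWord 0) := h.1 hi
    rw [if_pos hi, if_neg h2]
    rfl
  · have h2 : projInv.symm i ∈ support₂ (qrWord 0) := by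
      by_contra h3
      exact hi (h.2 h3)
    rw [if_neg hi, if_pos h2]
    rfl

theorem result :
    ∃ n : ↥Cfsg.Co0, (∀ v : ↥Cfsg.leechLattice, ((n • v : ↥Cfsg.leechLattice) : Cfsg.GolayPt → ℤ) = -(v : Cfsg.GolayPt → ℤ)) ∧
    ∀ K : Subgroup ↥Cfsg.Co0, ¬ (Subgroup.zpowers n).IsComplement' K := by
  refine ⟨negCo0, negCo0_smul, ?_⟩
  intro K hK
  obtain ⟨⟨⟨h, hh⟩, ⟨k, hk⟩⟩, hhk, -⟩ := (Subgroup.isComplement'_def.1 hK).existsUnique gElt
  simp only at hhk
  obtain ⟨j, rfl⟩ := Subgroup.mem_zpowers_iff.1 hh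
  have hcomm : ∀ g : Co0, g * negCo0 ^ j = negCo0 ^ j * g := by
    intro g
    have : Commute g negCo0 := negCo0_central g
    exact (this.zpow_right j)
  have hsq : negCo0 ^ j * negCo0 ^ j = 1 := by
    rw [← (Commute.refl negCo0).mul_zpow, negCo0_sq, one_zpow]
  have hkk : negCo0 = k * k := by
    rw [← gElt_sq, ← hhk]
    calc negCo0 ^ j * k * (negCo0 ^ j * k) = negCo0 ^ j * (k * negCo0 ^ j) * k := by group
      _ = negCo0 ^ j * (negCo0 ^ j * k) * k := by rw [hcomm k]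
      _ = (negCo0 ^ j * negCo0 ^ j) * k * k := by group
      _ = k * k := by rw [hsq, one_mul]
  have h1 : negCo0 ∈ K := by rw [hkk]; exact K.mul_mem hk hk
  have h2 : negCo0 ∈ Subgroup.zpowers negCo0 := Subgroup.mem_zpowers _
  exact negCo0_ne_one (Subgroup.disjoint_def.1 hK.disjoint h2 h1)

end Cfsg.Agent.S5594
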