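import Cfsg.Statements.S5596
import Cfsg.Agent.Lib.H22.LargeExtra2
-- import your own Cfsg.Agent.* helpers here
set_option autoImplicit false
open Cfsg
namespace Cfsg.Agent.S5596
open Cfsg.Agent.Lib.H22.LargeExtra

/-- conjugation by an element normalizing `U` (both directions), as an automorphism of `U`. -/
def conjU {G : Type*} [Group G] (U : Subgroup G) (g : G) (h1 : ∀ v ∈ U, g * v * g⁻¹ ∈ U)
    (h2 : ∀ v ∈ U, g⁻¹ * v * g ∈ U) : U ≃* U where
  toFun v := ⟨g * v * g⁻¹, h1 v v.2⟩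
  invFun v := ⟨g⁻¹ * v * g, h2 v v.2⟩
  left_inv v := by
    apply Subtype.ext
    simp [mul_assoc]
  right_inv v := by
    apply Subtype.ext
    simp [mul_assoc]
  map_mul' a b := by
    apply Subtype.ext
    simp [mul_assoc]

/-- the fixed points of an automorphism. -/
def fixSub {U : Type*} [Group U] (φ : U ≃* U) : Subgroup U where
  carrier := {v | φ v = v}
  one_mem' := map_one φ
  mul_mem' := by
    intro a b ha hb
    show φ (a * b) = a * b
    rw [map_mul, ha, hb]
  inv_mem' := by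
    intro a ha
    show φ a⁻¹ = a⁻¹
    rw [map_inv, ha]

theorem mem_fixSub {U : Type*} [Group U] (φ : U ≃* U) (v : U) : v ∈ fixSub φ ↔ φ v = v := Iff.rfl

/-- `W ∪ cW` as a subgroup, inside an abelian `U` with `c` an involution of `U`. -/
def adjoin {G : Type*} [Group G] (U W : Subgroup G) (c : G) (hcU : c ∈ U) (hcc : c * c = 1)
    (hWU : W ≤ U) (hUab : ∀ a ∈ U, ∀ b ∈ U, a * b = b * a) : Subgroup G where
  carrier := {m | m ∈ U ∧ (m ∈ W ∨ c * m ∈ W)}
  one_mem' := ⟨U.one_mem, Or.inl W.one_mem⟩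
  mul_mem' := by
    rintro m1 m2 ⟨h1U, h1⟩ ⟨h2U, h2⟩
    refine ⟨U.mul_mem h1U h2U, ?_⟩
    rcases h1 with h1 | h1 <;> rcases h2 with h2 | h2
    · left; exact W.mul_mem h1 h2
    · right
      have : c * (m1 * m2) = m1 * (c * m2) := by
        rw [← mul_assoc, hUab c hcU m1 h1U, mul_assoc]
      rw [this]; exact W.mul_mem h1 h2
    · right
      rw [← mul_assoc]; exact W.mul_mem h1 h2
    · left
      have : m1 * m2 = (c * m1) * (c * m2) := by
        calc m1 * m2 = (c * c) * m1 * m2 := by rw [hcc, one_mul]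
          _ = c * (c * m1) * m2 := by group
          _ = c * (m1 * c) * m2 := by rw [hUab c hcU m1 h1U]
          _ = (c * m1) * (c * m2) := by group
      rw [this]; exact W.mul_mem h1 h2
  inv_mem' := by
    rintro m ⟨hU, h⟩
    refine ⟨U.inv_mem hU, ?_⟩
    rcases h with h | h
    · left; exact W.inv_mem h
    · right
      have hci : c⁻¹ = c := inv_eq_of_mul_eq_one_right hcc
      have : c * m⁻¹ = (c * m)⁻¹ := by
        rw [mul_inv_rev, hci]
        exact hUab c hcU m⁻¹ (U.inv_mem hU)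
      rw [this]; exact W.inv_mem h

theorem mem_adjoin {G : Type*} [Group G] (U W : Subgroup G) (c : G) (hcU : c ∈ U)
    (hcc : c * c = 1) (hWU : W ≤ U) (hUab : ∀ a ∈ U, ∀ b ∈ U, a * b = b * a) (m : G) :
    m ∈ adjoin U W c hcU hcc hWU hUab ↔ (m ∈ U ∧ (m ∈ W ∨ c * m ∈ W)) := Iff.rfl

set_option maxHeartbeats 800000 in
theorem key {G : Type*} [Group G] [Finite G] (U LU : Subgroup G)
    (hU2 : ∀ u ∈ U, u * u = 1)
    (hUab : ∀ a ∈ U, ∀ b ∈ U, a * b = b * a)
    (hLu : ∀ u ∈ U, u ≠ 1 → Large u)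
    (hUle : ∀ u ∈ U, u ≠ 1 → U ≤ QQ u)
    (hQLU : ∀ u ∈ U, u ≠ 1 → QQ u ≤ LU) :
    ∀ (k : ℕ) (φ : ↥U ≃* ↥U), Nat.card U - Nat.card (fixSub φ) ≤ k →
      ∃ g ∈ LU, ∀ u : ↥U, g * (u : G) * g⁻¹ = ((φ u : ↥U) : G) := by
  intro k
  induction k with
  | zero =>
    intro φ hk
    have hle : Nat.card (fixSub φ) ≤ Nat.card U := Subgroup.card_le_card_group _
    have heq : Nat.card (fixSub φ) = Nat.card U := by omega
    have htop : fixSub φ = ⊤ := Subgroup.eq_top_of_card_eq _ heq
    refine ⟨1, Subgroup.one_mem _, ?_⟩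
    intro u
    have : u ∈ fixSub φ := by rw [htop]; exact Subgroup.mem_top u
    rw [(mem_fixSub φ u).mp this]
    group
  | succ k ih =>
    intro φ hk
    by_cases htop : fixSub φ = ⊤
    · refine ⟨1, Subgroup.one_mem _, ?_⟩
      intro u
      have : u ∈ fixSub φ := by rw [htop]; exact Subgroup.mem_top u
      rw [(mem_fixSub φ u).mp this]
      group
    -- pick a with φ a ≠ a
    have hex : ∃ a : ↥U, φ a ≠ a := by
      by_contra hcon
      apply htop
      rw [eq_top_iff]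
      intro v _
      by_contra hv
      exact hcon ⟨v, hv⟩
    obtain ⟨a, ha⟩ := hex
    obtain ⟨b, hb⟩ : ∃ b : ↥U, b = φ a := ⟨_, rfl⟩
    have hab : (b : G) ≠ (a : G) := by
      intro h; apply ha; rw [← hb]; exact Subtype.ext h
    obtain ⟨c, hc⟩ : ∃ c : G, c = (a : G) * (b : G) := ⟨_, rfl⟩
    have hcU : c ∈ U := by rw [hc]; exact U.mul_mem a.2 b.2
    have haa : (a : G) * (a : G) = 1 := hU2 _ a.2
    have hbb : (b : G) * (b : G) = 1 := hU2 _ b.2
    have hc1 : c ≠ 1 := by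
      intro h
      apply hab
      rw [hc] at h
      -- a * b = 1 → b = a⁻¹ = a
      have h1 : (b : G) = (a : G)⁻¹ := (inv_eq_of_mul_eq_one_right h).symm
      rw [h1]; exact inv_eq_of_mul_eq_one_right haa
    have hcc : c * c = 1 := hU2 c hcU
    have hLc := hLu c hcU hc1
    have hUQ := hUle c hcU hc1
    -- W and M
    set W : Subgroup G := (fixSub φ).map U.subtype with hW
    have hWU : W ≤ U := Subgroup.map_subtype_le _
    have hWmem : ∀ w ∈ W, ∃ v : ↥U, φ v = v ∧ (v : G) = w := by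
      intro w hw
      obtain ⟨v, hv, rfl⟩ := hw
      exact ⟨v, hv, rfl⟩
    set M : Subgroup G := adjoin U W c hcU hcc hWU hUab with hM
    have hMU : M ≤ U := fun m hm => hm.1
    have hWM : W ≤ M := fun w hw => ⟨hWU hw, Or.inl hw⟩
    have hMab : ∀ x ∈ M, ∀ y ∈ M, x * y = y * x := fun x hx y hy => hUab x (hMU hx) y (hMU hy)
    have hcen : ∀ e ∈ QQ c, (∀ y ∈ QQ c, y * e = e * y) → e ∈ M := by
      intro e he hee
      rcases hLc.center e he hee with h | h
      · rw [h]; exact Subgroup.one_mem _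
      · rw [h]; exact ⟨hcU, Or.inr (by rw [hcc]; exact W.one_mem)⟩
    have hbM : (b : G) ∉ M := by
      rintro ⟨_, h | h⟩
      · obtain ⟨v, hv, hvw⟩ := hWmem _ h
        have hvb : v = b := Subtype.ext hvw
        rw [hvb, hb] at hv
        exact ha (φ.injective hv)
      · -- c * b = a * b * b = a ∈ W
        have e : c * (b : G) = (a : G) := by rw [hc, mul_assoc, hbb, mul_one]
        rw [e] at h
        obtain ⟨v, hv, hvw⟩ := hWmem _ h
        have hva : v = a := Subtype.ext hvw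
        rw [hva] at hv
        exact ha hv
    obtain ⟨g1, hg1, hg1M, hg1b⟩ := C2.exists_centralizing (Nat.card (QQ c)) (QQ c) le_rfl
      hLc.c2 M (hMU.trans hUQ) hMab hcen (b : G) (hUQ b.2) hbM
    have hg1b' : g1 * (b : G) * g1⁻¹ = (a : G) := by
      rw [hLc.conj_eq hg1 (hUQ b.2) hg1b, hc, mul_assoc, hbb, mul_one]
    -- g1 normalizes U
    have hnorm : ∀ y ∈ QQ c, ∀ v ∈ U, y * v * y⁻¹ ∈ U := by
      intro y hy v hv
      have : y * v * y⁻¹ = (y * v * y⁻¹ * v⁻¹) * v := by group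
      rw [this]
      rcases hLc.comm y hy v (hUQ hv) with h | h
      · rw [h, one_mul]; exact hv
      · rw [h]; exact U.mul_mem hcU hv
    have hn1 : ∀ v ∈ U, g1 * v * g1⁻¹ ∈ U := hnorm g1 hg1
    have hn2 : ∀ v ∈ U, g1⁻¹ * v * g1 ∈ U := by
      intro v hv
      have := hnorm g1⁻¹ (Subgroup.inv_mem _ hg1) v hv
      rwa [inv_inv] at this
    -- φ'
    set φ' : ↥U ≃* ↥U := φ.trans (conjU U g1 hn1 hn2) with hφ'
    have hφ'app : ∀ u : ↥U, ((φ' u : ↥U) : G) = g1 * ((φ u : ↥U) : G) * g1⁻¹ := by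
      intro u; rfl
    have hle : fixSub φ ≤ fixSub φ' := by
      intro v hv
      rw [mem_fixSub] at hv ⊢
      apply Subtype.ext
      rw [hφ'app, hv]
      have hvM : (v : G) ∈ M := by
        apply hWM
        exact ⟨v, hv, rfl⟩
      have := hg1M _ hvM
      rw [this]; group
    have haF' : a ∈ fixSub φ' := by
      rw [mem_fixSub]
      apply Subtype.ext
      rw [hφ'app, ← hb]; exact hg1b'
    have hlt : Nat.card (fixSub φ) < Nat.card (fixSub φ') := by
      rcases lt_or_eq_of_le (Subgroup.card_le_of_le hle) with h | h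
      · exact h
      · exfalso
        have := Subgroup.eq_of_le_of_card_ge hle h.ge
        rw [← this] at haF'
        exact ha haF'
    have hle' : Nat.card (fixSub φ') ≤ Nat.card U := Subgroup.card_le_card_group _
    obtain ⟨g2, hg2, hg2φ⟩ := ih φ' (by omega)
    refine ⟨g1⁻¹ * g2, Subgroup.mul_mem _ (Subgroup.inv_mem _ (hQLU c hcU hc1 hg1)) hg2, ?_⟩
    intro u
    have h1 := hg2φ u
    rw [hφ'app] at h1
    calc g1⁻¹ * g2 * (u : G) * (g1⁻¹ * g2)⁻¹ = g1⁻¹ * (g2 * (u : G) * g2⁻¹) * g1 := by group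
      _ = g1⁻¹ * (g1 * ((φ u : ↥U) : G) * g1⁻¹) * g1 := by rw [h1]
      _ = ((φ u : ↥U) : G) := by group

/-- Setting: `z` is an involution of the finite group `G`; for each element `x`, `Q x` is the largest normal 2-subgroup of the centralizer of `x`; `Q z` is extraspecial and contains its own centralizer in `G`. A subgroup `U` is singular when it is elementary abelian, every non-identity element of `U` is conjugate to `z`, and any two non-identity elements `u`, `v` of `U` are orthogonal (`v ∈ Q u`). Write `QU` for the intersection of the `Q u` and `LU` for the join of the `Q u` over the non-identity `u` in `U`. If `U` is singular of order `2 ^ n` with `n ≥ 2`, then `U ≤ QU ≤ LU`, `LU` normalizes `U`, and `LU` induces on `U` its full automorphism group (the general linear group of dimension `n` over the field with two elements): every automorphism of `U` is conjugation by some element of `LU`. -/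
theorem result {G : Type*} [Group G] [Finite G]
    (Q : G → Subgroup G)
    (hQ : ∀ x : G, Q x = (Cfsg.pCore 2 ↥(Subgroup.centralizer ({x} : Set G))).map (Subgroup.centralizer ({x} : Set G)).subtype)
    (z : G) (hz : orderOf z = 2) (hE : Cfsg.IsExtraspecial 2 ↥(Q z))
    (hC : Subgroup.centralizer ((Q z : Subgroup G) : Set G) ≤ Q z)
    (U : Subgroup G) (hU2 : ∀ u ∈ U, u * u = 1)
    (hS : ∀ u ∈ U, u ≠ 1 → ∃ g : G, g * z * g⁻¹ = u)
    (hO : ∀ u ∈ U, ∀ v ∈ U, u ≠ 1 → v ≠ 1 → v ∈ Q u)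
    (QU LU : Subgroup G) (hQU : QU = ⨅ u ∈ ((U : Set G) \ {1}), Q u) (hLU : LU = ⨆ u ∈ ((U : Set G) \ {1}), Q u)
    (n : ℕ) (hn : 2 ≤ n) (hcard : Nat.card ↥U = 2 ^ n) :
    U ≤ QU ∧ QU ≤ LU ∧ LU ≤ Subgroup.normalizer (U : Set G) ∧
      ∀ φ : ↥U ≃* ↥U, ∃ g ∈ LU, ∀ u : ↥U, g * (u : G) * g⁻¹ = ((φ u : ↥U) : G) := by
  have hQQ : ∀ x : G, Q x = QQ x := fun x => hQ x
  have hL : Large z := by
    apply large_of_hyp z hz
    · rw [← hQQ]; exact hE
    · rw [← hQQ]; exact hC
  have hLu : ∀ u ∈ U, u ≠ 1 → Large u := by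
    intro u hu hu1
    obtain ⟨g, rfl⟩ := hS u hu hu1
    exact hL.conj g
  have hQUmem : ∀ x, x ∈ QU ↔ ∀ u ∈ U, u ≠ 1 → x ∈ Q u := by
    intro x
    rw [hQU, Subgroup.mem_iInf]
    constructor
    · intro h u hu hu1
      have := h u
      rw [Subgroup.mem_iInf] at this
      exact this ⟨hu, by simpa using hu1⟩
    · intro h u
      rw [Subgroup.mem_iInf]
      rintro ⟨hu, hu1⟩
      exact h u hu (by simpa using hu1)
  have hUQU : U ≤ QU := by
    intro v hv
    rw [hQUmem]
    intro u hu hu1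
    by_cases hv1 : v = 1
    · rw [hv1]; exact Subgroup.one_mem _
    · exact hO u hu v hv hu1 hv1
  have hQLU : ∀ u ∈ U, u ≠ 1 → Q u ≤ LU := by
    intro u hu hu1
    rw [hLU]
    exact le_iSup₂ (f := fun u (_ : u ∈ (U : Set G) \ {1}) => Q u) u ⟨hu, by simpa using hu1⟩
  have hUab : ∀ a ∈ U, ∀ b ∈ U, a * b = b * a := by
    intro a ha b hb
    have h1 := hU2 a ha
    have h2 := hU2 b hb
    have h3 := hU2 (a * b) (U.mul_mem ha hb)
    have ea : a⁻¹ = a := inv_eq_of_mul_eq_one_right h1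
    have eb : b⁻¹ = b := inv_eq_of_mul_eq_one_right h2
    have eab : (a * b)⁻¹ = a * b := inv_eq_of_mul_eq_one_right h3
    rw [mul_inv_rev, ea, eb] at eab
    exact eab.symm
  have hUle : ∀ u ∈ U, u ≠ 1 → U ≤ QQ u := by
    intro u hu hu1 v hv
    rw [← hQQ]
    exact (hQUmem v).mp (hUQU hv) u hu hu1
  -- a nonidentity element of U
  have hexu : ∃ u ∈ U, u ≠ 1 := by
    by_contra hcon
    have hbot : U = ⊥ := by
      rw [eq_bot_iff]
      intro v hv
      by_contra hv1
      exact hcon ⟨v, hv, fun h => hv1 (by rw [h]; exact Subgroup.mem_bot.mpr rfl)⟩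
    rw [hbot, Subgroup.card_bot] at hcard
    have : 2 ^ n ≥ 2 ^ 2 := Nat.pow_le_pow_right (by norm_num) hn
    omega
  obtain ⟨u0, hu0, hu01⟩ := hexu
  refine ⟨hUQU, ?_, ?_, ?_⟩
  · intro x hx
    exact hQLU u0 hu0 hu01 ((hQUmem x).mp hx u0 hu0 hu01)
  · rw [hLU]
    apply iSup₂_le
    rintro u ⟨hu, hu1⟩
    have hu1' : u ≠ 1 := by simpa using hu1
    have hLarge := hLu u hu hu1'
    have hUQ := hUle u hu hu1'
    have hnorm : ∀ y ∈ QQ u, ∀ v ∈ U, y * v * y⁻¹ ∈ U := by
      intro y hy v hv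
      have : y * v * y⁻¹ = (y * v * y⁻¹ * v⁻¹) * v := by group
      rw [this]
      rcases hLarge.comm y hy v (hUQ hv) with h | h
      · rw [h, one_mul]; exact hv
      · rw [h]; exact U.mul_mem hu hv
    intro g hg
    rw [hQQ] at hg
    rw [Subgroup.mem_normalizer_iff]
    intro v
    constructor
    · exact hnorm g hg v
    · intro h
      have := hnorm g⁻¹ (Subgroup.inv_mem _ hg) _ h
      have e : g⁻¹ * (g * v * g⁻¹) * g⁻¹⁻¹ = v := by group
      rwa [e] at this
  · intro φ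
    exact key U LU hU2 hUab hLu hUle (fun u hu hu1 => by rw [← hQQ]; exact hQLU u hu hu1)
      (Nat.card U - Nat.card (fixSub φ)) φ le_rfl
end Cfsg.Agent.S5596
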