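import Cfsg.Statements.S5597
import Cfsg.Agent.Lib.H22.LargeExtra2
-- import your own Cfsg.Agent.* helpers here
set_option autoImplicit false
open Cfsg
namespace Cfsg.Agent.S5597
open Cfsg.Agent.Lib.H22.LargeExtra

/-- elements acting trivially on `QU / U` (both directions), a subgroup when `U ≤ QU`. -/
def stab {G : Type*} [Group G] (QU U : Subgroup G) (h : U ≤ QU) : Subgroup G where
  carrier := {g | ∀ x ∈ QU, g * x * g⁻¹ * x⁻¹ ∈ U ∧ g⁻¹ * x * g * x⁻¹ ∈ U}
  one_mem' := by
    intro x _
    constructor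
    · have : (1 : G) * x * 1⁻¹ * x⁻¹ = 1 := by group
      rw [this]; exact U.one_mem
    · have : (1 : G)⁻¹ * x * 1 * x⁻¹ = 1 := by group
      rw [this]; exact U.one_mem
  mul_mem' := by
    intro a b ha hb x hx
    constructor
    · have h1 := (hb x hx).1
      have hy : b * x * b⁻¹ ∈ QU := by
        have : b * x * b⁻¹ = (b * x * b⁻¹ * x⁻¹) * x := by group
        rw [this]; exact QU.mul_mem (h h1) hx
      have h2 := (ha _ hy).1
      have : a * b * x * (a * b)⁻¹ * x⁻¹
          = (a * (b * x * b⁻¹) * a⁻¹ * (b * x * b⁻¹)⁻¹) * (b * x * b⁻¹ * x⁻¹) := by group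
      rw [this]; exact U.mul_mem h2 h1
    · have h1 := (ha x hx).2
      have hy : a⁻¹ * x * a ∈ QU := by
        have : a⁻¹ * x * a = (a⁻¹ * x * a * x⁻¹) * x := by group
        rw [this]; exact QU.mul_mem (h h1) hx
      have h2 := (hb _ hy).2
      have : (a * b)⁻¹ * x * (a * b) * x⁻¹
          = (b⁻¹ * (a⁻¹ * x * a) * b * (a⁻¹ * x * a)⁻¹) * (a⁻¹ * x * a * x⁻¹) := by group
      rw [this]; exact U.mul_mem h2 h1
  inv_mem' := by
    intro a ha x hx
    constructor
    · have := (ha x hx).2
      simpa using this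
    · have := (ha x hx).1
      simpa using this

/-- Setting: `z` is an involution of the finite group `G`; for each element `x`, `Q x` is the largest normal 2-subgroup of the centralizer of `x`; `Q z` is extraspecial and contains its own centralizer in `G`. A subgroup `U` is singular when it is elementary abelian, every non-identity element of `U` is conjugate to `z`, and any two non-identity elements `u`, `v` of `U` are orthogonal (`v ∈ Q u`). Write `QU` for the intersection of the `Q u` and `LU` for the join of the `Q u` over the non-identity `u` in `U`. If `U` is a non-trivial singular subgroup, then `LU` acts trivially on `QU / U` (every commutator of an element of `LU` with an element of `QU` lies in `U`), and for every `x` in `QU` outside `U` the centralizer of `U` in `LU` permutes the coset `x U` transitively: each `x u` with `u ∈ U` is a conjugate of `x` by an element of `LU` centralizing `U`. -/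
theorem result {G : Type*} [Group G] [Finite G]
    (Q : G → Subgroup G)
    (hQ : ∀ x : G, Q x = (Cfsg.pCore 2 ↥(Subgroup.centralizer ({x} : Set G))).map (Subgroup.centralizer ({x} : Set G)).subtype)
    (z : G) (hz : orderOf z = 2) (hE : Cfsg.IsExtraspecial 2 ↥(Q z))
    (hC : Subgroup.centralizer ((Q z : Subgroup G) : Set G) ≤ Q z)
    (U : Subgroup G) (hU2 : ∀ u ∈ U, u * u = 1)
    (hS : ∀ u ∈ U, u ≠ 1 → ∃ g : G, g * z * g⁻¹ = u)
    (hO : ∀ u ∈ U, ∀ v ∈ U, u ≠ 1 → v ≠ 1 → v ∈ Q u)
    (QU LU : Subgroup G) (hQU : QU = ⨅ u ∈ ((U : Set G) \ {1}), Q u) (hLU : LU = ⨆ u ∈ ((U : Set G) \ {1}), Q u)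
    (hU : U ≠ ⊥) :
    (∀ g ∈ LU, ∀ x ∈ QU, g * x * g⁻¹ * x⁻¹ ∈ U) ∧
      ∀ x ∈ QU, x ∉ U → ∀ u ∈ U, ∃ g ∈ LU ⊓ Subgroup.centralizer (U : Set G), g * x * g⁻¹ = x * u := by
  have hQQ : ∀ x : G, Q x = QQ x := fun x => hQ x
  have hL : Large z := by
    apply large_of_hyp z hz
    · rw [← hQQ]; exact hE
    · rw [← hQQ]; exact hC
  have hLu : ∀ u ∈ U, u ≠ 1 → Large u := by
    intro u hu hu1
    obtain ⟨g, rfl⟩ := hS u hu hu1
    exact hL.conj g
  have hQUmem : ∀ x, x ∈ QU ↔ ∀ u ∈ U, u ≠ 1 → x ∈ Q u := by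
    intro x
    rw [hQU, Subgroup.mem_iInf]
    constructor
    · intro h u hu hu1
      have := h u
      rw [Subgroup.mem_iInf] at this
      exact this ⟨hu, by simpa using hu1⟩
    · intro h u
      rw [Subgroup.mem_iInf]
      rintro ⟨hu, hu1⟩
      exact h u hu (by simpa using hu1)
  have hUQU : U ≤ QU := by
    intro v hv
    rw [hQUmem]
    intro u hu hu1
    by_cases hv1 : v = 1
    · rw [hv1]; exact Subgroup.one_mem _
    · exact hO u hu v hv hu1 hv1
  have hQLU : ∀ u ∈ U, u ≠ 1 → Q u ≤ LU := by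
    intro u hu hu1
    rw [hLU]
    exact le_iSup₂ (f := fun u (_ : u ∈ (U : Set G) \ {1}) => Q u) u ⟨hu, by simpa using hu1⟩
  have hUab : ∀ a ∈ U, ∀ b ∈ U, a * b = b * a := by
    intro a ha b hb
    have h1 := hU2 a ha
    have h2 := hU2 b hb
    have h3 := hU2 (a * b) (U.mul_mem ha hb)
    have ea : a⁻¹ = a := inv_eq_of_mul_eq_one_right h1
    have eb : b⁻¹ = b := inv_eq_of_mul_eq_one_right h2
    have eab : (a * b)⁻¹ = a * b := inv_eq_of_mul_eq_one_right h3
    rw [mul_inv_rev, ea, eb] at eab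
    exact eab.symm
  constructor
  · have hle : LU ≤ stab QU U hUQU := by
      rw [hLU]
      apply iSup₂_le
      rintro u ⟨hu, hu1⟩
      have hu1' : u ≠ 1 := by simpa using hu1
      have hLarge := hLu u hu hu1'
      intro g hg x hx
      have hxu : x ∈ QQ u := by rw [← hQQ]; exact (hQUmem x).mp hx u hu hu1'
      have hgu : g ∈ QQ u := by rw [← hQQ]; exact hg
      constructor
      · rcases hLarge.comm g hgu x hxu with h1 | h1
        · rw [h1]; exact U.one_mem
        · rw [h1]; exact hu
      · have := hLarge.comm g⁻¹ (Subgroup.inv_mem _ hgu) x hxu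
        rw [inv_inv] at this
        rcases this with h1 | h1
        · rw [h1]; exact U.one_mem
        · rw [h1]; exact hu
    intro g hg x hx
    exact (hle hg x hx).1
  · intro x hx hxU u hu
    by_cases hu1 : u = 1
    · refine ⟨1, Subgroup.one_mem _, ?_⟩
      rw [hu1]; group
    have hLarge := hLu u hu hu1
    have hxu : x ∈ QQ u := by rw [← hQQ]; exact (hQUmem x).mp hx u hu hu1
    have hUle : U ≤ QQ u := by
      intro v hv
      rw [← hQQ]
      exact (hQUmem v).mp (hUQU hv) u hu hu1
    have hcen : ∀ c ∈ QQ u, (∀ a ∈ QQ u, a * c = c * a) → c ∈ U := by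
      intro c hc hcc
      rcases hLarge.center c hc hcc with h1 | h1
      · rw [h1]; exact U.one_mem
      · rw [h1]; exact hu
    obtain ⟨g, hg, hgU, hgx⟩ := C2.exists_centralizing (Nat.card (QQ u)) (QQ u) le_rfl
      hLarge.c2 U hUle hUab hcen x hxu hxU
    refine ⟨g, Subgroup.mem_inf.mpr ⟨hQLU u hu hu1 (by rw [hQQ]; exact hg), ?_⟩, ?_⟩
    · rw [Subgroup.mem_centralizer_iff]
      intro a ha
      exact (hgU a ha).symm
    · rw [hLarge.conj_eq hg hxu hgx]
      exact (comm_of_mem_QQ hxu).symm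
end Cfsg.Agent.S5597
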