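import Cfsg.Statements.S5598
import Cfsg.Agent.Lib.H22.LargeExtra
-- import your own Cfsg.Agent.* helpers here
set_option autoImplicit false
open Cfsg
namespace Cfsg.Agent.S5598
open Cfsg.Agent.Lib.H22.LargeExtra

/-- Setting: `z` is an involution of the finite group `G`; for each element `x`, `Q x` is the largest normal 2-subgroup of the centralizer of `x`; `Q z` is extraspecial and contains its own centralizer in `G`. A subgroup `U` is singular when it is elementary abelian, every non-identity element of `U` is conjugate to `z`, and any two non-identity elements `u`, `v` of `U` are orthogonal (`v ∈ Q u`). Write `QU` for the intersection of the `Q u` and `LU` for the join of the `Q u` over the non-identity `u` in `U`. If the singular subgroup `U` is generated by a set `T` of non-identity elements, then `QU` is already the intersection of the `Q t` over `t ∈ T`. -/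
theorem result {G : Type*} [Group G] [Finite G]
    (Q : G → Subgroup G)
    (hQ : ∀ x : G, Q x = (Cfsg.pCore 2 ↥(Subgroup.centralizer ({x} : Set G))).map (Subgroup.centralizer ({x} : Set G)).subtype)
    (z : G) (hz : orderOf z = 2) (hE : Cfsg.IsExtraspecial 2 ↥(Q z))
    (hC : Subgroup.centralizer ((Q z : Subgroup G) : Set G) ≤ Q z)
    (U : Subgroup G) (hU2 : ∀ u ∈ U, u * u = 1)
    (hS : ∀ u ∈ U, u ≠ 1 → ∃ g : G, g * z * g⁻¹ = u)
    (hO : ∀ u ∈ U, ∀ v ∈ U, u ≠ 1 → v ≠ 1 → v ∈ Q u)
    (QU LU : Subgroup G) (hQU : QU = ⨅ u ∈ ((U : Set G) \ {1}), Q u) (hLU : LU = ⨆ u ∈ ((U : Set G) \ {1}), Q u)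
    (T : Set G) (hT : Subgroup.closure T = U) (hT1 : (1 : G) ∉ T) :
    QU = ⨅ t ∈ T, Q t := by
  have hQQ : ∀ x : G, Q x = QQ x := fun x => hQ x
  have hL : Large z := by
    apply large_of_hyp z hz
    · rw [← hQQ]; exact hE
    · rw [← hQQ]; exact hC
  have hLu : ∀ u ∈ U, u ≠ 1 → Large u := by
    intro u hu hu1
    obtain ⟨g, rfl⟩ := hS u hu hu1
    exact hL.conj g
  rw [hQU]
  apply le_antisymm
  · apply le_iInf₂
    intro t ht
    have htU : t ∈ U := by rw [← hT]; exact Subgroup.subset_closure ht
    have ht1 : t ≠ 1 := fun h => hT1 (h ▸ ht)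
    exact iInf₂_le t (⟨htU, ht1⟩ : t ∈ (U : Set G) \ {1})
  · intro x hx
    have hxT : ∀ t ∈ T, x ∈ Q t := by
      intro t ht
      have := (Subgroup.mem_iInf.mp hx) t
      exact (Subgroup.mem_iInf.mp this) ht
    have key : ∀ u (_ : u ∈ Subgroup.closure T), u = 1 ∨ x ∈ Q u := by
      intro u hu
      induction hu using Subgroup.closure_induction with
      | mem t ht => right; exact hxT t ht
      | one => left; rfl
      | mul a b ha hb iha ihb =>
        have haU : a ∈ U := by rw [← hT]; exact ha
        have hbU : b ∈ U := by rw [← hT]; exact hb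
        by_cases ha1 : a = 1
        · subst ha1; rw [one_mul]; exact ihb
        by_cases hb1 : b = 1
        · subst hb1; rw [mul_one]; exact iha
        by_cases hab : a * b = 1
        · left; exact hab
        right
        have iha' : x ∈ Q a := iha.resolve_left ha1
        have ihb' : x ∈ Q b := ihb.resolve_left hb1
        have hne : b ≠ a := by
          rintro rfl; exact hab (hU2 b hbU)
        have hLa : Large a := hLu a haU ha1
        have hba : b ∈ QQ a := by rw [← hQQ]; exact hO a haU b hbU ha1 hb1
        have haab : a ∈ QQ (a * b) := by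
          rw [← hQQ]; exact hO (a * b) (U.mul_mem haU hbU) a haU hab ha1
        have := hLa.inf_le_mul hba hb1 hne haab
        rw [hQQ]
        apply this
        rw [← hQQ, ← hQQ]
        exact Subgroup.mem_inf.mpr ⟨iha', ihb'⟩
      | inv a ha iha =>
        have haU : a ∈ U := by rw [← hT]; exact ha
        have : a⁻¹ = a := inv_eq_of_mul_eq_one_right (hU2 a haU)
        rw [this]; exact iha
    rw [Subgroup.mem_iInf]
    intro u
    rw [Subgroup.mem_iInf]
    rintro ⟨huU, hu1⟩
    have hu1' : u ≠ 1 := fun h => hu1 (by simpa using h)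
    have huU' : u ∈ U := huU
    exact (key u (by rw [hT]; exact huU')).resolve_left hu1'
end Cfsg.Agent.S5598
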