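import Cfsg.Statements.S5599
import Cfsg.Agent.Lib.H28.M22Outer
open Cfsg.Agent.Lib.H28

set_option autoImplicit false
open scoped Pointwise
open Cfsg

namespace Cfsg.Agent.S5599

/-- In the automorphism group of the length-24 code, the two-point Mathieu group (permutations of the code's group fixing the extra point and the residue 0) has index 2 in the setwise stabiliser of that pair of points, and an element of the code's group interchanging the two points normalises the two-point group and induces on it, by conjugation, an automorphism that is not inner. -/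
theorem result (g : Equiv.Perm Cfsg.GolayPt) (hg : g ∈ Cfsg.M24) (h₁ : g none = some 0) (h₂ : g (some 0) = none) : Cfsg.Spor.M22.relIndex (Cfsg.M24 ⊓ MulAction.stabilizer (Equiv.Perm Cfsg.GolayPt) ({none, some 0} : Finset Cfsg.GolayPt)) = 2 ∧ (∀ x ∈ Cfsg.Spor.M22, g * x * g⁻¹ ∈ Cfsg.Spor.M22) ∧ ¬ ∃ h ∈ Cfsg.Spor.M22, ∀ x ∈ Cfsg.Spor.M22, g * x * g⁻¹ = h * x * h⁻¹ := by
  classical
  have hinv1 : g⁻¹ none = some 0 := by
    rw [Equiv.Perm.inv_def, Equiv.symm_apply_eq]; exact h₂.symm
  have hinv2 : g⁻¹ (some 0) = none := by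
    rw [Equiv.Perm.inv_def, Equiv.symm_apply_eq]; exact h₁.symm
  have memM22 : ∀ x : Equiv.Perm Cfsg.GolayPt, x ∈ Cfsg.Spor.M22 ↔ x ∈ Cfsg.M24 ∧ x none = none ∧ x (some 0) = some 0 := by
    intro x
    constructor
    · intro h
      have h1 := Subgroup.mem_inf.1 h
      have h2 := Subgroup.mem_inf.1 h1.1
      exact ⟨h2.1, MulAction.mem_stabilizer_iff.1 h2.2, MulAction.mem_stabilizer_iff.1 h1.2⟩
    · intro h
      exact Subgroup.mem_inf.2 ⟨Subgroup.mem_inf.2 ⟨h.1, MulAction.mem_stabilizer_iff.2 h.2.1⟩,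
        MulAction.mem_stabilizer_iff.2 h.2.2⟩
  have hne : (none : Cfsg.GolayPt) ≠ some 0 := by simp
  refine ⟨?_, ?_, ?_⟩
  · rw [Subgroup.relIndex_eq_two_iff]
    have hduad : ∀ b : Equiv.Perm Cfsg.GolayPt, b • ({none, some 0} : Finset Cfsg.GolayPt) = {none, some 0} →
        (b none = none ∧ b (some 0) = some 0) ∨ (b none = some 0 ∧ b (some 0) = none) := by
      intro b hb
      have h1 : b none ∈ ({none, some 0} : Finset Cfsg.GolayPt) := by
        rw [← hb]; exact Finset.smul_mem_smul_finset (by simp)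
      have h2 : b (some 0) ∈ ({none, some 0} : Finset Cfsg.GolayPt) := by
        rw [← hb]; exact Finset.smul_mem_smul_finset (by simp)
      rw [Finset.mem_insert, Finset.mem_singleton] at h1 h2
      rcases h1 with h1 | h1 <;> rcases h2 with h2 | h2
      · exact absurd (b.injective (h1.trans h2.symm)) hne
      · exact Or.inl ⟨h1, h2⟩
      · exact Or.inr ⟨h1, h2⟩
      · exact absurd (b.injective (h1.trans h2.symm)) hne
    refine ⟨g, ?_, ?_⟩
    · rw [Subgroup.mem_inf, MulAction.mem_stabilizer_iff]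
      refine ⟨hg, ?_⟩
      ext p
      rw [Finset.mem_smul_finset]
      simp only [Finset.mem_insert, Finset.mem_singleton]
      constructor
      · rintro ⟨q, rfl | rfl, rfl⟩
        · right; exact h₁
        · left; exact h₂
      · rintro (rfl | rfl)
        · exact ⟨some 0, Or.inr rfl, h₂⟩
        · exact ⟨none, Or.inl rfl, h₁⟩
    · intro b hb
      rw [Subgroup.mem_inf, MulAction.mem_stabilizer_iff] at hb
      rw [memM22, memM22]
      rcases hduad b hb.2 with ⟨h1, h2⟩ | ⟨h1, h2⟩
      · right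
        refine ⟨⟨hb.1, h1, h2⟩, ?_⟩
        rintro ⟨-, h3, -⟩
        rw [Equiv.Perm.mul_apply, h₁, h2] at h3
        exact hne h3.symm
      · left
        refine ⟨⟨Cfsg.M24.mul_mem hb.1 hg, ?_, ?_⟩, ?_⟩
        · rw [Equiv.Perm.mul_apply, h₁, h2]
        · rw [Equiv.Perm.mul_apply, h₂, h1]
        · rintro ⟨-, h3, -⟩
          rw [h1] at h3
          exact hne h3.symm
  · intro x hx
    rw [memM22] at hx ⊢
    refine ⟨Cfsg.M24.mul_mem (Cfsg.M24.mul_mem hg hx.1) (Cfsg.M24.inv_mem hg), ?_, ?_⟩
    · rw [Equiv.Perm.mul_apply, Equiv.Perm.mul_apply, hinv1, hx.2.2, h₂]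
    · rw [Equiv.Perm.mul_apply, Equiv.Perm.mul_apply, hinv2, hx.2.1, h₁]
  · rintro ⟨h, hh, heq⟩
    rw [memM22] at hh
    have hhinv1 : h⁻¹ none = none := by
      rw [Equiv.Perm.inv_def, Equiv.symm_apply_eq]; exact hh.2.1.symm
    have hhinv2 : h⁻¹ (some 0) = some 0 := by
      rw [Equiv.Perm.inv_def, Equiv.symm_apply_eq]; exact hh.2.2.symm
    set c := h⁻¹ * g with hc
    have hcM : c ∈ Cfsg.M24 := Cfsg.M24.mul_mem (Cfsg.M24.inv_mem hh.1) hg
    have hc1 : c none = some 0 := by rw [hc, Equiv.Perm.mul_apply, h₁, hhinv2]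
    have hc2 : c (some 0) = none := by rw [hc, Equiv.Perm.mul_apply, h₂, hhinv1]
    have hcomm : ∀ x ∈ Cfsg.Spor.M22, c * x = x * c := by
      intro x hx
      have := heq x hx
      rw [hc]
      calc h⁻¹ * g * x = h⁻¹ * (g * x * g⁻¹) * g := by group
        _ = h⁻¹ * (h * x * h⁻¹) * g := by rw [this]
        _ = x * (h⁻¹ * g) := by group
    have hfix : ∀ p : Cfsg.GolayPt, p ≠ none → p ≠ some 0 → c p = p := by
      intro p hp1 hp2
      have hp : p ∈ ptsOf (levelSet 2) := by
        rw [mem_ptsOf]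
        have h23 : gIdx p ≠ 23 := by
          intro e
          apply hp1
          rw [← gPt_gIdx p, e]; rfl
        have h0 : gIdx p ≠ 0 := by
          intro e
          apply hp2
          rw [← gPt_gIdx p, e]; rfl
        have : levelSet 2 (gIdx p) = !([0, 23].contains (gIdx p)) := rfl
        rw [this]
        simp [h23, h0]
      obtain ⟨m, hm, hmp⟩ := level_ge 2 (by norm_num) p hp
      rw [mem_fixSub] at hm
      have hm0 : m (some 0) = some 0 := hm.2 0 (by decide)
      have hm23 : m none = none := hm.2 23 (by decide)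
      have hm1 : m (gPt 1) = p := hmp
      have hmM : m ∈ Cfsg.M24 := genSubgroup_le_M24 hm.1
      have hxM22 : m * wordPerm w7 * m⁻¹ ∈ Cfsg.Spor.M22 := by
        rw [memM22]
        have hminv1 : m⁻¹ none = none := by
          rw [Equiv.Perm.inv_def, Equiv.symm_apply_eq]; exact hm23.symm
        have hminv2 : m⁻¹ (some 0) = some 0 := by
          rw [Equiv.Perm.inv_def, Equiv.symm_apply_eq]; exact hm0.symm
        refine ⟨Cfsg.M24.mul_mem (Cfsg.M24.mul_mem hmM (wordPerm_mem_M24 w7)) (Cfsg.M24.inv_mem hmM), ?_, ?_⟩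
        · rw [Equiv.Perm.mul_apply, Equiv.Perm.mul_apply, hminv1, mem_fixed_w7.2 (by decide), hm23]
        · rw [Equiv.Perm.mul_apply, Equiv.Perm.mul_apply, hminv2, mem_fixed_w7.2 (by decide), hm0]
      have hxp : (m * wordPerm w7 * m⁻¹) p = p := by
        have hminv : m⁻¹ p = gPt 1 := by
          rw [Equiv.Perm.inv_def, Equiv.symm_apply_eq]; exact hm1.symm
        rw [Equiv.Perm.mul_apply, Equiv.Perm.mul_apply, hminv,
          mem_fixed_w7.2 (by rw [gIdx_gPt (by norm_num)]; decide), hm1]
      have h1 := congrArg (fun f : Equiv.Perm Cfsg.GolayPt => f p) (hcomm _ hxM22)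
      simp only [Equiv.Perm.mul_apply] at h1
      have hminv : m⁻¹ p = gPt 1 := by
        rw [Equiv.Perm.inv_def, Equiv.symm_apply_eq]; exact hm1.symm
      rw [hminv, mem_fixed_w7.2 (by rw [gIdx_gPt (by norm_num)]; decide), hm1] at h1
      -- h1 : c p = m (w7 (m⁻¹ (c p)))
      have h2 : wordPerm w7 (m⁻¹ (c p)) = m⁻¹ (c p) := by
        have := congrArg (fun q => m⁻¹ q) h1
        simp only [perm_inv_apply'] at this
        exact this.symm
      rw [mem_fixed_w7] at h2
      have h3 : m⁻¹ (c p) = gPt (gIdx (m⁻¹ (c p))) := (gPt_gIdx _).symm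
      simp only [List.mem_cons, List.not_mem_nil, or_false] at h2
      have h4 : c p = m (gPt (gIdx (m⁻¹ (c p)))) := by
        rw [← h3, Equiv.Perm.inv_def, Equiv.apply_symm_apply]
      rcases h2 with h2 | h2 | h2
      · rw [h2] at h4
        have : c p = none := by rw [h4]; exact hm23
        exact absurd (c.injective (this.trans hc2.symm)) hp2
      · rw [h2] at h4
        have : c p = some 0 := by rw [h4]; exact hm0
        exact absurd (c.injective (this.trans hc1.symm)) hp1
      · rw [h2] at h4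
        rw [h4, hm1]
    have hF : fixedF c = Finset.univ \ {none, some 0} := by
      ext p
      rw [mem_fixedF, Finset.mem_sdiff, Finset.mem_insert, Finset.mem_singleton]
      constructor
      · intro hp
        refine ⟨Finset.mem_univ _, ?_⟩
        rintro (rfl | rfl)
        · rw [hc1] at hp; exact hne hp.symm
        · rw [hc2] at hp; exact hne hp
      · rintro ⟨-, hp⟩
        rw [not_or] at hp
        exact hfix p hp.1 hp.2
    have hcard : (fixedF c).card = 22 := by
      rw [hF, Finset.card_sdiff_of_subset (Finset.subset_univ _), Finset.card_univ, card_GolayPt,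
        Finset.card_pair hne]
    rcases card_fixed_of_six c hcM (by omega) with h | h | h <;> omega

end Cfsg.Agent.S5599
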