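import Cfsg.Statements.S5601
import Cfsg.Agent.Lib.H28.OrderThreeSubgroups
open Cfsg.Agent.Lib.H28

set_option autoImplicit false
open scoped Pointwise
open Cfsg

namespace Cfsg.Agent.S5601

/-- The group of the length-24 code has exactly two conjugacy classes of subgroups of order 3: a subgroup of order 3 fixes either exactly 6 of the 24 points or none of them, both cases occur, and two subgroups of order 3 with the same number of fixed points are conjugate. -/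
theorem result : (∀ X : Subgroup ↥Cfsg.M24, Nat.card X = 3 → {p : Cfsg.GolayPt | ∀ x ∈ X, ((x : ↥Cfsg.M24) : Equiv.Perm Cfsg.GolayPt) p = p}.ncard = 6 ∨ {p : Cfsg.GolayPt | ∀ x ∈ X, ((x : ↥Cfsg.M24) : Equiv.Perm Cfsg.GolayPt) p = p}.ncard = 0) ∧ (∃ X : Subgroup ↥Cfsg.M24, Nat.card X = 3 ∧ {p : Cfsg.GolayPt | ∀ x ∈ X, ((x : ↥Cfsg.M24) : Equiv.Perm Cfsg.GolayPt) p = p}.ncard = 6) ∧ (∃ X : Subgroup ↥Cfsg.M24, Nat.card X = 3 ∧ {p : Cfsg.GolayPt | ∀ x ∈ X, ((x : ↥Cfsg.M24) : Equiv.Perm Cfsg.GolayPt) p = p}.ncard = 0) ∧ ∀ X Y : Subgroup ↥Cfsg.M24, Nat.card X = 3 → Nat.card Y = 3 → {p : Cfsg.GolayPt | ∀ x ∈ X, ((x : ↥Cfsg.M24) : Equiv.Perm Cfsg.GolayPt) p = p}.ncard = {p : Cfsg.GolayPt | ∀ x ∈ Y, ((x : ↥Cfsg.M24) : Equiv.Perm Cfsg.GolayPt) p = p}.ncard → ∃ k : ↥Cfsg.M24, MulAut.conj k • X = Y := by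
  have hgen : ∀ X : Subgroup ↥Cfsg.M24, Nat.card X = 3 → ∃ g : ↥Cfsg.M24, orderOf g = 3 ∧ X = Subgroup.zpowers g ∧
      ((fixedF (g : Equiv.Perm Cfsg.GolayPt)).card = 0 ∨ (fixedF (g : Equiv.Perm Cfsg.GolayPt)).card = 6) := by
    intro X hX
    obtain ⟨g, -, h3, e⟩ := exists_generator_of_card_three X hX
    have h3' : orderOf (g : Equiv.Perm Cfsg.GolayPt) = 3 := by rw [Subgroup.orderOf_coe]; exact h3
    exact ⟨g, h3, e, order_three_fixed_cases _ g.2 h3'⟩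
  refine ⟨?_, ?_, ?_, ?_⟩
  · intro X hX
    obtain ⟨g, -, rfl, h⟩ := hgen X hX
    rw [ncard_fixed_zpowers]
    exact h.symm
  · refine ⟨Subgroup.zpowers W3A, card_zpowers_W3A, ?_⟩
    rw [ncard_fixed_zpowers]
    show (fixedF (wordPerm w36)).card = 6
    rw [card_fixedF_wordPerm]
    exact w3B_facts.2.2.2
  · refine ⟨Subgroup.zpowers W3B, card_zpowers_W3B, ?_⟩
    rw [ncard_fixed_zpowers]
    show (fixedF (wordPerm w3B)).card = 0
    rw [card_fixedF_wordPerm]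
    exact w3B_facts.2.2.1
  · intro X Y hX hY hXY
    obtain ⟨gX, h3X, rfl, hfX⟩ := hgen X hX
    obtain ⟨gY, h3Y, rfl, hfY⟩ := hgen Y hY
    rw [ncard_fixed_zpowers, ncard_fixed_zpowers] at hXY
    rcases hfX with hfX | hfX
    · have hfY' : (fixedF (gY : Equiv.Perm Cfsg.GolayPt)).card = 0 := by rw [← hXY]; exact hfX
      obtain ⟨kX, eX⟩ := conj_W3B_of_zero h3X hfX
      obtain ⟨kY, eY⟩ := conj_W3B_of_zero h3Y hfY'
      exact ⟨kY * kX⁻¹, conj_smul_of_conj_smul eX eY⟩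
    · have hfY' : (fixedF (gY : Equiv.Perm Cfsg.GolayPt)).card = 6 := by rw [← hXY]; exact hfX
      obtain ⟨kX, eX⟩ := conj_W3A_of_six h3X hfX
      obtain ⟨kY, eY⟩ := conj_W3A_of_six h3Y hfY'
      exact ⟨kY * kX⁻¹, conj_smul_of_conj_smul eX eY⟩

end Cfsg.Agent.S5601
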