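import Cfsg.Statements.S5610
import Cfsg.Agent.Lib.H28.OctadOnSextTrio

set_option autoImplicit false
open scoped Pointwise
open Cfsg

namespace Cfsg.Agent.S5610

/-- The stabiliser of an octad in the group of the length-24 code has exactly three orbits on the 3795 trios, of sizes 15, 420 and 3360, and exactly three orbits on the 1771 sextets, of sizes 35, 840 and 896. -/
theorem result (o : Finset Cfsg.GolayPt) (ho : o ∈ Cfsg.octads) : (∃ X₁ ∈ Cfsg.trios, ∃ X₂ ∈ Cfsg.trios, ∃ X₃ ∈ Cfsg.trios, (MulAction.orbit ↥(MulAction.stabilizer Cfsg.M24 o) X₁).ncard = 15 ∧ (MulAction.orbit ↥(MulAction.stabilizer Cfsg.M24 o) X₂).ncard = 420 ∧ (MulAction.orbit ↥(MulAction.stabilizer Cfsg.M24 o) X₃).ncard = 3360 ∧ Cfsg.trios = MulAction.orbit ↥(MulAction.stabilizer Cfsg.M24 o) X₁ ∪ MulAction.orbit ↥(MulAction.stabilizer Cfsg.M24 o) X₂ ∪ MulAction.orbit ↥(MulAction.stabilizer Cfsg.M24 o) X₃) ∧ (∃ Y₁ ∈ Cfsg.sextets, ∃ Y₂ ∈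 Cfsg.sextets, ∃ Y₃ ∈ Cfsg.sextets, (MulAction.orbit ↥(MulAction.stabilizer Cfsg.M24 o) Y₁).ncard = 35 ∧ (MulAction.orbit ↥(MulAction.stabilizer Cfsg.M24 o) Y₂).ncard = 840 ∧ (MulAction.orbit ↥(MulAction.stabilizer Cfsg.M24 o) Y₃).ncard = 896 ∧ Cfsg.sextets = MulAction.orbit ↥(MulAction.stabilizer Cfsg.M24 o) Y₁ ∪ MulAction.orbit ↥(MulAction.stabilizer Cfsg.M24 o) Y₂ ∪ MulAction.orbit ↥(MulAction.stabilizer Cfsg.M24 o) Y₃) := by
  classical
  obtain ⟨g, hg, rfl⟩ := Cfsg.Agent.Lib.H28.exists_M24_smul_octad Cfsg.Agent.Lib.H28.oct0_mem_octads ho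
  obtain ⟨t1, t2, t3⟩ := Cfsg.Agent.Lib.H28.octad_trio_structure ⟨g, hg⟩
  obtain ⟨s1, s2, s3⟩ := Cfsg.Agent.Lib.H28.octad_sextet_structure ⟨g, hg⟩
  constructor
  · have h := Cfsg.Agent.Lib.H28.pack3 (G := ↥Cfsg.M24) Cfsg.trios Cfsg.Agent.Lib.H28.setInv
      ((⟨g, hg⟩ : ↥Cfsg.M24) • Cfsg.Agent.Lib.H28.oct0) 100000002 20001 10200 Cfsg.Agent.Lib.H28.octTrioN
      (fun j hj => t1 j (by
        unfold Cfsg.Agent.Lib.H28.octTrioJ
        simp only [List.mem_cons, List.not_mem_nil, or_false] at hj ⊢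
        tauto)) t2
      (fun y hy => by
        have := t3 y hy
        unfold Cfsg.Agent.Lib.H28.octTrioJ at this
        simp only [List.mem_cons, List.not_mem_nil, or_false] at this ⊢
        tauto)
    exact h
  · have h := Cfsg.Agent.Lib.H28.pack3 (G := ↥Cfsg.M24) Cfsg.sextets Cfsg.Agent.Lib.H28.setInv
      ((⟨g, hg⟩ : ↥Cfsg.M24) • Cfsg.Agent.Lib.H28.oct0) 20004 402 1050 Cfsg.Agent.Lib.H28.octSextN
      (fun j hj => s1 j (by
        unfold Cfsg.Agent.Lib.H28.octSextJ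
        simp only [List.mem_cons, List.not_mem_nil, or_false] at hj ⊢
        tauto)) s2
      (fun y hy => by
        have := s3 y hy
        unfold Cfsg.Agent.Lib.H28.octSextJ at this
        simp only [List.mem_cons, List.not_mem_nil, or_false] at this ⊢
        tauto)
    exact h

end Cfsg.Agent.S5610
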