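import Cfsg.Statements.S5611
import Cfsg.Agent.Lib.H28.SextTrioStructure

set_option autoImplicit false
open scoped Pointwise
open Cfsg

namespace Cfsg.Agent.S5611

/-- The stabiliser of a sextet in the group of the length-24 code has exactly three orbits on the 759 octads, of sizes 15, 360 and 384, and exactly four orbits on the 3795 trios, of sizes 15, 180, 720 and 2880. -/
theorem result (S : Finset (Finset Cfsg.GolayPt)) (hS : S ∈ Cfsg.sextets) : (∃ X₁ ∈ Cfsg.octads, ∃ X₂ ∈ Cfsg.octads, ∃ X₃ ∈ Cfsg.octads, (MulAction.orbit ↥(MulAction.stabilizer Cfsg.M24 S) X₁).ncard = 15 ∧ (MulAction.orbit ↥(MulAction.stabilizer Cfsg.M24 S) X₂).ncard = 360 ∧ (MulAction.orbit ↥(MulAction.stabilizer Cfsg.M24 S) X₃).ncard = 384 ∧ Cfsg.octads = MulAction.orbit ↥(MulAction.stabilizer Cfsg.M24 S) X₁ ∪ MulAction.orbit ↥(MulAction.stabilizer Cfsg.M24 S) X₂ ∪ MulAction.orbit ↥(MulAction.stabilizer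 Cfsg.M24 S) X₃) ∧ (∃ Y₁ ∈ Cfsg.trios, ∃ Y₂ ∈ Cfsg.trios, ∃ Y₃ ∈ Cfsg.trios, ∃ Y₄ ∈ Cfsg.trios, (MulAction.orbit ↥(MulAction.stabilizer Cfsg.M24 S) Y₁).ncard = 15 ∧ (MulAction.orbit ↥(MulAction.stabilizer Cfsg.M24 S) Y₂).ncard = 180 ∧ (MulAction.orbit ↥(MulAction.stabilizer Cfsg.M24 S) Y₃).ncard = 720 ∧ (MulAction.orbit ↥(MulAction.stabilizer Cfsg.M24 S) Y₄).ncard = 2880 ∧ Cfsg.trios = MulAction.orbit ↥(MulAction.stabilizer Cfsg.M24 S) Y₁ ∪ MulAction.orbit ↥(MulAction.stabilizer Cfsg.M24 S) Y₂ ∪ MulAction.orbit ↥(MulAction.stabilizer Cfsg.M24 S) Y₃ ∪ MulAction.orbit ↥(MulAction.stabilizer Cfsg.M24 S) Y₄) := by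
  classical
  obtain ⟨g, hg, rfl⟩ := Cfsg.Agent.Lib.H28.exists_M24_smul_sextet Cfsg.Agent.Lib.H28.sext0_mem_sextets hS
  obtain ⟨o1, o2, o3⟩ := Cfsg.Agent.Lib.H28.sextet_octad_structure ⟨g, hg⟩
  obtain ⟨t1, t2, t3⟩ := Cfsg.Agent.Lib.H28.sextet_trio_structure ⟨g, hg⟩
  constructor
  · have hperm : ∀ j : ℕ, j ∈ [20004, 402, 1050] ↔ j ∈ Cfsg.Agent.Lib.H28.sextOctJ := by
      intro j
      unfold Cfsg.Agent.Lib.H28.sextOctJ
      simp only [List.mem_cons, List.not_mem_nil, or_false]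
      tauto
    have h := Cfsg.Agent.Lib.H28.pack3 (G := ↥Cfsg.M24) Cfsg.octads Cfsg.Agent.Lib.H28.famInv
      ((⟨g, hg⟩ : ↥Cfsg.M24) • Cfsg.Agent.Lib.H28.decL Cfsg.Agent.Lib.H28.sext0Key) 20004 402 1050 Cfsg.Agent.Lib.H28.sextOctN
      (fun j hj => o1 j ((hperm j).1 hj)) o2
      (fun y hy => (hperm _).2 (o3 y hy))
    exact h
  · have hperm : ∀ j : ℕ, j ∈ [60012, 20808, 1206, 2502] ↔ j ∈ Cfsg.Agent.Lib.H28.sextTrioJ := by
      intro j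
      unfold Cfsg.Agent.Lib.H28.sextTrioJ
      simp only [List.mem_cons, List.not_mem_nil, or_false]
      tauto
    have h := Cfsg.Agent.Lib.H28.pack4 (G := ↥Cfsg.M24) Cfsg.trios Cfsg.Agent.Lib.H28.pairInv
      ((⟨g, hg⟩ : ↥Cfsg.M24) • Cfsg.Agent.Lib.H28.decL Cfsg.Agent.Lib.H28.sext0Key) 60012 20808 1206 2502 Cfsg.Agent.Lib.H28.sextTrioN
      (fun j hj => t1 j ((hperm j).1 hj)) t2
      (fun y hy => (hperm _).2 (t3 y hy))
    exact h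

end Cfsg.Agent.S5611
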