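import Cfsg.Statements.S5612
import Cfsg.Agent.Lib.H28.SextTrioStructure

set_option autoImplicit false
open scoped Pointwise
open Cfsg

namespace Cfsg.Agent.S5612

/-- The stabiliser of a trio in the group of the length-24 code has exactly three orbits on the 759 octads, of sizes 3, 84 and 672, and exactly four orbits on the 1771 sextets, of sizes 7, 84, 336 and 1344. -/
theorem result (T : Finset (Finset Cfsg.GolayPt)) (hT : T ∈ Cfsg.trios) : (∃ X₁ ∈ Cfsg.octads, ∃ X₂ ∈ Cfsg.octads, ∃ X₃ ∈ Cfsg.octads, (MulAction.orbit ↥(MulAction.stabilizer Cfsg.M24 T) X₁).ncard = 3 ∧ (MulAction.orbit ↥(MulAction.stabilizer Cfsg.M24 T) X₂).ncard = 84 ∧ (MulAction.orbit ↥(MulAction.stabilizer Cfsg.M24 T) X₃).ncard = 672 ∧ Cfsg.octads = MulAction.orbit ↥(MulAction.stabilizer Cfsg.M24 T) X₁ ∪ MulAction.orbit ↥(MulAction.stabilizer Cfsg.M24 T) X₂ ∪ MulAction.orbit ↥(MulAction.stabilizer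 Cfsg.M24 T) X₃) ∧ (∃ Y₁ ∈ Cfsg.sextets, ∃ Y₂ ∈ Cfsg.sextets, ∃ Y₃ ∈ Cfsg.sextets, ∃ Y₄ ∈ Cfsg.sextets, (MulAction.orbit ↥(MulAction.stabilizer Cfsg.M24 T) Y₁).ncard = 7 ∧ (MulAction.orbit ↥(MulAction.stabilizer Cfsg.M24 T) Y₂).ncard = 84 ∧ (MulAction.orbit ↥(MulAction.stabilizer Cfsg.M24 T) Y₃).ncard = 336 ∧ (MulAction.orbit ↥(MulAction.stabilizer Cfsg.M24 T) Y₄).ncard = 1344 ∧ Cfsg.sextets = MulAction.orbit ↥(MulAction.stabilizer Cfsg.M24 T) Y₁ ∪ MulAction.orbit ↥(MulAction.stabilizer Cfsg.M24 T) Y₂ ∪ MulAction.orbit ↥(MulAction.stabilizer Cfsg.M24 T) Y₃ ∪ MulAction.orbit ↥(MulAction.stabilizer Cfsg.M24 T) Y₄) := by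
  classical
  obtain ⟨g, hg, rfl⟩ := Cfsg.Agent.Lib.H28.exists_M24_smul_trio Cfsg.Agent.Lib.H28.trio0_mem_trios hT
  obtain ⟨o1, o2, o3⟩ := Cfsg.Agent.Lib.H28.trio_octad_structure ⟨g, hg⟩
  obtain ⟨t1, t2, t3⟩ := Cfsg.Agent.Lib.H28.trio_sextet_structure ⟨g, hg⟩
  constructor
  · have hperm : ∀ j : ℕ, j ∈ [100000002, 20001, 10200] ↔ j ∈ Cfsg.Agent.Lib.H28.trioOctJ := by
      intro j
      unfold Cfsg.Agent.Lib.H28.trioOctJ
      simp only [List.mem_cons, List.not_mem_nil, or_false]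
      tauto
    have h := Cfsg.Agent.Lib.H28.pack3 (G := ↥Cfsg.M24) Cfsg.octads Cfsg.Agent.Lib.H28.famInv
      ((⟨g, hg⟩ : ↥Cfsg.M24) • Cfsg.Agent.Lib.H28.decL Cfsg.Agent.Lib.H28.trio0Key) 100000002 20001 10200 Cfsg.Agent.Lib.H28.trioOctN
      (fun j hj => o1 j ((hperm j).1 hj)) o2
      (fun y hy => (hperm _).2 (o3 y hy))
    exact h
  · have hperm : ∀ j : ℕ, j ∈ [60012, 20808, 1206, 2502] ↔ j ∈ Cfsg.Agent.Lib.H28.trioSextJ := by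
      intro j
      unfold Cfsg.Agent.Lib.H28.trioSextJ
      simp only [List.mem_cons, List.not_mem_nil, or_false]
      tauto
    have h := Cfsg.Agent.Lib.H28.pack4 (G := ↥Cfsg.M24) Cfsg.sextets Cfsg.Agent.Lib.H28.pairInv
      ((⟨g, hg⟩ : ↥Cfsg.M24) • Cfsg.Agent.Lib.H28.decL Cfsg.Agent.Lib.H28.trio0Key) 60012 20808 1206 2502 Cfsg.Agent.Lib.H28.trioSextN
      (fun j hj => t1 j ((hperm j).1 hj)) t2
      (fun y hy => (hperm _).2 (t3 y hy))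
    exact h

end Cfsg.Agent.S5612
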