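import Cfsg.Statements.S5617
import Cfsg.Agent.Lib.H28.DodSext

set_option autoImplicit false
open scoped Pointwise
open Cfsg

namespace Cfsg.Agent.S5617

/-- The setwise stabiliser, in the group of the length-24 code, of a complementary pair of dodecads has exactly three orbits on the 1771 sextets, of sizes 396, 495 and 880. -/
theorem result (d : Finset Cfsg.GolayPt) (hd : d ∈ Cfsg.dodecads) : ∃ X₁ ∈ Cfsg.sextets, ∃ X₂ ∈ Cfsg.sextets, ∃ X₃ ∈ Cfsg.sextets, (MulAction.orbit ↥(MulAction.stabilizer Cfsg.M24 ({d, Finset.univ \ d} : Finset (Finset Cfsg.GolayPt))) X₁).ncard = 396 ∧ (MulAction.orbit ↥(MulAction.stabilizer Cfsg.M24 ({d, Finset.univ \ d} : Finset (Finset Cfsg.GolayPt))) X₂).ncard = 495 ∧ (MulAction.orbit ↥(MulAction.stabilizer Cfsg.M24 ({d, Finset.univ \ d} : Finset (Finset Cfsg.GolayPt))) X₃).ncard = 880 ∧ Cfsg.sextets = MulAction.orbit ↥(MulAction.stabilizer Cfsg.M24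 ({d, Finset.univ \ d} : Finset (Finset Cfsg.GolayPt))) X₁ ∪ MulAction.orbit ↥(MulAction.stabilizer Cfsg.M24 ({d, Finset.univ \ d} : Finset (Finset Cfsg.GolayPt))) X₂ ∪ MulAction.orbit ↥(MulAction.stabilizer Cfsg.M24 ({d, Finset.univ \ d} : Finset (Finset Cfsg.GolayPt))) X₃ := by
  classical
  obtain ⟨g, hg, e0⟩ := Cfsg.Agent.Lib.H28.exists_M24_smul_dod0 hd
  rw [← Cfsg.Agent.Lib.H28.ptsMask_eq_support₂] at e0
  subst e0
  have e : ({g • Cfsg.Agent.Lib.H28.ptsMask Cfsg.Agent.Lib.H28.dod0, Finset.univ \ g • Cfsg.Agent.Lib.H28.ptsMask Cfsg.Agent.Lib.H28.dod0} : Finset (Finset Cfsg.GolayPt))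
      = (⟨g, hg⟩ : ↥Cfsg.M24) • Cfsg.Agent.Lib.H28.decL Cfsg.Agent.Lib.H28.dodPairKey := (Cfsg.Agent.Lib.H28.smul_decL_dodPairKey g).symm
  rw [e]
  obtain ⟨t1, t2, t3⟩ := Cfsg.Agent.Lib.H28.dodPair_sextet_structure ⟨g, hg⟩
  have hperm : ∀ j : ℕ, j ∈ [1200, 20802, 6060] ↔ j ∈ Cfsg.Agent.Lib.H28.dodSextJ := by
    intro j
    unfold Cfsg.Agent.Lib.H28.dodSextJ
    simp only [List.mem_cons, List.not_mem_nil, or_false]
    tauto
  have h := Cfsg.Agent.Lib.H28.pack3 (G := ↥Cfsg.M24) Cfsg.sextets Cfsg.Agent.Lib.H28.pairInv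
    ((⟨g, hg⟩ : ↥Cfsg.M24) • Cfsg.Agent.Lib.H28.decL Cfsg.Agent.Lib.H28.dodPairKey) 1200 20802 6060 Cfsg.Agent.Lib.H28.dodSextN
    (fun j hj => t1 j ((hperm j).1 hj)) t2
    (fun y hy => (hperm _).2 (t3 y hy))
  exact h

end Cfsg.Agent.S5617
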