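import Cfsg.Statements.S5618
import Cfsg.Agent.Lib.H28.HexadStab
open Cfsg.Agent.Lib.H28

set_option autoImplicit false
open scoped Pointwise
open Cfsg

namespace Cfsg.Agent.S5618

/-- Restriction of the joint stabilizer of a dodecad and a hexad to the hexad. -/
def hexRestrict (d C : Finset Cfsg.GolayPt) :
    ↥(MulAction.stabilizer Cfsg.M24 d ⊓ MulAction.stabilizer Cfsg.M24 C) →* Equiv.Perm ↥C where
  toFun g := (g.1.1 : Equiv.Perm Cfsg.GolayPt).subtypePerm (fun x => mem_iff_of_smul_finset_eq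
    (MulAction.mem_stabilizer_iff.1 (Subgroup.mem_inf.1 g.2).2) x)
  map_one' := by
    apply Equiv.ext
    intro x
    rfl
  map_mul' a b := by
    apply Equiv.ext
    intro x
    rfl

theorem hexRestrict_apply (d C : Finset Cfsg.GolayPt)
    (g : ↥(MulAction.stabilizer Cfsg.M24 d ⊓ MulAction.stabilizer Cfsg.M24 C)) (x : ↥C) :
    ((hexRestrict d C g) x : Cfsg.GolayPt) = (g.1.1 : Equiv.Perm Cfsg.GolayPt) x := rfl


/-- For a dodecad d of the length-24 code and a hexad C on it (a 6-point intersection of d with an octad): the joint stabiliser of d and C in the code's group is isomorphic to the symmetric group of degree 6, and it acts faithfully both on the six points of C and on the six points of d outside C. -/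
theorem result (d : Finset Cfsg.GolayPt) (hd : d ∈ Cfsg.dodecads) (C : Finset Cfsg.GolayPt) (hC : C ∈ Cfsg.hexadsOn d) : Nonempty (↥(MulAction.stabilizer Cfsg.M24 d ⊓ MulAction.stabilizer Cfsg.M24 C) ≃* Equiv.Perm (Fin 6)) ∧ (∀ g ∈ MulAction.stabilizer Cfsg.M24 d ⊓ MulAction.stabilizer Cfsg.M24 C, (∀ p ∈ C, ((g : ↥Cfsg.M24) : Equiv.Perm Cfsg.GolayPt) p = p) → g = 1) ∧ ∀ g ∈ MulAction.stabilizer Cfsg.M24 d ⊓ MulAction.stabilizer Cfsg.M24 C, (∀ p ∈ d \ C, ((g : ↥Cfsg.M24) : Equiv.Perm Cfsg.GolayPt) p = p) → g = 1 := by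
  have hfixC : ∀ g ∈ MulAction.stabilizer Cfsg.M24 d ⊓ MulAction.stabilizer Cfsg.M24 C,
      (∀ p ∈ C, ((g : ↥Cfsg.M24) : Equiv.Perm Cfsg.GolayPt) p = p) → g = 1 := by
    intro g hg hfix
    have hgd : (g : Equiv.Perm Cfsg.GolayPt) • d = d := MulAction.mem_stabilizer_iff.1 (Subgroup.mem_inf.1 hg).1
    apply Subtype.ext
    exact eq_one_of_fix_six hd g.2 hgd hC.1 (hexadsOn_subset hC) hfix
  refine ⟨?_, hfixC, ?_⟩
  · have hinj : Function.Injective (hexRestrict d C) := by
      rw [injective_iff_map_eq_one]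
      intro g hg1
      have h1 : g.1 = 1 := by
        apply hfixC g.1 g.2
        intro p hp
        have := congrArg (fun e : Equiv.Perm ↥C => (e ⟨p, hp⟩ : Cfsg.GolayPt)) hg1
        exact this
      exact Subtype.ext h1
    have hsurj : Function.Surjective (hexRestrict d C) := by
      intro σ
      obtain ⟨g, hg, hgd, hgC, hmap⟩ := hexad_perm_induced hd hC σ
      refine ⟨⟨⟨g, hg⟩, Subgroup.mem_inf.2 ⟨MulAction.mem_stabilizer_iff.2 hgd,
        MulAction.mem_stabilizer_iff.2 hgC⟩⟩, ?_⟩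
      apply Equiv.ext
      intro c
      apply Subtype.ext
      rw [hexRestrict_apply]
      exact hmap c
    have e6 : ↥C ≃ Fin 6 := Finset.equivFinOfCardEq hC.1
    exact ⟨(MulEquiv.ofBijective (hexRestrict d C) ⟨hinj, hsurj⟩).trans e6.permCongrHom⟩
  · intro g hg hfix
    have hgd : (g : Equiv.Perm Cfsg.GolayPt) • d = d := MulAction.mem_stabilizer_iff.1 (Subgroup.mem_inf.1 hg).1
    apply Subtype.ext
    have h12 : d.card = 12 := hd.2
    have hcard : (d \ C).card = 6 := by
      rw [Finset.card_sdiff_of_subset (hexadsOn_subset hC), h12, hC.1]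
    exact eq_one_of_fix_six hd g.2 hgd hcard Finset.sdiff_subset hfix

end Cfsg.Agent.S5618
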