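import Cfsg.Statements.S5623
import Cfsg.Agent.Lib.H28.GolayAbstract

set_option autoImplicit false
open Cfsg

namespace Cfsg.Agent.S5623

/-- Let C be a self-dual binary code of length 24 with minimum weight at least 8 (a 12-dimensional subspace of the 24-dimensional space over the field with two elements, any two of whose words have dot product zero, with no non-zero word of weight below 8 — an abstract extended binary Golay code). Then every coset w + C of C in the ambient space contains either exactly one word of weight at most 4, which then has weight at most 3, or exactly six words of weight at most 4, all of weight exactly 4 and with pairwise disjoint supports (a sextet). -/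
theorem result (C : Submodule (ZMod 2) (Fin 24 → ZMod 2)) (hdim : Module.finrank (ZMod 2) C = 12) (horth : ∀ v ∈ C, ∀ w ∈ C, ∑ i, v i * w i = 0) (hmin : ∀ w ∈ C, w ≠ 0 → 8 ≤ hammingNorm w) (w : Fin 24 → ZMod 2) : (∃ u : Fin 24 → ZMod 2, {u : Fin 24 → ZMod 2 | u - w ∈ C ∧ hammingNorm u ≤ 4} = {u} ∧ hammingNorm u ≤ 3) ∨ ({u : Fin 24 → ZMod 2 | u - w ∈ C ∧ hammingNorm u ≤ 4}.ncard = 6 ∧ ∀ u ∈ {u : Fin 24 → ZMod 2 | u - w ∈ C ∧ hammingNorm u ≤ 4}, hammingNorm u = 4 ∧ ∀ u' ∈ {u : Fin 24 → ZMod 2 | u - w ∈ C ∧ hammingNorm u ≤ 4}, u ≠ u' → Disjoint (Finset.univ.filter fun i => u i ≠ 0) (Finset.univ.filter fun i => u' i ≠ 0)) := by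
  have hC : Cfsg.Agent.Lib.H28.IsAbsGolay C := ⟨Fintype.card_fin 24, hdim, horth, hmin⟩
  set q : (Fin 24 → ZMod 2) ⧸ C := Submodule.Quotient.mk w with hq
  have hmem : ∀ u : Fin 24 → ZMod 2, u ∈ {u : Fin 24 → ZMod 2 | u - w ∈ C ∧ hammingNorm u ≤ 4} ↔
      (u ∈ Cfsg.Agent.Lib.H28.cosetLow C q ∨ u ∈ Cfsg.Agent.Lib.H28.cosetFour C q) := by
    intro u
    rw [Set.mem_ofPred_eq, Cfsg.Agent.Lib.H28.mem_cosetLow, Cfsg.Agent.Lib.H28.mem_cosetFour, hq,
      Submodule.Quotient.eq]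
    constructor
    · rintro ⟨h1, h2⟩
      by_cases h3 : hammingNorm u ≤ 3
      · exact Or.inl ⟨h1, h3⟩
      · exact Or.inr ⟨h1, by omega⟩
    · rintro (⟨h1, h2⟩ | ⟨h1, h2⟩)
      · exact ⟨h1, by omega⟩
      · exact ⟨h1, by omega⟩
  rcases Cfsg.Agent.Lib.H28.coset_dichotomy hC q with ⟨u, hu, h0⟩ | ⟨h0, h6⟩
  · left
    refine ⟨u, ?_, ?_⟩
    · ext x
      rw [hmem, hu, h0]
      simp
    · have : u ∈ Cfsg.Agent.Lib.H28.cosetLow C q := by rw [hu]; exact Finset.mem_singleton_self u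
      rw [Cfsg.Agent.Lib.H28.mem_cosetLow] at this
      exact this.2
  · right
    have hset : {u : Fin 24 → ZMod 2 | u - w ∈ C ∧ hammingNorm u ≤ 4}
        = ((Cfsg.Agent.Lib.H28.cosetFour C q : Finset (Fin 24 → ZMod 2)) : Set (Fin 24 → ZMod 2)) := by
      ext x
      rw [hmem, h0]
      simp
    rw [hset]
    refine ⟨?_, ?_⟩
    · rw [Set.ncard_coe_finset, h6]
    · intro u hu
      rw [Finset.mem_coe] at hu
      refine ⟨(Cfsg.Agent.Lib.H28.mem_cosetFour.1 hu).2, ?_⟩
      intro u' hu' hne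
      rw [Finset.mem_coe] at hu'
      exact Cfsg.Agent.Lib.H28.cosetFour_disjoint hC q u hu u' hu' hne


end Cfsg.Agent.S5623
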