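-- Statement S5625: intersection numbers of a 3-set with the blocks of an S(5,8,24).
import Cfsg.Statements.S5625
import Cfsg.Agent.Lib.H28.Steiner

set_option autoImplicit false

namespace Cfsg.Agent.S5625

open Finset Cfsg.Agent.Lib.H28

variable {α : Type*} [Fintype α] [DecidableEq α]

/-- `Σ_b C(|b ∩ Y|, j) = Σ_{Z ⊆ Y, |Z| = j} #{b | Z ⊆ b}`. -/
theorem sum_choose_inter (B : Set (Finset α)) (Y : Finset α) (j : ℕ) :
    ∑ b ∈ blocksF B, Nat.choose (b ∩ Y).card j
      = ∑ Z ∈ Y.powersetCard j, ((blocksF B).filter (Z ⊆ ·)).card := by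
  classical
  have hdc := sum_card_bipartiteAbove_eq_sum_card_bipartiteBelow (s := Y.powersetCard j) (t := blocksF B)
    (r := fun (Z b : Finset α) => Z ⊆ b)
  have h1 : ∀ Z ∈ Y.powersetCard j, ((blocksF B).bipartiteAbove (fun (Z b : Finset α) => Z ⊆ b) Z).card
      = ((blocksF B).filter (Z ⊆ ·)).card := fun Z _ => rfl
  have h2 : ∀ b ∈ blocksF B, ((Y.powersetCard j).bipartiteBelow (fun (Z b : Finset α) => Z ⊆ b) b).card
      = Nat.choose (b ∩ Y).card j := by
    intro b _
    rw [← card_powersetCard]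
    congr 1
    ext Z
    simp only [bipartiteBelow, mem_filter, mem_powersetCard, subset_inter_iff]
    tauto
  rw [sum_congr rfl h1, sum_congr rfl h2] at hdc
  exact hdc.symm

theorem result (α : Type*) [Fintype α] [DecidableEq α] (hα : Fintype.card α = 24) (B : Set (Finset α)) (hB : Cfsg.IsSteinerSystem 5 8 B) (Y : Finset α) (hY : Y.card = 3) : {b : Finset α | b ∈ B ∧ (b ∩ Y).card = 3}.ncard = 21 ∧ {b : Finset α | b ∈ B ∧ (b ∩ Y).card = 2}.ncard = 168 ∧ {b : Finset α | b ∈ B ∧ (b ∩ Y).card = 1}.ncard = 360 ∧ {b : Finset α | b ∈ B ∧ (b ∩ Y).card = 0}.ncard = 210 := by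
  classical
  rw [ncard_eq_card_filter, ncard_eq_card_filter, ncard_eq_card_filter, ncard_eq_card_filter]
  set Bf := blocksF B with hBf
  -- λ_j
  have hlam : ∀ j, j ≤ 3 → ∀ Z ∈ Y.powersetCard j, (Bf.filter (Z ⊆ ·)).card * Nat.choose (8 - j) (5 - j)
      = Nat.choose (24 - j) (5 - j) := by
    intro j hj Z hZ
    rw [mem_powersetCard] at hZ
    have := steiner_count hB Z (by omega)
    rwa [hZ.2, hα] at this
  have hN : ∀ j, j ≤ 3 → (∑ b ∈ Bf, Nat.choose (b ∩ Y).card j) * Nat.choose (8 - j) (5 - j)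
      = Nat.choose 3 j * Nat.choose (24 - j) (5 - j) := by
    intro j hj
    rw [sum_choose_inter, sum_mul, sum_congr rfl (hlam j hj), sum_const, card_powersetCard, hY, smul_eq_mul]
  -- fiberwise decomposition
  have hfib : ∀ g : ℕ → ℕ, ∑ b ∈ Bf, g (b ∩ Y).card
      = ∑ i ∈ range 4, (Bf.filter (fun b => (b ∩ Y).card = i)).card * g i := by
    intro g
    have hmaps : ∀ b ∈ Bf, (b ∩ Y).card ∈ range 4 := by
      intro b _
      rw [mem_range]
      have := card_le_card (inter_subset_right (s₁ := b) (s₂ := Y))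
      omega
    rw [← sum_fiberwise_of_maps_to hmaps]
    apply sum_congr rfl
    intro i _
    rw [sum_congr rfl (fun b hb => by rw [(mem_filter.1 hb).2] : ∀ b ∈ Bf.filter (fun b => (b ∩ Y).card = i), g (b ∩ Y).card = g i),
      sum_const, smul_eq_mul]
  have h0 := hN 0 (by omega)
  have h1 := hN 1 (by omega)
  have h2 := hN 2 (by omega)
  have h3 := hN 3 (by omega)
  rw [hfib (fun n => Nat.choose n 0)] at h0
  rw [hfib (fun n => Nat.choose n 1)] at h1
  rw [hfib (fun n => Nat.choose n 2)] at h2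
  rw [hfib (fun n => Nat.choose n 3)] at h3
  simp only [sum_range_succ, sum_range_zero] at h0 h1 h2 h3
  generalize (Bf.filter (fun b => (b ∩ Y).card = 0)).card = E0 at *
  generalize (Bf.filter (fun b => (b ∩ Y).card = 1)).card = E1 at *
  generalize (Bf.filter (fun b => (b ∩ Y).card = 2)).card = E2 at *
  generalize (Bf.filter (fun b => (b ∩ Y).card = 3)).card = E3 at *
  norm_num [Nat.choose] at h0 h1 h2 h3
  omega

end Cfsg.Agent.S5625
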