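import Mathlib
import Cfsg.Statements.S5627
import Cfsg.Agent.Lib.H2.PG24f
-- import your own Cfsg.Agent.* helpers here

set_option autoImplicit false
open Cfsg

namespace Cfsg.Agent.S5627

/-- In a projective plane of order 4 (a Steiner system S(2, 5, 21)), call a set of points independent when no line meets it in more than two points. There are exactly 2520 independent 4-sets and exactly 168 independent 6-sets (hyperovals), and every independent 4-set lies in exactly one hyperoval. -/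
theorem result {α : Type*} [Fintype α] [DecidableEq α] (hα : Fintype.card α = 21) (L : Set (Finset α)) (hL : Cfsg.IsSteinerSystem 2 5 L) : {S : Finset α | (S.card = 4 ∧ ∀ l ∈ L, (l ∩ S).card ≤ 2)}.ncard = 2520 ∧ {H : Finset α | (H.card = 6 ∧ ∀ l ∈ L, (l ∩ H).card ≤ 2)}.ncard = 168 ∧ ∀ S : Finset α, (S.card = 4 ∧ ∀ l ∈ L, (l ∩ S).card ≤ 2) → ∃! H : Finset α, (H.card = 6 ∧ ∀ l ∈ L, (l ∩ H).card ≤ 2) ∧ S ⊆ H := by
  classical
  have P : Cfsg.Agent.Lib.H2.PG24.IsPlane L := ⟨hα, hL⟩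
  have h4 : {S : Finset α | (S.card = 4 ∧ ∀ l ∈ L, (l ∩ S).card ≤ 2)}
      = ↑(Cfsg.Agent.Lib.H2.PG24.arcs L 4) := by
    ext S
    rw [Finset.mem_coe, Cfsg.Agent.Lib.H2.PG24.mem_arcs]
    rfl
  have h6 : {H : Finset α | (H.card = 6 ∧ ∀ l ∈ L, (l ∩ H).card ≤ 2)}
      = ↑(Cfsg.Agent.Lib.H2.PG24.arcs L 6) := by
    ext S
    rw [Finset.mem_coe, Cfsg.Agent.Lib.H2.PG24.mem_arcs]
    rfl
  refine ⟨?_, ?_, ?_⟩
  · rw [h4, Set.ncard_coe_finset, P.card_arcs_four]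
  · rw [h6, Set.ncard_coe_finset, P.card_ovals]
  · intro S hS
    refine ⟨S ∪ Cfsg.Agent.Lib.H2.PG24.free L S, ⟨P.oval_of_four hS.2 hS.1, Finset.subset_union_left⟩, ?_⟩
    rintro H ⟨hH, hSH⟩
    exact P.oval_unique hS.2 hS.1 hH hSH

end Cfsg.Agent.S5627
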