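import Mathlib
import Cfsg.Statements.S5628
import Cfsg.Agent.Lib.H2.PG24c
-- import your own Cfsg.Agent.* helpers here

set_option autoImplicit false
open Cfsg
open scoped Pointwise

namespace Cfsg.Agent.S5628

/-- In a projective plane of order 4 (a Steiner system S(2, 5, 21)), every permutation of the six points of a hyperoval (a 6-set met by no line in more than two points) is the restriction of exactly one automorphism of the plane. In particular the stabiliser of a hyperoval in the automorphism group is isomorphic to the symmetric group of degree 6 acting faithfully on the hyperoval. -/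
theorem result {α : Type*} [Fintype α] [DecidableEq α] (hα : Fintype.card α = 21) (L : Set (Finset α)) (hL : Cfsg.IsSteinerSystem 2 5 L) (H : Finset α) (hH : (H.card = 6 ∧ ∀ l ∈ L, (l ∩ H).card ≤ 2)) (σ : Equiv.Perm ↥H) : ∃! g : Equiv.Perm α, g ∈ Cfsg.setSystemAut L ∧ ∀ p : ↥H, g p = σ p := by
  classical
  have P : Cfsg.Agent.Lib.H2.PG24.IsPlane L := ⟨hα, hL⟩
  have hH' : Cfsg.Agent.Lib.H2.PG24.IsOval L H := hH
  obtain ⟨g, hg, hgH, hgσ⟩ := Cfsg.Agent.Lib.H2.PG24.exists_ext P hH' P hH' σ
  have hmem : ∀ f : Equiv.Perm α, f ∈ Cfsg.setSystemAut L ↔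
      (fun b : Finset α => b.image f) '' L = L := by
    intro f
    rw [MulAction.mem_stabilizer_iff]
    rfl
  refine ⟨g, ⟨(hmem g).mpr hg, hgσ⟩, ?_⟩
  rintro g' ⟨hg', hg'σ⟩
  rw [hmem] at hg'
  symm
  apply Cfsg.Agent.Lib.H2.PG24.eq_of_eq_on_oval P hH' P hH' g g' hgH
  · intro l hl
    rw [← hg]
    exact ⟨l, hl, rfl⟩
  · intro l hl
    rw [← hg']
    exact ⟨l, hl, rfl⟩
  · intro h hh
    rw [hgσ ⟨h, hh⟩, hg'σ ⟨h, hh⟩]

end Cfsg.Agent.S5628
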