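-- Statement S5632: joint stabiliser in SL_n(q) of a flag 0 < W < U is not maximal.
import Cfsg.Statements.S5632
import Cfsg.Agent.Lib.H28.GLBasic

set_option autoImplicit false
open Cfsg

namespace Cfsg.Agent.S5632

open Cfsg.Agent.Lib.H28

theorem result {F : Type*} [Field F] [Fintype F] (n : ℕ) (W U : Submodule F (Fin n → F)) (hW0 : W ≠ ⊥) (hWU : W < U) (hdim : Module.finrank F W + Module.finrank F U = n) : ∃ K : Subgroup (Matrix.GeneralLinearGroup (Fin n) F), Cfsg.Geo.subspaceStabilizer W ⊓ Cfsg.Geo.subspaceStabilizer U ⊓ Cfsg.Geo.specialLinear (Fin n) F < K ∧ K < Cfsg.Geo.specialLinear (Fin n) F := by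
  have hW1 : W ≠ ⊤ := by
    rintro rfl
    exact (not_top_lt hWU)
  -- U ≠ ⊤
  have hU1 : U ≠ ⊤ := by
    rintro rfl
    have h1 : Module.finrank F (⊤ : Submodule F (Fin n → F)) = n := by
      rw [finrank_top]; simp
    have h2 : 0 < Module.finrank F W := by
      rw [Module.finrank_pos_iff]
      exact (Submodule.nontrivial_iff_ne_bot).2 hW0
    omega
  refine ⟨Cfsg.Geo.subspaceStabilizer W ⊓ Cfsg.Geo.specialLinear (Fin n) F, ?_, stab_inf_sl_lt W hW0 hW1⟩
  refine lt_of_le_of_ne (inf_le_inf_right _ inf_le_left) ?_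
  intro heq
  obtain ⟨u, huU, huW⟩ := SetLike.exists_of_lt hWU
  obtain ⟨v, hv⟩ : ∃ v, v ∉ U := by
    by_contra hcon
    push Not at hcon
    exact hU1 (eq_top_iff.2 fun x _ => hcon x)
  have hu : u ∉ W ⊔ Submodule.span F {v} := by
    rw [Submodule.mem_sup]
    rintro ⟨w, hw, z, hz, hsum⟩
    rw [Submodule.mem_span_singleton] at hz
    obtain ⟨c, rfl⟩ := hz
    by_cases hc0 : c = 0
    · subst hc0
      apply huW
      rw [← hsum]; simpa using hw
    · apply hv
      have hcv : c • v ∈ U := by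
        have : c • v = u - w := by rw [← hsum]; abel
        rw [this]
        exact U.sub_mem huU (hWU.le hw)
      have : v = c⁻¹ • (c • v) := by rw [smul_smul, inv_mul_cancel₀ hc0, one_smul]
      rw [this]
      exact U.smul_mem _ hcv
  obtain ⟨g, hgSL, hgfix, hgu⟩ := exists_sl_fix_add W u v hu
  have hgK : g ∈ Cfsg.Geo.subspaceStabilizer W ⊓ Cfsg.Geo.specialLinear (Fin n) F :=
    ⟨mem_subspaceStabilizer_of_fix g W hgfix, hgSL⟩
  rw [← heq] at hgK
  have hgU := (mem_subspaceStabilizer_iff g U).1 hgK.1.2 u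
  have := hgU.1 huU
  rw [hgu] at this
  exact hv ((U.add_mem_iff_right huU).1 this)

end Cfsg.Agent.S5632
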