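-- Statement S5633: joint stabiliser in SL_n(q) of two complementary subspaces of different dimensions is not maximal.
import Cfsg.Statements.S5633
import Cfsg.Agent.Lib.H28.GLBasic

set_option autoImplicit false
open Cfsg

namespace Cfsg.Agent.S5633

open Cfsg.Agent.Lib.H28

theorem result {F : Type*} [Field F] [Fintype F] (n : ℕ) (W U : Submodule F (Fin n → F)) (hW0 : W ≠ ⊥) (hWU : W ⊓ U = ⊥) (hWU' : W ⊔ U = ⊤) (hdim : Module.finrank F W < Module.finrank F U) : ∃ K : Subgroup (Matrix.GeneralLinearGroup (Fin n) F), Cfsg.Geo.subspaceStabilizer W ⊓ Cfsg.Geo.subspaceStabilizer U ⊓ Cfsg.Geo.specialLinear (Fin n) F < K ∧ K < Cfsg.Geo.specialLinear (Fin n) F := by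
  have hU0 : U ≠ ⊥ := by
    rintro rfl
    simp at hdim
  have hW1 : W ≠ ⊤ := by
    rintro rfl
    apply hU0
    simpa using hWU
  refine ⟨Cfsg.Geo.subspaceStabilizer W ⊓ Cfsg.Geo.specialLinear (Fin n) F, ?_, stab_inf_sl_lt W hW0 hW1⟩
  refine lt_of_le_of_ne (inf_le_inf_right _ inf_le_left) ?_
  intro heq
  obtain ⟨u, huU, hu0⟩ := (Submodule.ne_bot_iff U).1 hU0
  obtain ⟨w, hwW, hw0⟩ := (Submodule.ne_bot_iff W).1 hW0
  have hdisj : ∀ x, x ∈ W → x ∈ U → x = 0 := by
    intro x hxW hxU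
    have : x ∈ W ⊓ U := ⟨hxW, hxU⟩
    rw [hWU] at this
    simpa using this
  have hu : u ∉ W ⊔ Submodule.span F {w} := by
    have : W ⊔ Submodule.span F {w} = W := by
      rw [sup_eq_left, Submodule.span_singleton_le_iff_mem]
      exact hwW
    rw [this]
    intro huW
    exact hu0 (hdisj u huW huU)
  obtain ⟨g, hgSL, hgfix, hgu⟩ := exists_sl_fix_add W u w hu
  have hgK : g ∈ Cfsg.Geo.subspaceStabilizer W ⊓ Cfsg.Geo.specialLinear (Fin n) F :=
    ⟨mem_subspaceStabilizer_of_fix g W hgfix, hgSL⟩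
  rw [← heq] at hgK
  have hgU := (mem_subspaceStabilizer_iff g U).1 hgK.1.2 u
  have := hgU.1 huU
  rw [hgu] at this
  exact hw0 (hdisj w hwW ((U.add_mem_iff_right huU).1 this))

end Cfsg.Agent.S5633
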