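import Cfsg.Statements.S5635

set_option autoImplicit false
set_option linter.unusedSimpArgs false
open Cfsg

namespace Cfsg.Agent.S5635

open Cfsg.Geo Matrix

section RankOne

variable {F : Type*} [Field F] {n : ℕ}

/-- rank one perturbation of the identity: `x ↦ x + ψ(x) u`. -/
def R (u ψ : Fin n → F) : Matrix (Fin n) (Fin n) F := 1 + vecMulVec u ψ

theorem R_mulVec (u ψ x : Fin n → F) : R u ψ *ᵥ x = x + (ψ ⬝ᵥ x) • u := by
  rw [R, Matrix.add_mulVec, Matrix.one_mulVec, Matrix.vecMulVec_mulVec]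
  congr 1
  ext i
  simp [mul_comm]

theorem R_det (u ψ : Fin n → F) : (R u ψ).det = 1 + ψ ⬝ᵥ u := by
  rw [R, Matrix.vecMulVec_eq (ι := Unit), Matrix.det_one_add_replicateCol_mul_replicateRow]

/-- the corresponding element of `GL`. -/
noncomputable def G (u ψ : Fin n → F) (h : 1 + ψ ⬝ᵥ u ≠ 0) : GL (Fin n) F :=
  Matrix.GeneralLinearGroup.mkOfDetNeZero (R u ψ) (by rwa [R_det])

theorem G_val (u ψ : Fin n → F) (h : 1 + ψ ⬝ᵥ u ≠ 0) :
    ((G u ψ h : GL (Fin n) F) : Matrix (Fin n) (Fin n) F) = R u ψ := rfl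

theorem G_apply (u ψ : Fin n → F) (h : 1 + ψ ⬝ᵥ u ≠ 0) (x : Fin n → F) :
    ((G u ψ h : GL (Fin n) F) : Matrix (Fin n) (Fin n) F) *ᵥ x = x + (ψ ⬝ᵥ x) • u := by
  rw [G_val, R_mulVec]

theorem G_det (u ψ : Fin n → F) (h : 1 + ψ ⬝ᵥ u ≠ 0) :
    ((G u ψ h : GL (Fin n) F) : Matrix (Fin n) (Fin n) F).det = 1 + ψ ⬝ᵥ u := by
  rw [G_val, R_det]

theorem mem_SL_iff (g : GL (Fin n) F) :
    g ∈ specialLinear (Fin n) F ↔ (g : Matrix (Fin n) (Fin n) F).det = 1 := by
  unfold specialLinear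
  rw [MonoidHom.mem_ker, Units.ext_iff]
  rfl

theorem exists_row (p : Submodule F (Fin n → F)) (v : Fin n → F) (hv : v ∉ p) :
    ∃ ψ : Fin n → F, ψ ⬝ᵥ v = 1 ∧ ∀ x ∈ p, ψ ⬝ᵥ x = 0 := by
  obtain ⟨f, hfv, hpf⟩ := Submodule.exists_le_ker_of_notMem hv
  have hf : ∀ x : Fin n → F, (fun i => f (fun j => if i = j then 1 else 0)) ⬝ᵥ x = f x := by
    intro x
    rw [LinearMap.pi_apply_eq_sum_univ f x]
    simp only [dotProduct, smul_eq_mul]
    exact Finset.sum_congr rfl fun i _ => mul_comm _ _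
  refine ⟨(f v)⁻¹ • (fun i => f (fun j => if i = j then 1 else 0)), ?_, ?_⟩
  · rw [smul_dotProduct, hf, smul_eq_mul, inv_mul_cancel₀ hfv]
  · intro x hx
    rw [smul_dotProduct, hf, LinearMap.mem_ker.mp (hpf hx), smul_zero]

end RankOne

section Decomp

variable {F : Type*} [Field F] {n t : ℕ} (D : Fin t → Submodule F (Fin n → F))

/-- the sum of the members other than `D i`. -/
def H (i : Fin t) : Submodule F (Fin n → F) := ⨆ (j) (_ : j ≠ i), D j

open Classical in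
/-- indicator of `x ∉ H i` (that is: the component of `x` in `D i` is nonzero). -/
noncomputable def N (i : Fin t) (x : Fin n → F) : F := if x ∈ H D i then 0 else 1

/-- the weight of `x`: the number of nonzero components, as an element of `F`. -/
noncomputable def Q (x : Fin n → F) : F := ∑ i, N D i x

variable {D}

theorem N_pos {i : Fin t} {x : Fin n → F} (h : x ∈ H D i) : N D i x = 0 := if_pos h
theorem N_neg {i : Fin t} {x : Fin n → F} (h : x ∉ H D i) : N D i x = 1 := if_neg h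

theorem N_congr {i i' : Fin t} {x x' : Fin n → F} (h : x ∈ H D i ↔ x' ∈ H D i') :
    N D i x = N D i' x' := by
  by_cases h1 : x ∈ H D i
  · rw [N_pos h1, N_pos (h.mp h1)]
  · rw [N_neg h1, N_neg (fun h2 => h1 (h.mpr h2))]

theorem mem_H_of_ne {i j : Fin t} (hji : j ≠ i) {a : Fin n → F} (ha : a ∈ D j) : a ∈ H D i :=
  (le_iSup₂ (f := fun j (_ : j ≠ i) => D j) j hji) ha

theorem D_le_H {i j : Fin t} (hji : j ≠ i) : D j ≤ H D i := fun _ ha => mem_H_of_ne hji ha

theorem notMem_H (hind : iSupIndep D) {i : Fin t} {a : Fin n → F} (ha : a ∈ D i) (ha0 : a ≠ 0) :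
    a ∉ H D i := by
  intro h
  exact ha0 ((Submodule.disjoint_def.mp (hind i)) a ha h)

theorem add_notMem_H (hind : iSupIndep D) {i : Fin t} {a u : Fin n → F} (ha : a ∈ D i)
    (ha0 : a ≠ 0) (hu : u ∈ H D i) : u + a ∉ H D i := by
  intro h
  apply notMem_H hind ha ha0
  have := (H D i).sub_mem h hu
  simpa using this

theorem exists_decomp (htop : iSup D = ⊤) (i : Fin t) (x : Fin n → F) :
    ∃ d ∈ D i, ∃ h ∈ H D i, x = d + h := by
  have hx : x ∈ D i ⊔ H D i := by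
    rw [H, ← iSup_split_single, htop]
    trivial
  obtain ⟨d, hd, h, hh, rfl⟩ := Submodule.mem_sup.mp hx
  exact ⟨d, hd, h, hh, rfl⟩

theorem N_add_of_mem {i : Fin t} {u : Fin n → F} (hu : u ∈ H D i) (x : Fin n → F) :
    N D i (x + u) = N D i x := by
  apply N_congr
  constructor
  · intro h
    have := (H D i).sub_mem h hu
    simpa using this
  · intro h
    exact (H D i).add_mem h hu

theorem Q_add (i : Fin t) {a : Fin n → F} (ha : a ∈ D i) (x : Fin n → F) :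
    Q D (x + a) = Q D x + (N D i (x + a) - N D i x) := by
  classical
  unfold Q
  have key : ∀ k, N D k (x + a) = N D k x + (if k = i then (N D i (x + a) - N D i x) else 0) := by
    intro k
    by_cases hk : k = i
    · subst hk
      rw [if_pos rfl]
      ring
    · rw [if_neg hk, add_zero]
      exact N_add_of_mem (mem_H_of_ne (Ne.symm hk) ha) x
  rw [Finset.sum_congr rfl (fun k _ => key k), Finset.sum_add_distrib]
  simp

theorem map_H (g : GL (Fin n) F) (σ : Equiv.Perm (Fin t))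
    (hσ : ∀ i, (D i).map (Matrix.toLin' (g : Matrix (Fin n) (Fin n) F)) = D (σ i)) (i : Fin t) :
    (H D i).map (Matrix.toLin' (g : Matrix (Fin n) (Fin n) F)) = H D (σ i) := by
  apply le_antisymm
  · rw [Submodule.map_le_iff_le_comap]
    refine iSup₂_le fun j hj => ?_
    rw [← Submodule.map_le_iff_le_comap, hσ j]
    exact D_le_H (fun h => hj (σ.injective h))
  · refine iSup₂_le fun j hj => ?_
    have h1 := hσ (σ.symm j)
    rw [Equiv.apply_symm_apply] at h1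
    rw [← h1]
    apply Submodule.map_mono
    refine D_le_H ?_
    intro h
    apply hj
    rw [← h, Equiv.apply_symm_apply]

theorem mem_iso_iff (g : GL (Fin n) F) :
    g ∈ isometryGroup F (Q D) ↔ ∀ u, Q D ((g : Matrix (Fin n) (Fin n) F) *ᵥ u) = Q D u := by
  constructor
  · intro h u
    exact h u u
  · intro h u _
    exact h u

theorem stab_le_iso : decompositionStabilizer D ≤ isometryGroup F (Q D) := by
  rintro g ⟨σ, hσ⟩
  rw [mem_iso_iff]
  intro u
  unfold Q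
  rw [← Equiv.sum_comp σ]
  refine Finset.sum_congr rfl (fun i _ => N_congr ?_)
  rw [← map_H g σ hσ i]
  constructor
  · rintro ⟨u', hu', hu'eq⟩
    rw [Matrix.toLin'_apply] at hu'eq
    have hinj : u' = u := by
      have := congrArg (fun x => ((g⁻¹ : GL (Fin n) F) : Matrix (Fin n) (Fin n) F) *ᵥ x) hu'eq
      simpa [Matrix.mulVec_mulVec, ← Units.val_mul] using this
    rwa [hinj] at hu'
  · intro h
    exact ⟨u, h, by simp [Matrix.toLin'_apply]⟩

/-- a vector moved by `g ∈ Stab(D)` from `D i` lands in a single member. -/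
theorem stab_image_mem (g : GL (Fin n) F) (hg : g ∈ decompositionStabilizer D) (i : Fin t)
    (v : Fin n → F) (hv : v ∈ D i) :
    ∃ j, (g : Matrix (Fin n) (Fin n) F) *ᵥ v ∈ D j := by
  obtain ⟨σ, hσ⟩ := hg
  refine ⟨σ i, ?_⟩
  rw [← hσ i]
  exact ⟨v, hv, by simp [Matrix.toLin'_apply]⟩

/-- a vector outside `H i1` and `H i2` (`i1 ≠ i2`) lies in no member. -/
theorem not_mem_D_of_notMem_H {i1 i2 : Fin t} (h12 : i1 ≠ i2) {y : Fin n → F}
    (h1 : y ∉ H D i1) (h2 : y ∉ H D i2) (j : Fin t) : y ∉ D j := by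
  intro hj
  by_cases hj1 : j = i1
  · subst hj1
    exact h2 (mem_H_of_ne h12 hj)
  · exact h1 (mem_H_of_ne hj1 hj)

end Decomp

section Conclude

variable {F : Type*} [Field F] {n t : ℕ} {D : Fin t → Submodule F (Fin n → F)}

theorem conclude (E1 E2 : GL (Fin n) F) (h1 : E1 ∈ isometryGroup F (Q D))
    (h1' : E1 ∈ specialLinear (Fin n) F) (h1'' : E1 ∉ decompositionStabilizer D)
    (h2 : E2 ∈ specialLinear (Fin n) F) (h2' : E2 ∉ isometryGroup F (Q D)) :
    ∃ K : Subgroup (GL (Fin n) F), decompositionStabilizer D ⊓ specialLinear (Fin n) F < K ∧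
      K < specialLinear (Fin n) F := by
  refine ⟨isometryGroup F (Q D) ⊓ specialLinear (Fin n) F, ?_, ?_⟩
  · rw [SetLike.lt_iff_le_and_exists]
    refine ⟨inf_le_inf_right _ stab_le_iso, E1, Subgroup.mem_inf.mpr ⟨h1, h1'⟩, ?_⟩
    intro h
    exact h1'' (Subgroup.mem_inf.mp h).1
  · rw [SetLike.lt_iff_le_and_exists]
    refine ⟨inf_le_right, E2, h2, ?_⟩
    intro h
    exact h2' (Subgroup.mem_inf.mp h).1

theorem finrank_finsetSup_le {V : Type*} [AddCommGroup V] [Module F V] [FiniteDimensional F V]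
    {ι : Type*} (s : Finset ι) (D : ι → Submodule F V) :
    Module.finrank F ↥(s.sup D) ≤ ∑ i ∈ s, Module.finrank F (D i) := by
  classical
  induction s using Finset.induction_on with
  | empty => simp
  | insert a s ha ih =>
    rw [Finset.sup_insert, Finset.sum_insert ha]
    exact (Submodule.finrank_add_le_finrank_add_finrank _ _).trans (Nat.add_le_add_left ih _)

theorem le_card_blocks {m : ℕ} (hdec : IsMDecomposition m D) : n ≤ t * m := by
  have h1 : Module.finrank F ↥(Finset.univ.sup D) ≤ ∑ i ∈ Finset.univ, Module.finrank F (D i) :=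
    finrank_finsetSup_le _ _
  rw [Finset.sup_univ_eq_iSup, hdec.iSup_eq_top, finrank_top,
    Module.finrank_fintype_fun_eq_card] at h1
  simpa [hdec.finrank_eq] using h1

end Conclude

section M1

variable {F : Type*} [Field F] {n t : ℕ} {D : Fin t → Submodule F (Fin n → F)}

theorem exists_coord (hdec : IsMDecomposition 1 D) (i : Fin t) :
    ∃ a ψ : Fin n → F, a ∈ D i ∧ a ≠ 0 ∧ ψ ⬝ᵥ a = 1 ∧ (∀ x, x ∈ H D i ↔ ψ ⬝ᵥ x = 0) := by
  have hne : D i ≠ ⊥ := by
    intro h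
    have := hdec.finrank_eq i
    rw [h] at this
    simp at this
  obtain ⟨a, ha, ha0⟩ := (Submodule.ne_bot_iff _).mp hne
  have hna := notMem_H hdec.indep ha ha0
  obtain ⟨ψ, hψa, hψH⟩ := exists_row (H D i) a hna
  refine ⟨a, ψ, ha, ha0, hψa, fun x => ⟨hψH x, fun hx => ?_⟩⟩
  obtain ⟨d, hd, h, hh, rfl⟩ := exists_decomp hdec.iSup_eq_top i x
  have hc : ∃ c : F, c • a = d := by
    have h1 := (finrank_eq_one_iff_of_nonzero' (⟨a, ha⟩ : D i)
      (by simpa [Subtype.ext_iff] using ha0)).mp (hdec.finrank_eq i) ⟨d, hd⟩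
    obtain ⟨c, hc⟩ := h1
    exact ⟨c, congrArg Subtype.val hc⟩
  obtain ⟨c, rfl⟩ := hc
  rw [dotProduct_add, dotProduct_smul, hψa, hψH h hh] at hx
  have hc0 : c = 0 := by simpa using hx
  rw [hc0, zero_smul, zero_add]
  exact hh

variable (a ψ : Fin t → Fin n → F) (ha : ∀ i, a i ∈ D i) (ha0 : ∀ i, a i ≠ 0)
  (hψa : ∀ i, ψ i ⬝ᵥ a i = 1) (hψH : ∀ i x, x ∈ H D i ↔ ψ i ⬝ᵥ x = 0)

include ha hψH in
theorem cross {i j : Fin t} (hij : i ≠ j) : ψ i ⬝ᵥ a j = 0 :=
  (hψH i (a j)).mp (mem_H_of_ne (Ne.symm hij) (ha j))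

include hψH in
theorem N_eq_pow (k : ℕ) (hk0 : k ≠ 0) (hk : ∀ c : F, c ≠ 0 → c ^ k = 1) (i : Fin t)
    (x : Fin n → F) : N D i x = (ψ i ⬝ᵥ x) ^ k := by
  by_cases h : ψ i ⬝ᵥ x = 0
  · rw [N_pos ((hψH i x).mpr h), h, zero_pow hk0]
  · rw [N_neg (fun hx => h ((hψH i x).mp hx)), hk _ h]

include ha hψa hψH in
theorem step (k : ℕ) (hk0 : k ≠ 0) (hk : ∀ c : F, c ≠ 0 → c ^ k = 1) (i : Fin t)
    (x : Fin n → F) (l : F) :
    Q D (x + l • a i) = Q D x + ((ψ i ⬝ᵥ x + l) ^ k - (ψ i ⬝ᵥ x) ^ k) := by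
  rw [Q_add i ((D i).smul_mem l (ha i)) x, N_eq_pow ψ hψH k hk0 hk, N_eq_pow ψ hψH k hk0 hk,
    dotProduct_add, dotProduct_smul, hψa, smul_eq_mul, mul_one]

include ha hψa hψH in
theorem dot_eq (i j : Fin t) : ψ i ⬝ᵥ a j = if i = j then 1 else 0 := by
  by_cases h : i = j
  · subst h
    rw [if_pos rfl, hψa]
  · rw [if_neg h, cross a ψ ha hψH h]

include ha hψa hψH in
theorem E2_m1 (k : ℕ) (hk0 : k ≠ 0) (hk : ∀ c : F, c ≠ 0 → c ^ k = 1) (i0 i1 : Fin t)
    (h01 : i0 ≠ i1) :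
    ∃ E2 : GL (Fin n) F, E2 ∈ specialLinear (Fin n) F ∧ E2 ∉ isometryGroup F (Q D) := by
  have hne : (1 : F) + ψ i0 ⬝ᵥ a i1 ≠ 0 := by
    rw [cross a ψ ha hψH h01, add_zero]
    exact one_ne_zero
  refine ⟨G (a i1) (ψ i0) hne, ?_, ?_⟩
  · rw [mem_SL_iff, G_det, cross a ψ ha hψH h01, add_zero]
  · intro h
    rw [mem_iso_iff] at h
    have h1 := h (a i0)
    rw [G_apply, hψa, step a ψ ha hψa hψH k hk0 hk, cross a ψ ha hψH h01.symm, zero_add, one_pow,
      zero_pow hk0, sub_zero] at h1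
    have : (1 : F) = 0 := by linear_combination h1
    exact one_ne_zero this

include ha hψa hψH in
theorem case_char2 (two : (1 : F) + 1 = 0) (hk : ∀ c : F, c ≠ 0 → c ^ 3 = 1)
    (i0 i1 i2 i3 : Fin t) (h01 : i0 ≠ i1) (h02 : i0 ≠ i2) (h03 : i0 ≠ i3) (h12 : i1 ≠ i2)
    (h13 : i1 ≠ i3) (h23 : i2 ≠ i3) :
    ∃ K : Subgroup (GL (Fin n) F), decompositionStabilizer D ⊓ specialLinear (Fin n) F < K ∧
      K < specialLinear (Fin n) F := by
  obtain ⟨E2, hE2, hE2'⟩ := E2_m1 a ψ ha hψa hψH 3 (by norm_num) hk i0 i1 h01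
  have hd := dot_eq a ψ ha hψa hψH
  have hsw : (ψ i0 + ψ i1 + ψ i2 + ψ i3) ⬝ᵥ (a i0 + a i1 + a i2 + a i3) = 1 + 1 + 1 + 1 := by
    simp only [add_dotProduct, dotProduct_add, hd, h01, h02, h03, h12, h13, h23, h01.symm,
      h02.symm, h03.symm, h12.symm, h13.symm, h23.symm, if_true, if_false]
    ring
  have hne : (1 : F) + (ψ i0 + ψ i1 + ψ i2 + ψ i3) ⬝ᵥ (a i0 + a i1 + a i2 + a i3) ≠ 0 := by
    rw [hsw]
    intro h
    have : (1 : F) = 0 := by linear_combination h - 2 * two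
    exact one_ne_zero this
  refine conclude (G (a i0 + a i1 + a i2 + a i3) (ψ i0 + ψ i1 + ψ i2 + ψ i3) hne) E2 ?_ ?_ ?_
    hE2 hE2'
  · rw [mem_iso_iff]
    intro x
    rw [G_apply]
    set s := (ψ i0 + ψ i1 + ψ i2 + ψ i3) ⬝ᵥ x with hs
    have hs' : s = ψ i0 ⬝ᵥ x + ψ i1 ⬝ᵥ x + ψ i2 ⬝ᵥ x + ψ i3 ⬝ᵥ x := by
      rw [hs]
      simp only [add_dotProduct]
    have e3 : ψ i3 ⬝ᵥ (x + s • a i0 + s • a i1 + s • a i2) = ψ i3 ⬝ᵥ x := by
      simp only [dotProduct_add, dotProduct_smul, hd, h03.symm, h13.symm, h23.symm, if_false,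
        smul_zero, add_zero]
    have e2 : ψ i2 ⬝ᵥ (x + s • a i0 + s • a i1) = ψ i2 ⬝ᵥ x := by
      simp only [dotProduct_add, dotProduct_smul, hd, h02.symm, h12.symm, if_false,
        smul_zero, add_zero]
    have e1 : ψ i1 ⬝ᵥ (x + s • a i0) = ψ i1 ⬝ᵥ x := by
      simp only [dotProduct_add, dotProduct_smul, hd, h01.symm, if_false,
        smul_zero, add_zero]
    rw [smul_add, smul_add, smul_add, ← add_assoc, ← add_assoc, ← add_assoc,
      step a ψ ha hψa hψH 3 (by norm_num) hk i3, e3,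
      step a ψ ha hψa hψH 3 (by norm_num) hk i2, e2,
      step a ψ ha hψa hψH 3 (by norm_num) hk i1, e1,
      step a ψ ha hψa hψH 3 (by norm_num) hk i0, hs']
    linear_combination ((ψ i0 ⬝ᵥ x + ψ i1 ⬝ᵥ x + ψ i2 ⬝ᵥ x + ψ i3 ⬝ᵥ x) *
      (5 * ((ψ i0 ⬝ᵥ x) ^ 2 + (ψ i1 ⬝ᵥ x) ^ 2 + (ψ i2 ⬝ᵥ x) ^ 2 + (ψ i3 ⬝ᵥ x) ^ 2) +
       7 * ((ψ i0 ⬝ᵥ x) * (ψ i1 ⬝ᵥ x) + (ψ i0 ⬝ᵥ x) * (ψ i2 ⬝ᵥ x) + (ψ i0 ⬝ᵥ x) * (ψ i3 ⬝ᵥ x) +
        (ψ i1 ⬝ᵥ x) * (ψ i2 ⬝ᵥ x) + (ψ i1 ⬝ᵥ x) * (ψ i3 ⬝ᵥ x) + (ψ i2 ⬝ᵥ x) * (ψ i3 ⬝ᵥ x)))) * two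
  · rw [mem_SL_iff, G_det, hsw]
    linear_combination 2 * two
  · intro h
    obtain ⟨j, hj⟩ := stab_image_mem _ h i0 (a i0) (ha i0)
    rw [G_apply] at hj
    refine not_mem_D_of_notMem_H h12 ?_ ?_ j hj
    · rw [hψH]
      simp only [add_dotProduct, dotProduct_add, dotProduct_smul, hd, h01, h02, h03, h12, h13,
        h23, h01.symm, h02.symm, h03.symm, h12.symm, h13.symm, h23.symm, if_true, if_false]
      simp
    · rw [hψH]
      simp only [add_dotProduct, dotProduct_add, dotProduct_smul, hd, h01, h02, h03, h12, h13,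
        h23, h01.symm, h02.symm, h03.symm, h12.symm, h13.symm, h23.symm, if_true, if_false]
      simp

include ha hψa hψH in
theorem case_char3 (three : (1 : F) + 1 + 1 = 0) (hk : ∀ c : F, c ≠ 0 → c ^ 2 = 1)
    (i0 i1 i2 i3 i4 : Fin t) (h01 : i0 ≠ i1) (h02 : i0 ≠ i2) (h03 : i0 ≠ i3) (h04 : i0 ≠ i4)
    (h12 : i1 ≠ i2) (h13 : i1 ≠ i3) (h14 : i1 ≠ i4) (h23 : i2 ≠ i3) (h24 : i2 ≠ i4)
    (h34 : i3 ≠ i4) :
    ∃ K : Subgroup (GL (Fin n) F), decompositionStabilizer D ⊓ specialLinear (Fin n) F < K ∧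
      K < specialLinear (Fin n) F := by
  obtain ⟨E2, hE2, hE2'⟩ := E2_m1 a ψ ha hψa hψH 2 (by norm_num) hk i0 i1 h01
  have hd := dot_eq a ψ ha hψa hψH
  have hsw : (ψ i0 + ψ i1 + ψ i2 + ψ i3) ⬝ᵥ (a i0 + a i1 + a i2 + a i3) = 1 + 1 + 1 + 1 := by
    simp only [add_dotProduct, dotProduct_add, hd, h01, h02, h03, h12, h13, h23, h01.symm,
      h02.symm, h03.symm, h12.symm, h13.symm, h23.symm, if_true, if_false]
    ring
  have hne1 : (1 : F) + (ψ i0 + ψ i1 + ψ i2 + ψ i3) ⬝ᵥ (a i0 + a i1 + a i2 + a i3) ≠ 0 := by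
    rw [hsw]
    intro h
    have : (1 : F) = 0 := by linear_combination 2 * three - h
    exact one_ne_zero this
  have hne2 : (1 : F) + ψ i4 ⬝ᵥ a i4 ≠ 0 := by
    rw [hψa]
    intro h
    have : (1 : F) = 0 := by linear_combination three - h
    exact one_ne_zero this
  have hs4 : (ψ i0 + ψ i1 + ψ i2 + ψ i3) ⬝ᵥ a i4 = 0 := by
    simp only [add_dotProduct, hd, h04, h14, h24, h34, if_false, add_zero]
  refine conclude (G (a i0 + a i1 + a i2 + a i3) (ψ i0 + ψ i1 + ψ i2 + ψ i3) hne1 *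
    G (a i4) (ψ i4) hne2) E2 ?_ ?_ ?_ hE2 hE2'
  · rw [mem_iso_iff]
    intro x
    rw [Units.val_mul, ← Matrix.mulVec_mulVec, G_apply, G_apply, dotProduct_add, dotProduct_smul,
      hs4, smul_zero, add_zero]
    set s := (ψ i0 + ψ i1 + ψ i2 + ψ i3) ⬝ᵥ x with hs
    set c4 := ψ i4 ⬝ᵥ x with hc4
    have hs' : s = ψ i0 ⬝ᵥ x + ψ i1 ⬝ᵥ x + ψ i2 ⬝ᵥ x + ψ i3 ⬝ᵥ x := by
      rw [hs]
      simp only [add_dotProduct]
    have e3 : ψ i3 ⬝ᵥ (x + c4 • a i4 + s • a i0 + s • a i1 + s • a i2) = ψ i3 ⬝ᵥ x := by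
      simp only [dotProduct_add, dotProduct_smul, hd, h03.symm, h13.symm, h23.symm, h34,
        if_false, smul_zero, add_zero]
    have e2 : ψ i2 ⬝ᵥ (x + c4 • a i4 + s • a i0 + s • a i1) = ψ i2 ⬝ᵥ x := by
      simp only [dotProduct_add, dotProduct_smul, hd, h02.symm, h12.symm, h24, if_false,
        smul_zero, add_zero]
    have e1 : ψ i1 ⬝ᵥ (x + c4 • a i4 + s • a i0) = ψ i1 ⬝ᵥ x := by
      simp only [dotProduct_add, dotProduct_smul, hd, h01.symm, h14, if_false,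
        smul_zero, add_zero]
    have e0 : ψ i0 ⬝ᵥ (x + c4 • a i4) = ψ i0 ⬝ᵥ x := by
      simp only [dotProduct_add, dotProduct_smul, hd, h04, if_false, smul_zero, add_zero]
    rw [smul_add, smul_add, smul_add, ← add_assoc, ← add_assoc, ← add_assoc,
      step a ψ ha hψa hψH 2 (by norm_num) hk i3, e3,
      step a ψ ha hψa hψH 2 (by norm_num) hk i2, e2,
      step a ψ ha hψa hψH 2 (by norm_num) hk i1, e1,
      step a ψ ha hψa hψH 2 (by norm_num) hk i0, e0,
      step a ψ ha hψa hψH 2 (by norm_num) hk i4, hs', ← hc4]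
    linear_combination (c4 ^ 2 + 2 * (ψ i0 ⬝ᵥ x + ψ i1 ⬝ᵥ x + ψ i2 ⬝ᵥ x + ψ i3 ⬝ᵥ x) ^ 2) * three
  · rw [mem_SL_iff, Units.val_mul, Matrix.det_mul, G_det, G_det, hsw, hψa]
    linear_combination 3 * three
  · intro h
    obtain ⟨j, hj⟩ := stab_image_mem _ h i0 (a i0) (ha i0)
    rw [Units.val_mul, ← Matrix.mulVec_mulVec, G_apply, G_apply] at hj
    refine not_mem_D_of_notMem_H h12 ?_ ?_ j hj
    · rw [hψH]
      simp only [add_dotProduct, dotProduct_add, dotProduct_smul, hd, h01, h02, h03, h04, h12,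
        h13, h14, h23, h24, h34, h01.symm, h02.symm, h03.symm, h04.symm, h12.symm, h13.symm,
        h14.symm, h23.symm, h24.symm, h34.symm, if_true, if_false]
      simp
    · rw [hψH]
      simp only [add_dotProduct, dotProduct_add, dotProduct_smul, hd, h01, h02, h03, h04, h12,
        h13, h14, h23, h24, h34, h01.symm, h02.symm, h03.symm, h04.symm, h12.symm, h13.symm,
        h14.symm, h23.symm, h24.symm, h34.symm, if_true, if_false]
      simp

end M1

section M2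

variable {F : Type*} [Field F] [Fintype F] {n t : ℕ} {D : Fin t → Submodule F (Fin n → F)}

theorem f2_cases (hq : Fintype.card F = 2) (x : F) : x = 0 ∨ x = 1 := by
  classical
  by_contra h
  push Not at h
  have h3 : ({0, 1, x} : Finset F).card ≤ Fintype.card F := Finset.card_le_univ _
  rw [hq, Finset.card_insert_of_notMem, Finset.card_insert_of_notMem, Finset.card_singleton] at h3
  · omega
  · simp [h.2.symm]
  · simp [h.1.symm]

theorem f2_two (hq : Fintype.card F = 2) : (1 : F) + 1 = 0 := by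
  rcases f2_cases hq ((1 : F) + 1) with h | h
  · exact h
  · exfalso
    have : (1 : F) = 0 := by linear_combination h
    exact one_ne_zero this

omit [Fintype F] in
theorem span_pair {V : Type*} [AddCommGroup V] [Module F V] [FiniteDimensional F V]
    (W : Submodule F V) (hW : Module.finrank F W = 2) (a b : V) (ha : a ∈ W) (hb : b ∈ W)
    (hind : ∀ s t : F, s • a + t • b = 0 → s = 0 ∧ t = 0) (d : V) (hd : d ∈ W) :
    ∃ c₁ c₂ : F, d = c₁ • a + c₂ • b := by
  have li : LinearIndependent F ![(⟨a, ha⟩ : W), ⟨b, hb⟩] := by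
    rw [LinearIndependent.pair_iff]
    intro s t h
    apply hind
    have := congrArg Subtype.val h
    simpa using this
  have htop := li.span_eq_top_of_card_eq_finrank' (by simp [hW])
  have hmem : (⟨d, hd⟩ : W) ∈ Submodule.span F (Set.range ![(⟨a, ha⟩ : W), ⟨b, hb⟩]) := by
    rw [htop]; trivial
  rw [Matrix.range_cons, Matrix.range_cons, Matrix.range_empty, Set.union_empty,
    Set.singleton_union, Submodule.mem_span_pair] at hmem
  obtain ⟨c₁, c₂, h⟩ := hmem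
  refine ⟨c₁, c₂, ?_⟩
  have := congrArg Subtype.val h
  simpa using this.symm

omit [Fintype F] in
theorem exists_notMem_span {V : Type*} [AddCommGroup V] [Module F V] [FiniteDimensional F V]
    (W : Submodule F V) (hW : Module.finrank F W = 2) (e : V) (he : e ∈ W) :
    ∃ u ∈ W, u ∉ Submodule.span F {e} := by
  have hle : Submodule.span F {e} ≤ W := by
    rw [Submodule.span_singleton_le_iff_mem]
    exact he
  have hlt : Submodule.span F {e} < W := by
    refine lt_of_le_of_ne hle ?_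
    intro h
    have h1 : Module.finrank F (Submodule.span F {e}) ≤ 1 := by
      have := finrank_span_le_card (R := F) ({e} : Set V)
      simpa using this
    rw [h, hW] at h1
    omega
  obtain ⟨u, hu, hu'⟩ := SetLike.exists_of_lt hlt
  exact ⟨u, hu, hu'⟩

theorem exists_coord2 (hq : Fintype.card F = 2) (hdec : IsMDecomposition 2 D) (i : Fin t) :
    ∃ a b β : Fin n → F, a ∈ D i ∧ a ≠ 0 ∧ b ∈ D i ∧ β ⬝ᵥ a = 0 ∧ β ⬝ᵥ b = 1 ∧
      (∀ h ∈ H D i, β ⬝ᵥ h = 0) ∧ ∀ x, N D i (x + a) - N D i x = 1 + β ⬝ᵥ x := by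
  classical
  have two := f2_two hq
  have hne : D i ≠ ⊥ := by
    intro h
    have := hdec.finrank_eq i
    rw [h] at this
    simp at this
  obtain ⟨a, ha, ha0⟩ := (Submodule.ne_bot_iff _).mp hne
  obtain ⟨b, hb, hba⟩ := exists_notMem_span (D i) (hdec.finrank_eq i) a ha
  have hbn : b ∉ H D i ⊔ Submodule.span F {a} := by
    intro h
    obtain ⟨h', hh', y, hy, hsum⟩ := Submodule.mem_sup.mp h
    obtain ⟨c, rfl⟩ := Submodule.mem_span_singleton.mp hy
    have h1 : h' ∈ D i := by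
      have : h' = b - c • a := by rw [← hsum]; abel
      rw [this]
      exact (D i).sub_mem hb ((D i).smul_mem c ha)
    have h0 : h' = 0 := (Submodule.disjoint_def.mp (hdec.indep i)) h' h1 hh'
    apply hba
    rw [← hsum, h0, zero_add]
    exact Submodule.smul_mem _ c (Submodule.mem_span_singleton_self a)
  obtain ⟨β, hβb, hβ0⟩ := exists_row _ b hbn
  have hβa : β ⬝ᵥ a = 0 :=
    hβ0 a ((le_sup_right : _ ≤ H D i ⊔ Submodule.span F {a}) (Submodule.mem_span_singleton_self a))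
  have hβH : ∀ h ∈ H D i, β ⬝ᵥ h = 0 := fun h hh =>
    hβ0 h ((le_sup_left : _ ≤ H D i ⊔ Submodule.span F {a}) hh)
  have hind : ∀ s t : F, s • a + t • b = 0 → s = 0 ∧ t = 0 := by
    intro s t hst
    have h1 : β ⬝ᵥ (s • a + t • b) = t := by
      rw [dotProduct_add, dotProduct_smul, dotProduct_smul, hβa, hβb]
      simp
    rw [hst, dotProduct_zero] at h1
    have ht : t = 0 := h1.symm
    rw [ht, zero_smul, add_zero] at hst
    rcases smul_eq_zero.mp hst with h | h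
    · exact ⟨h, ht⟩
    · exact absurd h ha0
  have hspan := span_pair (D i) (hdec.finrank_eq i) a b ha hb hind
  have hN : ∀ s u : F, N D i (s • a + u • b) = if s = 0 ∧ u = 0 then 0 else 1 := by
    intro s u
    by_cases h : s = 0 ∧ u = 0
    · rw [if_pos h, h.1, h.2, zero_smul, zero_smul, add_zero]
      exact N_pos (Submodule.zero_mem _)
    · rw [if_neg h]
      apply N_neg
      apply notMem_H hdec.indep ((D i).add_mem ((D i).smul_mem s ha) ((D i).smul_mem u hb))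
      intro h0
      exact h (hind s u h0)
  refine ⟨a, b, β, ha, ha0, hb, hβa, hβb, hβH, ?_⟩
  intro x
  obtain ⟨d, hd, h, hh, rfl⟩ := exists_decomp hdec.iSup_eq_top i x
  obtain ⟨l, u, rfl⟩ := hspan d hd
  have e1 : l • a + u • b + h + a = ((l + 1) • a + u • b) + h := by
    rw [add_smul, one_smul]; abel
  rw [e1, N_add_of_mem hh, N_add_of_mem hh, hN, hN, dotProduct_add, dotProduct_add,
    dotProduct_smul, dotProduct_smul, hβa, hβb, hβH h hh]
  rcases f2_cases hq l with rfl | rfl <;> rcases f2_cases hq u with rfl | rfl <;>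
    simp only [two, zero_add, one_ne_zero, and_true, and_false, false_and, true_and, if_true,
      if_false, smul_eq_mul, mul_zero, mul_one, add_zero, sub_zero, sub_self] <;>
    first | rfl | linear_combination - two

variable (a b β : Fin t → Fin n → F) (ha : ∀ i, a i ∈ D i) (ha0 : ∀ i, a i ≠ 0)
  (hb : ∀ i, b i ∈ D i) (hβa : ∀ i, β i ⬝ᵥ a i = 0) (hβb : ∀ i, β i ⬝ᵥ b i = 1)
  (hβH : ∀ i, ∀ h ∈ H D i, β i ⬝ᵥ h = 0)
  (hstep : ∀ i x, N D i (x + a i) - N D i x = 1 + β i ⬝ᵥ x)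

include ha ha0 hb hβa hβb hβH hstep in
theorem case_m2 (hq : Fintype.card F = 2) (hdec : IsMDecomposition 2 D)
    (i0 i1 i2 : Fin t) (h01 : i0 ≠ i1) (h02 : i0 ≠ i2) (h12 : i1 ≠ i2) :
    ∃ K : Subgroup (GL (Fin n) F), decompositionStabilizer D ⊓ specialLinear (Fin n) F < K ∧
      K < specialLinear (Fin n) F := by
  have two := f2_two hq
  have hQ : ∀ i x, Q D (x + a i) = Q D x + (1 + β i ⬝ᵥ x) := by
    intro i x
    rw [Q_add i (ha i) x, hstep]
  have hβaa : ∀ i j, β i ⬝ᵥ a j = 0 := by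
    intro i j
    by_cases h : i = j
    · subst h
      exact hβa i
    · exact hβH i _ (mem_H_of_ne (Ne.symm h) (ha j))
  have hβbb : ∀ i j, i ≠ j → β i ⬝ᵥ b j = 0 := by
    intro i j h
    exact hβH i _ (mem_H_of_ne (Ne.symm h) (hb j))
  have hne2 : (1 : F) + β i0 ⬝ᵥ a i1 ≠ 0 := by
    rw [hβaa, add_zero]
    exact one_ne_zero
  have hsw : (β i0 + β i1 + β i2) ⬝ᵥ (a i0 + a i1 + a i2) = 0 := by
    simp only [add_dotProduct, dotProduct_add, hβaa, add_zero]
  have hne1 : (1 : F) + (β i0 + β i1 + β i2) ⬝ᵥ (a i0 + a i1 + a i2) ≠ 0 := by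
    rw [hsw, add_zero]
    exact one_ne_zero
  refine conclude (G (a i0 + a i1 + a i2) (β i0 + β i1 + β i2) hne1) (G (a i1) (β i0) hne2)
    ?_ ?_ ?_ ?_ ?_
  · rw [mem_iso_iff]
    intro x
    rw [G_apply]
    rcases f2_cases hq ((β i0 + β i1 + β i2) ⬝ᵥ x) with h | h
    · rw [h, zero_smul, add_zero]
    · rw [h, one_smul, ← add_assoc, ← add_assoc, hQ, hQ, hQ]
      simp only [add_dotProduct, dotProduct_add, hβaa, add_zero] at h ⊢
      linear_combination (2 : F) * two + h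
  · rw [mem_SL_iff, G_det, hsw, add_zero]
  · intro h
    obtain ⟨j, hj⟩ := stab_image_mem _ h i0 (b i0) (hb i0)
    rw [G_apply] at hj
    have hs : (β i0 + β i1 + β i2) ⬝ᵥ b i0 = 1 := by
      simp only [add_dotProduct, hβb, hβbb i1 i0 h01.symm, hβbb i2 i0 h02.symm, add_zero]
    rw [hs, one_smul] at hj
    refine not_mem_D_of_notMem_H h12 ?_ ?_ j hj
    · have e : b i0 + (a i0 + a i1 + a i2) = (b i0 + a i0 + a i2) + a i1 := by abel
      rw [e]
      refine add_notMem_H hdec.indep (ha i1) (ha0 i1) ?_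
      exact (H D i1).add_mem ((H D i1).add_mem (mem_H_of_ne h01 (hb i0)) (mem_H_of_ne h01 (ha i0)))
        (mem_H_of_ne h12.symm (ha i2))
    · have e : b i0 + (a i0 + a i1 + a i2) = (b i0 + a i0 + a i1) + a i2 := by abel
      rw [e]
      refine add_notMem_H hdec.indep (ha i2) (ha0 i2) ?_
      exact (H D i2).add_mem ((H D i2).add_mem (mem_H_of_ne h02 (hb i0)) (mem_H_of_ne h02 (ha i0)))
        (mem_H_of_ne h12 (ha i1))
  · rw [mem_SL_iff, G_det, hβaa, add_zero]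
  · intro h
    rw [mem_iso_iff] at h
    have h1 := h (b i0)
    rw [G_apply, hβb, one_smul, hQ, hβbb i1 i0 h01.symm, add_zero] at h1
    have : (1 : F) = 0 := by linear_combination h1
    exact one_ne_zero this

end M2

theorem result {F : Type*} [Field F] [Fintype F] (n : ℕ) (hn : 13 ≤ n) {t : ℕ} (m : ℕ) (D : Fin t → Submodule F (Fin n → F)) (hD : Cfsg.Geo.IsMDecomposition m D) (h : (m = 1 ∧ Fintype.card F ≤ 4) ∨ (m = 2 ∧ Fintype.card F = 2)) : ∃ K : Subgroup (Matrix.GeneralLinearGroup (Fin n) F), Cfsg.Geo.decompositionStabilizer D ⊓ Cfsg.Geo.specialLinear (Fin n) F < K ∧ K < Cfsg.Geo.specialLinear (Fin n) F := by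
  have hnt := le_card_blocks hD
  rcases h with ⟨rfl, hq⟩ | ⟨rfl, hq⟩
  · -- m = 1
    have ht : 13 ≤ t := by omega
    choose a ψ ha ha0 hψa hψH using exists_coord hD
    have hcard0 : ((Fintype.card F : ℕ) : F) = 0 := Nat.cast_card_eq_zero F
    have hpow : ∀ c : F, c ≠ 0 → c ^ (Fintype.card F - 1) = 1 :=
      fun c hc => FiniteField.pow_card_sub_one_eq_one c hc
    have h1 : 1 < Fintype.card F := Fintype.one_lt_card
    let i0 : Fin t := ⟨0, by omega⟩
    let i1 : Fin t := ⟨1, by omega⟩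
    let i2 : Fin t := ⟨2, by omega⟩
    let i3 : Fin t := ⟨3, by omega⟩
    let i4 : Fin t := ⟨4, by omega⟩
    have h01 : i0 ≠ i1 := by simp [i0, i1, Fin.ext_iff]
    have h02 : i0 ≠ i2 := by simp [i0, i2, Fin.ext_iff]
    have h03 : i0 ≠ i3 := by simp [i0, i3, Fin.ext_iff]
    have h04 : i0 ≠ i4 := by simp [i0, i4, Fin.ext_iff]
    have h12 : i1 ≠ i2 := by simp [i1, i2, Fin.ext_iff]
    have h13 : i1 ≠ i3 := by simp [i1, i3, Fin.ext_iff]
    have h14 : i1 ≠ i4 := by simp [i1, i4, Fin.ext_iff]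
    have h23 : i2 ≠ i3 := by simp [i2, i3, Fin.ext_iff]
    have h24 : i2 ≠ i4 := by simp [i2, i4, Fin.ext_iff]
    have h34 : i3 ≠ i4 := by simp [i3, i4, Fin.ext_iff]
    obtain hq2 | hq3 | hq4 : Fintype.card F = 2 ∨ Fintype.card F = 3 ∨ Fintype.card F = 4 := by
      omega
    · rw [hq2] at hcard0 hpow
      have two : (1 : F) + 1 = 0 := by
        have : ((2 : ℕ) : F) = 1 + 1 := by norm_num
        rw [← this]
        exact hcard0
      have hk : ∀ c : F, c ≠ 0 → c ^ 3 = 1 := by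
        intro c hc
        have := hpow c hc
        simp only [Nat.add_one_sub_one, pow_one] at this
        rw [this, one_pow]
      exact case_char2 a ψ ha hψa hψH two hk i0 i1 i2 i3 h01 h02 h03 h12 h13 h23
    · rw [hq3] at hcard0 hpow
      have three : (1 : F) + 1 + 1 = 0 := by
        have : ((3 : ℕ) : F) = 1 + 1 + 1 := by norm_num
        rw [← this]
        exact hcard0
      have hk : ∀ c : F, c ≠ 0 → c ^ 2 = 1 := fun c hc => hpow c hc
      exact case_char3 a ψ ha hψa hψH three hk i0 i1 i2 i3 i4 h01 h02 h03 h04 h12 h13 h14 h23 h24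
        h34
    · rw [hq4] at hcard0 hpow
      have two : (1 : F) + 1 = 0 := by
        have h4 : ((4 : ℕ) : F) = (1 + 1) ^ 2 := by norm_num
        rw [h4] at hcard0
        exact pow_eq_zero_iff (by norm_num) |>.mp hcard0
      have hk : ∀ c : F, c ≠ 0 → c ^ 3 = 1 := fun c hc => hpow c hc
      exact case_char2 a ψ ha hψa hψH two hk i0 i1 i2 i3 h01 h02 h03 h12 h13 h23
  · -- m = 2
    have ht : 7 ≤ t := by omega
    choose a b β ha ha0 hb hβa hβb hβH hstep using exists_coord2 hq hD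
    let i0 : Fin t := ⟨0, by omega⟩
    let i1 : Fin t := ⟨1, by omega⟩
    let i2 : Fin t := ⟨2, by omega⟩
    have h01 : i0 ≠ i1 := by simp [i0, i1, Fin.ext_iff]
    have h02 : i0 ≠ i2 := by simp [i0, i2, Fin.ext_iff]
    have h12 : i1 ≠ i2 := by simp [i1, i2, Fin.ext_iff]
    exact case_m2 a b β ha ha0 hb hβa hβb hβH hstep hq hD i0 i1 i2 h01 h02 h12

end Cfsg.Agent.S5635
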