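import Cfsg.Statements.S5638

set_option autoImplicit false
open Cfsg

namespace Cfsg.Agent.S5638

open Cfsg.Geo Matrix Kronecker

section General

theorem le_normalizer_zpowers {G : Type*} [Group G] (S : Subgroup G) (W : G)
    (h : ∀ g ∈ S, g * W * g⁻¹ ∈ Subgroup.zpowers W) :
    S ≤ Subgroup.normalizer ((Subgroup.zpowers W : Subgroup G) : Set G) := by
  have key : ∀ g ∈ S, ∀ x ∈ Subgroup.zpowers W, g * x * g⁻¹ ∈ Subgroup.zpowers W := by
    intro g hg x hx
    obtain ⟨k, rfl⟩ := Subgroup.mem_zpowers_iff.mp hx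
    have : g * W ^ k * g⁻¹ = (g * W * g⁻¹) ^ k := by
      have := map_zpow (MulAut.conj g) W k
      simpa [MulAut.conj_apply] using this
    rw [this]
    exact Subgroup.zpow_mem _ (h g hg) k
  intro g hg
  rw [Subgroup.mem_normalizer_iff]
  intro x
  constructor
  · intro hx
    exact key g hg x hx
  · intro hx
    have := key g⁻¹ (S.inv_mem hg) _ hx
    simpa [mul_assoc] using this

theorem mem_zpowers_of_pow_three {G : Type*} [Group G] (W : G) (h3 : W ^ 3 = 1) (x : G)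
    (hx : x ∈ Subgroup.zpowers W) : x = 1 ∨ x = W ∨ x = W ^ 2 := by
  obtain ⟨k, rfl⟩ := Subgroup.mem_zpowers_iff.mp hx
  have h3' : W ^ (3 : ℤ) = 1 := by exact_mod_cast h3
  rw [zpow_eq_zpow_emod k h3']
  have h1 : 0 ≤ k % 3 := Int.emod_nonneg _ (by norm_num)
  have h2 : k % 3 < 3 := Int.emod_lt_of_pos _ (by norm_num)
  obtain ⟨j, hj⟩ : ∃ j : ℕ, k % 3 = j := ⟨(k % 3).toNat, by omega⟩
  rw [hj]
  have : j < 3 := by omega
  interval_cases j
  · left; simp
  · right; left; simp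
  · right; right; norm_cast

variable {F : Type*} [Field F] [Fintype F]

theorem f2_cases (hq : Fintype.card F = 2) (x : F) : x = 0 ∨ x = 1 := by
  classical
  by_contra h
  push Not at h
  have h3 : ({0, 1, x} : Finset F).card ≤ Fintype.card F := Finset.card_le_univ _
  rw [hq, Finset.card_insert_of_notMem, Finset.card_insert_of_notMem, Finset.card_singleton] at h3
  · omega
  · simp [h.2.symm]
  · simp [h.1.symm]

theorem f2_two (hq : Fintype.card F = 2) : (1 : F) + 1 = 0 := by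
  rcases f2_cases hq ((1 : F) + 1) with h | h
  · exact h
  · exfalso
    have : (1 : F) = 0 := by linear_combination h
    exact one_ne_zero this

end General

section Om

variable {F : Type*} [Field F]

/-- a matrix of order 3 in `GL₂(𝔽₂)` -/
def om : Matrix (Fin 2) (Fin 2) F := !![0, 1; 1, 1]
/-- its square -/
def om2 : Matrix (Fin 2) (Fin 2) F := !![1, 1; 1, 0]

theorem om_mul_om (two : (1 : F) + 1 = 0) : (om : Matrix (Fin 2) (Fin 2) F) * om = om2 := by
  ext i j
  fin_cases i <;> fin_cases j <;> simp [om, om2, Matrix.mul_apply, Fin.sum_univ_two, two]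

theorem om_mul_om2 (two : (1 : F) + 1 = 0) : (om : Matrix (Fin 2) (Fin 2) F) * om2 = 1 := by
  ext i j
  fin_cases i <;> fin_cases j <;> simp [om, om2, Matrix.mul_apply, Fin.sum_univ_two, two]

theorem om2_mul_om (two : (1 : F) + 1 = 0) : (om2 : Matrix (Fin 2) (Fin 2) F) * om = 1 := by
  ext i j
  fin_cases i <;> fin_cases j <;> simp [om, om2, Matrix.mul_apply, Fin.sum_univ_two, two]

end Om

section Main

variable {F : Type*} [Field F] [Fintype F]

theorem gl2_cases (hq : Fintype.card F = 2) (A : Matrix (Fin 2) (Fin 2) F) (hA : A.det ≠ 0) :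
    A * om = om * A ∨ A * om = om2 * A := by
  have two := f2_two hq
  obtain ⟨x, y, z, w, rfl⟩ : ∃ x y z w : F, A = !![x, y; z, w] :=
    ⟨A 0 0, A 0 1, A 1 0, A 1 1, (Matrix.eta_fin_two A)⟩
  rw [Matrix.det_fin_two_of] at hA
  rcases f2_cases hq x with rfl | rfl <;> rcases f2_cases hq y with rfl | rfl <;>
    rcases f2_cases hq z with rfl | rfl <;> rcases f2_cases hq w with rfl | rfl <;>
    first
    | (exfalso; apply hA; simp [two]; done)
    | (left; ext i j; fin_cases i <;> fin_cases j <;>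
        simp [om, om2, Matrix.mul_apply, Fin.sum_univ_two, two]; done)
    | (right; ext i j; fin_cases i <;> fin_cases j <;>
        simp [om, om2, Matrix.mul_apply, Fin.sum_univ_two, two])

omit [Fintype F] in
theorem mem_SL_iff {ι : Type} [Fintype ι] [DecidableEq ι] (g : GL ι F) :
    g ∈ specialLinear ι F ↔ (g : Matrix ι ι F).det = 1 := by
  unfold specialLinear
  rw [MonoidHom.mem_ker, Units.ext_iff]
  rfl

variable (n₂ : ℕ)

/-- `ω ⊗ 1` as an element of `GL`. -/
def Wp (two : (1 : F) + 1 = 0) : GL (Fin 2 × Fin n₂) F :=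
  ⟨(om : Matrix (Fin 2) (Fin 2) F) ⊗ₖ (1 : Matrix (Fin n₂) (Fin n₂) F),
   (om2 : Matrix (Fin 2) (Fin 2) F) ⊗ₖ (1 : Matrix (Fin n₂) (Fin n₂) F),
   by rw [← mul_kronecker_mul, om_mul_om2 two, mul_one, one_kronecker_one],
   by rw [← mul_kronecker_mul, om2_mul_om two, mul_one, one_kronecker_one]⟩

omit [Fintype F] in
theorem Wp_sq (two : (1 : F) + 1 = 0) : (Wp n₂ two) ^ 2 = (Wp n₂ two)⁻¹ := by
  apply Units.ext
  rw [sq, Units.val_mul]
  show (om : Matrix (Fin 2) (Fin 2) F) ⊗ₖ (1 : Matrix (Fin n₂) (Fin n₂) F) * om ⊗ₖ 1 = om2 ⊗ₖ 1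
  rw [← mul_kronecker_mul, om_mul_om two, mul_one]

omit [Fintype F] in
theorem Wp_cube (two : (1 : F) + 1 = 0) : (Wp n₂ two) ^ 3 = 1 := by
  rw [pow_succ, Wp_sq, inv_mul_cancel]

theorem kron_le (hq : Fintype.card F = 2) :
    kroneckerSubgroup 2 n₂ F ≤
      Subgroup.normalizer ((Subgroup.zpowers (Wp n₂ (f2_two hq)) : Subgroup _) : Set _) := by
  apply le_normalizer_zpowers
  rintro g ⟨a, b, hg⟩
  have hdet : (a : Matrix (Fin 2) (Fin 2) F).det ≠ 0 := by
    have := (Matrix.GeneralLinearGroup.det a).ne_zero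
    simpa using this
  rcases gl2_cases hq _ hdet with h | h
  · have : g * Wp n₂ (f2_two hq) = Wp n₂ (f2_two hq) * g := by
      apply Units.ext
      rw [Units.val_mul, Units.val_mul, hg]
      show (a : Matrix (Fin 2) (Fin 2) F) ⊗ₖ (b : Matrix (Fin n₂) (Fin n₂) F) * om ⊗ₖ 1
        = om ⊗ₖ 1 * (a : Matrix (Fin 2) (Fin 2) F) ⊗ₖ (b : Matrix (Fin n₂) (Fin n₂) F)
      rw [← mul_kronecker_mul, ← mul_kronecker_mul, h, mul_one, one_mul]
    rw [this, mul_inv_cancel_right]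
    exact Subgroup.mem_zpowers _
  · have : g * Wp n₂ (f2_two hq) = (Wp n₂ (f2_two hq))⁻¹ * g := by
      apply Units.ext
      rw [Units.val_mul, Units.val_mul, hg]
      show (a : Matrix (Fin 2) (Fin 2) F) ⊗ₖ (b : Matrix (Fin n₂) (Fin n₂) F) * om ⊗ₖ 1
        = om2 ⊗ₖ 1 * (a : Matrix (Fin 2) (Fin 2) F) ⊗ₖ (b : Matrix (Fin n₂) (Fin n₂) F)
      rw [← mul_kronecker_mul, ← mul_kronecker_mul, h, mul_one, one_mul]
    rw [this, mul_inv_cancel_right]
    exact Subgroup.inv_mem _ (Subgroup.mem_zpowers _)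

/-- `ω` on one block, identity elsewhere. -/
def E1 (two : (1 : F) + 1 = 0) (k0 : Fin n₂) : GL (Fin 2 × Fin n₂) F :=
  ⟨blockDiagonal (fun k => if k = k0 then (om : Matrix (Fin 2) (Fin 2) F) else 1),
   blockDiagonal (fun k => if k = k0 then (om2 : Matrix (Fin 2) (Fin 2) F) else 1),
   by
     rw [← blockDiagonal_mul, ← blockDiagonal_one]
     congr 1
     ext1 k
     by_cases h : k = k0 <;> simp [h, om_mul_om2 two],
   by
     rw [← blockDiagonal_mul, ← blockDiagonal_one]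
     congr 1
     ext1 k
     by_cases h : k = k0 <;> simp [h, om2_mul_om two]⟩

omit [Fintype F] in
theorem E1_mem_SL (two : (1 : F) + 1 = 0) (k0 : Fin n₂) :
    E1 n₂ two k0 ∈ specialLinear (Fin 2 × Fin n₂) F := by
  rw [mem_SL_iff]
  show (blockDiagonal (fun k => if k = k0 then (om : Matrix (Fin 2) (Fin 2) F) else 1)).det = 1
  rw [det_blockDiagonal, Finset.prod_eq_single k0]
  · simp [om, Matrix.det_fin_two_of]
    linear_combination - two
  · intro k _ hk
    simp [hk]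
  · simp

omit [Fintype F] in
theorem E1_comm (two : (1 : F) + 1 = 0) (k0 : Fin n₂) :
    E1 n₂ two k0 * Wp n₂ two = Wp n₂ two * E1 n₂ two k0 := by
  apply Units.ext
  rw [Units.val_mul, Units.val_mul]
  show blockDiagonal (fun k => if k = k0 then (om : Matrix (Fin 2) (Fin 2) F) else 1) * om ⊗ₖ 1
    = om ⊗ₖ 1 * blockDiagonal (fun k => if k = k0 then (om : Matrix (Fin 2) (Fin 2) F) else 1)
  rw [kronecker_one, ← blockDiagonal_mul, ← blockDiagonal_mul]
  congr 1
  ext1 k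
  by_cases h : k = k0 <;> simp [h]

omit [Fintype F] in
theorem E1_mem_N (two : (1 : F) + 1 = 0) (k0 : Fin n₂) :
    E1 n₂ two k0 ∈
      Subgroup.normalizer ((Subgroup.zpowers (Wp n₂ two) : Subgroup _) : Set _) := by
  have h := le_normalizer_zpowers (Subgroup.zpowers (E1 n₂ two k0)) (Wp n₂ two) ?_
  · exact h (Subgroup.mem_zpowers _)
  · intro g hg
    obtain ⟨k, rfl⟩ := Subgroup.mem_zpowers_iff.mp hg
    have hc : Commute (E1 n₂ two k0 ^ k) (Wp n₂ two) := Commute.zpow_left (E1_comm n₂ two k0) k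
    rw [hc.eq, mul_inv_cancel_right]
    exact Subgroup.mem_zpowers _

omit [Fintype F] in
theorem E1_not_kron (two : (1 : F) + 1 = 0) (k0 k1 : Fin n₂) (h01 : k0 ≠ k1) :
    E1 n₂ two k0 ∉ kroneckerSubgroup 2 n₂ F := by
  rintro ⟨a, b, hg⟩
  have hE : ∀ i k j l, blockDiagonal (fun k => if k = k0 then (om : Matrix (Fin 2) (Fin 2) F) else 1)
      (i, k) (j, l) = (a : Matrix (Fin 2) (Fin 2) F) i j * (b : Matrix (Fin n₂) (Fin n₂) F) k l := by
    intro i k j l
    have := congrFun (congrFun hg (i, k)) (j, l)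
    rw [kroneckerMap_apply] at this
    exact this
  have h1 := hE 0 k1 0 k1
  have h2 := hE 0 k1 1 k1
  have h3 := hE 0 k0 1 k0
  simp [blockDiagonal_apply', h01.symm, om] at h1 h2 h3
  rcases h2 with h2 | h2
  · rw [h2, zero_mul] at h3
    exact one_ne_zero h3
  · rw [h2, mul_zero] at h1
    exact one_ne_zero h1

/-- a transvection mixing two blocks. -/
def E2 (k0 k1 : Fin n₂) (h01 : k0 ≠ k1) : GL (Fin 2 × Fin n₂) F :=
  ⟨transvection ((0 : Fin 2), k0) ((0 : Fin 2), k1) (1 : F),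
   transvection ((0 : Fin 2), k0) ((0 : Fin 2), k1) (-1 : F),
   by
     rw [transvection_mul_transvection_same _ _ (by simp [h01]), add_neg_cancel, transvection_zero],
   by
     rw [transvection_mul_transvection_same _ _ (by simp [h01]), neg_add_cancel, transvection_zero]⟩

omit [Fintype F] in
theorem E2_mem_SL (k0 k1 : Fin n₂) (h01 : k0 ≠ k1) :
    E2 (F := F) n₂ k0 k1 h01 ∈ specialLinear (Fin 2 × Fin n₂) F := by
  rw [mem_SL_iff]
  exact det_transvection_of_ne _ _ (by simp [h01]) _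

omit [Fintype F] in
theorem E2_lhs (two : (1 : F) + 1 = 0) (k0 k1 : Fin n₂) (h01 : k0 ≠ k1) :
    ((E2 (F := F) n₂ k0 k1 h01 * Wp n₂ two : GL (Fin 2 × Fin n₂) F) :
      Matrix (Fin 2 × Fin n₂) (Fin 2 × Fin n₂) F)
      ((0 : Fin 2), k0) ((1 : Fin 2), k1) = 1 := by
  rw [Units.val_mul]
  show (transvection ((0 : Fin 2), k0) ((0 : Fin 2), k1) (1 : F) *
    (om : Matrix (Fin 2) (Fin 2) F) ⊗ₖ (1 : Matrix (Fin n₂) (Fin n₂) F)) _ _ = 1
  rw [transvection, Matrix.add_mul, Matrix.one_mul, Matrix.add_apply, single_mul_apply_same,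
    kroneckerMap_apply, kroneckerMap_apply]
  simp [om, h01]

omit [Fintype F] in
theorem E2_rhs (Y : Matrix (Fin 2) (Fin 2) F) (k0 k1 : Fin n₂) (h01 : k0 ≠ k1) :
    (Y ⊗ₖ (1 : Matrix (Fin n₂) (Fin n₂) F) *
      ((E2 (F := F) n₂ k0 k1 h01 : GL (Fin 2 × Fin n₂) F) :
        Matrix (Fin 2 × Fin n₂) (Fin 2 × Fin n₂) F))
      ((0 : Fin 2), k0) ((1 : Fin 2), k1) = 0 := by
  show (Y ⊗ₖ (1 : Matrix (Fin n₂) (Fin n₂) F) *
    transvection ((0 : Fin 2), k0) ((0 : Fin 2), k1) (1 : F)) _ _ = 0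
  rw [transvection, Matrix.mul_add, Matrix.mul_one, Matrix.add_apply,
    mul_single_apply_of_ne (1 : F) ((0 : Fin 2), k0) ((0 : Fin 2), k1) ((0 : Fin 2), k0)
      ((1 : Fin 2), k1) (by simp), kroneckerMap_apply]
  simp [h01]

omit [Fintype F] in
theorem E2_not_mem_N (two : (1 : F) + 1 = 0) (k0 k1 : Fin n₂) (h01 : k0 ≠ k1) :
    E2 (F := F) n₂ k0 k1 h01 ∉
      Subgroup.normalizer ((Subgroup.zpowers (Wp n₂ two) : Subgroup _) : Set _) := by
  intro h
  rw [Subgroup.mem_normalizer_iff] at h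
  have h1 := (h (Wp n₂ two)).mp (Subgroup.mem_zpowers _)
  have hl := E2_lhs n₂ two k0 k1 h01
  have key : ∀ X : GL (Fin 2 × Fin n₂) F, ∀ Y : Matrix (Fin 2) (Fin 2) F,
      (X : Matrix (Fin 2 × Fin n₂) (Fin 2 × Fin n₂) F) = Y ⊗ₖ (1 : Matrix (Fin n₂) (Fin n₂) F) →
      E2 (F := F) n₂ k0 k1 h01 * Wp n₂ two * (E2 (F := F) n₂ k0 k1 h01)⁻¹ = X → False := by
    intro X Y hX hc
    have h2 : E2 (F := F) n₂ k0 k1 h01 * Wp n₂ two = X * E2 (F := F) n₂ k0 k1 h01 := by
      rw [← hc, inv_mul_cancel_right]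
    rw [h2, Units.val_mul, hX, E2_rhs] at hl
    exact zero_ne_one hl
  rcases mem_zpowers_of_pow_three _ (Wp_cube n₂ two) _ h1 with h2 | h2 | h2
  · exact key 1 1 (by rw [one_kronecker_one]; rfl) h2
  · exact key _ om rfl h2
  · rw [Wp_sq] at h2
    exact key _ om2 rfl h2

end Main

section Transport

variable {F : Type*} [Field F]

theorem det_glReindex {ι κ : Type} [Fintype ι] [DecidableEq ι] [Fintype κ] [DecidableEq κ]
    (e : κ ≃ ι) (g : GL κ F) :
    ((glReindex (F := F) e g : GL ι F) : Matrix ι ι F).det = (g : Matrix κ κ F).det := by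
  show (Matrix.reindexAlgEquiv F F e (g : Matrix κ κ F)).det = _
  rw [Matrix.coe_reindexAlgEquiv, Matrix.det_reindex_self]

theorem det_conj {ι : Type} [Fintype ι] [DecidableEq ι] (P g : GL ι F) :
    ((MulAut.conj P g : GL ι F) : Matrix ι ι F).det = (g : Matrix ι ι F).det := by
  rw [MulAut.conj_apply, Units.val_mul, Units.val_mul, Matrix.det_mul, Matrix.det_mul]
  have h : (P : Matrix ι ι F).det * ((P⁻¹ : GL ι F) : Matrix ι ι F).det = 1 := by
    rw [← Matrix.det_mul, ← Units.val_mul, mul_inv_cancel, Units.val_one, Matrix.det_one]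
  linear_combination (g : Matrix ι ι F).det * h

end Transport

theorem result {F : Type*} [Field F] [Fintype F] (n : ℕ) (hn : 13 ≤ n) (hq : Fintype.card F = 2) (n₂ : ℕ) (e : Fin n ≃ Fin 2 × Fin n₂) (P : Matrix.GeneralLinearGroup (Fin n) F) : ∃ K : Subgroup (Matrix.GeneralLinearGroup (Fin n) F), Cfsg.Geo.tensorProductSubgroup 2 n₂ e P ⊓ Cfsg.Geo.specialLinear (Fin n) F < K ∧ K < Cfsg.Geo.specialLinear (Fin n) F := by
  have two := f2_two hq
  have hcard : n = 2 * n₂ := by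
    have := Fintype.card_congr e
    simpa using this
  let k0 : Fin n₂ := ⟨0, by omega⟩
  let k1 : Fin n₂ := ⟨1, by omega⟩
  have h01 : k0 ≠ k1 := by simp [k0, k1, Fin.ext_iff]
  let φ : GL (Fin 2 × Fin n₂) F ≃* GL (Fin n) F := (glReindex (F := F) e.symm).trans (MulAut.conj P)
  have hφinj : Function.Injective φ.toMonoidHom := φ.injective
  have hT : tensorProductSubgroup 2 n₂ e P = (kroneckerSubgroup 2 n₂ F).map φ.toMonoidHom := by
    unfold tensorProductSubgroup
    rw [Subgroup.map_map]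
    rfl
  have hdet : ∀ g, ((φ g : GL (Fin n) F) : Matrix (Fin n) (Fin n) F).det
      = (g : Matrix (Fin 2 × Fin n₂) (Fin 2 × Fin n₂) F).det := by
    intro g
    show ((MulAut.conj P (glReindex (F := F) e.symm g) : GL (Fin n) F) :
      Matrix (Fin n) (Fin n) F).det = _
    rw [det_conj, det_glReindex]
  have hSL : specialLinear (Fin n) F = (specialLinear (Fin 2 × Fin n₂) F).map φ.toMonoidHom := by
    ext x
    rw [Subgroup.mem_map]
    constructor
    · intro hx
      refine ⟨φ.symm x, ?_, by simp⟩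
      rw [mem_SL_iff] at hx ⊢
      rw [← hdet, MulEquiv.apply_symm_apply, hx]
    · rintro ⟨g, hg, rfl⟩
      rw [mem_SL_iff] at hg ⊢
      show ((φ g : GL (Fin n) F) : Matrix (Fin n) (Fin n) F).det = 1
      rw [hdet, hg]
  set N' := Subgroup.normalizer ((Subgroup.zpowers (Wp n₂ two) :
    Subgroup (GL (Fin 2 × Fin n₂) F)) : Set (GL (Fin 2 × Fin n₂) F)) with hN'
  refine ⟨(N' ⊓ specialLinear (Fin 2 × Fin n₂) F).map φ.toMonoidHom, ?_, ?_⟩
  · rw [hT, hSL, ← Subgroup.map_inf _ _ _ hφinj, Subgroup.map_lt_map_iff_of_injective hφinj,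
      SetLike.lt_iff_le_and_exists]
    refine ⟨inf_le_inf_right _ (kron_le n₂ hq), E1 n₂ two k0,
      Subgroup.mem_inf.mpr ⟨E1_mem_N n₂ two k0, E1_mem_SL n₂ two k0⟩, ?_⟩
    intro h
    exact E1_not_kron n₂ two k0 k1 h01 (Subgroup.mem_inf.mp h).1
  · rw [hSL, Subgroup.map_lt_map_iff_of_injective hφinj, SetLike.lt_iff_le_and_exists]
    refine ⟨inf_le_right, E2 n₂ k0 k1 h01, E2_mem_SL n₂ k0 k1 h01, ?_⟩
    intro h
    exact E2_not_mem_N n₂ two k0 k1 h01 (Subgroup.mem_inf.mp h).1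

end Cfsg.Agent.S5638
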