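import Cfsg.Statements.S5644
import Mathlib
import Cfsg.Agent.Lib.H11.OrMax8
-- import your own Cfsg.Agent.* helpers here

set_option autoImplicit false
open Cfsg

namespace Cfsg.Agent.S5644



/-- For a finite field F of odd order and n ≥ 13, let Q be a non-degenerate quadratic form on F^n (its polar form is non-degenerate). Then the elements of SL_n(F) that are similarities of Q (Q(gv) = c Q(v) for a non-zero scalar c depending on g) form a maximal subgroup of SL_n(F). -/
theorem result {F : Type*} [Field F] [Fintype F] (n : ℕ) (hn : 13 ≤ n) (hodd : Odd (Fintype.card F)) (Q : (Fin n → F) → F) (hQ : Cfsg.Geo.IsNondegenerateQuadraticForm Q) : Cfsg.Geo.IsMaximalIn (Cfsg.Geo.specialLinear (Fin n) F) (Cfsg.Geo.quadSimilarityGroup Q ⊓ Cfsg.Geo.specialLinear (Fin n) F) := by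
  have h2 : (2 : F) ≠ 0 := by
    intro h0
    have h1 : ringChar F = 2 := CharP.ringChar_of_prime_eq_zero Nat.prime_two (by exact_mod_cast h0)
    rw [FiniteField.even_card_iff_char_two] at h1
    rw [Nat.odd_iff] at hodd
    omega
  obtain ⟨B, hB⟩ : ∃ B : LinearMap.BilinMap F (Fin n → F) F, ∀ x y, B x y = QuadraticMap.polar Q x y :=
    ⟨LinearMap.mk₂ F (QuadraticMap.polar Q) hQ.polar_bilinear.add_left
      hQ.polar_bilinear.smul_left hQ.polar_bilinear.add_right hQ.polar_bilinear.smul_right,
      fun x y => rfl⟩
  obtain ⟨Qf, hQf⟩ : ∃ Qf : QuadraticForm F (Fin n → F), ⇑Qf = Q :=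
    ⟨{ toFun := Q
       toFun_smul := fun a x => by rw [hQ.smul, pow_two, smul_eq_mul]
       exists_companion' := ⟨B, fun x y => by rw [hB]; unfold QuadraticMap.polar; ring⟩ }, rfl⟩
  have hnd : (QuadraticMap.polarBilin Qf).Nondegenerate := by
    constructor
    · intro x hx
      by_contra hne
      obtain ⟨-, y, hy⟩ := hQ.nondegenerate x hne
      apply hy
      have := hx y
      rw [QuadraticMap.polarBilin_apply_apply, hQf] at this
      exact this
    · intro x hx
      by_contra hne
      obtain ⟨⟨y, hy⟩, -⟩ := hQ.nondegenerate x hne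
      apply hy
      have := hx y
      rw [QuadraticMap.polarBilin_apply_apply, hQf] at this
      exact this
  have := Cfsg.Agent.Lib.H11.OrMax.quad_sim_maximal Qf hnd h2 hn
  rw [hQf] at this
  exact this

end Cfsg.Agent.S5644
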