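import Cfsg.Statements.S5648
import Cfsg.Agent.Lib.H4.Symp

set_option autoImplicit false
open Cfsg

namespace Cfsg.Agent.S5648

open Cfsg.Agent.Lib.H4 Cfsg.Geo Matrix

section General

variable {F : Type*} [Field F]

theorem finrank_finsetSup_le {V : Type*} [AddCommGroup V] [Module F V] [FiniteDimensional F V]
    {ι : Type*} (s : Finset ι) (D : ι → Submodule F V) :
    Module.finrank F ↥(s.sup D) ≤ ∑ i ∈ s, Module.finrank F (D i) := by
  classical
  induction s using Finset.induction_on with
  | empty => simp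
  | insert a s ha ih =>
    rw [Finset.sup_insert, Finset.sum_insert ha]
    exact (Submodule.finrank_add_le_finrank_add_finrank _ _).trans (Nat.add_le_add_left ih _)

theorem exists_ne_zero_of_finrank {V : Type*} [AddCommGroup V] [Module F V]
    (W : Submodule F V) (hW : Module.finrank F W = 2) : ∃ a ∈ W, a ≠ 0 := by
  have : W ≠ ⊥ := by
    rintro rfl
    simp at hW
  exact (Submodule.ne_bot_iff W).mp this

theorem span_pair {V : Type*} [AddCommGroup V] [Module F V] [FiniteDimensional F V]
    (W : Submodule F V) (hW : Module.finrank F W = 2) (a b : V) (ha : a ∈ W) (hb : b ∈ W)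
    (hind : ∀ s t : F, s • a + t • b = 0 → s = 0 ∧ t = 0) (d : V) (hd : d ∈ W) :
    ∃ c₁ c₂ : F, d = c₁ • a + c₂ • b := by
  have li : LinearIndependent F ![(⟨a, ha⟩ : W), ⟨b, hb⟩] := by
    rw [LinearIndependent.pair_iff]
    intro s t h
    apply hind
    have := congrArg Subtype.val h
    simpa using this
  have htop := li.span_eq_top_of_card_eq_finrank' (by simp [hW])
  have hmem : (⟨d, hd⟩ : W) ∈ Submodule.span F (Set.range ![(⟨a, ha⟩ : W), ⟨b, hb⟩]) := by
    rw [htop]; trivial
  rw [Matrix.range_cons, Matrix.range_cons, Matrix.range_empty, Set.union_empty,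
    Set.singleton_union, Submodule.mem_span_pair] at hmem
  obtain ⟨c₁, c₂, h⟩ := hmem
  refine ⟨c₁, c₂, ?_⟩
  have := congrArg Subtype.val h
  simpa using this.symm

variable [Fintype F]

theorem f2_cases (hq : Fintype.card F = 2) (x : F) : x = 0 ∨ x = 1 := by
  classical
  by_contra h
  push Not at h
  have h3 : ({0, 1, x} : Finset F).card ≤ Fintype.card F := Finset.card_le_univ _
  rw [hq, Finset.card_insert_of_notMem, Finset.card_insert_of_notMem, Finset.card_singleton] at h3
  · omega
  · simp [h.2.symm]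
  · simp [h.1.symm]

theorem f2_two (hq : Fintype.card F = 2) : (1 : F) + 1 = 0 := by
  rcases f2_cases hq ((1 : F) + 1) with h | h
  · exact h
  · exfalso
    have : (1 : F) = 0 := by linear_combination h
    exact one_ne_zero this

end General

section Main

variable {F : Type*} [Field F] (m : ℕ) {t : ℕ} (D : Fin t → Submodule F (Fin m ⊕ Fin m → F))

open Classical in
/-- indicator that `v` is not orthogonal to `D j` -/
noncomputable def N (j : Fin t) (v : Fin m ⊕ Fin m → F) : F :=
  if ∀ d ∈ D j, sympForm m F v d = 0 then 0 else 1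

/-- the quadratic form: number of blocks to which `v` is not orthogonal -/
noncomputable def Q (v : Fin m ⊕ Fin m → F) : F := ∑ j, N m D j v

variable {m D}

theorem N_pos {j : Fin t} {v : Fin m ⊕ Fin m → F} (h : ∀ d ∈ D j, sympForm m F v d = 0) :
    N m D j v = 0 := if_pos h

theorem N_neg {j : Fin t} {v : Fin m ⊕ Fin m → F} (h : ¬ ∀ d ∈ D j, sympForm m F v d = 0) :
    N m D j v = 1 := if_neg h

theorem N_congr {j j' : Fin t} {v v' : Fin m ⊕ Fin m → F}
    (h : (∀ d ∈ D j, sympForm m F v d = 0) ↔ (∀ d ∈ D j', sympForm m F v' d = 0)) :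
    N m D j v = N m D j' v' := by
  by_cases h1 : ∀ d ∈ D j, sympForm m F v d = 0
  · rw [N_pos h1, N_pos (h.mp h1)]
  · rw [N_neg h1, N_neg (fun h2 => h1 (h.mpr h2))]

theorem N_other (k j : Fin t) (hor : AreOrthogonalFor (sympForm m F) (D j) (D k))
    (a : Fin m ⊕ Fin m → F) (ha : a ∈ D j) (x : Fin m ⊕ Fin m → F) :
    N m D k (x + a) = N m D k x := by
  apply N_congr
  constructor <;> intro h d hd
  · have := h d hd
    rwa [sympForm_add_left, hor a ha d hd, add_zero] at this
  · rw [sympForm_add_left, hor a ha d hd, add_zero]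
    exact h d hd

variable [Fintype F]

theorem N_add (hq : Fintype.card F = 2) (j : Fin t) (h2 : Module.finrank F (D j) = 2)
    (hnd : IsNondegenerateOn (sympForm m F) (D j)) (a : Fin m ⊕ Fin m → F) (ha : a ∈ D j)
    (ha0 : a ≠ 0) (x : Fin m ⊕ Fin m → F) :
    N m D j (x + a) = N m D j x + (1 + sympForm m F x a) := by
  obtain ⟨-, b, hb, hab⟩ := hnd a ha ha0
  have hab1 : sympForm m F a b = 1 := (f2_cases hq _).resolve_left hab
  have hind : ∀ s t : F, s • a + t • b = 0 → s = 0 ∧ t = 0 := by
    intro s t h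
    have e1 : sympForm m F a (s • a + t • b) = t := by
      rw [sympForm_add_right, sympForm_smul_right, sympForm_smul_right, sympForm_self, hab1]
      ring
    have e2 : sympForm m F (s • a + t • b) b = s := by
      rw [sympForm_add_left, sympForm_smul_left, sympForm_smul_left, sympForm_self, hab1]
      ring
    rw [h] at e1 e2
    have z1 : sympForm m F a 0 = 0 := by simp [sympForm]
    have z2 : sympForm m F 0 b = 0 := by simp [sympForm]
    exact ⟨by rw [← e2, z2], by rw [← e1, z1]⟩
  by_cases hx : ∀ d ∈ D j, sympForm m F x d = 0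
  · have h1 : ¬ ∀ d ∈ D j, sympForm m F (x + a) d = 0 := by
      intro h
      have := h b hb
      rw [sympForm_add_left, hx b hb, zero_add] at this
      exact hab this
    rw [N_pos hx, N_neg h1, hx a ha]
    ring
  · rw [N_neg hx]
    rcases f2_cases hq (sympForm m F x a) with hxa | hxa
    · have hxb : sympForm m F x b = 1 := by
        refine (f2_cases hq _).resolve_left (fun hxb => hx ?_)
        intro d hd
        obtain ⟨c₁, c₂, rfl⟩ := span_pair (D j) h2 a b ha hb hind d hd
        rw [sympForm_add_right, sympForm_smul_right, sympForm_smul_right, hxa, hxb]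
        ring
      have h1 : ∀ d ∈ D j, sympForm m F (x + a) d = 0 := by
        intro d hd
        obtain ⟨c₁, c₂, rfl⟩ := span_pair (D j) h2 a b ha hb hind d hd
        simp only [sympForm_add_left, sympForm_add_right, sympForm_smul_right, hxa, hxb, hab1,
          sympForm_self]
        linear_combination c₂ * f2_two hq
      rw [N_pos h1, hxa]
      linear_combination - f2_two hq
    · have h1 : ¬ ∀ d ∈ D j, sympForm m F (x + a) d = 0 := by
        intro h
        have := h a ha
        rw [sympForm_add_left, sympForm_self, add_zero, hxa] at this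
        exact one_ne_zero this
      rw [N_neg h1, hxa]
      linear_combination - f2_two hq

theorem Q_add (hq : Fintype.card F = 2) (hD : IsNondegenerateMDecomposition (sympForm m F) 2 D)
    (j : Fin t) (a : Fin m ⊕ Fin m → F) (ha : a ∈ D j) (ha0 : a ≠ 0) (x : Fin m ⊕ Fin m → F) :
    Q m D (x + a) = Q m D x + (1 + sympForm m F x a) := by
  classical
  unfold Q
  have key : ∀ k, N m D k (x + a) = N m D k x + (if k = j then (1 + sympForm m F x a) else 0) := by
    intro k
    by_cases hk : k = j
    · subst hk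
      rw [if_pos rfl]
      exact N_add hq k (hD.decomp.finrank_eq k) (hD.nondegenerate k) a ha ha0 x
    · rw [if_neg hk, add_zero]
      exact N_other k j (hD.orthogonal j k (Ne.symm hk)) a ha x
  rw [Finset.sum_congr rfl (fun k _ => key k), Finset.sum_add_distrib]
  simp

omit [Fintype F] in
theorem sympTransvection_zero (w : Fin m ⊕ Fin m → F) : sympTransvection m w (0 : F) = 1 := by
  simp [sympTransvection]

/-- the transvection along `w` as an element of `GL`. -/
noncomputable def T (w : Fin m ⊕ Fin m → F) : Matrix.GeneralLinearGroup (Fin m ⊕ Fin m) F :=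
  ⟨sympTransvection m w 1, sympTransvection m w (-1),
    by rw [sympTransvection_mul, add_neg_cancel, sympTransvection_zero],
    by rw [sympTransvection_mul, neg_add_cancel, sympTransvection_zero]⟩

omit [Fintype F] in
theorem T_apply (w x : Fin m ⊕ Fin m → F) :
    ((T w : Matrix.GeneralLinearGroup (Fin m ⊕ Fin m) F) : Matrix _ _ F) *ᵥ x
      = x + sympForm m F x w • w := by
  show sympTransvection m w 1 *ᵥ x = _
  rw [sympTransvection_mulVec, one_mul]

omit [Fintype F] in
theorem T_mem_spGL (w : Fin m ⊕ Fin m → F) : T w ∈ spGL m F := by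
  intro u v
  exact (mem_symplecticGroup_iff_sympForm m _).mp (sympTransvection_mem m w 1) u v

omit [Fintype F] in
theorem mem_iso_iff (g : Matrix.GeneralLinearGroup (Fin m ⊕ Fin m) F) :
    g ∈ isometryGroup F (Q m D) ↔ ∀ u, Q m D ((g : Matrix _ _ F) *ᵥ u) = Q m D u := by
  constructor
  · intro h u
    exact h u u
  · intro h u _
    exact h u

end Main

theorem result {F : Type*} [Field F] [Fintype F] (m : ℕ) (hm : 7 ≤ m) (hq : Fintype.card F = 2) {t : ℕ} (D : Fin t → Submodule F (Fin m ⊕ Fin m → F)) (hD : Cfsg.Geo.IsNondegenerateMDecomposition (Cfsg.sympForm m F) 2 D) : ∃ K : Subgroup (Matrix.GeneralLinearGroup (Fin m ⊕ Fin m) F), Cfsg.Geo.decompositionStabilizer D ⊓ Cfsg.spGL m F < K ∧ K < Cfsg.spGL m F := by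
  classical
  have hdec := hD.decomp
  have ht : m ≤ t := by
    have h1 : Module.finrank F ↥(Finset.univ.sup D) ≤ ∑ i ∈ Finset.univ, Module.finrank F (D i) :=
      finrank_finsetSup_le _ _
    rw [Finset.sup_univ_eq_iSup, hdec.iSup_eq_top, finrank_top,
      Module.finrank_fintype_fun_eq_card] at h1
    simp [hdec.finrank_eq] at h1
    omega
  have two := f2_two hq
  let i0 : Fin t := ⟨0, by omega⟩
  let i1 : Fin t := ⟨1, by omega⟩
  let i2 : Fin t := ⟨2, by omega⟩
  have h01 : i0 ≠ i1 := by simp [i0, i1, Fin.ext_iff]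
  have h02 : i0 ≠ i2 := by simp [i0, i2, Fin.ext_iff]
  have h12 : i1 ≠ i2 := by simp [i1, i2, Fin.ext_iff]
  obtain ⟨a0, ha0, ha0n⟩ := exists_ne_zero_of_finrank (D i0) (hdec.finrank_eq i0)
  obtain ⟨a1, ha1, ha1n⟩ := exists_ne_zero_of_finrank (D i1) (hdec.finrank_eq i1)
  obtain ⟨a2, ha2, ha2n⟩ := exists_ne_zero_of_finrank (D i2) (hdec.finrank_eq i2)
  obtain ⟨⟨b0, hb0, hb0a⟩, -⟩ := hD.nondegenerate i0 a0 ha0 ha0n
  obtain ⟨-, ⟨b1, hb1, hb1a⟩⟩ := hD.nondegenerate i1 a1 ha1 ha1n
  obtain ⟨-, ⟨b2, hb2, hb2a⟩⟩ := hD.nondegenerate i2 a2 ha2 ha2n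
  have hb0a1 : sympForm m F b0 a0 = 1 := (f2_cases hq _).resolve_left hb0a
  have o01 := hD.orthogonal i0 i1 h01
  have o02 := hD.orthogonal i0 i2 h02
  have o12 := hD.orthogonal i1 i2 h12
  have o21 := hD.orthogonal i2 i1 h12.symm
  refine ⟨isometryGroup F (Q m D) ⊓ spGL m F, ?_, ?_⟩
  · rw [SetLike.lt_iff_le_and_exists]
    refine ⟨?_, T (a0 + a1 + a2),
      Subgroup.mem_inf.mpr ⟨(mem_iso_iff _).mpr ?_, T_mem_spGL _⟩, ?_⟩
    · -- Stab ⊓ Sp ≤ K
      intro g hg
      rw [Subgroup.mem_inf] at hg
      obtain ⟨⟨σ, hσ⟩, hsp⟩ := hg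
      rw [Subgroup.mem_inf]
      refine ⟨(mem_iso_iff g).mpr ?_, hsp⟩
      have hsp' : ∀ u v, sympForm m F ((g : Matrix _ _ F) *ᵥ u) ((g : Matrix _ _ F) *ᵥ v)
          = sympForm m F u v := hsp
      intro u
      unfold Q
      rw [← Equiv.sum_comp σ]
      refine Finset.sum_congr rfl (fun i _ => N_congr ?_)
      constructor
      · intro h d hd
        have hgd : (g : Matrix _ _ F) *ᵥ d ∈ D (σ i) := by
          rw [← hσ i]
          exact ⟨d, hd, by simp [Matrix.toLin'_apply]⟩
        have := h _ hgd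
        rwa [hsp' u d] at this
      · intro h d hd
        rw [← hσ i] at hd
        obtain ⟨d', hd', rfl⟩ := hd
        rw [Matrix.toLin'_apply]
        have := hsp' u d'
        rw [h d' hd'] at this
        exact this
    · -- E1 ∈ iso
      intro u
      rw [T_apply]
      rcases f2_cases hq (sympForm m F u (a0 + a1 + a2)) with h | h
      · rw [h, zero_smul, add_zero]
      · rw [h, one_smul, ← add_assoc, ← add_assoc, Q_add hq hD i2 a2 ha2 ha2n,
          Q_add hq hD i1 a1 ha1 ha1n, Q_add hq hD i0 a0 ha0 ha0n]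
        simp only [sympForm_add_left, sympForm_add_right] at h ⊢
        rw [o01 a0 ha0 a1 ha1, o02 a0 ha0 a2 ha2, o12 a1 ha1 a2 ha2]
        linear_combination (1 + sympForm m F u a0 + sympForm m F u a1 + sympForm m F u a2) * two - h
    · -- E1 ∉ Stab
      intro h
      rw [Subgroup.mem_inf] at h
      obtain ⟨⟨σ, hσ⟩, -⟩ := h
      have hy : ((T (a0 + a1 + a2) : Matrix.GeneralLinearGroup (Fin m ⊕ Fin m) F) : Matrix _ _ F) *ᵥ b0
          ∈ D (σ i0) := by
        rw [← hσ i0]
        exact ⟨b0, hb0, by simp [Matrix.toLin'_apply]⟩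
      rw [T_apply] at hy
      have hbw : sympForm m F b0 (a0 + a1 + a2) = 1 := by
        rw [sympForm_add_right, sympForm_add_right, hb0a1, o01 b0 hb0 a1 ha1, o02 b0 hb0 a2 ha2]
        ring
      rw [hbw, one_smul] at hy
      have e1 : σ i0 = i1 := by
        by_contra hne
        have := hD.orthogonal (σ i0) i1 hne _ hy b1 hb1
        simp only [sympForm_add_left] at this
        rw [o01 b0 hb0 b1 hb1, o01 a0 ha0 b1 hb1, o21 a2 ha2 b1 hb1] at this
        apply hb1a
        linear_combination this
      have e2 : σ i0 = i2 := by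
        by_contra hne
        have := hD.orthogonal (σ i0) i2 hne _ hy b2 hb2
        simp only [sympForm_add_left] at this
        rw [o02 b0 hb0 b2 hb2, o02 a0 ha0 b2 hb2, o12 a1 ha1 b2 hb2] at this
        apply hb2a
        linear_combination this
      exact h12 (e1.symm.trans e2)
  · rw [SetLike.lt_iff_le_and_exists]
    refine ⟨inf_le_right, T (a0 + a1), T_mem_spGL _, ?_⟩
    intro h
    rw [Subgroup.mem_inf] at h
    obtain ⟨hiso, -⟩ := h
    rw [mem_iso_iff] at hiso
    have := hiso b0
    rw [T_apply] at this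
    have hbw : sympForm m F b0 (a0 + a1) = 1 := by
      rw [sympForm_add_right, hb0a1, o01 b0 hb0 a1 ha1]
      ring
    rw [hbw, one_smul, ← add_assoc, Q_add hq hD i1 a1 ha1 ha1n, Q_add hq hD i0 a0 ha0 ha0n,
      sympForm_add_left, hb0a1, o01 b0 hb0 a1 ha1, o01 a0 ha0 a1 ha1] at this
    have : (1 : F) = 0 := by linear_combination this - two
    exact one_ne_zero this

end Cfsg.Agent.S5648
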