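import Cfsg.Statements.S5656
import Cfsg.Agent.Lib.H4.Herm

set_option autoImplicit false
open Cfsg

namespace Cfsg.Agent.S5656

open Cfsg.Agent.Lib.H4 Cfsg.Geo Matrix

section General

variable {F : Type*} [Field F]

theorem exists_ne_zero_of_finrank {V : Type*} [AddCommGroup V] [Module F V]
    (W : Submodule F V) (hW : Module.finrank F W = 2) : ∃ a ∈ W, a ≠ 0 := by
  have : W ≠ ⊥ := by
    rintro rfl
    simp at hW
  exact (Submodule.ne_bot_iff W).mp this

theorem span_pair {V : Type*} [AddCommGroup V] [Module F V] [FiniteDimensional F V]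
    (W : Submodule F V) (hW : Module.finrank F W = 2) (a b : V) (ha : a ∈ W) (hb : b ∈ W)
    (hind : ∀ s t : F, s • a + t • b = 0 → s = 0 ∧ t = 0) (d : V) (hd : d ∈ W) :
    ∃ c₁ c₂ : F, d = c₁ • a + c₂ • b := by
  have li : LinearIndependent F ![(⟨a, ha⟩ : W), ⟨b, hb⟩] := by
    rw [LinearIndependent.pair_iff]
    intro s t h
    apply hind
    have := congrArg Subtype.val h
    simpa using this
  have htop := li.span_eq_top_of_card_eq_finrank' (by simp [hW])
  have hmem : (⟨d, hd⟩ : W) ∈ Submodule.span F (Set.range ![(⟨a, ha⟩ : W), ⟨b, hb⟩]) := by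
    rw [htop]; trivial
  rw [Matrix.range_cons, Matrix.range_cons, Matrix.range_empty, Set.union_empty,
    Set.singleton_union, Submodule.mem_span_pair] at hmem
  obtain ⟨c₁, c₂, h⟩ := hmem
  refine ⟨c₁, c₂, ?_⟩
  have := congrArg Subtype.val h
  simpa using this.symm

theorem exists_notMem_span {V : Type*} [AddCommGroup V] [Module F V] [FiniteDimensional F V]
    (W : Submodule F V) (hW : Module.finrank F W = 2) (e : V) (he : e ∈ W) :
    ∃ u ∈ W, u ∉ Submodule.span F {e} := by
  have hle : Submodule.span F {e} ≤ W := by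
    rw [Submodule.span_singleton_le_iff_mem]
    exact he
  have hlt : Submodule.span F {e} < W := by
    refine lt_of_le_of_ne hle ?_
    intro h
    have h1 : Module.finrank F (Submodule.span F {e}) ≤ 1 := by
      have := finrank_span_le_card (R := F) ({e} : Set V)
      simpa using this
    rw [h, hW] at h1
    omega
  obtain ⟨u, hu, hu'⟩ := SetLike.exists_of_lt hlt
  exact ⟨u, hu, hu'⟩

variable [Fintype F]

theorem f4_pow4 (hF : Fintype.card F = 4) (x : F) : x ^ 4 = x := by
  have := FiniteField.pow_card x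
  rwa [hF] at this

theorem f4_two (hF : Fintype.card F = 4) : (1 : F) + 1 = 0 := by
  have := f4_pow4 hF (-1 : F)
  have h : ((-1 : F)) ^ 4 = 1 := by ring
  rw [h] at this
  linear_combination this

theorem f4_cube (hF : Fintype.card F = 4) (x : F) (hx : x ≠ 0) : x ^ 3 = 1 := by
  have := f4_pow4 hF x
  have h : x * (x ^ 3 - 1) = 0 := by linear_combination this
  rcases mul_eq_zero.mp h with h | h
  · exact absurd h hx
  · linear_combination h

theorem f4_exists (hF : Fintype.card F = 4) : ∃ ω : F, ω ≠ 0 ∧ ω ≠ 1 := by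
  classical
  by_contra h
  push Not at h
  have h3 : (Finset.univ : Finset F) ⊆ {0, 1} := by
    intro x _
    by_cases hx : x = 0
    · simp [hx]
    · simp [h x hx]
  have := Finset.card_le_card h3
  rw [Finset.card_univ, hF] at this
  have h2 : ({0, 1} : Finset F).card ≤ 2 := Finset.card_le_two
  omega

theorem sq_eq_self (x : F) (h : x ^ 2 = x) : x = 0 ∨ x = 1 := by
  have : x * (x - 1) = 0 := by linear_combination h
  rcases mul_eq_zero.mp this with h | h
  · left; exact h
  · right; linear_combination h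

end General

section Herm

variable {F : Type*} [Field F] [Fintype F] (n : ℕ)

omit [Fintype F] in
theorem herm_zero_left (v : Fin n → F) : hermForm n F 2 0 v = 0 := by
  simp [hermForm]

theorem herm_self_cases (hF : Fintype.card F = 4) (v : Fin n → F) :
    hermForm n F 2 v v = 0 ∨ hermForm n F 2 v v = 1 :=
  sq_eq_self _ (hermForm_conj n (by rw [hF]; norm_num) v v)

theorem exists_nonisotropic (hF : Fintype.card F = 4) (W : Submodule F (Fin n → F))
    (hW : Module.finrank F W = 2) (hnd : IsNondegenerateOn (hermForm n F 2) W) :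
    ∃ e ∈ W, hermForm n F 2 e e ≠ 0 := by
  have hF2 : Fintype.card F = 2 ^ 2 := by rw [hF]; norm_num
  have two := f4_two hF
  by_contra hall
  push Not at hall
  obtain ⟨u, hu, hu0⟩ := exists_ne_zero_of_finrank W hW
  obtain ⟨⟨v, hv, hvu⟩, -⟩ := hnd u hu hu0
  obtain ⟨ω, hω0, hω1⟩ := f4_exists hF
  have key : ∀ c : F, c ^ 2 * (hermForm n F 2 v u) ^ 2 + c * hermForm n F 2 v u = 0 := by
    intro c
    have := hall (u + c • v) (W.add_mem hu (W.smul_mem c hv))
    rw [hermForm_add_left, hermForm_add_right n hF2, hermForm_add_right n hF2, hermForm_smul_left,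
      hermForm_smul_left, hermForm_smul_right, hermForm_smul_right, hall u hu, hall v hv,
      ← hermForm_conj n hF2 v u] at this
    linear_combination this
  have h1 := key 1
  have h2 := key ω
  have ha1 : hermForm n F 2 v u = 1 := by
    have : hermForm n F 2 v u * (hermForm n F 2 v u + 1) = 0 := by linear_combination h1
    rcases mul_eq_zero.mp this with h | h
    · exact absurd h hvu
    · linear_combination h - two
  rw [ha1] at h2
  have : ω * (ω + 1) = 0 := by linear_combination h2
  rcases mul_eq_zero.mp this with h | h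
  · exact hω0 h
  · exact hω1 (by linear_combination h - two)

theorem exists_orthonormal (hF : Fintype.card F = 4) (W : Submodule F (Fin n → F))
    (hW : Module.finrank F W = 2) (hnd : IsNondegenerateOn (hermForm n F 2) W) :
    ∃ e e' : Fin n → F, e ∈ W ∧ e' ∈ W ∧ hermForm n F 2 e e = 1 ∧ hermForm n F 2 e' e' = 1 ∧
      hermForm n F 2 e e' = 0 ∧ hermForm n F 2 e' e = 0 ∧
      ∀ v ∈ W, ∃ α β : F, v = α • e + β • e' := by
  have hF2 : Fintype.card F = 2 ^ 2 := by rw [hF]; norm_num
  have two := f4_two hF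
  obtain ⟨e, he, hee⟩ := exists_nonisotropic n hF W hW hnd
  have hee1 : hermForm n F 2 e e = 1 := (herm_self_cases n hF e).resolve_left hee
  obtain ⟨u, hu, hun⟩ := exists_notMem_span W hW e he
  set e' := u + hermForm n F 2 u e • e with he'def
  have he' : e' ∈ W := W.add_mem hu (W.smul_mem _ he)
  have he'e : hermForm n F 2 e' e = 0 := by
    rw [he'def, hermForm_add_left, hermForm_smul_left, hee1]
    linear_combination hermForm n F 2 u e * two
  have he'0 : e' ≠ 0 := by
    intro h0
    apply hun
    rw [Submodule.mem_span_singleton]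
    refine ⟨-hermForm n F 2 u e, ?_⟩
    rw [he'def] at h0
    rw [neg_smul]
    exact (eq_neg_of_add_eq_zero_left h0).symm
  have hee' : hermForm n F 2 e e' = 0 := by
    rw [← hermForm_conj n hF2 e' e, he'e]
    simp
  have hind : ∀ s t : F, s • e + t • e' = 0 → s = 0 ∧ t = 0 := by
    intro s t hst
    have h1 : hermForm n F 2 (s • e + t • e') e = s := by
      rw [hermForm_add_left, hermForm_smul_left, hermForm_smul_left, hee1, he'e]
      ring
    rw [hst, herm_zero_left] at h1
    have hs : s = 0 := h1.symm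
    rw [hs, zero_smul, zero_add] at hst
    rcases smul_eq_zero.mp hst with h | h
    · exact ⟨hs, h⟩
    · exact absurd h he'0
  have hspan := span_pair W hW e e' he he' hind
  have he'e' : hermForm n F 2 e' e' ≠ 0 := by
    intro h0
    obtain ⟨⟨x, hx, hxe⟩, -⟩ := hnd e' he' he'0
    obtain ⟨α, β, rfl⟩ := hspan x hx
    apply hxe
    rw [hermForm_add_left, hermForm_smul_left, hermForm_smul_left, hee', h0]
    ring
  exact ⟨e, e', he, he', hee1, (herm_self_cases n hF e').resolve_left he'e', hee', he'e, hspan⟩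

end Herm

section Trans

variable {F : Type*} [Field F] (n : ℕ)

theorem herm_eq_dot (w : Fin n → F) :
    (fun j => w j ^ 2) ⬝ᵥ w = hermForm n F 2 w w := by
  simp only [hermForm, dotProduct]
  exact Finset.sum_congr rfl fun i _ => mul_comm _ _

theorem ut_sq (two : (1 : F) + 1 = 0) (w : Fin n → F) (hw : hermForm n F 2 w w = 0) :
    unitaryTransvection n 2 w (1 : F) * unitaryTransvection n 2 w 1 = 1 := by
  unfold unitaryTransvection
  rw [one_smul, add_mul, mul_add, mul_add, one_mul, mul_one, one_mul,
    Matrix.vecMulVec_mul_vecMulVec, herm_eq_dot, hw, zero_smul, Matrix.vecMulVec_zero, add_zero,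
    add_assoc, add_eq_left]
  have : vecMulVec w (fun j => w j ^ 2) + vecMulVec w (fun j => w j ^ 2)
      = ((1 : F) + 1) • vecMulVec w (fun j => w j ^ 2) := by
    rw [add_smul, one_smul]
  rw [this, two, zero_smul]

theorem ut_det (w : Fin n → F) (hw : hermForm n F 2 w w = 0) :
    (unitaryTransvection n 2 w (1 : F)).det = 1 := by
  unfold unitaryTransvection
  rw [one_smul, Matrix.vecMulVec_eq (ι := Unit), Matrix.det_one_add_replicateCol_mul_replicateRow,
    herm_eq_dot, hw, add_zero]

/-- the unitary transvection along an isotropic vector as an element of `GL`. -/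
noncomputable def T (two : (1 : F) + 1 = 0) (w : Fin n → F) (hw : hermForm n F 2 w w = 0) :
    GL (Fin n) F :=
  ⟨unitaryTransvection n 2 w 1, unitaryTransvection n 2 w 1, ut_sq n two w hw, ut_sq n two w hw⟩

variable [Fintype F]

theorem T_apply (two : (1 : F) + 1 = 0) (w : Fin n → F) (hw : hermForm n F 2 w w = 0)
    (x : Fin n → F) :
    ((T n two w hw : GL (Fin n) F) : Matrix (Fin n) (Fin n) F) *ᵥ x
      = x + hermForm n F 2 x w • w := by
  show unitaryTransvection n 2 w 1 *ᵥ x = _
  rw [unitaryTransvection_mulVec, one_mul]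

omit [Fintype F] in
theorem T_apply_apply (two : (1 : F) + 1 = 0) (w : Fin n → F) (hw : hermForm n F 2 w w = 0)
    (x : Fin n → F) :
    ((T n two w hw : GL (Fin n) F) : Matrix (Fin n) (Fin n) F) *ᵥ
      (((T n two w hw : GL (Fin n) F) : Matrix (Fin n) (Fin n) F) *ᵥ x) = x := by
  rw [Matrix.mulVec_mulVec]
  show (unitaryTransvection n 2 w 1 * unitaryTransvection n 2 w 1) *ᵥ x = x
  rw [ut_sq n two w hw, Matrix.one_mulVec]

theorem T_mem_GU (hF : Fintype.card F = 4) (w : Fin n → F) (hw : hermForm n F 2 w w = 0) :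
    T n (f4_two hF) w hw ∈ GU n F 2 := by
  have hF2 : Fintype.card F = 2 ^ 2 := by rw [hF]; norm_num
  intro x y
  show hermForm n F 2 (((T n (f4_two hF) w hw : GL (Fin n) F) : Matrix (Fin n) (Fin n) F) *ᵥ x)
    (((T n (f4_two hF) w hw : GL (Fin n) F) : Matrix (Fin n) (Fin n) F) *ᵥ y) = hermForm n F 2 x y
  rw [T_apply, T_apply]
  simp only [hermForm_add_left, hermForm_add_right n hF2, hermForm_smul_left, hermForm_smul_right,
    hw]
  rw [hermForm_conj n hF2 y w]
  linear_combination (hermForm n F 2 x w * hermForm n F 2 w y) * f4_two hF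

omit [Fintype F] in
theorem T_mem_SL (two : (1 : F) + 1 = 0) (w : Fin n → F) (hw : hermForm n F 2 w w = 0) :
    T n two w hw ∈ specialLinear (Fin n) F := by
  unfold specialLinear
  rw [MonoidHom.mem_ker, Units.ext_iff]
  exact ut_det n w hw

end Trans

section Frame

variable {F : Type*} [Field F] {n t : ℕ}

/-- the nonisotropic vectors lying in some member of the decomposition. -/
def frameSet (D : Fin t → Submodule F (Fin n → F)) : Set (Fin n → F) :=
  {v | ∃ i, v ∈ D i ∧ hermForm n F 2 v v ≠ 0}

/-- the matrices permuting the frame set. -/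
def frameStab (D : Fin t → Submodule F (Fin n → F)) : Subgroup (GL (Fin n) F) where
  carrier := {g | ∀ v, (g : Matrix (Fin n) (Fin n) F) *ᵥ v ∈ frameSet D ↔ v ∈ frameSet D}
  one_mem' := by
    intro v
    simp
  mul_mem' := by
    intro a b ha hb v
    rw [Units.val_mul, ← Matrix.mulVec_mulVec, ha, hb]
  inv_mem' := by
    intro a ha v
    rw [← ha (((a⁻¹ : GL (Fin n) F) : Matrix (Fin n) (Fin n) F) *ᵥ v), Matrix.mulVec_mulVec,
      ← Units.val_mul, mul_inv_cancel, Units.val_one, Matrix.one_mulVec]

theorem mem_frameStab (D : Fin t → Submodule F (Fin n → F)) (g : GL (Fin n) F) :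
    g ∈ frameStab D ↔ ∀ v, (g : Matrix (Fin n) (Fin n) F) *ᵥ v ∈ frameSet D ↔ v ∈ frameSet D :=
  Iff.rfl

end Frame

section Step

variable {F : Type*} [Field F] [Fintype F] {n t : ℕ}

theorem frame_step (hF : Fintype.card F = 4) (D : Fin t → Submodule F (Fin n → F))
    (iA iB : Fin t) (hAB : AreOrthogonalFor (hermForm n F 2) (D iA) (D iB))
    (e e' f w : Fin n → F) (hw : w = e + f) (he : e ∈ D iA) (he' : e' ∈ D iA) (hf : f ∈ D iB)
    (hee : hermForm n F 2 e e = 1) (he'e' : hermForm n F 2 e' e' = 1)
    (hee' : hermForm n F 2 e e' = 0) (he'e : hermForm n F 2 e' e = 0)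
    (hff : hermForm n F 2 f f = 1) (α β : F)
    (hne : hermForm n F 2 (α • e + β • e') (α • e + β • e') ≠ 0) :
    (α • e + β • e') + hermForm n F 2 (α • e + β • e') w • w ∈ frameSet D := by
  have hF2 : Fintype.card F = 2 ^ 2 := by rw [hF]; norm_num
  have two := f4_two hF
  have hchar : ∀ x : Fin n → F, x + x = 0 := by
    intro x
    have : x + x = ((1 : F) + 1) • x := by rw [add_smul, one_smul]
    rw [this, two, zero_smul]
  have hvv : hermForm n F 2 (α • e + β • e') (α • e + β • e') = α ^ 3 + β ^ 3 := by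
    simp only [hermForm_add_left, hermForm_add_right n hF2, hermForm_smul_left,
      hermForm_smul_right, hee, he'e', hee', he'e]
    ring
  have hvw : hermForm n F 2 (α • e + β • e') w = α := by
    subst hw
    simp only [hermForm_add_left, hermForm_add_right n hF2, hermForm_smul_left,
      hee, he'e, hAB e he f hf, hAB e' he' f hf]
    ring
  rw [hvw]
  rw [hvv] at hne
  by_cases hα : α = 0
  · subst hα
    have hβ : β ^ 3 ≠ 0 := by simpa using hne
    refine ⟨iA, ?_, ?_⟩
    · simp only [zero_smul, zero_add, add_zero]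
      exact (D iA).smul_mem β he'
    · simp only [zero_smul, zero_add, add_zero, hermForm_smul_left, hermForm_smul_right, he'e']
      intro h0
      apply hβ
      linear_combination h0
  · have hα3 : α ^ 3 = 1 := f4_cube hF α hα
    have hβ : β = 0 := by
      by_contra hβ
      apply hne
      rw [hα3, f4_cube hF β hβ]
      exact two
    subst hβ
    subst hw
    have hvec : α • e + (0 : F) • e' + α • (e + f) = α • f := by
      rw [zero_smul, add_zero, smul_add, ← add_assoc, hchar, zero_add]
    rw [hvec]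
    refine ⟨iB, (D iB).smul_mem α hf, ?_⟩
    rw [hermForm_smul_left, hermForm_smul_right, hff]
    intro h0
    have : α ^ 3 = 0 := by linear_combination h0
    rw [hα3] at this
    exact one_ne_zero this

end Step

theorem result {F : Type*} [Field F] [Fintype F] (n : ℕ) (hF : Fintype.card F = 4) (hn : 13 ≤ n) {t : ℕ} (D : Fin t → Submodule F (Fin n → F)) (hD : Cfsg.Geo.IsNondegenerateMDecomposition (Cfsg.hermForm n F 2) 2 D) : ∃ K : Subgroup (Matrix.GeneralLinearGroup (Fin n) F), Cfsg.Geo.decompositionStabilizer D ⊓ (Cfsg.GU n F 2 ⊓ Cfsg.Geo.specialLinear (Fin n) F) < K ∧ K < (Cfsg.GU n F 2 ⊓ Cfsg.Geo.specialLinear (Fin n) F) := by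
  have hF2 : Fintype.card F = 2 ^ 2 := by rw [hF]; norm_num
  have two := f4_two hF
  have hdec := hD.decomp
  have ht := hdec.two_le
  let i0 : Fin t := ⟨0, by omega⟩
  let i1 : Fin t := ⟨1, by omega⟩
  have h01 : i0 ≠ i1 := by simp [i0, i1, Fin.ext_iff]
  obtain ⟨e1, e2, he1, he2, h11, h22, h12, h21, hsp0⟩ :=
    exists_orthonormal n hF (D i0) (hdec.finrank_eq i0) (hD.nondegenerate i0)
  obtain ⟨e3, e4, he3, he4, h33, h44, h34, h43, hsp1⟩ :=
    exists_orthonormal n hF (D i1) (hdec.finrank_eq i1) (hD.nondegenerate i1)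
  have o01 := hD.orthogonal i0 i1 h01
  have o10 := hD.orthogonal i1 i0 h01.symm
  have hw1 : hermForm n F 2 (e1 + e3) (e1 + e3) = 0 := by
    simp only [hermForm_add_left, hermForm_add_right n hF2, h11, h33, o01 e1 he1 e3 he3,
      o10 e3 he3 e1 he1]
    linear_combination two
  have hw2 : hermForm n F 2 (e1 + e2 + e3 + e4) (e1 + e2 + e3 + e4) = 0 := by
    simp only [hermForm_add_left, hermForm_add_right n hF2, h11, h22, h33, h44, h12, h21, h34, h43,
      o01 e1 he1 e3 he3, o01 e1 he1 e4 he4, o01 e2 he2 e3 he3, o01 e2 he2 e4 he4,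
      o10 e3 he3 e1 he1, o10 e3 he3 e2 he2, o10 e4 he4 e1 he1, o10 e4 he4 e2 he2]
    linear_combination 2 * two
  refine ⟨frameStab D ⊓ (GU n F 2 ⊓ specialLinear (Fin n) F), ?_, ?_⟩
  · rw [SetLike.lt_iff_le_and_exists]
    refine ⟨?_, T n two (e1 + e3) hw1, Subgroup.mem_inf.mpr ⟨?_, Subgroup.mem_inf.mpr
      ⟨T_mem_GU n hF _ hw1, T_mem_SL n two _ hw1⟩⟩, ?_⟩
    · -- Stab ⊓ SU ≤ K
      intro g hg
      obtain ⟨hst, hsu⟩ := Subgroup.mem_inf.mp hg
      obtain ⟨σ, hσ⟩ := hst
      have hgu : ∀ u v, hermForm n F 2 ((g : Matrix (Fin n) (Fin n) F) *ᵥ u)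
          ((g : Matrix (Fin n) (Fin n) F) *ᵥ v) = hermForm n F 2 u v := (Subgroup.mem_inf.mp hsu).1
      refine Subgroup.mem_inf.mpr ⟨?_, hsu⟩
      rw [mem_frameStab]
      intro v
      constructor
      · rintro ⟨j, hj, hne⟩
        have h1 := hσ (σ.symm j)
        rw [Equiv.apply_symm_apply] at h1
        rw [← h1] at hj
        obtain ⟨v', hv', hv'eq⟩ := hj
        rw [Matrix.toLin'_apply] at hv'eq
        have hinj : v' = v := by
          have := congrArg (fun x => ((g⁻¹ : GL (Fin n) F) : Matrix (Fin n) (Fin n) F) *ᵥ x) hv'eq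
          simpa [Matrix.mulVec_mulVec, ← Units.val_mul] using this
        rw [hinj] at hv'
        exact ⟨σ.symm j, hv', by rwa [hgu] at hne⟩
      · rintro ⟨i, hi, hne⟩
        refine ⟨σ i, ?_, by rwa [hgu]⟩
        rw [← hσ i]
        exact ⟨v, hi, by simp [Matrix.toLin'_apply]⟩
    · -- E1 ∈ frameStab
      rw [mem_frameStab]
      have P : ∀ v ∈ frameSet D,
          ((T n two (e1 + e3) hw1 : GL (Fin n) F) : Matrix (Fin n) (Fin n) F) *ᵥ v ∈ frameSet D := by
        rintro v ⟨i, hi, hne⟩
        rw [T_apply]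
        by_cases hi0 : i = i0
        · rw [hi0] at hi
          obtain ⟨α, β, rfl⟩ := hsp0 v hi
          exact frame_step hF D i0 i1 o01 e1 e2 e3 _ rfl he1 he2 he3 h11 h22 h12 h21 h33 α β hne
        · by_cases hi1 : i = i1
          · rw [hi1] at hi
            obtain ⟨α, β, rfl⟩ := hsp1 v hi
            exact frame_step hF D i1 i0 o10 e3 e4 e1 _ (add_comm _ _) he3 he4 he1 h33 h44 h34 h43
              h11 α β hne
          · have : hermForm n F 2 v (e1 + e3) = 0 := by
              rw [hermForm_add_right n hF2, hD.orthogonal i i0 hi0 v hi e1 he1,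
                hD.orthogonal i i1 hi1 v hi e3 he3, add_zero]
            rw [this, zero_smul, add_zero]
            exact ⟨i, hi, hne⟩
      intro v
      constructor
      · intro h
        have := P _ h
        rwa [T_apply_apply] at this
      · exact P v
    · -- E1 ∉ Stab
      intro h
      obtain ⟨σ, hσ⟩ := (Subgroup.mem_inf.mp h).1
      have hy1 : ((T n two (e1 + e3) hw1 : GL (Fin n) F) : Matrix (Fin n) (Fin n) F) *ᵥ e1
          ∈ D (σ i0) := by
        rw [← hσ i0]
        exact ⟨e1, he1, by simp [Matrix.toLin'_apply]⟩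
      have hy2 : ((T n two (e1 + e3) hw1 : GL (Fin n) F) : Matrix (Fin n) (Fin n) F) *ᵥ e2
          ∈ D (σ i0) := by
        rw [← hσ i0]
        exact ⟨e2, he2, by simp [Matrix.toLin'_apply]⟩
      rw [T_apply] at hy1 hy2
      have hs : σ i0 = i1 := by
        by_contra hne
        have := hD.orthogonal (σ i0) i1 hne _ hy1 e3 he3
        simp only [hermForm_add_left, hermForm_add_right n hF2, hermForm_smul_left, h11, h33,
          o01 e1 he1 e3 he3] at this
        have h10 : (1 : F) = 0 := by linear_combination this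
        exact one_ne_zero h10
      rw [hs] at hy2
      have h2w : hermForm n F 2 e2 (e1 + e3) = 0 := by
        rw [hermForm_add_right n hF2, h21, o01 e2 he2 e3 he3, add_zero]
      rw [h2w, zero_smul, add_zero] at hy2
      have := o01 e2 he2 e2 hy2
      rw [h22] at this
      exact one_ne_zero this
  · rw [SetLike.lt_iff_le_and_exists]
    refine ⟨inf_le_right, T n two (e1 + e2 + e3 + e4) hw2, Subgroup.mem_inf.mpr
      ⟨T_mem_GU n hF _ hw2, T_mem_SL n two _ hw2⟩, ?_⟩
    intro h
    have hfs := (Subgroup.mem_inf.mp h).1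
    rw [mem_frameStab] at hfs
    have hmem := (hfs e1).mpr ⟨i0, he1, by rw [h11]; exact one_ne_zero⟩
    rw [T_apply] at hmem
    have h1w : hermForm n F 2 e1 (e1 + e2 + e3 + e4) = 1 := by
      simp only [hermForm_add_right n hF2, h11, h12, o01 e1 he1 e3 he3, o01 e1 he1 e4 he4]
      ring
    rw [h1w, one_smul] at hmem
    obtain ⟨j, hj, -⟩ := hmem
    have hj0 : j = i0 := by
      by_contra hne
      have := hD.orthogonal j i0 hne _ hj e2 he2
      simp only [hermForm_add_left, h12, h22, o10 e3 he3 e2 he2, o10 e4 he4 e2 he2] at this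
      have h10 : (1 : F) = 0 := by linear_combination this
      exact one_ne_zero h10
    have hj1 : j = i1 := by
      by_contra hne
      have := hD.orthogonal j i1 hne _ hj e3 he3
      simp only [hermForm_add_left, h33, h43, o01 e1 he1 e3 he3, o01 e2 he2 e3 he3] at this
      have h10 : (1 : F) = 0 := by linear_combination this
      exact one_ne_zero h10
    exact h01 (hj0.symm.trans hj1)

end Cfsg.Agent.S5656
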