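import Cfsg.Statements.S5665
import Cfsg.Agent.Lib.H25.GsMain
import Cfsg.Agent.Lib.H20.GsSA
import Cfsg.Agent.Lib.H3.GsSB1
import Cfsg.Agent.Lib.H3.GsSB2
import Cfsg.Agent.Lib.H22.GsSE
import Cfsg.Agent.Lib.H18.GsSF1
import Cfsg.Agent.Lib.H18.GsSF3
import Cfsg.Agent.Lib.H29.GsSF2

set_option autoImplicit false
open Cfsg

namespace Cfsg.Agent.S5665

/-- For a finite field F of odd order and m ≥ 7, let K be a subfield of the algebra of 2m × 2m matrices over F containing the scalars, of degree 2 over F, that is closed under adjoints for the standard alternating form on F^(2m) but whose elements are not all self-adjoint (so the adjoint map induces the automorphism of order two of K). Then the elements of Sp_2m(F) normalising K form a maximal subgroup of Sp_2m(F). -/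
theorem result {F : Type*} [Field F] [Fintype F] (m : ℕ) (hm : 7 ≤ m) (hodd : Odd (Fintype.card F)) (K : Subalgebra F (Matrix (Fin m ⊕ Fin m) (Fin m ⊕ Fin m) F)) (hK : Cfsg.Geo.IsFieldSubalgebra 2 K) (hac : Cfsg.Geo.IsAdjointClosedFor (Cfsg.sympForm m F) K) (hnsa : ¬ Cfsg.Geo.IsSelfAdjointFor (Cfsg.sympForm m F) K) : Cfsg.Geo.IsMaximalIn (Cfsg.spGL m F) (Cfsg.Geo.subalgebraNormalizer K ⊓ Cfsg.spGL m F) := by
  obtain ⟨J, d, hJK, hKJ, S⟩ := Cfsg.Agent.Lib.H20.Gs.exists_SJ hm hodd K hK hac hnsa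
  exact Cfsg.Agent.Lib.H25.Gs.maximal_of K S (Cfsg.Agent.Lib.H3.Gs.geoS_of_SJ S)
    (fun J' h => Cfsg.Agent.Lib.H3.Gs.exists_bad_s S J' h)
    (fun H hH hU z hz hzs hzH =>
      Cfsg.Agent.Lib.H22.Gs.scl_all S (Cfsg.Agent.Lib.H3.Gs.geoS_of_SJ S) hH hU hz hzs hzH)
    (fun w hw c => Cfsg.Agent.Lib.H18.Gs.utv_mem S K hKJ hw c)
    (fun H g hgH hg => Cfsg.Agent.Lib.H29.Gs.exists_conj_not_mem_s K hJK hKJ g hgH hg)
    (Cfsg.Agent.Lib.H18.Gs.not_sp_le_normalizer S K hJK hKJ)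

end Cfsg.Agent.S5665
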