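import Cfsg.Statements.S5667
import Cfsg.Agent.Lib.H29.SymmF3
import Cfsg.Agent.Lib.H4.Symp

set_option autoImplicit false
open Cfsg

namespace Cfsg.Agent.S5667

open Cfsg.Geo Matrix Cfsg.Agent.Lib.H4 Cfsg.Agent.Lib.H29.Orth Cfsg.Agent.Lib.H29.Tensor
  Cfsg.Agent.Lib.H29.SymmF3

section SpT

variable {F : Type*} [Field F] {m : ℕ}

theorem sympTransvection_zero (w : Fin m ⊕ Fin m → F) : sympTransvection m w (0 : F) = 1 := by
  simp [sympTransvection]

/-- the transvection `x ↦ x + c f(x, w) w` as an element of `GL`. -/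
noncomputable def Tc (w : Fin m ⊕ Fin m → F) (c : F) : GL (Fin m ⊕ Fin m) F :=
  ⟨sympTransvection m w c, sympTransvection m w (-c),
    by rw [sympTransvection_mul, add_neg_cancel, sympTransvection_zero],
    by rw [sympTransvection_mul, neg_add_cancel, sympTransvection_zero]⟩

theorem Tc_apply (w : Fin m ⊕ Fin m → F) (c : F) (x : Fin m ⊕ Fin m → F) :
    ((Tc w c : GL (Fin m ⊕ Fin m) F) : Matrix _ _ F) *ᵥ x = x + (c * sympForm m F x w) • w := by
  show sympTransvection m w c *ᵥ x = _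
  rw [sympTransvection_mulVec]

theorem Tc_inv (w : Fin m ⊕ Fin m → F) (c : F) : (Tc w c)⁻¹ = Tc w (-c) := by
  apply Units.ext
  show sympTransvection m w (-c) = sympTransvection m w (-c)
  rfl

theorem Tc_mem_spGL (w : Fin m ⊕ Fin m → F) (c : F) : Tc w c ∈ spGL m F := by
  intro u v
  exact (mem_symplecticGroup_iff_sympForm m _).mp (sympTransvection_mem m w c) u v

end SpT

/-- Over the field with 3 elements and for m ≥ 7, suppose the standard alternating form on F^(2m) is similar, through P and e, to the tensor product of a non-degenerate symplectic form f₁ on F^(n₁) and a non-degenerate symmetric bilinear form f₂ on F^3. Then the elements of Sp_2m(3) in the stabiliser of this tensor decomposition form a subgroup that is not maximal: some subgroup lies strictly between it and Sp_2m(3). -/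
theorem result {F : Type*} [Field F] [Fintype F] (m : ℕ) (hm : 7 ≤ m) (hq : Fintype.card F = 3) (n₁ : ℕ) (e : (Fin m ⊕ Fin m) ≃ Fin n₁ × Fin 3) (P : Matrix.GeneralLinearGroup (Fin m ⊕ Fin m) F) (f₁ : (Fin n₁ → F) → (Fin n₁ → F) → F) (f₂ : (Fin 3 → F) → (Fin 3 → F) → F) (hf₁ : Cfsg.Geo.IsSymplecticForm f₁) (hf₂ : Cfsg.Geo.IsSymmetricForm f₂) (hT : Cfsg.Geo.IsTensorFormStructure id (Cfsg.sympForm m F) f₁ f₂ e P) : ∃ K : Subgroup (Matrix.GeneralLinearGroup (Fin m ⊕ Fin m) F), Cfsg.Geo.tensorProductSubgroup n₁ 3 e P ⊓ Cfsg.spGL m F < K ∧ K < Cfsg.spGL m F := by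
  classical
  have h3 := f3_three (F := F) hq
  have h2 := f3_two_ne (F := F) hq
  obtain ⟨c, hc, hT⟩ := hT
  have B1 := hf₁.bilinear
  have B2 := hf₂.bilinear
  have ht : ∀ (u u' : Fin n₁ → F) (z z' : Fin 3 → F),
      sympForm m F (tau e P u z) (tau e P u' z') = c * (f₁ u u' * f₂ z z') :=
    form_tau e P B1 B2 c hT
  -- dimension
  have hcard : 2 * m = n₁ * 3 := by
    have := Fintype.card_congr e
    simp only [Fintype.card_sum, Fintype.card_fin, Fintype.card_prod] at this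
    omega
  have hn₁ : 0 < n₁ := by omega
  -- a pair of vectors of `F^(n₁)` with non-zero product
  obtain ⟨u₁, u₂, hε⟩ : ∃ u₁ u₂ : Fin n₁ → F, f₁ u₁ u₂ ≠ 0 := by
    have hne : (Pi.single (⟨0, hn₁⟩ : Fin n₁) (1 : F) : Fin n₁ → F) ≠ 0 := by
      intro h
      have := congrFun h ⟨0, hn₁⟩
      simp at this
    obtain ⟨-, ⟨x, hx⟩⟩ := hf₁.nondegenerate _ hne
    exact ⟨_, x, hx⟩
  set ε := f₁ u₁ u₂ with hεdef
  have h21 : f₁ u₂ u₁ = -ε := by rw [hf₁.skew u₂ u₁]
  have h11 : f₁ u₁ u₁ = 0 := hf₁.alternating u₁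
  have h22 : f₁ u₂ u₂ = 0 := hf₁.alternating u₂
  -- the frame of `F^3`
  obtain ⟨b, d, hd, hbo, hbQ, hbS⟩ := exists_frame_three hq f₂ hf₂
  have b01 : f₂ (b 0) (b 1) = 0 := hbo 0 1 (by decide)
  have b10 : f₂ (b 1) (b 0) = 0 := hbo 1 0 (by decide)
  set S : Set (Fin m ⊕ Fin m → F) := {v | ∃ u j, v = tau e P u (b j)} with hSdef
  -- transvections along frame tensors stabilise `S`
  have hTS : ∀ u₀ j₀ (α : F), Tc (tau e P u₀ (b j₀)) α ∈ setStab S := by
    intro u₀ j₀ α
    have key : ∀ (α : F), ∀ v ∈ S,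
        ((Tc (tau e P u₀ (b j₀)) α : GL (Fin m ⊕ Fin m) F) : Matrix _ _ F) *ᵥ v ∈ S := by
      rintro α v ⟨u, j, rfl⟩
      rw [Tc_apply, ht]
      by_cases hj : j = j₀
      · subst hj
        refine ⟨u + (α * (c * (f₁ u u₀ * f₂ (b j) (b j)))) • u₀, j, ?_⟩
        rw [tau_add_left, tau_smul_left]
      · rw [hbo j j₀ hj, mul_zero, mul_zero, mul_zero, zero_smul, add_zero]
        exact ⟨u, j, rfl⟩
    apply mem_setStab_of S _ (key α)
    rw [Tc_inv]
    exact key (-α)
  refine ⟨setStab S ⊓ spGL m F, ?_, ?_⟩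
  · rw [SetLike.lt_iff_le_and_exists]
    refine ⟨?_, ?_⟩
    · refine le_inf (le_setStab S _ ?_) inf_le_right
      rintro g hg v ⟨u, j, rfl⟩
      obtain ⟨hgT, hgSp⟩ := Subgroup.mem_inf.mp hg
      have hgu : ∀ x y, sympForm m F ((g : Matrix _ _ F) *ᵥ x) ((g : Matrix _ _ F) *ᵥ y)
          = sympForm m F x y := hgSp
      obtain ⟨A, B, hAB⟩ := tensor_apply e P g hgT
      have hinv : ∀ (u u' : Fin n₁ → F) (z z' : Fin 3 → F),
          f₁ ((A : Matrix (Fin n₁) (Fin n₁) F) *ᵥ u) ((A : Matrix (Fin n₁) (Fin n₁) F) *ᵥ u')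
            * f₂ ((B : Matrix (Fin 3) (Fin 3) F) *ᵥ z) ((B : Matrix (Fin 3) (Fin 3) F) *ᵥ z')
          = f₁ u u' * f₂ z z' := by
        intro u u' z z'
        have := hgu (tau e P u z) (tau e P u' z')
        rw [hAB, hAB, ht, ht] at this
        exact mul_left_cancel₀ hc this
      set μ := f₁ ((A : Matrix (Fin n₁) (Fin n₁) F) *ᵥ u₁) ((A : Matrix (Fin n₁) (Fin n₁) F) *ᵥ u₂)
        with hμ
      have hμ0 : μ ≠ 0 := by
        intro h0
        have := hinv u₁ u₂ (b 0) (b 0)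
        rw [← hμ, h0, zero_mul, hbQ] at this
        exact mul_ne_zero hε hd this.symm
      have hsim : ∀ z z', f₂ ((B : Matrix (Fin 3) (Fin 3) F) *ᵥ z)
          ((B : Matrix (Fin 3) (Fin 3) F) *ᵥ z') = (ε * μ⁻¹) * f₂ z z' := by
        intro z z'
        have := hinv u₁ u₂ z z'
        rw [← hμ] at this
        field_simp
        linear_combination this
      have hlam := similitude_three hq f₂ hf₂ B _ hsim
      have hBb : f₂ ((B : Matrix (Fin 3) (Fin 3) F) *ᵥ b j) ((B : Matrix (Fin 3) (Fin 3) F) *ᵥ b j)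
          = d := by
        rw [hsim, hlam, one_mul, hbQ]
      obtain ⟨a, ha | ha⟩ := hbS _ hBb
      · exact ⟨_, a, by rw [hAB, ha]⟩
      · refine ⟨-((A : Matrix (Fin n₁) (Fin n₁) F) *ᵥ u), a, ?_⟩
        rw [hAB, ha, tau_neg_left, tau_neg_right]
    · refine ⟨Tc (tau e P u₁ (b 0)) 1,
        Subgroup.mem_inf.mpr ⟨hTS u₁ 0 1, Tc_mem_spGL _ _⟩, ?_⟩
      intro hcon
      obtain ⟨A, B, hAB⟩ := tensor_apply e P _ (Subgroup.mem_inf.mp hcon).1
      have fix1 : ∀ u, ((Tc (tau e P u₁ (b 0)) 1 : GL (Fin m ⊕ Fin m) F) : Matrix _ _ F) *ᵥ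
          tau e P u (b 1) = tau e P u (b 1) := by
        intro u
        rw [Tc_apply, ht, b10, mul_zero, mul_zero, mul_zero, zero_smul, add_zero]
      have mv : ((Tc (tau e P u₁ (b 0)) 1 : GL (Fin m ⊕ Fin m) F) : Matrix _ _ F) *ᵥ
          tau e P u₂ (b 0) = tau e P u₂ (b 0) + (c * (-ε * d)) • tau e P u₁ (b 0) := by
        rw [Tc_apply, ht, h21, hbQ, one_mul]
      set β := f₂ ((B : Matrix (Fin 3) (Fin 3) F) *ᵥ b 1) (b 1) with hβ
      have Ei : ∀ u u', f₁ ((A : Matrix (Fin n₁) (Fin n₁) F) *ᵥ u) u' * β = f₁ u u' * d := by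
        intro u u'
        have := congrArg (fun v => sympForm m F v (tau e P u' (b 1))) (fix1 u)
        simp only [hAB, ht, hbQ] at this
        exact mul_left_cancel₀ hc this
      have hβ0 : β ≠ 0 := by
        intro h0
        have := Ei u₁ u₂
        rw [h0, mul_zero] at this
        exact mul_ne_zero hε hd this.symm
      have hA22 : f₁ ((A : Matrix (Fin n₁) (Fin n₁) F) *ᵥ u₂) u₂ = 0 := by
        have := Ei u₂ u₂
        rw [h22, zero_mul] at this
        rcases mul_eq_zero.mp this with h | h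
        · exact h
        · exact absurd h hβ0
      have := congrArg (fun v => sympForm m F v (tau e P u₂ (b 0))) mv
      simp only [hAB, ht, hA22, sympForm_add_left, sympForm_smul_left, h22, hbQ] at this
      have hne : c * (-ε * d) * (c * (ε * d)) ≠ 0 :=
        mul_ne_zero (mul_ne_zero hc (mul_ne_zero (neg_ne_zero.mpr hε) hd))
          (mul_ne_zero hc (mul_ne_zero hε hd))
      apply hne
      linear_combination -this
  · rw [SetLike.lt_iff_le_and_exists]
    refine ⟨inf_le_right, Tc (tau e P u₁ (b 0 + b 1)) 1, Tc_mem_spGL _ _, ?_⟩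
    intro hcon
    have hst := (Subgroup.mem_inf.mp hcon).1
    have hvS : tau e P u₂ (b 0) ∈ S := ⟨u₂, 0, rfl⟩
    have himg := mulVec_mem_of_mem_setStab hst hvS
    rw [Tc_apply, ht, h21, one_mul] at himg
    have e0 : f₂ (b 0) (b 0 + b 1) = d := by rw [B2.add_right, hbQ, b01, add_zero]
    rw [e0] at himg
    obtain ⟨u, j, hj⟩ := himg
    have p1 := congrArg (fun v => sympForm m F v (tau e P u₂ (b 1))) hj
    have p0 := congrArg (fun v => sympForm m F v (tau e P u₂ (b 0))) hj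
    simp only [sympForm_add_left, sympForm_smul_left, ht, h22, B2.add_left, hbQ, b01, b10]
      at p0 p1
    have hρ : c * (-ε * d) * (c * (ε * d)) ≠ 0 :=
      mul_ne_zero (mul_ne_zero hc (mul_ne_zero (neg_ne_zero.mpr hε) hd))
        (mul_ne_zero hc (mul_ne_zero hε hd))
    have hj1 : j = 1 := by
      by_contra hne
      rw [hbo j 1 hne] at p1
      apply hρ
      linear_combination p1
    have hj0 : j = 0 := by
      by_contra hne
      rw [hbo j 0 hne] at p0
      apply hρ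
      linear_combination p0
    rw [hj0] at hj1
    exact absurd hj1 (by decide)

end Cfsg.Agent.S5667
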