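import Cfsg.Statements.S5671
import Cfsg.Agent.Lib.H29.HermF4
import Cfsg.Agent.S5656

set_option autoImplicit false
set_option linter.unusedSimpArgs false
set_option linter.unusedSectionVars false
open Cfsg

namespace Cfsg.Agent.S5671

open Cfsg.Agent.Lib.H4 Cfsg.Agent.Lib.H29.HermF4 Cfsg.Geo Matrix Kronecker

section Tensor

variable {F : Type*} [Field F] {n n₂ : ℕ}

/-- pure tensors in coordinates. -/
def pt (u : Fin 2 → F) (z : Fin n₂ → F) : Fin 2 × Fin n₂ → F := fun a => u a.1 * z a.2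

theorem pt_add_left (u u' : Fin 2 → F) (z : Fin n₂ → F) : pt (u + u') z = pt u z + pt u' z := by
  ext a; simp [pt, add_mul]

theorem pt_add_right (u : Fin 2 → F) (z z' : Fin n₂ → F) : pt u (z + z') = pt u z + pt u z' := by
  ext a; simp [pt, mul_add]

theorem pt_smul_left (c : F) (u : Fin 2 → F) (z : Fin n₂ → F) : pt (c • u) z = c • pt u z := by
  ext a; simp [pt, mul_assoc]

theorem pt_smul_right (c : F) (u : Fin 2 → F) (z : Fin n₂ → F) : pt u (c • z) = c • pt u z := by
  ext a; simp [pt, mul_left_comm]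

theorem kron_pt (A : Matrix (Fin 2) (Fin 2) F) (B : Matrix (Fin n₂) (Fin n₂) F) (u : Fin 2 → F)
    (z : Fin n₂ → F) : (A ⊗ₖ B) *ᵥ pt u z = pt (A *ᵥ u) (B *ᵥ z) := by
  ext ⟨a, k⟩
  simp only [Matrix.mulVec, dotProduct, pt, kroneckerMap_apply, Fintype.sum_prod_type,
    Finset.sum_mul_sum]
  refine Finset.sum_congr rfl fun b _ => Finset.sum_congr rfl fun l _ => ?_
  ring

variable (e : Fin n ≃ Fin 2 × Fin n₂) (P : GL (Fin n) F)

/-- pure tensors transported to `F^n`. -/
def tau (u : Fin 2 → F) (z : Fin n₂ → F) : Fin n → F :=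
  (P : Matrix (Fin n) (Fin n) F) *ᵥ (pt u z ∘ e)

theorem tau_add_left (u u' : Fin 2 → F) (z : Fin n₂ → F) :
    tau e P (u + u') z = tau e P u z + tau e P u' z := by
  unfold tau
  rw [pt_add_left, ← Matrix.mulVec_add]
  rfl

theorem tau_add_right (u : Fin 2 → F) (z z' : Fin n₂ → F) :
    tau e P u (z + z') = tau e P u z + tau e P u z' := by
  unfold tau
  rw [pt_add_right, ← Matrix.mulVec_add]
  rfl

theorem tau_smul_left (c : F) (u : Fin 2 → F) (z : Fin n₂ → F) :
    tau e P (c • u) z = c • tau e P u z := by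
  unfold tau
  rw [pt_smul_left, ← Matrix.mulVec_smul]
  rfl

theorem tau_smul_right (c : F) (u : Fin 2 → F) (z : Fin n₂ → F) :
    tau e P u (c • z) = c • tau e P u z := by
  unfold tau
  rw [pt_smul_right, ← Matrix.mulVec_smul]
  rfl

/-- elements of the tensor product subgroup map pure tensors to pure tensors. -/
theorem tensor_apply (g : GL (Fin n) F) (hg : g ∈ tensorProductSubgroup 2 n₂ e P) :
    ∃ (A : Matrix (Fin 2) (Fin 2) F) (B : Matrix (Fin n₂) (Fin n₂) F), ∀ u z,
      (g : Matrix (Fin n) (Fin n) F) *ᵥ tau e P u z = tau e P (A *ᵥ u) (B *ᵥ z) := by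
  unfold tensorProductSubgroup at hg
  obtain ⟨g₁, hg₁, rfl⟩ := Subgroup.mem_map.mp hg
  obtain ⟨g₀, ⟨A, B, hAB⟩, rfl⟩ := Subgroup.mem_map.mp hg₁
  refine ⟨A, B, fun u z => ?_⟩
  have hval : ((glReindex (F := F) e.symm g₀ : GL (Fin n) F) : Matrix (Fin n) (Fin n) F)
      = ((A : Matrix (Fin 2) (Fin 2) F) ⊗ₖ (B : Matrix (Fin n₂) (Fin n₂) F)).submatrix e e := by
    show Matrix.reindexAlgEquiv F F e.symm (g₀ : Matrix _ _ F) = _
    rw [Matrix.coe_reindexAlgEquiv, hAB]
    rfl
  show ((MulAut.conj P (glReindex (F := F) e.symm g₀) : GL (Fin n) F) :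
    Matrix (Fin n) (Fin n) F) *ᵥ _ = _
  rw [MulAut.conj_apply, Units.val_mul, Units.val_mul, hval]
  unfold tau
  rw [Matrix.mulVec_mulVec, Matrix.mul_assoc, Matrix.mul_assoc, ← Units.val_mul, inv_mul_cancel,
    Units.val_one, Matrix.mul_one, ← Matrix.mulVec_mulVec, Matrix.submatrix_mulVec_equiv]
  congr 2
  have : (pt u z ∘ e) ∘ e.symm = pt u z := by
    ext a; simp
  rw [this, kron_pt]

end Tensor

section Gram

variable {F : Type*} [Field F] [Fintype F]

theorem form_eq_gram (hF : Fintype.card F = 4) {k : ℕ} {f : (Fin k → F) → (Fin k → F) → F}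
    (hf : IsHerm f) (x y : Fin k → F) :
    f x y = formOfGram (fun t : F => t ^ 2) (gramMatrix f) x y := by
  have hsum : ∀ x : Fin k → F, x = ∑ a, x a • (Pi.single a (1 : F) : Fin k → F) := by
    intro x
    ext b
    rw [Finset.sum_apply b Finset.univ (fun a => x a • (Pi.single a (1 : F) : Fin k → F))]
    simp [Pi.single_apply]
  have hx := hsum x
  have hy := hsum y
  conv_lhs => rw [hx, hy]
  rw [hf.sum_left]
  unfold formOfGram gramMatrix
  refine Finset.sum_congr rfl fun a _ => ?_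
  rw [hf.smul_left, hf.sum_right hF, Finset.mul_sum]
  refine Finset.sum_congr rfl fun b _ => ?_
  rw [hf.smul_right]
  ring

omit [Fintype F] in
theorem formOfGram_pt {n₂ : ℕ} (G₁ : Matrix (Fin 2) (Fin 2) F) (G₂ : Matrix (Fin n₂) (Fin n₂) F)
    (u u' : Fin 2 → F) (z z' : Fin n₂ → F) :
    formOfGram (fun t : F => t ^ 2) (G₁ ⊗ₖ G₂) (pt u z) (pt u' z')
      = formOfGram (fun t : F => t ^ 2) G₁ u u' * formOfGram (fun t : F => t ^ 2) G₂ z z' := by
  unfold formOfGram pt
  simp only [Fintype.sum_prod_type, kroneckerMap_apply, Finset.sum_mul_sum]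
  refine Finset.sum_congr rfl fun a _ => ?_
  refine Finset.sum_congr rfl fun b _ => ?_
  refine Finset.sum_congr rfl fun k _ => ?_
  refine Finset.sum_congr rfl fun l _ => ?_
  ring

end Gram

section SetStab

variable {F : Type*} [Field F] {n : ℕ}

/-- the matrices permuting a set of vectors. -/
def setStab (S : Set (Fin n → F)) : Subgroup (GL (Fin n) F) where
  carrier := {g | ∀ v, (g : Matrix (Fin n) (Fin n) F) *ᵥ v ∈ S ↔ v ∈ S}
  one_mem' := by
    intro v
    simp
  mul_mem' := by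
    intro a b ha hb v
    rw [Units.val_mul, ← Matrix.mulVec_mulVec, ha, hb]
  inv_mem' := by
    intro a ha v
    rw [← ha (((a⁻¹ : GL (Fin n) F) : Matrix (Fin n) (Fin n) F) *ᵥ v), Matrix.mulVec_mulVec,
      ← Units.val_mul, mul_inv_cancel, Units.val_one, Matrix.one_mulVec]

theorem mem_setStab (S : Set (Fin n → F)) (g : GL (Fin n) F) :
    g ∈ setStab S ↔ ∀ v, (g : Matrix (Fin n) (Fin n) F) *ᵥ v ∈ S ↔ v ∈ S := Iff.rfl

theorem le_setStab (S : Set (Fin n → F)) (G₀ : Subgroup (GL (Fin n) F))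
    (hG : ∀ g ∈ G₀, ∀ v ∈ S, (g : Matrix (Fin n) (Fin n) F) *ᵥ v ∈ S) : G₀ ≤ setStab S := by
  intro g hg
  rw [mem_setStab]
  intro v
  constructor
  · intro h
    have := hG g⁻¹ (G₀.inv_mem hg) _ h
    rwa [Matrix.mulVec_mulVec, ← Units.val_mul, inv_mul_cancel, Units.val_one,
      Matrix.one_mulVec] at this
  · exact hG g hg v

end SetStab

section Main

variable {F : Type*} [Field F] [Fintype F] {n n₂ : ℕ}

theorem h_tau (hF : Fintype.card F = 4) (e : Fin n ≃ Fin 2 × Fin n₂) (P : GL (Fin n) F)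
    {f₁ : (Fin 2 → F) → (Fin 2 → F) → F} {f₂ : (Fin n₂ → F) → (Fin n₂ → F) → F}
    (h1 : IsHerm f₁) (h2 : IsHerm f₂) (c : F)
    (hT : ∀ x y : Fin 2 × Fin n₂ → F,
      hermForm n F 2 ((P : Matrix (Fin n) (Fin n) F) *ᵥ (x ∘ e))
        ((P : Matrix (Fin n) (Fin n) F) *ᵥ (y ∘ e)) =
      c * formOfGram (fun t : F => t ^ 2) (gramMatrix f₁ ⊗ₖ gramMatrix f₂) x y)
    (u u' : Fin 2 → F) (z z' : Fin n₂ → F) :
    hermForm n F 2 (tau e P u z) (tau e P u' z') = c * (f₁ u u' * f₂ z z') := by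
  unfold tau
  rw [hT, formOfGram_pt, ← form_eq_gram hF h1, ← form_eq_gram hF h2]

end Main

theorem result {F : Type*} [Field F] [Fintype F] (n : ℕ) (hF : Fintype.card F = 4) (hn : 13 ≤ n) (n₂ : ℕ) (e : Fin n ≃ Fin 2 × Fin n₂) (P : Matrix.GeneralLinearGroup (Fin n) F) (f₁ : (Fin 2 → F) → (Fin 2 → F) → F) (f₂ : (Fin n₂ → F) → (Fin n₂ → F) → F) (hf₁ : Cfsg.Geo.IsUnitaryFormPow 2 f₁) (hf₂ : Cfsg.Geo.IsUnitaryFormPow 2 f₂) (hT : Cfsg.Geo.IsTensorFormStructure (fun x : F => x ^ 2) (Cfsg.hermForm n F 2) f₁ f₂ e P) : ∃ K : Subgroup (Matrix.GeneralLinearGroup (Fin n) F), Cfsg.Geo.tensorProductSubgroup 2 n₂ e P ⊓ (Cfsg.GU n F 2 ⊓ Cfsg.Geo.specialLinear (Fin n) F) < K ∧ K < (Cfsg.GU n F 2 ⊓ Cfsg.Geo.specialLinear (Fin n) F) := by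
  classical
  have two := f4_two hF
  have hcard : n = 2 * n₂ := by
    have := Fintype.card_congr e
    simpa using this
  have hn₂ : 7 ≤ n₂ := by omega
  obtain ⟨c, hc, hT⟩ := hT
  have hh := isHerm_hermForm hF n
  have h1 := isHerm_of_unitary hf₁
  have h2 := isHerm_of_unitary hf₂
  have nd1 : ∀ v : Fin 2 → F, v ≠ 0 → ∃ x, f₁ x v ≠ 0 := fun v hv => (hf₁.nondegenerate v hv).1
  have nd2 : ∀ v : Fin n₂ → F, v ≠ 0 → ∃ x, f₂ x v ≠ 0 := fun v hv => (hf₂.nondegenerate v hv).1
  have nd2' : ∀ v : Fin n₂ → F, (∀ x, f₂ v x = 0) → v = 0 := by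
    intro v hv
    by_contra h0
    obtain ⟨x, hx⟩ := (hf₂.nondegenerate v h0).2
    exact hx (hv x)
  have hchar : ∀ x : Fin n₂ → F, x + x = 0 := by
    intro x
    have : x + x = ((1 : F) + 1) • x := by rw [add_smul, one_smul]
    rw [this, two, zero_smul]
  have hcharn : ∀ x : Fin n → F, x + x = 0 := by
    intro x
    have : x + x = ((1 : F) + 1) • x := by rw [add_smul, one_smul]
    rw [this, two, zero_smul]
  -- orthonormal basis of `F²`
  obtain ⟨u1, hu11, -, -⟩ := h1.exists_orthonormal_next hF nd1 (fun i : Fin 0 => i.elim0)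
    (fun i => i.elim0) (by simp)
  obtain ⟨u2, hu22, hu21, hu12⟩ := h1.exists_orthonormal_next hF nd1 (fun _ : Fin 1 => u1)
    (by intro i j; simp [Subsingleton.elim i j, hu11]) (by simp)
  have hu21 : f₁ u2 u1 = 0 := hu21 0
  have hu12 : f₁ u1 u2 = 0 := hu12 0
  have hspan : ∀ u : Fin 2 → F, ∃ α β : F, u = α • u1 + β • u2 := by
    intro u
    have hind : ∀ s t : F, s • u1 + t • u2 = 0 → s = 0 ∧ t = 0 := by
      intro s t hst
      have e1 : f₁ (s • u1 + t • u2) u1 = s := by
        rw [h1.add_left, h1.smul_left, h1.smul_left, hu11, hu21]; ring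
      have e2 : f₁ (s • u1 + t • u2) u2 = t := by
        rw [h1.add_left, h1.smul_left, h1.smul_left, hu12, hu22]; ring
      rw [hst, h1.zero_left] at e1 e2
      exact ⟨e1.symm, e2.symm⟩
    have htop : Module.finrank F (⊤ : Submodule F (Fin 2 → F)) = 2 := by
      rw [finrank_top, Module.finrank_fintype_fun_eq_card, Fintype.card_fin]
    exact Cfsg.Agent.S5656.span_pair ⊤ htop u1 u2 trivial trivial hind u trivial
  -- orthonormal triple in `F^{n₂}`
  obtain ⟨z1, hz11, -, -⟩ := h2.exists_orthonormal_next hF nd2 (fun i : Fin 0 => i.elim0)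
    (fun i => i.elim0) (by simp; omega)
  obtain ⟨z2, hz22, hz21, hz12⟩ := h2.exists_orthonormal_next hF nd2 (fun _ : Fin 1 => z1)
    (by intro i j; simp [Subsingleton.elim i j, hz11]) (by simp; omega)
  have hz21 : f₂ z2 z1 = 0 := hz21 0
  have hz12 : f₂ z1 z2 = 0 := hz12 0
  obtain ⟨z3, hz33, hz3, hz3'⟩ := h2.exists_orthonormal_next hF nd2 ![z1, z2]
    (by
      intro i j
      fin_cases i <;> fin_cases j <;> simp [hz11, hz22, hz12, hz21]) (by simp; omega)
  have hz31 : f₂ z3 z1 = 0 := hz3 0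
  have hz32 : f₂ z3 z2 = 0 := hz3 1
  have hz13 : f₂ z1 z3 = 0 := hz3' 0
  have hz23 : f₂ z2 z3 = 0 := hz3' 1
  -- the key formula
  have ht : ∀ (u u' : Fin 2 → F) (z z' : Fin n₂ → F),
      hermForm n F 2 (tau e P u z) (tau e P u' z') = c * (f₁ u u' * f₂ z z') :=
    h_tau hF e P h1 h2 c hT
  have hc1 : c = 1 := by
    have := ht u1 u1 z1 z1
    rw [hu11, hz11, mul_one, mul_one] at this
    rcases hh.self_cases (tau e P u1 z1) with h | h
    · rw [h] at this
      exact absurd this.symm hc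
    · rw [h] at this
      exact this.symm
  subst hc1
  simp only [one_mul] at ht
  -- the set of non-isotropic pure tensors
  set S : Set (Fin n → F) := {v | hermForm n F 2 v v ≠ 0 ∧ ∃ u z, v = tau e P u z} with hS
  -- characterisation
  have hC1 : ∀ v ∈ S, (∃ z, v = tau e P u1 z) ∨ (∃ z, v = tau e P u2 z) := by
    rintro v ⟨hv, u, z, rfl⟩
    obtain ⟨α, β, rfl⟩ := hspan u
    rw [ht] at hv
    have huu : f₁ (α • u1 + β • u2) (α • u1 + β • u2) = α ^ 3 + β ^ 3 := by
      simp only [h1.add_left, h1.add_right hF, h1.smul_left, h1.smul_right, hu11, hu22, hu12, hu21]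
      ring
    rw [huu] at hv
    by_cases hα : α = 0
    · right
      refine ⟨β • z, ?_⟩
      rw [hα, zero_smul, zero_add, tau_smul_left, tau_smul_right]
    · left
      have hβ : β = 0 := by
        by_contra hβ
        apply hv
        rw [f4_cube hF α hα, f4_cube hF β hβ, two, zero_mul]
      refine ⟨α • z, ?_⟩
      rw [hβ, zero_smul, add_zero, tau_smul_left, tau_smul_right]
  -- non-pure vectors
  have hNP : ∀ (za zb : Fin n₂ → F) (u' : Fin 2 → F) (z'' : Fin n₂ → F),
      tau e P u1 za + tau e P u2 zb = tau e P u' z'' →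
      za = f₁ u' u1 • z'' ∧ zb = f₁ u' u2 • z'' := by
    intro za zb u' z'' heq
    constructor
    · have h0 : za + f₁ u' u1 • z'' = 0 := by
        apply nd2'
        intro ζ
        have := congrArg (fun v => hermForm n F 2 v (tau e P u1 ζ)) heq
        simp only [hh.add_left, ht, hu11, hu21, one_mul, zero_mul, add_zero] at this
        rw [h2.add_left, h2.smul_left, this]
        linear_combination (f₁ u' u1 * f₂ z'' ζ) * two
      calc za = za + (f₁ u' u1 • z'' + f₁ u' u1 • z'') := by rw [hchar, add_zero]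
        _ = (za + f₁ u' u1 • z'') + f₁ u' u1 • z'' := by abel
        _ = f₁ u' u1 • z'' := by rw [h0, zero_add]
    · have h0 : zb + f₁ u' u2 • z'' = 0 := by
        apply nd2'
        intro ζ
        have := congrArg (fun v => hermForm n F 2 v (tau e P u2 ζ)) heq
        simp only [hh.add_left, ht, hu22, hu12, one_mul, zero_mul, zero_add] at this
        rw [h2.add_left, h2.smul_left, this]
        linear_combination (f₁ u' u2 * f₂ z'' ζ) * two
      calc zb = zb + (f₁ u' u2 • z'' + f₁ u' u2 • z'') := by rw [hchar, add_zero]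
        _ = (zb + f₁ u' u2 • z'') + f₁ u' u2 • z'' := by abel
        _ = f₁ u' u2 • z'' := by rw [h0, zero_add]
  -- the two transvections
  have hw1 : hermForm n F 2 (tau e P u1 (z1 + z2)) (tau e P u1 (z1 + z2)) = 0 := by
    rw [ht, hu11]
    simp only [h2.add_left, h2.add_right hF, hz11, hz22, hz12, hz21]
    linear_combination two
  have hw2 : hermForm n F 2 (tau e P (u1 + u2) z1) (tau e P (u1 + u2) z1) = 0 := by
    rw [ht, hz11]
    simp only [h1.add_left, h1.add_right hF, hu11, hu22, hu12, hu21]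
    linear_combination two
  refine ⟨setStab S ⊓ (GU n F 2 ⊓ specialLinear (Fin n) F), ?_, ?_⟩
  · rw [SetLike.lt_iff_le_and_exists]
    refine ⟨?_, Cfsg.Agent.S5656.T n two _ hw1, Subgroup.mem_inf.mpr ⟨?_, Subgroup.mem_inf.mpr
      ⟨Cfsg.Agent.S5656.T_mem_GU n hF _ hw1, Cfsg.Agent.S5656.T_mem_SL n two _ hw1⟩⟩, ?_⟩
    · -- T ⊓ SU ≤ K
      refine le_inf (le_setStab S _ ?_) inf_le_right
      rintro g hg v ⟨hv, u, z, rfl⟩
      obtain ⟨hgT, hgSU⟩ := Subgroup.mem_inf.mp hg
      have hgu : ∀ a b, hermForm n F 2 ((g : Matrix (Fin n) (Fin n) F) *ᵥ a)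
          ((g : Matrix (Fin n) (Fin n) F) *ᵥ b) = hermForm n F 2 a b :=
        (Subgroup.mem_inf.mp hgSU).1
      obtain ⟨A, B, hAB⟩ := tensor_apply e P g hgT
      refine ⟨?_, A *ᵥ u, B *ᵥ z, hAB u z⟩
      rwa [hgu]
    · -- E1 ∈ setStab S
      rw [mem_setStab]
      have hGU := Cfsg.Agent.S5656.T_mem_GU n hF _ hw1
      have hgu : ∀ a b, hermForm n F 2
          (((Cfsg.Agent.S5656.T n two _ hw1 : GL (Fin n) F) : Matrix (Fin n) (Fin n) F) *ᵥ a)
          (((Cfsg.Agent.S5656.T n two _ hw1 : GL (Fin n) F) : Matrix (Fin n) (Fin n) F) *ᵥ b)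
          = hermForm n F 2 a b := hGU
      have Pst : ∀ v ∈ S,
          ((Cfsg.Agent.S5656.T n two _ hw1 : GL (Fin n) F) : Matrix (Fin n) (Fin n) F) *ᵥ v ∈ S := by
        intro v hvS
        have hv := hvS.1
        refine ⟨by rwa [hgu], ?_⟩
        rw [Cfsg.Agent.S5656.T_apply]
        rcases hC1 v hvS with ⟨z, rfl⟩ | ⟨z, rfl⟩
        · refine ⟨u1, z + hermForm n F 2 (tau e P u1 z) (tau e P u1 (z1 + z2)) • (z1 + z2), ?_⟩
          generalize hermForm n F 2 (tau e P u1 z) (tau e P u1 (z1 + z2)) = cc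
          rw [tau_add_right e P u1 z, tau_smul_right]
        · refine ⟨u2, z, ?_⟩
          rw [ht, hu21, zero_mul, zero_smul, add_zero]
      intro v
      constructor
      · intro h
        have := Pst _ h
        rwa [Cfsg.Agent.S5656.T_apply_apply] at this
      · exact Pst v
    · -- E1 ∉ T
      intro h
      obtain ⟨A, B, hAB⟩ := tensor_apply e P _ (Subgroup.mem_inf.mp h).1
      have h3 := hAB (u1 + u2) z1
      rw [Cfsg.Agent.S5656.T_apply, ht] at h3
      have hl : f₁ (u1 + u2) u1 * f₂ z1 (z1 + z2) = 1 := by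
        rw [h1.add_left, h2.add_right hF, hu11, hu21, hz11, hz12]
        ring
      rw [hl, one_smul, tau_add_left, tau_add_right] at h3
      have h4 : tau e P u1 z2 + tau e P u2 z1 = tau e P (A *ᵥ (u1 + u2)) (B *ᵥ z1) := by
        rw [← h3]
        have := hcharn (tau e P u1 z1)
        calc tau e P u1 z2 + tau e P u2 z1
            = (tau e P u1 z1 + tau e P u1 z1) + (tau e P u1 z2 + tau e P u2 z1) := by
              rw [this, zero_add]
          _ = _ := by abel
      obtain ⟨ha, hb⟩ := hNP _ _ _ _ h4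
      set a := f₁ (A *ᵥ (u1 + u2)) u1 with hadef
      set b := f₁ (A *ᵥ (u1 + u2)) u2 with hbdef
      set z'' := B *ᵥ z1 with hz''
      have e11 : f₂ z1 z1 = b ^ 3 * f₂ z'' z'' := by
        rw [hb, h2.smul_left, h2.smul_right]; ring
      have e22 : f₂ z2 z2 = a ^ 3 * f₂ z'' z'' := by
        rw [ha, h2.smul_left, h2.smul_right]; ring
      have e21 : f₂ z2 z1 = a * b ^ 2 * f₂ z'' z'' := by
        rw [ha, hb, h2.smul_left, h2.smul_right]; ring
      rw [hz11] at e11
      rw [hz22] at e22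
      rw [hz21] at e21
      have hb0 : b ≠ 0 := by
        intro h0
        rw [h0] at e11
        simp at e11
      have ha0 : a ≠ 0 := by
        intro h0
        rw [h0] at e22
        simp at e22
      have hf0 : f₂ z'' z'' ≠ 0 := by
        intro h0
        rw [h0] at e11
        simp at e11
      have := mul_ne_zero (mul_ne_zero ha0 (pow_ne_zero 2 hb0)) hf0
      exact this e21.symm
  · rw [SetLike.lt_iff_le_and_exists]
    refine ⟨inf_le_right, Cfsg.Agent.S5656.T n two _ hw2, Subgroup.mem_inf.mpr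
      ⟨Cfsg.Agent.S5656.T_mem_GU n hF _ hw2, Cfsg.Agent.S5656.T_mem_SL n two _ hw2⟩, ?_⟩
    intro h
    have hfs := (Subgroup.mem_inf.mp h).1
    rw [mem_setStab] at hfs
    have hvS : tau e P u1 (z1 + (z2 + z3)) ∈ S := by
      refine ⟨?_, u1, _, rfl⟩
      rw [ht, hu11]
      simp only [h2.add_left, h2.add_right hF, hz11, hz22, hz33, hz12, hz21, hz13, hz31, hz23, hz32]
      intro h0
      have : (1 : F) = 0 := by linear_combination h0 - two
      exact one_ne_zero this
    have hmem := (hfs _).mpr hvS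
    rw [Cfsg.Agent.S5656.T_apply, ht] at hmem
    have hl : f₁ u1 (u1 + u2) * f₂ (z1 + (z2 + z3)) z1 = 1 := by
      simp only [h1.add_right hF, h2.add_left, hu11, hu12, hz11, hz21, hz31]
      ring
    rw [hl, one_smul] at hmem
    obtain ⟨-, u', z'', heq⟩ := hmem
    have h4 : tau e P u1 (z2 + z3) + tau e P u2 z1 = tau e P u' z'' := by
      rw [← heq, tau_add_right e P u1 z1, tau_add_left e P u1 u2]
      have := hcharn (tau e P u1 z1)
      calc tau e P u1 (z2 + z3) + tau e P u2 z1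
          = (tau e P u1 z1 + tau e P u1 z1) + (tau e P u1 (z2 + z3) + tau e P u2 z1) := by
            rw [this, zero_add]
        _ = _ := by abel
    obtain ⟨ha, hb⟩ := hNP _ _ _ _ h4
    set a := f₁ u' u1 with hadef
    set b := f₁ u' u2 with hbdef
    have e11 : f₂ z1 z1 = b ^ 3 * f₂ z'' z'' := by
      rw [hb, h2.smul_left, h2.smul_right]; ring
    have e21 : f₂ (z2 + z3) z1 = a * b ^ 2 * f₂ z'' z'' := by
      rw [ha, hb, h2.smul_left, h2.smul_right]; ring
    have e22 : f₂ (z2 + z3) z2 = a * f₂ z'' z2 := by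
      rw [ha, h2.smul_left]
    rw [hz11] at e11
    rw [h2.add_left, hz21, hz31, add_zero] at e21
    rw [h2.add_left, hz22, hz32, add_zero] at e22
    have hb0 : b ≠ 0 := by
      intro h0
      rw [h0] at e11
      simp at e11
    have hf0 : f₂ z'' z'' ≠ 0 := by
      intro h0
      rw [h0] at e11
      simp at e11
    have ha0 : a = 0 := by
      by_contra ha0
      exact (mul_ne_zero (mul_ne_zero ha0 (pow_ne_zero 2 hb0)) hf0) e21.symm
    rw [ha0, zero_mul] at e22
    exact one_ne_zero e22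

end Cfsg.Agent.S5671
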