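import Cfsg.Statements.S5675
import Mathlib
import Cfsg.Agent.Lib.H11.OmNd13
import Cfsg.Agent.Lib.H29.Orth
import Cfsg.Agent.Lib.H29.QuadOdd
-- import your own Cfsg.Agent.* helpers here

set_option autoImplicit false
open Cfsg

namespace Cfsg.Agent.S5675

/-- Let F be a finite field of odd order q, m ≥ 6, Q the standard quadratic form on F^(2m+1) and Ω the commutator subgroup of its isometry group. Let W be a non-zero subspace of even dimension on which the polar form of Q is non-degenerate; exclude the case q = 3, dim W = 2 with Q vanishing on some line of W (a plus-type plane). Then the elements of Ω stabilising W (equivalently, stabilising its orthogonal complement, of odd dimension) form a maximal subgroup of Ω. -/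
theorem result {F : Type*} [Field F] [Fintype F] (hodd : Odd (Fintype.card F)) (m : ℕ) (hm : 6 ≤ m) (W : Submodule F (Unit ⊕ (Fin m ⊕ Fin m) → F)) (hW0 : W ≠ ⊥) (hev : Even (Module.finrank F W)) (hW : Cfsg.Geo.IsNondegenerateOn (QuadraticMap.polar (Cfsg.quadFormOdd m F)) W) (hex : ¬ (Fintype.card F = 3 ∧ Module.finrank F W = 2 ∧ Cfsg.Geo.IsPlusTypeOn (Cfsg.quadFormOdd m F) W)) : Cfsg.Geo.IsMaximalIn (Cfsg.Geo.omegaGL (Cfsg.quadFormOdd m F)) (Cfsg.Geo.subspaceStabilizer W ⊓ Cfsg.Geo.omegaGL (Cfsg.quadFormOdd m F)) := by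
  have h2 : (2 : F) ≠ 0 := by
    intro h0
    have h1 : ringChar F = 2 := CharP.ringChar_of_prime_eq_zero Nat.prime_two (by exact_mod_cast h0)
    rw [FiniteField.even_card_iff_char_two] at h1
    rw [Nat.odd_iff] at hodd
    omega
  have hcard : Fintype.card (Unit ⊕ (Fin m ⊕ Fin m)) = 2 * m + 1 := by
    simp [Fintype.card_sum]; ring
  have hQ := Cfsg.Agent.Lib.H29.QuadOdd.isNondegenerateQuadraticForm (F := F) m h2
  obtain ⟨r, hr⟩ := hev
  have hW1 : W ≠ ⊤ := by
    intro h
    have h3 : Module.finrank F W = 2 * m + 1 := by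
      rw [h, finrank_top, Module.finrank_fintype_fun_eq_card, hcard]
    omega
  refine Cfsg.Agent.Lib.H11.OmNd.nd_stab_maximal_any (Cfsg.quadFormOdd m F) hQ
    (by rw [hcard]; omega) W hW0 hW1 hW (by rw [hcard]; omega) ?_ (by rw [hcard]; omega)
  intro hW2
  by_contra hcon
  push Not at hcon
  obtain ⟨hq, e, he, hQe, he0⟩ := hcon
  have hq1 : 1 < Fintype.card F := Fintype.one_lt_card
  have hq3 : Fintype.card F = 3 := by
    rw [Nat.odd_iff] at hodd
    omega
  have hplus := Cfsg.Agent.Lib.H11.OmNd.plus_of_sing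
    (Cfsg.Agent.Lib.H29.Orth.toQF (Cfsg.quadFormOdd m F) hQ) hW2 he he0
    (by rw [Cfsg.Agent.Lib.H29.Orth.coe_toQF]; exact hQe)
  rw [Cfsg.Agent.Lib.H29.Orth.coe_toQF] at hplus
  exact hex ⟨hq3, hW2, hplus⟩

end Cfsg.Agent.S5675
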