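import Cfsg.Statements.S5677
import Mathlib
import Cfsg.Agent.Lib.H11.OmImp9
import Cfsg.Agent.Lib.H29.Orth
import Cfsg.Agent.Lib.H29.QuadOdd
-- import your own Cfsg.Agent.* helpers here

set_option autoImplicit false
open Cfsg

namespace Cfsg.Agent.S5677

/-- Let F be a finite field of odd order q, m ≥ 6, Q the standard quadratic form on F^(2m+1) and Ω the commutator subgroup of its isometry group. Let D be a decomposition of F^(2m+1) into t ≥ 2 pairwise orthogonal, pairwise Q-isometric subspaces of equal dimension k > 1 on which the polar form is non-degenerate. Unless q = 3 and k = 3, the elements of Ω permuting the members of D form a maximal subgroup of Ω. -/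
theorem result {F : Type*} [Field F] [Fintype F] (hodd : Odd (Fintype.card F)) (m : ℕ) (hm : 6 ≤ m) {t : ℕ} (k : ℕ) (hk : 1 < k) (D : Fin t → Submodule F (Unit ⊕ (Fin m ⊕ Fin m) → F)) (hD : Cfsg.Geo.IsOrthogonalMDecomposition (Cfsg.quadFormOdd m F) k D) (hex : ¬ (Fintype.card F = 3 ∧ k = 3)) : Cfsg.Geo.IsMaximalIn (Cfsg.Geo.omegaGL (Cfsg.quadFormOdd m F)) (Cfsg.Geo.decompositionStabilizer D ⊓ Cfsg.Geo.omegaGL (Cfsg.quadFormOdd m F)) := by
  have h2 : (2 : F) ≠ 0 := by
    intro h0
    have h1 : ringChar F = 2 := CharP.ringChar_of_prime_eq_zero Nat.prime_two (by exact_mod_cast h0)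
    rw [FiniteField.even_card_iff_char_two] at h1
    rw [Nat.odd_iff] at hodd
    omega
  have hcard : Fintype.card (Unit ⊕ (Fin m ⊕ Fin m)) = 2 * m + 1 := by
    simp [Fintype.card_sum]; ring
  have hQ := Cfsg.Agent.Lib.H29.QuadOdd.isNondegenerateQuadraticForm (F := F) m h2
  -- the dimension count `t * k = 2 m + 1`
  have htk : t * k = 2 * m + 1 := by
    have hInt : DirectSum.IsInternal D :=
      DirectSum.isInternal_submodule_of_iSupIndep_of_iSup_eq_top hD.decomp.decomp.indep
        hD.decomp.decomp.iSup_eq_top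
    have h1 := hInt.collectedBasis
      (fun i => Module.finBasisOfFinrankEq F (D i) (hD.decomp.decomp.finrank_eq i))
    have h3 := Module.finrank_eq_card_basis h1
    rw [Module.finrank_fintype_fun_eq_card, hcard] at h3
    simp only [Fintype.card_sigma, Fintype.card_fin, Finset.sum_const, Finset.card_univ,
      smul_eq_mul] at h3
    exact h3.symm
  have hkodd : Odd k := by
    have : Odd (t * k) := by rw [htk]; exact ⟨m, rfl⟩
    exact (Nat.odd_mul.1 this).2
  have hk3 : 3 ≤ k := by
    obtain ⟨r, hr⟩ := hkodd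
    omega
  have hq1 : 1 < Fintype.card F := Fintype.one_lt_card
  have hkq : 5 ≤ k ∨ 5 ≤ Fintype.card F := by
    by_cases h5 : 5 ≤ k
    · exact Or.inl h5
    · right
      have hk3' : k = 3 := by
        obtain ⟨r, hr⟩ := hkodd
        omega
      have hq3 : Fintype.card F ≠ 3 := fun hh => hex ⟨hh, hk3'⟩
      rw [Nat.odd_iff] at hodd
      omega
  exact Cfsg.Agent.Lib.H11.OmImp.imp_maximal_any (Cfsg.quadFormOdd m F) hQ
    (by rw [hcard]; omega) (by rw [hcard]; exact ⟨m, rfl⟩) h2 D hD hk3 hkq

end Cfsg.Agent.S5677
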