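import Cfsg.Statements.S5689
import Mathlib
import Cfsg.Agent.Lib.H11.OmNd13
import Cfsg.Agent.Lib.H29.Orth
-- import your own Cfsg.Agent.* helpers here

set_option autoImplicit false
open Cfsg

namespace Cfsg.Agent.S5689

/-- Let F be a finite field with q elements, n ≥ 13 even, Q a non-degenerate quadratic form on F^n of minus type (no subspace of dimension n/2 is totally singular), and Ω the commutator subgroup of the isometry group of Q, viewed inside GL_n(F). Let W be a non-zero proper subspace on which the polar form of Q is non-degenerate, not of odd dimension n/2. Exclude the case q ≤ 3 in which W, or its orthogonal complement, is a plane containing a line on which Q vanishes. Then the elements of Ω stabilising W form a maximal subgroup of Ω. -/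
theorem result {F : Type*} [Field F] [Fintype F] {n : ℕ} (hn : 13 ≤ n) (heven : Even n) (Q : (Fin n → F) → F) (hQ : Cfsg.Geo.IsNondegenerateQuadraticForm Q) (hminus : ¬ Cfsg.Geo.IsPlusTypeOn Q ⊤) (W : Submodule F (Fin n → F)) (hW0 : W ≠ ⊥) (hW1 : W ≠ ⊤) (hdim : ¬ (2 * Module.finrank F W = n ∧ Odd (Module.finrank F W))) (hW : Cfsg.Geo.IsNondegenerateOn (QuadraticMap.polar Q) W) (hex : ¬ (Fintype.card F ≤ 3 ∧ (∃ U : Submodule F (Fin n → F), Module.finrank F U = 2 ∧ Cfsg.Geo.IsNondegenerateOn (QuadraticMap.polar Q) U ∧ Cfsg.Geo.IsPlusTypeOn Q U ∧ (U = W ∨ (Cfsg.Geo.AreOrthogonalFor (QuadraticMap.polar Q) U W ∧ Module.finrank F U + Module.finrank F W = n))))) : Cfsg.Geo.IsMaximalIn (Cfsg.Geo.omegaGL Q) (Cfsg.Geo.subspaceStabilizer W ⊓ Cfsg.Geo.omegaGL Q) := by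
  have hW' : Cfsg.Geo.IsNondegenerateOn
      (QuadraticMap.polar (⇑(Cfsg.Agent.Lib.H29.Orth.toQF Q hQ))) W := by
    rw [Cfsg.Agent.Lib.H29.Orth.coe_toQF]; exact hW
  have := Cfsg.Agent.Lib.H11.OmNd.nd_stab_maximal_hex (Q := Cfsg.Agent.Lib.H29.Orth.toQF Q hQ)
    (Cfsg.Agent.Lib.H29.Orth.toQF_nondegenerate Q hQ) hn (W := W) hW0 hW1 hW'
    (fun h2 g hg => by
      have hev : Even (Module.finrank F W) := by
        by_contra hne
        exact hdim ⟨h2, Nat.not_even_iff_odd.1 hne⟩
      obtain ⟨U, hU, hfr⟩ := Cfsg.Agent.Lib.H11.OmNd.plus_of_swap hW' hev g hg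
      apply hminus
      refine ⟨U, le_top, ?_, ?_⟩
      · intro u hu
        have := hU u hu
        rwa [Cfsg.Agent.Lib.H29.Orth.coe_toQF] at this
      · rw [finrank_top, Module.finrank_fintype_fun_eq_card, Fintype.card_fin, hfr]
        exact h2)
  rw [Cfsg.Agent.Lib.H29.Orth.coe_toQF] at this
  exact this hex

end Cfsg.Agent.S5689
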