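import Cfsg.Statements.S5700
import Cfsg.Agent.Lib.H10.GuB
import Cfsg.Agent.Lib.H3.GuA1
import Cfsg.Agent.Lib.H25.GuB
import Cfsg.Agent.Lib.H28.GuC
import Cfsg.Agent.Lib.H20.GuD

set_option autoImplicit false
open Cfsg

namespace Cfsg.Agent.S5700

theorem result {F : Type*} [Field F] [Fintype F] {n : ℕ} (hn : 13 ≤ n) (heven : Even n) (Q : (Fin n → F) → F) (hQ : Cfsg.Geo.IsNondegenerateQuadraticForm Q) (K : Subalgebra F (Matrix (Fin n) (Fin n) F)) (hK : Cfsg.Geo.IsFieldSubalgebra 2 K) (hac : Cfsg.Geo.IsAdjointClosedFor (QuadraticMap.polar Q) K) (hnsa : ¬ Cfsg.Geo.IsSelfAdjointFor (QuadraticMap.polar Q) K) (hsc : ∀ k ∈ K, ∃ c : F, ∀ v : (Fin n → F), Q (Matrix.mulVec k v) = c * Q v) : Cfsg.Geo.IsMaximalIn (Cfsg.Geo.omegaGL Q) (Cfsg.Geo.subalgebraNormalizer K ⊓ Cfsg.Geo.omegaGL Q) := by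
  obtain ⟨J, t, N, hJK, hKJ, S⟩ := Cfsg.Agent.Lib.H20.Gu.exists_JS hn Q hQ K hK hac hnsa hsc
  exact Cfsg.Agent.Lib.H10.Gu.maximal_of hn Q hQ K hK hJK hKJ S
    (fun J' h => Cfsg.Agent.Lib.H3.Gu.exists_bad S J' h)
    (fun H hJ a y₀ ha ha0 hy hy' => Cfsg.Agent.Lib.H28.Gu.omega_le_of_local S hJ
      (fun a y₀ ha ha0 hy hy' => Cfsg.Agent.Lib.H25.Gu.local_full S hJ ha ha0 hy hy')
      ha ha0 hy hy')

end Cfsg.Agent.S5700
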