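import Cfsg.Statements.S5713
import Cfsg.Agent.Lib.H14.MinDegA
import Cfsg.Agent.Lib.H14.MinDegD

set_option autoImplicit false
open Cfsg

namespace Cfsg.Agent.S5713

/-- A classification-free minimal-degree bound. Let G be a finite group acting faithfully and primitively on a finite set Ω with n elements, and suppose that the image of G in the symmetric group on Ω does not contain the alternating group on Ω. Then every non-identity element of G moves at least (√n − 1)/2 points of Ω, that is, it fixes at most n − (√n − 1)/2 points. -/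
theorem result {G Ω : Type*} [Group G] [Finite G] [MulAction G Ω] [FaithfulSMul G Ω] [Fintype Ω] [DecidableEq Ω]
    (hprim : MulAction.IsPreprimitive G Ω)
    (hA : ¬ alternatingGroup Ω ≤ (MulAction.toPermHom G Ω).range)
    (g : G) (hg : g ≠ 1) :
    (Real.sqrt (Fintype.card Ω) - 1) / 2 ≤ (Fintype.card Ω : ℝ) - Nat.card (MulAction.fixedBy Ω g) := by
    classical
    have : Fintype G := Fintype.ofFinite G
    set S : Finset Ω := Finset.univ.filter (fun x => g • x ≠ x) with hS
    have hSmem : ∀ x, x ∈ S ↔ g • x ≠ x := by intro x; simp [hS]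
    set n := Fintype.card Ω with hn
    set m := S.card with hm
    -- fixed points
    have hfix : Nat.card (MulAction.fixedBy Ω g) + m = n := by
      have h1 : Nat.card (MulAction.fixedBy Ω g) = (Finset.univ.filter (fun x : Ω => g • x = x)).card := by
        rw [Nat.card_eq_fintype_card, Fintype.card_subtype]
        rfl
      rw [h1, hm, hS, hn, ← Finset.card_univ]
      exact Finset.card_filter_add_card_filter_not (s := (Finset.univ : Finset Ω))
        (p := fun x : Ω => g • x = x)
    -- a moved point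
    obtain ⟨x, hx⟩ : ∃ x : Ω, g • x ≠ x := by
      by_contra hcon
      push Not at hcon
      apply hg
      apply FaithfulSMul.eq_of_smul_eq_smul (α := Ω)
      intro a
      rw [hcon a, one_smul]
    have hxS : x ∈ S := (hSmem x).2 hx
    have hm1 : 1 ≤ m := Finset.card_pos.2 ⟨x, hxS⟩
    -- the main combinatorial bound
    have hmain : n ≤ (2 * m + 1) ^ 2 := by
      by_cases h2 : ∀ a b c d : Ω, a ≠ b → c ≠ d → ∃ h : G, h • a = c ∧ h • b = d
      · obtain ⟨n', hn'⟩ : ∃ n', Fintype.card Ω = n' + 1 :=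
          Nat.exists_eq_succ_of_ne_zero (Fintype.card_pos_iff.2 ⟨x⟩).ne'
        obtain ⟨m', hm'⟩ : ∃ m', S.card = m' + 1 := Nat.exists_eq_succ_of_ne_zero (by omega)
        have h3 := Cfsg.Agent.Lib.H14.MinDeg.two_trans_bound hprim hA h2 g S hSmem n' m' hn' hm'
        rw [hn, hn', hm, hm']
        nlinarith
      · push Not at h2
        obtain ⟨a, b, c, d, hab, hcd, hne⟩ := h2
        set P : Finset (Ω × Ω) := Finset.univ.filter (fun p => p.1 ≠ p.2) with hP
        have hPne : P.Nonempty := ⟨(x, g • x), by simp [hP, hx.symm]⟩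
        obtain ⟨p0, hp0, hmin⟩ := Finset.exists_min_image P
          (fun p => (Cfsg.Agent.Lib.H14.MinDeg.Dset G p.1 p.2).card) hPne
        have hp0' : p0.1 ≠ p0.2 := by simpa [hP] using hp0
        have h3 := Cfsg.Agent.Lib.H14.MinDeg.uniprim_delta hprim
          ⟨a, b, c, d, hab, hcd, fun ⟨h, h1, h2⟩ => hne h h1 h2⟩ p0.1 p0.2 hp0'
          (fun u v huv => hmin (u, v) (by simp [hP, huv]))
        have h4 : (Cfsg.Agent.Lib.H14.MinDeg.Dset G p0.1 p0.2).card ≤ m := by
          refine (hmin (x, g • x) (by simp [hP, hx.symm])).trans ?_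
          exact Finset.card_le_card (Cfsg.Agent.Lib.H14.MinDeg.Dset_subset_supp g x S hSmem)
        have h5 : 2 * (Cfsg.Agent.Lib.H14.MinDeg.Dset G p0.1 p0.2).card ≤ 2 * m + 1 := by omega
        exact h3.trans (Nat.pow_le_pow_left h5 2)
    -- conversion to reals
    have hsqrt : Real.sqrt (n : ℝ) ≤ 2 * (m : ℝ) + 1 := by
      have h1 : (n : ℝ) ≤ (2 * (m : ℝ) + 1) ^ 2 := by exact_mod_cast hmain
      calc Real.sqrt (n : ℝ) ≤ Real.sqrt ((2 * (m : ℝ) + 1) ^ 2) := Real.sqrt_le_sqrt h1
        _ = 2 * (m : ℝ) + 1 := Real.sqrt_sq (by positivity)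
    have hfixR : (n : ℝ) - (Nat.card (MulAction.fixedBy Ω g) : ℝ) = (m : ℝ) := by
      have : ((Nat.card (MulAction.fixedBy Ω g) + m : ℕ) : ℝ) = (n : ℝ) := by rw [hfix]
      push_cast at this
      linarith
    rw [hfixR]
    linarith

end Cfsg.Agent.S5713
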