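-- Statement S5726: a transitive permutation group of prime-power degree has a fixed-point-free element of order p.
import Cfsg.Statements.S5726

set_option autoImplicit false
open Cfsg

namespace Cfsg.Agent.S5726

/-- A Sylow `p`-subgroup of a group acting transitively on a set of `p`-power size acts transitively:
the orbit of any point under `P` has size divisible by `p ^ k`. -/
theorem sylow_orbit_dvd {G Ω : Type*} [Group G] [Finite G] [MulAction G Ω] [Finite Ω]
    [MulAction.IsPretransitive G Ω] (p k : ℕ) [Fact p.Prime] (hΩ : Nat.card Ω = p ^ k)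
    (P : Sylow p G) (ω : Ω) : p ^ k ∣ (MulAction.orbit (P : Subgroup G) ω).ncard := by
  classical
  have hstab : MulAction.stabilizer (P : Subgroup G) ω
      = (MulAction.stabilizer G ω).subgroupOf (P : Subgroup G) := by
    ext x
    simp [Subgroup.mem_subgroupOf, MulAction.mem_stabilizer_iff, Subgroup.smul_def]
  rw [← MulAction.index_stabilizer, hstab]
  -- relIndex
  have h1 : ((MulAction.stabilizer G ω).subgroupOf (P : Subgroup G)).index
      = (MulAction.stabilizer G ω).relIndex (P : Subgroup G) := rfl
  rw [h1, ← Subgroup.inf_relIndex_left]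
  set S := MulAction.stabilizer G ω with hS
  have hSi : S.index = p ^ k := by
    rw [hS, MulAction.index_stabilizer_of_transitive, hΩ]
  have e1 : ((P : Subgroup G) ⊓ S).relIndex (P : Subgroup G) * (P : Subgroup G).index
      = ((P : Subgroup G) ⊓ S).index := Subgroup.relIndex_mul_index inf_le_left
  have e2 : ((P : Subgroup G) ⊓ S).relIndex S * S.index
      = ((P : Subgroup G) ⊓ S).index := Subgroup.relIndex_mul_index inf_le_right
  have hdvd : p ^ k ∣ ((P : Subgroup G) ⊓ S).relIndex (P : Subgroup G) * (P : Subgroup G).index := by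
    rw [e1, ← e2, hSi]
    exact dvd_mul_left _ _
  have hcop : Nat.Coprime (p ^ k) (P : Subgroup G).index :=
    Nat.Coprime.pow_left k ((Nat.Prime.coprime_iff_not_dvd Fact.out).2 P.not_dvd_index)
  exact hcop.dvd_of_dvd_mul_right hdvd

theorem result {G Ω : Type*} [Group G] [Finite G] [MulAction G Ω] [FaithfulSMul G Ω] [Fintype Ω] (htr : MulAction.IsPretransitive G Ω)
    (p k : ℕ) (hp : p.Prime) (hk : 1 ≤ k) (hΩ : Fintype.card Ω = p ^ k) :
    ∃ g : G, orderOf g = p ∧ ∀ ω : Ω, g • ω ≠ ω := by
  classical
  have : Fact p.Prime := ⟨hp⟩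
  have hΩ' : Nat.card Ω = p ^ k := by rw [Nat.card_eq_fintype_card, hΩ]
  obtain ⟨P⟩ : Nonempty (Sylow p G) := inferInstance
  -- P is transitive
  have htrans : ∀ ω ω' : Ω, ∃ g : (P : Subgroup G), g • ω = ω' := by
    intro ω ω'
    have hd := sylow_orbit_dvd p k hΩ' P ω
    have hle : (MulAction.orbit (P : Subgroup G) ω).ncard ≤ Nat.card Ω := by
      rw [← Set.ncard_univ]
      exact Set.ncard_le_ncard (Set.subset_univ _) Set.finite_univ
    have hpos : 0 < (MulAction.orbit (P : Subgroup G) ω).ncard := by
      rw [Set.ncard_pos]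
      exact MulAction.nonempty_orbit ω
    have heq : (MulAction.orbit (P : Subgroup G) ω).ncard = Nat.card Ω := by
      rw [hΩ'] at hle ⊢
      exact le_antisymm hle (Nat.le_of_dvd hpos hd)
    have huniv : MulAction.orbit (P : Subgroup G) ω = Set.univ := by
      rw [Set.eq_univ_iff_ncard, heq]
    have : ω' ∈ MulAction.orbit (P : Subgroup G) ω := by rw [huniv]; trivial
    exact this
  -- Ω is nonempty and has at least 2 elements, so P is nontrivial
  have hcard2 : 2 ≤ Fintype.card Ω := by
    rw [hΩ]
    calc 2 ≤ p := hp.two_le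
      _ = p ^ 1 := (pow_one p).symm
      _ ≤ p ^ k := Nat.pow_le_pow_right hp.pos hk
  obtain ⟨a, b, hab⟩ : ∃ a b : Ω, a ≠ b := by
    have : 1 < Fintype.card Ω := hcard2
    rw [Fintype.one_lt_card_iff] at this
    exact this
  have : Nontrivial (P : Subgroup G) := by
    obtain ⟨g, hg⟩ := htrans a b
    refine ⟨⟨g, 1, ?_⟩⟩
    rintro rfl
    exact hab (by simpa using hg)
  have : Nontrivial (Subgroup.center (P : Subgroup G)) := P.isPGroup'.center_nontrivial
  have hZp : IsPGroup p (Subgroup.center (P : Subgroup G)) := P.isPGroup'.to_subgroup _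
  -- p divides the order of the centre
  have hdvd : p ∣ Nat.card (Subgroup.center (P : Subgroup G)) := by
    obtain ⟨n, hn⟩ := IsPGroup.iff_card.mp hZp
    rw [hn]
    have : n ≠ 0 := by
      rintro rfl
      have h1 : Nat.card (Subgroup.center (P : Subgroup G)) = 1 := by simpa using hn
      have := Finite.one_lt_card (α := Subgroup.center (P : Subgroup G))
      omega
    exact dvd_pow_self p this
  obtain ⟨z, hz⟩ := exists_prime_orderOf_dvd_card' p hdvd
  refine ⟨((z : (P : Subgroup G)) : G), ?_, ?_⟩
  · have h1 : orderOf ((z : (P : Subgroup G)) : G) = orderOf (z : (P : Subgroup G)) :=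
      Subgroup.orderOf_coe _
    have h2 : orderOf (z : (P : Subgroup G)) = orderOf z := Subgroup.orderOf_coe _
    rw [h1, h2, hz]
  · intro ω hω
    -- z fixes everything
    have hall : ∀ ω' : Ω, ((z : (P : Subgroup G)) : G) • ω' = ω' := by
      intro ω'
      obtain ⟨g, rfl⟩ := htrans ω ω'
      have hcomm : (g : (P : Subgroup G)) * (z : (P : Subgroup G)) = (z : (P : Subgroup G)) * g :=
        (Subgroup.mem_center_iff.mp z.2 g)
      have hcomm' : ((z : (P : Subgroup G)) : G) * (g : G) = (g : G) * ((z : (P : Subgroup G)) : G) := by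
        have := congrArg (fun x : (P : Subgroup G) => (x : G)) hcomm
        simpa using this.symm
      change ((z : (P : Subgroup G)) : G) • ((g : G) • ω) = (g : G) • ω
      rw [smul_smul, hcomm', ← smul_smul, hω]
    have h1 : ((z : (P : Subgroup G)) : G) = 1 := by
      apply FaithfulSMul.eq_of_smul_eq_smul (α := Ω)
      intro ω'
      rw [hall ω', one_smul]
    have : orderOf z = 1 := by
      have hz1 : z = 1 := by
        apply Subtype.ext
        apply Subtype.ext
        simpa using h1
      rw [hz1, orderOf_one]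
    rw [hz] at this
    exact hp.one_lt.ne' this

end Cfsg.Agent.S5726
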