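-- Statement S5729: Cameron-Cohen: proportion of derangements in a transitive group.
import Cfsg.Statements.S5729

set_option autoImplicit false
set_option linter.unusedSectionVars false

namespace Cfsg.Agent.S5729

open MulAction

section
variable {G Ω : Type*} [Group G] [Fintype G] [MulAction G Ω] [Fintype Ω]

/-- number of fixed points -/
noncomputable def fx (G : Type*) {Ω : Type*} [Group G] [MulAction G Ω] (g : G) : ℕ := Nat.card (fixedBy Ω g)

theorem fx_le (g : G) : fx G (Ω := Ω) g ≤ Fintype.card Ω := by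
  unfold fx
  rw [← Nat.card_eq_fintype_card]
  exact Nat.card_le_card_of_injective _ Subtype.val_injective

theorem fx_one : fx G (Ω := Ω) (1 : G) = Fintype.card Ω := by
  unfold fx
  rw [← Nat.card_eq_fintype_card]
  apply Nat.card_congr
  exact (Equiv.subtypeUnivEquiv (fun x => by simp))

theorem fx_eq_zero_iff (g : G) : fx G (Ω := Ω) g = 0 ↔ ∀ ω : Ω, g • ω ≠ ω := by
  unfold fx
  rw [Nat.card_eq_zero]
  constructor
  · rintro (h | h)
    · intro ω hω
      exact h.false ⟨ω, hω⟩
    · exact absurd h (not_infinite_iff_finite.2 inferInstance)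
  · intro h
    left
    exact ⟨fun x => h x.1 x.2⟩

theorem burnside1 [IsPretransitive G Ω] [Nonempty Ω] : ∑ g : G, fx G (Ω := Ω) g = Fintype.card G := by
  classical
  have := sum_card_fixedBy_eq_card_orbits_mul_card_group G Ω
  have h1 : Fintype.card (Quotient (orbitRel G Ω)) = 1 := by
    rw [Fintype.card_eq_one_iff_nonempty_unique]
    have hs : Subsingleton (Quotient (orbitRel G Ω)) :=
      (pretransitive_iff_subsingleton_quotient G Ω).1 inferInstance
    obtain ⟨ω⟩ := (inferInstance : Nonempty Ω)
    exact ⟨{ default := Quotient.mk'' ω, uniq := fun a => Subsingleton.elim _ _ }⟩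
  rw [h1, one_mul] at this
  rw [← this]
  apply Finset.sum_congr rfl
  intro g _
  unfold fx
  rw [Nat.card_eq_fintype_card]

theorem burnside2 (a b : Ω) (hab : a ≠ b) : 2 * Fintype.card G ≤ ∑ g : G, fx G (Ω := Ω) g ^ 2 := by
  classical
  have := sum_card_fixedBy_eq_card_orbits_mul_card_group G (Ω × Ω)
  have h2 : 2 ≤ Fintype.card (Quotient (orbitRel G (Ω × Ω))) := by
    have : 1 < Fintype.card (Quotient (orbitRel G (Ω × Ω))) := by
      rw [Fintype.one_lt_card_iff]
      refine ⟨Quotient.mk'' (a, a), Quotient.mk'' (a, b), ?_⟩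
      intro h
      rw [Quotient.eq''] at h
      change (a, a) ∈ orbit G (a, b) at h
      obtain ⟨g, hg⟩ := h
      simp only [Prod.smul_mk, Prod.mk.injEq] at hg
      apply hab
      have h1 := hg.1
      have h2 := hg.2
      -- g • a = a, g • b = a
      exact (MulAction.injective g (h1.trans h2.symm)).symm ▸ rfl
    exact this
  have h3 : ∑ g : G, fx G (Ω := Ω) g ^ 2 = ∑ g : G, Fintype.card (fixedBy (Ω × Ω) g) := by
    apply Finset.sum_congr rfl
    intro g _
    unfold fx
    rw [Nat.card_eq_fintype_card, sq, ← Fintype.card_prod]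
    apply Fintype.card_congr
    exact
      { toFun := fun x => ⟨(x.1.1, x.2.1), by
          rw [mem_fixedBy]; simp only [Prod.smul_mk]; rw [x.1.2, x.2.2]⟩
        invFun := fun y => (⟨y.1.1, by have := y.2; rw [mem_fixedBy] at this; exact congrArg Prod.fst this⟩,
          ⟨y.1.2, by have := y.2; rw [mem_fixedBy] at this; exact congrArg Prod.snd this⟩)
        left_inv := fun x => rfl
        right_inv := fun y => rfl }
  rw [h3, this]
  exact Nat.mul_le_mul_right _ h2

end

theorem result {G Ω : Type*} [Group G] [Finite G] [MulAction G Ω] [FaithfulSMul G Ω] [Fintype Ω] (htr : MulAction.IsPretransitive G Ω) (hn : 3 ≤ Fintype.card Ω) :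
    ((MulAction.IsPretransitive G Ω ∧ (∃ g : G, g ≠ 1 ∧ ∃ ω : Ω, g • ω = ω) ∧ ∀ g : G, g ≠ 1 → Nat.card (MulAction.fixedBy Ω g) ≤ 1) ∧ Nat.card G = Fintype.card Ω * (Fintype.card Ω - 1) ∧ Fintype.card Ω * Nat.card {g : G // ∀ ω : Ω, g • ω ≠ ω} = Nat.card G) ∨
    Nat.card G < Fintype.card Ω * Nat.card {g : G // ∀ ω : Ω, g • ω ≠ ω} := by
  classical
  have : Fintype G := Fintype.ofFinite G
  set n := Fintype.card Ω with hn_def
  have hne : Nonempty Ω := by
    rw [← Fintype.card_pos_iff]; omega
  obtain ⟨a, b, hab⟩ : ∃ a b : Ω, a ≠ b := by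
    have : 1 < Fintype.card Ω := by omega
    rwa [Fintype.one_lt_card_iff] at this
  have hG : Nat.card G = Fintype.card G := Nat.card_eq_fintype_card
  -- the derangement count
  set D : Finset G := Finset.univ.filter (fun g => fx G (Ω := Ω) g = 0) with hD
  have hd : Nat.card {g : G // ∀ ω : Ω, g • ω ≠ ω} = D.card := by
    rw [Nat.card_eq_fintype_card, Fintype.card_subtype]
    congr 1
    ext g
    simp only [Finset.mem_filter, Finset.mem_univ, true_and, hD]
    exact (fx_eq_zero_iff g).symm
  rw [hd, hG]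
  -- integer-valued fixed point counts
  set A : G → ℤ := fun g => (fx G (Ω := Ω) g : ℤ) with hA
  have hA0 : ∀ g, 0 ≤ A g := fun g => Int.natCast_nonneg _
  have hAn : ∀ g, A g ≤ n := fun g => by
    simp only [hA]; exact_mod_cast fx_le g
  have S1 : ∑ g : G, A g = Fintype.card G := by
    simp only [hA]
    rw [← Nat.cast_sum, burnside1]
  have S2 : (2 : ℤ) * Fintype.card G ≤ ∑ g : G, A g ^ 2 := by
    simp only [hA]
    have := burnside2 (G := G) a b hab
    have h2 : ((2 * Fintype.card G : ℕ) : ℤ) ≤ ((∑ g : G, fx G (Ω := Ω) g ^ 2 : ℕ) : ℤ) := by exact_mod_cast this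
    push_cast at h2
    exact h2
  -- the key sum
  have hsum : ∑ g : G, (A g - 1) * (A g - n) = ∑ g : G, A g ^ 2 - (n + 1) * ∑ g : G, A g + n * Fintype.card G := by
    have : ∀ g : G, (A g - 1) * (A g - n) = A g ^ 2 - (n + 1) * A g + n := fun g => by ring
    simp_rw [this]
    rw [Finset.sum_add_distrib, Finset.sum_sub_distrib, ← Finset.mul_sum]
    simp [Finset.card_univ, mul_comm]
  have hlow : (Fintype.card G : ℤ) ≤ ∑ g : G, (A g - 1) * (A g - n) := by
    rw [hsum, S1]; nlinarith
  -- upper bound term by term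
  have hterm : ∀ g : G, (A g - 1) * (A g - n) ≤ if fx G (Ω := Ω) g = 0 then (n : ℤ) else 0 := by
    intro g
    split_ifs with h
    · have : A g = 0 := by simp [hA, h]
      rw [this]; ring_nf; rfl
    · have h1 : 1 ≤ A g := by
        have : 0 < fx G (Ω := Ω) g := Nat.pos_of_ne_zero h
        simp only [hA]; exact_mod_cast this
      have := hAn g
      nlinarith
  have hup : ∑ g : G, (A g - 1) * (A g - n) ≤ (n : ℤ) * D.card := by
    calc ∑ g : G, (A g - 1) * (A g - n) ≤ ∑ g : G, (if fx G (Ω := Ω) g = 0 then (n : ℤ) else 0) :=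
          Finset.sum_le_sum fun g _ => hterm g
      _ = (n : ℤ) * D.card := by
          rw [← Finset.sum_filter, Finset.sum_const, nsmul_eq_mul, mul_comm]
  have hmain : Fintype.card G ≤ n * D.card := by
    have : (Fintype.card G : ℤ) ≤ (n : ℤ) * D.card := hlow.trans hup
    exact_mod_cast this
  rcases lt_or_eq_of_le hmain with hlt | heq
  · right; exact hlt
  left
  -- equality case
  have heqZ : (Fintype.card G : ℤ) = (n : ℤ) * D.card := by exact_mod_cast heq
  have hsumeq : ∑ g : G, ((if fx G (Ω := Ω) g = 0 then (n : ℤ) else 0) - (A g - 1) * (A g - n)) = 0 := by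
    rw [Finset.sum_sub_distrib, ← Finset.sum_filter, Finset.sum_const, nsmul_eq_mul]
    have : ∑ g : G, (A g - 1) * (A g - n) = (n : ℤ) * D.card := le_antisymm hup (heqZ ▸ hlow)
    rw [this]; ring
  have hzero := (Finset.sum_eq_zero_iff_of_nonneg (fun g _ => sub_nonneg.2 (hterm g))).1 hsumeq
  -- every non-derangement has 1 or n fixed points
  have hfix : ∀ g : G, fx G (Ω := Ω) g ≠ 0 → A g = 1 ∨ A g = n := by
    intro g hg
    have := hzero g (Finset.mem_univ g)
    rw [if_neg hg, zero_sub, neg_eq_zero, mul_eq_zero] at this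
    rcases this with h | h
    · left; linarith
    · right; linarith
  -- n fixed points forces g = 1
  have hone : ∀ g : G, A g = n → g = 1 := by
    intro g hg
    apply FaithfulSMul.eq_of_smul_eq_smul (α := Ω)
    intro ω
    rw [one_smul]
    have hcard : Nat.card (fixedBy Ω g) = Nat.card Ω := by
      have : fx G (Ω := Ω) g = n := by simp only [hA] at hg; exact_mod_cast hg
      unfold fx at this
      rw [this, Nat.card_eq_fintype_card]
    have huniv : (fixedBy Ω g) = Set.univ := by
      rw [Set.eq_univ_iff_ncard, ← hcard]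
      rfl
    have : ω ∈ fixedBy Ω g := by rw [huniv]; trivial
    exact this
  have hle1 : ∀ g : G, g ≠ 1 → Nat.card (MulAction.fixedBy Ω g) ≤ 1 := by
    intro g hg1
    by_cases hg : fx G (Ω := Ω) g = 0
    · unfold fx at hg; omega
    · rcases hfix g hg with h | h
      · have : fx G (Ω := Ω) g = 1 := by simp only [hA] at h; exact_mod_cast h
        unfold fx at this; omega
      · exact absurd (hone g h) hg1
  -- count: Σ (A g - 1) = 0
  have hcount : ∑ g : G, (A g - 1) = ∑ g : G, ((if g = 1 then (n : ℤ) - 1 else 0) - (if fx G (Ω := Ω) g = 0 then 1 else 0)) := by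
    apply Finset.sum_congr rfl
    intro g _
    by_cases hg1 : g = 1
    · subst hg1
      have h1 : fx G (Ω := Ω) (1 : G) = n := fx_one
      have : A 1 = n := by simp only [hA]; exact_mod_cast h1
      have hn0 : fx G (Ω := Ω) (1 : G) ≠ 0 := by rw [h1]; omega
      rw [if_pos rfl, if_neg hn0, this]; ring
    · rw [if_neg hg1]
      by_cases hg : fx G (Ω := Ω) g = 0
      · rw [if_pos hg]
        have : A g = 0 := by simp [hA, hg]
        rw [this]
      · rw [if_neg hg]
        rcases hfix g hg with h | h
        · rw [h]; ring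
        · exact absurd (hone g h) hg1
  have hcount2 : ∑ g : G, (A g - 1) = 0 := by
    rw [Finset.sum_sub_distrib, S1]
    simp [Finset.card_univ]
  have hdn : (D.card : ℤ) = n - 1 := by
    rw [hcount, Finset.sum_sub_distrib, Finset.sum_ite_eq' Finset.univ (1 : G)] at hcount2
    simp only [Finset.mem_univ, if_true] at hcount2
    rw [← Finset.sum_filter, Finset.sum_const, nsmul_eq_mul, mul_one] at hcount2
    linarith
  have hdn' : D.card = n - 1 := by omega
  have hcardG : Fintype.card G = n * (n - 1) := by rw [heq, hdn']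
  refine ⟨⟨htr, ?_, hle1⟩, hcardG, heq.symm⟩
  -- existence of a non-identity element with a fixed point: stabilizer of `a` has order n - 1 ≥ 2
  have hstab : Nat.card (stabilizer G a) * n = Nat.card G := by
    have h1 := (stabilizer G a).card_mul_index
    rw [index_stabilizer_of_transitive, Nat.card_eq_fintype_card (α := Ω)] at h1
    exact h1
  rw [hG, hcardG] at hstab
  have hn0 : 0 < n := by omega
  have hstab' : Nat.card (stabilizer G a) = n - 1 := by
    have : Nat.card (stabilizer G a) * n = (n - 1) * n := by rw [hstab, mul_comm]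
    exact Nat.eq_of_mul_eq_mul_right hn0 this
  have hnt : stabilizer G a ≠ ⊥ := by
    intro h
    rw [h, Subgroup.card_bot] at hstab'
    omega
  obtain ⟨g, hg1⟩ := (Subgroup.ne_bot_iff_exists_ne_one).1 hnt
  refine ⟨(g : G), fun h => hg1 (Subtype.ext h), a, ?_⟩
  exact g.2

end Cfsg.Agent.S5729
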