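-- Statement S5727: transitive group of degree m*p (m ≤ p) has a fixed-point-free element of order p.
import Cfsg.Statements.S5727
import Cfsg.Agent.S5726
import Cfsg.Agent.S5729

set_option autoImplicit false
set_option linter.unusedSectionVars false

namespace Cfsg.Agent.S5727

open MulAction

/-- The orbit of a point under a Sylow `p`-subgroup has size divisible by the `p`-part of the degree. -/
theorem sylow_orbit_dvd' {G Ω : Type*} [Group G] [Finite G] [MulAction G Ω] [Finite Ω]
    [MulAction.IsPretransitive G Ω] (p k : ℕ) [Fact p.Prime] (hΩ : p ^ k ∣ Nat.card Ω)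
    (P : Sylow p G) (ω : Ω) : p ^ k ∣ (MulAction.orbit (P : Subgroup G) ω).ncard := by
  classical
  have hstab : MulAction.stabilizer (P : Subgroup G) ω
      = (MulAction.stabilizer G ω).subgroupOf (P : Subgroup G) := by
    ext x
    simp [Subgroup.mem_subgroupOf, MulAction.mem_stabilizer_iff, Subgroup.smul_def]
  rw [← MulAction.index_stabilizer, hstab]
  have h1 : ((MulAction.stabilizer G ω).subgroupOf (P : Subgroup G)).index
      = (MulAction.stabilizer G ω).relIndex (P : Subgroup G) := rfl
  rw [h1, ← Subgroup.inf_relIndex_left]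
  set S := MulAction.stabilizer G ω with hS
  have hSi : p ^ k ∣ S.index := by
    rw [hS, MulAction.index_stabilizer_of_transitive]; exact hΩ
  have e1 : ((P : Subgroup G) ⊓ S).relIndex (P : Subgroup G) * (P : Subgroup G).index
      = ((P : Subgroup G) ⊓ S).index := Subgroup.relIndex_mul_index inf_le_left
  have e2 : ((P : Subgroup G) ⊓ S).relIndex S * S.index
      = ((P : Subgroup G) ⊓ S).index := Subgroup.relIndex_mul_index inf_le_right
  have hdvd : p ^ k ∣ ((P : Subgroup G) ⊓ S).relIndex (P : Subgroup G) * (P : Subgroup G).index := by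
    rw [e1, ← e2]
    exact Dvd.dvd.mul_left hSi _
  have hcop : Nat.Coprime (p ^ k) (P : Subgroup G).index :=
    Nat.Coprime.pow_left k ((Nat.Prime.coprime_iff_not_dvd Fact.out).2 P.not_dvd_index)
  exact hcop.dvd_of_dvd_mul_right hdvd

/-- Core lemma: a finite `p`-group `P` acting faithfully on a finite set, all of whose orbits have size `p`
and with fewer than `p` orbits... stated via the degree `m * p` with `m < p`. -/
theorem core {P Ω : Type*} [Group P] [Finite P] [MulAction P Ω] [FaithfulSMul P Ω] [Fintype Ω]
    (p m : ℕ) [Fact p.Prime] (hP : IsPGroup p P) (hm : 1 ≤ m) (hmp : m < p) (hΩ : Fintype.card Ω = m * p)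
    (horb : ∀ ω : Ω, (orbit P ω).ncard = p) :
    ∃ g : P, orderOf g = p ∧ ∀ ω : Ω, g • ω ≠ ω := by
  classical
  have hp : p.Prime := Fact.out
  have : Fintype P := Fintype.ofFinite P
  have hne : Nonempty Ω := by
    rw [← Fintype.card_pos_iff, hΩ]; exact Nat.mul_pos hm hp.pos
  obtain ⟨ω₀⟩ := hne
  -- |P| is a positive power of p
  obtain ⟨e, he⟩ := IsPGroup.iff_card.1 hP
  have hindex : ∀ ω : Ω, (stabilizer P ω).index = p := fun ω => by rw [index_stabilizer, horb]
  have he0 : e ≠ 0 := by
    rintro rfl
    have h1 : Nat.card P = 1 := by simpa using he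
    have := (stabilizer P ω₀).index_dvd_card
    rw [hindex, h1] at this
    exact hp.one_lt.ne' (Nat.dvd_one.1 this)
  -- stabilizers are normal
  have hnormal : ∀ ω : Ω, (stabilizer P ω).Normal := by
    intro ω
    apply Subgroup.normal_of_index_eq_minFac_card
    rw [hindex, he, hp.pow_minFac he0]
  -- g ^ p = 1 for all g
  have hpow : ∀ g : P, g ^ p = 1 := by
    intro g
    apply FaithfulSMul.eq_of_smul_eq_smul (α := Ω)
    intro ω
    rw [one_smul]
    have := hnormal ω
    have := (stabilizer P ω).pow_index_mem g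
    rw [hindex] at this
    exact this
  -- fixed point sets are unions of orbits, so have size ≥ p when nonempty
  have hfixge : ∀ g : P, (∃ ω : Ω, g • ω = ω) → p ≤ Cfsg.Agent.S5729.fx P (Ω := Ω) g := by
    rintro g ⟨ω, hω⟩
    unfold Cfsg.Agent.S5729.fx
    rw [← horb ω, ← Nat.card_coe_set_eq]
    apply Nat.card_le_card_of_injective (fun x : orbit P ω => (⟨x.1, ?_⟩ : fixedBy Ω g))
    · intro x y hxy
      exact Subtype.ext (by simpa using congrArg Subtype.val hxy)
    · obtain ⟨h, hh⟩ := x.2
      rw [← hh]
      change g • (h • ω) = h • ω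
      have hmem : h⁻¹ * g * h ∈ stabilizer P ω := by
        have : g ∈ stabilizer P ω := hω
        have := (hnormal ω).conj_mem g this h⁻¹
        simpa using this
      rw [mem_stabilizer_iff, mul_smul, mul_smul] at hmem
      have := congrArg (fun x => h • x) hmem
      simpa using this
  -- number of orbits is m
  have horbits : Fintype.card (Quotient (orbitRel P Ω)) = m := by
    have h1 := Fintype.card_congr (selfEquivSigmaOrbits P Ω)
    rw [Fintype.card_sigma] at h1
    have h2 : ∀ q : Quotient (orbitRel P Ω), Fintype.card (orbit P q.out) = p := by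
      intro q
      rw [← Nat.card_eq_fintype_card, Nat.card_coe_set_eq, horb]
    simp only [h2, Finset.sum_const, Finset.card_univ, smul_eq_mul] at h1
    rw [hΩ] at h1
    exact (Nat.eq_of_mul_eq_mul_right hp.pos h1).symm
  -- Burnside
  have hB := sum_card_fixedBy_eq_card_orbits_mul_card_group P Ω
  rw [horbits] at hB
  -- suppose every element has a fixed point
  by_contra hcon
  push Not at hcon
  have hall : ∀ g : P, ∃ ω : Ω, g • ω = ω := by
    intro g
    by_cases hg : g = 1
    · exact ⟨ω₀, by rw [hg, one_smul]⟩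
    · have hord : orderOf g = p := by
        have := orderOf_dvd_of_pow_eq_one (hpow g)
        rcases (Nat.dvd_prime hp).1 this with h | h
        · exact absurd (orderOf_eq_one_iff.1 h) hg
        · exact h
      exact hcon g hord
  have hge : p * Fintype.card P ≤ ∑ g : P, Fintype.card (fixedBy Ω g) := by
    calc p * Fintype.card P = ∑ _g : P, p := by simp [Finset.card_univ, mul_comm]
      _ ≤ ∑ g : P, Fintype.card (fixedBy Ω g) := by
          apply Finset.sum_le_sum
          intro g _
          have := hfixge g (hall g)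
          unfold Cfsg.Agent.S5729.fx at this
          rwa [Nat.card_eq_fintype_card] at this
  rw [hB] at hge
  have hcardpos : 0 < Fintype.card P := Fintype.card_pos
  have := Nat.le_of_mul_le_mul_right hge hcardpos
  omega

theorem result {G Ω : Type*} [Group G] [Finite G] [MulAction G Ω] [FaithfulSMul G Ω] [Fintype Ω] (htr : MulAction.IsPretransitive G Ω)
    (p m : ℕ) (hp : p.Prime) (hm : 1 ≤ m) (hmp : m ≤ p) (hΩ : Fintype.card Ω = m * p) :
    ∃ g : G, orderOf g = p ∧ ∀ ω : Ω, g • ω ≠ ω := by
  classical
  rcases eq_or_lt_of_le hmp with rfl | hlt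
  · exact Cfsg.Agent.S5726.result htr m 2 hp (by norm_num) (by rw [hΩ, sq])
  have : Fact p.Prime := ⟨hp⟩
  obtain ⟨P⟩ : Nonempty (Sylow p G) := inferInstance
  have hΩ' : Nat.card Ω = m * p := by rw [Nat.card_eq_fintype_card, hΩ]
  have : FaithfulSMul (P : Subgroup G) Ω := by
    refine ⟨fun {g h} hgh => ?_⟩
    apply Subtype.ext
    apply FaithfulSMul.eq_of_smul_eq_smul (α := Ω)
    intro ω
    exact hgh ω
  have horb : ∀ ω : Ω, (orbit (P : Subgroup G) ω).ncard = p := by
    intro ω
    have hd := sylow_orbit_dvd' p 1 (by rw [hΩ', pow_one]; exact dvd_mul_left _ _) P ω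
    rw [pow_one] at hd
    obtain ⟨j, hj⟩ := P.isPGroup'.index (stabilizer (P : Subgroup G) ω)
    rw [index_stabilizer] at hj
    have hle : (orbit (P : Subgroup G) ω).ncard ≤ m * p := by
      rw [← hΩ', ← Set.ncard_univ]
      exact Set.ncard_le_ncard (Set.subset_univ _) Set.finite_univ
    rw [hj] at hd hle ⊢
    have hj1 : j ≠ 0 := by
      rintro rfl
      rw [pow_zero] at hd
      exact hp.one_lt.ne' (Nat.dvd_one.1 hd)
    have hj2 : j < 2 := by
      by_contra h
      push Not at h
      have : p ^ 2 ≤ p ^ j := Nat.pow_le_pow_right hp.pos h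
      have : m * p < p * p := Nat.mul_lt_mul_of_pos_right hlt hp.pos
      nlinarith
    have : j = 1 := by omega
    rw [this, pow_one]
  obtain ⟨g, hg, hfree⟩ := core (P := (P : Subgroup G)) p m P.isPGroup' hm hlt hΩ horb
  refine ⟨(g : G), ?_, fun ω => hfree ω⟩
  rw [Subgroup.orderOf_coe]; exact hg

end Cfsg.Agent.S5727
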