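-- Statement S5728: AGL(1,p^2) on cosets of AGL(1,p) is elusive for a Mersenne prime p.
import Cfsg.Statements.S5728

set_option autoImplicit false
open Cfsg

namespace Cfsg.Agent.S5728

open Polynomial

/-- In a field of characteristic `p` that is a `ZMod p`-algebra, an element with `a ^ p = a` lies in the
prime field. -/
theorem mem_range_of_pow_eq (p : ℕ) [Fact p.Prime] (K : Type*) [Field K] [Algebra (ZMod p) K]
    (a : K) (h : a ^ p = a) : ∃ z : ZMod p, algebraMap (ZMod p) K z = a := by
  classical
  by_contra hcon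
  push Not at hcon
  have hp : p.Prime := Fact.out
  let f : K[X] := X ^ p - X
  have hf0 : f ≠ 0 := FiniteField.X_pow_card_sub_X_ne_zero K hp.one_lt
  have hdeg : f.natDegree = p := FiniteField.X_pow_card_sub_X_natDegree_eq K hp.one_lt
  let T : Finset K := Finset.univ.image (algebraMap (ZMod p) K)
  have hT : T.card = p := by
    rw [Finset.card_image_of_injective _ (algebraMap (ZMod p) K).injective, Finset.card_univ, ZMod.card]
  have haT : a ∉ T := by
    intro ha
    rw [Finset.mem_image] at ha
    obtain ⟨z, -, hz⟩ := ha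
    exact hcon z hz
  let S : Finset K := insert a T
  have hS : S.card = p + 1 := by rw [Finset.card_insert_of_notMem haT, hT]
  have hroots : S ⊆ f.roots.toFinset := by
    intro x hx
    rw [Multiset.mem_toFinset, mem_roots hf0]
    rw [Finset.mem_insert] at hx
    rcases hx with rfl | hx
    · simp [f, h]
    · rw [Finset.mem_image] at hx
      obtain ⟨z, -, rfl⟩ := hx
      simp only [f, IsRoot.def, eval_sub, eval_pow, eval_X]
      rw [← map_pow, ZMod.pow_card, sub_self]
  have h1 : S.card ≤ f.roots.toFinset.card := Finset.card_le_card hroots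
  have h2 : f.roots.toFinset.card ≤ Multiset.card f.roots := Multiset.toFinset_card_le _
  have h3 := Polynomial.card_roots' f
  omega

theorem pow_apply_affine {K : Type*} [Field K] (g : Equiv.Perm K) (a b : K) (hg : ∀ y, g y = a * y + b)
    (k : ℕ) (y : K) : (g ^ k) y = a ^ k * y + (g ^ k) 0 := by
  induction k generalizing y with
  | zero => simp
  | succ k ih =>
    rw [pow_succ', Equiv.Perm.mul_apply, Equiv.Perm.mul_apply, ih y, hg, hg (( g ^ k) 0)]
    ring

theorem result (p s : ℕ) [Fact p.Prime] (hs : p = 2 ^ s - 1)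
    (g : Equiv.Perm (GaloisField p 2)) (hg : g ∈ Cfsg.affineGroup (GaloisField p 2)) (hord : (orderOf g).Prime) :
    ∃ x ∈ Cfsg.affineGroup (GaloisField p 2), ∃ a b : ZMod p, a ≠ 0 ∧
      ∀ y : GaloisField p 2, (x * g * x⁻¹) y = algebraMap (ZMod p) (GaloisField p 2) a * y + algebraMap (ZMod p) (GaloisField p 2) b := by
  classical
  have hp : p.Prime := Fact.out
  obtain ⟨a, b, hgab⟩ := hg
  -- reduction: it suffices to find x with x (g y') = α * x y' + β
  have key : ∀ (x : Equiv.Perm (GaloisField p 2)) (α β : GaloisField p 2),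
      (∀ y', x (g y') = α * x y' + β) → ∀ y, (x * g * x⁻¹) y = α * y + β := by
    intro x α β hx y
    have := hx (x⁻¹ y)
    simpa [Equiv.Perm.mul_apply] using this
  by_cases ha1 : (a : GaloisField p 2) = 1
  · -- translation
    have hb : b ≠ 0 := by
      rintro rfl
      have : g = 1 := by
        ext y
        simp [hgab y, ha1]
      rw [this, orderOf_one] at hord
      exact Nat.not_prime_one hord
    refine ⟨Equiv.mulLeft₀ b⁻¹ (inv_ne_zero hb), ⟨Units.mk0 b⁻¹ (inv_ne_zero hb), 0, fun y => by simp⟩,
      1, 1, one_ne_zero, ?_⟩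
    apply key
    intro y'
    simp only [Equiv.mulLeft₀_apply, hgab y', ha1, map_one, one_mul]
    rw [mul_add, inv_mul_cancel₀ hb]
  · -- a ≠ 1: conjugate to y ↦ a y
    set c : GaloisField p 2 := b / (1 - (a : GaloisField p 2)) with hc
    have h1a : (1 - (a : GaloisField p 2)) ≠ 0 := sub_ne_zero.2 (Ne.symm ha1)
    have hcb : c * (1 - (a : GaloisField p 2)) = b := by rw [hc, div_mul_cancel₀ _ h1a]
    -- a ^ r = 1
    set r := orderOf g with hr
    have hgr : g ^ r = 1 := pow_orderOf_eq_one g
    have har : (a : GaloisField p 2) ^ r = 1 := by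
      have := pow_apply_affine g a b hgab r 1
      rw [hgr] at this
      simpa using this.symm
    have hordA : orderOf (a : GaloisField p 2) = r := by
      have hdvd : orderOf (a : GaloisField p 2) ∣ r := orderOf_dvd_of_pow_eq_one har
      rcases (Nat.dvd_prime hord).1 hdvd with h | h
      · exact absurd (orderOf_eq_one_iff.1 h) ha1
      · exact h
    have ha0 : (a : GaloisField p 2) ≠ 0 := a.ne_zero
    have hcard : Nat.card (GaloisField p 2) = p ^ 2 := GaloisField.card p 2 two_ne_zero
    have : Fintype (GaloisField p 2) := Fintype.ofFinite _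
    have hcard' : Fintype.card (GaloisField p 2) = p ^ 2 := by rw [← Nat.card_eq_fintype_card, hcard]
    have hq : (a : GaloisField p 2) ^ (p ^ 2 - 1) = 1 := by
      have := FiniteField.pow_card_sub_one_eq_one (a : GaloisField p 2) ha0
      rwa [hcard'] at this
    have hrdvd : r ∣ p ^ 2 - 1 := by
      rw [← hordA]; exact orderOf_dvd_of_pow_eq_one hq
    -- arithmetic
    have hp2 : 2 ≤ p := hp.two_le
    have h2s : p + 1 = 2 ^ s := by omega
    have hfac : p ^ 2 - 1 = (p - 1) * (p + 1) := by
      obtain ⟨m, rfl⟩ : ∃ m, p = m + 1 := ⟨p - 1, by omega⟩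
      simp only [Nat.add_sub_cancel]
      have : (m + 1) ^ 2 = m * (m + 1 + 1) + 1 := by ring
      rw [this, Nat.add_sub_cancel]
    have hpodd : 2 ∣ p - 1 := by
      rcases hp.eq_two_or_odd with h | h
      · exfalso
        rw [h] at h2s
        have h3 : (2 : ℕ) ^ s = 3 := by omega
        have : (2 : ℕ) ∣ 2 ^ s := dvd_pow_self 2 (by rintro rfl; simp at h3)
        omega
      · omega
    have hrp1 : r ∣ p - 1 := by
      rw [hfac, h2s] at hrdvd
      rcases (Nat.Prime.dvd_mul hord).1 hrdvd with h | h
      · exact h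
      · have : r ∣ 2 := hord.dvd_of_dvd_pow h
        have hr2 : r = 2 := (Nat.prime_dvd_prime_iff_eq hord Nat.prime_two).1 this
        rw [hr2]; exact hpodd
    have hap1 : (a : GaloisField p 2) ^ (p - 1) = 1 := by
      obtain ⟨m, hm⟩ := hrp1
      rw [hm, pow_mul, har, one_pow]
    have hap : (a : GaloisField p 2) ^ p = a := by
      have h1 : (a : GaloisField p 2) ^ ((p - 1) + 1) = a := by rw [pow_succ, hap1, one_mul]
      have h2 : (p - 1) + 1 = p := by omega
      rwa [h2] at h1
    obtain ⟨a₀, ha₀⟩ := mem_range_of_pow_eq p (GaloisField p 2) (a : GaloisField p 2) hap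
    have ha₀0 : a₀ ≠ 0 := by
      rintro rfl
      rw [map_zero] at ha₀
      exact ha0 ha₀.symm
    refine ⟨Equiv.subRight c, ⟨1, -c, fun y => by simp [sub_eq_add_neg]⟩, a₀, 0, ha₀0, ?_⟩
    apply key
    intro y'
    simp only [Equiv.subRight_apply, hgab y', ha₀, map_zero, add_zero]
    rw [← hcb]; ring

end Cfsg.Agent.S5728
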