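-- Statement S5738: the normaliser of a Singer cycle in GL_n(q) has order n(q^n - 1).
import Cfsg.Statements.S5738

set_option autoImplicit false

namespace Cfsg.Agent.S5738

variable {F K : Type*} [Field F] [Field K] [Algebra F K]

/-- Left multiplication by a unit of `K`, as a unit of `End_F K`. -/
noncomputable def L (F : Type*) {K : Type*} [Field F] [Field K] [Algebra F K] (a : Kˣ) : (Module.End F K)ˣ :=
  Units.map ((Algebra.lmul F K : K →ₐ[F] Module.End F K) : K →* Module.End F K) a

theorem L_apply (a : Kˣ) (x : K) : ((L F a : (Module.End F K)ˣ) : Module.End F K) x = (a : K) * x := by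
  simp [L]

theorem unit_apply_inv (g : (Module.End F K)ˣ) (x : K) :
    (g : Module.End F K) (((g⁻¹ : (Module.End F K)ˣ) : Module.End F K) x) = x := by
  have h : (g : Module.End F K) * ((g⁻¹ : (Module.End F K)ˣ) : Module.End F K) = 1 := Units.mul_inv g
  calc (g : Module.End F K) (((g⁻¹ : (Module.End F K)ˣ) : Module.End F K) x)
      = ((g : Module.End F K) * ((g⁻¹ : (Module.End F K)ˣ) : Module.End F K)) x := rfl
    _ = x := by rw [h]; rfl

theorem unit_inv_apply (g : (Module.End F K)ˣ) (x : K) :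
    ((g⁻¹ : (Module.End F K)ˣ) : Module.End F K) ((g : Module.End F K) x) = x := by
  have h : ((g⁻¹ : (Module.End F K)ˣ) : Module.End F K) * (g : Module.End F K) = 1 := Units.inv_mul g
  calc ((g⁻¹ : (Module.End F K)ˣ) : Module.End F K) ((g : Module.End F K) x)
      = (((g⁻¹ : (Module.End F K)ˣ) : Module.End F K) * (g : Module.End F K)) x := rfl
    _ = x := by rw [h]; rfl

theorem unit_ext {g h : (Module.End F K)ˣ} (H : ∀ x : K, (g : Module.End F K) x = (h : Module.End F K) x) : g = h :=
  Units.ext (LinearMap.ext H)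

/-- The Singer subgroup. -/
noncomputable abbrev singer (F K : Type*) [Field F] [Field K] [Algebra F K] : Subgroup (Module.End F K)ˣ :=
  (Units.map ((Algebra.lmul F K : K →ₐ[F] Module.End F K) : K →* Module.End F K)).range

theorem mem_singer_iff (h : (Module.End F K)ˣ) : h ∈ singer F K ↔ ∃ a : Kˣ, L F a = h := Iff.rfl

/-- The element `x ↦ b * τ x`. -/
noncomputable def elt (b : Kˣ) (τ : K ≃ₐ[F] K) : (Module.End F K)ˣ :=
  L F b * LinearMap.GeneralLinearGroup.ofLinearEquiv τ.toLinearEquiv

theorem elt_apply (b : Kˣ) (τ : K ≃ₐ[F] K) (x : K) :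
    ((elt b τ : (Module.End F K)ˣ) : Module.End F K) x = (b : K) * τ x := by
  simp [elt, L_apply]

theorem elt_comm (b : Kˣ) (τ : K ≃ₐ[F] K) (a : Kˣ) :
    elt b τ * L F a = L F (Units.map (τ : K →* K) a) * elt b τ := by
  apply unit_ext
  intro x
  simp only [Units.val_mul, Module.End.mul_apply, elt_apply, L_apply, map_mul, Units.coe_map, MonoidHom.coe_coe]
  ring

theorem elt_mem_normalizer (b : Kˣ) (τ : K ≃ₐ[F] K) :
    elt b τ ∈ Subgroup.normalizer ((singer F K : Subgroup (Module.End F K)ˣ) : Set (Module.End F K)ˣ) := by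
  rw [Subgroup.mem_normalizer_iff]
  intro h
  constructor
  · intro hh
    obtain ⟨a, rfl⟩ := (mem_singer_iff h).1 hh
    rw [mem_singer_iff]
    refine ⟨Units.map (τ : K →* K) a, ?_⟩
    rw [eq_mul_inv_iff_mul_eq, elt_comm]
  · intro hh
    obtain ⟨c, hc⟩ := (mem_singer_iff _).1 hh
    rw [mem_singer_iff]
    refine ⟨Units.map (τ.symm : K →* K) c, ?_⟩
    have h1 := elt_comm b τ (Units.map (τ.symm : K →* K) c)
    have h2 : Units.map (τ : K →* K) (Units.map (τ.symm : K →* K) c) = c := by
      ext; simp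
    rw [h2, hc] at h1
    -- elt * L a = elt * h * elt⁻¹ * elt
    have : elt b τ * L F (Units.map (τ.symm : K →* K) c) = elt b τ * h := by
      rw [h1]; group
    exact mul_left_cancel this

theorem elt_injective : Function.Injective (fun bt : Kˣ × (K ≃ₐ[F] K) => elt bt.1 bt.2) := by
  rintro ⟨b, τ⟩ ⟨b', τ'⟩ h
  simp only at h
  have hb : (b : K) = b' := by
    have := congrArg (fun g : (Module.End F K)ˣ => (g : Module.End F K) 1) h
    simpa [elt_apply] using this
  have hb' : b = b' := Units.ext hb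
  subst hb'
  have hτ : τ = τ' := by
    ext x
    have := congrArg (fun g : (Module.End F K)ˣ => (g : Module.End F K) x) h
    simp only [elt_apply] at this
    exact mul_left_cancel₀ b.ne_zero this
  rw [hτ]

theorem exists_elt_of_mem_normalizer [Finite K] (g : (Module.End F K)ˣ)
    (hg : g ∈ Subgroup.normalizer ((singer F K : Subgroup (Module.End F K)ˣ) : Set (Module.End F K)ˣ)) :
    ∃ (b : Kˣ) (τ : K ≃ₐ[F] K), elt b τ = g := by
  rw [Subgroup.mem_normalizer_iff] at hg
  set u : K := ((g⁻¹ : (Module.End F K)ˣ) : Module.End F K) 1 with hu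
  have hgu : (g : Module.End F K) u = 1 := unit_apply_inv g 1
  have hu0 : u ≠ 0 := by
    rintro h0
    rw [h0, map_zero] at hgu
    exact zero_ne_one hgu
  -- the linear map τ₀ a = g (a * u)
  let τ₀ : K →ₗ[F] K := (g : Module.End F K) ∘ₗ LinearMap.mulRight F u
  have hτ₀ : ∀ a, τ₀ a = (g : Module.End F K) (a * u) := fun a => rfl
  have hone : τ₀ 1 = 1 := by rw [hτ₀, one_mul, hgu]
  have hmul : ∀ a b, τ₀ (a * b) = τ₀ a * τ₀ b := by
    intro a b
    by_cases ha : a = 0
    · subst ha; simp
    · obtain ⟨c, hc⟩ := (mem_singer_iff _).1 ((hg (L F (Units.mk0 a ha))).1 ((mem_singer_iff _).2 ⟨_, rfl⟩))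
      have h1 : (c : K) = τ₀ a := by
        have := congrArg (fun f : (Module.End F K)ˣ => (f : Module.End F K) 1) hc
        simp only [L_apply, Units.val_mul, Module.End.mul_apply, mul_one, Units.val_mk0] at this
        rw [this, hτ₀]
      have h2 := congrArg (fun f : (Module.End F K)ˣ => (f : Module.End F K) (τ₀ b)) hc
      simp only [L_apply, Units.val_mul, Module.End.mul_apply, Units.val_mk0] at h2
      rw [hτ₀ b, unit_inv_apply] at h2
      rw [hτ₀ (a * b), mul_assoc, ← h2, h1, hτ₀ b]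
  let τ₁ : K →ₐ[F] K := AlgHom.ofLinearMap τ₀ hone hmul
  have hτ₁ : ∀ a, τ₁ a = (g : Module.End F K) (a * u) := fun a => rfl
  have hinj : Function.Injective τ₁ := τ₁.toRingHom.injective
  have hbij : Function.Bijective τ₁ := ⟨hinj, Finite.surjective_of_injective hinj⟩
  let τ : K ≃ₐ[F] K := AlgEquiv.ofBijective τ₁ hbij
  have hτ : ∀ a, τ a = (g : Module.End F K) (a * u) := fun a => rfl
  have hb0 : (g : Module.End F K) 1 ≠ 0 := by
    intro h0
    have := unit_inv_apply g 1
    rw [h0, map_zero] at this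
    exact zero_ne_one this
  refine ⟨Units.mk0 _ hb0, τ, ?_⟩
  apply unit_ext
  intro x
  rw [elt_apply, Units.val_mk0]
  -- g x = τ (x * u⁻¹) = τ x * τ (u⁻¹), g 1 = τ (u⁻¹)
  have h1 : (g : Module.End F K) x = τ (x * u⁻¹) := by
    rw [hτ, mul_assoc, inv_mul_cancel₀ hu0, mul_one]
  have h2 : (g : Module.End F K) 1 = τ (u⁻¹) := by
    rw [hτ, inv_mul_cancel₀ hu0]
  rw [h1, h2, map_mul, mul_comm]

theorem result {F K : Type*} [Field F] [Fintype F] [Field K] [Fintype K] [Algebra F K] (n : ℕ) (hn : 2 ≤ n) (hdim : Module.finrank F K = n) :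
    Nat.card (Subgroup.normalizer (((Units.map ((Algebra.lmul F K : K →ₐ[F] Module.End F K) : K →* Module.End F K)).range : Subgroup (Module.End F K)ˣ) : Set (Module.End F K)ˣ)) = n * (Fintype.card K - 1) := by
  classical
  let N := Subgroup.normalizer ((singer F K : Subgroup (Module.End F K)ˣ) : Set (Module.End F K)ˣ)
  change Nat.card N = _
  let Φ : Kˣ × (K ≃ₐ[F] K) → N := fun bt => ⟨elt bt.1 bt.2, elt_mem_normalizer bt.1 bt.2⟩
  have hΦ : Function.Bijective Φ := by
    constructor
    · intro x y hxy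
      apply elt_injective
      exact congrArg Subtype.val hxy
    · rintro ⟨g, hg⟩
      obtain ⟨b, τ, h⟩ := exists_elt_of_mem_normalizer g hg
      exact ⟨(b, τ), Subtype.ext h⟩
  rw [← Nat.card_congr (Equiv.ofBijective Φ hΦ), Nat.card_prod, IsGalois.card_aut_eq_finrank, hdim,
    Nat.card_eq_fintype_card, Fintype.card_units, mul_comm]

end Cfsg.Agent.S5738
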