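-- Statement S5739: distinct conjugate Singer groups meet in the units of a proper subfield.
import Cfsg.Statements.S5739
import Cfsg.Agent.S5738

set_option autoImplicit false

namespace Cfsg.Agent.S5739

open Cfsg.Agent.S5738

variable {F K : Type*} [Field F] [Field K] [Algebra F K]

theorem lmul_apply' (a x : K) : (Algebra.lmul F K a) x = a * x := rfl

/-- The subfield of those `a` such that `L_a` is `g`-conjugate to some `L_b`. -/
noncomputable def conjField (g : (Module.End F K)ˣ) : IntermediateField F K where
  carrier := {a | ∃ b : K, Algebra.lmul F K a * (g : Module.End F K) = (g : Module.End F K) * Algebra.lmul F K b}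
  mul_mem' := by
    rintro a a' ⟨b, hb⟩ ⟨b', hb'⟩
    refine ⟨b * b', ?_⟩
    rw [map_mul, map_mul, mul_assoc, hb', ← mul_assoc, hb, mul_assoc]
  one_mem' := ⟨1, by rw [map_one, one_mul, mul_one]⟩
  add_mem' := by
    rintro a a' ⟨b, hb⟩ ⟨b', hb'⟩
    refine ⟨b + b', ?_⟩
    rw [map_add, map_add, add_mul, mul_add, hb, hb']
  zero_mem' := ⟨0, by simp⟩
  algebraMap_mem' := by
    intro c
    refine ⟨algebraMap F K c, ?_⟩
    rw [AlgHom.commutes]
    exact (Algebra.commutes c (g : Module.End F K))
  inv_mem' := by
    rintro a ⟨b, hb⟩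
    by_cases ha : a = 0
    · subst ha; exact ⟨0, by simp⟩
    · have hb0 : b ≠ 0 := by
        rintro rfl
        rw [map_zero, mul_zero] at hb
        -- lmul a * g = 0, apply to g⁻¹ 1
        have := congrArg (fun f : Module.End F K => f (((g⁻¹ : (Module.End F K)ˣ) : Module.End F K) 1)) hb
        simp only [Module.End.mul_apply, unit_apply_inv, lmul_apply', mul_one, LinearMap.zero_apply] at this
        exact ha this
      refine ⟨b⁻¹, ?_⟩
      -- lmul a⁻¹ * g = lmul a⁻¹ * g * lmul b * lmul b⁻¹ = lmul a⁻¹ * lmul a * g * lmul b⁻¹ = g * lmul b⁻¹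
      have h1 : Algebra.lmul F K a⁻¹ * Algebra.lmul F K a = 1 := by
        rw [← map_mul, inv_mul_cancel₀ ha, map_one]
      have h2 : Algebra.lmul F K b * Algebra.lmul F K b⁻¹ = 1 := by
        rw [← map_mul, mul_inv_cancel₀ hb0, map_one]
      calc Algebra.lmul F K a⁻¹ * (g : Module.End F K)
          = Algebra.lmul F K a⁻¹ * ((g : Module.End F K) * (Algebra.lmul F K b * Algebra.lmul F K b⁻¹)) := by
            rw [h2, mul_one]
        _ = Algebra.lmul F K a⁻¹ * (((g : Module.End F K) * Algebra.lmul F K b) * Algebra.lmul F K b⁻¹) := by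
            rw [mul_assoc]
        _ = (Algebra.lmul F K a⁻¹ * Algebra.lmul F K a) * (g : Module.End F K) * Algebra.lmul F K b⁻¹ := by
            rw [← hb]; simp only [mul_assoc]
        _ = (g : Module.End F K) * Algebra.lmul F K b⁻¹ := by rw [h1, one_mul]

theorem mem_conjField (g : (Module.End F K)ˣ) (a : K) :
    a ∈ conjField g ↔ ∃ b : K, Algebra.lmul F K a * (g : Module.End F K) = (g : Module.End F K) * Algebra.lmul F K b :=
  Iff.rfl

theorem L_val (a : Kˣ) : ((L F a : (Module.End F K)ˣ) : Module.End F K) = Algebra.lmul F K (a : K) := rfl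

/-- The map from the units of `conjField g` to the units of the endomorphism ring. -/
noncomputable def phi (g : (Module.End F K)ˣ) : (conjField g)ˣ →* (Module.End F K)ˣ :=
  (Units.map ((Algebra.lmul F K : K →ₐ[F] Module.End F K) : K →* Module.End F K)).comp
    (Units.map ((conjField g).val : (conjField g) →* K))

theorem inter_le_range (g : (Module.End F K)ˣ) :
    (singer F K).map (MulAut.conj g).toMonoidHom ⊓ singer F K ≤ (phi g).range := by
  rintro h ⟨h1, h2⟩
  obtain ⟨a, rfl⟩ := (mem_singer_iff h).1 h2
  obtain ⟨x, hx, hxa⟩ := Subgroup.mem_map.1 h1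
  obtain ⟨b, rfl⟩ := (mem_singer_iff x).1 hx
  have hconj : g * L F b * g⁻¹ = L F a := hxa
  have hmem : (a : K) ∈ conjField g := by
    refine ⟨(b : K), ?_⟩
    have : L F a * g = g * L F b := by rw [← hconj]; group
    have := congrArg (fun u : (Module.End F K)ˣ => (u : Module.End F K)) this
    simpa [L_val] using this
  refine ⟨Units.mk0 ⟨(a : K), hmem⟩ (by
    intro h0
    exact a.ne_zero (congrArg Subtype.val h0)), ?_⟩
  apply Units.ext
  rfl

theorem result {F K : Type*} [Field F] [Fintype F] [Field K] [Fintype K] [Algebra F K] (n : ℕ) (hn : 2 ≤ n) (hdim : Module.finrank F K = n)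
    (g : (Module.End F K)ˣ) (hg : ((Units.map ((Algebra.lmul F K : K →ₐ[F] Module.End F K) : K →* Module.End F K)).range).map (MulAut.conj g).toMonoidHom ≠ (Units.map ((Algebra.lmul F K : K →ₐ[F] Module.End F K) : K →* Module.End F K)).range) :
    ∃ r : ℕ, 1 ≤ r ∧ r ∣ n ∧ r < n ∧ Nat.card ↥(((Units.map ((Algebra.lmul F K : K →ₐ[F] Module.End F K) : K →* Module.End F K)).range).map (MulAut.conj g).toMonoidHom ⊓ (Units.map ((Algebra.lmul F K : K →ₐ[F] Module.End F K) : K →* Module.End F K)).range) ∣ Fintype.card F ^ r - 1 := by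
  classical
  change (singer F K).map (MulAut.conj g).toMonoidHom ≠ singer F K at hg
  change ∃ r : ℕ, 1 ≤ r ∧ r ∣ n ∧ r < n ∧ Nat.card ↥((singer F K).map (MulAut.conj g).toMonoidHom ⊓ singer F K) ∣ Fintype.card F ^ r - 1
  set E := conjField g with hE
  have hfin : FiniteDimensional F K := FiniteDimensional.of_finrank_pos (by omega)
  refine ⟨Module.finrank F E, ?_, ?_, ?_, ?_⟩
  · exact Module.finrank_pos
  · rw [← hdim, ← Module.finrank_mul_finrank F E K]
    exact dvd_mul_right _ _
  · have hle : Module.finrank F E ≤ n := by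
      rw [← hdim]; exact Submodule.finrank_le E.toSubalgebra.toSubmodule
    refine lt_of_le_of_ne hle ?_
    intro heq
    have htop : E = ⊤ := by
      apply IntermediateField.eq_of_le_of_finrank_eq le_top
      rw [heq, IntermediateField.finrank_top', hdim]
    apply hg
    symm
    have hfinS : Finite (singer F K) := Finite.of_surjective _ (MonoidHom.rangeRestrict_surjective _)
    have hfinM : Finite ((singer F K).map (MulAut.conj g).toMonoidHom) := by
      apply Nat.finite_of_card_ne_zero
      rw [Subgroup.card_map_of_injective (MulAut.conj g).injective]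
      exact Nat.card_pos.ne'
    apply Subgroup.eq_of_le_of_card_ge
    · intro h hh
      obtain ⟨a, rfl⟩ := (mem_singer_iff h).1 hh
      have ha : (a : K) ∈ E := by rw [htop]; trivial
      obtain ⟨b, hb⟩ := ha
      have hb0 : b ≠ 0 := by
        rintro rfl
        rw [map_zero, mul_zero] at hb
        have := congrArg (fun f : Module.End F K => f (((g⁻¹ : (Module.End F K)ˣ) : Module.End F K) 1)) hb
        simp only [Module.End.mul_apply, unit_apply_inv, lmul_apply', mul_one, LinearMap.zero_apply] at this
        exact a.ne_zero this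
      rw [Subgroup.mem_map]
      refine ⟨L F (Units.mk0 b hb0), (mem_singer_iff _).2 ⟨_, rfl⟩, ?_⟩
      change g * L F (Units.mk0 b hb0) * g⁻¹ = L F a
      rw [mul_inv_eq_iff_eq_mul]
      apply Units.ext
      simpa [L_val] using hb.symm
    · rw [Subgroup.card_map_of_injective (MulAut.conj g).injective]
  · calc Nat.card ↥((singer F K).map (MulAut.conj g).toMonoidHom ⊓ singer F K)
        ∣ Nat.card (phi g).range := Subgroup.card_dvd_of_le (inter_le_range g)
      _ ∣ Nat.card (E)ˣ := Subgroup.card_range_dvd (phi g)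
      _ = Fintype.card F ^ Module.finrank F E - 1 := by
          rw [Nat.card_eq_fintype_card, Fintype.card_units, Module.card_eq_pow_finrank (K := F) (V := E)]

end Cfsg.Agent.S5739
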