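-- Statement S5747: the IBIS property (Cameron, Fon-Der-Flaass).
import Cfsg.Statements.S5747

set_option autoImplicit false

namespace Cfsg.Agent.S5747

variable {Ω : Type*}

/-- `f` is a base. -/
def Bs (G : Type*) [Group G] [MulAction G Ω] {t : ℕ} (f : Fin t → Ω) : Prop :=
  ∀ g : G, (∀ i : Fin t, g • f i = f i) → g = 1

/-- `f` is irredundant. -/
def Irr (G : Type*) [Group G] [MulAction G Ω] {t : ℕ} (f : Fin t → Ω) : Prop :=
  ∀ i : Fin t, ∃ g : G, (∀ j : Fin t, j < i → g • f j = f j) ∧ g • f i ≠ f i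

/-- Finset versions -/
def BaseS (G : Type*) [Group G] [MulAction G Ω] (A : Finset Ω) : Prop :=
  ∀ g : G, (∀ x ∈ A, g • x = x) → g = 1

def SIS (G : Type*) [Group G] [MulAction G Ω] (A : Finset Ω) : Prop :=
  ∀ a ∈ A, ∃ g : G, (∀ x ∈ A, x ≠ a → g • x = x) ∧ g • a ≠ a

/-- reordering property -/
def RR (G : Type*) (Ω : Type*) [Group G] [MulAction G Ω] : Prop :=
  ∀ (t : ℕ) (f : Fin t → Ω) (σ : Equiv.Perm (Fin t)), (Bs G f ∧ Irr G f) → (Bs G (f ∘ σ) ∧ Irr G (f ∘ σ))

variable {G : Type*} [Group G] [MulAction G Ω]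

theorem irr_injective {t : ℕ} (f : Fin t → Ω) (hf : Irr G f) : Function.Injective f := by
  intro i j hij
  by_contra hne
  rcases lt_or_gt_of_ne hne with h | h
  · obtain ⟨g, hg1, hg2⟩ := hf j
    apply hg2
    rw [← hij]; exact hg1 i h
  · obtain ⟨g, hg1, hg2⟩ := hf i
    apply hg2
    rw [hij]; exact hg1 j h

theorem irr_snoc {s : ℕ} (f : Fin s → Ω) (x : Ω) (hf : Irr G f)
    (hx : ∃ g : G, (∀ j, g • f j = f j) ∧ g • x ≠ x) : Irr G (Fin.snoc f x : Fin (s + 1) → Ω) := by
  intro i
  induction i using Fin.lastCases with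
  | last =>
    obtain ⟨g, hg1, hg2⟩ := hx
    refine ⟨g, ?_, ?_⟩
    · intro j hj
      induction j using Fin.lastCases with
      | last => exact absurd hj (lt_irrefl _)
      | cast j => simpa using hg1 j
    · simpa using hg2
  | cast i =>
    obtain ⟨g, hg1, hg2⟩ := hf i
    refine ⟨g, ?_, ?_⟩
    · intro j hj
      induction j using Fin.lastCases with
      | last =>
        exfalso
        exact absurd hj (not_lt.2 (Fin.le_last _))
      | cast j =>
        simp only [Fin.snoc_castSucc]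
        exact hg1 j (by simpa using hj)
    · simpa using hg2

/-- Pruning a base to an irredundant base. -/
theorem prune : ∀ (s : ℕ) (h : Fin s → Ω), Bs G h →
    ∃ (s' : ℕ) (h' : Fin s' → Ω), (Bs G h' ∧ Irr G h') ∧ s' ≤ s ∧ (¬ Irr G h → s' < s) := by
  intro s
  induction s with
  | zero =>
    intro h hb
    exact ⟨0, h, ⟨hb, fun i => i.elim0⟩, le_rfl, fun hn => absurd (fun i => i.elim0) hn⟩
  | succ s ih =>
    intro h hb
    by_cases hirr : Irr G h
    · exact ⟨s + 1, h, ⟨hb, hirr⟩, le_rfl, fun hn => absurd hirr hn⟩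
    · unfold Irr at hirr
      push Not at hirr
      obtain ⟨i, hi⟩ := hirr
      have hb1 : Bs G (fun k => h (i.succAbove k)) := by
        intro g hg
        apply hb
        have hne : ∀ j, j ≠ i → g • h j = h j := by
          intro j hj
          obtain ⟨k, rfl⟩ := Fin.exists_succAbove_eq hj
          exact hg k
        intro j
        by_cases hj : j = i
        · subst hj
          exact hi g (fun j' hj' => hne j' (ne_of_lt hj'))
        · exact hne j hj
      obtain ⟨s', h', hib, hle, -⟩ := ih _ hb1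
      exact ⟨s', h', hib, Nat.le_succ_of_le hle, fun _ => Nat.lt_succ_of_le hle⟩

/-- Under the reordering property every point of an irredundant base is moved by the stabiliser of the others. -/
theorem rr_si (hR : RR G Ω) {t : ℕ} (f : Fin t → Ω) (hf : Bs G f ∧ Irr G f) (i : Fin t) :
    ∃ g : G, (∀ j, j ≠ i → g • f j = f j) ∧ g • f i ≠ f i := by
  cases t with
  | zero => exact i.elim0
  | succ s =>
    set σ : Equiv.Perm (Fin (s + 1)) := Equiv.swap i (Fin.last s) with hσ
    obtain ⟨-, hirr⟩ := hR _ f σ hf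
    obtain ⟨g, hg1, hg2⟩ := hirr (Fin.last s)
    have hσl : σ (Fin.last s) = i := by simp [hσ]
    refine ⟨g, ?_, ?_⟩
    · intro j hj
      have hj' : σ j ≠ Fin.last s := by
        intro h
        apply hj
        have : σ (σ j) = σ (Fin.last s) := by rw [h]
        rw [hσl] at this
        simpa [hσ] using this
      have := hg1 (σ j) (Fin.lt_last_iff_ne_last.2 hj')
      simpa [hσ] using this
    · simpa [hσl] using hg2

open Classical in
theorem mb_of_ib (hR : RR G Ω) {t : ℕ} (f : Fin t → Ω) (hf : Bs G f ∧ Irr G f) :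
    BaseS G (Finset.univ.image f) ∧ SIS G (Finset.univ.image f) := by
  constructor
  · intro g hg
    apply hf.1
    intro i
    exact hg _ (Finset.mem_image_of_mem f (Finset.mem_univ i))
  · intro a ha
    rw [Finset.mem_image] at ha
    obtain ⟨i, -, rfl⟩ := ha
    obtain ⟨g, hg1, hg2⟩ := rr_si hR f hf i
    refine ⟨g, ?_, hg2⟩
    intro x hx hxa
    rw [Finset.mem_image] at hx
    obtain ⟨j, -, rfl⟩ := hx
    exact hg1 j (fun h => hxa (by rw [h]))

theorem exists_enum (A : Finset Ω) : ∃ f : Fin A.card → Ω, Function.Injective f ∧ ∀ x, x ∈ A ↔ ∃ i, f i = x := by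
  refine ⟨fun i => (A.equivFin.symm i : Ω), ?_, ?_⟩
  · intro i j hij
    exact A.equivFin.symm.injective (Subtype.ext hij)
  · intro x
    constructor
    · intro hx
      exact ⟨A.equivFin ⟨x, hx⟩, by simp⟩
    · rintro ⟨i, rfl⟩
      exact (A.equivFin.symm i).2

open Classical in
/-- Exchange. -/
theorem exchange (hR : RR G Ω) (A : Finset Ω) (hA : BaseS G A) (hA' : SIS G A) (a : Ω) (ha : a ∈ A) (b : Ω)
    (g₀ : G) (hg₀ : ∀ x ∈ A.erase a, g₀ • x = x) (hg₀b : g₀ • b ≠ b) :
    BaseS G (insert b (A.erase a)) ∧ SIS G (insert b (A.erase a)) := by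
  obtain ⟨s, f₀, hinj, hmem⟩ : ∃ (s : ℕ) (f₀ : Fin s → Ω), Function.Injective f₀ ∧
      ∀ x, x ∈ A.erase a ↔ ∃ i, f₀ i = x := ⟨_, exists_enum (A.erase a)⟩
  have hf₀A : ∀ i, f₀ i ∈ A := fun i => Finset.mem_of_mem_erase ((hmem _).2 ⟨i, rfl⟩)
  have hf₀a : ∀ i, f₀ i ≠ a := fun i => Finset.ne_of_mem_erase ((hmem _).2 ⟨i, rfl⟩)
  have hirr₀ : Irr G f₀ := by
    intro i
    obtain ⟨g, hg1, hg2⟩ := hA' (f₀ i) (hf₀A i)
    refine ⟨g, ?_, hg2⟩
    intro j hj
    exact hg1 _ (hf₀A j) (fun h => (ne_of_lt hj) (hinj h))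
  have hfixA : ∀ g : G, (∀ i, g • f₀ i = f₀ i) → g • a = a → g = 1 := by
    intro g hg hga
    apply hA
    intro x hx
    by_cases hxa : x = a
    · rw [hxa]; exact hga
    · obtain ⟨i, rfl⟩ := (hmem x).1 (Finset.mem_erase.2 ⟨hxa, hx⟩)
      exact hg i
  have hg₀' : ∀ i, g₀ • f₀ i = f₀ i := fun i => hg₀ _ ((hmem _).2 ⟨i, rfl⟩)
  set h1 : Fin (s + 1) → Ω := Fin.snoc f₀ b with hh1
  have hirr1 : Irr G h1 := irr_snoc f₀ b hirr₀ ⟨g₀, hg₀', hg₀b⟩
  -- Step 1
  have hbase1 : Bs G h1 := by
    intro g₁ hg₁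
    by_contra hne
    have hg₁f : ∀ i, g₁ • f₀ i = f₀ i := by
      intro i
      have := hg₁ i.castSucc
      simpa [hh1] using this
    have hg₁b : g₁ • b = b := by
      have := hg₁ (Fin.last s)
      simpa [hh1] using this
    have hg₁a : g₁ • a ≠ a := fun h => hne (hfixA g₁ hg₁f h)
    set h2 : Fin (s + 2) → Ω := Fin.snoc h1 a with hh2
    have hirr2 : Irr G h2 := irr_snoc h1 a hirr1 ⟨g₁, hg₁, hg₁a⟩
    have hbase2 : Bs G h2 := by
      intro g hg
      apply hfixA g
      · intro i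
        have := hg i.castSucc.castSucc
        simpa [hh2, hh1] using this
      · have := hg (Fin.last (s + 1))
        simpa [hh2] using this
    set σ : Equiv.Perm (Fin (s + 2)) := Equiv.swap (Fin.last s).castSucc (Fin.last (s + 1)) with hσ
    obtain ⟨-, hirrσ⟩ := hR _ h2 σ ⟨hbase2, hirr2⟩
    obtain ⟨g, hg1, hg2⟩ := hirrσ (Fin.last (s + 1))
    have hσl : σ (Fin.last (s + 1)) = (Fin.last s).castSucc := by simp [hσ]
    have hσc : σ (Fin.last s).castSucc = Fin.last (s + 1) := by simp [hσ]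
    have hne' : (Fin.last s).castSucc ≠ Fin.last (s + 1) := (Fin.castSucc_lt_last _).ne
    have hga : g • a = a := by
      have := hg1 (Fin.last s).castSucc (Fin.castSucc_lt_last _)
      simp only [Function.comp_apply, hσc] at this
      simpa [hh2] using this
    have hgf : ∀ i, g • f₀ i = f₀ i := by
      intro i
      have hlt : i.castSucc.castSucc < Fin.last (s + 1) := Fin.castSucc_lt_last _
      have := hg1 i.castSucc.castSucc hlt
      have hσi : σ i.castSucc.castSucc = i.castSucc.castSucc := by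
        rw [hσ]
        apply Equiv.swap_apply_of_ne_of_ne
        · intro h
          have := Fin.castSucc_injective _ h
          exact (Fin.castSucc_lt_last i).ne this
        · exact hlt.ne
      simp only [Function.comp_apply, hσi] at this
      simpa [hh2, hh1] using this
    have hg1' : g = 1 := hfixA g hgf hga
    apply hg2
    simp only [Function.comp_apply, hσl, hg1', one_smul]
  -- Step 3
  have himage : Finset.univ.image h1 = insert b (A.erase a) := by
    ext x
    simp only [Finset.mem_image, Finset.mem_univ, true_and, Finset.mem_insert]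
    constructor
    · rintro ⟨i, rfl⟩
      induction i using Fin.lastCases with
      | last => left; simp [hh1]
      | cast i => right; rw [hmem]; exact ⟨i, by simp [hh1]⟩
    · rintro (rfl | hx)
      · exact ⟨Fin.last s, by simp [hh1]⟩
      · obtain ⟨i, rfl⟩ := (hmem x).1 hx
        exact ⟨i.castSucc, by simp [hh1]⟩
  have := mb_of_ib hR h1 ⟨hbase1, hirr1⟩
  rwa [himage] at this

open Classical in
theorem card_le_of_mb (hR : RR G Ω) : ∀ (n : ℕ) (A B : Finset Ω), BaseS G A → SIS G A → BaseS G B →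
    (A \ B).card = n → A.card ≤ B.card := by
  intro n
  induction n with
  | zero =>
    intro A B _ _ _ h
    rw [Finset.card_eq_zero, Finset.sdiff_eq_empty_iff_subset] at h
    exact Finset.card_le_card h
  | succ n ih =>
    intro A B hA hA' hB h
    have hne : (A \ B).Nonempty := by
      rw [← Finset.card_pos, h]; omega
    obtain ⟨a, ha⟩ := hne
    rw [Finset.mem_sdiff] at ha
    obtain ⟨g, hg1, hg2⟩ := hA' a ha.1
    -- g moves some b ∈ B
    have hb : ∃ b ∈ B, g • b ≠ b := by
      by_contra hcon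
      push Not at hcon
      have := hB g hcon
      rw [this, one_smul] at hg2
      exact hg2 rfl
    obtain ⟨b, hbB, hgb⟩ := hb
    have hg1' : ∀ x ∈ A.erase a, g • x = x := fun x hx =>
      hg1 x (Finset.mem_of_mem_erase hx) (Finset.ne_of_mem_erase hx)
    have hbA : b ∉ A.erase a := fun h => hgb (hg1' b h)
    obtain ⟨hX, hX'⟩ := exchange hR A hA hA' a ha.1 b g hg1' hgb
    have hcard : (insert b (A.erase a)).card = A.card := by
      rw [Finset.card_insert_of_notMem hbA, Finset.card_erase_of_mem ha.1]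
      have : 0 < A.card := Finset.card_pos.2 ⟨a, ha.1⟩
      omega
    have hsd : (insert b (A.erase a)) \ B = (A \ B).erase a := by
      ext x
      simp only [Finset.mem_sdiff, Finset.mem_insert, Finset.mem_erase]
      constructor
      · rintro ⟨rfl | ⟨hxa, hxA⟩, hxB⟩
        · exact absurd hbB hxB
        · exact ⟨hxa, hxA, hxB⟩
      · rintro ⟨hxa, hxA, hxB⟩
        exact ⟨Or.inr ⟨hxa, hxA⟩, hxB⟩
    have hsdc : ((insert b (A.erase a)) \ B).card = n := by
      rw [hsd, Finset.card_erase_of_mem (Finset.mem_sdiff.2 ha), h]; rfl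
    rw [← hcard]
    exact ih _ B hX hX' hB hsdc

theorem result {G Ω : Type*} [Group G] [Finite G] [MulAction G Ω] [Fintype Ω] :
    (∀ (t t' : ℕ) (f : Fin t → Ω) (f' : Fin t' → Ω), ((∀ g : G, (∀ i : Fin t, g • f i = f i) → g = 1) ∧ ∀ i : Fin t, ∃ g : G, (∀ j : Fin t, j < i → g • f j = f j) ∧ g • f i ≠ f i) → ((∀ g : G, (∀ i : Fin t', g • f' i = f' i) → g = 1) ∧ ∀ i : Fin t', ∃ g : G, (∀ j : Fin t', j < i → g • f' j = f' j) ∧ g • f' i ≠ f' i) → t = t') ↔
    (∀ (t : ℕ) (f : Fin t → Ω) (σ : Equiv.Perm (Fin t)), ((∀ g : G, (∀ i : Fin t, g • f i = f i) → g = 1) ∧ ∀ i : Fin t, ∃ g : G, (∀ j : Fin t, j < i → g • f j = f j) ∧ g • f i ≠ f i) → ((∀ g : G, (∀ i : Fin t, g • (f ∘ σ) i = (f ∘ σ) i) → g = 1) ∧ ∀ i : Fin t, ∃ g : G, (∀ j : Fin t, j < i → g • (f ∘ σ) j = (f ∘ σ) j) ∧ g • (f ∘ σ) i ≠ (f ∘ σ) i)) := by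
  classical
  change (∀ (t t' : ℕ) (f : Fin t → Ω) (f' : Fin t' → Ω), (Bs G f ∧ Irr G f) → (Bs G f' ∧ Irr G f') → t = t') ↔ RR G Ω
  constructor
  · intro hS t f σ hf
    have hbase : Bs G (f ∘ σ) := by
      intro g hg
      apply hf.1
      intro i
      have := hg (σ.symm i)
      simpa using this
    refine ⟨hbase, ?_⟩
    by_contra hirr
    obtain ⟨s', h', hib, -, hlt⟩ := prune (G := G) t (f ∘ σ) hbase
    have := hS t s' f h' hf hib
    have := hlt hirr
    omega
  · intro hR t t' f f' hf hf'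
    obtain ⟨hA, hA'⟩ := mb_of_ib hR f hf
    obtain ⟨hB, hB'⟩ := mb_of_ib hR f' hf'
    have h1 := card_le_of_mb hR _ _ _ hA hA' hB rfl
    have h2 := card_le_of_mb hR _ _ _ hB hB' hA rfl
    rw [Finset.card_image_of_injective _ (irr_injective f hf.2),
      Finset.card_image_of_injective _ (irr_injective f' hf'.2), Finset.card_univ, Finset.card_univ,
      Fintype.card_fin, Fintype.card_fin] at h1 h2
    omega

end Cfsg.Agent.S5747
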