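import Mathlib
import Cfsg.Statements.S5754

set_option autoImplicit false
open Cfsg

namespace Cfsg.Agent.S5754

section Refl

variable {F V : Type*} [Field F] [AddCommGroup V] [Module F V] (Q : QuadraticForm F V)

/-- the reflection along `a` as a linear map -/
def reflLin (a : V) : V →ₗ[F] V where
  toFun x := x - ((Q a)⁻¹ * QuadraticMap.polar Q x a) • a
  map_add' x y := by
    rw [QuadraticMap.polar_add_left]
    module
  map_smul' c x := by
    rw [QuadraticMap.polar_smul_left]
    simp only [RingHom.id_apply, smul_eq_mul]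
    module

theorem reflLin_apply (a x : V) :
    reflLin Q a x = x - ((Q a)⁻¹ * QuadraticMap.polar Q x a) • a := rfl

theorem Q_sub (x y : V) : Q (x - y) = Q x + Q y - QuadraticMap.polar Q x y := by
  rw [sub_eq_add_neg, QuadraticMap.map_add (⇑Q), QuadraticMap.map_neg, QuadraticMap.polar_neg_right]
  ring

theorem polar_refl (a : V) (ha : Q a ≠ 0) (x : V) :
    QuadraticMap.polar Q (reflLin Q a x) a = - QuadraticMap.polar Q x a := by
  rw [reflLin_apply, QuadraticMap.polar_sub_left, QuadraticMap.polar_smul_left,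
    QuadraticMap.polar_self]
  simp only [smul_eq_mul, nsmul_eq_mul, Nat.cast_ofNat]
  field_simp
  ring

theorem reflLin_involutive (a : V) (ha : Q a ≠ 0) : Function.Involutive (reflLin Q a) := by
  intro x
  rw [reflLin_apply, polar_refl Q a ha, reflLin_apply]
  module

theorem Q_reflLin (a : V) (ha : Q a ≠ 0) (x : V) : Q (reflLin Q a x) = Q x := by
  rw [reflLin_apply, Q_sub, QuadraticMap.map_smul, QuadraticMap.polar_smul_right]
  simp only [smul_eq_mul]
  field_simp
  ring

/-- the reflection along a nonsingular vector as an isometry -/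
def reflIso (a : V) (ha : Q a ≠ 0) : Q.IsometryEquiv Q where
  toLinearEquiv := LinearEquiv.ofInvolutive (reflLin Q a) (reflLin_involutive Q a ha)
  map_app' x := Q_reflLin Q a ha x

theorem reflIso_apply (a : V) (ha : Q a ≠ 0) (x : V) :
    reflIso Q a ha x = x - ((Q a)⁻¹ * QuadraticMap.polar Q x a) • a := rfl

theorem polar_iso (φ : Q.IsometryEquiv Q) (x y : V) :
    QuadraticMap.polar Q (φ x) (φ y) = QuadraticMap.polar Q x y := by
  unfold QuadraticMap.polar
  rw [← map_add, φ.map_app, φ.map_app, φ.map_app]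

theorem exists_iso (hQ : Q.Anisotropic) {n : ℕ} (k : ℕ) :
    ∀ (v v' : Fin n → V), (∀ i, Q (v i) = Q (v' i)) →
      (∀ i j, QuadraticMap.polar Q (v i) (v j) = QuadraticMap.polar Q (v' i) (v' j)) →
      ∃ φ : Q.IsometryEquiv Q, ∀ i : Fin n, (i : ℕ) < k → φ (v i) = v' i := by
  induction k with
  | zero =>
    intro v v' _ _
    exact ⟨QuadraticMap.IsometryEquiv.refl Q, fun i hi => absurd hi (Nat.not_lt_zero _)⟩
  | succ k ih =>
    intro v v' hq hp
    obtain ⟨φ, hφ⟩ := ih v v' hq hp
    by_cases hk : k < n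
    · set ik : Fin n := ⟨k, hk⟩ with hik
      by_cases hw : φ (v ik) = v' ik
      · refine ⟨φ, fun i hi => ?_⟩
        rcases Nat.lt_succ_iff_lt_or_eq.1 hi with h | h
        · exact hφ i h
        · have : i = ik := Fin.ext h
          rw [this]; exact hw
      · set w := φ (v ik) with hwdef
        set a := w - v' ik with ha
        have ha0 : a ≠ 0 := sub_ne_zero.2 hw
        have hQa : Q a ≠ 0 := fun h => ha0 (hQ a h)
        have hQw : Q w = Q (v' ik) := by rw [hwdef, φ.map_app, hq]
        have hQa' : Q a = 2 * Q w - QuadraticMap.polar Q w (v' ik) := by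
          rw [ha, Q_sub, ← hQw]; ring
        refine ⟨φ.trans (reflIso Q a hQa), fun i hi => ?_⟩
        show reflIso Q a hQa (φ (v i)) = v' i
        rcases Nat.lt_succ_iff_lt_or_eq.1 hi with h | h
        · rw [hφ i h, reflIso_apply]
          have : QuadraticMap.polar Q (v' i) a = 0 := by
            rw [ha, QuadraticMap.polar_sub_right, hwdef, ← hφ i h, polar_iso, hφ i h, hp]
            ring
          rw [this, mul_zero, zero_smul, sub_zero]
        · have : i = ik := Fin.ext h
          rw [this, ← hwdef, reflIso_apply]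
          have : QuadraticMap.polar Q w a = Q a := by
            rw [hQa', ha, QuadraticMap.polar_sub_right, QuadraticMap.polar_self]
            simp only [nsmul_eq_mul, Nat.cast_ofNat]
          rw [this, inv_mul_cancel₀ hQa, one_smul, ha]
          abel
    · refine ⟨φ, fun i _ => hφ i ?_⟩
      have := i.2
      omega

end Refl

theorem result {F V : Type*} [Field F] [Finite F] [AddCommGroup V] [Module F V] [Module.Finite F V]
    (Q : QuadraticForm F V) (hQ : Q.Anisotropic) (n : ℕ) (hn : 2 ≤ n) (u u' : Fin n → V)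
    (h2 : ∀ i j : Fin n, i ≠ j → ∃ (φ : Q.IsometryEquiv Q) (c : V), φ (u i) + c = u' i ∧ φ (u j) + c = u' j) :
    ∃ (φ : Q.IsometryEquiv Q) (c : V), ∀ i, φ (u i) + c = u' i := by
  have hd : ∀ i j : Fin n, Q (u i - u j) = Q (u' i - u' j) := by
    intro i j
    by_cases hij : i = j
    · rw [hij, sub_self, sub_self]
    · obtain ⟨φ, c, h1, h3⟩ := h2 i j hij
      rw [← h1, ← h3, add_sub_add_right_eq_sub, ← map_sub, φ.map_app]
  set i0 : Fin n := ⟨0, by omega⟩ with hi0
  set v : Fin n → V := fun i => u i - u i0 with hv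
  set v' : Fin n → V := fun i => u' i - u' i0 with hv'
  have hq : ∀ i, Q (v i) = Q (v' i) := fun i => hd i i0
  have hdd : ∀ i j, Q (v i - v j) = Q (v' i - v' j) := by
    intro i j
    have e1 : v i - v j = u i - u j := by simp only [hv]; abel
    have e2 : v' i - v' j = u' i - u' j := by simp only [hv']; abel
    rw [e1, e2, hd]
  have hp : ∀ i j, QuadraticMap.polar Q (v i) (v j) = QuadraticMap.polar Q (v' i) (v' j) := by
    intro i j
    have h1 := Q_sub Q (v i) (v j)
    have h3 := Q_sub Q (v' i) (v' j)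
    rw [hdd i j, hq i, hq j] at h1
    rw [h1] at h3
    linear_combination (-1 : F) * h3
  obtain ⟨φ, hφ⟩ := exists_iso Q hQ n v v' hq hp
  refine ⟨φ, u' i0 - φ (u i0), fun i => ?_⟩
  have := hφ i i.2
  simp only [hv, hv'] at this
  rw [map_sub] at this
  calc φ (u i) + (u' i0 - φ (u i0)) = (φ (u i) - φ (u i0)) + u' i0 := by abel
    _ = u' i := by rw [this]; abel

end Cfsg.Agent.S5754
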