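import Cfsg.Statements.S5905

set_option autoImplicit false
open Cfsg

namespace Cfsg.Agent.S5905

/-- The subgroup of permutations preserving the partition into the fibres of `f`. -/
def W {Ω : Type*} {b : ℕ} (f : Ω → Fin b) : Subgroup (Equiv.Perm Ω) where
  carrier := {g | ∀ x y : Ω, f x = f y ↔ f (g x) = f (g y)}
  mul_mem' := by
    intro g h hg hh x y
    rw [hh x y, hg (h x) (h y)]
    rfl
  one_mem' := by
    intro x y
    rfl
  inv_mem' := by
    intro g hg x y
    have := hg (g⁻¹ x) (g⁻¹ y)
    simp only [Equiv.Perm.coe_inv, Equiv.apply_symm_apply] at this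
    exact this.symm

theorem mem_W_of {Ω : Type*} {b : ℕ} (f : Ω → Fin b) (π : Equiv.Perm (Fin b)) (g : Equiv.Perm Ω)
    (h : ∀ u, f (g u) = π (f u)) : g ∈ W f := by
  intro x y
  rw [h x, h y]
  exact (π.injective.eq_iff).symm

theorem exists_equiv {Ω : Type*} [Fintype Ω] [DecidableEq Ω] (a b : ℕ)
    (f : Ω → Fin b) (hf : ∀ i : Fin b, Nat.card {x : Ω // f x = i} = a) :
    ∃ Φ : Ω ≃ Fin b × Fin a, ∀ u, (Φ u).1 = f u := by
  have ε : ∀ i : Fin b, {x : Ω // f x = i} ≃ Fin a := fun i =>
    Fintype.equivFinOfCardEq (by rw [← Nat.card_eq_fintype_card]; exact hf i)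
  refine ⟨(Equiv.sigmaFiberEquiv f).symm.trans
    ((Equiv.sigmaCongrRight ε).trans (Equiv.sigmaEquivProd (Fin b) (Fin a))), fun u => ?_⟩
  simp [Equiv.sigmaFiberEquiv]

theorem swap_mem_W {Ω : Type*} [DecidableEq Ω] {b : ℕ} (f : Ω → Fin b) (x y : Ω) (h : f x = f y) :
    Equiv.swap x y ∈ W f := by
  apply mem_W_of f 1
  intro u
  by_cases hx : u = x
  · subst hx; simp [h]
  by_cases hy : u = y
  · subst hy; simp [h]
  simp [Equiv.swap_apply_of_ne_of_ne hx hy]

theorem isCoatom_W {Ω : Type*} [Fintype Ω] [DecidableEq Ω] (a b : ℕ) (ha : 2 ≤ a) (hb : 2 ≤ b)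
    (f : Ω → Fin b) (hf : ∀ i : Fin b, Nat.card {x : Ω // f x = i} = a) : IsCoatom (W f) := by
  obtain ⟨Φ, hΦ⟩ := exists_equiv a b f hf
  have hfΦ : ∀ p : Fin b × Fin a, f (Φ.symm p) = p.1 := by
    intro p
    rw [← hΦ, Equiv.apply_symm_apply]
  refine ⟨?_, ?_⟩
  · -- W ≠ ⊤
    intro htop
    let i₀ : Fin b := ⟨0, by omega⟩
    let i₁ : Fin b := ⟨1, by omega⟩
    let s₀ : Fin a := ⟨0, by omega⟩
    let s₁ : Fin a := ⟨1, by omega⟩
    have hi : i₀ ≠ i₁ := by simp [i₀, i₁, Fin.ext_iff]
    have hs : s₀ ≠ s₁ := by simp [s₀, s₁, Fin.ext_iff]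
    set x := Φ.symm (i₀, s₀) with hx
    set y := Φ.symm (i₀, s₁) with hy
    set z := Φ.symm (i₁, s₀) with hz
    have hxy : x ≠ y := by
      intro h
      have := Φ.symm.injective h
      exact hs (Prod.ext_iff.mp this).2
    have hfx : f x = i₀ := hfΦ _
    have hfy : f y = i₀ := hfΦ _
    have hfz : f z = i₁ := hfΦ _
    have hxz : x ≠ z := fun h => hi (by rw [← hfx, ← hfz, h])
    have hmem : Equiv.swap y z ∈ W f := by rw [htop]; trivial
    have := (hmem x y).mp (hfx.trans hfy.symm)
    rw [Equiv.swap_apply_of_ne_of_ne hxy hxz, Equiv.swap_apply_left, hfx, hfz] at this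
    exact hi this
  · intro G hlt
    by_cases hcross : ∃ x z, f x ≠ f z ∧ Equiv.swap x z ∈ G
    · obtain ⟨x, z, hxz, hR⟩ := hcross
      have hall : ∀ z', Equiv.swap x z' ∈ G := by
        intro z'
        by_cases h : f z' = f x
        · exact hlt.le (swap_mem_W f x z' h.symm)
        · -- an element of W fixing x and mapping z to z'
          set π : Equiv.Perm (Fin b) := Equiv.swap (f z) (f z') with hπ
          set ρ : Fin b → Equiv.Perm (Fin a) :=
            fun k => if k = f z then Equiv.swap (Φ z).2 (Φ z').2 else 1 with hρ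
          set w : Equiv.Perm Ω := Φ.trans ((Equiv.prodShear π ρ).trans Φ.symm) with hw
          have hwW : w ∈ W f := by
            apply mem_W_of f π
            intro u
            simp [hw, hfΦ, hΦ]
          have hwx : w x = x := by
            apply Φ.injective
            have h1 : π (f x) = f x :=
              Equiv.swap_apply_of_ne_of_ne hxz (fun h' => h h'.symm)
            have h2 : ρ (f x) = 1 := by simp [hρ, hxz]
            simp only [hw, Equiv.trans_apply, Equiv.apply_symm_apply, Equiv.prodShear_apply]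
            rw [hΦ, h1, h2]
            exact Prod.ext (hΦ x).symm rfl
          have hwz : w z = z' := by
            apply Φ.injective
            have h1 : π (f z) = f z' := Equiv.swap_apply_left _ _
            have h2 : ρ (f z) = Equiv.swap (Φ z).2 (Φ z').2 := by simp [hρ]
            simp only [hw, Equiv.trans_apply, Equiv.apply_symm_apply, Equiv.prodShear_apply]
            rw [hΦ, h1, h2, Equiv.swap_apply_left]
            exact Prod.ext (hΦ z').symm rfl
          have := Equiv.swap_apply_apply w x z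
          rw [hwx, hwz] at this
          rw [this]
          exact G.mul_mem (G.mul_mem (hlt.le hwW) hR) (G.inv_mem (hlt.le hwW))
      rw [eq_top_iff, ← Equiv.Perm.closure_isSwap, Subgroup.closure_le]
      rintro σ ⟨u, v, huv, rfl⟩
      by_cases hux : u = x
      · rw [hux]; exact hall v
      by_cases hvx : v = x
      · rw [hvx, Equiv.swap_comm]; exact hall u
      have := Equiv.swap_apply_apply (Equiv.swap x u) x v
      rw [Equiv.swap_apply_left, Equiv.swap_apply_of_ne_of_ne hvx (Ne.symm huv)] at this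
      rw [this]
      exact G.mul_mem (G.mul_mem (hall u) (hall v)) (G.inv_mem (hall u))
    · exfalso
      push Not at hcross
      apply not_le_of_gt hlt
      intro g hg x y
      constructor
      · intro hxy
        by_contra hne
        apply hcross (g x) (g y) hne
        rw [Equiv.swap_apply_apply]
        exact G.mul_mem (G.mul_mem hg (hlt.le (swap_mem_W f x y hxy))) (G.inv_mem hg)
      · intro hxy
        by_contra hne
        apply hcross x y hne
        have := Equiv.swap_apply_apply g⁻¹ (g x) (g y)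
        simp only [Equiv.Perm.coe_inv, Equiv.symm_apply_apply, inv_inv] at this
        rw [this]
        exact G.mul_mem (G.mul_mem (G.inv_mem hg) (hlt.le (swap_mem_W f _ _ hxy))) hg

/-- The stabilizer of a uniform partition is a maximal subgroup of the symmetric group. -/
theorem result {Ω : Type*} [Fintype Ω] [DecidableEq Ω] (a b : ℕ) (ha : 2 ≤ a) (hb : 2 ≤ b)
    (f : Ω → Fin b) (hf : ∀ i : Fin b, Nat.card {x : Ω // f x = i} = a) :
    IsCoatom (Subgroup.closure {g : Equiv.Perm Ω | ∀ x y : Ω, f x = f y ↔ f (g x) = f (g y)}) := by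
  have hcl : Subgroup.closure {g : Equiv.Perm Ω | ∀ x y : Ω, f x = f y ↔ f (g x) = f (g y)} = W f :=
    Subgroup.closure_eq (W f)
  rw [hcl]
  exact isCoatom_W a b ha hb f hf

end Cfsg.Agent.S5905
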