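import Cfsg.Statements.S5763
import Cfsg.Agent.S5905

set_option autoImplicit false
open Cfsg

namespace Cfsg.Agent.S5763

open Cfsg.Agent.S5905 (W)

/-- pair labelling -/
def f₂ (i : Fin 8) : Fin 4 := ⟨i.val / 2, by omega⟩
/-- quad labelling -/
def f₄ (i : Fin 8) : Fin 2 := ⟨i.val / 4, by omega⟩

/-- a function `Fin 8 → Fin 8` given by its eight values -/
def sel (a0 a1 a2 a3 a4 a5 a6 a7 : Fin 8) (i : Fin 8) : Fin 8 :=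
  if i.val = 0 then a0 else if i.val = 1 then a1 else if i.val = 2 then a2 else
  if i.val = 3 then a3 else if i.val = 4 then a4 else if i.val = 5 then a5 else
  if i.val = 6 then a6 else a7

theorem sel_eq (h : Fin 8 → Fin 8) : sel (h 0) (h 1) (h 2) (h 3) (h 4) (h 5) (h 6) (h 7) = h := by
  funext i
  fin_cases i <;> rfl

def iter8 (s : Fin 8 → Fin 8) (i : Fin 8) : Fin 8 := s (s (s (s (s (s (s (s i)))))))

def z0f : Fin 8 → Fin 8 := sel 1 0 3 2 5 4 7 6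

def rfun (c : Fin 8 → Fin 8) (i : Fin 8) : Fin 8 := z0f (c i)

def InP (w : Fin 8 → Fin 8) : Prop :=
  (∀ x y : Fin 8, f₂ x = f₂ y ↔ f₂ (w x) = f₂ (w y)) ∧
  (∀ x y : Fin 8, f₄ x = f₄ y ↔ f₄ (w x) = f₄ (w y))

instance (w : Fin 8 → Fin 8) : Decidable (InP w) := by unfold InP; infer_instance

set_option maxRecDepth 1000000 in
set_option synthInstance.maxSize 100000 in
set_option synthInstance.maxHeartbeats 2000000 in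
theorem D1 :
    ∀ a0 : Fin 8,
    ∀ a1 : Fin 8, f₂ a1 = f₂ a0 → a1 ≠ a0 →
    ∀ a2 : Fin 8, f₄ a2 = f₄ a0 → a2 ≠ a0 → a2 ≠ a1 →
    ∀ a3 : Fin 8, f₂ a3 = f₂ a2 → a3 ≠ a2 →
    ∀ a4 : Fin 8, a4 ≠ a0 → a4 ≠ a1 → a4 ≠ a2 → a4 ≠ a3 →
    ∀ a5 : Fin 8, f₂ a5 = f₂ a4 → a5 ≠ a4 →
    ∀ a6 : Fin 8, f₄ a6 = f₄ a4 → a6 ≠ a4 → a6 ≠ a5 →
    ∀ a7 : Fin 8, f₂ a7 = f₂ a6 → a7 ≠ a6 →
    ∀ i : Fin 8, iter8 (sel a0 a1 a2 a3 a4 a5 a6 a7) i = i := by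
  decide +kernel

set_option maxRecDepth 1000000 in
set_option synthInstance.maxSize 100000 in
set_option synthInstance.maxHeartbeats 2000000 in
theorem D2 :
    ∀ c0 : Fin 8, (c0 ≠ 0 ∧ c0 ≠ 1) →
    ∀ c1 : Fin 8, (c1 ≠ 1 ∧ c1 ≠ 0 ∧ c1 ≠ c0 ∧ (c0 = 1 → c1 = 0) ∧ (c1 = 0 → c0 = 1)) →
    ∀ c2 : Fin 8, (c2 ≠ 2 ∧ c2 ≠ 3 ∧ c2 ≠ c0 ∧ c2 ≠ c1 ∧ (c0 = 2 → c2 = 0) ∧ (c2 = 0 → c0 = 2) ∧ (c1 = 2 → c2 = 1) ∧ (c2 = 1 → c1 = 2)) →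
    ∀ c3 : Fin 8, (c3 ≠ 3 ∧ c3 ≠ 2 ∧ c3 ≠ c0 ∧ c3 ≠ c1 ∧ c3 ≠ c2 ∧ (c0 = 3 → c3 = 0) ∧ (c3 = 0 → c0 = 3) ∧ (c1 = 3 → c3 = 1) ∧ (c3 = 1 → c1 = 3) ∧ (c2 = 3 → c3 = 2) ∧ (c3 = 2 → c2 = 3)) →
    ∀ c4 : Fin 8, (c4 ≠ 4 ∧ c4 ≠ 5 ∧ c4 ≠ c0 ∧ c4 ≠ c1 ∧ c4 ≠ c2 ∧ c4 ≠ c3 ∧ (c0 = 4 → c4 = 0) ∧ (c4 = 0 → c0 = 4) ∧ (c1 = 4 → c4 = 1) ∧ (c4 = 1 → c1 = 4) ∧ (c2 = 4 → c4 = 2) ∧ (c4 = 2 → c2 = 4) ∧ (c3 = 4 → c4 = 3) ∧ (c4 = 3 → c3 = 4)) →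
    ∀ c5 : Fin 8, (c5 ≠ 5 ∧ c5 ≠ 4 ∧ c5 ≠ c0 ∧ c5 ≠ c1 ∧ c5 ≠ c2 ∧ c5 ≠ c3 ∧ c5 ≠ c4 ∧ (c0 = 5 → c5 = 0) ∧ (c5 = 0 → c0 = 5) ∧ (c1 = 5 → c5 = 1) ∧ (c5 = 1 → c1 = 5) ∧ (c2 = 5 → c5 = 2) ∧ (c5 = 2 → c2 = 5) ∧ (c3 = 5 → c5 = 3) ∧ (c5 = 3 → c3 = 5) ∧ (c4 = 5 → c5 = 4) ∧ (c5 = 4 → c4 = 5)) →
    ∀ c6 : Fin 8, (c6 ≠ 6 ∧ c6 ≠ 7 ∧ c6 ≠ c0 ∧ c6 ≠ c1 ∧ c6 ≠ c2 ∧ c6 ≠ c3 ∧ c6 ≠ c4 ∧ c6 ≠ c5 ∧ (c0 = 6 → c6 = 0) ∧ (c6 = 0 → c0 = 6) ∧ (c1 = 6 → c6 = 1) ∧ (c6 = 1 → c1 = 6) ∧ (c2 = 6 → c6 = 2) ∧ (c6 = 2 → c2 = 6) ∧ (c3 = 6 → c6 = 3) ∧ (c6 = 3 → c3 = 6) ∧ (c4 = 6 → c6 = 4) ∧ (c6 = 4 → c4 = 6) ∧ (c5 = 6 → c6 = 5) ∧ (c6 = 5 → c5 = 6)) →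
    ∀ c7 : Fin 8, (c7 ≠ 7 ∧ c7 ≠ 6 ∧ c7 ≠ c0 ∧ c7 ≠ c1 ∧ c7 ≠ c2 ∧ c7 ≠ c3 ∧ c7 ≠ c4 ∧ c7 ≠ c5 ∧ c7 ≠ c6 ∧ (c0 = 7 → c7 = 0) ∧ (c7 = 0 → c0 = 7) ∧ (c1 = 7 → c7 = 1) ∧ (c7 = 1 → c1 = 7) ∧ (c2 = 7 → c7 = 2) ∧ (c7 = 2 → c2 = 7) ∧ (c3 = 7 → c7 = 3) ∧ (c7 = 3 → c3 = 7) ∧ (c4 = 7 → c7 = 4) ∧ (c7 = 4 → c4 = 7) ∧ (c5 = 7 → c7 = 5) ∧ (c7 = 5 → c5 = 7) ∧ (c6 = 7 → c7 = 6) ∧ (c7 = 6 → c6 = 7)) →
    (∀ i : Fin 8, sel c0 c1 c2 c3 c4 c5 c6 c7 (sel c0 c1 c2 c3 c4 c5 c6 c7 i) = i) →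
    ((∀ i : Fin 8, rfun (sel c0 c1 c2 c3 c4 c5 c6 c7) (rfun (sel c0 c1 c2 c3 c4 c5 c6 c7) i) = i) → InP (rfun (sel c0 c1 c2 c3 c4 c5 c6 c7))) ∧
    (¬ (∀ i : Fin 8, rfun (sel c0 c1 c2 c3 c4 c5 c6 c7) (rfun (sel c0 c1 c2 c3 c4 c5 c6 c7) i) = i) → InP (fun i => rfun (sel c0 c1 c2 c3 c4 c5 c6 c7) (rfun (sel c0 c1 c2 c3 c4 c5 c6 c7) i))) := by
  decide +kernel

/-- The standard Sylow 2-subgroup of `S₈`: automorphisms of the binary tree. -/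
def P₀ : Subgroup (Equiv.Perm (Fin 8)) := W f₂ ⊓ W f₄

theorem mem_P₀ (g : Equiv.Perm (Fin 8)) : g ∈ P₀ ↔ InP ⇑g := by
  rw [P₀, Subgroup.mem_inf]
  exact Iff.rfl

/-- the central involution -/
def z₀ : Equiv.Perm (Fin 8) := ⟨z0f, z0f, by decide, by decide⟩

theorem z₀_apply (i : Fin 8) : z₀ i = z0f i := rfl

theorem pow8 (g : Equiv.Perm (Fin 8)) (hg : g ∈ P₀) : g ^ 8 = 1 := by
  rw [mem_P₀] at hg
  obtain ⟨h2, h4⟩ := hg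
  have hne : ∀ i j : Fin 8, i ≠ j → g i ≠ g j := fun i j h e => h (g.injective e)
  have key := D1 (g 0) (g 1) ((h2 1 0).mp (by decide)) (hne 1 0 (by decide))
    (g 2) ((h4 2 0).mp (by decide)) (hne 2 0 (by decide)) (hne 2 1 (by decide))
    (g 3) ((h2 3 2).mp (by decide)) (hne 3 2 (by decide))
    (g 4) (hne 4 0 (by decide)) (hne 4 1 (by decide)) (hne 4 2 (by decide)) (hne 4 3 (by decide))
    (g 5) ((h2 5 4).mp (by decide)) (hne 5 4 (by decide))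
    (g 6) ((h4 6 4).mp (by decide)) (hne 6 4 (by decide)) (hne 6 5 (by decide))
    (g 7) ((h2 7 6).mp (by decide)) (hne 7 6 (by decide))
  rw [sel_eq] at key
  ext i
  have := key i
  simp only [iter8] at this
  simp only [pow_succ, pow_zero, one_mul, Equiv.Perm.mul_apply, Equiv.Perm.one_apply]
  rw [this]

theorem isPGroup_P₀ : IsPGroup 2 P₀ := by
  intro g
  refine ⟨3, ?_⟩
  apply Subtype.ext
  rw [Subgroup.coe_pow]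
  exact pow8 g.1 g.2

theorem key_fun (c : Equiv.Perm (Fin 8)) (hinv : ∀ i j : Fin 8, c i = j → c j = i)
    (hfpf : ∀ i : Fin 8, c i ≠ i) (hns : ∀ i : Fin 8, c i ≠ z0f i) :
    ((z₀ * c) ^ 2 = 1 → z₀ * c ∈ P₀) ∧ ((z₀ * c) ^ 2 ≠ 1 → (z₀ * c) ^ 2 ∈ P₀) := by
  have hne : ∀ i j : Fin 8, i ≠ j → c i ≠ c j := fun i j h e => h (c.injective e)
  have hnsL : ∀ i j : Fin 8, z0f i = j → c i ≠ j := fun i j h => h ▸ hns i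
  have key := D2 (c 0) ⟨hfpf 0, hnsL 0 1 (by decide)⟩
      (c 1) ⟨hfpf 1, hnsL 1 0 (by decide), hne 1 0 (by decide), hinv 0 1, hinv 1 0⟩
      (c 2) ⟨hfpf 2, hnsL 2 3 (by decide), hne 2 0 (by decide), hne 2 1 (by decide), hinv 0 2, hinv 2 0, hinv 1 2, hinv 2 1⟩
      (c 3) ⟨hfpf 3, hnsL 3 2 (by decide), hne 3 0 (by decide), hne 3 1 (by decide), hne 3 2 (by decide), hinv 0 3, hinv 3 0, hinv 1 3, hinv 3 1, hinv 2 3, hinv 3 2⟩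
      (c 4) ⟨hfpf 4, hnsL 4 5 (by decide), hne 4 0 (by decide), hne 4 1 (by decide), hne 4 2 (by decide), hne 4 3 (by decide), hinv 0 4, hinv 4 0, hinv 1 4, hinv 4 1, hinv 2 4, hinv 4 2, hinv 3 4, hinv 4 3⟩
      (c 5) ⟨hfpf 5, hnsL 5 4 (by decide), hne 5 0 (by decide), hne 5 1 (by decide), hne 5 2 (by decide), hne 5 3 (by decide), hne 5 4 (by decide), hinv 0 5, hinv 5 0, hinv 1 5, hinv 5 1, hinv 2 5, hinv 5 2, hinv 3 5, hinv 5 3, hinv 4 5, hinv 5 4⟩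
      (c 6) ⟨hfpf 6, hnsL 6 7 (by decide), hne 6 0 (by decide), hne 6 1 (by decide), hne 6 2 (by decide), hne 6 3 (by decide), hne 6 4 (by decide), hne 6 5 (by decide), hinv 0 6, hinv 6 0, hinv 1 6, hinv 6 1, hinv 2 6, hinv 6 2, hinv 3 6, hinv 6 3, hinv 4 6, hinv 6 4, hinv 5 6, hinv 6 5⟩
      (c 7) ⟨hfpf 7, hnsL 7 6 (by decide), hne 7 0 (by decide), hne 7 1 (by decide), hne 7 2 (by decide), hne 7 3 (by decide), hne 7 4 (by decide), hne 7 5 (by decide), hne 7 6 (by decide), hinv 0 7, hinv 7 0, hinv 1 7, hinv 7 1, hinv 2 7, hinv 7 2, hinv 3 7, hinv 7 3, hinv 4 7, hinv 7 4, hinv 5 7, hinv 7 5, hinv 6 7, hinv 7 6⟩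
  rw [sel_eq] at key
  have key' := key (fun i => hinv _ _ rfl)
  have hr : ∀ i, rfun (⇑c) i = (z₀ * c) i := fun i => rfl
  have hsq : (z₀ * c) ^ 2 = 1 ↔ ∀ i : Fin 8, rfun (⇑c) (rfun (⇑c) i) = i := by
    constructor
    · intro h i
      rw [hr, hr, ← Equiv.Perm.mul_apply, ← sq, h]; rfl
    · intro h
      ext i
      rw [sq, Equiv.Perm.mul_apply, ← hr, ← hr, h]; rfl
  constructor
  · intro h
    rw [mem_P₀]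
    exact key'.1 (hsq.mp h)
  · intro h
    rw [mem_P₀]
    have := key'.2 (fun h' => h (hsq.mpr h'))
    exact this

theorem z₀_sq : z₀ * z₀ = 1 := by
  ext i
  rw [Equiv.Perm.mul_apply, z₀_apply, z₀_apply]
  revert i
  decide

theorem z₀_inv : z₀⁻¹ = z₀ := inv_eq_of_mul_eq_one_right z₀_sq

theorem z₀_fpf : ∀ i : Fin 8, z₀ i ≠ i := by
  intro i
  rw [z₀_apply]
  revert i
  decide

theorem swap_mem_P₀ : ∀ a : Fin 8, Equiv.swap a (z₀ a) ∈ P₀ := by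
  intro a
  rw [mem_P₀, z₀_apply]
  revert a
  unfold InP
  decide

theorem key (y : Equiv.Perm (Fin 8)) :
    ∃ w : Equiv.Perm (Fin 8), w ≠ 1 ∧ w ∈ P₀ ∧ y⁻¹ * w * y ∈ P₀ := by
  by_cases hA : ∃ a, (y * z₀ * y⁻¹) a = z₀ a
  · obtain ⟨a, ha⟩ := hA
    refine ⟨Equiv.swap a (z₀ a), ?_, swap_mem_P₀ a, ?_⟩
    · intro h
      have := congrArg (fun (g : Equiv.Perm (Fin 8)) => g a) h
      simp only [Equiv.swap_apply_left, Equiv.Perm.one_apply] at this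
      exact z₀_fpf a this
    · have h1 : y⁻¹ (z₀ a) = z₀ (y⁻¹ a) := by
        rw [← ha]
        simp
      have h2 := Equiv.swap_apply_apply y⁻¹ a (z₀ a)
      rw [inv_inv, h1] at h2
      rw [← h2]
      exact swap_mem_P₀ _
  · push Not at hA
    set z' : Equiv.Perm (Fin 8) := y * z₀ * y⁻¹ with hz'
    set z'' : Equiv.Perm (Fin 8) := y⁻¹ * z₀ * y with hz''
    have hz'sq : z' * z' = 1 := by
      rw [hz']
      calc y * z₀ * y⁻¹ * (y * z₀ * y⁻¹) = y * (z₀ * z₀) * y⁻¹ := by group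
        _ = 1 := by rw [z₀_sq]; group
    have hz''sq : z'' * z'' = 1 := by
      rw [hz'']
      calc y⁻¹ * z₀ * y * (y⁻¹ * z₀ * y) = y⁻¹ * (z₀ * z₀) * y := by group
        _ = 1 := by rw [z₀_sq]; group
    have hz''inv : z''⁻¹ = z'' := inv_eq_of_mul_eq_one_right hz''sq
    have hinv' : ∀ i j : Fin 8, z' i = j → z' j = i := by
      intro i j h
      rw [← h, ← Equiv.Perm.mul_apply, hz'sq]; rfl
    have hinv'' : ∀ i j : Fin 8, z'' i = j → z'' j = i := by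
      intro i j h
      rw [← h, ← Equiv.Perm.mul_apply, hz''sq]; rfl
    have hfpf' : ∀ i : Fin 8, z' i ≠ i := by
      intro i h
      apply z₀_fpf (y⁻¹ i)
      have := congrArg (⇑y⁻¹) h
      simpa [hz'] using this
    have hfpf'' : ∀ i : Fin 8, z'' i ≠ i := by
      intro i h
      apply z₀_fpf (y i)
      have := congrArg (⇑y) h
      simpa [hz''] using this
    have hns' : ∀ i : Fin 8, z' i ≠ z0f i := fun i => hA i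
    have hns'' : ∀ i : Fin 8, z'' i ≠ z0f i := by
      intro i h
      apply hA (y i)
      have h1 : z' (y i) = y (z₀ i) := by simp [hz']
      have h2 : y (z'' i) = z₀ (y i) := by simp [hz'']
      rw [h1, ← h2, h, z₀_apply]
    obtain ⟨A1, A2⟩ := key_fun z' hinv' hfpf' hns'
    obtain ⟨B1, B2⟩ := key_fun z'' hinv'' hfpf'' hns''
    have hrel : y⁻¹ * (z₀ * z') * y = (z₀ * z'')⁻¹ := by
      rw [mul_inv_rev, hz''inv, z₀_inv, hz', hz'']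
      group
    by_cases hsq : (z₀ * z') ^ 2 = 1
    · refine ⟨z₀ * z', ?_, A1 hsq, ?_⟩
      · intro h
        have h1 : z' = z₀ := by
          have := congrArg (fun g => z₀ * g) h
          simp only [← mul_assoc, z₀_sq, one_mul, mul_one] at this
          exact this
        exact hA 0 (by rw [h1])
      · rw [hrel]
        apply P₀.inv_mem
        apply B1
        have h1 : ((z₀ * z'')⁻¹) ^ 2 = 1 := by
          rw [← hrel]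
          calc (y⁻¹ * (z₀ * z') * y) ^ 2 = y⁻¹ * (z₀ * z') ^ 2 * y := by
                simp only [sq]; group
            _ = 1 := by rw [hsq]; group
        rw [inv_pow, inv_eq_one] at h1
        exact h1
    · refine ⟨(z₀ * z') ^ 2, hsq, A2 hsq, ?_⟩
      have h1 : y⁻¹ * (z₀ * z') ^ 2 * y = ((z₀ * z'') ^ 2)⁻¹ := by
        rw [← inv_pow, ← hrel]
        simp only [sq]; group
      rw [h1]
      apply P₀.inv_mem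
      apply B2
      intro h
      apply hsq
      rw [h, inv_one] at h1
      calc (z₀ * z') ^ 2 = y * (y⁻¹ * (z₀ * z') ^ 2 * y) * y⁻¹ := by group
        _ = 1 := by rw [h1]; group

/-- In the symmetric group on 8 letters any two Sylow 2-subgroups have non-trivial intersection: for a Sylow 2-subgroup H and every element x, H ∩ xHx⁻¹ ≠ 1. -/
theorem result (H : Sylow 2 (Equiv.Perm (Fin 8))) (x : Equiv.Perm (Fin 8)) :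
    (H : Subgroup (Equiv.Perm (Fin 8))) ⊓ (H : Subgroup (Equiv.Perm (Fin 8))).map (MulAut.conj x).toMonoidHom ≠ ⊥ := by
  obtain ⟨Q, hQ⟩ := isPGroup_P₀.exists_le_sylow
  obtain ⟨g, hg⟩ := MulAction.exists_smul_eq (Equiv.Perm (Fin 8)) Q H
  have hconj : ∀ p ∈ P₀, g * p * g⁻¹ ∈ (H : Subgroup (Equiv.Perm (Fin 8))) := by
    intro p hp
    have h1 : p ∈ (Q : Subgroup (Equiv.Perm (Fin 8))) := hQ hp
    have h2 := Subgroup.smul_mem_pointwise_smul p (MulAut.conj g) (Q : Subgroup (Equiv.Perm (Fin 8))) h1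
    rw [← hg]
    exact h2
  obtain ⟨w, hw1, hwP, hwy⟩ := key (g⁻¹ * x * g)
  intro hbot
  have hmem : g * w * g⁻¹ ∈ (H : Subgroup (Equiv.Perm (Fin 8))) ⊓
      (H : Subgroup (Equiv.Perm (Fin 8))).map (MulAut.conj x).toMonoidHom := by
    refine Subgroup.mem_inf.mpr ⟨hconj w hwP, ?_⟩
    refine ⟨g * ((g⁻¹ * x * g)⁻¹ * w * (g⁻¹ * x * g)) * g⁻¹, hconj _ hwy, ?_⟩
    simp only [MulEquiv.coe_toMonoidHom, MulAut.conj_apply]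
    group
  rw [hbot, Subgroup.mem_bot] at hmem
  apply hw1
  calc w = g⁻¹ * (g * w * g⁻¹) * g := by group
    _ = 1 := by rw [hmem]; group

end Cfsg.Agent.S5763
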