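import Cfsg.Statements.S5886
import Cfsg.Agent.Lib.H3.C3MaxASM
import Cfsg.Agent.Lib.H1.C3MaxMain
import Cfsg.Agent.Lib.H4.C3MaxT422

set_option autoImplicit false
open Cfsg

namespace Cfsg.Agent.S5886

/-- every subgroup containing `N(K) ∩ SL` and not contained in `N(K)` contains `SL`
(abstract ascent theorem `hasTv_of_not_normK` by helper1 with pieces by helper2, helper29;
matrix bridge by helper3; the case `GL_4(2) > ΓL_2(4)` by helper4) -/
theorem sl_le_of_not_le_normalizer {F : Type*} [Field F] [Fintype F] (n r : ℕ) (hr : r.Prime)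
    (hrn : r ∣ n) (hlt : r < n)
    (K : Subalgebra F (Matrix (Fin n) (Fin n) F)) (hK : Cfsg.Geo.IsFieldSubalgebra r K)
    (X : Subgroup (Matrix.GeneralLinearGroup (Fin n) F))
    (hX : Cfsg.Geo.subalgebraNormalizer K ⊓ Cfsg.Geo.specialLinear (Fin n) F ≤ X)
    (hXN : ¬ X ≤ Cfsg.Geo.subalgebraNormalizer K) : Cfsg.Geo.specialLinear (Fin n) F ≤ X := by
  have hn0 : n ≠ 0 := by
    rintro rfl
    omega
  have : NeZero n := ⟨hn0⟩
  have : Fact (Cfsg.Agent.Lib.H13.FieldSub.IsFld K) := ⟨⟨hK.comm, hK.inv⟩⟩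
  have : Module.Finite ↥K (Fin n → F) := Module.Finite.of_restrictScalars_finite F ↥K (Fin n → F)
  refine Cfsg.Agent.Lib.H3.C3Max.sl_le_of_not_le_normalizer_of n r hr hrn hlt K hK X hX hXN
    (fun h1 h2 h3 X' hD x hx hxN =>
      Cfsg.Agent.Lib.H1.C3Max.hasTv_of_not_normK h1 h2 h3 X' hD x hx hxN) ?_
  intro hn4 hr2 hF2 hXc
  subst hn4
  subst hr2
  exact Cfsg.Agent.Lib.H4.C3Max.c3max_422 hF2 K hK X hXc hXN

/-- Let F be a finite field, n a positive integer and r a prime that divides n with r < n. Let K be a subalgebra of the algebra of n × n matrices over F which is a field of degree r over F (commutative, every non-zero element invertible, of dimension r over F; it contains the scalars). Then the normaliser N of K in GL_n(F) — the invertible F-linear maps that are semilinear over the field K, a group of type ΓL_{n/r}(F_{q^r}) for |F| = q — is a maximal subgroup of GL_n(F), and N ∩ SL_n(F) is a maximal subgroup of SL_n(F). No lower bound on n is assumed. -/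
theorem result {F : Type*} [Field F]
    [Fintype F] (n r : ℕ) (hr : r.Prime) (hrn : r ∣ n) (hlt : r < n) (K : Subalgebra F (Matrix (Fin n) (Fin n) F))
    (hK : Cfsg.Geo.IsFieldSubalgebra r K) :
    IsCoatom (Cfsg.Geo.subalgebraNormalizer K) ∧
      Cfsg.Geo.IsMaximalIn (Cfsg.Geo.specialLinear (Fin n) F)
        (Cfsg.Geo.subalgebraNormalizer K ⊓ Cfsg.Geo.specialLinear (Fin n) F) :=
  Cfsg.Agent.Lib.H3.C3Max.s5886_of n r hr hrn hlt K hK
    (fun X hX hXN => sl_le_of_not_le_normalizer n r hr hrn hlt K hK X hX hXN)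

end Cfsg.Agent.S5886
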