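-- Statement S5876 (helper19): fixed-point spaces in primitive soluble linear groups.
import Cfsg.Statements.S5876
import Cfsg.Agent.Lib.H19.PrimFix3

set_option autoImplicit false
open Cfsg

namespace Cfsg.Agent.S5876

open Cfsg.Agent.Lib.H19.PrimFix in
/-- Fixed-point spaces in primitive soluble linear groups. Let F be a finite field and G a soluble subgroup of GL_n(F) that acts irreducibly on F^n and primitively (G preserves no decomposition of F^n into two or more independent subspaces of equal dimension). Then every non-identity element g of G has fixed-point space {v : g v = v} of dimension at most 3n/4. -/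
theorem result {F : Type*} [Field F] [Fintype F] {n : ℕ} (G : Subgroup (Matrix.GeneralLinearGroup (Fin n) F)) (hsol : IsSolvable G) (hirr : Cfsg.Geo.ActsIrreducibly (Cfsg.Geo.matrixSet G)) (hprim : ∀ (m t : ℕ) (D : Fin t → Submodule F (Fin n → F)), 2 ≤ t → Cfsg.Geo.IsMDecomposition m D → ¬ G ≤ Cfsg.Geo.decompositionStabilizer D) (g : Matrix.GeneralLinearGroup (Fin n) F) (hg : g ∈ G) (hg1 : g ≠ 1) :
    4 * Module.finrank F (Module.End.eigenspace (Matrix.toLin' (g : Matrix (Fin n) (Fin n) F)) 1) ≤ 3 * n := by
  classical
  let ρ : Representation F ↥G (Fin n → F) :=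
    { toFun := fun x =>
        Matrix.toLin' (((x : Matrix.GeneralLinearGroup (Fin n) F)) : Matrix (Fin n) (Fin n) F)
      map_one' := by
        show Matrix.toLin' (((1 : Matrix.GeneralLinearGroup (Fin n) F)) :
          Matrix (Fin n) (Fin n) F) = 1
        rw [Units.val_one, Matrix.toLin'_one]
        rfl
      map_mul' := fun x y => by
        show Matrix.toLin' ((((x : Matrix.GeneralLinearGroup (Fin n) F) *
          (y : Matrix.GeneralLinearGroup (Fin n) F) : Matrix.GeneralLinearGroup (Fin n) F)) :
          Matrix (Fin n) (Fin n) F) = _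
        rw [Units.val_mul, Matrix.toLin'_mul]
        rfl }
  have hρ : ∀ x : ↥G, ρ x =
      Matrix.toLin' (((x : Matrix.GeneralLinearGroup (Fin n) F)) : Matrix (Fin n) (Fin n) F) :=
    fun _ => rfl
  have hfaith : ∀ x : ↥G, ρ x = 1 → x = 1 := by
    intro x hx
    rw [hρ] at hx
    have h1 : (((x : Matrix.GeneralLinearGroup (Fin n) F)) : Matrix (Fin n) (Fin n) F) = 1 := by
      apply Matrix.toLin'.injective
      rw [hx, Matrix.toLin'_one]
      rfl
    apply Subtype.ext
    apply Units.ext
    exact h1
  have hI : Irr ρ := by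
    intro W hW
    apply hirr W
    rintro s ⟨x, hx, rfl⟩
    exact hW ⟨x, hx⟩
  have hP : Prim ρ := by
    intro t D ht ⟨m, hm, hfin⟩ hind htop hperm
    apply hprim m t D ht ⟨ht, hm, hfin, hind, htop⟩
    intro x hx
    exact hperm ⟨x, hx⟩
  have : Group.IsSolvable ↥G := hsol
  have hgne : (⟨g, hg⟩ : ↥G) ≠ 1 := by
    intro h
    apply hg1
    exact congrArg Subtype.val h
  have key := fix_bound hfaith hI hP hgne
  have heq : Module.End.eigenspace (Matrix.toLin' (g : Matrix (Fin n) (Fin n) F)) 1 =
      fixS ρ ⟨g, hg⟩ := by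
    ext v
    rw [Module.End.mem_eigenspace_iff, one_smul, mem_fixS, hρ]
  rw [heq]
  rw [Module.finrank_fin_fun] at key
  exact key

end Cfsg.Agent.S5876
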