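import Cfsg.Statements.S5885
import Cfsg.Agent.Lib.H29.PermLift

set_option autoImplicit false
open Cfsg

namespace Cfsg.Agent.S5885

open MulAction
open scoped Pointwise
open Cfsg.Agent.Lib.H29

/-- Subgroups between `H` and `M` when `H` is maximal in `M`. -/
theorem eq_or_eq_of_coatom_subgroupOf {G : Type*} [Group G] {H M J : Subgroup G}
    (hmax : IsCoatom (H.subgroupOf M)) (hHJ : H ≤ J) (hJM : J ≤ M) : J = H ∨ J = M := by
  by_cases h : J.subgroupOf M = H.subgroupOf M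
  · left
    have := congrArg (Subgroup.map M.subtype) h
    rw [Subgroup.map_subgroupOf_eq_of_le hJM, Subgroup.map_subgroupOf_eq_of_le (hHJ.trans hJM)] at this
    exact this
  · right
    have hlt : H.subgroupOf M < J.subgroupOf M :=
      lt_of_le_of_ne (Subgroup.comap_mono hHJ) (Ne.symm h)
    have := hmax.2 _ hlt
    rw [Subgroup.subgroupOf_eq_top] at this
    exact le_antisymm hJM this

/-- The three-cycle `a → b → c → a`. -/
def cyc {Ω : Type*} [DecidableEq Ω] (a b c : Ω) : Equiv.Perm Ω := Equiv.swap a b * Equiv.swap b c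

section cyc
variable {Ω : Type*} [DecidableEq Ω] {a b c : Ω}

theorem cyc_a (hab : a ≠ b) (hac : a ≠ c) : cyc a b c a = b := by
  simp [cyc, Equiv.swap_apply_of_ne_of_ne hab hac]

theorem cyc_b (hbc : b ≠ c) (hac : a ≠ c) : cyc a b c b = c := by
  simp [cyc, Equiv.swap_apply_of_ne_of_ne hac.symm hbc.symm]

theorem cyc_c : cyc a b c c = a := by
  simp [cyc]

theorem cyc_other {x : Ω} (ha : x ≠ a) (hb : x ≠ b) (hc : x ≠ c) : cyc a b c x = x := by
  simp [cyc, Equiv.swap_apply_of_ne_of_ne hb hc, Equiv.swap_apply_of_ne_of_ne ha hb]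

theorem sign_cyc [Fintype Ω] (hab : a ≠ b) (hbc : b ≠ c) : Equiv.Perm.sign (cyc a b c) = 1 := by
  simp [cyc, Equiv.Perm.sign_swap hab, Equiv.Perm.sign_swap hbc]

end cyc

/-- An injective self-map fixing `S` pointwise preserves `S`. -/
theorem mem_iff_of_fix {Ω : Type*} (f : Ω → Ω) (hf : Function.Injective f) (S : Set Ω)
    (hfix : ∀ x ∈ S, f x = x) (x : Ω) : x ∈ S ↔ f x ∈ S := by
  constructor
  · intro hx; rw [hfix x hx]; exact hx
  · intro hx
    have := hfix _ hx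
    rw [← hf this]; exact hx

theorem main {G : Type*} [Group G]
    [Finite G] (n : ℕ) (hodd : Odd n)
    (hA : ∀ P : Subgroup (Equiv.Perm (Fin n)), MulAction.IsPreprimitive P (Fin n) → alternatingGroup (Fin n) ≤ P)
    (M : Subgroup G) (hM : IsCoatom M) (hn : M.index = n) (H : Subgroup G) (hHM : H ≤ M)
    (hmax : IsCoatom (H.subgroupOf M)) (K : Subgroup G) (hK : IsCoatom K) (hHK : H ≤ K)
    (L : Subgroup G) (hHL : H ≤ L) (hLK : L ≤ K) : L = H ∨ L = K := by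
  classical
  by_contra hcon
  push Not at hcon
  obtain ⟨hLH, hLK'⟩ := hcon
  by_cases hKM : K = M
  · subst hKM
    rcases eq_or_eq_of_coatom_subgroupOf hmax hHL hLK with h | h
    · exact hLH h
    · exact hLK' h
  have hKMH : K ⊓ M = H := by
    rcases eq_or_eq_of_coatom_subgroupOf hmax (le_inf hHK hHM) inf_le_right with h | h
    · exact h
    · exfalso
      have hMK : M ≤ K := by rw [← h]; exact inf_le_left
      rcases eq_or_lt_of_le hMK with h' | h'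
      · exact hKM h'.symm
      · exact hK.1 (hM.2 K h')
  -- the action on the cosets of M
  let α : G ⧸ M := ((1 : G) : G ⧸ M)
  have hstab : ∀ g : G, g • α = α ↔ g ∈ M := by
    intro g
    rw [← MulAction.mem_stabilizer_iff, MulAction.stabilizer_quotient]
  haveI : Fintype (G ⧸ M) := Fintype.ofFinite _
  have hcard : Fintype.card (G ⧸ M) = n := by
    rw [← Nat.card_eq_fintype_card, ← Subgroup.index_eq_card, hn]
  haveI : Nontrivial (G ⧸ M) := by
    rw [← Finite.one_lt_card_iff_nontrivial, ← Subgroup.index_eq_card]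
    have h1 : M.index ≠ 1 := fun h => hM.1 (Subgroup.index_eq_one.mp h)
    have h0 : M.index ≠ 0 := Subgroup.index_ne_zero_of_finite
    omega
  haveI : IsPreprimitive G (G ⧸ M) := by
    rw [← isCoatom_stabilizer_iff_preprimitive G α, MulAction.stabilizer_quotient]
    exact hM
  have P1 : ∀ σ : Equiv.Perm (G ⧸ M), Equiv.Perm.sign σ = 1 → ∃ g : G, ∀ ω, g • ω = σ ω :=
    fun σ hσ => exists_smul_eq_of_sign_eq_one n hcard hA σ hσ
  -- the orbits
  let B : Set (G ⧸ M) := {ω | ∃ l ∈ L, l • α = ω}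
  let O : Set (G ⧸ M) := {ω | ∃ k ∈ K, k • α = ω}
  have hαB : α ∈ B := ⟨1, L.one_mem, one_smul _ _⟩
  have hBO : B ⊆ O := fun ω ⟨l, hl, h⟩ => ⟨l, hLK hl, h⟩
  have f1 : ∀ k ∈ K, k • α ∈ B → k ∈ L := by
    rintro k hk ⟨l, hl, hlk⟩
    have h1 : (l⁻¹ * k) • α = α := by
      rw [mul_smul, ← hlk, inv_smul_smul]
    have h2 : l⁻¹ * k ∈ K ⊓ M := ⟨K.mul_mem (K.inv_mem (hLK hl)) hk, (hstab _).mp h1⟩
    rw [hKMH] at h2
    have := L.mul_mem hl (hHL h2)
    simpa using this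
  have f4 : ∀ l ∈ L, ∀ x, x ∈ B ↔ l • x ∈ B := by
    intro l hl x
    constructor
    · rintro ⟨l', hl', rfl⟩
      exact ⟨l * l', L.mul_mem hl hl', mul_smul _ _ _⟩
    · rintro ⟨l', hl', h⟩
      refine ⟨l⁻¹ * l', L.mul_mem (L.inv_mem hl) hl', ?_⟩
      rw [mul_smul, h, inv_smul_smul]
  have f5 : ∀ k ∈ K, ∀ x ∈ B, k • x ∈ B → k ∈ L := by
    rintro k hk x ⟨l, hl, rfl⟩ hx
    rw [← mul_smul] at hx
    have := f1 (k * l) (K.mul_mem hk (hLK hl)) hx
    have := L.mul_mem this (L.inv_mem hl)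
    simpa using this
  -- a point of B other than α
  obtain ⟨l₀, hl₀L, hl₀H⟩ := SetLike.exists_of_lt (lt_of_le_of_ne hHL (Ne.symm hLH))
  have hbα : l₀ • α ≠ α := by
    intro h
    apply hl₀H
    rw [← hKMH]
    exact ⟨hLK hl₀L, (hstab _).mp h⟩
  set b : G ⧸ M := l₀ • α with hb
  have hbB : b ∈ B := ⟨l₀, hl₀L, rfl⟩
  -- an element of K outside L
  obtain ⟨k₁, hk₁K, hk₁L⟩ := SetLike.exists_of_lt (lt_of_le_of_ne hLK hLK')
  set c₁ : G ⧸ M := k₁ • α with hc₁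
  set c₁' : G ⧸ M := k₁ • b with hc₁'
  have hc₁B : c₁ ∉ B := fun h => hk₁L (f1 k₁ hk₁K h)
  have hc₁'B : c₁' ∉ B := fun h => hk₁L (f5 k₁ hk₁K b hbB h)
  have hc₁c₁' : c₁ ≠ c₁' := fun h => hbα (MulAction.injective k₁ h).symm
  have hc₁O : c₁ ∈ O := ⟨k₁, hk₁K, rfl⟩
  have hc₁'O : c₁' ∈ O := ⟨k₁ * l₀, K.mul_mem hk₁K (hLK hl₀L), mul_smul _ _ _⟩
  -- the stabilizer criterion
  have F1 : ∀ (S : Set (G ⧸ M)) (b c d : G ⧸ M), α ∈ S → b ∈ S → b ≠ α → c ∉ S → d ≠ α → d ≠ b →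
      d ≠ c → (∀ h ∈ H, ∀ x, x ∈ S ↔ h • x ∈ S) →
      ∀ g : G, g • α = α → (∀ x, x ∈ S ↔ g • x ∈ S) → g ∈ H := by
    intro S b c d hαS hbS hbα hcS hdα hdb hdc hHS
    have hHJ : H ≤ M ⊓ stabilizer G S := by
      intro h hh
      refine Subgroup.mem_inf.mpr ⟨hHM hh, ?_⟩
      rw [mem_stabilizer_set]
      intro x
      exact (hHS h hh x).symm
    have hJ : M ⊓ stabilizer G S = H := by
      rcases eq_or_eq_of_coatom_subgroupOf hmax hHJ inf_le_left with h | h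
      · exact h
      · exfalso
        have hbc : b ≠ c := fun h => hcS (h ▸ hbS)
        have hαc : α ≠ c := fun h => hcS (h ▸ hαS)
        obtain ⟨g₀, hg₀⟩ := P1 (cyc b c d) (sign_cyc hbc hdc.symm)
        have hg₀α : g₀ • α = α := by
          rw [hg₀, cyc_other hbα.symm hαc hdα.symm]
        have hg₀M : g₀ ∈ M ⊓ stabilizer G S := by
          rw [h]; exact (hstab _).mp hg₀α
        have := (mem_stabilizer_set.mp (Subgroup.mem_inf.mp hg₀M).2 b).mpr hbS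
        rw [hg₀, cyc_a hbc hdb.symm] at this
        exact hcS this
    intro g hgα hgS
    rw [← hJ]
    refine Subgroup.mem_inf.mpr ⟨(hstab _).mp hgα, ?_⟩
    rw [mem_stabilizer_set]
    intro x
    exact (hgS x).symm
  have hHB : ∀ h ∈ H, ∀ x, x ∈ B ↔ h • x ∈ B := fun h hh x => f4 h (hHL hh) x
  by_cases hO : ∀ ω, ω ∈ O
  · -- K is transitive
    have hdisj : Disjoint B (k₁ • B) := by
      rw [Set.disjoint_left]
      rintro x hx ⟨x', hx', rfl⟩
      exact hk₁L (f5 k₁ hk₁K x' hx' hx)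
    have hne : B ∪ k₁ • B ≠ Set.univ := by
      intro h
      have h1 : (B ∪ k₁ • B).ncard = B.ncard + (k₁ • B).ncard :=
        Set.ncard_union_eq hdisj (Set.toFinite _) (Set.toFinite _)
      have h2 : (k₁ • B).ncard = B.ncard :=
        Set.ncard_image_of_injective B (MulAction.injective k₁)
      rw [h, Set.ncard_univ, Nat.card_eq_fintype_card, hcard, h2] at h1
      rcases hodd with ⟨m, hm⟩
      omega
    obtain ⟨y, hy⟩ := (Set.ne_univ_iff_exists_notMem _).mp hne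
    have hyB : y ∉ B := fun h => hy (Or.inl h)
    have hyB₁ : y ∉ k₁ • B := fun h => hy (Or.inr h)
    have hc₁B₁ : c₁ ∈ k₁ • B := ⟨α, hαB, rfl⟩
    have hc₁'B₁ : c₁' ∈ k₁ • B := ⟨b, hbB, rfl⟩
    have hc₁y : c₁ ≠ y := fun h => hyB₁ (h ▸ hc₁B₁)
    have hc₁'y : c₁' ≠ y := fun h => hyB₁ (h ▸ hc₁'B₁)
    obtain ⟨g₀, hg₀⟩ := P1 (cyc c₁ c₁' y) (sign_cyc hc₁c₁' hc₁'y)
    have hfix : ∀ x ∈ B, g₀ • x = x := by
      intro x hx
      rw [hg₀]
      exact cyc_other (fun h => hc₁B (h ▸ hx)) (fun h => hc₁'B (h ▸ hx)) (fun h => hyB (h ▸ hx))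
    have hg₀H : g₀ ∈ H := by
      apply F1 B b c₁ c₁' hαB hbB hbα hc₁B (fun h => hc₁'B (h ▸ hαB)) (fun h => hc₁'B (h ▸ hbB))
        hc₁c₁'.symm hHB g₀ (hfix α hαB)
      exact mem_iff_of_fix (fun x => g₀ • x) (MulAction.injective g₀) B hfix
    have hkK : k₁⁻¹ * g₀ * k₁ ∈ K := K.mul_mem (K.mul_mem (K.inv_mem hk₁K) (hHK hg₀H)) hk₁K
    have h1 : (k₁⁻¹ * g₀ * k₁) • α = b := by
      rw [mul_smul, mul_smul, ← hc₁, hg₀, cyc_a hc₁c₁' hc₁y, hc₁', inv_smul_smul]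
    have hkL : k₁⁻¹ * g₀ * k₁ ∈ L := f1 _ hkK (h1 ▸ hbB)
    have h2 : (k₁⁻¹ * g₀ * k₁) • b = k₁⁻¹ • y := by
      rw [mul_smul, mul_smul, ← hc₁', hg₀, cyc_b hc₁'y hc₁y]
    have h3 : k₁⁻¹ • y ∈ B := h2 ▸ (f4 _ hkL b).mp hbB
    exact hyB₁ ⟨k₁⁻¹ • y, h3, smul_inv_smul _ _⟩
  · -- K is intransitive
    push Not at hO
    obtain ⟨ω₀, hω₀⟩ := hO
    have hαO : α ∈ O := hBO hαB
    have hKO : ∀ k ∈ K, ∀ x, x ∈ O ↔ k • x ∈ O := by
      intro k hk x
      constructor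
      · rintro ⟨k', hk', rfl⟩
        exact ⟨k * k', K.mul_mem hk hk', mul_smul _ _ _⟩
      · rintro ⟨k', hk', h⟩
        refine ⟨k⁻¹ * k', K.mul_mem (K.inv_mem hk) hk', ?_⟩
        rw [mul_smul, h, inv_smul_smul]
    have hHO : ∀ h ∈ H, ∀ x, x ∈ O ↔ h • x ∈ O := fun h hh x => hKO h (hHK hh) x
    have hb_c₁ : b ≠ c₁ := fun h => hc₁B (h ▸ hbB)
    have hb_c₁' : b ≠ c₁' := fun h => hc₁'B (h ▸ hbB)
    have hα_c₁ : α ≠ c₁ := fun h => hc₁B (h ▸ hαB)
    have hα_c₁' : α ≠ c₁' := fun h => hc₁'B (h ▸ hαB)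
    obtain ⟨g₀, hg₀⟩ := P1 (cyc b c₁ c₁') (sign_cyc hb_c₁ hc₁c₁')
    have hfix : ∀ x ∈ Oᶜ, g₀ • x = x := by
      intro x hx
      rw [hg₀]
      exact cyc_other (fun h => hx (h ▸ hBO hbB)) (fun h => hx (h ▸ hc₁O)) (fun h => hx (h ▸ hc₁'O))
    have hg₀α : g₀ • α = α := by
      rw [hg₀]
      exact cyc_other hbα.symm hα_c₁ hα_c₁'
    have hg₀O : ∀ x, x ∈ O ↔ g₀ • x ∈ O := by
      intro x
      have := mem_iff_of_fix (fun x => g₀ • x) (MulAction.injective g₀) Oᶜ hfix x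
      simp only [Set.mem_compl_iff] at this
      exact not_iff_not.mp this
    have hg₀H : g₀ ∈ H :=
      F1 O b ω₀ c₁ hαO (hBO hbB) hbα hω₀ hα_c₁.symm hb_c₁.symm (fun h => hω₀ (h ▸ hc₁O)) hHO g₀
        hg₀α hg₀O
    have := (f4 g₀ (hHL hg₀H) b).mp hbB
    rw [hg₀, cyc_a hb_c₁ hb_c₁'] at this
    exact hc₁B this

/-- Second maximality below a maximal subgroup of odd index admitting only giant primitive groups. -/
theorem result {G : Type*} [Group G]
    [Finite G] (n : ℕ) (hodd : Odd n)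
    (hA : ∀ P : Subgroup (Equiv.Perm (Fin n)), MulAction.IsPreprimitive P (Fin n) → alternatingGroup (Fin n) ≤ P)
    (M : Subgroup G) (hM : IsCoatom M) (hn : M.index = n) (H : Subgroup G) (hHM : H ≤ M)
    (hmax : IsCoatom (H.subgroupOf M)) (K : Subgroup G) (hK : IsCoatom K) (hHK : H ≤ K) :
    IsCoatom (H.subgroupOf K) := by
  have hmain := main n hodd hA M hM hn H hHM hmax K hK hHK
  refine ⟨?_, ?_⟩
  · rw [Ne, Subgroup.subgroupOf_eq_top]
    intro hKH
    have hHneM : H ≠ M := by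
      intro h
      apply hmax.1
      rw [h, Subgroup.subgroupOf_self]
    have hKM : K ≤ M := hKH.trans hHM
    rcases eq_or_lt_of_le hKM with h | h
    · apply hHneM
      exact le_antisymm hHM (h ▸ hKH)
    · exact hM.1 (hK.2 M h)
  · intro L' hlt
    have hHL : H ≤ L'.map K.subtype := by
      rw [← Subgroup.map_subgroupOf_eq_of_le hHK]
      exact Subgroup.map_mono hlt.le
    have hcm : (L'.map K.subtype).subgroupOf K = L' :=
      Subgroup.comap_map_eq_self_of_injective K.subtype_injective L'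
    rcases hmain (L'.map K.subtype) hHL (Subgroup.map_subtype_le L') with h | h
    · exfalso
      rw [h] at hcm
      exact hlt.ne hcm
    · rw [← hcm, h, Subgroup.subgroupOf_self]

end Cfsg.Agent.S5885
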