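import Cfsg.Statements.S5887
import Cfsg.Agent.Lib.H13.FieldSub
import Cfsg.Agent.Lib.H13.FieldNorm

set_option autoImplicit false
open Cfsg

namespace Cfsg.Agent.S5887

/-- Let F be a finite field, n a positive integer and r a composite number (r > 1, not prime) that divides n with r < n. Let K be a subalgebra of the algebra of n × n matrices over F which is a field of degree r over F (commutative, every non-zero element invertible, of dimension r over F). Then the normaliser N of K in GL_n(F) (a group of type ΓL_{n/r}(F_{q^r})) is not a maximal subgroup of GL_n(F), and N ∩ SL_n(F) is not a maximal subgroup of SL_n(F): both lie properly inside the normaliser of an intermediate subfield of prime degree over F. -/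
theorem result {F : Type*} [Field F]
    [Fintype F] (n r : ℕ) (hr1 : 1 < r) (hrp : ¬ r.Prime) (hrn : r ∣ n) (hlt : r < n)
    (K : Subalgebra F (Matrix (Fin n) (Fin n) F)) (hK : Cfsg.Geo.IsFieldSubalgebra r K) :
    ¬ IsCoatom (Cfsg.Geo.subalgebraNormalizer K) ∧
      ¬ Cfsg.Geo.IsMaximalIn (Cfsg.Geo.specialLinear (Fin n) F)
        (Cfsg.Geo.subalgebraNormalizer K ⊓ Cfsg.Geo.specialLinear (Fin n) F) := by
  classical
  haveI : NeZero n := ⟨by omega⟩
  obtain ⟨p, hp⟩ := CharP.exists F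
  haveI := hp
  haveI : Fact p.Prime := ⟨CharP.char_is_prime F p⟩
  obtain ⟨f, -, hf⟩ := FiniteField.card F p
  set q := Fintype.card F with hq
  have hq2 : 2 ≤ q := Fintype.one_lt_card
  obtain ⟨s, hsr, hs2, hsr'⟩ := Nat.exists_dvd_of_not_prime2 (by omega : 2 ≤ r) hrp
  have hn2r : 2 * r ≤ n := by
    obtain ⟨c, rfl⟩ := hrn
    have : 2 ≤ c := by
      by_contra h
      push Not at h
      interval_cases c <;> omega
    nlinarith
  have hKf : Cfsg.Agent.Lib.H13.FieldSub.IsFld K := ⟨hK.comm, hK.inv⟩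
  have hpe : p ^ ((f : ℕ) * s) = q ^ s := by rw [pow_mul, ← hf]
  have hQ : ∀ c : F, c ^ (p ^ ((f : ℕ) * s)) = c := by
    intro c
    rw [hpe]
    exact FiniteField.pow_card_pow s c
  set K₀ := Cfsg.Agent.Lib.H13.FieldNorm.fixSub K hKf p ((f : ℕ) * s) hQ with hK₀
  have hK₀f : Cfsg.Agent.Lib.H13.FieldSub.IsFld K₀ :=
    Cfsg.Agent.Lib.H13.FieldNorm.isFld_fixSub K hKf p _ hQ
  have hle : Cfsg.Geo.subalgebraNormalizer K ≤ Cfsg.Geo.subalgebraNormalizer K₀ :=
    Cfsg.Agent.Lib.H13.FieldNorm.normalizer_le K hKf p _ hQ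
  have hcardK : Nat.card ↥K = q ^ r := Cfsg.Agent.Lib.H13.FieldNorm.card_of_finrank K r hK.finrank_eq
  haveI : Fact (Cfsg.Agent.Lib.H13.FieldSub.IsFld K) := ⟨hKf⟩
  haveI : Fact (Cfsg.Agent.Lib.H13.FieldSub.IsFld K₀) := ⟨hK₀f⟩
  haveI : Fact (Cfsg.Agent.Lib.H13.FieldSub.IsFld (⊥ : Subalgebra F (Matrix (Fin n) (Fin n) F))) :=
    ⟨Cfsg.Agent.Lib.H13.FieldNorm.isFld_bot⟩
  have hQs1 : 1 < q ^ s := Nat.one_lt_pow (by omega) hq2
  have hcardK₀ : Nat.card ↥K₀ ≤ q ^ s := by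
    apply Cfsg.Agent.Lib.H13.FieldNorm.card_le_of_pow_eq K₀ (q ^ s) hQs1
    intro x hx
    rw [← hpe]
    exact hx.2
  obtain ⟨k₀, hk₀K, hk₀Q, hk₀bot⟩ :=
    Cfsg.Agent.Lib.H13.FieldNorm.exists_nonscalar K r s hcardK hsr (by omega) (by omega)
  have hk₀ : k₀ ∈ K₀ := ⟨hk₀K, by rw [hpe]; exact hk₀Q⟩
  obtain ⟨k, hkK, hkK₀⟩ : ∃ k ∈ K, k ∉ K₀ := by
    by_contra h
    push Not at h
    haveI : Finite ↥K₀ := Subtype.finite
    have h1 : Nat.card ↥K ≤ Nat.card ↥K₀ :=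
      Nat.card_le_card_of_injective (fun x : ↥K => (⟨x.1, h x.1 x.2⟩ : ↥K₀))
        (fun x y hxy => Subtype.ext (Subtype.mk.inj hxy))
    have h2 : q ^ s < q ^ r := Nat.pow_lt_pow_right hq2 hsr'
    omega
  have hcardbot : Nat.card ↥(⊥ : Subalgebra F (Matrix (Fin n) (Fin n) F)) ≤ q := by
    have hsurj : Function.Surjective (fun c : F =>
        (⟨algebraMap F _ c, Algebra.mem_bot.mpr ⟨c, rfl⟩⟩ :
          ↥(⊥ : Subalgebra F (Matrix (Fin n) (Fin n) F)))) := by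
      rintro ⟨x, hx⟩
      obtain ⟨c, rfl⟩ := Algebra.mem_bot.mp hx
      exact ⟨c, rfl⟩
    calc Nat.card ↥(⊥ : Subalgebra F (Matrix (Fin n) (Fin n) F)) ≤ Nat.card F :=
          Nat.card_le_card_of_surjective _ hsurj
      _ = q := Nat.card_eq_fintype_card
  -- an element of SL normalizing K₀ but not K
  obtain ⟨g₁, hg₁det, hg₁comm, hg₁⟩ := Cfsg.Agent.Lib.H13.FieldSub.exists_transvection (E := K₀)
    (S := (K : Set (Matrix (Fin n) (Fin n) F))) (p := p) (by
      have h1 : Nat.card ↥(K : Set (Matrix (Fin n) (Fin n) F)) = q ^ r := hcardK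
      rw [h1]
      calc q ^ r * Nat.card ↥K₀ ≤ q ^ r * q ^ s := Nat.mul_le_mul_left _ hcardK₀
        _ = q ^ (r + s) := (pow_add q r s).symm
        _ < q ^ n := Nat.pow_lt_pow_right hq2 (by omega))
    k (fun e he => hKf.comm k hkK e he.1) hkK₀
  -- an element of SL not normalizing K₀
  obtain ⟨g₂, hg₂det, _, hg₂⟩ := Cfsg.Agent.Lib.H13.FieldSub.exists_transvection
    (E := (⊥ : Subalgebra F (Matrix (Fin n) (Fin n) F)))
    (S := (K₀ : Set (Matrix (Fin n) (Fin n) F))) (p := p) (by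
      have h1 : Nat.card ↥(K₀ : Set (Matrix (Fin n) (Fin n) F)) ≤ q ^ s := hcardK₀
      calc Nat.card ↥(K₀ : Set (Matrix (Fin n) (Fin n) F)) *
            Nat.card ↥(⊥ : Subalgebra F (Matrix (Fin n) (Fin n) F)) ≤ q ^ s * q :=
            Nat.mul_le_mul h1 hcardbot
        _ = q ^ (s + 1) := (pow_succ q s).symm
        _ < q ^ n := Nat.pow_lt_pow_right hq2 (by omega))
    k₀ (fun e he => by
      obtain ⟨c, rfl⟩ := Algebra.mem_bot.mp he
      exact (Algebra.commutes c k₀).symm) hk₀bot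
  have hSL : ∀ g : GL (Fin n) F, (g : Matrix (Fin n) (Fin n) F).det = 1 →
      g ∈ Cfsg.Geo.specialLinear (Fin n) F := by
    intro g hg
    show g ∈ (Matrix.GeneralLinearGroup.det : GL (Fin n) F →* Fˣ).ker
    rw [MonoidHom.mem_ker]
    exact Units.ext hg
  have hg₁N₀ : g₁ ∈ Cfsg.Geo.subalgebraNormalizer K₀ := by
    intro x
    have hinv : (g₁ : Matrix (Fin n) (Fin n) F) * ((g₁⁻¹ : GL (Fin n) F) : Matrix (Fin n) (Fin n) F) = 1 := by
      rw [← Units.val_mul, mul_inv_cancel, Units.val_one]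
    have hinv' : ((g₁⁻¹ : GL (Fin n) F) : Matrix (Fin n) (Fin n) F) * (g₁ : Matrix (Fin n) (Fin n) F) = 1 := by
      rw [← Units.val_mul, inv_mul_cancel, Units.val_one]
    constructor
    · intro hx
      rw [hg₁comm x hx, mul_assoc, hinv, mul_one]
      exact hx
    · intro hy
      have h1 := hg₁comm _ hy
      have h2 : (g₁ : Matrix (Fin n) (Fin n) F) * x * ((g₁⁻¹ : GL (Fin n) F) : Matrix (Fin n) (Fin n) F) *
          (g₁ : Matrix (Fin n) (Fin n) F) = (g₁ : Matrix (Fin n) (Fin n) F) * x := by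
        rw [mul_assoc, hinv', mul_one]
      rw [h2] at h1
      have h3 : ((g₁⁻¹ : GL (Fin n) F) : Matrix (Fin n) (Fin n) F) * ((g₁ : Matrix (Fin n) (Fin n) F) *
          ((g₁ : Matrix (Fin n) (Fin n) F) * x * ((g₁⁻¹ : GL (Fin n) F) : Matrix (Fin n) (Fin n) F))) =
          ((g₁⁻¹ : GL (Fin n) F) : Matrix (Fin n) (Fin n) F) * ((g₁ : Matrix (Fin n) (Fin n) F) * x) := by
        rw [h1]
      rw [← mul_assoc, hinv', one_mul] at h3
      have h4 : ((g₁⁻¹ : GL (Fin n) F) : Matrix (Fin n) (Fin n) F) * ((g₁ : Matrix (Fin n) (Fin n) F) * x) = x := by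
        rw [← mul_assoc, hinv', one_mul]
      rw [h4] at h3
      rw [← h3]
      exact hy
  have hg₁N : g₁ ∉ Cfsg.Geo.subalgebraNormalizer K := by
    intro h
    exact hg₁ ((h k).mp hkK)
  have hg₂N₀ : g₂ ∉ Cfsg.Geo.subalgebraNormalizer K₀ := by
    intro h
    exact hg₂ ((h k₀).mp hk₀)
  constructor
  · intro hco
    have hlt : Cfsg.Geo.subalgebraNormalizer K < Cfsg.Geo.subalgebraNormalizer K₀ :=
      lt_of_le_of_ne hle (fun h => hg₁N (h ▸ hg₁N₀))
    have htop := hco.2 _ hlt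
    exact hg₂N₀ (htop ▸ Subgroup.mem_top g₂)
  · intro hmax
    rcases hmax.2 (Cfsg.Geo.subalgebraNormalizer K₀ ⊓ Cfsg.Geo.specialLinear (Fin n) F)
      (inf_le_inf_right _ hle) inf_le_right with h | h
    · have h1 : g₁ ∈ Cfsg.Geo.subalgebraNormalizer K₀ ⊓ Cfsg.Geo.specialLinear (Fin n) F :=
        ⟨hg₁N₀, hSL g₁ hg₁det⟩
      rw [h] at h1
      exact hg₁N h1.1
    · have h1 : g₂ ∈ Cfsg.Geo.specialLinear (Fin n) F := hSL g₂ hg₂det
      rw [← h] at h1
      exact hg₂N₀ h1.1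

end Cfsg.Agent.S5887
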