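import Cfsg.Statements.S5892
import Mathlib
import Cfsg.Agent.Lib.H5.PSL2MaxDih
import Cfsg.Agent.Lib.H5.PSL2MaxSub
import Cfsg.Agent.Lib.H5.PSL2MinIndex
import Cfsg.Agent.Lib.H5.PSL2Iso

set_option autoImplicit false
set_option linter.style.haveILetI false
open Cfsg

namespace Cfsg.Agent.S5892

open Cfsg.Agent.Lib.H5 Cfsg.Agent.Lib.H5.PSL2Torus

/-- the Borel case -/
theorem borel_case {F : Type*} [Field F] [Fintype F] (p : ℕ) [Fact p.Prime] [CharP F p]
    (hodd : Odd (Fintype.card F))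
    (M : Subgroup (Matrix.ProjectiveSpecialLinearGroup (Fin 2) F)) (hM : IsCoatom M)
    (hpM : p ∣ Nat.card M) (h1 : Nat.card (Sylow p M) = 1) :
    2 * Nat.card M = Fintype.card F * (Fintype.card F - 1) := by
  obtain ⟨P, hP⟩ := PSL2Borel.le_normalizer_of_card_sylow_eq_one p M hpM h1
  have hidx := PSL2MinIndex.index_normalizer_sylow p P
  have hq1 : 2 ≤ Fintype.card F := Fintype.one_lt_card
  have hMeq : M = Subgroup.normalizer ((P : Subgroup (Matrix.ProjectiveSpecialLinearGroup (Fin 2) F)) :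
      Set (Matrix.ProjectiveSpecialLinearGroup (Fin 2) F)) := by
    rcases hM.le_iff.1 hP with h | h
    · rw [h, Subgroup.index_top] at hidx
      omega
    · exact h.symm
  have h2 := M.card_mul_index
  rw [← hMeq] at hidx
  rw [hidx] at h2
  have hcG := PSL2PrimeMax.two_mul_card hodd
  have h3 : Fintype.card F ^ 2 - 1 = (Fintype.card F + 1) * (Fintype.card F - 1) := by
    obtain ⟨k, hk⟩ : ∃ k, Fintype.card F = k + 1 := ⟨Fintype.card F - 1, by omega⟩
    rw [hk]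
    simp only [Nat.add_sub_cancel]
    have : (k + 1) ^ 2 = (k + 1 + 1) * k + 1 := by ring
    omega
  rw [h3, ← h2] at hcG
  have h4 : (Fintype.card F + 1) * (2 * Nat.card M) =
      (Fintype.card F + 1) * (Fintype.card F * (Fintype.card F - 1)) := by
    calc (Fintype.card F + 1) * (2 * Nat.card M)
        = 2 * (Nat.card M * (Fintype.card F + 1)) := by ring
      _ = Fintype.card F * ((Fintype.card F + 1) * (Fintype.card F - 1)) := hcG
      _ = _ := by ring
  exact Nat.eq_of_mul_eq_mul_left (by omega) h4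

/-- Let F be a finite field of odd order q ≥ 5 and characteristic p, and let M be a maximal subgroup of PSL₂(F). Then one of the following holds: |M| = q(q − 1)/2 (the stabiliser of a point of the projective line); q ≥ 13 and M is dihedral of order q − 1; q ∉ {7, 9} and M is dihedral of order q + 1; q = q₀² and M ≅ PGL₂(F₀) with |F₀| = q₀; q = q₀^r for an odd prime r and M ≅ PSL₂(F₀) with |F₀| = q₀; q ≡ ±1 (mod 10) with q = p or q = p², p ≡ ±3 (mod 10), and M ≅ A₅; q = p ≡ ±3 (mod 8), q ≢ ±1 (mod 10), and M ≅ A₄; or q = p ≡ ±1 (mod 8) and M ≅ S₄. -/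
theorem result {F : Type*} [Field F] [Fintype F] (p : ℕ)
    [Fact p.Prime] [CharP F p] (hodd : Odd (Fintype.card F)) (h5 : 5 ≤ Fintype.card F)
    (M : Subgroup (Matrix.ProjectiveSpecialLinearGroup (Fin 2) F)) (hM : IsCoatom M) :
    2 * Nat.card M = Fintype.card F * (Fintype.card F - 1) ∨
    (13 ≤ Fintype.card F ∧ (∃ k : ℕ, 2 * k = Fintype.card F - 1 ∧ Nonempty (M ≃* DihedralGroup k))) ∨
    (Fintype.card F ≠ 7 ∧ Fintype.card F ≠ 9 ∧ (∃ k : ℕ, 2 * k = Fintype.card F + 1 ∧ Nonempty (M ≃* DihedralGroup k))) ∨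
    (∃ (F₀ : Type) (_ : Field F₀) (_ : Fintype F₀), Fintype.card F = Fintype.card F₀ ^ 2 ∧
        Nonempty (M ≃* Matrix.ProjGenLinGroup (Fin 2) F₀)) ∨
    (∃ (F₀ : Type) (_ : Field F₀) (_ : Fintype F₀) (r : ℕ), r.Prime ∧ Odd r ∧ Fintype.card F = Fintype.card F₀ ^ r ∧
        Nonempty (M ≃* Matrix.ProjectiveSpecialLinearGroup (Fin 2) F₀)) ∨
    ((Fintype.card F % 10 = 1 ∨ Fintype.card F % 10 = 9) ∧
        (Fintype.card F = p ∨ (Fintype.card F = p ^ 2 ∧ (p % 10 = 3 ∨ p % 10 = 7))) ∧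
        Nonempty (M ≃* alternatingGroup (Fin 5))) ∨
    (Fintype.card F = p ∧ (p % 8 = 3 ∨ p % 8 = 5) ∧ ¬ (p % 10 = 1 ∨ p % 10 = 9) ∧
        Nonempty (M ≃* alternatingGroup (Fin 4))) ∨
    (Fintype.card F = p ∧ (p % 8 = 1 ∨ p % 8 = 7) ∧ Nonempty (M ≃* Equiv.Perm (Fin 4))) := by
  have hpp : p.Prime := Fact.out
  by_cases hpM : p ∣ Nat.card M
  · rcases Nat.lt_or_ge 1 (Nat.card (Sylow p M)) with h1 | h1
    · rcases PSL2MaxSub.subfield_case p hodd M hM h1 with
        ⟨S, r, hr, hro, hq, ⟨e⟩⟩ | ⟨S, hq, ⟨e⟩⟩ | ⟨h3, ⟨e⟩⟩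
      · obtain ⟨F₀, hf, hft, hc0, ⟨f⟩⟩ := PSL2MaxTwo.exists_type0_copy S
        right; right; right; right; left
        exact ⟨F₀, hf, hft, r, hr, hro, by rw [hq, hc0], ⟨e.trans (PSL2Iso.pslMapEquiv f)⟩⟩
      · obtain ⟨F₀, hf, hft, hc0, ⟨f⟩⟩ := PSL2MaxTwo.exists_type0_copy S
        right; right; right; left
        exact ⟨F₀, hf, hft, by rw [hq, hc0], ⟨e.trans (PSL2Iso.pglMapEquiv f)⟩⟩
      · obtain ⟨h10, hcases⟩ := PSL2MaxExc.A5_disjunct p hodd M hM (by omega) e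
        right; right; right; right; right; left
        exact ⟨h10, hcases, ⟨e⟩⟩
    · left
      have hpos : 0 < Nat.card (Sylow p M) := Nat.card_pos
      exact borel_case p hodd M hM hpM (by omega)
  · rcases PSL2PPrime.classify_of_coprime p hodd M hpM with
      ⟨hc, -⟩ | ⟨k, -, ⟨e⟩⟩ | ⟨⟨e⟩⟩ | ⟨⟨e⟩⟩ | ⟨⟨e⟩⟩
    · exact (PSL2MaxDih.not_coatom_of_isCyclic p hodd h5 M hM hpM hc).elim
    · rcases PSL2MaxDih.dihedral_case p hodd h5 M hM hpM k e with ⟨h13, hk⟩ | ⟨h7, h9, hk⟩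
      · right; left
        exact ⟨h13, k, hk, ⟨e⟩⟩
      · right; right; left
        exact ⟨h7, h9, k, hk, ⟨e⟩⟩
    · obtain ⟨hq, h8, h10⟩ := PSL2MaxExc.A4_disjunct p hodd h5 M hM hpM e
      right; right; right; right; right; right; left
      exact ⟨hq, h8, h10, ⟨e⟩⟩
    · obtain ⟨hq, h8⟩ := PSL2MaxExc.S4_disjunct p hodd M hM hpM e
      right; right; right; right; right; right; right
      exact ⟨hq, h8, ⟨e⟩⟩
    · have hp5 : p ≠ 5 := by
        rintro rfl
        apply hpM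
        rw [Nat.card_congr e.toEquiv, PSL2PrimeMax.card_alt_five]
        norm_num
      obtain ⟨h10, hcases⟩ := PSL2MaxExc.A5_disjunct p hodd M hM hp5 e
      right; right; right; right; right; left
      exact ⟨h10, hcases, ⟨e⟩⟩

end Cfsg.Agent.S5892
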