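import Cfsg.Statements.S5893
import Mathlib
import Cfsg.Agent.Lib.H5.PSL2MaxTwo

set_option autoImplicit false
open Cfsg

namespace Cfsg.Agent.S5893

/-- Let F be a finite field of even order q ≥ 4 and let M be a maximal subgroup of PSL₂(F) (= SL₂(F) = PGL₂(F)). Then one of the following holds: |M| = q(q − 1) (the stabiliser of a point of the projective line, elementary abelian of order q extended by a cyclic group of order q − 1); M is dihedral of order 2(q − 1); M is dihedral of order 2(q + 1); or q = q₀^r for a prime r with q₀ ≠ 2 and M ≅ PSL₂(F₀) with |F₀| = q₀. -/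
theorem result {F : Type*} [Field F] [Fintype F]
    (heven : Even (Fintype.card F)) (h4 : 4 ≤ Fintype.card F) (M : Subgroup (Matrix.ProjectiveSpecialLinearGroup (Fin 2) F)) (hM : IsCoatom M) :
    Nat.card M = Fintype.card F * (Fintype.card F - 1) ∨
    Nonempty (M ≃* DihedralGroup (Fintype.card F - 1)) ∨
    Nonempty (M ≃* DihedralGroup (Fintype.card F + 1)) ∨
    (∃ (F₀ : Type) (_ : Field F₀) (_ : Fintype F₀) (r : ℕ), r.Prime ∧ Fintype.card F₀ ≠ 2 ∧
        Fintype.card F = Fintype.card F₀ ^ r ∧ Nonempty (M ≃* Matrix.ProjectiveSpecialLinearGroup (Fin 2) F₀)) := by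
  have h2 : (2 : F) = 0 := Cfsg.Agent.Lib.H5.PSL2SubfieldMaxTwo.two_eq_zero_of_even heven
  obtain ⟨e, he⟩ : ∃ e : Matrix.SpecialLinearGroup (Fin 2) F ≃*
      Matrix.ProjectiveSpecialLinearGroup (Fin 2) F, e = Cfsg.Agent.Lib.H5.PSL2MaxTwo.slEquiv h2 :=
    ⟨_, rfl⟩
  obtain ⟨L, hLdef⟩ : ∃ L : Subgroup (Matrix.SpecialLinearGroup (Fin 2) F),
      L = M.comap e.toMonoidHom := ⟨_, rfl⟩
  have hL : IsCoatom L := by
    have := (OrderIso.isCoatom_iff (MulEquiv.comapSubgroup e) M).2 hM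
    rwa [MulEquiv.coe_comapSubgroup, ← hLdef] at this
  have hmap : L.map e.toMonoidHom = M := by
    rw [hLdef]
    exact Subgroup.map_comap_eq_self_of_surjective e.surjective M
  obtain ⟨eM⟩ : Nonempty (L ≃* M) :=
    ⟨(L.equivMapOfInjective e.toMonoidHom e.injective).trans (MulEquiv.subgroupCongr hmap)⟩
  rcases Cfsg.Agent.Lib.H5.PSL2MaxTwo.coatom_cases_sl2 h2 h4 L hL with h | ⟨⟨d⟩⟩ | ⟨⟨d⟩⟩ |
    ⟨S, r, hr, hS4, hcard, ⟨d⟩⟩
  · left
    rw [← Nat.card_congr eM.toEquiv, h]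
  · right; left
    exact ⟨eM.symm.trans d⟩
  · right; right; left
    exact ⟨eM.symm.trans d⟩
  · right; right; right
    obtain ⟨F₀, hf, hft, hc0, ⟨f⟩⟩ := Cfsg.Agent.Lib.H5.PSL2MaxTwo.exists_type0_copy S
    have h20 : (2 : F₀) = 0 := by
      have h2S : (2 : S) = 0 := Subtype.ext h2
      have := congrArg f h2S
      rwa [map_ofNat, map_zero] at this
    refine ⟨F₀, hf, hft, r, hr, ?_, ?_, ⟨?_⟩⟩
    · rw [hc0]; omega
    · rw [hc0]; exact hcard
    · exact ((eM.symm.trans d).trans (Cfsg.Agent.Lib.H5.PSL2MaxTwo.slMapEquiv f)).trans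
        (Cfsg.Agent.Lib.H5.PSL2MaxTwo.slEquiv h20)

end Cfsg.Agent.S5893
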