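import Cfsg.Statements.S5894
import Cfsg.Agent.S5905

set_option autoImplicit false
open Cfsg

namespace Cfsg.Agent.S5894

open scoped Pointwise

/-- Transport of a coatom along an injective homomorphism. -/
theorem isCoatom_map_subgroupOf_range {G' G : Type*} [Group G'] [Group G] (φ : G' →* G)
    (hφ : Function.Injective φ) (J : Subgroup G') (hJ : IsCoatom J) :
    IsCoatom ((J.map φ).subgroupOf φ.range) := by
  have h1 : (J.map φ).subgroupOf φ.range = (MonoidHom.ofInjective hφ).mapSubgroup J := by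
    ext ⟨y, hy⟩
    rw [Subgroup.mem_subgroupOf]
    simp only [MulEquiv.mapSubgroup_apply, Subgroup.mem_map]
    constructor
    · rintro ⟨g, hg, hgy⟩
      exact ⟨g, hg, Subtype.ext hgy⟩
    · rintro ⟨g, hg, hgy⟩
      exact ⟨g, hg, congrArg Subtype.val hgy⟩
  rw [h1, OrderIso.isCoatom_iff]
  exact hJ

theorem card_fibre (m : ℕ) (i : Fin 2) :
    Nat.card {x : Fin (2 * m) // ((finProdFinEquiv (m := 2) (n := m)).symm x).1 = i} = m := by
  have e : {x : Fin (2 * m) // ((finProdFinEquiv (m := 2) (n := m)).symm x).1 = i} ≃ Fin m :=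
    { toFun := fun x => ((finProdFinEquiv (m := 2) (n := m)).symm x.1).2
      invFun := fun y => ⟨finProdFinEquiv (i, y), by simp⟩
      left_inv := by
        rintro ⟨x, hx⟩
        apply Subtype.ext
        simp only
        rw [← hx]
        exact (finProdFinEquiv (m := 2) (n := m)).apply_symm_apply x
      right_inv := by
        intro y
        simp }
  rw [Nat.card_congr e, Nat.card_eq_fintype_card, Fintype.card_fin]

/-- The symmetric group of even degree has a non-second-maximal subgroup below a point stabilizer. -/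
theorem result (m : ℕ) (hm : 2 ≤ m) :
    ∃ M H K : Subgroup (Equiv.Perm (Fin (2 * m))), IsCoatom M ∧ M.index = 2 * m ∧ H ≤ M ∧ IsCoatom (H.subgroupOf M) ∧
      IsCoatom K ∧ H ≤ K ∧ ¬ IsCoatom (H.subgroupOf K) := by
  classical
  let e₀ : Fin (2 * m) ≃ Fin 2 × Fin m := (finProdFinEquiv (m := 2) (n := m)).symm
  let f : Fin (2 * m) → Fin 2 := fun x => (e₀ x).1
  have hf : ∀ i : Fin 2, Nat.card {x : Fin (2 * m) // f x = i} = m := card_fibre m
  have hfe : ∀ p : Fin 2 × Fin m, f (e₀.symm p) = p.1 := by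
    intro p; simp [f]
  let t₀ : Fin m := ⟨0, by omega⟩
  let t₁ : Fin m := ⟨1, by omega⟩
  have ht : t₀ ≠ t₁ := by simp [t₀, t₁, Fin.ext_iff]
  let x₀ : Fin (2 * m) := e₀.symm (1, t₀)
  let x₁ : Fin (2 * m) := e₀.symm (1, t₁)
  let y₀ : Fin (2 * m) := e₀.symm (0, t₀)
  have hfx₀ : f x₀ = 1 := hfe _
  have hfx₁ : f x₁ = 1 := hfe _
  have hfy₀ : f y₀ = 0 := hfe _
  have hx₁x₀ : x₁ ≠ x₀ := by
    intro h
    have := e₀.symm.injective h
    exact ht (Prod.ext_iff.mp this).2.symm
  have hy₀x₀ : y₀ ≠ x₀ := by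
    intro h
    have := congrArg f h
    rw [hfy₀, hfx₀] at this
    exact absurd this (by decide)
  let φ : Equiv.Perm {x : Fin (2 * m) // x ≠ x₀} →* Equiv.Perm (Fin (2 * m)) := Equiv.Perm.ofSubtype
  have hφ : Function.Injective φ := Equiv.Perm.ofSubtype_injective
  let A' : Set {x : Fin (2 * m) // x ≠ x₀} := {x | f x.1 = 0}
  have hMstab : φ.range = MulAction.stabilizer (Equiv.Perm (Fin (2 * m))) x₀ := by
    ext g
    rw [MulAction.mem_stabilizer_iff]
    constructor
    · rintro ⟨g', rfl⟩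
      exact Equiv.Perm.ofSubtype_apply_of_not_mem g' (by simp)
    · intro hg
      have hg' : g x₀ = x₀ := hg
      have h₁ : ∀ x, g x ≠ x₀ ↔ x ≠ x₀ := by
        intro x
        rw [not_iff_not]
        constructor
        · intro h; apply g.injective; rw [h, hg']
        · intro h; rw [h, hg']
      refine ⟨g.subtypePerm h₁, ?_⟩
      apply Equiv.Perm.ofSubtype_subtypePerm
      intro x hx
      intro h
      apply hx
      rw [h, hg']
  haveI : Nontrivial (Fin (2 * m)) := Fin.nontrivial_iff_two_le.mpr (by omega)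
  have hK : IsCoatom (Cfsg.Agent.S5905.W f) := Cfsg.Agent.S5905.isCoatom_W m 2 hm le_rfl f hf
  -- the stabilizer of A' is a maximal subgroup
  have hA'co : IsCoatom (MulAction.stabilizer (Equiv.Perm {x : Fin (2 * m) // x ≠ x₀}) A') := by
    apply Equiv.Perm.isCoatom_stabilizer
    · exact ⟨⟨y₀, hy₀x₀⟩, hfy₀⟩
    · refine ⟨⟨x₁, hx₁x₀⟩, ?_⟩
      show ¬ f x₁ = 0
      rw [hfx₁]; decide
    · rw [Nat.card_eq_fintype_card, Fintype.card_subtype_compl, Fintype.card_fin,
        Fintype.card_subtype_eq]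
      omega
  -- elements of the image of the stabilizer of A' preserve f
  have hHf : ∀ g' ∈ MulAction.stabilizer (Equiv.Perm {x : Fin (2 * m) // x ≠ x₀}) A',
      ∀ x, f (φ g' x) = f x := by
    intro g' hg' x
    by_cases hx : x = x₀
    · rw [hx, Equiv.Perm.ofSubtype_apply_of_not_mem g' (by simp)]
    · have h1 : φ g' x = g' ⟨x, hx⟩ := Equiv.Perm.ofSubtype_apply_of_mem g' hx
      rw [h1]
      have h2 := (MulAction.mem_stabilizer_set.mp hg') ⟨x, hx⟩
      have h3 : (f (g' ⟨x, hx⟩).1 = 0) ↔ (f x = 0) := h2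
      generalize f (g' ⟨x, hx⟩).1 = u at h3
      generalize f x = v at h3
      revert h3
      fin_cases u <;> fin_cases v <;> simp
  refine ⟨φ.range, (MulAction.stabilizer (Equiv.Perm {x : Fin (2 * m) // x ≠ x₀}) A').map φ,
    Cfsg.Agent.S5905.W f, ?_, ?_, ?_, ?_, hK, ?_, ?_⟩
  · rw [hMstab]
    exact MulAction.IsPreprimitive.isCoatom_stabilizer_of_isPreprimitive _ x₀
  · rw [hMstab, MulAction.index_stabilizer_of_transitive, Nat.card_eq_fintype_card,
      Fintype.card_fin]
  · exact Subgroup.map_le_range _ _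
  · exact isCoatom_map_subgroupOf_range φ hφ _ hA'co
  · rintro _ ⟨g', hg', rfl⟩
    exact Cfsg.Agent.S5905.mem_W_of f 1 _ (hHf g' hg')
  · intro hco
    -- the stabilizer of the first block lies strictly between
    let A : Set (Fin (2 * m)) := {x | f x = 0}
    let I : Subgroup (Equiv.Perm (Fin (2 * m))) := MulAction.stabilizer _ A
    have hHI : (MulAction.stabilizer (Equiv.Perm {x : Fin (2 * m) // x ≠ x₀}) A').map φ ≤ I := by
      rintro _ ⟨g', hg', rfl⟩
      rw [MulAction.mem_stabilizer_set]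
      intro x
      show f (φ g' x) = 0 ↔ f x = 0
      rw [hHf g' hg' x]
    have hIK : I ≤ Cfsg.Agent.S5905.W f := by
      intro g hg x y
      have hx := (MulAction.mem_stabilizer_set.mp hg) x
      have hy := (MulAction.mem_stabilizer_set.mp hg) y
      have hx' : f (g x) = 0 ↔ f x = 0 := hx
      have hy' : f (g y) = 0 ↔ f y = 0 := hy
      generalize f (g x) = u at hx'
      generalize f (g y) = u' at hy'
      generalize f x = v at hx'
      generalize f y = v' at hy'
      revert hx' hy'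
      fin_cases u <;> fin_cases u' <;> fin_cases v <;> fin_cases v' <;> simp
    by_cases heq : I.subgroupOf (Cfsg.Agent.S5905.W f) =
        ((MulAction.stabilizer (Equiv.Perm {x : Fin (2 * m) // x ≠ x₀}) A').map φ).subgroupOf
          (Cfsg.Agent.S5905.W f)
    · -- swap x₀ x₁ lies in I but does not fix x₀
      have hsw : Equiv.swap x₀ x₁ ∈ I := by
        rw [MulAction.mem_stabilizer_set]
        intro x
        show f (Equiv.swap x₀ x₁ x) = 0 ↔ f x = 0
        by_cases h0 : x = x₀
        · rw [h0, Equiv.swap_apply_left, hfx₁, hfx₀]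
        by_cases h1 : x = x₁
        · rw [h1, Equiv.swap_apply_right, hfx₁, hfx₀]
        rw [Equiv.swap_apply_of_ne_of_ne h0 h1]
      have hsw' : (⟨Equiv.swap x₀ x₁, hIK hsw⟩ : Cfsg.Agent.S5905.W f) ∈
          I.subgroupOf (Cfsg.Agent.S5905.W f) := hsw
      rw [heq] at hsw'
      have hsw'' : Equiv.swap x₀ x₁ ∈
          (MulAction.stabilizer (Equiv.Perm {x : Fin (2 * m) // x ≠ x₀}) A').map φ := hsw'
      have hr : Equiv.swap x₀ x₁ ∈ φ.range := Subgroup.map_le_range _ _ hsw''
      rw [hMstab, MulAction.mem_stabilizer_iff] at hr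
      have : Equiv.swap x₀ x₁ x₀ = x₀ := hr
      rw [Equiv.swap_apply_left] at this
      exact hx₁x₀ this
    · have hlt : ((MulAction.stabilizer (Equiv.Perm {x : Fin (2 * m) // x ≠ x₀}) A').map φ).subgroupOf
          (Cfsg.Agent.S5905.W f) < I.subgroupOf (Cfsg.Agent.S5905.W f) :=
        lt_of_le_of_ne (Subgroup.comap_mono hHI) (Ne.symm heq)
      have htop := hco.2 _ hlt
      rw [Subgroup.subgroupOf_eq_top] at htop
      -- the block-swapping permutation lies in W but not in I
      let τ : Equiv.Perm (Fin (2 * m)) :=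
        e₀.trans ((Equiv.prodCongr (Equiv.swap (0 : Fin 2) 1) (Equiv.refl (Fin m))).trans e₀.symm)
      have hτf : ∀ x, f (τ x) = Equiv.swap (0 : Fin 2) 1 (f x) := by
        intro x
        simp [τ, f]
      have hτW : τ ∈ Cfsg.Agent.S5905.W f :=
        Cfsg.Agent.S5905.mem_W_of f (Equiv.swap (0 : Fin 2) 1) τ hτf
      have hτI := htop hτW
      have := (MulAction.mem_stabilizer_set.mp hτI) y₀
      have h' : f (τ y₀) = 0 ↔ f y₀ = 0 := this
      rw [hτf, hfy₀] at h'
      simp at h'

end Cfsg.Agent.S5894
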