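import Cfsg.Statements.S5895
import Cfsg.Agent.Lib.H29.Affine

set_option autoImplicit false
open Cfsg

namespace Cfsg.Agent.S5895

open Cfsg.Agent.Lib.H29 SemidirectProduct

/-- the vector `c • e_j` -/
def sv {d p : ℕ} (j : Fin d) (c : ZMod p) : Fin d → ZMod p := fun k => if k = j then c else 0

theorem sv_ne {d p : ℕ} {i j : Fin d} (hij : i ≠ j) (c : ZMod p) : sv j c i = 0 :=
  if_neg hij

theorem sv_same {d p : ℕ} (j : Fin d) (c : ZMod p) : sv j c j = c :=
  if_pos rfl

theorem sum_sv {d p : ℕ} (v : Fin d → ZMod p) : ∑ k, sv k (v k) = v := by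
  ext i
  rw [Finset.sum_apply]
  simp only [sv]
  rw [Finset.sum_ite_eq]
  simp

/-- transvection `x ↦ x + c * x i • e_j` as an additive automorphism -/
def transv {d p : ℕ} (i j : Fin d) (hij : i ≠ j) (c : ZMod p) :
    (Fin d → ZMod p) ≃+ (Fin d → ZMod p) where
  toFun x := x + sv j (c * x i)
  invFun x := x - sv j (c * x i)
  left_inv x := by
    have : (x + sv j (c * x i)) i = x i := by
      rw [Pi.add_apply, sv_ne hij, add_zero]
    dsimp only
    rw [this]; abel
  right_inv x := by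
    have : (x - sv j (c * x i)) i = x i := by
      rw [Pi.sub_apply, sv_ne hij, sub_zero]
    dsimp only
    rw [this]; abel
  map_add' x y := by
    ext k
    by_cases hk : k = j
    · subst hk
      simp only [Pi.add_apply, sv_same]; ring
    · simp only [Pi.add_apply, sv_ne hk]; ring

theorem transv_apply {d p : ℕ} (i j : Fin d) (hij : i ≠ j) (c : ZMod p) (x : Fin d → ZMod p) :
    transv i j hij c x = x + sv j (c * x i) := rfl

theorem irr_add {d p : ℕ} [Fact p.Prime] (hd : 2 ≤ d) (W : AddSubgroup (Fin d → ZMod p))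
    (hW : ∀ a : (Fin d → ZMod p) ≃+ (Fin d → ZMod p), ∀ v ∈ W, a v ∈ W) : W = ⊥ ∨ W = ⊤ := by
  obtain ⟨d', rfl⟩ : ∃ d', d = d' + 2 := ⟨d - 2, by omega⟩
  by_cases hbot : W = ⊥
  · exact Or.inl hbot
  right
  obtain ⟨w, hwW, hw0⟩ : ∃ w ∈ W, w ≠ 0 := by
    by_contra hcon
    push Not at hcon
    exact hbot ((AddSubgroup.eq_bot_iff_forall _).mpr hcon)
  obtain ⟨i, hi⟩ : ∃ i, w i ≠ 0 := by
    by_contra hcon
    push Not at hcon
    exact hw0 (funext hcon)
  -- all axes j ≠ i
  have h1 : ∀ j, j ≠ i → ∀ c : ZMod p, sv j c ∈ W := by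
    intro j hj c
    have h := hW (transv i j (Ne.symm hj) (c / w i)) w hwW
    have h2 : transv i j (Ne.symm hj) (c / w i) w - w = sv j c := by
      rw [transv_apply, div_mul_cancel₀ _ hi]; abel
    rw [← h2]
    exact W.sub_mem h hwW
  obtain ⟨j, hj⟩ := exists_ne i
  have h2 : ∀ c : ZMod p, sv i c ∈ W := by
    intro c
    have h := hW (transv j i hj c) _ (h1 j hj 1)
    have h3 : transv j i hj c (sv j 1) - sv j 1 = sv i c := by
      rw [transv_apply, sv_same, mul_one]; abel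
    rw [← h3]
    exact W.sub_mem h (h1 j hj 1)
  have h3 : ∀ k, ∀ c : ZMod p, sv k c ∈ W := by
    intro k c
    by_cases hk : k = i
    · rw [hk]; exact h2 c
    · exact h1 k hk c
  rw [eq_top_iff]
  intro v _
  rw [← sum_sv v]
  exact W.sum_mem (fun k _ => h3 k (v k))

abbrev NN (d p : ℕ) := Multiplicative (Fin d → ZMod p)

theorem irr_mul {d p : ℕ} [Fact p.Prime] (hd : 2 ≤ d) (W : Subgroup (NN d p))
    (hW : ∀ l : MulAut (NN d p), ∀ n ∈ W, l n ∈ W) : W = ⊥ ∨ W = ⊤ := by
  have := irr_add hd (Subgroup.toAddSubgroup' W) (by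
    intro a v hv
    exact hW ((MulAutMultiplicative (Fin d → ZMod p)).symm a) (Multiplicative.ofAdd v) hv)
  rcases this with h | h
  · left
    rw [← OrderIso.map_bot (Subgroup.toAddSubgroup' (A := Fin d → ZMod p))] at h
    exact Subgroup.toAddSubgroup'.injective h
  · right
    rw [← OrderIso.map_top (Subgroup.toAddSubgroup' (A := Fin d → ZMod p))] at h
    exact Subgroup.toAddSubgroup'.injective h

/-- a proper nontrivial subgroup of `NN d p` -/
theorem exists_proper {d p : ℕ} [Fact p.Prime] (hd : 2 ≤ d) :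
    ∃ W : Subgroup (NN d p), W ≠ ⊥ ∧ W ≠ ⊤ := by
  obtain ⟨d', rfl⟩ : ∃ d', d = d' + 2 := ⟨d - 2, by omega⟩
  let W₀ : AddSubgroup (Fin (d' + 2) → ZMod p) := (Pi.evalAddMonoidHom (fun _ => ZMod p) 0).ker
  refine ⟨AddSubgroup.toSubgroup W₀, ?_, ?_⟩
  · intro h
    have h1 : (sv 1 1 : Fin (d' + 2) → ZMod p) ∈ W₀ := by
      rw [AddMonoidHom.mem_ker]
      exact sv_ne (i := (0 : Fin (d' + 2))) (j := 1) (by simp) 1
    have h2 : Multiplicative.ofAdd (sv 1 1 : Fin (d' + 2) → ZMod p) ∈ AddSubgroup.toSubgroup W₀ := h1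
    rw [h, Subgroup.mem_bot] at h2
    have h3 : (sv 1 1 : Fin (d' + 2) → ZMod p) = 0 := h2
    have := congrFun h3 1
    rw [sv_same] at this
    exact one_ne_zero this
  · intro h
    have h2 : Multiplicative.ofAdd (sv 0 1 : Fin (d' + 2) → ZMod p) ∈ AddSubgroup.toSubgroup W₀ := by
      rw [h]; trivial
    have h1 : (sv 0 1 : Fin (d' + 2) → ZMod p) ∈ W₀ := h2
    rw [AddMonoidHom.mem_ker] at h1
    have h3 : sv (0 : Fin (d' + 2)) (1 : ZMod p) 0 = 0 := h1
    rw [sv_same] at h3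
    exact one_ne_zero h3

theorem result (p d : ℕ) (hp : p.Prime)
    (hd : 2 ≤ d) :
    ∃ (G : Type) (_ : Group G) (_ : Finite G) (M H K : Subgroup G), IsCoatom M ∧ M.index = p ^ d ∧ H ≤ M ∧
      IsCoatom (H.subgroupOf M) ∧ IsCoatom K ∧ H ≤ K ∧ ¬ IsCoatom (H.subgroupOf K) := by
  classical
  have : Fact p.Prime := ⟨hp⟩
  let N := NN d p
  have hfinA : Finite (MulAut N) := Finite.of_injective MulEquiv.toEquiv MulEquiv.toEquiv_injective
  -- irreducibility predicate
  let Irr : Subgroup (MulAut N) → Prop := fun J =>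
    ∀ W : Subgroup N, (∀ l ∈ J, ∀ n ∈ W, l n ∈ W) → W = ⊥ ∨ W = ⊤
  have htopIrr : Irr ⊤ := fun W hW => irr_mul hd W (fun l n hn => hW l trivial n hn)
  obtain ⟨L', hL'min⟩ := (Set.toFinite {J | Irr J}).exists_minimal ⟨⊤, htopIrr⟩
  have hL'irr : Irr L' := hL'min.prop
  obtain ⟨W₀, hW₀bot, hW₀top⟩ := exists_proper (d := d) (p := p) hd
  let φ : L' →* MulAut N := L'.subtype
  -- L' is nontrivial
  have hbt : (⊥ : Subgroup L') ≠ ⊤ := by
    intro h
    have h1 : L' = ⊥ := by
      rw [eq_bot_iff]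
      intro l hl
      have : (⟨l, hl⟩ : L') ∈ (⊥ : Subgroup L') := by rw [h]; trivial
      rw [Subgroup.mem_bot] at this
      rw [Subgroup.mem_bot]
      exact congrArg Subtype.val this
    have := hL'irr W₀ (by
      intro l hl n hn
      rw [h1, Subgroup.mem_bot] at hl
      rw [hl]; exact hn)
    rcases this with h | h
    · exact hW₀bot h
    · exact hW₀top h
  obtain ⟨H, hHco, -⟩ := (eq_top_or_exists_le_coatom (⊥ : Subgroup L')).resolve_left hbt
  -- H is reducible
  have hHred : ¬ Irr (H.map L'.subtype) := by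
    intro hI
    have hle : H.map L'.subtype ≤ L' := by
      rintro _ ⟨h, -, rfl⟩; exact h.2
    have := hL'min.le_of_le hI hle
    apply hHco.1
    rw [eq_top_iff]
    rintro ⟨l, hl⟩ -
    obtain ⟨h, hh, hhl⟩ := this hl
    have : h = ⟨l, hl⟩ := Subtype.ext hhl
    rwa [← this]
  simp only [Irr] at hHred
  push Not at hHred
  obtain ⟨W, hWinv, hWbot, hWtop⟩ := hHred
  have hNnt : Nontrivial N := by
    by_contra hcon
    rw [not_nontrivial_iff_subsingleton] at hcon
    exact hW₀bot (Subsingleton.elim _ _)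
  have hfinN : Finite N := inferInstance
  have hfinL : Finite L' := inferInstance
  refine ⟨N ⋊[φ] L', inferInstance, inferInstance, (inr : L' →* N ⋊[φ] L').range,
    H.map inr, H.comap rightHom, ?_, ?_, ?_, ?_, ?_, ?_, ?_⟩
  · exact isCoatom_range_inr φ (fun W hW => hL'irr W (fun l hl n hn => hW ⟨l, hl⟩ n hn))
  · rw [index_range_inr]
    change Nat.card (Multiplicative (Fin d → ZMod p)) = p ^ d
    rw [Nat.card_eq_fintype_card]
    simp [Fintype.card_multiplicative, ZMod.card]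
  · rintro _ ⟨h, -, rfl⟩; exact ⟨h, rfl⟩
  · exact isCoatom_map_subgroupOf_range inr inr_injective H hHco
  · exact Subgroup.isCoatom_comap_of_surjective rightHom_surjective hHco
  · rintro _ ⟨h, hh, rfl⟩
    rw [Subgroup.mem_comap, rightHom_inr]; exact hh
  · exact not_isCoatom_of_invariant φ H W
      (fun l hl n hn => hWinv l.1 ⟨l, hl, rfl⟩ n hn) hWbot hWtop

end Cfsg.Agent.S5895
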