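import Cfsg.Statements.S5896
import Cfsg.Agent.Lib.H29.Wreath

set_option autoImplicit false
open Cfsg

namespace Cfsg.Agent.S5896

open Cfsg.Agent.Lib.H29 RegularWreathProduct Equiv
open scoped Pointwise

theorem isSolvable_of_card_six {K : Type*} [Group K] (h : Nat.card K = 6) : Group.IsSolvable K := by
  have hfin : Finite K := Nat.finite_of_card_ne_zero (by omega)
  have : Fact (Nat.Prime 3) := ⟨Nat.prime_three⟩
  obtain ⟨c, hc⟩ := exists_prime_orderOf_dvd_card' (G := K) 3 (by rw [h]; norm_num)
  let Z := Subgroup.zpowers c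
  have hZ : Nat.card Z = 3 := by rw [Nat.card_zpowers, hc]
  have hidx : Z.index = 2 := by
    have := Z.card_mul_index
    rw [hZ, h] at this
    omega
  have hN : Z.Normal := Subgroup.normal_of_index_eq_two hidx
  have hq : Nat.card (K ⧸ Z) = 2 := hidx
  have : Fact (Nat.Prime 2) := ⟨Nat.prime_two⟩
  have hcyc : IsCyclic (K ⧸ Z) := isCyclic_of_prime_card hq
  have hsolq : Group.IsSolvable (K ⧸ Z) :=
    Group.isSolvable_of_comm (isMulCommutative_iff.mp hcyc.isMulCommutative)
  have hsolZ : Group.IsSolvable Z :=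
    Group.isSolvable_of_comm (isMulCommutative_iff.mp (Subgroup.zpowers_isMulCommutative c))
  refine Group.isSolvable_of_ker_le_range Z.subtype (QuotientGroup.mk' Z) ?_
  rw [QuotientGroup.ker_mk', Subgroup.range_subtype]

set_option maxRecDepth 100000 in
theorem card_filter : (Finset.univ.filter (fun g : Perm (Fin 5) =>
    Perm.sign g = 1 ∧ ((g 0 = 0 ∧ g 1 = 1) ∨ (g 0 = 1 ∧ g 1 = 0)))).card = 6 := by
  decide

theorem smul_pair_iff (g : Perm (Fin 5)) :
    g • ({0, 1} : Set (Fin 5)) = {0, 1} ↔ (g 0 = 0 ∧ g 1 = 1) ∨ (g 0 = 1 ∧ g 1 = 0) := by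
  have : g • ({0, 1} : Set (Fin 5)) = {g 0, g 1} := by
    rw [← Set.image_smul, Set.image_pair]
    rfl
  rw [this, Set.pair_eq_pair_iff]

theorem card_stab :
    Nat.card (MulAction.stabilizer (alternatingGroup (Fin 5)) ({0, 1} : Set (Fin 5))) = 6 := by
  rw [← card_filter, ← Fintype.card_coe, ← Nat.card_eq_fintype_card]
  apply Nat.card_congr
  refine ⟨fun x => ⟨x.1.1, ?_⟩, fun g => ⟨⟨g.1, ?_⟩, ?_⟩, ?_, ?_⟩
  · rw [Finset.mem_filter]
    refine ⟨Finset.mem_univ _, Perm.mem_alternatingGroup.mp x.1.2, ?_⟩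
    rw [← smul_pair_iff]
    exact x.2
  · have := g.2
    rw [Finset.mem_filter] at this
    exact Perm.mem_alternatingGroup.mpr this.2.1
  · have := g.2
    rw [Finset.mem_filter] at this
    rw [MulAction.mem_stabilizer_iff]
    exact (smul_pair_iff g.1).mpr this.2.2
  · intro x; rfl
  · intro g; rfl

theorem exists_stable {B : Type*} [Group B] [Finite B] :
    ∃ m, derivedSeries B (m + 1) = derivedSeries B m := by
  obtain ⟨n, hn⟩ := WellFoundedLT.antitone_chain_condition (derivedSeries_antitone (G := B))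
  exact ⟨n, (hn (n + 1) (Nat.le_succ n)).symm⟩

theorem result (d : ℕ) :
    ∃ (G : Type) (_ : Group G) (_ : Finite G) (H : Subgroup G), commutator G = ⊤ ∧ IsCoatom H ∧ Group.IsSolvable H ∧
      derivedSeries H d ≠ ⊥ := by
  obtain ⟨S, hG, hF, hS, hk⟩ := exists_solvable_derivedSeries_ne_bot d
  let T := alternatingGroup (Fin 5)
  let B := S ≀ᵣ T
  obtain ⟨m, hm⟩ := exists_stable (B := B)
  let P : Subgroup B := derivedSeries B m
  have hPP : ⁅P, P⁆ = P := by rw [← derivedSeries_succ]; exact hm
  have hperf : commutator P = ⊤ := by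
    apply Subgroup.map_injective P.subtype_injective
    rw [Subgroup.map_subtype_commutator, hPP, ← MonoidHom.range_eq_map, Subgroup.range_subtype]
  have hTperf : ∀ n, derivedSeries T n = ⊤ := by
    intro n
    induction n with
    | zero => rfl
    | succ n ih =>
      rw [derivedSeries_succ, ih, ← commutator_def]
      exact commutator_alternatingGroup_eq_top (by simp)
  have hrs : Function.Surjective (rightHom : B →* T) := fun t => ⟨inl t, rfl⟩
  let π : P →* T := (rightHom : B →* T).comp P.subtype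
  have hπ : Function.Surjective π := by
    intro t
    have h1 := map_derivedSeries_eq hrs m
    rw [hTperf] at h1
    have : t ∈ (derivedSeries B m).map (rightHom : B →* T) := by rw [h1]; trivial
    obtain ⟨b, hb, hbt⟩ := this
    exact ⟨⟨b, hb⟩, hbt⟩
  let T₁ : Subgroup T := MulAction.stabilizer T ({0, 1} : Set (Fin 5))
  have hT₁co : IsCoatom T₁ := by
    apply alternatingGroup.isCoatom_stabilizer
    · exact ⟨0, by simp⟩
    · exact ⟨2, by simp⟩
    · rw [Nat.card_eq_fintype_card, Fintype.card_fin, Set.ncard_pair (by decide)]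
      norm_num
  have hT₁sol : Group.IsSolvable T₁ := isSolvable_of_card_six card_stab
  let H : Subgroup P := T₁.comap π
  refine ⟨P, inferInstance, inferInstance, H, hperf,
    Subgroup.isCoatom_comap_of_surjective hπ hT₁co, ?_, ?_⟩
  · have hsol : Group.IsSolvable (T₁.comap (rightHom : B →* T)) := isSolvable_comap_rightHom T₁
    let j : H →* T₁.comap (rightHom : B →* T) :=
      (P.subtype.comp H.subtype).codRestrict _ (fun x => x.2)
    have hj : Function.Injective j := by
      intro a b hab
      have := congrArg Subtype.val hab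
      exact Subtype.ext (Subtype.ext this)
    exact Group.isSolvable_of_isSolvable_injective hj
  · obtain ⟨t, ht⟩ := exists_ne (1 : T)
    obtain ⟨w, hw⟩ := hπ t
    have hPn : P.Normal := derivedSeries_normal B m
    refine derivedSeries_ne_bot_of_wreath (P.subtype.comp H.subtype) P w.1 ?_ ?_ ?_ d hk
    · change π w ≠ 1
      rw [hw]; exact ht
    · intro x _
      exact P.mul_mem (hPn.conj_mem w.1 w.2 x) (P.inv_mem w.2)
    · intro y hyP hy1
      refine ⟨⟨⟨y, hyP⟩, ?_⟩, rfl⟩
      change π ⟨y, hyP⟩ ∈ T₁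
      have : π ⟨y, hyP⟩ = 1 := hy1
      rw [this]; exact T₁.one_mem

end Cfsg.Agent.S5896
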