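import Cfsg.Statements.S5902
import Cfsg.Agent.S5901
import Cfsg.Agent.Lib.H29.Compl

set_option autoImplicit false
open Cfsg

namespace Cfsg.Agent.S5902

open Cfsg.Agent.Lib.H29

theorem part_one {G : Type*} [Group G] [Finite G] (X M : Subgroup G)
    (hK : ComplementedLattice (Subgroup X))
    (hM : IsCoatom M) (hXM : X ≤ M) (huniq : ∀ M' : Subgroup G, IsCoatom M' → X ≤ M' → M' = M)
    (H : Subgroup G) (hH : ¬ H ≤ M.normalCore) : ∃ C : Subgroup G, H ⊔ C = ⊤ ∧ H ⊓ C = ⊥ := by
  have hXtop : X ≠ ⊤ := fun h => hM.1 (top_le_iff.mp (h ▸ hXM))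
  -- the interval below X is complemented
  have hint : ∀ Y : Subgroup G, (⊥ : Subgroup G) ≤ Y → Y ≤ X →
      ∃ C : Subgroup G, (⊥ : Subgroup G) ≤ C ∧ C ≤ X ∧ Y ⊔ C = X ∧ Y ⊓ C = ⊥ := by
    intro Y _ hYX
    have hker : (MonoidHom.id X).ker.map X.subtype = ⊥ := by
      rw [MonoidHom.ker_id, Subgroup.map_bot]
    have := interval_compl X (MonoidHom.id X) Function.surjective_id hK Y
      (by rw [hker]; exact bot_le) hYX
    rw [hker] at this
    exact this
  -- some conjugate of H is not inside M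
  obtain ⟨h, hhH, hh⟩ := SetLike.not_le_iff_exists.mp hH
  have hh' : ¬ ∀ b : G, b * h * b⁻¹ ∈ M := hh
  push Not at hh'
  obtain ⟨b, hb⟩ := hh'
  apply exists_compl_of_orderIso (MulEquiv.mapSubgroup (MulAut.conj b)) H
  apply Cfsg.Agent.S5901.result ⊥ X M bot_le hXtop hint hM hXM huniq
  · intro hle
    apply hb
    apply hle
    refine ⟨h, hhH, ?_⟩
    simp [MulAut.conj_apply]
  · exact inf_bot_eq _

/-- Complements above the core of the unique maximal overgroup of a complemented subgroup. -/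
theorem result {G : Type*} [Group G] [Finite G] (X M : Subgroup G)
    (hK : ComplementedLattice (Subgroup X))
    (hM : IsCoatom M) (hXM : X ≤ M) (huniq : ∀ M' : Subgroup G, IsCoatom M' → X ≤ M' → M' = M) :
    (∀ H : Subgroup G, ¬ H ≤ M.normalCore → ∃ C : Subgroup G, H ⊔ C = ⊤ ∧ H ⊓ C = ⊥) ∧
    ComplementedLattice (Subgroup (G ⧸ M.normalCore)) := by
  refine ⟨part_one X M hK hM hXM huniq, ⟨fun Hbar => ?_⟩⟩
  set N := M.normalCore with hN
  by_cases hle : Hbar.comap (QuotientGroup.mk' N) ≤ N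
  · refine ⟨⊤, ?_⟩
    have : Hbar = ⊥ := by
      rw [← Subgroup.map_comap_eq_self_of_surjective (QuotientGroup.mk'_surjective N) Hbar,
        eq_bot_iff]
      refine (Subgroup.map_mono hle).trans ?_
      rw [QuotientGroup.map_mk'_self]
    rw [this]
    exact isCompl_bot_top
  · obtain ⟨C, hsup, hinf⟩ := part_one X M hK hM hXM huniq _ hle
    refine ⟨C.map (QuotientGroup.mk' N), ?_⟩
    rw [isCompl_iff, disjoint_iff, codisjoint_iff]
    constructor
    · rw [eq_bot_iff]
      rintro x ⟨hx1, ⟨c, hc, rfl⟩⟩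
      have hcH : c ∈ Hbar.comap (QuotientGroup.mk' N) := hx1
      have : c ∈ Hbar.comap (QuotientGroup.mk' N) ⊓ C := ⟨hcH, hc⟩
      rw [hinf, Subgroup.mem_bot] at this
      rw [this, map_one]
      exact Subgroup.one_mem _
    · conv_lhs => rw [← Subgroup.map_comap_eq_self_of_surjective (QuotientGroup.mk'_surjective N) Hbar]
      rw [← Subgroup.map_sup, hsup, Subgroup.map_top_of_surjective _ (QuotientGroup.mk'_surjective N)]

end Cfsg.Agent.S5902
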