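import Cfsg.Statements.S5903
import Cfsg.Agent.S5901
import Cfsg.Agent.Lib.H29.Compl

set_option autoImplicit false
open Cfsg

namespace Cfsg.Agent.S5903

open Cfsg.Agent.Lib.H29

theorem mem_conj {G : Type*} [Group G] (b : G) (H : Subgroup G) (x : G) :
    x ∈ MulEquiv.mapSubgroup (MulAut.conj b) H ↔ b⁻¹ * x * b ∈ H := by
  constructor
  · rintro ⟨h, hh, rfl⟩
    have : b⁻¹ * ((MulAut.conj b) h) * b = h := by simp [MulAut.conj_apply, mul_assoc]
    show b⁻¹ * ((MulAut.conj b) h) * b ∈ H
    rw [this]; exact hh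
  · intro hx
    refine ⟨b⁻¹ * x * b, hx, ?_⟩
    simp [MulAut.conj_apply, mul_assoc]

/-- A subgroup of a group of prime order which is not trivial is everything. -/
theorem le_of_inf_ne_bot {G : Type*} [Group G] [Finite G] (N K : Subgroup G)
    (hN : (Nat.card N).Prime) (h : K ⊓ N ≠ ⊥) : N ≤ K := by
  have hdvd : Nat.card (K ⊓ N : Subgroup G) ∣ Nat.card N := Subgroup.card_dvd_of_le inf_le_right
  rcases (Nat.dvd_prime hN).mp hdvd with h1 | h1
  · exact absurd (Subgroup.eq_bot_of_card_eq _ h1) h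
  · have : (K ⊓ N : Subgroup G) = N :=
      Subgroup.eq_of_le_of_card_ge inf_le_right (le_of_eq h1.symm)
    rw [← this]; exact inf_le_left

theorem key {G : Type*} [Group G] [Finite G] [IsSimpleGroup G] (M N : Subgroup G)
    (hM : IsCoatom M) (hN : (Nat.card N).Prime) (hcen : ∀ n ∈ N, ∀ m ∈ M, m * n = n * m)
    (H : Subgroup G) (hHbot : H ≠ ⊥) (hHtop : H ≠ ⊤) :
    ∃ b : G, ¬ MulEquiv.mapSubgroup (MulAut.conj b) H ≤ M ∧
      MulEquiv.mapSubgroup (MulAut.conj b) H ⊓ N = ⊥ := by
  by_contra hcon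
  push Not at hcon
  -- reformulate
  have hbad : ∀ b : G, MulEquiv.mapSubgroup (MulAut.conj b) H ≤ M ∨
      N ≤ MulEquiv.mapSubgroup (MulAut.conj b) H := by
    intro b
    by_cases h : MulEquiv.mapSubgroup (MulAut.conj b) H ≤ M
    · exact Or.inl h
    · exact Or.inr (le_of_inf_ne_bot N _ hN (hcon b h))
  -- N is nontrivial
  have hNbot : N ≠ ⊥ := by
    intro h
    rw [h, Subgroup.card_bot] at hN
    exact Nat.not_prime_one hN
  obtain ⟨n0, hn0N, hn0⟩ := (N.bot_or_exists_ne_one).resolve_left hNbot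
  -- the subgroup generated by the conjugates of N inside H
  let P : Subgroup G := Subgroup.closure
    {x | ∃ b : G, N ≤ MulEquiv.mapSubgroup (MulAut.conj b) H ∧ ∃ n ∈ N, x = b⁻¹ * n * b}
  have hPH : P ≤ H := by
    rw [Subgroup.closure_le]
    rintro x ⟨b, hb, n, hn, rfl⟩
    exact (mem_conj b H n).mp (hb hn)
  -- every conjugate of an element of N normalizes P
  have hnorm : ∀ b : G, ∀ n ∈ N, b⁻¹ * n * b ∈ Subgroup.normalizer (P : Set G) := by
    intro b n hn
    rcases hbad b with h | h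
    · -- b⁻¹ n b centralizes H, hence P
      have hc : ∀ x ∈ H, x * (b⁻¹ * n * b) = (b⁻¹ * n * b) * x := by
        intro x hx
        have hxM : b * x * b⁻¹ ∈ M := by
          apply h
          rw [mem_conj]
          simpa [mul_assoc] using hx
        have := hcen n hn _ hxM
        calc x * (b⁻¹ * n * b) = b⁻¹ * ((b * x * b⁻¹) * n) * b := by simp [mul_assoc]
          _ = b⁻¹ * (n * (b * x * b⁻¹)) * b := by rw [this]
          _ = (b⁻¹ * n * b) * x := by simp [mul_assoc]
      rw [Subgroup.mem_normalizer_iff]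
      intro x
      constructor
      · intro hx
        have := hc x (hPH hx)
        have h2 : (b⁻¹ * n * b) * x * (b⁻¹ * n * b)⁻¹ = x := by
          rw [← this, mul_assoc, mul_inv_cancel, mul_one]
        rw [h2]; exact hx
      · intro hx
        have hx' : (b⁻¹ * n * b)⁻¹ * ((b⁻¹ * n * b) * x * (b⁻¹ * n * b)⁻¹) * (b⁻¹ * n * b) = x := by
          simp [mul_assoc]
        set y := (b⁻¹ * n * b) * x * (b⁻¹ * n * b)⁻¹ with hy
        have hyc := hc y (hPH hx)
        have : x = y := by
          rw [← hx', mul_assoc, hyc, ← mul_assoc, inv_mul_cancel, one_mul]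
        rw [this]; exact hx
    · exact Subgroup.le_normalizer (Subgroup.subset_closure ⟨b, h, n, hn, rfl⟩)
  -- the normal closure of N is everything
  have hncl : Subgroup.normalClosure (N : Set G) = ⊤ := by
    rcases (Subgroup.normalClosure_normal (s := (N : Set G))).eq_bot_or_eq_top with h | h
    · exfalso
      have : n0 ∈ Subgroup.normalClosure (N : Set G) := Subgroup.subset_normalClosure hn0N
      rw [h, Subgroup.mem_bot] at this
      exact hn0 this
    · exact h
  have hR : Subgroup.normalizer (P : Set G) = ⊤ := by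
    rw [eq_top_iff, ← hncl, Subgroup.normalClosure, Subgroup.closure_le]
    intro a ha
    rw [Group.mem_conjugatesOfSet_iff] at ha
    obtain ⟨n, hn, hconj⟩ := ha
    rw [isConj_iff] at hconj
    obtain ⟨c, rfl⟩ := hconj
    have := hnorm c⁻¹ n hn
    simpa using this
  have hPnormal : P.Normal := Subgroup.normalizer_eq_top_iff.mp hR
  -- some conjugate of H contains N
  have hex : ∃ b : G, N ≤ MulEquiv.mapSubgroup (MulAut.conj b) H := by
    by_contra hno
    push Not at hno
    have hall : ∀ b : G, MulEquiv.mapSubgroup (MulAut.conj b) H ≤ M := fun b =>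
      (hbad b).resolve_right (hno b)
    have hHcore : H ≤ M.normalCore := by
      intro x hx b
      apply hall b
      rw [mem_conj]
      simpa [mul_assoc] using hx
    rcases (Subgroup.normalCore_normal M).eq_bot_or_eq_top with h | h
    · rw [h] at hHcore
      exact hHbot (le_bot_iff.mp hHcore)
    · exact hM.1 (top_le_iff.mp (h ▸ M.normalCore_le))
  obtain ⟨b, hb⟩ := hex
  have hPbot : P ≠ ⊥ := by
    intro h
    have hmem : b⁻¹ * n0 * b ∈ P := Subgroup.subset_closure ⟨b, hb, n0, hn0N, rfl⟩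
    rw [h, Subgroup.mem_bot] at hmem
    apply hn0
    have := congrArg (fun z => b * z * b⁻¹) hmem
    simpa [mul_assoc] using this
  rcases hPnormal.eq_bot_or_eq_top with h | h
  · exact hPbot h
  · exact hHtop (top_le_iff.mp (h ▸ hPH))

/-- A simple group is complemented when a suitable quotient below a unique maximal overgroup is. -/
theorem result {G : Type*} [Group G] [Finite G] [IsSimpleGroup G] (X M N : Subgroup G)
    (hM : IsCoatom M) (hXM : X ≤ M) (huniq : ∀ M' : Subgroup G, IsCoatom M' → X ≤ M' → M' = M)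
    (hNX : N ≤ X) (hN : (Nat.card N).Prime) (hcen : ∀ n ∈ N, ∀ m ∈ M, m * n = n * m)
    [(N.subgroupOf X).Normal] (hK : ComplementedLattice (Subgroup (X ⧸ N.subgroupOf X))) :
    ComplementedLattice (Subgroup G) := by
  refine ⟨fun H => ?_⟩
  by_cases hHbot : H = ⊥
  · exact ⟨⊤, hHbot ▸ isCompl_bot_top⟩
  by_cases hHtop : H = ⊤
  · exact ⟨⊥, hHtop ▸ isCompl_top_bot⟩
  have hXtop : X ≠ ⊤ := fun h => hM.1 (top_le_iff.mp (h ▸ hXM))
  have hker : (QuotientGroup.mk' (N.subgroupOf X)).ker.map X.subtype = N := by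
    rw [QuotientGroup.ker_mk', Subgroup.map_subgroupOf_eq_of_le hNX]
  have hint : ∀ Y : Subgroup G, N ≤ Y → Y ≤ X →
      ∃ C : Subgroup G, N ≤ C ∧ C ≤ X ∧ Y ⊔ C = X ∧ Y ⊓ C = N := by
    intro Y hNY hYX
    have := interval_compl X (QuotientGroup.mk' (N.subgroupOf X))
      (QuotientGroup.mk'_surjective _) hK Y (by rw [hker]; exact hNY) hYX
    rw [hker] at this
    exact this
  obtain ⟨b, hb1, hb2⟩ := key M N hM hN hcen H hHbot hHtop
  obtain ⟨C, hsup, hinf⟩ := exists_compl_of_orderIso (MulEquiv.mapSubgroup (MulAut.conj b)) H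
    (Cfsg.Agent.S5901.result N X M hNX hXtop hint hM hXM huniq _ hb1 hb2)
  exact ⟨C, isCompl_iff.mpr ⟨disjoint_iff.mpr hinf, codisjoint_iff.mpr hsup⟩⟩

end Cfsg.Agent.S5903
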