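import Cfsg.Statements.S5904

set_option autoImplicit false
open Cfsg

namespace Cfsg.Agent.S5904

open scoped Pointwise

/-- The setwise stabilizer of a half-size subset is not maximal in the symmetric group. -/
theorem result {Ω : Type*} [Fintype Ω] [DecidableEq Ω] (hΩ : 2 < Fintype.card Ω)
    (O : Set Ω) (hO : Nat.card O = Nat.card ↥Oᶜ) :
    ¬ IsCoatom (MulAction.stabilizer (Equiv.Perm Ω) O) := by
  classical
  intro hco
  have hsum := Set.ncard_add_ncard_compl O
  have hcard : Nat.card {x // x ∈ O} = Nat.card {x // x ∈ Oᶜ} := hO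
  rw [Nat.card_coe_set_eq, Nat.card_coe_set_eq] at hO
  rw [Nat.card_eq_fintype_card] at hsum
  have h2 : 1 < O.ncard := by omega
  have h2c : 0 < Oᶜ.ncard := by omega
  obtain ⟨a, a', ha, ha', haa'⟩ := (Set.one_lt_ncard_iff (Set.toFinite O)).mp h2
  obtain ⟨b, hb⟩ := (Set.ncard_pos (Set.toFinite _)).mp h2c
  -- a permutation exchanging O and its complement
  obtain ⟨e⟩ : Nonempty ({x // x ∈ O} ≃ {x // x ∈ Oᶜ}) := by
    rw [Nat.card_eq_fintype_card, Nat.card_eq_fintype_card] at hcard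
    exact Fintype.card_eq.mp hcard
  let σ : Equiv.Perm Ω := e.extendSubtype
  have hσ : ∀ x, x ∈ O ↔ σ x ∈ Oᶜ := by
    intro x
    constructor
    · intro hx; exact e.extendSubtype_mem x hx
    · intro hx
      by_contra hx'
      exact e.extendSubtype_not_mem x hx' hx
  have hσO : σ • O = Oᶜ := by
    ext y
    rw [Set.mem_smul_set_iff_inv_smul_mem, hσ]
    simp
  let K : Subgroup (Equiv.Perm Ω) := MulAction.stabilizer (Equiv.Perm Ω) ({O, Oᶜ} : Set (Set Ω))
  have hK : ∀ g : Equiv.Perm Ω, g ∈ K ↔ ({g • O, (g • O)ᶜ} : Set (Set Ω)) = {O, Oᶜ} := by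
    intro g
    show g • ({O, Oᶜ} : Set (Set Ω)) = {O, Oᶜ} ↔ _
    rw [Set.smul_set_insert, Set.smul_set_singleton, Set.smul_set_compl]
  have hlt : MulAction.stabilizer (Equiv.Perm Ω) O < K := by
    refine lt_of_le_of_ne ?_ ?_
    · intro g hg
      rw [MulAction.mem_stabilizer_iff] at hg
      rw [hK, hg]
    · intro heq
      have hσK : σ ∈ K := by
        rw [hK, hσO, compl_compl, Set.pair_comm]
      rw [← heq, MulAction.mem_stabilizer_iff, hσO] at hσK
      have : a ∈ Oᶜ := by rw [hσK]; exact ha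
      exact this ha
  have hKtop := hco.2 K hlt
  have hg : Equiv.swap a b ∈ K := by rw [hKtop]; trivial
  rw [hK] at hg
  have hmem : (Equiv.swap a b • O) ∈ ({O, Oᶜ} : Set (Set Ω)) := by
    rw [← hg]; exact Set.mem_insert _ _
  have hbO : b ∈ Equiv.swap a b • O := ⟨a, ha, by simp⟩
  have ha'b : a' ≠ b := fun h => hb (h ▸ ha')
  have ha'O : a' ∈ Equiv.swap a b • O :=
    ⟨a', ha', by simp [Equiv.swap_apply_of_ne_of_ne haa'.symm ha'b]⟩
  rcases hmem with h | h
  · rw [h] at hbO; exact hb hbO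
  · rw [Set.mem_singleton_iff] at h
    rw [h] at ha'O; exact ha'O ha'

end Cfsg.Agent.S5904
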