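import Cfsg.Statements.S5908
import Cfsg.Agent.Lib.H6.SU32c
import Cfsg.Agent.Lib.H6.FrobQ8b

set_option autoImplicit false
open Cfsg

namespace Cfsg.Agent.S5908

/-- The subgroup lattice of PSU₃(2) (the solvable group of order 72, realised over the field with 4 elements) is not complemented: some subgroup H has no subgroup X with H ⊔ X = ⊤ and H ⊓ X = ⊥. -/
theorem result {F : Type*} [Field F] [Fintype F] (hF : Fintype.card F = 4) :
    ¬ ComplementedLattice (Subgroup (Cfsg.PSU 3 F 2)) := by

  obtain ⟨S, hS, z, hcardS, -, hz, hz1, hzz, huniq, hzc, hcardN⟩ :=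
    Cfsg.Agent.Lib.H6.SU32.exists_frob hF
  haveI : Finite (Cfsg.PSU 3 F 2) := Nat.finite_of_card_ne_zero (by
    rw [(Cfsg.Agent.S0282.result hF).1]; norm_num)
  apply Cfsg.Agent.Lib.H6.FrobQ8.not_complementedLattice hS hz hz1 hzz hzc huniq
  · rw [hcardN]; decide
  · exact ⟨3, by rw [hcardS]; norm_num⟩
  · by_contra hcon
    push Not at hcon
    have hsub : (S : Set (Cfsg.PSU 3 F 2)) ⊆ {1, z} := by
      intro s hs
      by_cases h1 : s = 1
      · left; exact h1
      · right; exact hcon s hs h1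
    have h1 : Nat.card S = Set.ncard (S : Set (Cfsg.PSU 3 F 2)) := rfl
    have h2 := Set.ncard_le_ncard hsub (Set.toFinite _)
    have h3 : Set.ncard ({1, z} : Set (Cfsg.PSU 3 F 2)) ≤ 2 := by
      have := Set.ncard_insert_le (1 : Cfsg.PSU 3 F 2) {z}
      rw [Set.ncard_singleton] at this
      exact this
    omega

end Cfsg.Agent.S5908
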