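import Cfsg.Statements.S5909
import Cfsg.Agent.S5905

set_option autoImplicit false
open Cfsg

namespace Cfsg.Agent.S5909

open Cfsg.Agent.S5905 (W mem_W_of swap_mem_W isCoatom_W exists_equiv)

/-- Criterion for `K.subgroupOf A` to be a coatom. -/
theorem isCoatom_subgroupOf_of {G : Type*} [Group G] (K A : Subgroup G) (hKA : K ≤ A)
    (hne : ∃ g ∈ A, g ∉ K)
    (h : ∀ J : Subgroup G, K ≤ J → J ≤ A → (∃ g ∈ J, g ∉ K) → A ≤ J) :
    IsCoatom (K.subgroupOf A) := by
  refine ⟨?_, ?_⟩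
  · rw [Ne, Subgroup.subgroupOf_eq_top]
    intro hle
    obtain ⟨g, hgA, hgK⟩ := hne
    exact hgK (hle hgA)
  · intro B hB
    rw [eq_top_iff]
    have hJ := h (B.map A.subtype) ?_ ?_ ?_
    · intro x _
      obtain ⟨y, hy, hyx⟩ := hJ x.2
      have : y = x := Subtype.ext hyx
      rw [← this]; exact hy
    · intro k hk
      refine ⟨⟨k, hKA hk⟩, hB.le ?_, rfl⟩
      exact hk
    · rintro _ ⟨y, _, rfl⟩
      exact y.2
    · obtain ⟨y, hyB, hyK⟩ := SetLike.exists_of_lt hB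
      exact ⟨y.1, ⟨y, hyB, rfl⟩, hyK⟩

/-- Extending a subgroup normalised by an involution `t`. -/
def extInv {G : Type*} [Group G] (J : Subgroup G) (t : G) (ht : t * t = 1)
    (hn : ∀ j ∈ J, t * j * t ∈ J) : Subgroup G where
  carrier := {g | g ∈ J ∨ g * t ∈ J}
  one_mem' := Or.inl J.one_mem
  mul_mem' := by
    rintro g h (hg | hg) (hh | hh)
    · exact Or.inl (J.mul_mem hg hh)
    · right
      rw [mul_assoc]
      exact J.mul_mem hg hh
    · right
      have : g * h * t = (g * t) * (t * h * t) := by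
        calc g * h * t = g * (t * t) * h * t := by rw [ht, mul_one]
          _ = (g * t) * (t * h * t) := by group
      rw [this]
      exact J.mul_mem hg (hn h hh)
    · left
      have : g * h = (g * t) * (t * (h * t) * t) := by
        calc g * h = g * (t * t) * h * (t * t) := by rw [ht, mul_one, mul_one]
          _ = (g * t) * (t * (h * t) * t) := by group
      rw [this]
      exact J.mul_mem hg (hn _ hh)
  inv_mem' := by
    rintro g (hg | hg)
    · exact Or.inl (J.inv_mem hg)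
    · right
      have ht' : t⁻¹ = t := inv_eq_of_mul_eq_one_right ht
      have : g⁻¹ * t = t * (g * t)⁻¹ * t := by
        rw [mul_inv_rev, ht']
        calc g⁻¹ * t = (t * t) * g⁻¹ * t := by rw [ht, one_mul]
          _ = t * (t * g⁻¹) * t := by group
      rw [this]
      exact hn _ (J.inv_mem hg)

theorem mem_extInv {G : Type*} [Group G] (J : Subgroup G) (t : G) (ht : t * t = 1)
    (hn : ∀ j ∈ J, t * j * t ∈ J) (g : G) : g ∈ extInv J t ht hn ↔ g ∈ J ∨ g * t ∈ J := Iff.rfl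

section
variable {Ω : Type*} [Fintype Ω] [DecidableEq Ω]

/-- The 3-cycle `x → y → z → x` (when the points are distinct). -/
def C (x y z : Ω) : Equiv.Perm Ω := Equiv.swap x y * Equiv.swap y z

/-- If `J` contains `W⁺` and a 3-cycle of type (2,1), then `J` contains the alternating group. -/
theorem stepA (a b : ℕ) (ha : 2 ≤ a) (hb : 2 ≤ b) (f : Ω → Fin b)
    (hf : ∀ i : Fin b, Nat.card {x : Ω // f x = i} = a)
    (J : Subgroup (Equiv.Perm Ω)) (hJA : J ≤ alternatingGroup Ω)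
    (hWJ : W f ⊓ alternatingGroup Ω ≤ J)
    (x x' y : Ω) (hxx' : x ≠ x') (hfx : f x = f x') (hfy : f y ≠ f x) (hc : C x x' y ∈ J) :
    alternatingGroup Ω ≤ J := by
  set t : Equiv.Perm Ω := Equiv.swap x x' with ht_def
  have ht : t * t = 1 := Equiv.swap_mul_self x x'
  have htinv : t⁻¹ = t := Equiv.swap_inv x x'
  have htW : t ∈ W f := swap_mem_W f x x' hfx
  have hts : Equiv.Perm.sign t = -1 := Equiv.Perm.sign_swap hxx'
  have hyx' : y ≠ x' := fun h => hfy (by rw [h, hfx])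
  have hyx : y ≠ x := fun h => hfy (by rw [h])
  set J₀ : Subgroup (Equiv.Perm Ω) := J ⊓ J.comap (MulAut.conj t).toMonoidHom with hJ₀
  have hmemJ₀ : ∀ j, j ∈ J₀ ↔ j ∈ J ∧ t * j * t ∈ J := by
    intro j
    rw [hJ₀, Subgroup.mem_inf, Subgroup.mem_comap]
    simp [MulAut.conj_apply, htinv]
  have hn : ∀ j ∈ J₀, t * j * t ∈ J₀ := by
    intro j hj
    rw [hmemJ₀] at hj ⊢
    refine ⟨hj.2, ?_⟩
    have : t * (t * j * t) * t = j := by
      calc t * (t * j * t) * t = (t * t) * j * (t * t) := by group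
        _ = j := by rw [ht, one_mul, mul_one]
    rw [this]; exact hj.1
  have hWA : ∀ w, w ∈ W f → Equiv.Perm.sign w = 1 → w ∈ J := fun w hw hs =>
    hWJ (Subgroup.mem_inf.mpr ⟨hw, Equiv.Perm.mem_alternatingGroup.mpr hs⟩)
  have hWK : W f ≤ extInv J₀ t ht hn := by
    intro w hw
    rw [mem_extInv]
    rcases Int.units_eq_one_or (Equiv.Perm.sign w) with hs | hs
    · left
      rw [hmemJ₀]
      refine ⟨hWA w hw hs, hWA _ ?_ ?_⟩
      · exact (W f).mul_mem ((W f).mul_mem htW hw) htW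
      · simp [hs, hts]
    · right
      rw [hmemJ₀]
      refine ⟨hWA _ ((W f).mul_mem hw htW) ?_, hWA _ ?_ ?_⟩
      · simp [hs, hts]
      · exact (W f).mul_mem ((W f).mul_mem htW ((W f).mul_mem hw htW)) htW
      · simp [hs, hts]
  have hcK : C x x' y ∈ extInv J₀ t ht hn := by
    rw [mem_extInv]
    left
    rw [hmemJ₀]
    refine ⟨hc, ?_⟩
    have : t * C x x' y * t = (C x x' y)⁻¹ := by
      rw [C, mul_inv_rev, Equiv.swap_inv, Equiv.swap_inv, ← ht_def, ← mul_assoc, ht, one_mul]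
    rw [this]
    exact J.inv_mem hc
  have hcW : C x x' y ∉ W f := by
    intro hW
    have h1 := (hW x x').mp hfx
    have e1 : C x x' y x = x' := by
      simp [C, Equiv.swap_apply_of_ne_of_ne hxx' hyx.symm]
    have e2 : C x x' y x' = y := by
      simp [C, Equiv.swap_apply_of_ne_of_ne hyx hyx']
    rw [e1, e2] at h1
    exact hfy (by rw [← h1, hfx])
  have hKtop : extInv J₀ t ht hn = ⊤ :=
    (isCoatom_W a b ha hb f hf).2 _ (lt_of_le_of_ne hWK (fun h => hcW (h ▸ hcK)))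
  intro g hg
  have hgK : g ∈ extInv J₀ t ht hn := by rw [hKtop]; trivial
  rw [mem_extInv] at hgK
  rcases hgK with h | h
  · exact ((hmemJ₀ g).mp h).1
  · exfalso
    have h1 := hJA ((hmemJ₀ _).mp h).1
    rw [Equiv.Perm.mem_alternatingGroup] at h1 hg
    rw [map_mul, hg, hts] at h1
    exact absurd h1 (by decide)

omit [Fintype Ω] in
theorem conj_C (g : Equiv.Perm Ω) (x y z : Ω) : g * C x y z * g⁻¹ = C (g x) (g y) (g z) := by
  rw [C, C, Equiv.swap_apply_apply, Equiv.swap_apply_apply]; group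

omit [Fintype Ω] in
theorem C_rot {x y z : Ω} (hzx : z ≠ x) (hzy : z ≠ y) : C x y z = C z x y := by
  have h := Equiv.swap_apply_apply (Equiv.swap x y) y z
  rw [Equiv.swap_apply_right, Equiv.swap_apply_of_ne_of_ne hzx hzy] at h
  rw [C, C, Equiv.swap_comm z x, h]; group

theorem exists_partner (a b : ℕ) (ha : 2 ≤ a) (f : Ω → Fin b)
    (hf : ∀ i : Fin b, Nat.card {x : Ω // f x = i} = a) (x : Ω) : ∃ x', x' ≠ x ∧ f x' = f x := by
  obtain ⟨Φ, hΦ⟩ := exists_equiv a b f hf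
  have : Nontrivial (Fin a) := Fin.nontrivial_iff_two_le.mpr ha
  obtain ⟨s, hs⟩ := exists_ne (Φ x).2
  refine ⟨Φ.symm ((Φ x).1, s), ?_, ?_⟩
  · intro h
    apply hs
    have := congrArg Φ h
    rw [Equiv.apply_symm_apply] at this
    rw [← this]
  · rw [← hΦ, Equiv.apply_symm_apply, hΦ]

/-- If `J` contains `W⁺` and a 3-cycle not contained in a block, then `J` contains the alternating group. -/
theorem main3 (a b : ℕ) (ha : 2 ≤ a) (hb : 2 ≤ b) (f : Ω → Fin b)
    (hf : ∀ i : Fin b, Nat.card {x : Ω // f x = i} = a)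
    (J : Subgroup (Equiv.Perm Ω)) (hJA : J ≤ alternatingGroup Ω)
    (hWJ : W f ⊓ alternatingGroup Ω ≤ J)
    (p q r : Ω) (hpq : p ≠ q) (hqr : q ≠ r) (hpr : p ≠ r) (hcross : ¬ (f p = f q ∧ f q = f r))
    (hc : C p q r ∈ J) : alternatingGroup Ω ≤ J := by
  by_cases h1 : f p = f q
  · exact stepA a b ha hb f hf J hJA hWJ p q r hpq h1 (fun h => hcross ⟨h1, by rw [← h1, h]⟩) hc
  by_cases h2 : f q = f r
  · rw [C_rot hpr.symm hqr.symm, C_rot hqr hpq.symm] at hc
    exact stepA a b ha hb f hf J hJA hWJ q r p hqr h2 h1 hc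
  by_cases h3 : f r = f p
  · rw [C_rot hpr.symm hqr.symm] at hc
    exact stepA a b ha hb f hf J hJA hWJ r p q hpr.symm h3 h2 hc
  · obtain ⟨p', hp', hfp'⟩ := exists_partner a b ha f hf p
    obtain ⟨q', hq', hfq'⟩ := exists_partner a b ha f hf q
    have hpq' : p ≠ q' := fun h => h1 (by rw [← hfq', ← h])
    have hp'q' : p' ≠ q' := fun h => h1 (by rw [← hfq', ← h, hfp'])
    have hp'q : p' ≠ q := fun h => h1 (by rw [← hfp', h])
    have hrq' : r ≠ q' := fun h => h2 (by rw [← hfq', ← h])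
    have hrp' : r ≠ p' := fun h => h3 (by rw [← hfp', ← h])
    set w : Equiv.Perm Ω := Equiv.swap p p' * Equiv.swap q q' with hw
    have hwJ : w ∈ J := by
      apply hWJ
      refine Subgroup.mem_inf.mpr ⟨(W f).mul_mem (swap_mem_W f _ _ hfp'.symm)
        (swap_mem_W f _ _ hfq'.symm), ?_⟩
      rw [Equiv.Perm.mem_alternatingGroup]
      simp [hw, Equiv.Perm.sign_swap hp'.symm, Equiv.Perm.sign_swap hq'.symm]
    have hwp : w p = p' := by
      simp [hw, Equiv.swap_apply_of_ne_of_ne hpq hpq']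
    have hwq : w q = q' := by
      simp [hw, Equiv.swap_apply_of_ne_of_ne hpq'.symm hp'q'.symm]
    have hwr : w r = r := by
      simp [hw, Equiv.swap_apply_of_ne_of_ne hqr.symm hrq', Equiv.swap_apply_of_ne_of_ne hpr.symm hrp']
    have h4 : C p' q' r ∈ J := by
      have := J.mul_mem (J.mul_mem hwJ hc) (J.inv_mem hwJ)
      rwa [conj_C, hwp, hwq, hwr] at this
    have hcp' : C p q r p' = p' := by
      simp [C, Equiv.swap_apply_of_ne_of_ne hp'q hrp'.symm, Equiv.swap_apply_of_ne_of_ne hp' hp'q]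
    have hcq' : C p q r q' = q' := by
      simp [C, Equiv.swap_apply_of_ne_of_ne hq' hrq'.symm, Equiv.swap_apply_of_ne_of_ne hpq'.symm hq']
    have hcr : C p q r r = p := by
      simp [C]
    have h5 : C p' q' p ∈ J := by
      have := J.mul_mem (J.mul_mem hc h4) (J.inv_mem hc)
      rwa [conj_C, hcp', hcq', hcr] at this
    rw [C_rot hp'.symm hpq'] at h5
    exact stepA a b ha hb f hf J hJA hWJ p p' q' hp'.symm hfp'.symm
      (fun h => h1 (by rw [← h, hfq'])) h5

omit [Fintype Ω] in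
theorem swap_comm_disj {a b c d : Ω} (hac : a ≠ c) (had : a ≠ d) (hbc : b ≠ c) (hbd : b ≠ d) :
    Equiv.swap a b * Equiv.swap c d = Equiv.swap c d * Equiv.swap a b := by
  have h := Equiv.swap_apply_apply (Equiv.swap c d) a b
  rw [Equiv.swap_apply_of_ne_of_ne hac had, Equiv.swap_apply_of_ne_of_ne hbc hbd] at h
  conv_lhs => rw [h]
  group

omit [Fintype Ω] in
theorem conj_swap2 (g : Equiv.Perm Ω) (a b c d : Ω) :
    g * (Equiv.swap a b * Equiv.swap c d) * g⁻¹ =
      Equiv.swap (g a) (g b) * Equiv.swap (g c) (g d) := by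
  rw [Equiv.swap_apply_apply, Equiv.swap_apply_apply]; group

theorem swap2_mem (b : ℕ) (f : Ω → Fin b) (x x' c c' : Ω) (hxx' : x ≠ x') (hcc' : c ≠ c')
    (hfx : f x = f x') (hfc : f c = f c') :
    Equiv.swap x x' * Equiv.swap c c' ∈ W f ⊓ alternatingGroup Ω := by
  refine Subgroup.mem_inf.mpr ⟨(W f).mul_mem (swap_mem_W f _ _ hfx) (swap_mem_W f _ _ hfc), ?_⟩
  rw [Equiv.Perm.mem_alternatingGroup]
  simp [Equiv.Perm.sign_swap hxx', Equiv.Perm.sign_swap hcc']

theorem exists_fiber (a b : ℕ) (ha : 2 ≤ a) (f : Ω → Fin b)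
    (hf : ∀ i : Fin b, Nat.card {x : Ω // f x = i} = a) (i : Fin b) : ∃ c, f c = i := by
  obtain ⟨Φ, hΦ⟩ := exists_equiv a b f hf
  refine ⟨Φ.symm (i, ⟨0, by omega⟩), ?_⟩
  rw [← hΦ, Equiv.apply_symm_apply]

theorem exists_avoid {n : ℕ} (S : Finset (Fin n)) (h : S.card < n) : ∃ i, i ∉ S := by
  obtain ⟨e, _, he⟩ := Finset.exists_mem_notMem_of_card_lt_card (s := S) (t := Finset.univ)
    (by simpa using h)
  exact ⟨e, he⟩

theorem exists_third (a b : ℕ) (ha : 3 ≤ a) (f : Ω → Fin b)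
    (hf : ∀ i : Fin b, Nat.card {x : Ω // f x = i} = a) (x x' : Ω) :
    ∃ x'', f x'' = f x ∧ x'' ≠ x ∧ x'' ≠ x' := by
  obtain ⟨Φ, hΦ⟩ := exists_equiv a b f hf
  obtain ⟨s, hs⟩ := exists_avoid ({(Φ x).2, (Φ x').2} : Finset (Fin a))
    (lt_of_le_of_lt Finset.card_le_two (by omega))
  simp only [Finset.mem_insert, Finset.mem_singleton, not_or] at hs
  refine ⟨Φ.symm ((Φ x).1, s), ?_, ?_, ?_⟩
  · rw [← hΦ, Equiv.apply_symm_apply, hΦ]
  · intro h
    apply hs.1
    have := congrArg Φ h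
    rw [Equiv.apply_symm_apply] at this
    rw [← this]
  · intro h
    apply hs.2
    have := congrArg Φ h
    rw [Equiv.apply_symm_apply] at this
    rw [← this]

omit [Fintype Ω] [DecidableEq Ω] in
theorem block_two (b : ℕ) (f : Ω → Fin b)
    (hf : ∀ i : Fin b, Nat.card {x : Ω // f x = i} = 2) (x x' u : Ω) (hx' : x' ≠ x)
    (hfx' : f x' = f x) (hu : f u = f x) : u = x ∨ u = x' := by
  obtain ⟨w, _, hw2⟩ := (Nat.card_eq_two_iff' (⟨x, rfl⟩ : {y : Ω // f y = f x})).mp (hf (f x))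
  by_cases hux : u = x
  · exact Or.inl hux
  · right
    have h1 := hw2 ⟨u, hu⟩ (fun h => hux (congrArg Subtype.val h))
    have h2 := hw2 ⟨x', hfx'⟩ (fun h => hx' (congrArg Subtype.val h))
    exact congrArg Subtype.val (h1.trans h2.symm)

/-- Case of blocks of size at least 3. -/
theorem caseA3 (a b : ℕ) (ha : 3 ≤ a) (f : Ω → Fin b)
    (hf : ∀ i : Fin b, Nat.card {x : Ω // f x = i} = a)
    (J : Subgroup (Equiv.Perm Ω)) (hWJ : W f ⊓ alternatingGroup Ω ≤ J)
    (g : Equiv.Perm Ω) (hg : g ∈ J) (x x' : Ω) (hfx : f x = f x') (hgx : f (g x) ≠ f (g x')) :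
    ∃ p q r : Ω, p ≠ q ∧ q ≠ r ∧ p ≠ r ∧ ¬ (f p = f q ∧ f q = f r) ∧ C p q r ∈ J := by
  have hxx' : x ≠ x' := fun h => hgx (by rw [h])
  obtain ⟨x'', hfx'', hx''x, hx''x'⟩ := exists_third a b ha f hf x x'
  have h1 : C x x' x'' ∈ J :=
    hWJ (swap2_mem b f x x' x' x'' hxx' hx''x'.symm hfx (by rw [hfx'', hfx]))
  have h2 := J.mul_mem (J.mul_mem hg h1) (J.inv_mem hg)
  rw [conj_C] at h2
  exact ⟨g x, g x', g x'', fun h => hxx' (g.injective h), fun h => hx''x' (g.injective h).symm,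
    fun h => hx''x (g.injective h).symm, fun h => hgx h.1, h2⟩

omit [Fintype Ω] in
theorem blockswap_mem (b : ℕ) (f : Ω → Fin b)
    (hf : ∀ i : Fin b, Nat.card {x : Ω // f x = i} = 2) (y y' z z' : Ω)
    (hy' : y' ≠ y) (hfy' : f y' = f y) (hz' : z' ≠ z) (hfz' : f z' = f z) (hyz : f y ≠ f z) :
    Equiv.swap y z * Equiv.swap y' z' ∈ W f := by
  have hyz' : y ≠ z' := fun h => hyz (by rw [← hfz', ← h])
  have hy'z : y' ≠ z := fun h => hyz (by rw [← hfy', h])
  have hy'z' : y' ≠ z' := fun h => hyz (by rw [← hfy', h, hfz'])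
  have hyz0 : y ≠ z := fun h => hyz (by rw [h])
  apply mem_W_of f (Equiv.swap (f y) (f z))
  intro u
  by_cases h1 : u = y
  · subst h1
    simp [Equiv.swap_apply_of_ne_of_ne hy'.symm hyz']
  by_cases h2 : u = z
  · subst h2
    simp [Equiv.swap_apply_of_ne_of_ne hy'z.symm hz'.symm]
  by_cases h3 : u = y'
  · subst h3
    simp [Equiv.swap_apply_of_ne_of_ne hyz'.symm hz', hfy', hfz']
  by_cases h4 : u = z'
  · subst h4
    simp [Equiv.swap_apply_of_ne_of_ne hy' hy'z, hfy', hfz']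
  · have h5 : f u ≠ f y := by
      intro h
      rcases block_two b f hf y y' u hy' hfy' h with h | h
      · exact h1 h
      · exact h3 h
    have h6 : f u ≠ f z := by
      intro h
      rcases block_two b f hf z z' u hz' hfz' h with h | h
      · exact h2 h
      · exact h4 h
    simp [Equiv.swap_apply_of_ne_of_ne h3 h4, Equiv.swap_apply_of_ne_of_ne h1 h2,
      Equiv.swap_apply_of_ne_of_ne h5 h6]

theorem caseA2_i (b : ℕ) (f : Ω → Fin b)
    (hf : ∀ i : Fin b, Nat.card {x : Ω // f x = i} = 2)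
    (J : Subgroup (Equiv.Perm Ω)) (hWJ : W f ⊓ alternatingGroup Ω ≤ J) (y y' z z' q : Ω)
    (hy' : y' ≠ y) (hfy' : f y' = f y) (hz' : z' ≠ z) (hfz' : f z' = f z) (hyz : f y ≠ f z)
    (hqy : q ≠ y) (hqz : q ≠ z) (hqy' : q ≠ y') (hqz' : q ≠ z')
    (hu : Equiv.swap y z * Equiv.swap z' q ∈ J) :
    ∃ p q r : Ω, p ≠ q ∧ q ≠ r ∧ p ≠ r ∧ ¬ (f p = f q ∧ f q = f r) ∧ C p q r ∈ J := by
  have hyz' : y ≠ z' := fun h => hyz (by rw [← hfz', ← h])
  have hy'z : y' ≠ z := fun h => hyz (by rw [← hfy', h])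
  have hy'z' : y' ≠ z' := fun h => hyz (by rw [← hfy', h, hfz'])
  have hyz0 : y ≠ z := fun h => hyz (by rw [h])
  set t : Equiv.Perm Ω := Equiv.swap y z * Equiv.swap y' z' with ht
  have htJ : t ∈ J := by
    apply hWJ
    refine Subgroup.mem_inf.mpr ⟨blockswap_mem b f hf y y' z z' hy' hfy' hz' hfz' hyz, ?_⟩
    rw [Equiv.Perm.mem_alternatingGroup]
    simp [ht, Equiv.Perm.sign_swap hyz0, Equiv.Perm.sign_swap hy'z']
  have e1 : t y = z := by simp [ht, Equiv.swap_apply_of_ne_of_ne hy'.symm hyz']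
  have e2 : t z = y := by simp [ht, Equiv.swap_apply_of_ne_of_ne hy'z.symm hz'.symm]
  have e3 : t z' = y' := by simp [ht, Equiv.swap_apply_of_ne_of_ne hy' hy'z]
  have e4 : t q = q := by
    simp [ht, Equiv.swap_apply_of_ne_of_ne hqy' hqz', Equiv.swap_apply_of_ne_of_ne hqy hqz]
  have h1 := J.mul_mem (J.mul_mem htJ hu) (J.inv_mem htJ)
  rw [conj_swap2, e1, e2, e3, e4] at h1
  have h2 := J.mul_mem hu h1
  have h3 : Equiv.swap y z * Equiv.swap z' q * (Equiv.swap z y * Equiv.swap y' q) = C z' q y' := by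
    rw [swap_comm_disj hyz' hqy.symm hz'.symm hqz.symm, Equiv.swap_comm z y, C,
      Equiv.swap_comm q y']
    calc Equiv.swap z' q * Equiv.swap y z * (Equiv.swap y z * Equiv.swap y' q)
        = Equiv.swap z' q * (Equiv.swap y z * Equiv.swap y z) * Equiv.swap y' q := by group
      _ = Equiv.swap z' q * Equiv.swap y' q := by rw [Equiv.swap_mul_self, mul_one]
  rw [h3] at h2
  exact ⟨z', q, y', hqz'.symm, hqy', hy'z'.symm,
    fun h => hyz (by rw [← hfy', ← h.2, ← h.1, hfz']), h2⟩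

omit [Fintype Ω] in
theorem caseA2_ii (b : ℕ) (f : Ω → Fin b)
    (J : Subgroup (Equiv.Perm Ω)) (hWJ : ∀ x x' c c' : Ω, x ≠ x' → c ≠ c' → f x = f x' → f c = f c' →
      Equiv.swap x x' * Equiv.swap c c' ∈ J) (y y' z p q : Ω)
    (hy' : y' ≠ y) (hfy' : f y' = f y) (hyz : f y ≠ f z) (hpq : p ≠ q) (hfpq : f p = f q)
    (hu : Equiv.swap y z * Equiv.swap p q ∈ J) :
    ∃ p q r : Ω, p ≠ q ∧ q ≠ r ∧ p ≠ r ∧ ¬ (f p = f q ∧ f q = f r) ∧ C p q r ∈ J := by
  have hy'z : y' ≠ z := fun h => hyz (by rw [← hfy', h])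
  have hyz0 : y ≠ z := fun h => hyz (by rw [h])
  have h1 := hWJ p q y y' hpq hy'.symm hfpq hfy'.symm
  have h2 := J.mul_mem hu h1
  have h3 : Equiv.swap y z * Equiv.swap p q * (Equiv.swap p q * Equiv.swap y y') = C z y y' := by
    rw [C, Equiv.swap_comm z y]
    calc Equiv.swap y z * Equiv.swap p q * (Equiv.swap p q * Equiv.swap y y')
        = Equiv.swap y z * (Equiv.swap p q * Equiv.swap p q) * Equiv.swap y y' := by group
      _ = Equiv.swap y z * Equiv.swap y y' := by rw [Equiv.swap_mul_self, mul_one]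
  rw [h3] at h2
  exact ⟨z, y, y', hyz0.symm, hy'.symm, hy'z.symm, fun h => hyz h.1.symm, h2⟩

omit [Fintype Ω] in
theorem caseA2_iii (b : ℕ) (f : Ω → Fin b)
    (J : Subgroup (Equiv.Perm Ω)) (hWJ : ∀ x x' c c' : Ω, x ≠ x' → c ≠ c' → f x = f x' → f c = f c' →
      Equiv.swap x x' * Equiv.swap c c' ∈ J) (y y' z p q s s' : Ω)
    (hy' : y' ≠ y) (hfy' : f y' = f y) (hyz : f y ≠ f z)
    (hpy' : p ≠ y') (hpz : p ≠ z) (hqy' : q ≠ y') (hqz : q ≠ z)
    (hss' : s ≠ s') (hfs : f s = f s')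
    (hsy : s ≠ y) (hsz : s ≠ z) (hsp : s ≠ p) (hsq : s ≠ q)
    (hs'y : s' ≠ y) (hs'z : s' ≠ z) (hs'p : s' ≠ p) (hs'q : s' ≠ q)
    (hpy : p ≠ y) (hqy : q ≠ y)
    (hu : Equiv.swap y z * Equiv.swap p q ∈ J) :
    ∃ p q r : Ω, p ≠ q ∧ q ≠ r ∧ p ≠ r ∧ ¬ (f p = f q ∧ f q = f r) ∧ C p q r ∈ J := by
  have hy'z : y' ≠ z := fun h => hyz (by rw [← hfy', h])
  have hyz0 : y ≠ z := fun h => hyz (by rw [h])
  set t : Equiv.Perm Ω := Equiv.swap y y' * Equiv.swap s s' with ht
  have htJ : t ∈ J := hWJ y y' s s' hy'.symm hss' hfy'.symm hfs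
  have e1 : t y = y' := by simp [ht, Equiv.swap_apply_of_ne_of_ne hsy.symm hs'y.symm]
  have e2 : t z = z := by
    simp [ht, Equiv.swap_apply_of_ne_of_ne hsz.symm hs'z.symm,
      Equiv.swap_apply_of_ne_of_ne hyz0.symm hy'z.symm]
  have e3 : t p = p := by
    simp [ht, Equiv.swap_apply_of_ne_of_ne hsp.symm hs'p.symm,
      Equiv.swap_apply_of_ne_of_ne hpy hpy']
  have e4 : t q = q := by
    simp [ht, Equiv.swap_apply_of_ne_of_ne hsq.symm hs'q.symm,
      Equiv.swap_apply_of_ne_of_ne hqy hqy']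
  have h1 := J.mul_mem (J.mul_mem htJ hu) (J.inv_mem htJ)
  rw [conj_swap2, e1, e2, e3, e4] at h1
  have h2 := J.mul_mem hu h1
  have h3 : Equiv.swap y z * Equiv.swap p q * (Equiv.swap y' z * Equiv.swap p q) = C y z y' := by
    rw [C, Equiv.swap_comm z y']
    calc Equiv.swap y z * Equiv.swap p q * (Equiv.swap y' z * Equiv.swap p q)
        = Equiv.swap y z * (Equiv.swap p q * Equiv.swap y' z) * Equiv.swap p q := by group
      _ = Equiv.swap y z * (Equiv.swap y' z * Equiv.swap p q) * Equiv.swap p q := by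
          rw [swap_comm_disj hpy' hpz hqy' hqz]
      _ = Equiv.swap y z * Equiv.swap y' z * (Equiv.swap p q * Equiv.swap p q) := by group
      _ = Equiv.swap y z * Equiv.swap y' z := by rw [Equiv.swap_mul_self, mul_one]
  rw [h3] at h2
  exact ⟨y, z, y', hyz0, hy'z.symm, hy'.symm, fun h => hyz h.1, h2⟩

/-- Case of blocks of size 2, with at least three blocks, but not four. -/
theorem caseA2 (b : ℕ) (hb3 : 3 ≤ b) (hb4 : b ≠ 4) (f : Ω → Fin b)
    (hf : ∀ i : Fin b, Nat.card {x : Ω // f x = i} = 2)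
    (J : Subgroup (Equiv.Perm Ω)) (hWJ : W f ⊓ alternatingGroup Ω ≤ J)
    (g : Equiv.Perm Ω) (hg : g ∈ J) (x x' : Ω) (hfx : f x = f x') (hgx : f (g x) ≠ f (g x')) :
    ∃ p q r : Ω, p ≠ q ∧ q ≠ r ∧ p ≠ r ∧ ¬ (f p = f q ∧ f q = f r) ∧ C p q r ∈ J := by
  have hxx' : x ≠ x' := fun h => hgx (by rw [h])
  have hWJ' : ∀ x x' c c' : Ω, x ≠ x' → c ≠ c' → f x = f x' → f c = f c' →
      Equiv.swap x x' * Equiv.swap c c' ∈ J :=
    fun x x' c c' h1 h2 h3 h4 => hWJ (swap2_mem b f x x' c c' h1 h2 h3 h4)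
  obtain ⟨y', hy', hfy'⟩ := exists_partner 2 b le_rfl f hf (g x)
  obtain ⟨z', hz', hfz'⟩ := exists_partner 2 b le_rfl f hf (g x')
  obtain ⟨i, hi⟩ := exists_avoid ({f x, f (g⁻¹ y')} : Finset (Fin b))
    (lt_of_le_of_lt Finset.card_le_two (by omega))
  simp only [Finset.mem_insert, Finset.mem_singleton, not_or] at hi
  obtain ⟨c, hc⟩ := exists_fiber 2 b le_rfl f hf i
  obtain ⟨c', hc', hfc'⟩ := exists_partner 2 b le_rfl f hf c
  have hcx : c ≠ x := fun h => hi.1 (by rw [← hc, h])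
  have hcx' : c ≠ x' := fun h => hi.1 (by rw [← hc, h, hfx])
  have hc'x : c' ≠ x := fun h => hi.1 (by rw [← hc, ← hfc', h])
  have hc'x' : c' ≠ x' := fun h => hi.1 (by rw [← hc, ← hfc', h, hfx])
  have hu : Equiv.swap (g x) (g x') * Equiv.swap (g c) (g c') ∈ J := by
    have := J.mul_mem (J.mul_mem hg (hWJ' x x' c c' hxx' hc'.symm hfx hfc'.symm)) (J.inv_mem hg)
    rwa [conj_swap2] at this
  have hpy : g c ≠ g x := fun h => hcx (g.injective h)
  have hpz : g c ≠ g x' := fun h => hcx' (g.injective h)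
  have hqy : g c' ≠ g x := fun h => hc'x (g.injective h)
  have hqz : g c' ≠ g x' := fun h => hc'x' (g.injective h)
  have hpq : g c ≠ g c' := fun h => hc' (g.injective h).symm
  have hpy' : g c ≠ y' := by
    intro h
    apply hi.2
    rw [← hc, ← h]
    simp
  have hqy' : g c' ≠ y' := by
    intro h
    apply hi.2
    rw [← hc, ← hfc', ← h]
    simp
  by_cases hpz' : g c = z'
  · rw [hpz'] at hu
    exact caseA2_i b f hf J hWJ (g x) y' (g x') z' (g c') hy' hfy' hz' hfz' hgx hqy hqz hqy'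
      (fun h => hpq (by rw [hpz', h])) hu
  by_cases hqz' : g c' = z'
  · rw [hqz', Equiv.swap_comm (g c) z'] at hu
    exact caseA2_i b f hf J hWJ (g x) y' (g x') z' (g c) hy' hfy' hz' hfz' hgx hpy hpz hpy'
      hpz' hu
  by_cases hfpq : f (g c) = f (g c')
  · exact caseA2_ii b f J hWJ' (g x) y' (g x') (g c) (g c') hy' hfy' hgx hpq hfpq hu
  · have h1 : f (g c) ≠ f (g x) := by
      intro h
      rcases block_two b f hf (g x) y' (g c) hy' hfy' h with h | h
      · exact hpy h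
      · exact hpy' h
    have h2 : f (g c) ≠ f (g x') := by
      intro h
      rcases block_two b f hf (g x') z' (g c) hz' hfz' h with h | h
      · exact hpz h
      · exact hpz' h
    have h3 : f (g c') ≠ f (g x) := by
      intro h
      rcases block_two b f hf (g x) y' (g c') hy' hfy' h with h | h
      · exact hqy h
      · exact hqy' h
    have h4 : f (g c') ≠ f (g x') := by
      intro h
      rcases block_two b f hf (g x') z' (g c') hz' hfz' h with h | h
      · exact hqz h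
      · exact hqz' h
    have hcard : ({f (g x), f (g x'), f (g c), f (g c')} : Finset (Fin b)).card = 4 := by
      rw [Finset.card_insert_of_notMem, Finset.card_insert_of_notMem,
        Finset.card_insert_of_notMem, Finset.card_singleton]
      · simpa using hfpq
      · simp only [Finset.mem_insert, Finset.mem_singleton, not_or]
        exact ⟨h2.symm, h4.symm⟩
      · simp only [Finset.mem_insert, Finset.mem_singleton, not_or]
        exact ⟨hgx, h1.symm, h3.symm⟩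
    have hle := Finset.card_le_univ ({f (g x), f (g x'), f (g c), f (g c')} : Finset (Fin b))
    rw [hcard, Fintype.card_fin] at hle
    obtain ⟨k, hk⟩ := exists_avoid ({f (g x), f (g x'), f (g c), f (g c')} : Finset (Fin b))
      (by rw [hcard]; omega)
    simp only [Finset.mem_insert, Finset.mem_singleton, not_or] at hk
    obtain ⟨s, hs⟩ := exists_fiber 2 b le_rfl f hf k
    obtain ⟨s', hs', hfs'⟩ := exists_partner 2 b le_rfl f hf s
    have hs'k : f s' = k := hfs'.trans hs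
    exact caseA2_iii b f J hWJ' (g x) y' (g x') (g c) (g c') s s' hy' hfy' hgx hpy' hpz hqy' hqz
      hs'.symm hfs'.symm
      (fun h => hk.1 (by rw [← hs, h])) (fun h => hk.2.1 (by rw [← hs, h]))
      (fun h => hk.2.2.1 (by rw [← hs, h])) (fun h => hk.2.2.2 (by rw [← hs, h]))
      (fun h => hk.1 (by rw [← hs'k, h])) (fun h => hk.2.1 (by rw [← hs'k, h]))
      (fun h => hk.2.2.1 (by rw [← hs'k, h])) (fun h => hk.2.2.2 (by rw [← hs'k, h]))
      hpy hqy hu

set_option maxRecDepth 100000 in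
theorem model4 : ∀ g : Equiv.Perm (Fin 2 × Fin 2), Equiv.Perm.sign g = 1 →
    (∃ x x' : Fin 2 × Fin 2, x.1 = x'.1 ∧ (g x).1 ≠ (g x').1) →
    ∃ p q r : Fin 2 × Fin 2, p ≠ q ∧ q ≠ r ∧ p ≠ r ∧ g = Equiv.swap p q * Equiv.swap q r := by
  decide +kernel

/-- Case of two blocks of size 2. -/
theorem caseA2B2 (f : Ω → Fin 2)
    (hf : ∀ i : Fin 2, Nat.card {x : Ω // f x = i} = 2)
    (g : Equiv.Perm Ω) (hg : Equiv.Perm.sign g = 1) (x x' : Ω) (hfx : f x = f x')
    (hgx : f (g x) ≠ f (g x')) :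
    ∃ p q r : Ω, p ≠ q ∧ q ≠ r ∧ p ≠ r ∧ ¬ (f p = f q ∧ f q = f r) ∧ g = C p q r := by
  obtain ⟨Φ, hΦ⟩ := exists_equiv 2 2 f hf
  have hg' : ∀ m, Φ.permCongr g m = Φ (g (Φ.symm m)) := fun m => rfl
  obtain ⟨P, Q, R, hPQ, hQR, hPR, hgm⟩ := model4 (Φ.permCongr g)
    (by rw [Equiv.Perm.sign_permCongr]; exact hg)
    ⟨Φ x, Φ x', by rw [hΦ, hΦ, hfx], by
      rw [hg', hg', Equiv.symm_apply_apply, Equiv.symm_apply_apply, hΦ, hΦ]; exact hgx⟩
  refine ⟨Φ.symm P, Φ.symm Q, Φ.symm R, fun h => hPQ (Φ.symm.injective h),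
    fun h => hQR (Φ.symm.injective h), fun h => hPR (Φ.symm.injective h), ?_, ?_⟩
  · rintro ⟨h1, h2⟩
    obtain ⟨w, hw1, hw2⟩ := exists_partner 2 2 le_rfl f hf (Φ.symm Q)
    have hP : Φ.symm P = w := by
      rcases block_two 2 f hf (Φ.symm Q) w (Φ.symm P) hw1 hw2 h1 with h | h
      · exact absurd (Φ.symm.injective h) hPQ
      · exact h
    have hR : Φ.symm R = w := by
      rcases block_two 2 f hf (Φ.symm Q) w (Φ.symm R) hw1 hw2 h2.symm with h | h
      · exact absurd (Φ.symm.injective h).symm hQR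
      · exact h
    exact hPR (Φ.symm.injective (hP.trans hR.symm))
  · ext v
    apply Φ.injective
    have h1 : Φ (g v) = Φ.permCongr g (Φ v) := by rw [hg', Equiv.symm_apply_apply]
    rw [h1, hgm, C, Equiv.Perm.mul_apply, Equiv.Perm.mul_apply,
      ← Φ.injective.swap_apply, ← Φ.injective.swap_apply]
    simp

/-- An element of `J` outside `W` produces a 3-cycle of `J` not contained in a block. -/
theorem stepC (h8 : Fintype.card Ω ≠ 8) (a b : ℕ) (ha : 2 ≤ a) (hb : 2 ≤ b) (f : Ω → Fin b)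
    (hf : ∀ i : Fin b, Nat.card {x : Ω // f x = i} = a)
    (J : Subgroup (Equiv.Perm Ω)) (hJA : J ≤ alternatingGroup Ω)
    (hWJ : W f ⊓ alternatingGroup Ω ≤ J) (g : Equiv.Perm Ω) (hg : g ∈ J) (hgW : g ∉ W f) :
    ∃ p q r : Ω, p ≠ q ∧ q ≠ r ∧ p ≠ r ∧ ¬ (f p = f q ∧ f q = f r) ∧ C p q r ∈ J := by
  have hcard : Fintype.card Ω = b * a := by
    obtain ⟨Φ, _⟩ := exists_equiv a b f hf
    rw [Fintype.card_congr Φ, Fintype.card_prod, Fintype.card_fin, Fintype.card_fin]
  have hnorm : ∃ g' ∈ J, ∃ x x', f x = f x' ∧ f (g' x) ≠ f (g' x') := by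
    by_contra hcon
    push Not at hcon
    apply hgW
    intro x y
    constructor
    · intro h
      exact hcon g hg x y h
    · intro h
      have := hcon g⁻¹ (J.inv_mem hg) (g x) (g y) h
      simpa using this
  obtain ⟨g', hg', x, x', hfx, hgx⟩ := hnorm
  rcases Nat.lt_or_ge 2 a with ha3 | ha2
  · exact caseA3 a b ha3 f hf J hWJ g' hg' x x' hfx hgx
  · obtain rfl : a = 2 := by omega
    rcases Nat.lt_or_ge 2 b with hb3 | hb2
    · exact caseA2 b hb3 (by omega) f hf J hWJ g' hg' x x' hfx hgx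
    · obtain rfl : b = 2 := by omega
      obtain ⟨p, q, r, h1, h2, h3, h4, h5⟩ := caseA2B2 f hf g'
        (Equiv.Perm.mem_alternatingGroup.mp (hJA hg')) x x' hfx hgx
      exact ⟨p, q, r, h1, h2, h3, h4, h5 ▸ hg'⟩

end

/-- Let Ω be a finite set whose size is not 8, and f : Ω → Fin b a labelling with b ≥ 2 whose fibres all have the same size a ≥ 2 (a partition into b blocks of size a). Then the even permutations preserving the partition — the intersection of the imprimitive wreath product S_a ≀ S_b with the alternating group — form a maximal subgroup of the alternating group on Ω. -/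
theorem result {Ω : Type*} [Fintype Ω] [DecidableEq Ω] (h8 : Fintype.card Ω ≠ 8) (a b : ℕ) (ha : 2 ≤ a) (hb : 2 ≤ b)
    (f : Ω → Fin b) (hf : ∀ i : Fin b, Nat.card {x : Ω // f x = i} = a) :
    IsCoatom ((Subgroup.closure {g : Equiv.Perm Ω | ∀ x y : Ω, f x = f y ↔ f (g x) = f (g y)} ⊓ alternatingGroup Ω).subgroupOf (alternatingGroup Ω)) := by
  have hcl : Subgroup.closure {g : Equiv.Perm Ω | ∀ x y : Ω, f x = f y ↔ f (g x) = f (g y)} = W f :=
    Subgroup.closure_eq (W f)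
  rw [hcl]
  apply isCoatom_subgroupOf_of (W f ⊓ alternatingGroup Ω) (alternatingGroup Ω) inf_le_right
  · -- a 3-cycle across two blocks
    obtain ⟨x, hx⟩ := exists_fiber a b ha f hf ⟨0, by omega⟩
    obtain ⟨y, hy⟩ := exists_fiber a b ha f hf ⟨1, by omega⟩
    obtain ⟨x', hx', hfx'⟩ := exists_partner a b ha f hf x
    have hfy : f y ≠ f x := by rw [hx, hy]; simp [Fin.ext_iff]
    have hyx' : y ≠ x' := fun h => hfy (by rw [h, hfx'])
    have hyx : y ≠ x := fun h => hfy (by rw [h])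
    refine ⟨C x x' y, ?_, ?_⟩
    · rw [Equiv.Perm.mem_alternatingGroup]
      simp [C, Equiv.Perm.sign_swap hx'.symm, Equiv.Perm.sign_swap hyx'.symm]
    · intro hmem
      have hW := (Subgroup.mem_inf.mp hmem).1
      have h1 := (hW x x').mp hfx'.symm
      have e1 : C x x' y x = x' := by
        simp [C, Equiv.swap_apply_of_ne_of_ne hx'.symm hyx.symm]
      have e2 : C x x' y x' = y := by
        simp [C, Equiv.swap_apply_of_ne_of_ne hyx hyx']
      rw [e1, e2] at h1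
      exact hfy (by rw [← h1, hfx'])
  · intro J hWJ hJA hex
    obtain ⟨g, hgJ, hgW⟩ := hex
    have hgW' : g ∉ W f := fun h => hgW (Subgroup.mem_inf.mpr ⟨h, hJA hgJ⟩)
    obtain ⟨p, q, r, hpq, hqr, hpr, hcross, hc⟩ := stepC h8 a b ha hb f hf J hJA hWJ g hgJ hgW'
    exact main3 a b ha hb f hf J hJA hWJ p q r hpq hqr hpr hcross hc

end Cfsg.Agent.S5909
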