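import Cfsg.Statements.S5910
import Cfsg.Agent.S5905

set_option autoImplicit false
open Cfsg

namespace Cfsg.Agent.S5910

open Equiv

abbrev Q4 := Fin 2 × Fin 2
abbrev M8 := Q4 × Fin 2

set_option maxRecDepth 100000 in
theorem perm_Q4_tri : ∀ π : Perm Q4, ∀ i j k : Q4, π (i + j + k) = π i + π j + π k := by
  decide

set_option maxRecDepth 100000 in
theorem mu_tri : ∀ μ : Q4 → Fin 2, (∑ i, μ i) = 0 → ∀ i j k : Q4, μ (i + j + k) = μ i + μ j + μ k := by
  decide

set_option maxRecDepth 100000 in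
theorem sign_mu : ∀ μ : Q4 → Fin 2, (∏ i, Perm.sign (Equiv.addRight (μ i))) = 1 → (∑ i, μ i) = 0 := by
  decide

/-- partition preserving permutations of the model -/
def Wc : Subgroup (Perm M8) where
  carrier := {g | ∀ x y : M8, x.1 = y.1 ↔ (g x).1 = (g y).1}
  mul_mem' := by
    intro g h hg hh x y
    rw [hh x y, hg (h x) (h y)]
    rfl
  one_mem' := by
    intro x y
    rfl
  inv_mem' := by
    intro g hg x y
    have := hg (g⁻¹ x) (g⁻¹ y)
    simp only [Equiv.Perm.coe_inv, Equiv.apply_symm_apply] at this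
    exact this.symm

/-- permutations of the model preserving the ternary sum (affine maps) -/
def Jc : Subgroup (Perm M8) where
  carrier := {g | ∀ u v w : M8, g (u + v + w) = g u + g v + g w}
  mul_mem' := by
    intro g h hg hh u v w
    simp only [Perm.mul_apply, hh u v w]
    exact hg _ _ _
  one_mem' := by
    intro u v w
    rfl
  inv_mem' := by
    intro g hg u v w
    apply g.injective
    rw [hg]
    simp

theorem Wc_even_mem_Jc (g : Perm M8) (hg : g ∈ Wc) (hs : Perm.sign g = 1) : g ∈ Jc := by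
  have hg' : ∀ x y : M8, x.1 = y.1 ↔ (g x).1 = (g y).1 := hg
  -- the induced permutation of the quotient
  let πf : Q4 → Q4 := fun i => (g (i, 0)).1
  have hπ1 : ∀ i s, (g (i, s)).1 = πf i := fun i s => ((hg' (i, s) (i, 0)).mp rfl)
  have hπinj : Function.Injective πf := by
    intro i j hij
    exact (hg' (i, 0) (j, 0)).mpr hij
  let π : Perm Q4 := Equiv.ofBijective πf (Finite.injective_iff_bijective.mp hπinj)
  let μ : Q4 → Fin 2 := fun i => (g (i, 0)).2
  have hμ : ∀ i s, (g (i, s)).2 = s + μ i := by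
    intro i s
    have h01 : (g (i, 1)).2 ≠ (g (i, 0)).2 := by
      intro h
      have : g (i, 1) = g (i, 0) := Prod.ext ((hπ1 i 1).trans (hπ1 i 0).symm) h
      have := g.injective this
      simp at this
    have key : ∀ a b : Fin 2, a ≠ b → a = 1 + b := by decide
    fin_cases s
    · simp [μ]
    · exact key _ _ h01
  have hgform : ∀ i s, g (i, s) = (π i, s + μ i) := fun i s => Prod.ext (hπ1 i s) (hμ i s)
  -- sign
  have hdecomp : g = (prodCongrLeft (fun _ : Fin 2 => π)) * (prodCongrRight (fun i => Equiv.addRight (μ i))) := by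
    ext ⟨i, s⟩ : 1
    rw [hgform]
    rfl
  have hsign : Perm.sign g = ∏ i, Perm.sign (Equiv.addRight (μ i)) := by
    rw [hdecomp, Perm.sign_mul, Perm.sign_prodCongrLeft, Perm.sign_prodCongrRight]
    simp
  rw [hsign] at hs
  have hsum := sign_mu μ hs
  rintro ⟨i, s⟩ ⟨j, t⟩ ⟨k, r⟩
  change g (i + j + k, s + t + r) = g (i, s) + g (j, t) + g (k, r)
  rw [hgform, hgform, hgform, hgform]
  refine Prod.ext ?_ ?_
  · exact perm_Q4_tri π i j k
  · change s + t + r + μ (i + j + k) = s + μ i + (t + μ j) + (r + μ k)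
    rw [mu_tri μ hsum]
    abel

/-- an affine even permutation not preserving the partition -/
def g₀ : Perm M8 := swap ((0, 1), 0) ((0, 0), 1) * swap ((1, 1), 0) ((1, 0), 1)

/-- a 3-cycle -/
def h₀ : Perm M8 := swap ((0, 0), 0) ((1, 0), 0) * swap ((1, 0), 0) ((0, 1), 0)

set_option maxRecDepth 100000 in
theorem g₀_tri : ∀ u v w : M8, g₀ (u + v + w) = g₀ u + g₀ v + g₀ w := by
  decide

theorem g₀_sign : Perm.sign g₀ = 1 := by
  unfold g₀
  rw [Perm.sign_mul, Perm.sign_swap (by decide), Perm.sign_swap (by decide)]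
  rfl

theorem g₀_not : ¬ ((((0, 0), 0) : M8).1 = (((0, 0), 1) : M8).1 ↔ (g₀ ((0, 0), 0)).1 = (g₀ ((0, 0), 1)).1) := by
  decide

theorem h₀_sign : Perm.sign h₀ = 1 := by
  unfold h₀
  rw [Perm.sign_mul, Perm.sign_swap (by decide), Perm.sign_swap (by decide)]
  rfl

theorem h₀_not : ¬ (h₀ (((0, 0), 0) + ((0, 0), 1) + ((1, 0), 0)) = h₀ ((0, 0), 0) + h₀ ((0, 0), 1) + h₀ ((1, 0), 0)) := by
  decide

/-- a strictly intermediate subgroup prevents maximality -/
theorem not_isCoatom_subgroupOf {G : Type*} [Group G] (K J A : Subgroup G) (hKJ : K < J)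
    (hJA : J < A) : ¬ IsCoatom (K.subgroupOf A) := by
  intro hco
  have hlt : K.subgroupOf A < J.subgroupOf A := by
    apply lt_of_le_of_ne
    · intro x hx
      exact hKJ.le hx
    · intro heq
      apply hKJ.not_ge
      intro x hx
      have hxA : x ∈ A := hJA.le hx
      have : (⟨x, hxA⟩ : A) ∈ J.subgroupOf A := hx
      rw [← heq] at this
      exact this
  have := hco.2 _ hlt
  rw [Subgroup.subgroupOf_eq_top] at this
  exact hJA.not_ge this

theorem concrete_lt : Wc ⊓ alternatingGroup M8 < Jc ⊓ alternatingGroup M8 := by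
  apply lt_of_le_of_ne
  · rintro g ⟨hgW, hgA⟩
    exact ⟨Wc_even_mem_Jc g hgW (Perm.mem_alternatingGroup.mp hgA), hgA⟩
  · intro heq
    have h1 : g₀ ∈ Jc ⊓ alternatingGroup M8 := ⟨g₀_tri, Perm.mem_alternatingGroup.mpr g₀_sign⟩
    rw [← heq] at h1
    exact g₀_not (h1.1 _ _)

theorem concrete_lt' : Jc ⊓ alternatingGroup M8 < alternatingGroup M8 := by
  apply lt_of_le_of_ne inf_le_right
  intro heq
  have h1 : h₀ ∈ alternatingGroup M8 := Perm.mem_alternatingGroup.mpr h₀_sign
  rw [← heq] at h1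
  exact h₀_not (h1.1 _ _ _)

theorem result {Ω : Type*} [Fintype Ω] [DecidableEq Ω] (h8 : Fintype.card Ω = 8)
    (f : Ω → Fin 4) (hf : ∀ i : Fin 4, Nat.card {x : Ω // f x = i} = 2) :
    ¬ IsCoatom ((Subgroup.closure {g : Equiv.Perm Ω | ∀ x y : Ω, f x = f y ↔ f (g x) = f (g y)} ⊓ alternatingGroup Ω).subgroupOf (alternatingGroup Ω)) := by
  have hcl : Subgroup.closure {g : Equiv.Perm Ω | ∀ x y : Ω, f x = f y ↔ f (g x) = f (g y)} =
      Cfsg.Agent.S5905.W f := Subgroup.closure_eq (Cfsg.Agent.S5905.W f)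
  rw [hcl]
  obtain ⟨Φ₁, hΦ₁⟩ := Cfsg.Agent.S5905.exists_equiv 2 4 f hf
  let e : Fin 4 ≃ Q4 := (finProdFinEquiv (m := 2) (n := 2)).symm
  let Φ : Ω ≃ M8 := Φ₁.trans (Equiv.prodCongr e (Equiv.refl _))
  have hΦ : ∀ u, (Φ u).1 = e (f u) := by
    intro u
    change e (Φ₁ u).1 = e (f u)
    rw [hΦ₁]
  let ψ : Perm Ω ≃* Perm M8 := Φ.permCongrHom
  have hψ : ∀ (g : Perm Ω) (m : M8), ψ g m = Φ (g (Φ.symm m)) := fun g m => rfl
  have hW : Cfsg.Agent.S5905.W f = Wc.comap (ψ : Perm Ω →* Perm M8) := by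
    ext g
    rw [Subgroup.mem_comap]
    constructor
    · intro hg x y
      change x.1 = y.1 ↔ (ψ g x).1 = (ψ g y).1
      rw [hψ, hψ, hΦ, hΦ, e.injective.eq_iff, ← hg]
      rw [← e.injective.eq_iff, ← hΦ, ← hΦ, Φ.apply_symm_apply, Φ.apply_symm_apply]
    · intro hg x y
      have := hg (Φ x) (Φ y)
      change (Φ x).1 = (Φ y).1 ↔ (ψ g (Φ x)).1 = (ψ g (Φ y)).1 at this
      rw [hψ, hψ, Φ.symm_apply_apply, Φ.symm_apply_apply, hΦ, hΦ, hΦ, hΦ, e.injective.eq_iff,
        e.injective.eq_iff] at this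
      exact this
  have hA : alternatingGroup Ω = (alternatingGroup M8).comap (ψ : Perm Ω →* Perm M8) := by
    ext g
    rw [Subgroup.mem_comap, Perm.mem_alternatingGroup, Perm.mem_alternatingGroup]
    have : Perm.sign ((ψ : Perm Ω →* Perm M8) g) = Perm.sign g := Perm.sign_permCongr Φ g
    rw [this]
  have hsurj : Function.Surjective (ψ : Perm Ω →* Perm M8) := ψ.surjective
  apply not_isCoatom_subgroupOf _ ((Jc ⊓ alternatingGroup M8).comap (ψ : Perm Ω →* Perm M8))
  · rw [hW, hA, ← Subgroup.comap_inf]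
    exact (Subgroup.comap_lt_comap_of_surjective hsurj).mpr concrete_lt
  · rw [hA]
    exact (Subgroup.comap_lt_comap_of_surjective hsurj).mpr concrete_lt'

end Cfsg.Agent.S5910
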