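import Cfsg.Statements.S5911

set_option autoImplicit false
open Cfsg

namespace Cfsg.Agent.S5911

open Nat Equiv


theorem aux_fact_lt (j : ℕ) (hj : 4 ≤ j) : 2 ^ j * j ! < (2 * j - 2)! * 2 := by
  induction j, hj using Nat.le_induction with
  | base => decide
  | succ j hj ih =>
    have h1 : 2 * (j + 1) - 2 = (2 * j - 2) + 2 := by omega
    rw [h1, Nat.factorial_succ, Nat.factorial_succ, Nat.factorial_succ, pow_succ]
    have h2 : 2 * j - 2 + 1 + 1 = 2 * j := by omega
    have h3 : 2 * j - 2 + 1 = 2 * j - 1 := by omega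
    rw [h2, h3]
    have h4 : 2 * (j + 1) ≤ (2 * j) * (2 * j - 1) := by
      have : 3 ≤ 2 * j - 1 := by omega
      nlinarith
    calc 2 ^ j * 2 * ((j + 1) * j !) = (2 * (j + 1)) * (2 ^ j * j !) := by ring
      _ < (2 * (j + 1)) * ((2 * j - 2)! * 2) := by
          apply Nat.mul_lt_mul_of_pos_left ih; omega
      _ ≤ (2 * j * (2 * j - 1)) * ((2 * j - 2)! * 2) := Nat.mul_le_mul_right _ h4
      _ = 2 * j * ((2 * j - 1) * (2 * j - 2)!) * 2 := by ring

theorem arith (n j : ℕ) (hj : 1 ≤ j) (h2j : 2 * j ≤ n) (h6 : n ≠ 6)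
    (h : (n - 2)! * 2 = (n - 2 * j)! * 2 ^ j * j !) : j = 1 := by
  obtain ⟨m, rfl⟩ : ∃ m, n = m + 2 * j := ⟨n - 2 * j, by omega⟩
  rw [Nat.add_sub_cancel] at h
  by_contra hj1
  have hj2 : 2 ≤ j := by omega
  rcases Nat.lt_or_ge j 4 with h4 | h4
  · interval_cases j
    · -- j = 2
      have e : m + 2 * 2 - 2 = m + 2 := by omega
      rw [e, Nat.factorial_succ, Nat.factorial_succ] at h
      have hm : 0 < m ! := Nat.factorial_pos m
      have : (m + 1 + 1) * (m + 1) = 4 := by
        have h' : ((m + 1 + 1) * (m + 1)) * (m ! * 2) = 4 * (m ! * 2) := by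
          simp only [Nat.factorial] at h ⊢; nlinarith
        exact Nat.eq_of_mul_eq_mul_right (by positivity) h'
      rcases m with _ | m
      · omega
      · nlinarith
    · -- j = 3
      have e : m + 2 * 3 - 2 = m + 4 := by omega
      rw [e, Nat.factorial_succ, Nat.factorial_succ, Nat.factorial_succ, Nat.factorial_succ] at h
      have hm : 0 < m ! := Nat.factorial_pos m
      have : (m + 3 + 1) * ((m + 2 + 1) * ((m + 1 + 1) * (m + 1))) = 24 := by
        have h' : ((m + 3 + 1) * ((m + 2 + 1) * ((m + 1 + 1) * (m + 1)))) * (m ! * 2) = 24 * (m ! * 2) := by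
          simp only [Nat.factorial] at h ⊢; nlinarith
        exact Nat.eq_of_mul_eq_mul_right (by positivity) h'
      rcases m with _ | m
      · omega
      · have : 5 * (4 * (3 * 2)) ≤ (m + 1 + 3 + 1) * ((m + 1 + 2 + 1) * ((m + 1 + 1 + 1) * (m + 1 + 1))) := by
          apply Nat.mul_le_mul (by omega)
          apply Nat.mul_le_mul (by omega)
          apply Nat.mul_le_mul (by omega) (by omega)
        omega
  · have h5 := aux_fact_lt j h4
    have h7 : m ! * (2 * j - 2)! ≤ (m + (2 * j - 2))! := Nat.le_of_dvd (Nat.factorial_pos _) (Nat.factorial_mul_factorial_dvd_factorial_add _ _)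
    have e : m + 2 * j - 2 = m + (2 * j - 2) := by omega
    rw [e] at h
    have hm : 0 < m ! := Nat.factorial_pos m
    have : m ! * ((2 * j - 2)! * 2) ≤ m ! * (2 ^ j * j !) := by
      calc m ! * ((2 * j - 2)! * 2) = (m ! * (2 * j - 2)!) * 2 := by ring
        _ ≤ (m + (2 * j - 2))! * 2 := Nat.mul_le_mul_right _ h7
        _ = m ! * 2 ^ j * j ! := h
        _ = m ! * (2 ^ j * j !) := by ring
    have := Nat.le_of_mul_le_mul_left this hm
    omega

/-- cardinality of centralizers is preserved by isomorphisms -/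
theorem card_centralizer_mulEquiv {G G' : Type*} [Group G] [Group G'] (e : G ≃* G') (s : G) :
    Nat.card (Subgroup.centralizer {e s}) = Nat.card (Subgroup.centralizer {s}) := by
  apply Nat.card_congr
  refine ⟨fun x => ⟨e.symm x.1, ?_⟩, fun x => ⟨e x.1, ?_⟩, ?_, ?_⟩
  · have hx := x.2
    rw [Subgroup.mem_centralizer_singleton_iff] at hx ⊢
    apply e.injective
    simp [hx]
  · have hx := x.2
    rw [Subgroup.mem_centralizer_singleton_iff] at hx ⊢
    rw [← map_mul, ← map_mul, hx]
  · intro x; simp
  · intro x; simp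

theorem isSwap_of_mulEquiv {α β : Type*} [Fintype α] [DecidableEq α] [Fintype β] [DecidableEq β]
    (hcard : Fintype.card α = Fintype.card β) (h6 : Fintype.card α ≠ 6)
    (e : Perm α ≃* Perm β) (s : Perm α) (hs : s.IsSwap) : (e s).IsSwap := by
  have h1 : s.cycleType = {2} := Perm.isSwap_iff_cycleType.mp hs
  have ho : orderOf (e s) = 2 := by
    rw [MulEquiv.orderOf_eq, hs.orderOf]
  obtain ⟨k, hk⟩ := Perm.cycleType_prime_order (σ := e s) (by rw [ho]; exact Nat.prime_two)
  rw [ho] at hk
  have hc := card_centralizer_mulEquiv e s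
  rw [Perm.nat_card_centralizer, Perm.nat_card_centralizer, h1, hk, ← hcard] at hc
  have hle := Perm.sum_cycleType_le (e s)
  rw [hk, ← hcard] at hle
  simp only [Multiset.sum_replicate, smul_eq_mul, Multiset.prod_replicate,
    Multiset.sum_singleton, Multiset.prod_singleton] at hc hle
  have h2 : (Multiset.replicate (k + 1) 2).toFinset = {2} := by
    ext x
    rw [Multiset.mem_toFinset, Multiset.mem_replicate, Finset.mem_singleton]
    constructor
    · rintro ⟨-, h⟩; exact h
    · intro h; exact ⟨by omega, h⟩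
  rw [h2] at hc
  simp only [Multiset.toFinset_singleton, Finset.prod_singleton, Multiset.count_singleton_self,
    Multiset.count_replicate_self, Nat.factorial_one, mul_one] at hc
  have := arith (Fintype.card α) (k + 1) (by omega) (by omega) h6 (by rw [← hc]; ring_nf)
  have hk0 : k = 0 := by omega
  subst hk0
  rw [Perm.isSwap_iff_cycleType, hk]
  rfl


/-- If `H` contains every swap of points different from `y₀`, it contains the stabilizer of `y₀`. -/
theorem stabilizer_le_of_swaps {Ω : Type*} [Fintype Ω] [DecidableEq Ω] (H : Subgroup (Perm Ω)) (y₀ : Ω)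
    (hsw : ∀ u v : Ω, u ≠ y₀ → v ≠ y₀ → swap u v ∈ H) :
    MulAction.stabilizer (Perm Ω) y₀ ≤ H := by
  intro g hg
  rw [MulAction.mem_stabilizer_iff, Perm.smul_def] at hg
  induction hn : g.support.card using Nat.strong_induction_on generalizing g with
  | _ n ih =>
    by_cases h1 : g = 1
    · rw [h1]; exact H.one_mem
    · obtain ⟨u, hu⟩ : ∃ u, g u ≠ u := by
        by_contra hcon
        push Not at hcon
        exact h1 (Perm.ext hcon)
      have hu0 : u ≠ y₀ := by rintro rfl; exact hu hg
      have hgu0 : g u ≠ y₀ := by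
        intro h
        apply hu0
        apply g.injective
        rw [h, hg]
      have hlt := Perm.card_support_swap_mul hu
      have hfix : (swap u (g u) * g) y₀ = y₀ := by
        rw [Perm.mul_apply, hg, swap_apply_of_ne_of_ne hu0.symm hgu0.symm]
      have hmem := ih _ (hn ▸ hlt) hfix rfl
      have : g = swap u (g u) * (swap u (g u) * g) := by
        rw [← mul_assoc, swap_mul_self, one_mul]
      rw [this]
      exact H.mul_mem (hsw _ _ hu0 hgu0) hmem

theorem swap_eq_swap_cases {Ω : Type*} [DecidableEq Ω] {x y a b : Ω} (hxy : x ≠ y)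
    (h : swap x y = swap a b) : (x = a ∧ y = b) ∨ (x = b ∧ y = a) := by
  have h1 : swap a b x = y := by rw [← h, swap_apply_left]
  have h2 : swap a b y = x := by rw [← h, swap_apply_right]
  have hne : swap a b x ≠ x := by rw [h1]; exact hxy.symm
  rw [swap_apply_ne_self_iff] at hne
  rcases hne.2 with rfl | rfl
  · left; rw [swap_apply_left] at h1; exact ⟨rfl, h1.symm⟩
  · right; rw [swap_apply_right] at h1; exact ⟨rfl, h1.symm⟩

/-- Combinatorial core: a subgroup missing fewer than `card Ω` swaps contains a point stabilizer. -/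
theorem exists_stabilizer_le {Ω : Type*} [Fintype Ω] [DecidableEq Ω] (H : Subgroup (Perm Ω))
    (hcount : Nat.card {s : Perm Ω // s.IsSwap ∧ s ∉ H} < Fintype.card Ω) :
    ∃ y₀ : Ω, MulAction.stabilizer (Perm Ω) y₀ ≤ H := by
  classical
  rw [Nat.card_eq_fintype_card, Fintype.card_subtype] at hcount
  set SN := Finset.univ.filter (fun s : Perm Ω => s.IsSwap ∧ s ∉ H) with hSN
  let D : Ω → Finset Ω := fun x => Finset.univ.filter (fun y => y ≠ x ∧ swap x y ∉ H)
  have hne : Nonempty Ω := by
    rcases isEmpty_or_nonempty Ω with h | h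
    · rw [Fintype.card_eq_zero] at hcount; omega
    · exact h
  -- some vertex has degree ≤ 1
  have hdeg : ∃ x, (D x).card ≤ 1 := by
    by_contra hcon
    push Not at hcon
    let P : Finset (Σ _ : Ω, Ω) := Finset.univ.sigma D
    have hP : 2 * Fintype.card Ω ≤ P.card := by
      rw [Finset.card_sigma]
      calc 2 * Fintype.card Ω = ∑ _x : Ω, 2 := by simp [mul_comm]
        _ ≤ ∑ x : Ω, (D x).card := Finset.sum_le_sum (fun x _ => hcon x)
    let f : (Σ _ : Ω, Ω) → Perm Ω := fun p => swap p.1 p.2
    have himg : P.image f ⊆ SN := by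
      intro s hs
      rw [Finset.mem_image] at hs
      obtain ⟨⟨x, y⟩, hp, rfl⟩ := hs
      rw [Finset.mem_sigma, Finset.mem_filter] at hp
      rw [hSN, Finset.mem_filter]
      exact ⟨Finset.mem_univ _, ⟨x, y, hp.2.2.1.symm, rfl⟩, hp.2.2.2⟩
    have hfib : ∀ a ∈ P.image f, (P.filter (fun p => f p = a)).card ≤ 2 := by
      intro a ha
      rw [Finset.mem_image] at ha
      obtain ⟨⟨x, y⟩, hp, rfl⟩ := ha
      rw [Finset.mem_sigma, Finset.mem_filter] at hp
      have hsub : P.filter (fun p => f p = f ⟨x, y⟩) ⊆ {⟨x, y⟩, ⟨y, x⟩} := by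
        intro q hq
        rw [Finset.mem_filter, Finset.mem_sigma, Finset.mem_filter] at hq
        obtain ⟨⟨-, -, hq1, -⟩, hq2⟩ := hq
        obtain ⟨a, b⟩ := q
        simp only [f] at hq2
        rcases swap_eq_swap_cases hq1.symm hq2 with ⟨rfl, rfl⟩ | ⟨rfl, rfl⟩
        · simp
        · simp
      calc _ ≤ ({⟨x, y⟩, ⟨y, x⟩} : Finset (Σ _ : Ω, Ω)).card := Finset.card_le_card hsub
        _ ≤ 2 := Finset.card_le_two
    have h3 := Finset.card_le_mul_card_image (f := f) P 2 hfib
    have h4 := Finset.card_le_card himg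
    have : P.card ≤ 2 * SN.card := h3.trans (Nat.mul_le_mul_left 2 h4)
    omega
  obtain ⟨x, hx⟩ := hdeg
  rw [Finset.card_le_one_iff_subset_singleton] at hx
  obtain ⟨y₀, hy₀⟩ := hx
  refine ⟨y₀, stabilizer_le_of_swaps H y₀ ?_⟩
  have hxv : ∀ v, v ≠ y₀ → v ≠ x → swap x v ∈ H := by
    intro v hv hvx
    by_contra hcon
    have : v ∈ D x := by
      rw [Finset.mem_filter]; exact ⟨Finset.mem_univ _, hvx, hcon⟩
    have := hy₀ this
    rw [Finset.mem_singleton] at this
    exact hv this
  intro u v hu hv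
  by_cases huv : u = v
  · rw [huv, swap_self]; exact H.one_mem
  by_cases hux : u = x
  · rw [hux]; exact hxv v hv (by rintro rfl; exact huv hux)
  by_cases hvx : v = x
  · rw [hvx, swap_comm]; exact hxv u hu hux
  · -- swap u v = swap x u * swap x v * swap x u ... use swap_mul_swap_mul_swap
    have h1 := hxv u hu hux
    have h2 := hxv v hv hvx
    have h3 := swap_mul_swap_mul_swap (x := v) (y := x) (z := u) hvx (Ne.symm huv)
    rw [← h3]
    exact H.mul_mem (H.mul_mem h1 (by rw [swap_comm]; exact h2)) h1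


theorem card_swaps_moving {β : Type*} [Fintype β] [DecidableEq β] (pt : β) :
    Nat.card {t : Perm β // t.IsSwap ∧ t pt ≠ pt} = Fintype.card β - 1 := by
  have e : {c : β // c ≠ pt} ≃ {t : Perm β // t.IsSwap ∧ t pt ≠ pt} :=
    { toFun := fun c => ⟨swap pt c.1, ⟨pt, c.1, c.2.symm, rfl⟩, by rw [swap_apply_left]; exact c.2⟩
      invFun := fun t => ⟨t.1 pt, t.2.2⟩
      left_inv := by
        intro c
        apply Subtype.ext
        simp
      right_inv := by
        rintro ⟨t, ⟨a, b, hab, rfl⟩, ht⟩
        apply Subtype.ext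
        simp only
        rw [swap_apply_ne_self_iff] at ht
        rcases ht.2 with rfl | rfl
        · rw [swap_apply_left]
        · rw [swap_apply_right, swap_comm] }
  rw [← Nat.card_congr e, Nat.card_eq_fintype_card, Fintype.card_subtype_compl, Fintype.card_subtype_eq]

theorem eq_stabilizer_of_le {Ω : Type*} [Fintype Ω] [DecidableEq Ω] (H : Subgroup (Perm Ω))
    (hH : H.index = Fintype.card Ω) (x : Ω) (hle : H ≤ MulAction.stabilizer (Perm Ω) x) :
    H = MulAction.stabilizer (Perm Ω) x := by
  have hne : Nonempty Ω := ⟨x⟩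
  have hidx : (MulAction.stabilizer (Perm Ω) x).index = Fintype.card Ω := by
    rw [MulAction.index_stabilizer_of_transitive, Nat.card_eq_fintype_card]
  by_contra hcon
  have hlt : H < MulAction.stabilizer (Perm Ω) x := lt_of_le_of_ne hle hcon
  have := Subgroup.index_strictAnti hlt
  omega

theorem eq_stabilizer_of_ge {Ω : Type*} [Fintype Ω] [DecidableEq Ω] (H : Subgroup (Perm Ω))
    (hH : H.index = Fintype.card Ω) (x : Ω) (hle : MulAction.stabilizer (Perm Ω) x ≤ H) :
    H = MulAction.stabilizer (Perm Ω) x := by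
  have hne : Nonempty Ω := ⟨x⟩
  have hidx : (MulAction.stabilizer (Perm Ω) x).index = Fintype.card Ω := by
    rw [MulAction.index_stabilizer_of_transitive, Nat.card_eq_fintype_card]
  by_contra hcon
  have hlt : MulAction.stabilizer (Perm Ω) x < H := lt_of_le_of_ne hle (Ne.symm hcon)
  have := Subgroup.index_strictAnti hlt
  omega

theorem main_ge5 {Ω : Type*} [Fintype Ω] [DecidableEq Ω] (h5 : 5 ≤ Fintype.card Ω)
    (h6 : Fintype.card Ω ≠ 6)
    (H : Subgroup (Perm Ω)) (hH : H.index = Fintype.card Ω) :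
    ∃ x : Ω, H = MulAction.stabilizer (Perm Ω) x := by
  classical
  have hnt : Nontrivial Ω := Fintype.one_lt_card_iff_nontrivial.mp (by omega)
  have hcore : H.normalCore = ⊥ := by
    by_contra hne
    have hnt' : Nontrivial H.normalCore := (Subgroup.nontrivial_iff_ne_bot _).mpr hne
    have hA := Equiv.Perm.alternatingGroup_le_of_normal (by rwa [Nat.card_eq_fintype_card]) hnt'
    have hle : alternatingGroup Ω ≤ H := hA.trans H.normalCore_le
    have hdvd := Subgroup.index_dvd_of_le hle
    rw [alternatingGroup.index_eq_two, hH] at hdvd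
    have := Nat.le_of_dvd two_pos hdvd
    omega
  let X := Perm Ω ⧸ H
  have : Fintype X := Fintype.ofFinite X
  have hX : Fintype.card X = Fintype.card Ω := by
    rw [← Nat.card_eq_fintype_card]; exact hH
  let f₀ : Perm Ω →* Perm X := MulAction.toPermHom (Perm Ω) X
  have hinj : Function.Injective f₀ := by
    rw [← MonoidHom.ker_eq_bot_iff, ← Subgroup.normalCore_eq_ker, hcore]
  have hbij : Function.Bijective f₀ := by
    rw [Fintype.bijective_iff_injective_and_card]
    exact ⟨hinj, by rw [Fintype.card_perm, Fintype.card_perm, hX]⟩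
  let ff : Perm Ω ≃* Perm X := MulEquiv.ofBijective f₀ hbij
  let pt : X := ((1 : Perm Ω) : X)
  have hmem : ∀ g, g ∈ H ↔ ff g pt = pt := by
    intro g
    change g ∈ H ↔ g • ((1 : Perm Ω) : X) = ((1 : Perm Ω) : X)
    rw [MulAction.Quotient.smul_mk, eq_comm, QuotientGroup.eq]
    simp
  have hsw : ∀ s : Perm Ω, s.IsSwap ↔ (ff s).IsSwap := by
    intro s
    constructor
    · exact isSwap_of_mulEquiv hX.symm h6 ff s
    · intro h
      have := isSwap_of_mulEquiv hX (by rw [hX]; exact h6) ff.symm (ff s) h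
      simpa using this
  have hcount : Nat.card {s : Perm Ω // s.IsSwap ∧ s ∉ H} = Fintype.card Ω - 1 := by
    rw [← hX, ← card_swaps_moving pt]
    apply Nat.card_congr
    exact ff.toEquiv.subtypeEquiv (fun s => by rw [hsw, hmem]; rfl)
  obtain ⟨y₀, hy₀⟩ := exists_stabilizer_le H (by rw [hcount]; omega)
  exact ⟨y₀, eq_stabilizer_of_ge H hH y₀ hy₀⟩

/-- `H` has an element of prime order with a unique fixed point, generating a normal subgroup of
`H`: then `H` fixes that point. -/
theorem le_stabilizer_of_unique_fixed {Ω : Type*} [Fintype Ω] [DecidableEq Ω] (H : Subgroup (Perm Ω))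
    (g : Perm Ω) (c : Ω) (hc : g c = c) (hfix : ∀ y, g y = y → y = c)
    (hnorm : ∀ h ∈ H, h * g * h⁻¹ ∈ Subgroup.zpowers g) :
    H ≤ MulAction.stabilizer (Perm Ω) c := by
  intro h hh
  rw [MulAction.mem_stabilizer_iff, Perm.smul_def]
  apply hfix
  set k := h * g * h⁻¹ with hk
  have hkz : k ∈ Subgroup.zpowers g := hnorm h hh
  have hok : orderOf k = orderOf g := by
    rw [hk]
    have : h * g * h⁻¹ = MulAut.conj h g := rfl
    rw [this, MulEquiv.orderOf_eq]
  have hle : Subgroup.zpowers k ≤ Subgroup.zpowers g := by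
    rw [Subgroup.zpowers_le]; exact hkz
  have heq : Subgroup.zpowers k = Subgroup.zpowers g := by
    apply Subgroup.eq_of_le_of_card_ge hle
    rw [Nat.card_zpowers, Nat.card_zpowers, hok]
  have hgk : g ∈ Subgroup.zpowers k := by rw [heq]; exact Subgroup.mem_zpowers g
  obtain ⟨i, hi⟩ := Subgroup.mem_zpowers_iff.mp hgk
  have hkfix : k (h c) = h c := by
    rw [hk]
    simp only [Perm.mul_apply]
    rw [show h⁻¹ (h c) = c from (Equiv.symm_apply_apply h c), hc]
  rw [← hi]
  exact Perm.zpow_apply_eq_self_of_apply_eq_self hkfix i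

theorem small_case {Ω : Type*} [Fintype Ω] [DecidableEq Ω] (p : ℕ) (hp : p.Prime)
    (hcard : Fintype.card Ω = p + 1) (H : Subgroup (Perm Ω))
    (hH : Nat.card H = p ∨ Nat.card H = 2 * p) :
    ∃ c : Ω, H ≤ MulAction.stabilizer (Perm Ω) c := by
  classical
  have : Fact p.Prime := ⟨hp⟩
  have hdvd : p ∣ Nat.card H := by
    rcases hH with h | h <;> rw [h]
    exact dvd_mul_left p 2
  obtain ⟨g', hg'⟩ := exists_prime_orderOf_dvd_card' p hdvd
  set g : Perm Ω := g'.1 with hg
  have hog : orderOf g = p := by rw [hg, Subgroup.orderOf_coe, hg']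
  obtain ⟨k, hk⟩ := Perm.cycleType_prime_order (σ := g) (by rw [hog]; exact hp)
  rw [hog] at hk
  have hle := Perm.sum_cycleType_le g
  rw [hk, Multiset.sum_replicate, smul_eq_mul, hcard] at hle
  have hk0 : k = 0 := by
    by_contra hk0
    have : 2 * p ≤ (k + 1) * p := Nat.mul_le_mul_right p (by omega)
    have := hp.two_le
    omega
  subst hk0
  have hsupp : g.support.card = p := by
    rw [← Perm.sum_cycleType, hk]; simp
  have hfixcard : (g.supportᶜ).card = 1 := by
    rw [Finset.card_compl, hsupp, hcard]; omega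
  obtain ⟨c, hc⟩ := Finset.card_eq_one.mp hfixcard
  have hcfix : g c = c := by
    have : c ∈ g.supportᶜ := by rw [hc]; exact Finset.mem_singleton_self c
    rwa [Finset.mem_compl, Perm.notMem_support] at this
  have hfix : ∀ y, g y = y → y = c := by
    intro y hy
    have : y ∈ g.supportᶜ := by rwa [Finset.mem_compl, Perm.notMem_support]
    rwa [hc, Finset.mem_singleton] at this
  refine ⟨c, le_stabilizer_of_unique_fixed H g c hcfix hfix ?_⟩
  -- normality of zpowers g' in H
  have hZcard : Nat.card (Subgroup.zpowers g') = p := by rw [Nat.card_zpowers, hg']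
  have hnormal : (Subgroup.zpowers g').Normal := by
    rcases hH with h | h
    · have : Subgroup.zpowers g' = ⊤ := by
        apply Subgroup.eq_top_of_card_eq
        rw [hZcard, h]
      rw [this]; infer_instance
    · apply Subgroup.normal_of_index_eq_two
      have := (Subgroup.zpowers g').card_mul_index
      rw [hZcard, h] at this
      have hp0 : 0 < p := hp.pos
      nlinarith
  intro h hh
  have := hnormal.conj_mem g' (Subgroup.mem_zpowers g') ⟨h, hh⟩
  obtain ⟨i, hi⟩ := Subgroup.mem_zpowers_iff.mp this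
  rw [Subgroup.mem_zpowers_iff]
  refine ⟨i, ?_⟩
  have := congrArg Subtype.val hi
  simpa using this

/-- Let Ω be a finite set whose size n is not 6. Then every subgroup of the symmetric group on Ω of index n is the stabilizer of a point. -/
theorem result {Ω : Type*} [Fintype Ω] [DecidableEq Ω] (h6 : Fintype.card Ω ≠ 6)
    (H : Subgroup (Equiv.Perm Ω)) (hH : H.index = Fintype.card Ω) :
    ∃ x : Ω, H = MulAction.stabilizer (Equiv.Perm Ω) x := by
  classical
  have hcm := H.card_mul_index
  rw [hH, Nat.card_eq_fintype_card (α := Perm Ω), Fintype.card_perm] at hcm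
  rcases Nat.lt_or_ge (Fintype.card Ω) 5 with hlt | hge
  · have h0 : Fintype.card Ω ≠ 0 := by
      rw [← hH]; exact Subgroup.index_ne_zero_of_finite
    have hne : Nonempty Ω := Fintype.card_pos_iff.mp (by omega)
    obtain ⟨x₀⟩ := hne
    have hcases : Fintype.card Ω = 1 ∨ Fintype.card Ω = 2 ∨ Fintype.card Ω = 3 ∨ Fintype.card Ω = 4 := by
      omega
    rcases hcases with h | h | h | h
    · rw [h] at hcm
      have h1 : Nat.card H = 1 := by simpa using hcm
      have hbot : H = ⊥ := Subgroup.card_eq_one.mp h1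
      exact ⟨x₀, eq_stabilizer_of_le H hH x₀ (by rw [hbot]; exact bot_le)⟩
    · rw [h] at hcm
      have h1 : Nat.card H = 1 := by
        have : Nat.card H * 2 = 1 * 2 := by simpa using hcm
        exact Nat.eq_of_mul_eq_mul_right two_pos this
      have hbot : H = ⊥ := Subgroup.card_eq_one.mp h1
      exact ⟨x₀, eq_stabilizer_of_le H hH x₀ (by rw [hbot]; exact bot_le)⟩
    · rw [h] at hcm
      have h1 : Nat.card H = 2 := by
        have : Nat.card H * 3 = 2 * 3 := by simpa [Nat.factorial] using hcm
        exact Nat.eq_of_mul_eq_mul_right (by norm_num) this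
      obtain ⟨c, hc⟩ := small_case 2 Nat.prime_two h H (Or.inl h1)
      exact ⟨c, eq_stabilizer_of_le H hH c hc⟩
    · rw [h] at hcm
      have h1 : Nat.card H = 2 * 3 := by
        have : Nat.card H * 4 = 6 * 4 := by simpa [Nat.factorial] using hcm
        exact Nat.eq_of_mul_eq_mul_right (by norm_num) this
      obtain ⟨c, hc⟩ := small_case 3 Nat.prime_three h H (Or.inr h1)
      exact ⟨c, eq_stabilizer_of_le H hH c hc⟩
  · exact main_ge5 hge h6 H hH

end Cfsg.Agent.S5911
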