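import Cfsg.Statements.S5912
import Cfsg.Agent.Lib.H29.Sym6

set_option autoImplicit false
open Cfsg

namespace Cfsg.Agent.S5912

open Equiv Cfsg.Agent.Lib.H29

theorem result {Ω : Type*} [Fintype Ω] [DecidableEq Ω] (h6 : Fintype.card Ω = 6) :
    ∃ H₁ H₂ : Subgroup (Equiv.Perm Ω), H₁.index = 6 ∧ H₂.index = 6 ∧
      (¬ ∃ g : Equiv.Perm Ω, Subgroup.map (MulAut.conj g).toMonoidHom H₁ = H₂) ∧
      ∀ H : Subgroup (Equiv.Perm Ω), H.index = 6 →
        ∃ g : Equiv.Perm Ω, Subgroup.map (MulAut.conj g).toMonoidHom H₁ = H ∨ Subgroup.map (MulAut.conj g).toMonoidHom H₂ = H := by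
  have hnt : Nontrivial Ω := Fintype.one_lt_card_iff_nontrivial.mp (by omega)
  obtain ⟨x₀⟩ : Nonempty Ω := inferInstance
  obtain ⟨H₂, hH₂, htr, -⟩ := exists_transitive_index_six h6
  have hH₂ns : ¬ ∃ x : Ω, H₂ = MulAction.stabilizer (Perm Ω) x := by
    rintro ⟨x, hx⟩
    obtain ⟨y, hy⟩ := exists_ne x
    obtain ⟨h, hh, hxy⟩ := htr x y
    rw [hx, MulAction.mem_stabilizer_iff, Perm.smul_def] at hh
    exact hy (hxy.symm.trans hh)
  have hconj : ∀ g : Perm Ω, Subgroup.map (MulAut.conj g).toMonoidHom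
      (MulAction.stabilizer (Perm Ω) x₀) = MulAction.stabilizer (Perm Ω) (g x₀) := by
    intro g
    exact (MulAction.stabilizer_smul_eq_stabilizer_map_conj g x₀).symm
  refine ⟨MulAction.stabilizer (Perm Ω) x₀, H₂, ?_, hH₂, ?_, ?_⟩
  · rw [MulAction.index_stabilizer_of_transitive, Nat.card_eq_fintype_card, h6]
  · rintro ⟨g, hg⟩
    rw [hconj] at hg
    exact hH₂ns ⟨g x₀, hg.symm⟩
  · intro H hH
    by_cases hps : ∃ x : Ω, H = MulAction.stabilizer (Perm Ω) x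
    · obtain ⟨x, rfl⟩ := hps
      refine ⟨swap x₀ x, Or.inl ?_⟩
      rw [hconj, swap_apply_left]
    · obtain ⟨g, hg⟩ := conj_of_not_pointStab h6 H₂ H hH₂ hH hH₂ns hps
      exact ⟨g, Or.inr hg⟩

end Cfsg.Agent.S5912
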