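import Cfsg.Statements.S5913

set_option autoImplicit false
open Cfsg

namespace Cfsg.Agent.S5913

theorem center_eq_bot {S : Type*} [Group S] [IsSimpleGroup S] (hS : ¬ IsMulCommutative S) :
    Subgroup.center S = ⊥ := by
  rcases (inferInstance : (Subgroup.center S).Normal).eq_bot_or_eq_top with h | h
  · exact h
  · exfalso
    apply hS
    rw [isMulCommutative_iff]
    intro a b
    have ha : a ∈ Subgroup.center S := by rw [h]; trivial
    exact ((Subgroup.mem_center_iff.mp ha) b).symm

theorem mulSingle_mem {S : Type*} [Group S] [IsSimpleGroup S] (hS : ¬ IsMulCommutative S) (n : ℕ)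
    (N : Subgroup (Fin n → S)) [N.Normal] (i : Fin n) (y : Fin n → S) (hy : y ∈ N) (hyi : y i ≠ 1)
    (s : S) : Pi.mulSingle i s ∈ N := by
  -- the normal subgroup A of S of all s with mulSingle i s ∈ N
  let A : Subgroup S := N.comap (MonoidHom.mulSingle (fun _ : Fin n => S) i)
  have hA : A.Normal := inferInstance
  -- y i is not central
  have hc : y i ∉ Subgroup.center S := by
    rw [center_eq_bot hS, Subgroup.mem_bot]; exact hyi
  rw [Subgroup.mem_center_iff] at hc
  push Not at hc
  obtain ⟨t, ht⟩ := hc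
  have hcomm : y * Pi.mulSingle i t * y⁻¹ * (Pi.mulSingle i t)⁻¹ ∈ N := by
    have h1 : Pi.mulSingle i t * y⁻¹ * (Pi.mulSingle i t)⁻¹ ∈ N :=
      ‹N.Normal›.conj_mem _ (N.inv_mem hy) _
    have := N.mul_mem hy h1
    simpa [mul_assoc] using this
  have heq : y * Pi.mulSingle i t * y⁻¹ * (Pi.mulSingle i t)⁻¹ =
      Pi.mulSingle i (y i * t * (y i)⁻¹ * t⁻¹) := by
    ext j
    by_cases hj : j = i
    · subst hj; simp
    · simp [Pi.mulSingle_eq_of_ne hj]
  rw [heq] at hcomm
  have hne : y i * t * (y i)⁻¹ * t⁻¹ ≠ 1 := by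
    intro h
    apply ht
    have : y i * t = t * y i := by
      have := congrArg (fun z => z * t * y i) h
      simpa [mul_assoc] using this
    exact this.symm
  have hmem : y i * t * (y i)⁻¹ * t⁻¹ ∈ A := hcomm
  rcases hA.eq_bot_or_eq_top with h | h
  · rw [h, Subgroup.mem_bot] at hmem; exact absurd hmem hne
  · have : s ∈ A := by rw [h]; trivial
    exact this

/-- Normal subgroups of a power of a non-abelian simple group are subproducts. -/
theorem result {S : Type*} [Group S] [IsSimpleGroup S] (hS : ¬ IsMulCommutative S) (n : ℕ)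
    (N : Subgroup (Fin n → S)) [N.Normal] :
    ∃ T : Finset (Fin n), ∀ x : Fin n → S, x ∈ N ↔ ∀ i, i ∉ T → x i = 1 := by
  classical
  refine ⟨Finset.univ.filter (fun i => ∃ y ∈ N, y i ≠ 1), fun x => ⟨?_, ?_⟩⟩
  · intro hx i hi
    by_contra h
    exact hi (by simpa using ⟨x, hx, h⟩)
  · intro hx
    rw [← Finset.noncommProd_mulSingle x]
    apply Subgroup.noncommProd_mem
    intro i _
    by_cases hi : i ∈ Finset.univ.filter (fun i => ∃ y ∈ N, y i ≠ 1)
    · simp only [Finset.mem_filter, Finset.mem_univ, true_and] at hi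
      obtain ⟨y, hy, hyi⟩ := hi
      exact mulSingle_mem hS n N i y hy hyi (x i)
    · rw [hx i hi, Pi.mulSingle_one]
      exact N.one_mem

end Cfsg.Agent.S5913
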