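import Cfsg.Statements.S5914

set_option autoImplicit false
open Cfsg

namespace Cfsg.Agent.S5914

universe u

/-- `(ι → N) × N ≃* (Option ι → N)` -/
def optionPiMulEquiv (ι : Type*) (N : Type*) [Group N] : ((ι → N) × N) ≃* (Option ι → N) where
  toFun p := fun o => o.elim p.2 p.1
  invFun g := (fun i => g (some i), g none)
  left_inv p := rfl
  right_inv g := by
    funext o
    cases o <;> rfl
  map_mul' p q := by
    funext o
    cases o <;> rfl

/-- internal direct product of two disjoint normal subgroups -/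
theorem nonempty_sup_mulEquiv_prod {G : Type*} [Group G] (M K : Subgroup G) (hM : M.Normal)
    (hK : K.Normal) (hd : Disjoint M K) : Nonempty ((M ⊔ K : Subgroup G) ≃* M × K) := by
  have comm : ∀ (m : M) (k : K), Commute (M.subtype m) (K.subtype k) := fun m k =>
    Subgroup.commute_of_normal_of_disjoint M K hM hK hd m.1 k.1 m.2 k.2
  let F : M × K →* G := MonoidHom.noncommCoprod M.subtype K.subtype comm
  have hF : Function.Injective F := by
    rw [MonoidHom.noncommCoprod_injective]
    refine ⟨M.subtype_injective, K.subtype_injective, ?_⟩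
    rw [Subgroup.range_subtype, Subgroup.range_subtype]
    exact hd
  have hr : F.range = M ⊔ K := by
    rw [MonoidHom.noncommCoprod_range, Subgroup.range_subtype, Subgroup.range_subtype]
  exact ⟨((MonoidHom.ofInjective hF).trans (MulEquiv.subgroupCongr hr)).symm⟩

theorem exists_pi_of_charSimple {G : Type u} [Group G] [Finite G]
    (hcs : ∀ H : Subgroup G, H.Characteristic → H = ⊥ ∨ H = ⊤)
    (N : Subgroup G) (hNn : N.Normal) (hNb : N ≠ ⊥)
    (hNmin : ∀ K : Subgroup G, K.Normal → K ≠ ⊥ → K ≤ N → K = N) :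
    ∃ (ι : Type) (_ : Fintype ι), Nonempty (G ≃* (ι → N)) := by
  classical
  -- images of N under automorphisms
  let img : MulAut G → Subgroup G := fun α => N.map (α : G →* G)
  have himg_normal : ∀ α, (img α).Normal := fun α =>
    hNn.map (α : G →* G) α.surjective
  have himg_iso : ∀ α, Nonempty (img α ≃* N) := fun α => ⟨(α.subgroupMap N).symm⟩
  have himg_min : ∀ α, ∀ K : Subgroup G, K.Normal → K ≠ ⊥ → K ≤ img α → K = img α := by
    intro α K hKn hKb hKle
    have h1 : (K.map (α.symm : G →* G)).Normal := hKn.map _ α.symm.surjective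
    have h2 : K.map (α.symm : G →* G) ≠ ⊥ := by
      intro h
      rw [Subgroup.map_eq_bot_iff_of_injective _ α.symm.injective] at h
      exact hKb h
    have h3 : K.map (α.symm : G →* G) ≤ N := by
      rintro _ ⟨k, hk, rfl⟩
      obtain ⟨n, hn, rfl⟩ := hKle hk
      simpa using hn
    have h4 := hNmin _ h1 h2 h3
    apply le_antisymm hKle
    rintro _ ⟨n, hn, rfl⟩
    rw [← h4] at hn
    obtain ⟨k, hk, rfl⟩ := hn
    simpa using hk
  -- the family of normal subgroups that are powers of N
  let 𝒮 : Set (Subgroup G) :=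
    {M | M.Normal ∧ ∃ (ι : Type) (_ : Fintype ι), Nonempty (M ≃* (ι → N))}
  have hN𝒮 : N ∈ 𝒮 := ⟨hNn, Unit, inferInstance, ⟨(MulEquiv.funUnique Unit N).symm⟩⟩
  obtain ⟨M, hMmax⟩ := (Set.toFinite 𝒮).exists_maximal ⟨N, hN𝒮⟩
  obtain ⟨hMn, ι, hι, ⟨eM⟩⟩ := hMmax.prop
  have hall : ∀ α, img α ≤ M := by
    intro α
    by_contra hnle
    have hdisj : Disjoint M (img α) := by
      rw [disjoint_iff]
      by_contra hne
      have h1 : (M ⊓ img α).Normal := Subgroup.normal_inf_normal M (img α)
      have := himg_min α (M ⊓ img α) h1 hne inf_le_right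
      exact hnle (this ▸ inf_le_left)
    obtain ⟨e₁⟩ := nonempty_sup_mulEquiv_prod M (img α) hMn (himg_normal α) hdisj
    obtain ⟨e₂⟩ := himg_iso α
    have hmem : M ⊔ img α ∈ 𝒮 := by
      refine ⟨Subgroup.sup_normal M (img α), Option ι, inferInstance, ⟨?_⟩⟩
      exact (e₁.trans (MulEquiv.prodCongr eM e₂)).trans (optionPiMulEquiv ι N)
    have := hMmax.le_of_ge hmem le_sup_left
    exact hnle (le_sup_right.trans this)
  -- M = ⊤
  let C : Subgroup G := ⨆ α, img α
  have hCchar : C.Characteristic := by
    rw [Subgroup.characteristic_iff_map_le]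
    intro β
    rw [Subgroup.map_iSup]
    apply iSup_le
    intro α
    have : (img α).map (β : G →* G) = img (β * α) := by
      change (N.map (α : G →* G)).map (β : G →* G) = N.map ((β * α : MulAut G) : G →* G)
      rw [Subgroup.map_map]
      rfl
    have h2 : Subgroup.map β.toMonoidHom (img α) = img (β * α) := this
    rw [h2]
    exact le_iSup img (β * α)
  have hCb : C ≠ ⊥ := by
    intro h
    have : img 1 ≤ C := le_iSup img 1
    rw [h, le_bot_iff] at this
    have h1 : img 1 = N := by
      change N.map (MonoidHom.id G) = N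
      exact Subgroup.map_id N
    rw [h1] at this
    exact hNb this
  have hCtop : C = ⊤ := (hcs C hCchar).resolve_left hCb
  have hMtop : M = ⊤ := by
    rw [eq_top_iff, ← hCtop]
    exact iSup_le hall
  refine ⟨ι, hι, ⟨?_⟩⟩
  exact (Subgroup.topEquiv.symm.trans (MulEquiv.subgroupCongr hMtop.symm)).trans eM

/-- a bare copy of `Fin n` without algebraic instances -/
structure Carrier (n : ℕ) : Type where
  /-- the underlying element -/
  val : Fin n

/-- `Carrier n ≃ Fin n` -/
def Carrier.equiv (n : ℕ) : Carrier n ≃ Fin n where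
  toFun := Carrier.val
  invFun := Carrier.mk
  left_inv _ := rfl
  right_inv _ := rfl

/-- uncurrying as a `MulEquiv` -/
def uncurryMulEquiv (ι κ S : Type*) [Group S] : (ι → κ → S) ≃* (ι × κ → S) where
  toEquiv := (Equiv.curry ι κ S).symm
  map_mul' _ _ := rfl

/-- reindexing as a `MulEquiv` -/
def reindexMulEquiv {ι κ : Type*} (e : ι ≃ κ) (S : Type*) [Group S] : (ι → S) ≃* (κ → S) where
  toEquiv := Equiv.arrowCongr e (Equiv.refl S)
  map_mul' _ _ := rfl

theorem forward_aux (n : ℕ) : ∀ (G : Type u) [Group G] [Finite G] [Nontrivial G],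
    Nat.card G = n → (∀ H : Subgroup G, H.Characteristic → H = ⊥ ∨ H = ⊤) →
    ∃ (S : Type) (_ : Group S) (_ : IsSimpleGroup S) (m : ℕ), 1 ≤ m ∧ Nonempty (G ≃* (Fin m → S)) := by
  induction n using Nat.strong_induction_on with
  | _ n ih =>
    intro G _ _ _ hn hcs
    classical
    -- a minimal normal subgroup
    let 𝒩 : Set (Subgroup G) := {N | N.Normal ∧ N ≠ ⊥}
    have htop : (⊤ : Subgroup G) ∈ 𝒩 := ⟨inferInstance, top_ne_bot⟩
    obtain ⟨N, hNmin'⟩ := (Set.toFinite 𝒩).exists_minimal ⟨⊤, htop⟩
    obtain ⟨hNn, hNb⟩ := hNmin'.prop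
    have hNmin : ∀ K : Subgroup G, K.Normal → K ≠ ⊥ → K ≤ N → K = N := fun K hK hKb hKle =>
      le_antisymm hKle (hNmin'.le_of_le ⟨hK, hKb⟩ hKle)
    obtain ⟨ι, hι, ⟨eG⟩⟩ := exists_pi_of_charSimple hcs N hNn hNb hNmin
    by_cases hNtop : N = ⊤
    · -- G is simple
      have hsimple : IsSimpleGroup G := by
        refine ⟨fun K hK => ?_⟩
        by_cases hKb : K = ⊥
        · exact Or.inl hKb
        · right
          rw [← hNtop]
          exact hNmin K hK hKb (by rw [hNtop]; exact le_top)
      let e : Carrier (Nat.card G) ≃ G := (Carrier.equiv _).trans (Finite.equivFin G).symm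
      let _ : Group (Carrier (Nat.card G)) := Equiv.group e
      let e' : Carrier (Nat.card G) ≃* G := Equiv.mulEquiv e
      have : IsSimpleGroup (Carrier (Nat.card G)) := e'.isSimpleGroup
      refine ⟨Carrier (Nat.card G), inferInstance, this, 1, le_rfl, ⟨?_⟩⟩
      exact e'.symm.trans (MulEquiv.funUnique (Fin 1) (Carrier (Nat.card G))).symm
    · -- N is a smaller characteristically simple group
      have hNnt : Nontrivial N := (Subgroup.nontrivial_iff_ne_bot N).mpr hNb
      have hNcs : ∀ L : Subgroup N, L.Characteristic → L = ⊥ ∨ L = ⊤ := by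
        intro L hL
        by_cases hLb : L = ⊥
        · exact Or.inl hLb
        · right
          have h1 : (L.map N.subtype).Normal := ConjAct.normal_of_characteristic_of_normal
          have h2 : L.map N.subtype ≠ ⊥ := by
            intro h
            rw [Subgroup.map_eq_bot_iff_of_injective _ N.subtype_injective] at h
            exact hLb h
          have h3 : L.map N.subtype ≤ N := by
            rintro _ ⟨l, -, rfl⟩; exact l.2
          have h4 := hNmin _ h1 h2 h3
          rw [eq_top_iff]
          rintro ⟨x, hx⟩ -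
          rw [← h4] at hx
          obtain ⟨l, hl, hlx⟩ := hx
          have : l = ⟨x, hx⟩ := Subtype.ext hlx
          rwa [← this]
      have hlt : Nat.card N < n := by
        rw [← hn]
        by_contra hge
        push Not at hge
        exact hNtop (Subgroup.eq_top_of_le_card N hge)
      obtain ⟨S, hS, hSs, j, hj, ⟨eN⟩⟩ := ih (Nat.card N) hlt N rfl hNcs
      let e₁ : (ι → N) ≃* (ι → Fin j → S) := MulEquiv.piCongrRight (fun _ => eN)
      let e₂ : (ι → Fin j → S) ≃* (ι × Fin j → S) := uncurryMulEquiv ι (Fin j) S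
      let e₃ : (ι × Fin j → S) ≃* (Fin (Fintype.card (ι × Fin j)) → S) :=
        reindexMulEquiv (Fintype.equivFin (ι × Fin j)) S
      refine ⟨S, hS, hSs, Fintype.card (ι × Fin j), ?_, ⟨((eG.trans e₁).trans e₂).trans e₃⟩⟩
      by_contra hcon
      have h0 : Fintype.card (ι × Fin j) = 0 := by omega
      have : IsEmpty (ι × Fin j) := Fintype.card_eq_zero_iff.mp h0
      have hsub : Subsingleton G := (((eG.trans e₁).trans e₂).toEquiv).subsingleton
      exact not_subsingleton G hsub

theorem reindex_mulSingle {ι : Type*} [DecidableEq ι] (σ : Equiv.Perm ι) (S : Type*) [Group S]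
    (i : ι) (s : S) : reindexMulEquiv σ S (Pi.mulSingle i s) = Pi.mulSingle (σ i) s := by
  funext k
  change (Pi.mulSingle i s : ι → S) (σ.symm k) = (Pi.mulSingle (σ i) s : ι → S) k
  by_cases hk : k = σ i
  · subst hk
    rw [Equiv.symm_apply_apply, Pi.mulSingle_eq_same, Pi.mulSingle_eq_same]
  · rw [Pi.mulSingle_eq_of_ne hk, Pi.mulSingle_eq_of_ne]
    intro h
    apply hk
    rw [← h, Equiv.apply_symm_apply]

/-- transvection-like automorphism of a power of a commutative group -/
def transvMulEquiv {ι : Type*} [DecidableEq ι] (S : Type*) [CommGroup S] (i j : ι) (hij : i ≠ j) :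
    (ι → S) ≃* (ι → S) where
  toFun f := f * Pi.mulSingle j (f i)
  invFun f := f * Pi.mulSingle j (f i)⁻¹
  left_inv f := by
    have : (f * (Pi.mulSingle j (f i) : ι → S)) i = f i := by
      rw [Pi.mul_apply, Pi.mulSingle_eq_of_ne hij, mul_one]
    dsimp only
    rw [this, mul_assoc, ← Pi.mulSingle_mul, mul_inv_cancel, Pi.mulSingle_one, mul_one]
  right_inv f := by
    have : (f * (Pi.mulSingle j (f i)⁻¹ : ι → S)) i = f i := by
      rw [Pi.mul_apply, Pi.mulSingle_eq_of_ne hij, mul_one]
    dsimp only
    rw [this, mul_assoc, ← Pi.mulSingle_mul, inv_mul_cancel, Pi.mulSingle_one, mul_one]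
  map_mul' f g := by
    rw [Pi.mul_apply, Pi.mulSingle_mul]
    exact mul_mul_mul_comm _ _ _ _

theorem backward_pi {ι : Type*} [Fintype ι] [DecidableEq ι] {S : Type*} [Group S]
    [IsSimpleGroup S] (H : Subgroup (ι → S)) (hH : H.Characteristic) (hHb : H ≠ ⊥) : H = ⊤ := by
  have hHn : H.Normal := Subgroup.normal_of_characteristic H
  let T : ι → Subgroup S := fun i => H.comap (MonoidHom.mulSingle (fun _ => S) i)
  have hTmem : ∀ i s, s ∈ T i ↔ Pi.mulSingle i s ∈ H := fun i s => Iff.rfl
  have hTn : ∀ i, (T i).Normal := fun i => hHn.comap _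
  have hTeq : ∀ i j, T i ≤ T j := by
    intro i j s hs
    rw [hTmem] at hs ⊢
    have h1 := (Subgroup.characteristic_iff_map_le.mp hH) (reindexMulEquiv (Equiv.swap i j) S)
    have h2 : reindexMulEquiv (Equiv.swap i j) S (Pi.mulSingle i s) ∈ H := h1 ⟨_, hs, rfl⟩
    rwa [reindex_mulSingle, Equiv.swap_apply_left] at h2
  by_cases hTtop : ∃ i, T i = ⊤
  · obtain ⟨i₀, hi₀⟩ := hTtop
    rw [eq_top_iff]
    intro f _
    apply Subgroup.pi_mem_of_mulSingle_mem
    intro i
    rw [← hTmem]
    apply hTeq i₀ i
    rw [hi₀]; trivial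
  · exfalso
    push Not at hTtop
    have hTbot : ∀ i, T i = ⊥ := fun i => ((hTn i).eq_bot_or_eq_top).resolve_right (hTtop i)
    apply hHb
    rw [Subgroup.eq_bot_iff_forall]
    intro h hh
    by_contra hne
    obtain ⟨i, hi⟩ : ∃ i, h i ≠ 1 := by
      by_contra hcon
      push Not at hcon
      exact hne (funext hcon)
    by_cases hcomm : ∀ a b : S, a * b = b * a
    · -- commutative case
      by_cases hj : ∃ j, j ≠ i
      · obtain ⟨j, hj⟩ := hj
        let _ : CommGroup S := { ‹Group S› with mul_comm := hcomm }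
        have h1 := (Subgroup.characteristic_iff_map_le.mp hH) (transvMulEquiv S i j (Ne.symm hj))
        have h2 : transvMulEquiv S i j (Ne.symm hj) h ∈ H := h1 ⟨_, hh, rfl⟩
        have h3 : h * Pi.mulSingle j (h i) ∈ H := h2
        have h4 : Pi.mulSingle j (h i) ∈ H := by
          have := H.mul_mem (H.inv_mem hh) h3
          rwa [inv_mul_cancel_left] at this
        have h5 : h i ∈ T j := h4
        rw [hTbot, Subgroup.mem_bot] at h5
        exact hi h5
      · push Not at hj
        have h1 : h = Pi.mulSingle i (h i) := by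
          funext k
          rw [hj k, Pi.mulSingle_eq_same]
        have h5 : h i ∈ T i := by
          rw [hTmem, ← h1]; exact hh
        rw [hTbot, Subgroup.mem_bot] at h5
        exact hi h5
    · -- noncommutative case
      have hcen : Subgroup.center S = ⊥ := by
        rcases (Subgroup.center S).normal_of_characteristic.eq_bot_or_eq_top with h0 | h0
        · exact h0
        · exfalso
          apply hcomm
          intro a b
          have : b ∈ Subgroup.center S := by rw [h0]; trivial
          exact (Subgroup.mem_center_iff.mp this a).symm ▸ rfl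
      obtain ⟨s, hs⟩ : ∃ s, s * h i ≠ h i * s := by
        by_contra hcon
        push Not at hcon
        have : h i ∈ Subgroup.center S := Subgroup.mem_center_iff.mpr hcon
        rw [hcen, Subgroup.mem_bot] at this
        exact hi this
      have h1 : Pi.mulSingle i s * h * (Pi.mulSingle i s)⁻¹ * h⁻¹ ∈ H :=
        H.mul_mem (hHn.conj_mem h hh _) (H.inv_mem hh)
      have h2 : Pi.mulSingle i s * h * (Pi.mulSingle i s)⁻¹ * h⁻¹ =
          Pi.mulSingle i (s * h i * s⁻¹ * (h i)⁻¹) := by
        funext k
        by_cases hk : k = i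
        · subst hk
          simp
        · simp [Pi.mulSingle_eq_of_ne hk]
      rw [h2] at h1
      have h5 : s * h i * s⁻¹ * (h i)⁻¹ ∈ T i := h1
      rw [hTbot, Subgroup.mem_bot] at h5
      apply hs
      have := mul_inv_eq_one.mp h5
      rw [mul_inv_eq_iff_eq_mul] at this
      exact this

theorem backward {G : Type*} [Group G] {S : Type*} [Group S] [IsSimpleGroup S] {n : ℕ}
    (e : G ≃* (Fin n → S)) (H : Subgroup G) (hH : H.Characteristic) : H = ⊥ ∨ H = ⊤ := by
  by_cases hHb : H = ⊥
  · exact Or.inl hHb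
  right
  have hchar : (H.map (e : G →* (Fin n → S))).Characteristic := by
    rw [Subgroup.characteristic_iff_map_le]
    intro ψ
    rintro _ ⟨_, ⟨h, hh, rfl⟩, rfl⟩
    have h1 := (Subgroup.characteristic_iff_map_le.mp hH) ((e.trans ψ).trans e.symm)
    have h2 : ((e.trans ψ).trans e.symm) h ∈ H := h1 ⟨h, hh, rfl⟩
    refine ⟨_, h2, ?_⟩
    simp
  have hne : H.map (e : G →* (Fin n → S)) ≠ ⊥ := by
    intro h
    rw [Subgroup.map_eq_bot_iff_of_injective _ e.injective] at h
    exact hHb h
  have htop := backward_pi _ hchar hne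
  rw [eq_top_iff]
  intro g _
  have : e g ∈ H.map (e : G →* (Fin n → S)) := by rw [htop]; trivial
  obtain ⟨h, hh, hhg⟩ := this
  have : h = g := e.injective hhg
  rwa [← this]

theorem result {G : Type*} [Group G] [Finite G] [Nontrivial G] :
    (∀ H : Subgroup G, H.Characteristic → H = ⊥ ∨ H = ⊤) ↔
    ∃ (S : Type) (_ : Group S) (_ : IsSimpleGroup S) (n : ℕ), 1 ≤ n ∧ Nonempty (G ≃* (Fin n → S)) := by
  constructor
  · intro h
    exact forward_aux (Nat.card G) G rfl h
  · rintro ⟨S, hS, hSs, n, -, ⟨e⟩⟩ H hH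
    exact backward e H hH

end Cfsg.Agent.S5914
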