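import Cfsg.Statements.S5939
import Mathlib
import Cfsg.Agent.Lib.H5.PSL2A5
import Cfsg.Agent.Lib.H5.PSL2PrimeMax
import Cfsg.Agent.Lib.H5.PSL2A5SqMax

set_option autoImplicit false
open Cfsg

namespace Cfsg.Agent.S5939

/-- Let p be a prime and F a finite field of characteristic p such that either F has p elements and p ≡ ±1 (mod 10), or F has p² elements and p ≡ ±3 (mod 10). Then PSL_2(F) has a maximal subgroup isomorphic to the alternating group A_5. -/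
theorem result {F : Type*} [Field F] [Fintype F] (p : ℕ) [Fact p.Prime] [CharP F p] (h : (Fintype.card F = p ∧ (p % 10 = 1 ∨ p % 10 = 9)) ∨ (Fintype.card F = p ^ 2 ∧ (p % 10 = 3 ∨ p % 10 = 7))) : ∃ H : Subgroup (Matrix.ProjectiveSpecialLinearGroup (Fin 2) F), IsCoatom H ∧ Nonempty (H ≃* alternatingGroup (Fin 5)) := by
  have hpp : p.Prime := Fact.out
  rcases h with ⟨hF, hp⟩ | ⟨hF, hp⟩
  · have h5 : 5 ∣ Fintype.card F * (Fintype.card F ^ 2 - 1) := by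
      rw [hF]
      apply Dvd.dvd.mul_left
      have h1 : 1 ≤ p ^ 2 := Nat.one_le_pow _ _ hpp.pos
      have h2 : p ^ 2 % 5 = 1 := by
        rw [Nat.pow_mod]
        have h3 : p % 5 = 1 ∨ p % 5 = 4 := by omega
        rcases h3 with h3 | h3 <;> rw [h3]
      omega
    obtain ⟨H, ⟨e⟩⟩ := Cfsg.Agent.Lib.H5.PSL2A5.exists_A5 (F := F) h5
    exact ⟨H, Cfsg.Agent.Lib.H5.PSL2PrimeMax.isCoatom_A5 p hF hp H e, ⟨e⟩⟩
  · have h5 : 5 ∣ Fintype.card F * (Fintype.card F ^ 2 - 1) := by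
      rw [hF]
      apply Dvd.dvd.mul_left
      have h1 : 1 ≤ (p ^ 2) ^ 2 := Nat.one_le_pow _ _ (Nat.one_le_pow _ _ hpp.pos)
      have h2 : (p ^ 2) ^ 2 % 5 = 1 := by
        rw [Nat.pow_mod, Nat.pow_mod p]
        have h3 : p % 5 = 2 ∨ p % 5 = 3 := by omega
        rcases h3 with h3 | h3 <;> rw [h3]
      omega
    obtain ⟨H, ⟨e⟩⟩ := Cfsg.Agent.Lib.H5.PSL2A5.exists_A5 (F := F) h5
    exact ⟨H, Cfsg.Agent.Lib.H5.PSL2A5SqMax.isCoatom_A5_sq p hF hp H e, ⟨e⟩⟩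

end Cfsg.Agent.S5939
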