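import Cfsg.Statements.S5941
import Mathlib
import Cfsg.Agent.S0805
import Cfsg.Agent.Lib.H5.PSL2SubfieldPGLMax

set_option autoImplicit false
open Cfsg

namespace Cfsg.Agent.S5941

/-- Let K and F be finite fields of odd characteristic with #F = (#K)². Then PSL_2(F) has a maximal subgroup isomorphic to PGL_2(K). -/
theorem result {F K : Type*} [Field F] [Fintype F] [Field K] [Fintype K] (q : ℕ) (hK : Fintype.card K = q) (hF : Fintype.card F = q ^ 2) (hq : Odd q) : ∃ H : Subgroup (Matrix.ProjectiveSpecialLinearGroup (Fin 2) F), IsCoatom H ∧ Nonempty (H ≃* Matrix.ProjGenLinGroup (Fin 2) K) := by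
  have hK' : Fintype.card K ^ 2 = Fintype.card F := by rw [hK, hF]
  have hodd : Odd (Fintype.card F) := by rw [hF]; exact hq.pow
  obtain ⟨ι⟩ := Cfsg.Agent.Lib.H5.PSL2Subfield.exists_ringHom (F := F) (K := K) 2 hK'
  have hsq := Cfsg.Agent.S0805.exists_sqrt ι hodd 2 (by decide) hK'
  exact ⟨Cfsg.Agent.Lib.H5.PSL2SubfieldMax.pglSub ι,
    Cfsg.Agent.Lib.H5.PSL2SubfieldMax.isCoatom_pglSub ι q hK hF hq hsq,
    Cfsg.Agent.Lib.H5.PSL2SubfieldMax.pglSub_equiv ι hsq⟩

end Cfsg.Agent.S5941
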