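import Cfsg.Statements.S5944

set_option autoImplicit false
open Cfsg

namespace Cfsg.Agent.S5944

open scoped Nat

/-- For n ≠ 4, every proper subgroup of S_n other than A_n has index at least n. -/
theorem result (n : ℕ) (hn : n ≠ 4) (H : Subgroup (Equiv.Perm (Fin n))) (hH : H ≠ ⊤) (hA : H ≠ alternatingGroup (Fin n)) : n ≤ H.index := by
  by_contra hlt
  push Not at hlt
  have hidx0 : H.index ≠ 0 := Subgroup.index_ne_zero_of_finite
  -- the case of index at most two
  have hsmall : ¬ H.index ≤ 2 := by
    intro h2
    rcases Nat.lt_or_ge H.index 2 with h | h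
    · have : H.index = 1 := by omega
      exact hH (Subgroup.index_eq_one.mp this)
    · exact hA (Equiv.Perm.eq_alternatingGroup_of_index_eq_two (le_antisymm h2 h))
  push Not at hsmall
  have hn5 : 5 ≤ n := by omega
  have hcore : H.normalCore.index ∣ H.index ! := by
    rw [Subgroup.normalCore_eq_ker, Subgroup.index_ker, Subgroup.index_eq_card, ← Nat.card_perm]
    exact Subgroup.card_subgroup_dvd_card (MulAction.toPermHom _ (_ ⧸ H)).range
  by_cases hN : H.normalCore = ⊥
  · rw [hN, Subgroup.index_bot, Nat.card_perm, Nat.card_eq_fintype_card, Fintype.card_fin] at hcore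
    have h1 : n ! ≤ H.index ! := Nat.le_of_dvd (Nat.factorial_pos _) hcore
    have h2 : H.index ! < n ! := (Nat.factorial_lt (Nat.pos_of_ne_zero hidx0)).mpr hlt
    omega
  · have hnt : Nontrivial H.normalCore := (Subgroup.nontrivial_iff_ne_bot _).mpr hN
    have hle : alternatingGroup (Fin n) ≤ H.normalCore :=
      Equiv.Perm.alternatingGroup_le_of_normal (by simpa using hn5) hnt
    have hle' : alternatingGroup (Fin n) ≤ H := hle.trans H.normalCore_le
    have : Nontrivial (Fin n) := Fin.nontrivial_iff_two_le.mpr (by omega)
    have hdvd : H.index ∣ 2 := by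
      rw [← alternatingGroup.index_eq_two (α := Fin n)]
      exact Subgroup.index_dvd_of_le hle'
    have := Nat.le_of_dvd (by norm_num) hdvd
    omega

end Cfsg.Agent.S5944
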