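import Cfsg.Statements.S5945
import Cfsg.Agent.Lib.H29.Sym6b

set_option autoImplicit false
open Cfsg

namespace Cfsg.Agent.S5945

open Equiv Cfsg.Agent.Lib.H29

universe u

/-- the set of point stabilizers -/
def PS (Y : Type u) [Fintype Y] [DecidableEq Y] : Set (Subgroup (Perm Y)) :=
  Set.range (fun y : Y => MulAction.stabilizer (Perm Y) y)

/-- the set of exotic subgroups of index 6 -/
def EX (Y : Type u) [Fintype Y] [DecidableEq Y] : Set (Subgroup (Perm Y)) :=
  {L | L.index = 6 ∧ L ∉ PS Y}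

theorem stabilizer_injective {Y : Type u} [Fintype Y] [DecidableEq Y] (hY : 3 ≤ Fintype.card Y) :
    Function.Injective (fun y : Y => MulAction.stabilizer (Perm Y) y) := by
  intro x y hxy
  by_contra hne
  obtain ⟨z, hzx, hzy⟩ : ∃ z, z ≠ x ∧ z ≠ y := by
    by_contra hcon
    push Not at hcon
    have : (Finset.univ : Finset Y) ⊆ {x, y} := by
      intro z _
      by_cases hzx : z = x
      · simp [hzx]
      · simp [hcon z hzx]
    have := Finset.card_le_card this
    rw [Finset.card_univ] at this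
    have := (Finset.card_le_two (a := x) (b := y))
    omega
  have h1 : swap y z ∈ MulAction.stabilizer (Perm Y) x := by
    rw [MulAction.mem_stabilizer_iff, Perm.smul_def]
    exact swap_apply_of_ne_of_ne hne hzx.symm
  have h2 : swap y z ∈ MulAction.stabilizer (Perm Y) y := by
    have : MulAction.stabilizer (Perm Y) x = MulAction.stabilizer (Perm Y) y := hxy
    rw [← this]; exact h1
  rw [MulAction.mem_stabilizer_iff, Perm.smul_def, swap_apply_left] at h2
  exact hzy h2

theorem ncard_PS {Y : Type u} [Fintype Y] [DecidableEq Y] (hY : Fintype.card Y = 6) :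
    (PS Y).ncard = 6 := by
  rw [PS, Set.ncard_range_of_injective (stabilizer_injective (by omega)), Nat.card_eq_fintype_card,
    hY]

theorem index_of_mem_PS {Y : Type u} [Fintype Y] [DecidableEq Y] (hY : Fintype.card Y = 6)
    {L : Subgroup (Perm Y)} (hL : L ∈ PS Y) : L.index = 6 := by
  obtain ⟨y, rfl⟩ := hL
  have : Nonempty Y := ⟨y⟩
  change (MulAction.stabilizer (Perm Y) y).index = 6
  rw [MulAction.index_stabilizer_of_transitive, Nat.card_eq_fintype_card, hY]

theorem ncard_EX_le {Ω : Type u} {X : Type u} [Fintype Ω] [DecidableEq Ω] [Fintype X]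
    [DecidableEq X] (h6 : Fintype.card Ω = 6) (hX : Fintype.card X = 6) (f : Perm Ω ≃* Perm X)
    (hex : IsExotic f) : (EX Ω).ncard ≤ (PS X).ncard := by
  have hinj : Function.Injective (Subgroup.map (f : Perm Ω →* Perm X)) :=
    Subgroup.map_injective f.injective
  rw [← Set.ncard_image_of_injective (EX Ω) hinj]
  apply Set.ncard_le_ncard _ (Set.toFinite _)
  rintro _ ⟨L, ⟨hL, hLn⟩, rfl⟩
  obtain ⟨c, hc⟩ := map_exotic_eq_stabilizer h6 hX f hex L hL (by
    rintro ⟨x, hx⟩
    exact hLn ⟨x, hx.symm⟩)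
  exact ⟨c, hc.symm⟩

theorem ncard_PS_le {Ω : Type u} {X : Type u} [Fintype Ω] [DecidableEq Ω] [Fintype X]
    [DecidableEq X] (h6 : Fintype.card Ω = 6) (hX : Fintype.card X = 6) (f : Perm Ω ≃* Perm X)
    (hex : IsExotic f) : (PS Ω).ncard ≤ (EX X).ncard := by
  have hinj : Function.Injective (Subgroup.map (f : Perm Ω →* Perm X)) :=
    Subgroup.map_injective f.injective
  rw [← Set.ncard_image_of_injective (PS Ω) hinj]
  apply Set.ncard_le_ncard _ (Set.toFinite _)
  rintro _ ⟨L, ⟨x, rfl⟩, rfl⟩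
  refine ⟨?_, ?_⟩
  · have : (Subgroup.map (f : Perm Ω →* Perm X) (MulAction.stabilizer (Perm Ω) x)).index =
        (MulAction.stabilizer (Perm Ω) x).index := Subgroup.index_map_equiv _ f
    rw [this]
    exact index_of_mem_PS h6 ⟨x, rfl⟩
  · rintro ⟨c, hc⟩
    exact map_exotic_stabilizer_ne h6 hX f hex x c hc.symm

theorem result : Nat.card {H : Subgroup (Equiv.Perm (Fin 6)) // H.index = 6} = 12 ∧ (∀ H : Subgroup (Equiv.Perm (Fin 6)), H.index = 6 → Nonempty (H ≃* Equiv.Perm (Fin 5))) ∧ ∃ H : Subgroup (Equiv.Perm (Fin 6)), H.index = 6 ∧ ∀ a : Fin 6, H ≠ MulAction.stabilizer (Equiv.Perm (Fin 6)) a := by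
  have h6 : Fintype.card (Fin 6) = 6 := Fintype.card_fin 6
  obtain ⟨H₂, hH₂, htr, -⟩ := exists_transitive_index_six h6
  have hH₂ns : ¬ ∃ x : Fin 6, H₂ = MulAction.stabilizer (Perm (Fin 6)) x := by
    rintro ⟨x, hx⟩
    obtain ⟨y, hy⟩ := exists_ne x
    obtain ⟨h, hh, hxy⟩ := htr x y
    rw [hx, MulAction.mem_stabilizer_iff, Perm.smul_def] at hh
    exact hy (hxy.symm.trans hh)
  refine ⟨?_, fun H hH => nonempty_mulEquiv_of_index_six h6 H hH, H₂, hH₂, fun a ha => hH₂ns ⟨a, ha⟩⟩
  obtain ⟨X, hXf, hXd, f, pt, hX, -, -, hex⟩ := (pointStab_or_exotic h6 H₂ hH₂).resolve_left hH₂ns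
  have hex' : IsExotic f.symm := exotic_symm h6 hX f hex
  have hE : (EX (Fin 6)).ncard = 6 := by
    apply le_antisymm
    · exact (ncard_EX_le h6 hX f hex).trans_eq (ncard_PS hX)
    · exact (ncard_PS hX).symm.le.trans (ncard_PS_le hX h6 f.symm hex')
  have hunion : {L : Subgroup (Perm (Fin 6)) | L.index = 6} = PS (Fin 6) ∪ EX (Fin 6) := by
    ext L
    constructor
    · intro hL
      by_cases h : L ∈ PS (Fin 6)
      · exact Or.inl h
      · exact Or.inr ⟨hL, h⟩
    · rintro (h | h)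
      · exact index_of_mem_PS h6 h
      · exact h.1
  have hdisj : Disjoint (PS (Fin 6)) (EX (Fin 6)) := by
    rw [Set.disjoint_left]
    intro L h1 h2
    exact h2.2 h1
  have : Nat.card {H : Subgroup (Perm (Fin 6)) // H.index = 6} =
      ({L : Subgroup (Perm (Fin 6)) | L.index = 6}).ncard := rfl
  rw [this, hunion, Set.ncard_union_eq hdisj (Set.toFinite _) (Set.toFinite _), ncard_PS h6, hE]

end Cfsg.Agent.S5945
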