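import Cfsg.Statements.S5952

set_option autoImplicit false
set_option linter.unusedSectionVars false
open Cfsg

namespace Cfsg.Agent.S5952

open Module

section
variable {F V : Type*} [Field F] [AddCommGroup V] [Module F V] [FiniteDimensional F V]

theorem exists_le_finrank_eq (E : Submodule F V) (k : ℕ) (hk : k ≤ finrank F E) :
    ∃ W₀ : Submodule F V, W₀ ≤ E ∧ finrank F W₀ = k := by
  induction k with
  | zero => exact ⟨⊥, bot_le, by simp⟩
  | succ k ih =>
    obtain ⟨W₀, hle, hdim⟩ := ih (by omega)
    have hne : W₀ ≠ E := by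
      intro h; rw [h] at hdim; omega
    obtain ⟨v, hvE, hvW⟩ : ∃ v ∈ E, v ∉ W₀ := by
      by_contra hcon
      push Not at hcon
      exact hne (le_antisymm hle hcon)
    refine ⟨W₀ ⊔ Submodule.span F {v}, sup_le hle ((Submodule.span_singleton_le_iff_mem v E).mpr hvE), ?_⟩
    have hv0 : v ≠ 0 := by rintro rfl; exact hvW W₀.zero_mem
    have hdisj : W₀ ⊓ Submodule.span F {v} = ⊥ := by
      rw [eq_bot_iff]
      rintro x ⟨hxW, hxv⟩
      obtain ⟨c, rfl⟩ := Submodule.mem_span_singleton.mp hxv
      by_cases hc : c = 0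
      · simp [hc]
      · exfalso
        apply hvW
        have := W₀.smul_mem c⁻¹ hxW
        rwa [smul_smul, inv_mul_cancel₀ hc, one_smul] at this
    have := Submodule.finrank_sup_add_finrank_inf_eq W₀ (Submodule.span F {v})
    rw [hdisj, finrank_bot, add_zero, hdim, finrank_span_singleton hv0] at this
    exact this

/-- The key dimension step: `A`, `B` disjoint, `B` without proper invariant subspaces. -/
theorem finrank_step (f : V →ₗ[F] V) (A B X : Submodule F V) (a : ℕ)
    (hAB : A ⊓ B = ⊥) (hBdim : finrank F B = a)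
    (hA : A ≤ A.comap f) (hB : B ≤ B.comap f) (hX : X ≤ X.comap f)
    (hBirr : ∀ Y : Submodule F V, Y ≤ B → Y ≤ Y.comap f → Y = ⊥ ∨ Y = B)
    (hXle : X ≤ A ⊔ B) :
    finrank F X = finrank F (X ⊓ A : Submodule F V) ∨
      finrank F X = finrank F (X ⊓ A : Submodule F V) + a := by
  let Y : Submodule F V := (X ⊔ A) ⊓ B
  have hY : Y ≤ Y.comap f := by
    intro y hy
    rw [Submodule.mem_comap]
    obtain ⟨h1, h2⟩ := hy
    refine ⟨?_, hB h2⟩
    obtain ⟨x, hx, α, hα, rfl⟩ := Submodule.mem_sup.mp h1
    rw [map_add]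
    exact Submodule.add_mem _ (Submodule.mem_sup_left (hX hx)) (Submodule.mem_sup_right (hA hα))
  have hsup : X ⊔ A = A ⊔ Y := by
    apply le_antisymm
    · -- modular law
      intro z hz
      have hz' : z ∈ A ⊔ B := (sup_le hXle le_sup_left) hz
      obtain ⟨α, hα, β, hβ, rfl⟩ := Submodule.mem_sup.mp hz'
      refine Submodule.add_mem _ (Submodule.mem_sup_left hα) (Submodule.mem_sup_right ⟨?_, hβ⟩)
      have : β = (α + β) - α := by abel
      rw [this]
      exact Submodule.sub_mem _ hz (Submodule.mem_sup_right hα)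
    · exact sup_le le_sup_right (inf_le_left)
  have hAY : A ⊓ Y = ⊥ := by
    rw [eq_bot_iff, ← hAB]
    exact inf_le_inf_left A inf_le_right
  have h1 := Submodule.finrank_sup_add_finrank_inf_eq X A
  have h2 := Submodule.finrank_sup_add_finrank_inf_eq A Y
  rw [hAY, finrank_bot, add_zero, ← hsup] at h2
  rcases hBirr Y inf_le_right hY with h | h
  · left
    rw [h, finrank_bot, add_zero] at h2
    omega
  · right
    rw [h, hBdim] at h2
    omega


/-- partial sums of the family `U` on top of `W₀` -/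
def chain {s : ℕ} (W₀ : Submodule F V) (U : Fin s → Submodule F V) (j : ℕ) : Submodule F V :=
  W₀ ⊔ ⨆ (i : Fin s) (_ : i.val < j), U i

theorem chain_zero {s : ℕ} (W₀ : Submodule F V) (U : Fin s → Submodule F V) :
    chain W₀ U 0 = W₀ := by
  unfold chain
  simp

theorem chain_succ {s : ℕ} (W₀ : Submodule F V) (U : Fin s → Submodule F V) (j : ℕ) (hj : j < s) :
    chain W₀ U (j + 1) = chain W₀ U j ⊔ U ⟨j, hj⟩ := by
  unfold chain
  rw [sup_assoc]
  congr 1
  apply le_antisymm
  · apply iSup_le; intro i; apply iSup_le; intro hi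
    rcases Nat.lt_succ_iff_lt_or_eq.mp hi with h | h
    · exact le_sup_of_le_left (le_iSup_of_le i (le_iSup_of_le h le_rfl))
    · have : i = ⟨j, hj⟩ := Fin.ext h
      rw [this]; exact le_sup_right
  · apply sup_le
    · apply iSup_le; intro i; apply iSup_le; intro hi
      exact le_iSup_of_le i (le_iSup_of_le (Nat.lt_succ_of_lt hi) le_rfl)
    · exact le_iSup_of_le ⟨j, hj⟩ (le_iSup_of_le (Nat.lt_succ_self j) le_rfl)

theorem chain_mono_left {s : ℕ} {W₀ W₁ : Submodule F V} (h : W₀ ≤ W₁) (U : Fin s → Submodule F V)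
    (j : ℕ) : chain W₀ U j ≤ chain W₁ U j :=
  sup_le_sup_right h _

theorem chain_top {s : ℕ} (E : Submodule F V) (U : Fin s → Submodule F V)
    (hsup : (⨆ o : Option (Fin s), o.elim E U) = ⊤) : chain E U s = ⊤ := by
  rw [eq_top_iff, ← hsup]
  apply iSup_le
  intro o
  cases o with
  | none => exact le_sup_left
  | some i => exact le_sup_of_le_right (le_iSup_of_le i (le_iSup_of_le i.2 le_rfl))

theorem chain_inf {s : ℕ} (E : Submodule F V) (U : Fin s → Submodule F V)
    (hind : iSupIndep (fun o : Option (Fin s) => o.elim E U)) (j : ℕ) (hj : j < s) :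
    chain E U j ⊓ U ⟨j, hj⟩ = ⊥ := by
  have h := hind (some ⟨j, hj⟩)
  rw [disjoint_iff] at h
  rw [eq_bot_iff, ← h, inf_comm]
  apply inf_le_inf_left
  unfold chain
  apply sup_le
  · exact le_iSup_of_le none (le_iSup_of_le (by simp) le_rfl)
  · apply iSup_le; intro i; apply iSup_le; intro hi
    refine le_iSup_of_le (some i) (le_iSup_of_le ?_ le_rfl)
    intro h
    have : i = ⟨j, hj⟩ := Option.some.inj h
    rw [this] at hi
    exact lt_irrefl _ hi

theorem chain_inv {s : ℕ} (f : V →ₗ[F] V) (W₀ : Submodule F V) (U : Fin s → Submodule F V)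
    (hW₀ : W₀ ≤ W₀.comap f) (hU : ∀ i, U i ≤ (U i).comap f) (j : ℕ) :
    chain W₀ U j ≤ (chain W₀ U j).comap f := by
  unfold chain
  rw [← Submodule.map_le_iff_le_comap, Submodule.map_sup, Submodule.map_iSup]
  apply sup_le_sup (Submodule.map_le_iff_le_comap.mpr hW₀)
  apply iSup_mono
  intro i
  rw [Submodule.map_iSup]
  apply iSup_mono
  intro _
  exact Submodule.map_le_iff_le_comap.mpr (hU i)

/-- dimension of the chain -/
theorem finrank_chain {s a : ℕ} (E W₀ : Submodule F V) (U : Fin s → Submodule F V) (hW₀ : W₀ ≤ E)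
    (hind : iSupIndep (fun o : Option (Fin s) => o.elim E U))
    (hUdim : ∀ j, finrank F (U j) = a) (j : ℕ) (hj : j ≤ s) :
    finrank F (chain W₀ U j) = finrank F W₀ + j * a := by
  induction j with
  | zero => rw [chain_zero]; simp
  | succ j ih =>
    have hj' : j < s := hj
    rw [chain_succ W₀ U j hj']
    have hd : chain W₀ U j ⊓ U ⟨j, hj'⟩ = ⊥ := by
      rw [eq_bot_iff, ← chain_inf E U hind j hj']
      exact inf_le_inf_right _ (chain_mono_left hW₀ U j)
    have := Submodule.finrank_sup_add_finrank_inf_eq (chain W₀ U j) (U ⟨j, hj'⟩)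
    rw [hd, finrank_bot, add_zero, ih (by omega), hUdim] at this
    rw [this]; ring


end

theorem result {F V : Type*} [Field F] [AddCommGroup V] [Module F V]
    [FiniteDimensional F V] (f : V →ₗ[F] V) (hf : Function.Bijective f) (hss : Module.End.IsSemisimple f)
    {s a : ℕ} (ha : 1 ≤ a) (U : Fin s → Submodule F V)
    (hUinv : ∀ j, (U j).map f ≤ U j) (hUdim : ∀ j, Module.finrank F ↥(U j) = a)
    (hUirr : ∀ j, ∀ W : Submodule F V, W ≤ U j → W.map f ≤ W → W = ⊥ ∨ W = U j)
    (hdec : DirectSum.IsInternal (fun o : Option (Fin s) => o.elim (Module.End.eigenspace f 1) U))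
    (m : ℕ) (hm : 0 < m) (hmV : m < Module.finrank F V) :
    (∃ W : Submodule F V, Module.finrank F ↥W = m ∧ W.map f ≤ W) ↔
    (m ≤ Module.finrank F ↥(Module.End.eigenspace f 1) ∨
      (a ≤ m ∧ m % a ≤ Module.finrank F ↥(Module.End.eigenspace f 1))) := by
  set E := Module.End.eigenspace f 1 with hE
  obtain ⟨hind, hsup⟩ := (DirectSum.isInternal_submodule_iff_iSupIndep_and_iSup_eq_top _).mp hdec
  have hEfix : ∀ x ∈ E, f x = x := by
    intro x hx
    have := Module.End.mem_eigenspace_iff.mp hx
    rwa [one_smul] at this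
  have hsubinv : ∀ W₀ : Submodule F V, W₀ ≤ E → W₀ ≤ W₀.comap f := by
    intro W₀ hW₀ x hx
    rw [Submodule.mem_comap, hEfix x (hW₀ hx)]
    exact hx
  have hUinv' : ∀ i, U i ≤ (U i).comap f := fun i => Submodule.map_le_iff_le_comap.mp (hUinv i)
  have hVdim : finrank F V = finrank F E + s * a := by
    have h1 := finrank_chain E E U le_rfl hind hUdim s le_rfl
    rw [chain_top E U hsup, finrank_top] at h1
    exact h1
  constructor
  · rintro ⟨W, hWdim, hWinv⟩
    have hWinv' : W ≤ W.comap f := Submodule.map_le_iff_le_comap.mp hWinv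
    -- induction along the chain
    have key : ∀ j, j ≤ s → ∃ k, k ≤ j ∧
        finrank F (W ⊓ chain E U j : Submodule F V) = finrank F (W ⊓ E : Submodule F V) + k * a := by
      intro j
      induction j with
      | zero =>
        intro _
        exact ⟨0, le_rfl, by rw [chain_zero]; simp⟩
      | succ j ih =>
        intro hj
        have hj' : j < s := hj
        obtain ⟨k, hk, hdim⟩ := ih (by omega)
        have hX : (W ⊓ chain E U (j + 1)) ≤ (W ⊓ chain E U (j + 1)).comap f := by
          rw [Submodule.comap_inf]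
          exact inf_le_inf hWinv' (chain_inv f E U (hsubinv E le_rfl) hUinv' (j + 1))
        have hstep := finrank_step f (chain E U j) (U ⟨j, hj'⟩) (W ⊓ chain E U (j + 1)) a
          (chain_inf E U hind j hj') (hUdim _) (chain_inv f E U (hsubinv E le_rfl) hUinv' j)
          (hUinv' _) hX
          (fun Y hY hYinv => hUirr ⟨j, hj'⟩ Y hY (Submodule.map_le_iff_le_comap.mpr hYinv))
          (by rw [← chain_succ E U j hj']; exact inf_le_right)
        have hinf : (W ⊓ chain E U (j + 1)) ⊓ chain E U j = W ⊓ chain E U j := by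
          rw [inf_assoc]
          congr 1
          rw [chain_succ E U j hj']
          exact inf_eq_right.mpr le_sup_left
        rw [hinf] at hstep
        rcases hstep with h | h
        · exact ⟨k, by omega, by rw [h, hdim]⟩
        · exact ⟨k + 1, by omega, by rw [h, hdim]; ring⟩
    obtain ⟨k, hk, hdim⟩ := key s le_rfl
    rw [chain_top E U hsup, inf_top_eq, hWdim] at hdim
    have hc : finrank F (W ⊓ E : Submodule F V) ≤ finrank F E :=
      Submodule.finrank_mono inf_le_right
    by_cases hk0 : k = 0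
    · left
      rw [hk0] at hdim
      omega
    · right
      have hk1 : 1 ≤ k := by omega
      refine ⟨?_, ?_⟩
      · rw [hdim]
        calc a = 1 * a := (one_mul a).symm
          _ ≤ k * a := Nat.mul_le_mul_right a hk1
          _ ≤ _ := Nat.le_add_left _ _
      · rw [hdim, Nat.add_mul_mod_self_right]
        exact (Nat.mod_le _ _).trans hc
  · intro h
    -- choose how many blocks to use
    obtain ⟨k, r, hks, hrE, hmk⟩ : ∃ k r, k ≤ s ∧ r ≤ finrank F E ∧ m = r + k * a := by
      rcases h with h | ⟨ham, hmod⟩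
      · exact ⟨0, m, Nat.zero_le _, h, by simp⟩
      · by_cases hq : m / a ≤ s
        · exact ⟨m / a, m % a, hq, hmod, by rw [add_comm]; exact (Nat.div_add_mod' m a).symm⟩
        · push Not at hq
          have h1 : (s + 1) * a ≤ m := by
            calc (s + 1) * a ≤ (m / a) * a := Nat.mul_le_mul_right a hq
              _ ≤ m := Nat.div_mul_le_self m a
          refine ⟨s, m - s * a, le_rfl, ?_, ?_⟩
          · rw [hVdim] at hmV; omega
          · have : s * a ≤ m := by nlinarith
            omega
    obtain ⟨W₀, hW₀E, hW₀dim⟩ := exists_le_finrank_eq E r hrE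
    refine ⟨chain W₀ U k, ?_, ?_⟩
    · rw [finrank_chain E W₀ U hW₀E hind hUdim k hks, hW₀dim, hmk]
    · exact Submodule.map_le_iff_le_comap.mpr (chain_inv f W₀ U (hsubinv W₀ hW₀E) hUinv' k)

end Cfsg.Agent.S5952
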