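import Cfsg.Statements.S5959
import Cfsg.Agent.Lib.H11.Jordan9

set_option autoImplicit false
open Cfsg

namespace Cfsg.Agent.S5959

open Cfsg.Agent.Lib.H11.Jordan Module

/-- in a field of characteristic `p`, `x^p = 1` forces `x = 1` -/
theorem eq_one_of_pow_char {F : Type*} [Field F] {p : ℕ} [Fact p.Prime] [CharP F p] {x : F}
    (h : x ^ p = 1) : x = 1 := by
  have h1 : (x - 1) ^ p = 0 := by rw [sub_pow_char, one_pow, h, sub_self]
  exact sub_eq_zero.mp (pow_eq_zero_iff (Fact.out : p.Prime).ne_zero |>.mp h1)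

/-- the number of parts equal to `p` from the rank of `(u-1)^(p-1)` -/
theorem sum_map_sub_pred (μ : Multiset ℕ) (p : ℕ) (hp : 1 ≤ p) (hμ : ∀ b ∈ μ, b ≤ p) :
    (μ.map (fun b => b - (p - 1))).sum = μ.count p := by
  induction μ using Multiset.induction_on with
  | empty => simp
  | cons b s ih =>
    have hb := hμ b (Multiset.mem_cons_self b s)
    have ih' := ih (fun c hc => hμ c (Multiset.mem_cons_of_mem hc))
    rw [Multiset.map_cons, Multiset.sum_cons, ih', Multiset.count_cons]
    split_ifs with h <;> omega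

/-- Elements of order `p` of PSL_n(q) and imprimitive subgroups: a necessary condition. -/
theorem result {F : Type*} [Field F] [Fintype F] {p : ℕ} [Fact p.Prime] [CharP F p] {q : ℕ} (hq : Fintype.card F = q)
    (n a t : ℕ) (hn : 2 ≤ n) (hT : (n, q) ≠ (2, 2) ∧ (n, q) ≠ (2, 3)) (hat : n = a * t) (ha : 1 ≤ a) (ht : 2 ≤ t)
    (hp : 2 < p) (hΩ : p ∣ Nat.card {D : Fin t → Submodule F (Fin n → F) // Cfsg.Geo.IsMDecomposition a D} / Nat.factorial t)
    (h : ∀ x : Matrix.SpecialLinearGroup (Fin n) F,
      (∃ z : F, ((x ^ p : Matrix.SpecialLinearGroup (Fin n) F) : Matrix (Fin n) (Fin n) F) = z • (1 : Matrix (Fin n) (Fin n) F)) →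
      (∀ z : F, (x : Matrix (Fin n) (Fin n) F) ≠ z • (1 : Matrix (Fin n) (Fin n) F)) →
      ∃ D : Fin t → Submodule F (Fin n → F), Cfsg.Geo.IsMDecomposition a D ∧
        ∃ σ : Equiv.Perm (Fin t), ∀ j, (D j).map (Matrix.toLin' (x : Matrix (Fin n) (Fin n) F)) = D (σ j)) :
    (∀ μ : Multiset ℕ, (∀ b ∈ μ, 0 < b ∧ b ≤ p) → μ.sum = n → μ.count p < a → ∃ ν : Multiset ℕ, ν ≤ μ ∧ ν.sum = a) := by
  classical
  intro μ hμ hsum hcount
  have hpp := (Fact.out : p.Prime)
  have han : a ≤ n := by
    rw [hat]
    exact Nat.le_mul_of_pos_right a (by omega)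
  by_cases hall : ∀ b ∈ μ, b = 1
  · -- all parts are `1`
    have h1 : μ = Multiset.replicate (Multiset.card μ) 1 :=
      Multiset.eq_replicate.mpr ⟨rfl, hall⟩
    have h2 : Multiset.card μ = n := by
      rw [h1, Multiset.sum_replicate, smul_eq_mul, mul_one] at hsum
      exact hsum
    refine ⟨Multiset.replicate a 1, ?_, ?_⟩
    · rw [h1, h2]
      exact Multiset.replicate_le_replicate 1 |>.mpr han
    · rw [Multiset.sum_replicate, smul_eq_mul, mul_one]
  · -- a unipotent matrix of type `μ`
    obtain ⟨u, hu⟩ := exists_of_multiset (K := F) μ (fun b hb => (hμ b hb).1) hsum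
    have hup0 : (u - 1) ^ p = 0 := (hu.pow_eq_zero_iff p).mpr (fun b hb => (hμ b hb).2)
    have hup : u ^ p = 1 := by
      have := sub_one_pow_char (K := F) p u
      rw [hup0] at this
      exact (sub_eq_zero.mp this.symm)
    have hdet : u.det = 1 := by
      apply eq_one_of_pow_char (p := p)
      rw [← Matrix.det_pow, hup, Matrix.det_one]
    have hu1 : u ≠ 1 := fun h1 => hall (hu.eq_one_iff.mp h1)
    let x : Matrix.SpecialLinearGroup (Fin n) F := ⟨u, hdet⟩
    have hx1 : ∃ z : F, ((x ^ p : Matrix.SpecialLinearGroup (Fin n) F) : Matrix (Fin n) (Fin n) F) =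
        z • (1 : Matrix (Fin n) (Fin n) F) := by
      refine ⟨1, ?_⟩
      rw [Matrix.SpecialLinearGroup.coe_pow, one_smul]
      exact hup
    have hx2 : ∀ z : F, (x : Matrix (Fin n) (Fin n) F) ≠ z • (1 : Matrix (Fin n) (Fin n) F) := by
      intro z hz
      change u = z • (1 : Matrix (Fin n) (Fin n) F) at hz
      have h3 : (z - 1) ^ p = 0 := by
        have h4 : u - 1 = (z - 1) • (1 : Matrix (Fin n) (Fin n) F) := by
          rw [hz, sub_smul, one_smul]
        rw [h4, smul_pow, one_pow] at hup0
        have h5 := congrFun (congrFun hup0 ⟨0, by omega⟩) ⟨0, by omega⟩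
        simpa using h5
      have h6 : z = 1 := sub_eq_zero.mp (pow_eq_zero_iff hpp.ne_zero |>.mp h3)
      rw [h6, one_smul] at hz
      exact hu1 hz
    obtain ⟨D, hD, σ, hσ⟩ := h x hx1 hx2
    change ∀ j, (D j).map (Matrix.toLin' u) = D (σ j) at hσ
    obtain ⟨f, hf⟩ : ∃ f, f = Matrix.toLin' u := ⟨_, rfl⟩
    rw [← hf] at hσ
    have hfp : f ^ p = 1 := by
      rw [hf, ← Matrix.toLin'_pow, hup, Matrix.toLin'_one]
      rfl
    have hDne : ∀ i, D i ≠ ⊥ := by
      intro i hi
      have := hD.finrank_eq i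
      rw [hi, finrank_bot] at this
      omega
    have hDinj : Function.Injective D := hD.indep.injective hDne
    have hpow : ∀ (i : ℕ) (k : Fin t), (D k).map (f ^ i) = D ((σ ^ i) k) := by
      intro i
      induction i with
      | zero =>
        intro k
        rw [pow_zero, pow_zero, Module.End.one_eq_id, Submodule.map_id]
        rfl
      | succ i ih =>
        intro k
        rw [pow_succ', Module.End.mul_eq_comp, Submodule.map_comp, ih, hσ, pow_succ',
          Equiv.Perm.mul_apply]
    have hσp : σ ^ p = 1 := by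
      ext k
      have := hpow p k
      rw [hfp, Module.End.one_eq_id, Submodule.map_id] at this
      rw [← hDinj this]
      rfl
    by_cases hfix : ∃ j, σ j = j
    · -- a fixed summand
      obtain ⟨j, hj⟩ := hfix
      have hc : IsCompl (D j) (⨆ (k) (_ : k ≠ j), D k) := by
        refine ⟨hD.indep j, ?_⟩
        rw [codisjoint_iff, ← iSup_split_single, hD.iSup_eq_top]
      have hW : ∀ v ∈ D j, Matrix.toLin' u v ∈ D j := by
        intro v hv
        rw [← hf]
        have : f v ∈ (D j).map f := Submodule.mem_map_of_mem hv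
        rw [hσ, hj] at this
        exact this
      have hW' : ∀ v ∈ (⨆ (k) (_ : k ≠ j), D k), Matrix.toLin' u v ∈ (⨆ (k) (_ : k ≠ j), D k) := by
        intro v hv
        rw [← hf]
        have h1 : f v ∈ (⨆ (k) (_ : k ≠ j), D k).map f := Submodule.mem_map_of_mem hv
        have h2 : (⨆ (k) (_ : k ≠ j), D k).map f ≤ ⨆ (k) (_ : k ≠ j), D k := by
          rw [Submodule.map_iSup]
          apply iSup_le
          intro k
          rw [Submodule.map_iSup]
          apply iSup_le
          intro hk
          rw [hσ]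
          have hk' : σ k ≠ j := by
            intro h3
            rw [← hj] at h3
            exact hk (σ.injective h3)
          exact le_iSup₂ (f := fun k (_ : k ≠ j) => D k) (σ k) hk'
        exact h2 h1
      obtain ⟨ν, hν1, hν2⟩ := hu.exists_le_of_invariant_compl (D j) _ hc hW hW'
      exact ⟨ν, hν1, by rw [hν2, hD.finrank_eq]⟩
    · -- no fixed summand: a free cycle
      exfalso
      have hfix' : ∀ j, σ j ≠ j := fun j hj => hfix ⟨j, hj⟩
      let j₀ : Fin t := ⟨0, by omega⟩
      have hfree : ∀ i, 0 < i → i < p → (σ ^ i) j₀ ≠ j₀ := by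
        intro i hi0 hip hi
        have hcop : Nat.Coprime i p :=
          (Nat.coprime_of_lt_prime (by omega) hip hpp).symm
        obtain ⟨m, -, hm⟩ := Nat.exists_mul_mod_eq_one_of_coprime hcop hpp.one_lt
        have h1 : σ ^ (i * m) = σ := by
          rw [pow_eq_pow_mod (i * m) hσp, hm, pow_one]
        have h2 : (σ ^ (i * m)) j₀ = j₀ := by
          rw [pow_mul]
          exact Equiv.Perm.pow_apply_eq_self_of_apply_eq_self hi m
        rw [h1] at h2
        exact hfix' j₀ h2
      have h1 := le_finrank_range_geom_of_free_cycle D hD.indep f σ hσ p j₀ hfree hpp.pos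
      rw [hD.finrank_eq, hf] at h1
      have h2 : (∑ i ∈ Finset.range p, Matrix.toLin' u ^ i) =
          Matrix.toLin' ((u - 1) ^ (p - 1)) := by
        rw [sub_one_pow_pred_eq_geom p u, map_sum]
        apply Finset.sum_congr rfl
        intro i _
        rw [Matrix.toLin'_pow]
      rw [h2] at h1
      have h3 : finrank F (LinearMap.range (Matrix.toLin' ((u - 1) ^ (p - 1)))) =
          ((u - 1) ^ (p - 1)).rank := rfl
      rw [h3, hu.rank, sum_map_sub_pred μ p hpp.one_le (fun b hb => (hμ b hb).2)] at h1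
      omega

end Cfsg.Agent.S5959
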