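import Cfsg.Statements.S5960
import Cfsg.Agent.Lib.H13.Tiling
import Cfsg.Agent.Lib.H13.DecompBasis
import Cfsg.Agent.Lib.H13.SpPlanes
import Cfsg.Agent.Lib.H13.SympBlocks
import Cfsg.Agent.Lib.H13.SpInvolCount

set_option autoImplicit false
open scoped MatrixGroups
open Cfsg

namespace Cfsg.Agent.S5960

/-- Involutions of PSp_n(q) and imprimitive subgroups. Here `T = PSp_n(q)`, `n = 2d ≥ 4`, `(n, q) ≠ (4, 2)`, realised through the symplectic matrices over the field `F` with `q` elements and the standard alternating form; `n = a·t` with `a` even and `t ≥ 2`, and Ω is the (nonempty) set of orthogonal decompositions of `F^n` into `t` nondegenerate subspaces of dimension `a` (unordered; counted as ordered ones divided by `t!`), whose stabilizers are the imprimitive subgroups of type Sp_a(q) ≀ S_t (maximality is not assumed); an element of `T` of prime order `r` (a symplectic matrix `x` with `x^r` scalar, `x` not scalar)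 fixes a point of Ω when it permutes the summands of some such decomposition. If the number of such decompositions is even, then every involution of `T` stabilizes one of them (the action is 2-elusive). -/
theorem result {F : Type*} [Field F] [Fintype F] {p : ℕ} [Fact p.Prime] [CharP F p] {q : ℕ} (hq : Fintype.card F = q)
    (d : ℕ) (hd : 2 ≤ d) (hT : (d, q) ≠ (2, 2))
    (a t : ℕ) (hat : 2 * d = a * t) (ha : 2 ≤ a) (hae : Even a) (ht : 2 ≤ t) (hΩ : 2 ∣ Nat.card {D : Fin t → Submodule F (Fin d ⊕ Fin d → F) // (Cfsg.Geo.IsMDecomposition a D ∧ (∀ j, ∀ u ∈ D j, u ≠ 0 → ∃ v ∈ D j, Cfsg.sympForm d F u v ≠ 0) ∧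
          (∀ j j', j ≠ j' → ∀ u ∈ D j, ∀ v ∈ D j', Cfsg.sympForm d F u v = 0))} / Nat.factorial t)
    (x : ↥(Matrix.symplecticGroup (Fin d) F))
    (hx1 : ∃ z : F, ((x ^ 2 : ↥(Matrix.symplecticGroup (Fin d) F)) : Matrix (Fin d ⊕ Fin d) (Fin d ⊕ Fin d) F) = z • (1 : Matrix (Fin d ⊕ Fin d) (Fin d ⊕ Fin d) F))
    (hx2 : ∀ z : F, (x : Matrix (Fin d ⊕ Fin d) (Fin d ⊕ Fin d) F) ≠ z • (1 : Matrix (Fin d ⊕ Fin d) (Fin d ⊕ Fin d) F)) :
    ∃ D : Fin t → Submodule F (Fin d ⊕ Fin d → F), (Cfsg.Geo.IsMDecomposition a D ∧ (∀ j, ∀ u ∈ D j, u ≠ 0 → ∃ v ∈ D j, Cfsg.sympForm d F u v ≠ 0) ∧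
          (∀ j j', j ≠ j' → ∀ u ∈ D j, ∀ v ∈ D j', Cfsg.sympForm d F u v = 0)) ∧
        ∃ σ : Equiv.Perm (Fin t), ∀ j, (D j).map (Matrix.toLin' (x : Matrix (Fin d ⊕ Fin d) (Fin d ⊕ Fin d) F)) = D (σ j) := by
  classical
  obtain ⟨z, hz⟩ := hx1
  set B := Cfsg.Agent.Lib.H13.SpInvolCount.sympB (F := F) d with hB
  have hBa : ∀ u v, B u v = Cfsg.sympForm d F u v := Cfsg.Agent.Lib.H13.SpInvolCount.sympB_apply d
  have halt : ∀ v, B v v = 0 := Cfsg.Agent.Lib.H13.SpInvolCount.sympB_alt d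
  have hnd : ∀ v, (∀ w, B v w = 0) → v = 0 := (Cfsg.Agent.Lib.H13.SpInvolCount.sympB_nondeg d).1
  set T : (Fin d ⊕ Fin d → F) →ₗ[F] (Fin d ⊕ Fin d → F) :=
    Matrix.toLin' (x : Matrix (Fin d ⊕ Fin d) (Fin d ⊕ Fin d) F) with hT'
  have hTT : ∀ v, T (T v) = z • v := by
    intro v
    have h1 : T (T v) = Matrix.toLin' ((x : Matrix (Fin d ⊕ Fin d) (Fin d ⊕ Fin d) F) *
        (x : Matrix (Fin d ⊕ Fin d) (Fin d ⊕ Fin d) F)) v := by
      rw [Matrix.toLin'_mul]; rfl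
    have h2 : ((x ^ 2 : ↥(Matrix.symplecticGroup (Fin d) F)) : Matrix (Fin d ⊕ Fin d) (Fin d ⊕ Fin d) F) =
        (x : Matrix (Fin d ⊕ Fin d) (Fin d ⊕ Fin d) F) * (x : Matrix (Fin d ⊕ Fin d) (Fin d ⊕ Fin d) F) := by
      rw [sq]; rfl
    rw [h1, ← h2, hz]
    rw [Matrix.toLin'_apply, Matrix.smul_mulVec, Matrix.one_mulVec]
  have hTinj : Function.Injective T := by
    have hleft : Function.LeftInverse (Matrix.toLin' ((x⁻¹ : ↥(Matrix.symplecticGroup (Fin d) F)) :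
        Matrix (Fin d ⊕ Fin d) (Fin d ⊕ Fin d) F)) T := by
      intro v
      have h3 : ((x⁻¹ : ↥(Matrix.symplecticGroup (Fin d) F)) : Matrix (Fin d ⊕ Fin d) (Fin d ⊕ Fin d) F) *
          (x : Matrix (Fin d ⊕ Fin d) (Fin d ⊕ Fin d) F) = 1 := by
        have : ((x⁻¹ * x : ↥(Matrix.symplecticGroup (Fin d) F)) : Matrix (Fin d ⊕ Fin d) (Fin d ⊕ Fin d) F) = 1 := by
          rw [inv_mul_cancel]; rfl
        exact this
      rw [hT', ← LinearMap.comp_apply, ← Matrix.toLin'_mul, h3, Matrix.toLin'_one, LinearMap.id_apply]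
    exact hleft.injective
  have hz0 : z ≠ 0 := by
    rintro rfl
    have hd0 : 0 < d := by omega
    let v : Fin d ⊕ Fin d → F := Pi.single (Sum.inl ⟨0, hd0⟩) 1
    have hv : v ≠ 0 := by
      intro h
      have := congrFun h (Sum.inl ⟨0, hd0⟩)
      simp [v] at this
    have h1 := hTT v
    rw [zero_smul] at h1
    have h2 : T v = 0 := hTinj (by rw [h1, map_zero])
    exact hv (hTinj (by rw [h2, map_zero]))
  have hiso : ∀ u v, B (T u) (T v) = B u v := by
    intro u v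
    rw [hBa, hBa, hT', Matrix.toLin'_apply, Matrix.toLin'_apply]
    exact (Cfsg.Agent.Lib.H13.mem_symplecticGroup_iff_sympForm' d _).mp x.2 u v
  obtain ⟨ι, hι, hdec, b, π, hsymp, hπ, hb⟩ :=
    Cfsg.Agent.Lib.H13.SpPlanes.planes_aux z hz0 _ B halt hnd T hiso hTT rfl
  obtain ⟨a', rfl⟩ : ∃ a', a = 2 * a' := by
    obtain ⟨k, hk⟩ := hae
    exact ⟨k, by omega⟩
  have hcard : Fintype.card ι = a' * t := by
    have h1 := Module.finrank_eq_card_basis b
    rw [Module.finrank_fintype_fun_eq_card, Fintype.card_sum, Fintype.card_sum, Fintype.card_fin] at h1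
    have : 2 * Fintype.card ι = 2 * (a' * t) := by
      rw [← mul_assoc, ← hat]; omega
    omega
  obtain ⟨c, σ, hfib, hcσ⟩ := Cfsg.Agent.Lib.H13.Tiling.tiling π hπ a' t (by omega) hcard
  set g : ι ⊕ ι → Fin t := c ∘ Sum.elim id id with hg
  have hfib2 := Cfsg.Agent.Lib.H13.SympBlocks.card_fib c a' hfib
  refine ⟨Cfsg.Agent.Lib.H13.DecompBasis.blk b g, ⟨⟨ht, by omega, ?_, ?_, ?_⟩, ?_, ?_⟩, σ, ?_⟩
  · intro j
    rw [Cfsg.Agent.Lib.H13.DecompBasis.finrank_blk, hfib2]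
  · exact Cfsg.Agent.Lib.H13.DecompBasis.indep_blk b g
  · exact Cfsg.Agent.Lib.H13.DecompBasis.iSup_blk b g
  · intro j u hu hu0
    obtain ⟨v, hv, hv0⟩ := Cfsg.Agent.Lib.H13.SympBlocks.nondeg B halt b hsymp c hu hu0
    exact ⟨v, hv, by rw [← hBa]; exact hv0⟩
  · intro j j' hjj' u hu v hv
    rw [← hBa]
    exact Cfsg.Agent.Lib.H13.SympBlocks.orth B halt b hsymp c hjj' hu hv
  · intro j
    apply Cfsg.Agent.Lib.H13.DecompBasis.map_blk b g T hTinj σ (2 * a') hfib2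
    intro k
    have hmem : ∀ i, b (.inl (π i)) ∈ Cfsg.Agent.Lib.H13.DecompBasis.blk b g (σ (c i)) ∧
        b (.inr (π i)) ∈ Cfsg.Agent.Lib.H13.DecompBasis.blk b g (σ (c i)) := by
      intro i
      rw [← hcσ]
      exact ⟨Cfsg.Agent.Lib.H13.DecompBasis.mem_blk b g (.inl (π i)),
        Cfsg.Agent.Lib.H13.DecompBasis.mem_blk b g (.inr (π i))⟩
    rcases k with i | i
    · obtain ⟨α, γ, h1⟩ := (hb i).1
      rw [h1]
      exact Submodule.add_mem _ (Submodule.smul_mem _ _ (hmem i).1) (Submodule.smul_mem _ _ (hmem i).2)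
    · obtain ⟨β, δ, h1⟩ := (hb i).2
      rw [h1]
      exact Submodule.add_mem _ (Submodule.smul_mem _ _ (hmem i).1) (Submodule.smul_mem _ _ (hmem i).2)

end Cfsg.Agent.S5960
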