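import Cfsg.Statements.S5962
import Cfsg.Agent.Lib.H13.DecompBasis
import Cfsg.Agent.Lib.H13.SpPolar
import Cfsg.Agent.Lib.H13.SpInvolCount

set_option autoImplicit false
open scoped MatrixGroups
open Cfsg

namespace Cfsg.Agent.S5962

/-- Involutions of PSp_n(q), q odd, and the subgroups GL_{n/2}(q).2. Here `T = PSp_n(q)`, `n = 2d ≥ 4`, `q` odd, realised through the symplectic matrices over the field `F` with `q` elements; Ω is the set of unordered pairs `{U, W}` of complementary totally isotropic `d`-spaces (`F^n = U ⊕ W`), whose stabilizers are the subgroups of type GL_d(q).2 (maximal except in some small cases; maximality is not assumed); an element of `T` of prime order `r` (a symplectic matrix `x` with `x^r` scalar, `x` not scalar) fixes such a pair when it fixes or interchanges `U` and `W`. If the number of such pairs is even, every involution of `T` fixes one of them (the action is 2-elusive). -/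
theorem result {F : Type*} [Field F] [Fintype F] {p : ℕ} [Fact p.Prime] [CharP F p] {q : ℕ} (hq : Fintype.card F = q)
    (d : ℕ) (hd : 2 ≤ d) (hT : (d, q) ≠ (2, 2)) (hodd : Odd q)
    (hΩ : 2 ∣ Nat.card {P : Submodule F (Fin d ⊕ Fin d → F) × Submodule F (Fin d ⊕ Fin d → F) // IsCompl P.1 P.2 ∧ (∀ u ∈ P.1, ∀ v ∈ P.1, Cfsg.sympForm d F u v = 0) ∧ (∀ u ∈ P.2, ∀ v ∈ P.2, Cfsg.sympForm d F u v = 0)} / 2)
    (x : ↥(Matrix.symplecticGroup (Fin d) F))
    (hx1 : ∃ z : F, ((x ^ 2 : ↥(Matrix.symplecticGroup (Fin d) F)) : Matrix (Fin d ⊕ Fin d) (Fin d ⊕ Fin d) F) = z • (1 : Matrix (Fin d ⊕ Fin d) (Fin d ⊕ Fin d) F))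
    (hx2 : ∀ z : F, (x : Matrix (Fin d ⊕ Fin d) (Fin d ⊕ Fin d) F) ≠ z • (1 : Matrix (Fin d ⊕ Fin d) (Fin d ⊕ Fin d) F)) :
    ∃ U W : Submodule F (Fin d ⊕ Fin d → F), IsCompl U W ∧ (∀ u ∈ U, ∀ v ∈ U, Cfsg.sympForm d F u v = 0) ∧ (∀ u ∈ W, ∀ v ∈ W, Cfsg.sympForm d F u v = 0) ∧
        ((U.map (Matrix.toLin' (x : Matrix (Fin d ⊕ Fin d) (Fin d ⊕ Fin d) F)) = U ∧ W.map (Matrix.toLin' (x : Matrix (Fin d ⊕ Fin d) (Fin d ⊕ Fin d) F)) = W) ∨
         (U.map (Matrix.toLin' (x : Matrix (Fin d ⊕ Fin d) (Fin d ⊕ Fin d) F)) = W ∧ W.map (Matrix.toLin' (x : Matrix (Fin d ⊕ Fin d) (Fin d ⊕ Fin d) F)) = U)) := by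
  classical
  obtain ⟨z, hz⟩ := hx1
  have h2 : (2 : F) ≠ 0 := by
    apply Ring.two_ne_zero
    intro h
    have := FiniteField.even_card_of_char_two h
    rw [hq] at this
    have := Nat.odd_iff.mp hodd
    omega
  set B := Cfsg.Agent.Lib.H13.SpInvolCount.sympB (F := F) d with hB
  have hBa : ∀ u v, B u v = Cfsg.sympForm d F u v := Cfsg.Agent.Lib.H13.SpInvolCount.sympB_apply d
  have halt : ∀ v, B v v = 0 := Cfsg.Agent.Lib.H13.SpInvolCount.sympB_alt d
  have hnd : ∀ v, (∀ w, B v w = 0) → v = 0 := (Cfsg.Agent.Lib.H13.SpInvolCount.sympB_nondeg d).1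
  set T : (Fin d ⊕ Fin d → F) →ₗ[F] (Fin d ⊕ Fin d → F) :=
    Matrix.toLin' (x : Matrix (Fin d ⊕ Fin d) (Fin d ⊕ Fin d) F) with hT'
  have hTT : ∀ v, T (T v) = z • v := by
    intro v
    have h1 : T (T v) = Matrix.toLin' ((x : Matrix (Fin d ⊕ Fin d) (Fin d ⊕ Fin d) F) *
        (x : Matrix (Fin d ⊕ Fin d) (Fin d ⊕ Fin d) F)) v := by
      rw [Matrix.toLin'_mul]; rfl
    have h2 : ((x ^ 2 : ↥(Matrix.symplecticGroup (Fin d) F)) : Matrix (Fin d ⊕ Fin d) (Fin d ⊕ Fin d) F) =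
        (x : Matrix (Fin d ⊕ Fin d) (Fin d ⊕ Fin d) F) * (x : Matrix (Fin d ⊕ Fin d) (Fin d ⊕ Fin d) F) := by
      rw [sq]; rfl
    rw [h1, ← h2, hz]
    rw [Matrix.toLin'_apply, Matrix.smul_mulVec, Matrix.one_mulVec]
  have hTinj : Function.Injective T := by
    have hleft : Function.LeftInverse (Matrix.toLin' ((x⁻¹ : ↥(Matrix.symplecticGroup (Fin d) F)) :
        Matrix (Fin d ⊕ Fin d) (Fin d ⊕ Fin d) F)) T := by
      intro v
      have h3 : ((x⁻¹ : ↥(Matrix.symplecticGroup (Fin d) F)) : Matrix (Fin d ⊕ Fin d) (Fin d ⊕ Fin d) F) *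
          (x : Matrix (Fin d ⊕ Fin d) (Fin d ⊕ Fin d) F) = 1 := by
        have : ((x⁻¹ * x : ↥(Matrix.symplecticGroup (Fin d) F)) : Matrix (Fin d ⊕ Fin d) (Fin d ⊕ Fin d) F) = 1 := by
          rw [inv_mul_cancel]; rfl
        exact this
      rw [hT', ← LinearMap.comp_apply, ← Matrix.toLin'_mul, h3, Matrix.toLin'_one, LinearMap.id_apply]
    exact hleft.injective
  have hiso : ∀ u v, B (T u) (T v) = B u v := by
    intro u v
    rw [hBa, hBa, hT', Matrix.toLin'_apply, Matrix.toLin'_apply]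
    exact (Cfsg.Agent.Lib.H13.mem_symplecticGroup_iff_sympForm' d _).mp x.2 u v
  have hzz : z = 1 ∨ z = -1 := by
    have hd0 : 0 < d := by omega
    let v : Fin d ⊕ Fin d → F := Pi.single (Sum.inl ⟨0, hd0⟩) 1
    have hv : v ≠ 0 := by
      intro h
      have := congrFun h (Sum.inl ⟨0, hd0⟩)
      simp [v] at this
    obtain ⟨w, hw⟩ : ∃ w, B v w ≠ 0 := by
      by_contra h
      push Not at h
      exact hv (hnd v h)
    have h1 : B (T (T v)) (T (T w)) = B v w := by rw [hiso, hiso]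
    rw [hTT, hTT, map_smul, map_smul, LinearMap.smul_apply, smul_eq_mul, smul_eq_mul] at h1
    have h3 : (z * z - 1) * B v w = 0 := by linear_combination h1
    have h4 : z * z - 1 = 0 := (mul_eq_zero.mp h3).resolve_right hw
    have h5 : (z - 1) * (z + 1) = 0 := by linear_combination h4
    rcases mul_eq_zero.mp h5 with h | h
    · left; exact sub_eq_zero.mp h
    · right; exact eq_neg_of_add_eq_zero_left h
  rcases hzz with rfl | rfl
  · -- an involution: both Lagrangians are fixed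
    obtain ⟨ι, hι, hdec, b, hsymp, hb⟩ :=
      Cfsg.Agent.Lib.H13.SpPolar.adapted2 (1 : F) one_ne_zero (fun _ β γ _ => β = 0 ∧ γ = 0)
        (fun B halt hnd t hiso ht hpos =>
          Cfsg.Agent.Lib.H13.SpPolar.step_one h2 B halt hnd t hiso ht hpos) _ B halt hnd T hiso hTT rfl
    refine ⟨Cfsg.Agent.Lib.H13.DecompBasis.blk b Cfsg.Agent.Lib.H13.SpPolar.col 0,
      Cfsg.Agent.Lib.H13.DecompBasis.blk b Cfsg.Agent.Lib.H13.SpPolar.col 1,
      Cfsg.Agent.Lib.H13.SpPolar.isCompl_blk b, ?_, ?_, Or.inl ⟨?_, ?_⟩⟩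
    · intro u hu v hv
      rw [← hBa]
      exact Cfsg.Agent.Lib.H13.SpPolar.iso_blk B b hsymp 0 u hu v hv
    · intro u hu v hv
      rw [← hBa]
      exact Cfsg.Agent.Lib.H13.SpPolar.iso_blk B b hsymp 1 u hu v hv
    · apply Cfsg.Agent.Lib.H13.DecompBasis.map_blk b Cfsg.Agent.Lib.H13.SpPolar.col T hTinj id
        (Fintype.card ι) Cfsg.Agent.Lib.H13.SpPolar.card_col
      rintro (i | i)
      · obtain ⟨α, β, γ, δ, ⟨hβ, hγ⟩, h1, h3⟩ := hb i
        rw [h1, hγ, zero_smul, add_zero]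
        exact Submodule.smul_mem _ _ (Cfsg.Agent.Lib.H13.DecompBasis.mem_blk b _ (.inl i))
      · obtain ⟨α, β, γ, δ, ⟨hβ, hγ⟩, h1, h3⟩ := hb i
        rw [h3, hβ, zero_smul, zero_add]
        exact Submodule.smul_mem _ _ (Cfsg.Agent.Lib.H13.DecompBasis.mem_blk b _ (.inr i))
    · apply Cfsg.Agent.Lib.H13.DecompBasis.map_blk b Cfsg.Agent.Lib.H13.SpPolar.col T hTinj id
        (Fintype.card ι) Cfsg.Agent.Lib.H13.SpPolar.card_col
      rintro (i | i)
      · obtain ⟨α, β, γ, δ, ⟨hβ, hγ⟩, h1, h3⟩ := hb i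
        rw [h1, hγ, zero_smul, add_zero]
        exact Submodule.smul_mem _ _ (Cfsg.Agent.Lib.H13.DecompBasis.mem_blk b _ (.inl i))
      · obtain ⟨α, β, γ, δ, ⟨hβ, hγ⟩, h1, h3⟩ := hb i
        rw [h3, hβ, zero_smul, zero_add]
        exact Submodule.smul_mem _ _ (Cfsg.Agent.Lib.H13.DecompBasis.mem_blk b _ (.inr i))
  · -- square -1: the Lagrangians are interchanged
    obtain ⟨ι, hι, hdec, b, hsymp, hb⟩ :=
      Cfsg.Agent.Lib.H13.SpPolar.adapted2 (-1 : F) (neg_ne_zero.mpr one_ne_zero)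
        (fun α _ _ δ => α = 0 ∧ δ = 0)
        (fun B halt hnd t hiso ht hpos =>
          Cfsg.Agent.Lib.H13.SpPolar.step_neg h2 B halt hnd t hiso ht hpos) _ B halt hnd T hiso hTT rfl
    have hsw : ∀ k, T (b k) ∈ Cfsg.Agent.Lib.H13.DecompBasis.blk b Cfsg.Agent.Lib.H13.SpPolar.col
        ((fun j : Fin 2 => 1 - j) (Cfsg.Agent.Lib.H13.SpPolar.col k)) := by
      rintro (i | i)
      · obtain ⟨α, β, γ, δ, ⟨hα, hδ⟩, h1, h3⟩ := hb i
        rw [h1, hα, zero_smul, zero_add]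
        exact Submodule.smul_mem _ _ (Cfsg.Agent.Lib.H13.DecompBasis.mem_blk b _ (.inr i))
      · obtain ⟨α, β, γ, δ, ⟨hα, hδ⟩, h1, h3⟩ := hb i
        rw [h3, hδ, zero_smul, add_zero]
        exact Submodule.smul_mem _ _ (Cfsg.Agent.Lib.H13.DecompBasis.mem_blk b _ (.inl i))
    have hmap := Cfsg.Agent.Lib.H13.DecompBasis.map_blk b Cfsg.Agent.Lib.H13.SpPolar.col T hTinj
      (fun j : Fin 2 => 1 - j) (Fintype.card ι) Cfsg.Agent.Lib.H13.SpPolar.card_col hsw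
    refine ⟨Cfsg.Agent.Lib.H13.DecompBasis.blk b Cfsg.Agent.Lib.H13.SpPolar.col 0,
      Cfsg.Agent.Lib.H13.DecompBasis.blk b Cfsg.Agent.Lib.H13.SpPolar.col 1,
      Cfsg.Agent.Lib.H13.SpPolar.isCompl_blk b, ?_, ?_, Or.inr ⟨hmap 0, hmap 1⟩⟩
    · intro u hu v hv
      rw [← hBa]
      exact Cfsg.Agent.Lib.H13.SpPolar.iso_blk B b hsymp 0 u hu v hv
    · intro u hu v hv
      rw [← hBa]
      exact Cfsg.Agent.Lib.H13.SpPolar.iso_blk B b hsymp 1 u hu v hv

end Cfsg.Agent.S5962
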