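import Cfsg.Statements.S5965
import Cfsg.Agent.Lib.H11.SubfR14

set_option autoImplicit false
open scoped MatrixGroups
open Cfsg

namespace Cfsg.Agent.S5965

open Cfsg.Agent.Lib.H11.SubfR Cfsg.Agent.Lib.H13 Cfsg.Agent.Lib.H24.Elus

theorem dvd_pow_sub_one_iff (r : ℕ) (a j : ℕ) (ha : 1 ≤ a) :
    r ∣ a ^ j - 1 ↔ (a : ZMod r) ^ j = 1 := by
  have h1 : 1 ≤ a ^ j := Nat.one_le_pow _ _ ha
  rw [← ZMod.natCast_eq_zero_iff, Nat.cast_sub h1, Nat.cast_pow, Nat.cast_one, sub_eq_zero]

theorem vr_eq_of_dvd (r : ℕ) [Fact r.Prime] (hr2 : r ≠ 2) (k : ℕ) (hk : k.Prime) (hrk : r ≠ k)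
    (q₀ j : ℕ) (hq₀ : 1 < q₀) (hj : 0 < j) (hd : r ∣ q₀ ^ j - 1) :
    padicValNat r ((q₀ ^ k) ^ j - 1) = padicValNat r (q₀ ^ j - 1) := by
  have h1 : (q₀ ^ k) ^ j = (q₀ ^ j) ^ k := by rw [← pow_mul, mul_comm, pow_mul]
  rw [h1]
  exact vr_pow_sub_one r hr2 k hk hrk (q₀ ^ j) hd (Nat.one_lt_pow hj.ne' hq₀)

section main

variable {F : Type*} [Field F] [Fintype F] {p : ℕ} [Fact p.Prime] [CharP F p] {q : ℕ}

theorem not_dvd_card (hq : Fintype.card F = q) (r : ℕ) [Fact r.Prime] (hrp : r ≠ p) : ¬ r ∣ q := by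
  obtain ⟨f, -, hf⟩ := FiniteField.card F p
  rw [← hq, hf]
  intro h
  have h1 := (Fact.out : r.Prime).dvd_of_dvd_pow h
  exact hrp ((Nat.prime_dvd_prime_iff_eq Fact.out Fact.out).mp h1)

theorem forward (hq : Fintype.card F = q)
    (n : ℕ) (hn : 2 ≤ n)
    (F₀ : Subfield F) (k q₀ : ℕ) (hk : k.Prime) (hF₀ : Nat.card ↥F₀ = q₀) (hqk : q = q₀ ^ k)
    (r : ℕ) [Fact r.Prime] (hr2 : r ≠ 2) (hrp : r ≠ p) (hgap : ¬ (n = 6 ∧ r = 3))
    (hΩ : r ∣ ((Cfsg.Geo.subfieldSubgroup F₀ 1).comap (Matrix.SpecialLinearGroup.toGL : Matrix.SpecialLinearGroup (Fin n) F →* GL (Fin n) F)).index)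
    (hall : ∀ x : Matrix.SpecialLinearGroup (Fin n) F,
      (∃ z : F, ((x ^ r : Matrix.SpecialLinearGroup (Fin n) F) : Matrix (Fin n) (Fin n) F) = z • (1 : Matrix (Fin n) (Fin n) F)) →
      (∀ z : F, (x : Matrix (Fin n) (Fin n) F) ≠ z • (1 : Matrix (Fin n) (Fin n) F)) →
      ∃ P : Matrix.SpecialLinearGroup (Fin n) F, P⁻¹ * x * P ∈ ((Cfsg.Geo.subfieldSubgroup F₀ 1).comap (Matrix.SpecialLinearGroup.toGL : Matrix.SpecialLinearGroup (Fin n) F →* GL (Fin n) F))) :
    (r = k ∨ (k = 2 ∧ r = n ∧ (n = 3 ∨ n = 5) ∧ padicValNat r (q₀ + 1) = 1)) := by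
  classical
  have hr : r.Prime := Fact.out
  by_contra hcon
  rw [not_or] at hcon
  obtain ⟨hrk, hspecial⟩ := hcon
  -- a derangement contradicts the hypothesis
  have hder : (∃ x : Matrix.SpecialLinearGroup (Fin n) F,
      (∃ z : F, ((x ^ r : Matrix.SpecialLinearGroup (Fin n) F) : Matrix (Fin n) (Fin n) F) =
        z • (1 : Matrix (Fin n) (Fin n) F)) ∧
      (∀ z : F, (x : Matrix (Fin n) (Fin n) F) ≠ z • (1 : Matrix (Fin n) (Fin n) F)) ∧
      ∀ P : Matrix.SpecialLinearGroup (Fin n) F,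
        P⁻¹ * x * P ∉ (Cfsg.Geo.subfieldSubgroup F₀ (1 : GL (Fin n) F)).comap
          (Matrix.SpecialLinearGroup.toGL :
            Matrix.SpecialLinearGroup (Fin n) F →* GL (Fin n) F)) → False := by
    rintro ⟨x, h1, h2, h3⟩
    obtain ⟨P, hP⟩ := hall x h1 h2
    exact h3 P hP
  have hq₀1 : 1 < q₀ := one_lt_card_sub hF₀
  have hq2 := two_le_card (F := F) hq
  have hrq : ¬ r ∣ q := not_dvd_card hq r hrp
  have hrqF : ¬ r ∣ Fintype.card F := by rw [hq]; exact hrq
  have hrq₀ : ¬ r ∣ q₀ := fun h => hrq (by rw [hqk]; exact h.trans (dvd_pow_self _ hk.ne_zero))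
  set s : ZMod r := (q₀ : ZMod r) with hs
  have hs0 : s ≠ 0 := by
    rw [hs, Ne, ZMod.natCast_eq_zero_iff]
    exact hrq₀
  have hqs : (q : ZMod r) = s ^ k := by rw [hqk, Nat.cast_pow]
  have hsfin : IsOfFinOrder s := by
    rw [isOfFinOrder_iff_pow_eq_one]
    exact ⟨r - 1, by have := hr.two_le; omega, ZMod.pow_card_sub_one_eq_one hs0⟩
  have hi₀pos : 0 < orderOf s := orderOf_pos_iff.mpr hsfin
  have hipos : 0 < orderOf (q : ZMod r) := by
    rw [hqs]
    exact orderOf_pos_iff.mpr hsfin.pow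
  by_cases hii : orderOf (q : ZMod r) = orderOf s
  · -- `r` does not divide the index
    refine not_dvd_index (by omega) q₀ hF₀ r hrqF hrq₀ ?_ hΩ
    intro j hj2 _
    rw [hq, hqk]
    by_cases hd : r ∣ q₀ ^ j - 1
    · exact vr_eq_of_dvd r hr2 k hk hrk q₀ j hq₀1 (by omega) hd
    · rw [padicValNat.eq_zero_of_not_dvd hd]
      apply padicValNat.eq_zero_of_not_dvd
      intro hd'
      apply hd
      rw [← hqk] at hd'
      have h1 := (order_dvd_of_dvd_pow_sub_one (F := F) hq r j (by omega) hd').2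
      rw [hii] at h1
      rw [dvd_pow_sub_one_iff r q₀ j hq₀1.le]
      exact orderOf_dvd_iff_pow_eq_one.mp h1
  · -- `k ∣ ord_r q₀` and `ord_r q = ord_r q₀ / k`
    have h1 : orderOf (q : ZMod r) = orderOf s / Nat.gcd (orderOf s) k := by
      rw [hqs]
      exact orderOf_pow' s hk.ne_zero
    have hgcd : Nat.gcd (orderOf s) k = k := by
      rcases (Nat.dvd_prime hk).mp (Nat.gcd_dvd_right (orderOf s) k) with h | h
      · rw [h, Nat.div_one] at h1
        exact absurd h1 hii
      · exact h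
    have hkdvd : k ∣ orderOf s := by
      rw [← hgcd]; exact Nat.gcd_dvd_left _ _
    rw [hgcd] at h1
    have hlt : orderOf (q : ZMod r) < orderOf s := by
      rw [h1]
      exact Nat.div_lt_self hi₀pos hk.one_lt
    by_cases hi2 : 2 ≤ orderOf (q : ZMod r)
    · -- a single irreducible block
      have hin : orderOf (q : ZMod r) ≤ n := by
        obtain ⟨j, hj2, hjn, hj⟩ := exists_dvd_of_dvd_index (by omega) r hrqF _ hΩ
        rw [hq] at hj
        have := (order_dvd_of_dvd_pow_sub_one (F := F) hq r j (by omega) hj).2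
        exact (Nat.le_of_dvd (by omega) this).trans hjn
      have hcard := CycFactor.card_S (F := F) hq hr hrp
      have hne : Nonempty (CycFactor.S r F) := by
        rw [← Fintype.card_pos_iff]
        rcases Nat.eq_zero_or_pos (Fintype.card (CycFactor.S r F)) with h0 | h0
        · rw [h0, zero_mul] at hcard
          have := hr.two_le
          omega
        · exact h0
      obtain ⟨s₀⟩ := hne
      obtain ⟨x, hx, hns, hmu0, hmu⟩ := exists_sl_single hq r hrp hi2 n hin s₀
      apply hder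
      refine ⟨x, ⟨1, by rw [Matrix.SpecialLinearGroup.coe_pow, hx, one_smul]⟩, hns, fun P hP => ?_⟩
      exact not_conj_single hq hF₀ r hrp hi2 hlt n (by omega) s₀ x hx hmu0 hmu P hP
    · -- `r ∣ q - 1`
      have hi1 : orderOf (q : ZMod r) = 1 := by omega
      have hrq1 : r ∣ Fintype.card F - 1 := by
        rw [hq]
        exact (order_eq_one_iff q r (by omega)).mp hi1
      have hi₀k : orderOf s = k := by
        have := Nat.div_mul_cancel hkdvd
        rw [← h1, hi1, one_mul] at this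
        exact this.symm
      by_cases hk2 : k = 2
      · -- `q₀ ≡ -1`
        subst hk2
        have hs2 : s ^ 2 = 1 := by rw [← hi₀k]; exact pow_orderOf_eq_one s
        have hs1 : s ≠ 1 := by
          intro h
          rw [h, orderOf_one] at hi₀k
          omega
        have hsm : s = -1 := by
          have h3 : (s - 1) * (s + 1) = 0 := by linear_combination hs2
          rcases mul_eq_zero.mp h3 with h | h
          · exact absurd (sub_eq_zero.mp h) hs1
          · exact eq_neg_of_add_eq_zero_left h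
        have hd2 : r ∣ q₀ ^ 2 - 1 := (dvd_pow_sub_one_iff r q₀ 2 hq₀1.le).mpr hs2
        have hdq₀ : r ∣ q₀ + 1 := by
          rw [← ZMod.natCast_eq_zero_iff, Nat.cast_add, Nat.cast_one, ← hs, hsm]
          ring
        have hq₀sq : Fintype.card F - 1 = (q₀ - 1) * (q₀ + 1) := by
          rw [hq, hqk]
          obtain ⟨t, rfl⟩ : ∃ t, q₀ = t + 1 := ⟨q₀ - 1, by omega⟩
          simp only [Nat.add_sub_cancel]
          have : (t + 1) ^ 2 = t * (t + 1 + 1) + 1 := by ring
          omega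
        -- the degree `r` derangement when `r ^ 2 ∣ q₀ + 1`
        have hD3 : n = r → padicValNat r (q₀ + 1) ≠ 1 → False := by
          intro hnr hv
          have hv1 := one_le_padicValNat_of_dvd (by omega : q₀ + 1 ≠ 0) hdq₀
          have hv2 : 2 ≤ padicValNat r (q₀ + 1) := by omega
          have hrr : r ^ 2 ∣ q₀ + 1 := (padicValNat_dvd_iff_le (by omega)).mpr hv2
          exact hder (der_D3 p hF₀ r hr2 (by rw [hq₀sq]; exact hrr.trans (dvd_mul_left _ _))
            hnr hsm)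
        by_cases hn2 : n = 2
        · -- `r` does not divide the index
          subst hn2
          refine not_dvd_index (by omega) q₀ hF₀ r hrqF hrq₀ ?_ hΩ
          intro j hj2 hj2'
          have hj : j = 2 := by omega
          subst hj
          rw [hq, hqk]
          exact vr_eq_of_dvd r hr2 2 Nat.prime_two hr2 q₀ 2 hq₀1 (by omega) hd2
        · have hn3 : 3 ≤ n := by omega
          by_cases hr3 : r = 3
          · by_cases hn3' : n = 3
            · apply hD3 (by omega)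
              intro hv
              exact hspecial ⟨rfl, by omega, Or.inl hn3', hv⟩
            · have hn6 : n ≠ 6 := fun h => hgap ⟨h, hr3⟩
              exact hder (der_D2' p hF₀ r hr3 hrq1 (by omega) hn6 hsm)
          · by_cases h55 : n = 5 ∧ r = 5
            · apply hD3 (by omega)
              intro hv
              exact hspecial ⟨rfl, by omega, Or.inr h55.1, hv⟩
            · exact hder (der_D2 p hF₀ r hr2 hr3 hrq1 hn3 hsm h55)
      · -- `q₀` has order at least `3`
        have hs2 : s ^ 2 ≠ 1 := by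
          intro h
          have h3 := orderOf_dvd_of_pow_eq_one h
          rw [hi₀k] at h3
          exact hk2 ((Nat.prime_dvd_prime_iff_eq hk Nat.prime_two).mp h3)
        exact hder (der_D1 p hF₀ r hr2 hrq1 hn hs0 hs2)

theorem backward (hq : Fintype.card F = q)
    (n : ℕ) (hn : 2 ≤ n)
    (F₀ : Subfield F) (k q₀ : ℕ) (hk : k.Prime) (hF₀ : Nat.card ↥F₀ = q₀) (hqk : q = q₀ ^ k)
    (r : ℕ) [Fact r.Prime] (hr2 : r ≠ 2) (hrp : r ≠ p)
    (hgapk : r = k → r ∣ q₀ - 1 → padicValNat r n ≤ padicValNat r (q - 1))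
    (h : r = k ∨ (k = 2 ∧ r = n ∧ (n = 3 ∨ n = 5) ∧ padicValNat r (q₀ + 1) = 1))
    (x : Matrix.SpecialLinearGroup (Fin n) F)
    (hx : ∃ z : F, ((x ^ r : Matrix.SpecialLinearGroup (Fin n) F) : Matrix (Fin n) (Fin n) F) = z • (1 : Matrix (Fin n) (Fin n) F)) :
    ∃ P : Matrix.SpecialLinearGroup (Fin n) F, P⁻¹ * x * P ∈ ((Cfsg.Geo.subfieldSubgroup F₀ 1).comap (Matrix.SpecialLinearGroup.toGL : Matrix.SpecialLinearGroup (Fin n) F →* GL (Fin n) F)) := by
  have hr : r.Prime := Fact.out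
  obtain ⟨z, hz⟩ := hx
  rw [Matrix.SpecialLinearGroup.coe_pow] at hz
  have hn0 : 0 < n := by omega
  have hz0 : z ≠ 0 := ne_zero_of_pow_smul hn0 x.1 x.2 r z hz
  have hq₀1 : 1 < q₀ := one_lt_card_sub hF₀
  have hq2 := two_le_card (F := F) hq
  set s : ZMod r := (q₀ : ZMod r) with hs
  have hqs : (q : ZMod r) = s ^ k := by rw [hqk, Nat.cast_pow]
  -- non-powers force `r ∣ q - 1`
  have hdvd_of_np : (∀ d : F, d ^ r ≠ z) → r ∣ q - 1 := by
    intro hnp
    by_contra hnd
    have hcop : Nat.Coprime (Fintype.card F - 1) r := by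
      rw [hq, Nat.coprime_comm, Nat.Prime.coprime_iff_not_dvd hr]
      exact hnd
    obtain ⟨d, -, hd⟩ := exists_pow_eq_of_coprime r hcop z hz0
    exact hnp d hd
  rcases h with hrk | ⟨hk2, hrn, hn35, hv⟩
  · -- `r = k`
    subst hrk
    have hqs' : (q : ZMod r) = s := by rw [hqs, ZMod.pow_card]
    by_cases hpow : ∃ μ : F, μ ^ r = z
    · obtain ⟨μ, hμ⟩ := hpow
      have hμ0 : μ ≠ 0 := by
        rintro rfl
        rw [zero_pow hr.ne_zero] at hμ
        exact hz0 hμ.symm
      exact conj_subfield_of_order_eq hq hF₀ r hrp (by rw [hqs']) n hn0 x μ hμ0 (by rw [hμ, hz])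
    · exfalso
      push Not at hpow
      have hrq1 := hdvd_of_np hpow
      have hq1 : (q : ZMod r) = 1 := by
        have := (dvd_pow_sub_one_iff r q 1 (by omega)).mp (by rwa [pow_one])
        rwa [pow_one] at this
      have hrq₀ : r ∣ q₀ - 1 := by
        have := (dvd_pow_sub_one_iff r q₀ 1 hq₀1.le).mpr (by rw [pow_one, ← hs, ← hqs', hq1])
        rwa [pow_one] at this
      exact false_of_det_one hq r n hn0 x.1 x.2 z hz hpow (hgapk rfl hrq₀)
        (fun h => absurd h hr2)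
  · -- `k = 2`, `r = n ∈ {3, 5}`, `(q₀ + 1)_r = r`
    subst hk2
    have hdq₀ : r ∣ q₀ + 1 := dvd_of_one_le_padicValNat (by omega)
    have hsm : s = -1 := by
      have : ((q₀ + 1 : ℕ) : ZMod r) = 0 := (ZMod.natCast_eq_zero_iff _ _).mpr hdq₀
      rw [Nat.cast_add, Nat.cast_one, ← hs] at this
      exact eq_neg_of_add_eq_zero_left this
    have hq₀sq : q - 1 = (q₀ - 1) * (q₀ + 1) := by
      rw [hqk]
      obtain ⟨t, rfl⟩ : ∃ t, q₀ = t + 1 := ⟨q₀ - 1, by omega⟩
      simp only [Nat.add_sub_cancel]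
      have : (t + 1) ^ 2 = t * (t + 1 + 1) + 1 := by ring
      omega
    have hnd : ¬ r ∣ q₀ - 1 := by
      intro hd
      have h2 : r ∣ 2 := by
        have := Nat.dvd_sub hdq₀ hd
        have e : q₀ + 1 - (q₀ - 1) = 2 := by omega
        rwa [e] at this
      exact hr2 ((Nat.prime_dvd_prime_iff_eq hr Nat.prime_two).mp h2)
    have hvq : padicValNat r (q - 1) = 1 := by
      rw [hq₀sq, padicValNat.mul (by omega) (by omega), padicValNat.eq_zero_of_not_dvd hnd, hv]
    have hrq1 : r ∣ Fintype.card F - 1 := by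
      rw [hq, hq₀sq]
      exact hdq₀.trans (dvd_mul_left _ _)
    have hpow : ∃ μ : F, μ ^ r = z := by
      by_contra hpow
      push Not at hpow
      refine false_of_det_one hq r n hn0 x.1 x.2 z hz hpow ?_ (fun h => absurd h hr2)
      rw [← hrn, padicValNat_self, hvq]
    obtain ⟨μ, hμ⟩ := hpow
    have hμ0 : μ ≠ 0 := by
      rintro rfl
      rw [zero_pow hr.ne_zero] at hμ
      exact hz0 hμ.symm
    -- `z = 1`
    have hzr : z ^ r = 1 := by
      have h1 := congrArg Matrix.det hz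
      rw [Matrix.det_pow, x.2, one_pow, Matrix.det_smul, Matrix.det_one, mul_one,
        Fintype.card_fin, ← hrn] at h1
      exact h1.symm
    have hz1 : z = 1 := by
      rw [← hμ]
      have h1 : μ ^ (r ^ 2) = 1 := by rw [pow_two, pow_mul, hμ, hzr]
      have h2 : μ ^ (Fintype.card F - 1) = 1 := FiniteField.pow_card_sub_one_eq_one μ hμ0
      have h3 := pow_gcd_eq_one.mpr ⟨h1, h2⟩
      have h4 : Nat.gcd (r ^ 2) (Fintype.card F - 1) ∣ r := by
        obtain ⟨a, ha, hga⟩ := (Nat.dvd_prime_pow hr).mp (Nat.gcd_dvd_left (r ^ 2)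
          (Fintype.card F - 1))
        rw [hga]
        have ha2 : a ≠ 2 := by
          rintro rfl
          have h5 : r ^ 2 ∣ Fintype.card F - 1 := by
            rw [← hga]; exact Nat.gcd_dvd_right _ _
          rw [hq] at h5
          have := (padicValNat_dvd_iff_le (by omega)).mp h5
          omega
        have ha1 : a ≤ 1 := by omega
        calc r ^ a ∣ r ^ 1 := pow_dvd_pow r ha1
          _ = r := pow_one r
      obtain ⟨c, hc⟩ := h4
      rw [hc, pow_mul, h3, one_pow]
    rw [hz1, one_smul] at hz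
    exact conj_subfield_symm hF₀ r hrp (by omega) hrq1 hsm n hrn.symm x hz

end main

/-- Elements of odd prime order r ≠ p of PSL_n(q) and subfield subgroups. Here `T = PSL_n(F)` for a field `F` with `q = p^f` elements (`n ≥ 2`, `(n, q) ≠ (2, 2), (2, 3)`), `F₀` is the subfield with `q₀` elements where `q = q₀^k` for a prime `k`, and `H` is the subgroup of matrices of determinant 1 lying in the subfield group of `F₀` (invertible matrices over `F₀` times scalars) — a maximal subgroup of type GL_n(q₀) (the case `n = 2`, `q₀ = 2` is excluded); Ω is the set of `T`-conjugates of `H` (cosets of `H`), so an element of `T` of prime order `r` (a matrix `x` of determinant 1 with `x^r` scalar, `x` not scalar) fixes a point of Ω when some conjugate of `x` by a matrix of determinant 1 lies in `H`. Let `r ≠ p` be an odd prime dividing the index of `H`, with `(n, r) ≠ (6, 3)` and, when `r = k` divides `q₀ − 1`, with `(n)_r ≤ (q − 1)_r`. Then every element of `T` of order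 `r` is conjugate in `T` into `H` if and only if `r = k`, or `k = 2`, `r = n ∈ {3, 5}` and `(q₀ + 1)_r = r`. The two excluded cases, `(n, r) = (6, 3)` and `r = k ∣ q₀ − 1` with `(n)_r > (q − 1)_r`, are ones where this criterion can fail, so they are left out. -/
theorem result {F : Type*} [Field F] [Fintype F] {p : ℕ} [Fact p.Prime] [CharP F p] {q : ℕ} (hq : Fintype.card F = q)
    (n : ℕ) (hn : 2 ≤ n) (hT : (n, q) ≠ (2, 2) ∧ (n, q) ≠ (2, 3))
    (F₀ : Subfield F) (k q₀ : ℕ) (hk : k.Prime) (hF₀ : Nat.card ↥F₀ = q₀) (hqk : q = q₀ ^ k) (hC5 : ¬ (n = 2 ∧ q₀ = 2)) (r : ℕ) [Fact r.Prime] (hr2 : r ≠ 2) (hrp : r ≠ p) (hgap : ¬ (n = 6 ∧ r = 3)) (hgapk : r = k → r ∣ q₀ - 1 → padicValNat r n ≤ padicValNat r (q - 1)) (hΩ : r ∣ ((Cfsg.Geo.subfieldSubgroup F₀ 1).comap (Matrix.SpecialLinearGroup.toGL : Matrix.SpecialLinearGroup (Fin n) F →* GL (Fin n) F)).index) :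
    (∀ x : Matrix.SpecialLinearGroup (Fin n) F,
      (∃ z : F, ((x ^ r : Matrix.SpecialLinearGroup (Fin n) F) : Matrix (Fin n) (Fin n) F) = z • (1 : Matrix (Fin n) (Fin n) F)) →
      (∀ z : F, (x : Matrix (Fin n) (Fin n) F) ≠ z • (1 : Matrix (Fin n) (Fin n) F)) →
      ∃ P : Matrix.SpecialLinearGroup (Fin n) F, P⁻¹ * x * P ∈ ((Cfsg.Geo.subfieldSubgroup F₀ 1).comap (Matrix.SpecialLinearGroup.toGL : Matrix.SpecialLinearGroup (Fin n) F →* GL (Fin n) F))) ↔
    (r = k ∨ (k = 2 ∧ r = n ∧ (n = 3 ∨ n = 5) ∧ padicValNat r (q₀ + 1) = 1)) := by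
  constructor
  · intro hall
    exact forward hq n hn F₀ k q₀ hk hF₀ hqk r hr2 hrp hgap hΩ hall
  · intro h x hx _
    exact backward hq n hn F₀ k q₀ hk hF₀ hqk r hr2 hrp hgapk h x hx

end Cfsg.Agent.S5965
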