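import Cfsg.Statements.S5967
import Cfsg.Agent.Lib.H11.InvCls1
import Cfsg.Agent.Lib.H11.InvCls3
import Cfsg.Agent.Lib.H11.InvCls5
import Cfsg.Agent.Lib.H11.InvCls6

set_option autoImplicit false
open scoped MatrixGroups
open Cfsg

namespace Cfsg.Agent.S5967

/-- Involutions of PSL_n(q) and the symplectic-type subgroups. Here `T = PSL_n(F)` for a field `F` with `q` elements, `n ≥ 4` even, `f` is a nondegenerate alternating form on `F^n`, and `H` is the subgroup of matrices of determinant 1 preserving `f` up to a scalar — a maximal subgroup of type Sp_n(q); Ω is the set of `T`-conjugates of `H` (cosets of `H`), so an element of `T` of prime order `r` (a matrix `x` of determinant 1 with `x^r` scalar, `x` not scalar) fixes a point of Ω when some conjugate of `x` by a matrix of determinant 1 preserves `f` up to a scalar. Suppose the index of `H` is even. Then every involution of `T` is conjugate in `T` into `H` if and only if `(q − 1)_2 ≤ (n)_2`. -/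
theorem result {F : Type*} [Field F] [Fintype F] {p : ℕ} [Fact p.Prime] [CharP F p] {q : ℕ} (hq : Fintype.card F = q)
    (n : ℕ) (hn : 4 ≤ n) (he : Even n) (f : (Fin n → F) → (Fin n → F) → F) (hf : Cfsg.Geo.IsSymplecticForm f)
    (hΩ : 2 ∣ ((Cfsg.Geo.similarityGroup f).comap (Matrix.SpecialLinearGroup.toGL : Matrix.SpecialLinearGroup (Fin n) F →* GL (Fin n) F)).index) :
    (∀ x : Matrix.SpecialLinearGroup (Fin n) F,
      (∃ z : F, ((x ^ 2 : Matrix.SpecialLinearGroup (Fin n) F) : Matrix (Fin n) (Fin n) F) = z • (1 : Matrix (Fin n) (Fin n) F)) →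
      (∀ z : F, (x : Matrix (Fin n) (Fin n) F) ≠ z • (1 : Matrix (Fin n) (Fin n) F)) →
      ∃ P : Matrix.SpecialLinearGroup (Fin n) F, P⁻¹ * x * P ∈ ((Cfsg.Geo.similarityGroup f).comap (Matrix.SpecialLinearGroup.toGL : Matrix.SpecialLinearGroup (Fin n) F →* GL (Fin n) F))) ↔
    padicValNat 2 (q - 1) ≤ padicValNat 2 n := by
  classical
  subst hq
  have hev : Even n := he
  obtain ⟨m, hm⟩ := he
  have hnm : n = 2 * m := by omega
  constructor
  · intro h
    by_contra hlt
    rw [not_le] at hlt
    obtain ⟨l, hl⟩ := Cfsg.Agent.Lib.H11.InvCls.exists_pow_eq_neg_one (F := F) n (by omega) hlt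
    have h2 : (2 : F) ≠ 0 := by
      intro h20
      have h1 : ringChar F ∣ 2 := ringChar.dvd (R := F) (x := 2) (by exact_mod_cast h20)
      have h3 : ringChar F = 2 := by
        rcases (Nat.dvd_prime Nat.prime_two).1 h1 with h | h
        · exact absurd h (CharP.ringChar_ne_one)
        · exact h
      have h4 : Fintype.card F % 2 = 0 := FiniteField.even_card_iff_char_two.1 h3
      have h5 : 2 ∣ Fintype.card F - 1 := dvd_of_one_le_padicValNat (by omega)
      have h6 : 1 < Fintype.card F := Fintype.one_lt_card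
      omega
    have hl0 : l ≠ 0 := by
      intro h0
      rw [h0, zero_pow (by omega)] at hl
      have : (1 : F) = 0 := by linear_combination hl
      exact one_ne_zero this
    set x0 : Matrix.SpecialLinearGroup (Fin n) F := ⟨Cfsg.Agent.Lib.H11.InvCls.dmat n l,
        Cfsg.Agent.Lib.H11.InvCls.det_dmat (by omega) hev l hl⟩ with hx0
    have hx0c : (x0 : Matrix (Fin n) (Fin n) F) = Cfsg.Agent.Lib.H11.InvCls.dmat n l := rfl
    obtain ⟨P, hP⟩ := h x0
      ⟨l * l, by
        rw [Matrix.SpecialLinearGroup.coe_pow, pow_two, hx0c]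
        exact Cfsg.Agent.Lib.H11.InvCls.dmat_mul_self l⟩
      (fun z => by
        rw [hx0c]
        exact Cfsg.Agent.Lib.H11.InvCls.dmat_not_scalar h2 (by omega) l hl0 z)
    exact Cfsg.Agent.Lib.H11.InvCls.dmat_derangement h2 (by omega) l hl0 hf x0 P hx0c hP
  · rintro hle x ⟨z, hz⟩ hx2
    have hxx : (x : Matrix (Fin n) (Fin n) F) * (x : Matrix (Fin n) (Fin n) F) =
        z • (1 : Matrix (Fin n) (Fin n) F) := by
      rw [← hz, Matrix.SpecialLinearGroup.coe_pow, pow_two]
    have hz0 : z ≠ 0 := by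
      intro h0
      have h1 := congrArg Matrix.det hxx
      rw [Matrix.det_mul, x.det_coe, h0, zero_smul] at h1
      have : Nonempty (Fin n) := ⟨⟨0, by omega⟩⟩
      rw [Matrix.det_zero] at h1
      norm_num at h1
    obtain ⟨G, κ, hκ, halt, hdet, hsim⟩ := Cfsg.Agent.Lib.H11.InvCls.exists_form m hnm
      (x : Matrix (Fin n) (Fin n) F) z hz0 hxx x.det_coe
      (fun h2 => Cfsg.Agent.Lib.H11.InvCls.pow_ne_neg_one h2 n (by omega) hle)
    exact Cfsg.Agent.Lib.H11.InvCls.exists_conj_mem_sim m hnm hf x G halt hdet κ hκ hsim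
      (fun d _ => Cfsg.Agent.Lib.H11.InvCls.exists_centralizer_det (by omega)
        (x : Matrix (Fin n) (Fin n) F) z hz0 hxx d)

end Cfsg.Agent.S5967
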