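import Cfsg.Statements.S5968
import Cfsg.Agent.Lib.H12.BGSpC
import Cfsg.Agent.Lib.H12.BGSpD

set_option autoImplicit false
open scoped MatrixGroups
open Cfsg

namespace Cfsg.Agent.S5968

/-- packaging of a matrix which is a similitude of no symplectic form -/
theorem exists_of_core {F : Type*} [Field F] {n : ℕ} {f : (Fin n → F) → (Fin n → F) → F}
    (hf : Cfsg.Geo.IsSymplecticForm f) (r : ℕ) (X : Matrix (Fin n) (Fin n) F) (hdet : X.det = 1)
    (hXr : X ^ r = 1) (hns : ∀ z : F, X ≠ z • (1 : Matrix (Fin n) (Fin n) F))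
    (hcore : ∀ g : (Fin n → F) → (Fin n → F) → F, Cfsg.Geo.IsSymplecticForm g → ∀ c : F, c ≠ 0 →
      ¬ ∀ u v, g (X.mulVec u) (X.mulVec v) = c * g u v) :
    ∃ x : Matrix.SpecialLinearGroup (Fin n) F,
      (∃ z : F, ((x ^ r : Matrix.SpecialLinearGroup (Fin n) F) : Matrix (Fin n) (Fin n) F) = z • (1 : Matrix (Fin n) (Fin n) F)) ∧
      (∀ z : F, (x : Matrix (Fin n) (Fin n) F) ≠ z • (1 : Matrix (Fin n) (Fin n) F)) ∧
      ∀ P : Matrix.SpecialLinearGroup (Fin n) F, P⁻¹ * x * P ∉ ((Cfsg.Geo.similarityGroup f).comap (Matrix.SpecialLinearGroup.toGL : Matrix.SpecialLinearGroup (Fin n) F →* GL (Fin n) F)) := by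
  obtain ⟨x, hx⟩ : ∃ x : Matrix.SpecialLinearGroup (Fin n) F,
      (x : Matrix (Fin n) (Fin n) F) = X := ⟨⟨X, hdet⟩, rfl⟩
  refine ⟨x, ⟨1, ?_⟩, ?_, ?_⟩
  · rw [Matrix.SpecialLinearGroup.coe_pow, one_smul, hx]
    exact hXr
  · rw [hx]
    exact hns
  · intro P
    refine Cfsg.Agent.Lib.H12.BGSp.not_mem_HSp_conj hf x P ?_
    rw [hx]
    exact hcore

/-- Derangements of odd prime order of PSL_n(q) on the cosets of a symplectic-type subgroup. Here `T = PSL_n(F)` for a field `F` with `q` elements, `n ≥ 4` even, `f` is a nondegenerate alternating form on `F^n`, and `H` is the subgroup of matrices of determinant 1 preserving `f` up to a scalar — a maximal subgroup of type Sp_n(q); Ω is the set of `T`-conjugates of `H` (cosets of `H`), so an element of `T` of prime order `r` (a matrix `x` of determinant 1 with `x^r` scalar, `x` not scalar) fixes a point of Ω when some conjugate of `x` by a matrix of determinant 1 preserves `f` up to a scalar. For every odd prime `r`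 dividing the index of `H`, with `(n, r) ≠ (6, 3)`, there is an element of `T` of order `r` with no conjugate in `H`. (For `n = 6`, `r = 3` this can fail: when `(q − 1)_3 = 3` every element of order 3 is conjugate into `H`.) -/
theorem result {F : Type*} [Field F] [Fintype F] {p : ℕ} [Fact p.Prime] [CharP F p] {q : ℕ} (hq : Fintype.card F = q)
    (n : ℕ) (hn : 4 ≤ n) (he : Even n) (f : (Fin n → F) → (Fin n → F) → F) (hf : Cfsg.Geo.IsSymplecticForm f)
    (r : ℕ) [Fact r.Prime] (hr2 : r ≠ 2) (hgap : ¬ (n = 6 ∧ r = 3)) (hΩ : r ∣ ((Cfsg.Geo.similarityGroup f).comap (Matrix.SpecialLinearGroup.toGL : Matrix.SpecialLinearGroup (Fin n) F →* GL (Fin n) F)).index) :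
    ∃ x : Matrix.SpecialLinearGroup (Fin n) F,
      (∃ z : F, ((x ^ r : Matrix.SpecialLinearGroup (Fin n) F) : Matrix (Fin n) (Fin n) F) = z • (1 : Matrix (Fin n) (Fin n) F)) ∧
      (∀ z : F, (x : Matrix (Fin n) (Fin n) F) ≠ z • (1 : Matrix (Fin n) (Fin n) F)) ∧
      ∀ P : Matrix.SpecialLinearGroup (Fin n) F, P⁻¹ * x * P ∉ ((Cfsg.Geo.similarityGroup f).comap (Matrix.SpecialLinearGroup.toGL : Matrix.SpecialLinearGroup (Fin n) F →* GL (Fin n) F)) := by
  classical
  subst hq
  obtain ⟨m, hm⟩ := he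
  have hnm : n = 2 * m := by omega
  have hr : r.Prime := Fact.out
  have hr3 : 3 ≤ r := by
    have := hr.two_le
    omega
  have hkey := Cfsg.Agent.Lib.H12.BGSp.prime_dvd_index hf m (by omega) hnm r hr hΩ
  rcases hkey with hrq | ⟨j, hj1, hj2, hjd⟩
  · -- `r = p`: a unipotent element
    obtain ⟨k, hp, hk⟩ := FiniteField.card F p
    rw [hk] at hrq
    have hrp : r = p := (Nat.prime_dvd_prime_iff_eq hr hp).1 (hr.dvd_of_dvd_pow hrq)
    subst hrp
    have hn3 : 3 ≤ n := by omega
    exact exists_of_core hf r (1 + Cfsg.Agent.Lib.H12.BGSp.nil3 F n hn3)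
      (Cfsg.Agent.Lib.H12.BGSp.det_unip3 hn3) (Cfsg.Agent.Lib.H12.BGSp.unip3_pow hn3 r hr3)
      (fun z => Cfsg.Agent.Lib.H12.BGSp.unip3_not_scalar hn3 z)
      (fun g hg c hc => Cfsg.Agent.Lib.H12.BGSp.unip3_core hn3 r hr3 g hg c hc)
  · by_cases hq1 : r ∣ Fintype.card F - 1
    · -- `r ∣ q - 1`: a diagonal element
      have hcard : Fintype.card Fˣ = Fintype.card F - 1 := by
        rw [← Nat.card_eq_fintype_card, Nat.card_units, Nat.card_eq_fintype_card]
      obtain ⟨u, hu⟩ := exists_prime_orderOf_dvd_card (G := Fˣ) r (by rw [hcard]; exact hq1)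
      have hω : orderOf (u : F) = r := by rw [orderOf_units, hu]
      obtain ⟨hω0, hω1, -, -, -, hωr⟩ :=
        Cfsg.Agent.Lib.H12.BGSp.omega_facts r hr hr2 (u : F) hω
      exact exists_of_core hf r (Matrix.diagonal (Cfsg.Agent.Lib.H12.BGSp.dvec n (u : F)))
        (Cfsg.Agent.Lib.H12.BGSp.diag_det hn _ hω0) (Cfsg.Agent.Lib.H12.BGSp.diag_pow r _ hωr)
        (fun z => Cfsg.Agent.Lib.H12.BGSp.diag_not_scalar hn _ hω1 z)
        (fun g hg c _ => Cfsg.Agent.Lib.H12.BGSp.diag_core hn ⟨m, hm⟩ r hr hr2 hgap (u : F) hω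
          g hg c)
    · -- `ord_r(q)` odd, at least two: a block element
      have hrp : r ≠ p := by
        intro hrp
        subst hrp
        obtain ⟨k, -, hk⟩ := FiniteField.card F r
        have h1 : r ∣ Fintype.card F ^ (2 * j + 1) := by
          rw [hk]
          exact dvd_pow (dvd_pow_self r k.ne_zero) (by omega)
        have h2 : 1 ≤ Fintype.card F ^ (2 * j + 1) := Nat.one_le_pow _ _ Fintype.card_pos
        have h3 : r ∣ 1 := by
          have := (Nat.dvd_sub h1 hjd)
          rwa [Nat.sub_sub_self h2] at this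
        have := Nat.le_of_dvd one_pos h3
        omega
      set i := orderOf ((Fintype.card F : ℕ) : ZMod r) with hi
      have hidvd : i ∣ 2 * j + 1 :=
        (Cfsg.Agent.Lib.H12.PGraph.dvd_pow_sub_one_iff' _ _ Fintype.card_pos _).1 hjd
      have hiodd : Odd i := by
        rcases Nat.even_or_odd i with he | ho
        · exfalso
          have h2 : 2 ∣ 2 * j + 1 := dvd_trans he.two_dvd hidvd
          omega
        · exact ho
      have hile : i ≤ 2 * j + 1 := Nat.le_of_dvd (by omega) hidvd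
      have hi1 : 1 ≤ i := Nat.pos_of_dvd_of_pos hidvd (by omega)
      have hin : i + 1 ≤ n := by omega
      obtain ⟨Λ, hΛr, hΛ1, hΛdet⟩ :=
        Cfsg.Agent.Lib.H12.BGSp.exists_singer_block (F := F) r i hi hi1 hq1
      exact exists_of_core hf r (Cfsg.Agent.Lib.H12.BGSp.blockMat (by omega : i ≤ n) Λ)
        (by rw [Cfsg.Agent.Lib.H12.BGSp.blockMat_det, hΛdet])
        (by rw [Cfsg.Agent.Lib.H12.BGSp.blockMat_pow, hΛr, Cfsg.Agent.Lib.H12.BGSp.blockMat_one])
        (fun z => Cfsg.Agent.Lib.H12.BGSp.blockMat_not_scalar hin Λ hΛ1 z)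
        (fun g hg c hc => Cfsg.Agent.Lib.H12.BGSp.block_core p hin r hrp hi hiodd hq1 Λ hΛr hΛ1
          g hg c hc)

end Cfsg.Agent.S5968
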