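import Cfsg.Statements.S5969
import Cfsg.Agent.Lib.H11.InvK3
import Cfsg.Agent.Lib.H11.InvK6

set_option autoImplicit false
open scoped MatrixGroups
open Cfsg

namespace Cfsg.Agent.S5969

/-- Involutions of PSL_n(q) and extension-field subgroups of degree 2. Here `T = PSL_n(F)` for a field `F` with `q = p^f` elements (`n ≥ 2`, `(n, q) ≠ (2, 2), (2, 3)`), `k` is a prime dividing `n`, `K` is a subalgebra of the `n × n` matrices that is a field of degree `k` over `F` (an extension-field structure F_{q^k} on `F^n`), and `H` is the subgroup of matrices of determinant 1 normalizing `K` — a subgroup of type GL_{n/k}(q^k) (maximal except in some small cases; maximality is not assumed); Ω is the set of cosets of `H` in `T`, so an element of `T` of prime order `r` (a matrix `x` of determinant 1 with `x^r` scalar, `x` not scalar) fixes a point of Ω when some conjugate of `x` by a matrix of determinant 1 normalizes `K`. Take `k = 2` and suppose the index of `H` is even. Then every involution of `T` is conjugate in `T`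 into `H` if and only if `n = 2`, or `q` is odd and `(q − 1)_2 ≤ (n)_2`. -/
theorem result {F : Type*} [Field F] [Fintype F] {p : ℕ} [Fact p.Prime] [CharP F p] {q : ℕ} (hq : Fintype.card F = q)
    (n : ℕ) (hn : 2 ≤ n) (hT : (n, q) ≠ (2, 2) ∧ (n, q) ≠ (2, 3))
    (k : ℕ) (hk : k.Prime) (hkn : k ∣ n) (K : Subalgebra F (Matrix (Fin n) (Fin n) F)) (hK : Cfsg.Geo.IsFieldSubalgebra k K) (hk2 : k = 2) (hΩ : 2 ∣ ((Cfsg.Geo.subalgebraNormalizer K).comap (Matrix.SpecialLinearGroup.toGL : Matrix.SpecialLinearGroup (Fin n) F →* GL (Fin n) F)).index) :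
    (∀ x : Matrix.SpecialLinearGroup (Fin n) F,
      (∃ z : F, ((x ^ 2 : Matrix.SpecialLinearGroup (Fin n) F) : Matrix (Fin n) (Fin n) F) = z • (1 : Matrix (Fin n) (Fin n) F)) →
      (∀ z : F, (x : Matrix (Fin n) (Fin n) F) ≠ z • (1 : Matrix (Fin n) (Fin n) F)) →
      ∃ P : Matrix.SpecialLinearGroup (Fin n) F, P⁻¹ * x * P ∈ ((Cfsg.Geo.subalgebraNormalizer K).comap (Matrix.SpecialLinearGroup.toGL : Matrix.SpecialLinearGroup (Fin n) F →* GL (Fin n) F))) ↔
    (n = 2 ∨ (Odd q ∧ padicValNat 2 (q - 1) ≤ padicValNat 2 n)) := by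
  classical
  subst hq
  subst hk2
  obtain ⟨m, hm⟩ := hkn
  have hn0 : 0 < n := by omega
  constructor
  · intro h
    by_contra hcon
    rw [not_or, not_and_or] at hcon
    obtain ⟨hn2, hcase⟩ := hcon
    have hn3 : 3 ≤ n := by omega
    rcases hcase with hqe | hv
    · -- even `q`: a transvection
      have h20 : (2 : F) = 0 := Cfsg.Agent.Lib.H11.InvCls.two_eq_zero_of_not_odd_card hqe
      have h01 : (⟨0, by omega⟩ : Fin n) ≠ ⟨1, by omega⟩ := by
        intro h'
        have := congrArg Fin.val h'
        simp at this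
      set x0 : Matrix.SpecialLinearGroup (Fin n) F :=
        ⟨Matrix.transvection (⟨0, by omega⟩ : Fin n) ⟨1, by omega⟩ (1 : F),
          Matrix.det_transvection_of_ne _ _ h01 1⟩ with hx0
      have hx0c : (x0 : Matrix (Fin n) (Fin n) F) =
          Matrix.transvection (⟨0, by omega⟩ : Fin n) ⟨1, by omega⟩ (1 : F) := rfl
      obtain ⟨P, hP⟩ := h x0
        ⟨1, by
          rw [Matrix.SpecialLinearGroup.coe_pow, pow_two, hx0c]
          exact Cfsg.Agent.Lib.H11.InvCls.transvection_sq h20 _ _ h01⟩
        (fun z => by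
          rw [hx0c]
          exact Cfsg.Agent.Lib.H11.InvCls.transvection_not_scalar _ _ h01 z)
      refine Cfsg.Agent.Lib.H11.InvCls.rank_one_derangement hn3 hK
        (Pi.single (⟨0, by omega⟩ : Fin n) (1 : F)) (Pi.single (⟨1, by omega⟩ : Fin n) (1 : F))
        ?_ ?_ 1 one_ne_zero x0 P
        (by rw [hx0c]; exact Cfsg.Agent.Lib.H11.InvCls.transvection_eq_rank_one _ _) hP
      · intro h0
        have := congrFun h0 ⟨0, by omega⟩
        simp at this
      · intro h0
        have := congrFun h0 ⟨1, by omega⟩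
        simp at this
    · -- odd `q` with `-1` an `n`-th power
      rw [not_le] at hv
      obtain ⟨l, hl⟩ := Cfsg.Agent.Lib.H11.InvCls.exists_pow_eq_neg_one (F := F) n (by omega) hv
      have h2 : (2 : F) ≠ 0 := by
        apply Cfsg.Agent.Lib.H11.InvCls.two_ne_zero_of_odd_card
        have h5 : 2 ∣ Fintype.card F - 1 := dvd_of_one_le_padicValNat (by omega)
        have h6 : 1 < Fintype.card F := Fintype.one_lt_card
        rw [Nat.odd_iff]
        omega
      have hl0 : l ≠ 0 := by
        intro h0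
        rw [h0, zero_pow (by omega)] at hl
        have : (1 : F) = 0 := by linear_combination hl
        exact one_ne_zero this
      have hev : Even n := ⟨m, by omega⟩
      set x0 : Matrix.SpecialLinearGroup (Fin n) F := ⟨Cfsg.Agent.Lib.H11.InvCls.dmat n l,
        Cfsg.Agent.Lib.H11.InvCls.det_dmat (by omega) hev l hl⟩ with hx0
      have hx0c : (x0 : Matrix (Fin n) (Fin n) F) = Cfsg.Agent.Lib.H11.InvCls.dmat n l := rfl
      obtain ⟨P, hP⟩ := h x0
        ⟨l * l, by
          rw [Matrix.SpecialLinearGroup.coe_pow, pow_two, hx0c]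
          exact Cfsg.Agent.Lib.H11.InvCls.dmat_mul_self l⟩
        (fun z => by
          rw [hx0c]
          exact Cfsg.Agent.Lib.H11.InvCls.dmat_not_scalar h2 (by omega) l hl0 z)
      refine Cfsg.Agent.Lib.H11.InvCls.rank_one_derangement hn3 hK
        ((2 * l) • Pi.single (⟨0, by omega⟩ : Fin n) (1 : F))
        (Pi.single (⟨0, by omega⟩ : Fin n) (1 : F)) ?_ ?_ (-l) (neg_ne_zero.2 hl0) x0 P
        (by rw [hx0c]; exact Cfsg.Agent.Lib.H11.InvCls.dmat_eq_rank_one (by omega) l) hP
      · intro h0
        have := congrFun h0 ⟨0, by omega⟩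
        simp at this
        rcases this with h' | h'
        · exact h2 h'
        · exact hl0 h'
      · intro h0
        have := congrFun h0 ⟨0, by omega⟩
        simp at this
  · rintro hcase x ⟨z, hz⟩ hx2
    have hxx : (x : Matrix (Fin n) (Fin n) F) * (x : Matrix (Fin n) (Fin n) F) =
        z • (1 : Matrix (Fin n) (Fin n) F) := by
      rw [← hz, Matrix.SpecialLinearGroup.coe_pow, pow_two]
    have hz0 : z ≠ 0 := by
      intro h0
      have h1 := congrArg Matrix.det hxx
      rw [Matrix.det_mul, x.det_coe, h0, zero_smul] at h1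
      have : Nonempty (Fin n) := ⟨⟨0, by omega⟩⟩
      rw [Matrix.det_zero] at h1
      norm_num at h1
    have hcent : ∀ d : F, d ≠ 0 → ∃ C : Matrix (Fin n) (Fin n) F,
        C * (x : Matrix (Fin n) (Fin n) F) = (x : Matrix (Fin n) (Fin n) F) * C ∧ C.det = d :=
      fun d _ => Cfsg.Agent.Lib.H11.InvCls.exists_centralizer_det hn0
        (x : Matrix (Fin n) (Fin n) F) z hz0 hxx d
    by_cases hsq : IsSquare z
    · obtain ⟨l, rfl⟩ := hsq
      have hl : l ≠ 0 := by
        rintro rfl
        exact hz0 (by simp)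
      by_cases hn2 : n = 2
      · subst hn2
        exact Cfsg.Agent.Lib.H11.InvCls.conj_normalizer_two hK x l hl hxx hx2 hcent
      · rcases hcase with h | ⟨hodd, hv⟩
        · exact absurd h hn2
        · have h2 : (2 : F) ≠ 0 := Cfsg.Agent.Lib.H11.InvCls.two_ne_zero_of_odd_card hodd
          exact Cfsg.Agent.Lib.H11.InvCls.conj_normalizer_even hn0 m hm hK h2 x l hl hxx
            (Cfsg.Agent.Lib.H11.InvCls.pow_ne_neg_one h2 n (by omega) hv) hcent
    · have h2 : (2 : F) ≠ 0 := Cfsg.Agent.Lib.H11.InvCls.two_ne_zero_of_nonsquare z hsq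
      exact Cfsg.Agent.Lib.H11.InvCls.conj_normalizer_nonsquare hn0 hK h2 x z hsq hxx hcent

end Cfsg.Agent.S5969
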