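import Cfsg.Statements.S5971
import Cfsg.Agent.Lib.H11.Sing9

set_option autoImplicit false
open scoped MatrixGroups
open Cfsg

namespace Cfsg.Agent.S5971

/-- Elements of order 3 of PSL_3(q) and the normalizer of a Singer cycle. Here `T = PSL_n(F)` for a field `F` with `q = p^f` elements (`n ≥ 2`, `(n, q) ≠ (2, 2), (2, 3)`), `k` is a prime dividing `n`, `K` is a subalgebra of the `n × n` matrices that is a field of degree `k` over `F` (an extension-field structure F_{q^k} on `F^n`), and `H` is the subgroup of matrices of determinant 1 normalizing `K` — a subgroup of type GL_{n/k}(q^k) (maximal except in some small cases; maximality is not assumed); Ω is the set of cosets of `H` in `T`, so an element of `T` of prime order `r` (a matrix `x` of determinant 1 with `x^r` scalar, `x` not scalar) fixes a point of Ω when some conjugate of `x` by a matrix of determinant 1 normalizes `K`. Take `n = k = 3` and suppose 3 divides the index of `H`. Then every element of `T` of order 3 is conjugate in `T` into `H` if and only if `q ≡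 4, 7` or `8 (mod 9)`. -/
theorem result {F : Type*} [Field F] [Fintype F] {p : ℕ} [Fact p.Prime] [CharP F p] {q : ℕ} (hq : Fintype.card F = q)
    (n : ℕ) (hn : n = 3) (k : ℕ) (hk : k.Prime) (hkn : k ∣ n) (K : Subalgebra F (Matrix (Fin n) (Fin n) F)) (hK : Cfsg.Geo.IsFieldSubalgebra k K) (hk3 : k = 3) (hΩ : 3 ∣ ((Cfsg.Geo.subalgebraNormalizer K).comap (Matrix.SpecialLinearGroup.toGL : Matrix.SpecialLinearGroup (Fin n) F →* GL (Fin n) F)).index) :
    (∀ x : Matrix.SpecialLinearGroup (Fin n) F,
      (∃ z : F, ((x ^ 3 : Matrix.SpecialLinearGroup (Fin n) F) : Matrix (Fin n) (Fin n) F) = z • (1 : Matrix (Fin n) (Fin n) F)) →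
      (∀ z : F, (x : Matrix (Fin n) (Fin n) F) ≠ z • (1 : Matrix (Fin n) (Fin n) F)) →
      ∃ P : Matrix.SpecialLinearGroup (Fin n) F, P⁻¹ * x * P ∈ ((Cfsg.Geo.subalgebraNormalizer K).comap (Matrix.SpecialLinearGroup.toGL : Matrix.SpecialLinearGroup (Fin n) F →* GL (Fin n) F))) ↔
    (q % 9 = 4 ∨ q % 9 = 7 ∨ q % 9 = 8) := by
  classical
  subst hn
  subst hk3
  subst hq
  by_cases hp3 : p = 3
  · subst hp3
    constructor
    · intro h
      exfalso
      obtain ⟨x, hx3, hxns, hxr⟩ := Cfsg.Agent.Lib.H11.Sing.exists_derangement_char_three (F := F)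
      obtain ⟨P, hP⟩ := h x ⟨1, by rw [Matrix.SpecialLinearGroup.coe_pow, hx3, one_smul]⟩ hxns
      exact Cfsg.Agent.Lib.H11.Sing.not_conj_of_small_rank hK (by norm_num) x hxns 1 hxr P hP
    · intro h
      exfalso
      obtain ⟨f, -, hf⟩ := FiniteField.card F 3
      have h3 : 3 ∣ Fintype.card F := by
        rw [hf]
        exact dvd_pow_self 3 f.ne_zero
      omega
  · have h3p : 3 ≠ p := fun h => hp3 h.symm
    have hq3 : ¬ 3 ∣ Fintype.card F := by
      intro h
      exact Cfsg.Agent.Lib.H11.Sing.card_ne_zero_mod (F := F) (n := 3) h3p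
        ((ZMod.natCast_eq_zero_iff _ _).2 h)
    have hcases : Fintype.card F % 9 = 1 ∨ Fintype.card F % 9 = 2 ∨ Fintype.card F % 9 = 4 ∨
        Fintype.card F % 9 = 5 ∨ Fintype.card F % 9 = 7 ∨ Fintype.card F % 9 = 8 := by omega
    rcases hcases with h1 | h2 | h4 | h5 | h7 | h8
    · -- a derangement
      constructor
      · intro h
        exfalso
        obtain ⟨gen, hgen⟩ := IsCyclic.exists_generator (α := Fˣ)
        have hgo : orderOf gen = Fintype.card F - 1 := by
          rw [orderOf_eq_card_of_forall_mem_zpowers hgen, Nat.card_eq_fintype_card,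
            Fintype.card_units]
        have hq1 : 1 ≤ Fintype.card F := Fintype.card_pos
        obtain ⟨m, hm⟩ : 9 ∣ Fintype.card F - 1 := by omega
        have hm0 : m ≠ 0 := by
          rintro rfl
          have : 1 < Fintype.card F := Fintype.one_lt_card
          omega
        have hso : orderOf (gen ^ m) = 9 := by
          rw [orderOf_pow_of_dvd hm0 (by rw [hgo, hm]; exact Dvd.intro_left 9 rfl), hgo, hm]
          exact Nat.mul_div_cancel _ (Nat.pos_of_ne_zero hm0)
        set s : F := ((gen ^ m : Fˣ) : F) with hs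
        have hs9 : s ^ 9 = 1 := by
          rw [hs, ← Units.val_pow_eq_pow_val, ← hso, pow_orderOf_eq_one, Units.val_one]
        have hs3 : s ^ 3 ≠ 1 := by
          intro h3
          have : (gen ^ m) ^ 3 = 1 := by
            apply Units.ext
            rw [Units.val_pow_eq_pow_val, Units.val_one]
            exact h3
          have := orderOf_dvd_of_pow_eq_one this
          rw [hso] at this
          omega
        obtain ⟨x, ⟨z, hxz⟩, hxns, hxr⟩ :=
          Cfsg.Agent.Lib.H11.Sing.exists_derangement_nine s hs9 hs3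
        obtain ⟨P, hP⟩ := h x ⟨z, by rw [Matrix.SpecialLinearGroup.coe_pow, hxz]⟩ hxns
        exact Cfsg.Agent.Lib.H11.Sing.not_conj_of_small_rank hK (by norm_num) x hxns _ hxr P hP
      · intro h
        omega
    · exact absurd hΩ (Cfsg.Agent.Lib.H11.Sing.not_three_dvd_index (p := p) h3p hK (Or.inl h2))
    · refine ⟨fun _ => Or.inl h4, fun _ x hx hxns => ?_⟩
      obtain ⟨z, hz⟩ := hx
      rw [Matrix.SpecialLinearGroup.coe_pow] at hz
      exact Cfsg.Agent.Lib.H11.Sing.conj_singer_split (p := p) h3p hK (Or.inl h4) x z hz hxns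
    · exact absurd hΩ (Cfsg.Agent.Lib.H11.Sing.not_three_dvd_index (p := p) h3p hK (Or.inr h5))
    · refine ⟨fun _ => Or.inr (Or.inl h7), fun _ x hx hxns => ?_⟩
      obtain ⟨z, hz⟩ := hx
      rw [Matrix.SpecialLinearGroup.coe_pow] at hz
      exact Cfsg.Agent.Lib.H11.Sing.conj_singer_split (p := p) h3p hK (Or.inr h7) x z hz hxns
    · refine ⟨fun _ => Or.inr (Or.inr h8), fun _ x hx hxns => ?_⟩
      obtain ⟨z, hz⟩ := hx
      rw [Matrix.SpecialLinearGroup.coe_pow] at hz
      have hord : orderOf (Fintype.card F : ZMod 3) = 3 - 1 := by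
        have h2 : (Fintype.card F : ZMod 3) = 2 := by
          have := (ZMod.natCast_eq_natCast_iff' (Fintype.card F) 2 3).2 (by omega)
          exact_mod_cast this
        rw [h2]
        show orderOf (2 : ZMod 3) = 2
        exact orderOf_eq_prime (by decide) (by decide)
      exact Cfsg.Agent.Lib.H11.Sing.conj_singer_primitive (p := p) (le_refl 3) h3p hK hord x z hz
        hxns

end Cfsg.Agent.S5971
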