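import Cfsg.Statements.S5979
import Cfsg.Agent.Lib.H11.TensR6
import Cfsg.Agent.Lib.H11.UniR4
import Cfsg.Agent.Lib.H11.InvCls1

set_option autoImplicit false
open scoped MatrixGroups
open Cfsg

namespace Cfsg.Agent.S5979

open Cfsg.Agent.Lib.H11.TensR Cfsg.Agent.Lib.H24.Elus

theorem two_ne_zero_of_ne {F : Type*} [Field F] {p : ℕ} [Fact p.Prime] [CharP F p] (hp2 : p ≠ 2) :
    (2 : F) ≠ 0 := by
  intro h
  have h1 : ((2 : ℕ) : F) = 0 := by exact_mod_cast h
  rw [CharP.cast_eq_zero_iff F p 2] at h1
  exact hp2 ((Nat.prime_dvd_prime_iff_eq Fact.out Nat.prime_two).mp h1)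

/-- Elements of prime order of PSL_n(q) and the stabilizers of tensor decompositions with factors of different dimensions. Here `T = PSL_n(F)` for a field `F` with `q` elements and `n = a·b` with `2 ≤ a < b`; a tensor decomposition `F^n ≅ F^a ⊗ F^b` is given by a bijection `e` of index sets and a change of basis `P`, and `H` is the subgroup of matrices of determinant 1 in its stabilizer (the conjugate by `P` of the group of Kronecker products `g₁ ⊗ g₂`) — a subgroup of type GL_a(q) ⊗ GL_b(q) (maximality is not assumed); Ω is the set of cosets of `H` in `T`, so an element of `T` of prime order `r` (a matrix `x` of determinant 1 with `x^r` scalar, `x` not scalar) fixes a point of Ω exactly when some conjugate of `x` by a matrix of determinant 1 lies in `H`. Let `r` be a prime dividing the index of `H`. Then every element of `T` of order `r` fixes a point of Ω if and only if `r = 2`, `a = 2`, `q` is odd and `(q − 1)_2 ≤ (n)_2` (2-parts). -/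
theorem result {F : Type*} [Field F] [Fintype F] {p : ℕ} [Fact p.Prime] [CharP F p] {q : ℕ} (hq : Fintype.card F = q)
    (n a b : ℕ) (hab : n = a * b) (ha : 2 ≤ a) (hlt : a < b) (e : Fin n ≃ Fin a × Fin b) (P : GL (Fin n) F)
    (r : ℕ) [Fact r.Prime]
    (hΩ : r ∣ (Cfsg.Geo.tensorProductSubgroup a b e P).relIndex (Cfsg.Geo.specialLinear (Fin n) F)) :
    (∀ x ∈ Cfsg.Geo.specialLinear (Fin n) F, (∃ z : F, ((x ^ r : GL (Fin n) F) : Matrix (Fin n) (Fin n) F) = z • (1 : Matrix (Fin n) (Fin n) F)) →
      (∀ z : F, (x : Matrix (Fin n) (Fin n) F) ≠ z • (1 : Matrix (Fin n) (Fin n) F)) →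
      ∃ g ∈ Cfsg.Geo.specialLinear (Fin n) F, g⁻¹ * x * g ∈ Cfsg.Geo.tensorProductSubgroup a b e P) ↔
    (r = 2 ∧ a = 2 ∧ Odd q ∧ padicValNat 2 (q - 1) ≤ padicValNat 2 n) := by
  classical
  have hrP : r.Prime := Fact.out
  have hq2 := two_le_card (F := F) hq
  have hn6 : 2 * 3 ≤ a * b := Nat.mul_le_mul ha (by omega)
  constructor
  · intro hall
    have hder : IsDer e P r → False := by
      rintro ⟨x, hx, h1, h2, h3⟩
      obtain ⟨g, hg, hg'⟩ := hall x hx h1 h2
      exact h3 g hg hg'
    by_cases hrp : r = p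
    · exfalso
      subst hrp
      exact hder (der_transvection r hab ha hlt.le e P)
    by_cases hr2 : r = 2
    · have hp2 : p ≠ 2 := fun h => hrp (hr2.trans h.symm)
      have h2F : (2 : F) ≠ 0 := two_ne_zero_of_ne hp2
      have hodd : Odd q := by
        obtain ⟨f, -, hf⟩ := FiniteField.card F p
        rw [← hq, hf]
        exact ((Fact.out : p.Prime).odd_of_ne_two hp2).pow
      subst hr2
      refine ⟨rfl, ?_, hodd, ?_⟩
      · by_contra ha2
        exact hder (der_neg_two h2F hab (by omega) hlt.le e P)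
      · by_contra hv
        push Not at hv
        obtain ⟨μ, hμ⟩ := Cfsg.Agent.Lib.H11.InvCls.exists_pow_eq_neg_one (F := F) n (by omega)
          (by rwa [hq])
        exact hder (der_mu h2F hab ha hlt.le e P μ hμ)
    · exfalso
      have hrq : ¬ r ∣ q := by
        obtain ⟨f, -, hf⟩ := FiniteField.card F p
        rw [← hq, hf]
        intro h
        have h1 := hrP.dvd_of_dvd_pow h
        exact hrp ((Nat.prime_dvd_prime_iff_eq hrP Fact.out).mp h1)
      have hrqF : ¬ r ∣ Fintype.card F := by rw [hq]; exact hrq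
      have hq0 : (q : ZMod r) ≠ 0 := by
        rw [Ne, ZMod.natCast_eq_zero_iff]
        exact hrq
      have hfin : IsOfFinOrder (q : ZMod r) := by
        rw [isOfFinOrder_iff_pow_eq_one]
        exact ⟨r - 1, by have := hrP.two_le; omega, ZMod.pow_card_sub_one_eq_one hq0⟩
      have hipos : 0 < orderOf (q : ZMod r) := orderOf_pos_iff.mpr hfin
      by_cases hi2 : 2 ≤ orderOf (q : ZMod r)
      · have hin : orderOf (q : ZMod r) ≤ n := by
          obtain ⟨j, hj2, hjn, hj⟩ := Cfsg.Agent.Lib.H11.UniR.exists_dvd_of_dvd_relIndex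
            (by omega) r hrqF _ hΩ
          rw [hq] at hj
          have := (order_dvd_of_dvd_pow_sub_one (F := F) hq r j (by omega) hj).2
          exact (Nat.le_of_dvd (by omega) this).trans hjn
        exact hder (der_single hq hab ha hlt e P r hrp hi2 hin)
      · have hi1 : orderOf (q : ZMod r) = 1 := by omega
        have hrq1 : r ∣ q - 1 := (order_eq_one_iff q r (by omega)).mp hi1
        exact hder (der_order_one hab ha hlt e P r hr2 (by rwa [hq]))
  · rintro ⟨hr2, ha2, hodd, hv⟩
    subst hr2
    subst ha2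
    intro x hx hz hns
    obtain ⟨z, hz⟩ := hz
    have hp2 : p ≠ 2 := by
      rintro rfl
      obtain ⟨f, -, hf⟩ := FiniteField.card F 2
      rw [hq] at hf
      rw [hf] at hodd
      have hf0 : (f : ℕ) ≠ 0 := f.2.ne'
      exact (Nat.not_even_iff_odd.mpr hodd) (Nat.even_pow.mpr ⟨even_two, hf0⟩)
    have h2F : (2 : F) ≠ 0 := two_ne_zero_of_ne hp2
    have hpow : ∀ μ : F, μ ^ n ≠ -1 :=
      Cfsg.Agent.Lib.H11.InvCls.pow_ne_neg_one h2F n (by omega) (by rwa [hq])
    refine conj_mem_of_sq h2F hab (by omega) hpow e P x hx z ?_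
    rw [← pow_two, ← Units.val_pow_eq_pow_val]
    exact hz

end Cfsg.Agent.S5979
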