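import Cfsg.Statements.S5980
import Cfsg.Agent.Lib.H11.SpTen8
import Cfsg.Agent.Lib.H11.SpTen9
import Cfsg.Agent.Lib.H11.SpTen13
import Cfsg.Agent.Lib.H23.SpUP

set_option autoImplicit false
open scoped MatrixGroups
open Cfsg

namespace Cfsg.Agent.S5980

/-- Elements of prime order of PSp_n(q), q odd, and the stabilizers of tensor decompositions Sp_a(q) ⊗ O_b(q). Here `T = PSp_{2d}(F)` for a field `F` with `q` elements, `q` odd, `d ≥ 2`, realised through the matrices preserving the standard alternating form `f`; `2d = a·b` with `a` even, `b ≥ 3`, and the bijection `e` and change of basis `P` exhibit `f` as a non-zero scalar multiple of the tensor product of a non-degenerate alternating form `f₁` on `F^a` and a non-degenerate symmetric bilinear form `f₂` on `F^b`; `H` is the subgroup of `T` stabilizing this tensor decomposition (the elements of `T` in the conjugate by `P` of the group of Kronecker products) — a subgroup of type Sp_a(q) ⊗ O^ε_b(q) (maximality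 is not assumed). Ω is the set of cosets of `H` in `T`, so an element of `T` of prime order `r` (`x ∈ T` with `x^r` scalar, `x` not scalar) fixes a point of Ω exactly when some `T`-conjugate of `x` lies in `H`. Let `r` be a prime dividing the index of `H`. Then every element of `T` of order `r` fixes a point of Ω if and only if `r = 2` and `a = 2`. -/
theorem result {F : Type*} [Field F] [Fintype F] {p : ℕ} [Fact p.Prime] [CharP F p] {q : ℕ} (hq : Fintype.card F = q)
    (hodd : Odd q) (d : ℕ) (hd : 2 ≤ d) (a b : ℕ) (hab : 2 * d = a * b) (ha : Even a) (ha2 : 2 ≤ a) (hb : 3 ≤ b)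
    (e : (Fin d ⊕ Fin d) ≃ Fin a × Fin b) (P : GL (Fin d ⊕ Fin d) F)
    (f₁ : (Fin a → F) → (Fin a → F) → F) (f₂ : (Fin b → F) → (Fin b → F) → F)
    (hf₁ : Cfsg.Geo.IsSymplecticForm f₁) (hf₂ : Cfsg.Geo.IsSymmetricForm f₂)
    (hS : Cfsg.Geo.IsTensorFormStructure id (Cfsg.sympForm d F) f₁ f₂ e P)
    (r : ℕ) [Fact r.Prime]
    (hΩ : r ∣ (Cfsg.Geo.tensorProductSubgroup a b e P).relIndex (Cfsg.spGL d F)) :
    (∀ x ∈ Cfsg.spGL d F, (∃ z : F, ((x ^ r : GL (Fin d ⊕ Fin d) F) : Matrix (Fin d ⊕ Fin d) (Fin d ⊕ Fin d) F) = z • (1 : Matrix (Fin d ⊕ Fin d) (Fin d ⊕ Fin d) F)) →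
      (∀ z : F, (x : Matrix (Fin d ⊕ Fin d) (Fin d ⊕ Fin d) F) ≠ z • (1 : Matrix (Fin d ⊕ Fin d) (Fin d ⊕ Fin d) F)) →
      ∃ g ∈ Cfsg.spGL d F, g⁻¹ * x * g ∈ Cfsg.Geo.tensorProductSubgroup a b e P) ↔ (r = 2 ∧ a = 2) := by
  classical
  have hr : r.Prime := Fact.out
  have h2 : (2 : F) ≠ 0 := Cfsg.Agent.Lib.H23.SpU.two_ne_zero_of_odd hq hodd
  have hoddc : Fintype.card F % 2 = 1 := by
    rw [hq]
    exact Nat.odd_iff.mp hodd
  constructor
  · intro hall
    by_cases hrp : r = p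
    · exfalso
      obtain ⟨x, hx, hxp, hx1, hxf⟩ :=
        Cfsg.Agent.Lib.H11.SpTen.der_transvection (F := F) (d := d) (a := a) (b := b) (by omega)
          hab ha2 (by omega) e P p
      obtain ⟨g, -, hg⟩ := hall x hx ⟨1, by rw [hrp, hxp, one_smul]⟩ hx1
      exact hxf g hg
    · by_cases hr2 : r = 2
      · refine ⟨hr2, ?_⟩
        by_contra ha2'
        have ha3 : 3 ≤ a := by omega
        obtain ⟨x, hx, hxp, hx1, hxf⟩ :=
          Cfsg.Agent.Lib.H11.SpTen.der_involution (F := F) h2 hd hab ha3 hb e P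
        obtain ⟨g, -, hg⟩ := hall x hx ⟨1, by rw [hr2, hxp, one_smul]; rfl⟩ hx1
        exact hxf g hg
      · exfalso
        obtain ⟨x, hx, hxp, hx1, hxf⟩ :=
          Cfsg.Agent.Lib.H11.SpTen.der_semisimple (p := p) hq r hrp hr2 (by omega) hab ha2 hb ha
            e P hΩ
        obtain ⟨g, -, hg⟩ := hall x hx ⟨1, by rw [hxp, one_smul]; rfl⟩ hx1
        exact hxf g hg
  · rintro ⟨rfl, rfl⟩
    obtain ⟨c, hc, hT⟩ := hS
    intro x hx ⟨z, hz⟩ _
    have hxx : (x : Matrix (Fin d ⊕ Fin d) (Fin d ⊕ Fin d) F) *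
        (x : Matrix (Fin d ⊕ Fin d) (Fin d ⊕ Fin d) F) = z • 1 := by
      rw [← hz, Units.val_pow_eq_pow_val, pow_two]
    -- `z = ± 1`
    obtain ⟨u, v, huv⟩ := Cfsg.Agent.Lib.H23.SpU.exists_form_ne_zero (F := F) (d := d) (by omega)
    have hiso := (Cfsg.Agent.Lib.H23.SpU.mem_spGL_iff x).mp hx
    have h1 := hiso (Matrix.mulVec (x : Matrix (Fin d ⊕ Fin d) (Fin d ⊕ Fin d) F) u)
      (Matrix.mulVec (x : Matrix (Fin d ⊕ Fin d) (Fin d ⊕ Fin d) F) v)
    rw [hiso u v, Matrix.mulVec_mulVec, Matrix.mulVec_mulVec, hxx, Matrix.smul_mulVec,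
      Matrix.smul_mulVec, Matrix.one_mulVec, Matrix.one_mulVec] at h1
    have hsm : Cfsg.sympForm d F (z • u) (z • v) = z * z * Cfsg.sympForm d F u v := by
      rw [← Cfsg.Agent.Lib.H13.SpInvolCount.sympB_apply,
        ← Cfsg.Agent.Lib.H13.SpInvolCount.sympB_apply, map_smul, map_smul, LinearMap.smul_apply,
        smul_eq_mul, smul_eq_mul, mul_assoc]
    have h3 : z * z * Cfsg.sympForm d F u v = Cfsg.sympForm d F u v := hsm.symm.trans h1
    have h4 : (z - 1) * (z + 1) = 0 := by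
      have h5 : (z * z - 1) * Cfsg.sympForm d F u v = 0 := by
        rw [sub_mul, h3, one_mul, sub_self]
      rcases mul_eq_zero.mp h5 with h6 | h6
      · rw [← h6]; ring
      · exact absurd h6 huv
    rcases mul_eq_zero.mp h4 with h5 | h5
    · have hz1 : z = 1 := sub_eq_zero.mp h5
      rw [hz1] at hxx
      exact Cfsg.Agent.Lib.H11.SpTen.conj_one h2 e P hf₁ hf₂ c hc hT x hx hxx
    · have hz1 : z = -1 := eq_neg_of_add_eq_zero_left h5
      rw [hz1] at hxx
      exact Cfsg.Agent.Lib.H11.SpTen.conj_neg_one hoddc h2 e P hf₁ hf₂.bilinear c hT x hx hxx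

end Cfsg.Agent.S5980
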