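import Cfsg.Statements.S5981
import Cfsg.Agent.Lib.H11.OrtR10

set_option autoImplicit false
open scoped MatrixGroups
open Cfsg

namespace Cfsg.Agent.S5981

open Cfsg.Agent.Lib.H11.SubfR Cfsg.Agent.Lib.H11.UniR Cfsg.Agent.Lib.H11.OrtR Cfsg.Agent.Lib.H13
  Cfsg.Agent.Lib.H24.Elus

section main

variable {F : Type*} [Field F] [Fintype F] {q : ℕ}

theorem two_ne_zero_of_odd (p : ℕ) [Fact p.Prime] [CharP F p] (hq : Fintype.card F = q) (hodd : Odd q) : (2 : F) ≠ 0 := by
  intro h
  have h1 : ((2 : ℕ) : F) = 0 := by exact_mod_cast h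
  rw [CharP.cast_eq_zero_iff F p 2] at h1
  have hp2 : p = 2 := (Nat.prime_dvd_prime_iff_eq Fact.out Nat.prime_two).mp h1
  have h3 : p ∣ q := p_dvd_card (F := F) (p := p) hq
  rw [hp2] at h3
  exact (Nat.not_even_iff_odd.mpr hodd) (even_iff_two_dvd.mpr h3)

theorem forward (p : ℕ) [Fact p.Prime] [CharP F p] (hq : Fintype.card F = q)
    (hodd : Odd q) (n : ℕ) (hn : 3 ≤ n) (Q : (Fin n → F) → F)
    (hQ : Cfsg.Geo.IsNondegenerateQuadraticForm Q)
    (r : ℕ) [Fact r.Prime] (hgap : ¬ (n = 6 ∧ r = 3))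
    (hΩ : r ∣ (Cfsg.Geo.quadSimilarityGroup Q).relIndex (Cfsg.Geo.specialLinear (Fin n) F))
    (hall : ∀ x ∈ Cfsg.Geo.specialLinear (Fin n) F, (∃ z : F, ((x ^ r : GL (Fin n) F) : Matrix (Fin n) (Fin n) F) = z • (1 : Matrix (Fin n) (Fin n) F)) →
      (∀ z : F, (x : Matrix (Fin n) (Fin n) F) ≠ z • (1 : Matrix (Fin n) (Fin n) F)) →
      ∃ g ∈ Cfsg.Geo.specialLinear (Fin n) F, g⁻¹ * x * g ∈ Cfsg.Geo.quadSimilarityGroup Q) :
    (r = 2 ∨ ((r = 3 ∨ r = 5) ∧ n = r ∧ padicValNat r (q - 1) = 1)) := by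
  classical
  have hrP : r.Prime := Fact.out
  have h2 : (2 : F) ≠ 0 := two_ne_zero_of_odd p hq hodd
  have hq2 := two_le_card (F := F) hq
  have hder : (∃ x ∈ Cfsg.Geo.specialLinear (Fin n) F,
      (∃ z : F, ((x ^ r : GL (Fin n) F) : Matrix (Fin n) (Fin n) F) =
        z • (1 : Matrix (Fin n) (Fin n) F)) ∧
      (∀ z : F, (x : Matrix (Fin n) (Fin n) F) ≠ z • (1 : Matrix (Fin n) (Fin n) F)) ∧
      ∀ g ∈ Cfsg.Geo.specialLinear (Fin n) F,
        g⁻¹ * x * g ∉ Cfsg.Geo.quadSimilarityGroup Q) → False := by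
    rintro ⟨x, hx, h1, h2, h3⟩
    obtain ⟨g, hg, hg'⟩ := hall x hx h1 h2
    exact h3 g hg hg'
  by_contra hcon
  rw [not_or] at hcon
  obtain ⟨hr2, hspecial⟩ := hcon
  by_cases hrp : r = p
  · -- transvections
    have h := der_transvection (Q := Q) p hQ h2 (by omega : 2 ≤ n)
    rw [← hrp] at h
    exact hder h
  · have hrq : ¬ r ∣ q := not_dvd_card'' (p := p) hq r hrp
    have hrqF : ¬ r ∣ Fintype.card F := by rw [hq]; exact hrq
    set s : ZMod r := (q : ZMod r) with hs
    have hs0 : s ≠ 0 := by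
      rw [hs, Ne, ZMod.natCast_eq_zero_iff]
      exact hrq
    have hsfin : IsOfFinOrder s := by
      rw [isOfFinOrder_iff_pow_eq_one]
      exact ⟨r - 1, by have := hrP.two_le; omega, ZMod.pow_card_sub_one_eq_one hs0⟩
    have hi0 : 0 < orderOf s := orderOf_pos_iff.mpr hsfin
    by_cases hi1 : orderOf s = 1
    · -- `r ∣ q - 1`
      have hdq : r ∣ q - 1 := (order_eq_one_iff q r (by omega)).mp hi1
      have hrq1 : r ∣ Fintype.card F - 1 := by rw [hq]; exact hdq
      have hD3 : n = r → padicValNat r (q - 1) ≠ 1 → False := by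
        intro hnr hv
        have hv1 := one_le_padicValNat_of_dvd (by omega : q - 1 ≠ 0) hdq
        have hv2 : 2 ≤ padicValNat r (q - 1) := by omega
        have hrr : r ^ 2 ∣ q - 1 := (padicValNat_dvd_iff_le (by omega)).mpr hv2
        exact hder (der_D3 hQ h2 r hr2 (by rw [hq]; exact hrr) hnr)
      by_cases hr3 : r = 3
      · by_cases hn3' : n = 3
        · apply hD3 (by omega)
          intro hv
          exact hspecial ⟨Or.inl hr3, by omega, hv⟩
        · have hn6 : n ≠ 6 := fun h => hgap ⟨h, hr3⟩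
          exact hder (der_D2' hQ h2 r hr3 hrq1 (by omega) hn6)
      · by_cases h55 : n = 5 ∧ r = 5
        · apply hD3 (by omega)
          intro hv
          exact hspecial ⟨Or.inr h55.2, by omega, hv⟩
        · exact hder (der_D2 hQ h2 r hr2 hr3 hrq1 hn h55)
    · have hi2 : 2 ≤ orderOf s := by omega
      rcases Nat.even_or_odd (orderOf s) with hev | hodd'
      · exact hder (der_even (p := p) hq hodd hn hQ h2 r hr2 hrp hev hΩ)
      · have hin : orderOf s ≤ n := by
          obtain ⟨j, hj2, hjn, hj⟩ := exists_dvd_of_dvd_relIndex (by omega) r hrqF _ hΩ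
          rw [hq] at hj
          have := (order_dvd_of_dvd_pow_sub_one (F := F) (p := p) hq r j (by omega) hj).2
          exact (Nat.le_of_dvd (by omega) this).trans hjn
        exact hder (der_single (p := p) hq hQ h2 r hrp hr2 hi2 hodd' hin)

theorem backward (p : ℕ) [Fact p.Prime] [CharP F p] (hq : Fintype.card F = q)
    (hodd : Odd q) (n : ℕ) (hn : 3 ≤ n) (Q : (Fin n → F) → F)
    (hQ : Cfsg.Geo.IsNondegenerateQuadraticForm Q)
    (r : ℕ) [Fact r.Prime]
    (h : r = 2 ∨ ((r = 3 ∨ r = 5) ∧ n = r ∧ padicValNat r (q - 1) = 1))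
    (x : GL (Fin n) F) (hx : x ∈ Cfsg.Geo.specialLinear (Fin n) F)
    (hxz : ∃ z : F, ((x ^ r : GL (Fin n) F) : Matrix (Fin n) (Fin n) F) = z • (1 : Matrix (Fin n) (Fin n) F)) :
    ∃ g ∈ Cfsg.Geo.specialLinear (Fin n) F, g⁻¹ * x * g ∈ Cfsg.Geo.quadSimilarityGroup Q := by
  have hrP : r.Prime := Fact.out
  have h2 : (2 : F) ≠ 0 := two_ne_zero_of_odd p hq hodd
  have hq2 := two_le_card (F := F) hq
  have hn0 : 0 < n := by omega
  have hdet : (x : Matrix (Fin n) (Fin n) F).det = 1 :=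
    (Cfsg.Agent.Lib.H28.mem_specialLinear_iff x).mp hx
  obtain ⟨z, hz⟩ := hxz
  rw [Units.val_pow_eq_pow_val] at hz
  have hz0 : z ≠ 0 := ne_zero_of_pow_smul hn0 _ hdet r z hz
  rcases h with hr2 | ⟨hr35, hnr, hv⟩
  · subst hr2
    have hxx : (x : Matrix (Fin n) (Fin n) F) * (x : Matrix (Fin n) (Fin n) F) = z • 1 := by
      rw [← pow_two, hz]
    exact conj_qsim_two hQ h2 hn0 x hx z hxx
  · have hr2 : r ≠ 2 := by
      rcases hr35 with h | h <;> omega
    have hdq : r ∣ q - 1 := dvd_of_one_le_padicValNat (by omega)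
    have hrq1 : r ∣ Fintype.card F - 1 := by rw [hq]; exact hdq
    have hpow : ∃ μ : F, μ ^ r = z := by
      by_contra hpow
      push Not at hpow
      refine false_of_det_one hq r n hn0 _ hdet z hz hpow ?_ (fun h => absurd h hr2)
      rw [hnr, padicValNat_self, hv]
    obtain ⟨μ, hμ⟩ := hpow
    have hμ0 : μ ≠ 0 := by
      rintro rfl
      rw [zero_pow hrP.ne_zero] at hμ
      exact hz0 hμ.symm
    have hzr : z ^ r = 1 := by
      have h1 := congrArg Matrix.det hz
      rw [Matrix.det_pow, hdet, one_pow, Matrix.det_smul, Matrix.det_one, mul_one,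
        Fintype.card_fin, hnr] at h1
      exact h1.symm
    have hz1 : z = 1 := by
      rw [← hμ]
      have h1 : μ ^ (r ^ 2) = 1 := by rw [pow_two, pow_mul, hμ, hzr]
      have h2 : μ ^ (Fintype.card F - 1) = 1 := FiniteField.pow_card_sub_one_eq_one μ hμ0
      have h3 := pow_gcd_eq_one.mpr ⟨h1, h2⟩
      have h4 : Nat.gcd (r ^ 2) (Fintype.card F - 1) ∣ r := by
        obtain ⟨b, hb, hgb⟩ := (Nat.dvd_prime_pow hrP).mp (Nat.gcd_dvd_left (r ^ 2)
          (Fintype.card F - 1))
        rw [hgb]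
        have hb2 : b ≠ 2 := by
          rintro rfl
          have h5 : r ^ 2 ∣ Fintype.card F - 1 := by
            rw [← hgb]; exact Nat.gcd_dvd_right _ _
          rw [hq] at h5
          have := (padicValNat_dvd_iff_le (by omega)).mp h5
          omega
        have hb1 : b ≤ 1 := by omega
        calc r ^ b ∣ r ^ 1 := pow_dvd_pow r hb1
          _ = r := pow_one r
      obtain ⟨c, hc⟩ := h4
      rw [hc, pow_mul, h3, one_pow]
    rw [hz1, one_smul] at hz
    exact conj_qsim_special hQ h2 r hr35 hrq1 hnr x hx hz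

end main

/-- Elements of prime order of PSL_n(q), q odd, and the subgroups of orthogonal type. Here `T = PSL_n(F)` for a field `F` with `q` elements, `q` odd, `n ≥ 3`; `Q` is a non-degenerate quadratic form on `F^n` (of either type when `n` is even) and `H` is the subgroup of matrices of determinant 1 that preserve `Q` up to a scalar — a subgroup of type O^ε_n(q) (maximality is not assumed); Ω is the set of cosets of `H` in `T`, so an element of `T` of prime order `r` (a matrix `x` of determinant 1 with `x^r` scalar, `x` not scalar) fixes a point of Ω exactly when some conjugate of `x` by a matrix of determinant 1 preserves `Q` up to a scalar. Let `r` be a prime dividing the index of `H`, with `(n, r) ≠ (6, 3)`. Then every element of `T` of order `r` fixes a point of Ω if and only if `r = 2`, or `r ∈ {3, 5}`, `n = r` and `(q − 1)_r = r` (the `r`-part of `q − 1` is exactly `r`). The case `(n, r) = (6, 3)` is not covered by this statement. -/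
theorem result {F : Type*} [Field F] [Fintype F] {p : ℕ} [Fact p.Prime] [CharP F p] {q : ℕ} (hq : Fintype.card F = q)
    (hodd : Odd q) (n : ℕ) (hn : 3 ≤ n) (Q : (Fin n → F) → F) (hQ : Cfsg.Geo.IsNondegenerateQuadraticForm Q)
    (r : ℕ) [Fact r.Prime] (hgap : ¬ (n = 6 ∧ r = 3))
    (hΩ : r ∣ (Cfsg.Geo.quadSimilarityGroup Q).relIndex (Cfsg.Geo.specialLinear (Fin n) F)) :
    (∀ x ∈ Cfsg.Geo.specialLinear (Fin n) F, (∃ z : F, ((x ^ r : GL (Fin n) F) : Matrix (Fin n) (Fin n) F) = z • (1 : Matrix (Fin n) (Fin n) F)) →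
      (∀ z : F, (x : Matrix (Fin n) (Fin n) F) ≠ z • (1 : Matrix (Fin n) (Fin n) F)) →
      ∃ g ∈ Cfsg.Geo.specialLinear (Fin n) F, g⁻¹ * x * g ∈ Cfsg.Geo.quadSimilarityGroup Q) ↔
    (r = 2 ∨ ((r = 3 ∨ r = 5) ∧ n = r ∧ padicValNat r (q - 1) = 1)) := by
  constructor
  · intro hall
    exact forward p hq hodd n hn Q hQ r hgap hΩ hall
  · intro h x hx hxz _
    exact backward p hq hodd n hn Q hQ r h x hx hxz

end Cfsg.Agent.S5981
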