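import Cfsg.Statements.S5982
import Cfsg.Agent.Lib.H11.UniR10

set_option autoImplicit false
open scoped MatrixGroups
open Cfsg

namespace Cfsg.Agent.S5982

open Cfsg.Agent.Lib.H11.SubfR Cfsg.Agent.Lib.H11.UniR Cfsg.Agent.Lib.H13 Cfsg.Agent.Lib.H13.AutPSU
  Cfsg.Agent.Lib.H24.Elus

theorem dvd_pow_sub_one_iff' (r : ℕ) (a j : ℕ) (ha : 1 ≤ a) :
    r ∣ a ^ j - 1 ↔ (a : ZMod r) ^ j = 1 := by
  have h1 : 1 ≤ a ^ j := Nat.one_le_pow _ _ ha
  rw [← ZMod.natCast_eq_zero_iff, Nat.cast_sub h1, Nat.cast_pow, Nat.cast_one, sub_eq_zero]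

theorem dvd_pow_add_one_iff (r : ℕ) (a j : ℕ) :
    r ∣ a ^ j + 1 ↔ (a : ZMod r) ^ j = -1 := by
  rw [← ZMod.natCast_eq_zero_iff, Nat.cast_add, Nat.cast_pow, Nat.cast_one,
    eq_neg_iff_add_eq_zero]

theorem sq_sub_one (a : ℕ) (ha : 1 ≤ a) : a ^ 2 - 1 = (a - 1) * (a + 1) := by
  obtain ⟨t, rfl⟩ : ∃ t, a = t + 1 := ⟨a - 1, by omega⟩
  simp only [Nat.add_sub_cancel]
  have : (t + 1) ^ 2 = t * (t + 1 + 1) + 1 := by ring
  omega

section main

variable {F : Type*} [Field F] [Fintype F] {p : ℕ} [Fact p.Prime] [CharP F p] {q : ℕ}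

theorem not_dvd_card' (hq : Fintype.card F = q) (r : ℕ) [Fact r.Prime] (hrp : r ≠ p) : ¬ r ∣ q := by
  obtain ⟨f, -, hf⟩ := FiniteField.card F p
  rw [← hq, hf]
  intro h
  have h1 := (Fact.out : r.Prime).dvd_of_dvd_pow h
  exact hrp ((Nat.prime_dvd_prime_iff_eq Fact.out Fact.out).mp h1)

theorem two_ne_zero_of_ne (hp2 : p ≠ 2) : (2 : F) ≠ 0 := by
  intro h
  have h1 : ((2 : ℕ) : F) = 0 := by exact_mod_cast h
  rw [CharP.cast_eq_zero_iff F p 2] at h1
  exact hp2 ((Nat.prime_dvd_prime_iff_eq Fact.out Nat.prime_two).mp h1)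

theorem forward (hq : Fintype.card F = q) (q₀ : ℕ) (hq₀ : q = q₀ ^ 2) (n : ℕ) (hn : 3 ≤ n)
    (f : (Fin n → F) → (Fin n → F) → F) (hf : Cfsg.Geo.IsUnitaryFormPow q₀ f)
    (D : UF F q₀) (a : ℕ) (ha : q₀ = p ^ a)
    (r : ℕ) [Fact r.Prime] (hr : r = 2 ∨ r ≠ p) (hgap : ¬ (n = 6 ∧ r = 3))
    (hΩ : r ∣ (Cfsg.Geo.similarityGroup f).relIndex (Cfsg.Geo.specialLinear (Fin n) F))
    (hall : ∀ x ∈ Cfsg.Geo.specialLinear (Fin n) F, (∃ z : F, ((x ^ r : GL (Fin n) F) : Matrix (Fin n) (Fin n) F) = z • (1 : Matrix (Fin n) (Fin n) F)) →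
      (∀ z : F, (x : Matrix (Fin n) (Fin n) F) ≠ z • (1 : Matrix (Fin n) (Fin n) F)) →
      ∃ g ∈ Cfsg.Geo.specialLinear (Fin n) F, g⁻¹ * x * g ∈ Cfsg.Geo.similarityGroup f) :
    ((r = 2 ∧ (p = 2 ∨ padicValNat 2 n ≤ padicValNat 2 (q - 1))) ∨ ((r = 3 ∨ r = 5) ∧ n = r ∧ padicValNat r (q₀ - 1) = 1)) := by
  classical
  have hrP : r.Prime := Fact.out
  have hF : Fintype.card F = q₀ ^ 2 := by rw [hq, hq₀]
  have hq₀2 : 2 ≤ q₀ := Cfsg.Agent.Lib.H2.Herm.two_le_q hF
  have hq2 := two_le_card (F := F) hq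
  -- a derangement contradicts the hypothesis
  have hder : (∃ x ∈ Cfsg.Geo.specialLinear (Fin n) F,
      (∃ z : F, ((x ^ r : GL (Fin n) F) : Matrix (Fin n) (Fin n) F) =
        z • (1 : Matrix (Fin n) (Fin n) F)) ∧
      (∀ z : F, (x : Matrix (Fin n) (Fin n) F) ≠ z • (1 : Matrix (Fin n) (Fin n) F)) ∧
      ∀ g ∈ Cfsg.Geo.specialLinear (Fin n) F,
        g⁻¹ * x * g ∉ Cfsg.Geo.similarityGroup f) → False := by
    rintro ⟨x, hx, h1, h2, h3⟩
    obtain ⟨g, hg, hg'⟩ := hall x hx h1 h2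
    exact h3 g hg hg'
  by_cases hr2 : r = 2
  · -- involutions
    refine Or.inl ⟨hr2, ?_⟩
    by_contra hcon
    rw [not_or] at hcon
    obtain ⟨hp2, hv⟩ := hcon
    have h2 : (2 : F) ≠ 0 := two_ne_zero_of_ne hp2
    have hodd : Odd q₀ := by
      rw [ha]
      exact ((Fact.out : p.Prime).odd_of_ne_two hp2).pow
    subst hr2
    exact hder (der_nonsquare D hq hF hf (by omega) h2 hodd hv)
  · -- odd `r ≠ p`
    have hrp : r ≠ p := hr.resolve_left hr2
    refine Or.inr ?_
    by_contra hspecial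
    have hrq : ¬ r ∣ q := not_dvd_card' hq r hrp
    have hrqF : ¬ r ∣ Fintype.card F := by rw [hq]; exact hrq
    have hrq₀ : ¬ r ∣ q₀ := fun h => hrq (by rw [hq₀]; exact h.trans (dvd_pow_self _ two_ne_zero))
    set s : ZMod r := (q₀ : ZMod r) with hs
    have hs0 : s ≠ 0 := by
      rw [hs, Ne, ZMod.natCast_eq_zero_iff]
      exact hrq₀
    set u : ZMod r := -s with hu
    have hu0 : u ≠ 0 := neg_ne_zero.mpr hs0
    have hqu : (q : ZMod r) = u ^ 2 := by
      rw [hq₀, Nat.cast_pow, hu, neg_sq]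
    have hufin : IsOfFinOrder u := by
      rw [isOfFinOrder_iff_pow_eq_one]
      exact ⟨r - 1, by have := hrP.two_le; omega, ZMod.pow_card_sub_one_eq_one hu0⟩
    have hdpos : 0 < orderOf u := orderOf_pos_iff.mpr hufin
    have hi : orderOf (q : ZMod r) = orderOf u / Nat.gcd (orderOf u) 2 := by
      rw [hqu]
      exact orderOf_pow' u two_ne_zero
    have h2' := zmod_two_ne_zero (r := r) hr2
    rcases (Nat.dvd_prime Nat.prime_two).mp (Nat.gcd_dvd_right (orderOf u) 2) with hg | hg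
    · -- `ord u` odd: `r` does not divide the index
      have hcop : Nat.Coprime (orderOf u) 2 := hg
      have hneg : ∀ j : ℕ, u ^ j ≠ -1 := by
        intro j hj
        have h1 : u ^ (2 * j) = 1 := by rw [mul_comm, pow_mul, hj, neg_one_sq]
        have h3 := orderOf_dvd_of_pow_eq_one h1
        have h4 : orderOf u ∣ j := hcop.dvd_of_dvd_mul_left h3
        have h5 := orderOf_dvd_iff_pow_eq_one.mp h4
        rw [hj] at h5
        apply h2'
        linear_combination -h5
      refine not_dvd_relIndex D hf hF (by omega) r hrq₀ ?_ hΩ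
      intro i' _
      have hpow1 : 1 ≤ q₀ ^ (i' + 2) := Nat.one_le_pow _ _ (by omega)
      have hfac : Fintype.card F ^ (i' + 2) - 1 = (q₀ ^ (i' + 2) - 1) * (q₀ ^ (i' + 2) + 1) := by
        rw [hF, ← pow_mul, mul_comm, pow_mul]
        exact sq_sub_one _ hpow1
      have hne1 : q₀ ^ (i' + 2) - 1 ≠ 0 := by
        have : 2 ≤ q₀ ^ (i' + 2) := by
          calc 2 ≤ q₀ := hq₀2
            _ = q₀ ^ 1 := (pow_one _).symm
            _ ≤ q₀ ^ (i' + 2) := Nat.pow_le_pow_right (by omega) (by omega)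
        omega
      rw [hfac, padicValNat.mul hne1 (by omega)]
      have hupow : u ^ (i' + 2) = (-1) ^ (i' + 2) * s ^ (i' + 2) := by
        rw [hu, neg_pow]
      by_cases hev : Even (i' + 1)
      · rw [if_pos hev]
        have hodd : Odd (i' + 2) := hev.add_one
        have : ¬ r ∣ q₀ ^ (i' + 2) - 1 := by
          intro hd
          rw [dvd_pow_sub_one_iff' r q₀ _ (by omega), ← hs] at hd
          apply hneg (i' + 2)
          rw [hupow, hd, hodd.neg_one_pow, mul_one]
        rw [padicValNat.eq_zero_of_not_dvd this, zero_add]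
      · rw [if_neg hev]
        have hev' : Even (i' + 2) := (Nat.not_even_iff_odd.mp hev).add_one
        have : ¬ r ∣ q₀ ^ (i' + 2) + 1 := by
          intro hd
          rw [dvd_pow_add_one_iff r q₀, ← hs] at hd
          apply hneg (i' + 2)
          rw [hupow, hd, hev'.neg_one_pow, one_mul]
        rw [padicValNat.eq_zero_of_not_dvd this, add_zero]
    · -- `ord u = 2 ord q`
      have h2d : 2 ∣ orderOf u := by
        rw [← hg]; exact Nat.gcd_dvd_left _ _
      rw [hg] at hi
      have hord : orderOf (-(q₀ : ZMod r)) = 2 * orderOf (q : ZMod r) := by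
        rw [hi, Nat.mul_div_cancel' h2d]
      have hipos : 0 < orderOf (q : ZMod r) := by
        rw [hi]
        exact Nat.div_pos (Nat.le_of_dvd hdpos h2d) (by norm_num)
      by_cases hi2 : 2 ≤ orderOf (q : ZMod r)
      · -- a single irreducible block
        have hin : orderOf (q : ZMod r) ≤ n := by
          obtain ⟨j, hj2, hjn, hj⟩ := exists_dvd_of_dvd_relIndex (by omega) r hrqF _ hΩ
          rw [hq] at hj
          have := (order_dvd_of_dvd_pow_sub_one (F := F) hq r j (by omega) hj).2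
          exact (Nat.le_of_dvd (by omega) this).trans hjn
        exact hder (der_single D hq hF hf r hrp hi2 hord hin)
      · -- `r ∣ q₀ - 1`
        have hi1 : orderOf (q : ZMod r) = 1 := by omega
        have hd2 : orderOf u = 2 := by
          have : orderOf u = 2 * orderOf (q : ZMod r) := hord
          rw [this, hi1]
        have hu2 : u ^ 2 = 1 := by rw [← hd2]; exact pow_orderOf_eq_one u
        have hu1 : u ≠ 1 := by
          intro h
          rw [h, orderOf_one] at hd2
          omega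
        have hum : u = -1 := by
          have h3 : (u - 1) * (u + 1) = 0 := by linear_combination hu2
          rcases mul_eq_zero.mp h3 with h | h
          · exact absurd (sub_eq_zero.mp h) hu1
          · exact eq_neg_of_add_eq_zero_left h
        have hs1 : (q₀ : ZMod r) = 1 := by
          have : s = -u := by rw [hu, neg_neg]
          rw [← hs, this, hum, neg_neg]
        have hdq₀ : r ∣ q₀ - 1 := by
          have := (dvd_pow_sub_one_iff' r q₀ 1 (by omega)).mpr (by rw [pow_one, hs1])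
          rwa [pow_one] at this
        have hq₀sq : Fintype.card F - 1 = (q₀ - 1) * (q₀ + 1) := by
          rw [hF]
          exact sq_sub_one q₀ (by omega)
        have hrq1 : r ∣ Fintype.card F - 1 := by
          rw [hq₀sq]
          exact hdq₀.trans (dvd_mul_right _ _)
        -- the degree `r` derangement when `r ^ 2 ∣ q₀ - 1`
        have hD3 : n = r → padicValNat r (q₀ - 1) ≠ 1 → False := by
          intro hnr hv
          have hv1 := one_le_padicValNat_of_dvd (by omega : q₀ - 1 ≠ 0) hdq₀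
          have hv2 : 2 ≤ padicValNat r (q₀ - 1) := by omega
          have hrr : r ^ 2 ∣ q₀ - 1 := (padicValNat_dvd_iff_le (by omega)).mpr hv2
          exact hder (der_D3 D hf r hr2 (by rw [hq₀sq]; exact hrr.trans (dvd_mul_right _ _))
            hnr hs1)
        by_cases hr3 : r = 3
        · by_cases hn3' : n = 3
          · apply hD3 (by omega)
            intro hv
            exact hspecial ⟨Or.inl hr3, by omega, hv⟩
          · have hn6 : n ≠ 6 := fun h => hgap ⟨h, hr3⟩
            exact hder (der_D2' D hf r hr3 hrq1 (by omega) hn6 hs1)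
        · by_cases h55 : n = 5 ∧ r = 5
          · apply hD3 (by omega)
            intro hv
            exact hspecial ⟨Or.inr h55.2, by omega, hv⟩
          · exact hder (der_D2 D hf r hr2 hr3 hrq1 hn hs1 h55)

theorem backward (hq : Fintype.card F = q) (q₀ : ℕ) (hq₀ : q = q₀ ^ 2) (n : ℕ) (hn : 3 ≤ n)
    (f : (Fin n → F) → (Fin n → F) → F) (hf : Cfsg.Geo.IsUnitaryFormPow q₀ f)
    (D : UF F q₀) (a : ℕ) (ha : q₀ = p ^ a)
    (r : ℕ) [Fact r.Prime]
    (h : (r = 2 ∧ (p = 2 ∨ padicValNat 2 n ≤ padicValNat 2 (q - 1))) ∨ ((r = 3 ∨ r = 5) ∧ n = r ∧ padicValNat r (q₀ - 1) = 1))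
    (x : GL (Fin n) F) (hx : x ∈ Cfsg.Geo.specialLinear (Fin n) F)
    (hxz : ∃ z : F, ((x ^ r : GL (Fin n) F) : Matrix (Fin n) (Fin n) F) = z • (1 : Matrix (Fin n) (Fin n) F)) :
    ∃ g ∈ Cfsg.Geo.specialLinear (Fin n) F, g⁻¹ * x * g ∈ Cfsg.Geo.similarityGroup f := by
  have hrP : r.Prime := Fact.out
  have hF : Fintype.card F = q₀ ^ 2 := by rw [hq, hq₀]
  have hq₀2 : 2 ≤ q₀ := Cfsg.Agent.Lib.H2.Herm.two_le_q hF
  have hq2 := two_le_card (F := F) hq
  have hn0 : 0 < n := by omega
  have hdet : (x : Matrix (Fin n) (Fin n) F).det = 1 :=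
    (Cfsg.Agent.Lib.H28.mem_specialLinear_iff x).mp hx
  obtain ⟨z, hz⟩ := hxz
  rw [Units.val_pow_eq_pow_val] at hz
  have hz0 : z ≠ 0 := ne_zero_of_pow_smul hn0 _ hdet r z hz
  rcases h with ⟨hr2, hcase⟩ | ⟨hr35, hnr, hv⟩
  · -- involutions
    subst hr2
    have hxx : (x : Matrix (Fin n) (Fin n) F) * (x : Matrix (Fin n) (Fin n) F) = z • 1 := by
      rw [← pow_two, hz]
    by_cases hp2 : p = 2
    · have h2 : (2 : F) = 0 := by
        have := CharP.cast_eq_zero F p
        rw [hp2] at this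
        exact_mod_cast this
      exact conj_sim_char_two D hf hn0 h2 x hx z hxx
    · have hv : padicValNat 2 n ≤ padicValNat 2 (q - 1) := hcase.resolve_left hp2
      have h2 : (2 : F) ≠ 0 := two_ne_zero_of_ne hp2
      have hodd : Odd q₀ := by
        rw [ha]
        exact ((Fact.out : p.Prime).odd_of_ne_two hp2).pow
      have hq4 : q % 4 = 1 := by
        obtain ⟨k, hk⟩ := hodd
        rw [hq₀, hk]
        have : (2 * k + 1) ^ 2 = 4 * (k * k + k) + 1 := by ring
        omega
      have hsq : IsSquare z := by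
        by_contra hns
        refine false_of_det_one hq 2 n hn0 _ hdet z hz ?_ hv (fun _ _ => hq4)
        intro d hd
        exact hns ⟨d, by rw [← hd, pow_two]⟩
      exact conj_sim_square D hf hn0 h2 hodd x hx z hsq hxx
  · -- `r = n ∈ {3, 5}`, `(q₀ - 1)_r = r`
    have hr2 : r ≠ 2 := by
      rcases hr35 with h | h <;> omega
    have hdq₀ : r ∣ q₀ - 1 := dvd_of_one_le_padicValNat (by omega)
    have hs1 : (q₀ : ZMod r) = 1 := by
      have := (dvd_pow_sub_one_iff' r q₀ 1 (by omega)).mp (by rwa [pow_one])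
      rwa [pow_one] at this
    have hq₀sq : q - 1 = (q₀ - 1) * (q₀ + 1) := by
      rw [hq₀]
      exact sq_sub_one q₀ (by omega)
    have hnd : ¬ r ∣ q₀ + 1 := by
      intro hd
      have h2 : r ∣ 2 := by
        have := Nat.dvd_sub hd hdq₀
        have e : q₀ + 1 - (q₀ - 1) = 2 := by omega
        rwa [e] at this
      exact hr2 ((Nat.prime_dvd_prime_iff_eq hrP Nat.prime_two).mp h2)
    have hvq : padicValNat r (q - 1) = 1 := by
      rw [hq₀sq, padicValNat.mul (by omega) (by omega), padicValNat.eq_zero_of_not_dvd hnd, hv]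
    have hrq1 : r ∣ Fintype.card F - 1 := by
      rw [hq, hq₀sq]
      exact hdq₀.trans (dvd_mul_right _ _)
    have hpow : ∃ μ : F, μ ^ r = z := by
      by_contra hpow
      push Not at hpow
      refine false_of_det_one hq r n hn0 _ hdet z hz hpow ?_ (fun h => absurd h hr2)
      rw [hnr, padicValNat_self, hvq]
    obtain ⟨μ, hμ⟩ := hpow
    have hμ0 : μ ≠ 0 := by
      rintro rfl
      rw [zero_pow hrP.ne_zero] at hμ
      exact hz0 hμ.symm
    -- `z = 1`
    have hzr : z ^ r = 1 := by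
      have h1 := congrArg Matrix.det hz
      rw [Matrix.det_pow, hdet, one_pow, Matrix.det_smul, Matrix.det_one, mul_one,
        Fintype.card_fin, hnr] at h1
      exact h1.symm
    have hz1 : z = 1 := by
      rw [← hμ]
      have h1 : μ ^ (r ^ 2) = 1 := by rw [pow_two, pow_mul, hμ, hzr]
      have h2 : μ ^ (Fintype.card F - 1) = 1 := FiniteField.pow_card_sub_one_eq_one μ hμ0
      have h3 := pow_gcd_eq_one.mpr ⟨h1, h2⟩
      have h4 : Nat.gcd (r ^ 2) (Fintype.card F - 1) ∣ r := by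
        obtain ⟨b, hb, hgb⟩ := (Nat.dvd_prime_pow hrP).mp (Nat.gcd_dvd_left (r ^ 2)
          (Fintype.card F - 1))
        rw [hgb]
        have hb2 : b ≠ 2 := by
          rintro rfl
          have h5 : r ^ 2 ∣ Fintype.card F - 1 := by
            rw [← hgb]; exact Nat.gcd_dvd_right _ _
          rw [hq] at h5
          have := (padicValNat_dvd_iff_le (by omega)).mp h5
          omega
        have hb1 : b ≤ 1 := by omega
        calc r ^ b ∣ r ^ 1 := pow_dvd_pow r hb1
          _ = r := pow_one r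
      obtain ⟨c, hc⟩ := h4
      rw [hc, pow_mul, h3, one_pow]
    rw [hz1, one_smul] at hz
    exact conj_sim_special D hf r hr35 hrq1 hs1 hnr x hx hz

end main

/-- Elements of prime order of PSL_n(q), q = q₀², and the subgroups of unitary type. Here `T = PSL_n(F)` for a field `F` with `q = q₀²` elements (`n ≥ 3`), `f` is a non-degenerate unitary form on `F^n` for the involutory automorphism `x ↦ x^{q₀}`, and `H` is the subgroup of matrices of determinant 1 that preserve `f` up to a scalar — a subgroup of type GU_n(q₀) (maximality is not assumed); Ω is the set of cosets of `H` in `T`, so an element of `T` of prime order `r` (a matrix `x` of determinant 1 with `x^r` scalar, `x` not scalar) fixes a point of Ω exactly when some conjugate of `x` by a matrix of determinant 1 preserves `f` up to a scalar. Let `r` be a prime dividing the index of `H`, with `r = 2` or `r` different from the characteristic `p`, and with `(n, r) ≠ (6, 3)`. Then every element of `T` of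 order `r` fixes a point of Ω if and only if either `r = 2` and (`p = 2` or `(n)_2 ≤ (q − 1)_2`), or `r ∈ {3, 5}`, `n = r` and `(q₀ − 1)_r = r`. (Odd `r = p` and the case `(n, r) = (6, 3)` are not covered by this statement.) -/
theorem result {F : Type*} [Field F] [Fintype F] {p : ℕ} [Fact p.Prime] [CharP F p] {q : ℕ} (hq : Fintype.card F = q)
    (q₀ : ℕ) (hq₀ : q = q₀ ^ 2) (n : ℕ) (hn : 3 ≤ n) (f : (Fin n → F) → (Fin n → F) → F) (hf : Cfsg.Geo.IsUnitaryFormPow q₀ f)
    (r : ℕ) [Fact r.Prime] (hr : r = 2 ∨ r ≠ p) (hgap : ¬ (n = 6 ∧ r = 3))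
    (hΩ : r ∣ (Cfsg.Geo.similarityGroup f).relIndex (Cfsg.Geo.specialLinear (Fin n) F)) :
    (∀ x ∈ Cfsg.Geo.specialLinear (Fin n) F, (∃ z : F, ((x ^ r : GL (Fin n) F) : Matrix (Fin n) (Fin n) F) = z • (1 : Matrix (Fin n) (Fin n) F)) →
      (∀ z : F, (x : Matrix (Fin n) (Fin n) F) ≠ z • (1 : Matrix (Fin n) (Fin n) F)) →
      ∃ g ∈ Cfsg.Geo.specialLinear (Fin n) F, g⁻¹ * x * g ∈ Cfsg.Geo.similarityGroup f) ↔
    ((r = 2 ∧ (p = 2 ∨ padicValNat 2 n ≤ padicValNat 2 (q - 1))) ∨ ((r = 3 ∨ r = 5) ∧ n = r ∧ padicValNat r (q₀ - 1) = 1)) := by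
  have hF : Fintype.card F = q₀ ^ 2 := by rw [hq, hq₀]
  obtain ⟨a, ha⟩ := Cfsg.Agent.Lib.H11.UniR.exists_q₀_eq_pow (p := p) hF
  obtain ⟨D, -⟩ : ∃ D : Cfsg.Agent.Lib.H13.AutPSU.UF F q₀,
    D = Cfsg.Agent.Lib.H13.AutPSU.UF.ofCard ha hF := ⟨_, rfl⟩
  constructor
  · intro hall
    exact forward hq q₀ hq₀ n hn f hf D a ha r hr hgap hΩ hall
  · intro h x hx hxz _
    exact backward hq q₀ hq₀ n hn f hf D a ha r h x hx hxz

end Cfsg.Agent.S5982
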