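import Cfsg.Statements.S5984
import Cfsg.Agent.Lib.H11.SuDec10

set_option autoImplicit false
open scoped MatrixGroups
open Cfsg

namespace Cfsg.Agent.S5984

/-- Elements of prime order of PSU_n(q) and the stabilizers of pairs of complementary totally singular subspaces. Here `T = PSU_n(q)` is realised through `SU_n(q)`, the matrices of determinant 1 over the field `F` with `q²` elements preserving the hermitian form `Σ uᵢ vᵢ^q`, with `n ≥ 4` even; `D` is a pair of complementary subspaces of dimension `n/2` on each of which the form vanishes identically, and `H` is the subgroup of `SU_n(q)` fixing or interchanging the two members — a subgroup of type GL_{n/2}(q²).2 (maximality is not assumed). Ω is the set of cosets of `H`, so an element of `T` of prime order `r` (`x ∈ SU_n(q)` with `x^r` scalar, `x` not scalar) fixes a point of Ω exactly when some `SU_n(q)`-conjugate of `x` lies in `H`. Let `r` be a prime dividing the index of `H`. Then every element of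 `T` of order `r` fixes a point of Ω if and only if `r = 2`, `q` is odd and `(q + 1)_2 ≤ (n)_2` (2-parts). -/
theorem result {F : Type*} [Field F] [Fintype F] {p : ℕ} [Fact p.Prime] [CharP F p] {q : ℕ} (hq : Fintype.card F = q ^ 2)
    (n : ℕ) (hn : 4 ≤ n) (he : Even n) (D : Fin 2 → Submodule F (Fin n → F)) (hD : Cfsg.Geo.IsMDecomposition (n / 2) D)
    (hDs : ∀ i, Cfsg.Geo.IsTotallySingularFor (Cfsg.hermForm n F q) (D i))
    (r : ℕ) [Fact r.Prime]
    (hΩ : r ∣ (Cfsg.Geo.decompositionStabilizer D).relIndex (Cfsg.GU n F q ⊓ Cfsg.Geo.specialLinear (Fin n) F)) :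
    (∀ x ∈ Cfsg.GU n F q ⊓ Cfsg.Geo.specialLinear (Fin n) F, (∃ z : F, ((x ^ r : GL (Fin n) F) : Matrix (Fin n) (Fin n) F) = z • (1 : Matrix (Fin n) (Fin n) F)) →
      (∀ z : F, (x : Matrix (Fin n) (Fin n) F) ≠ z • (1 : Matrix (Fin n) (Fin n) F)) →
      ∃ g ∈ Cfsg.GU n F q ⊓ Cfsg.Geo.specialLinear (Fin n) F, g⁻¹ * x * g ∈ Cfsg.Geo.decompositionStabilizer D) ↔
    (r = 2 ∧ Odd q ∧ padicValNat 2 (q + 1) ≤ padicValNat 2 n) := by
  classical
  have hr : r.Prime := Fact.out
  have hp : p.Prime := Fact.out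
  obtain ⟨a, ha⟩ := Cfsg.Agent.Lib.H11.UniR.exists_q₀_eq_pow (p := p) hq
  obtain ⟨Du, -⟩ : ∃ Du : Cfsg.Agent.Lib.H13.AutPSU.UF F q,
    Du = Cfsg.Agent.Lib.H13.AutPSU.UF.ofCard ha hq := ⟨_, rfl⟩
  have hq2 : 2 ≤ q := Cfsg.Agent.Lib.H2.Herm.two_le_q hq
  have hts : ∀ i, ∀ u ∈ D i, ∀ v ∈ D i,
      Cfsg.Agent.S0837.Bs (Cfsg.Agent.Lib.H11.SuDec.phi Du) n u v = 0 := by
    intro i u hu v hv
    rw [Cfsg.Agent.S0782.Bs_eq_herm (Cfsg.Agent.Lib.H11.SuDec.phi Du)
      (Cfsg.Agent.Lib.H11.SuDec.phi_pow Du)]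
    exact hDs i v hv u hu
  have hP : Cfsg.Agent.Lib.H11.SuPair.HPair (Cfsg.Agent.Lib.H11.SuDec.phi Du) (D 0) (D 1) (n / 2) :=
    Cfsg.Agent.Lib.H11.SuPair.hpair_of_decomp hD hts
  have hk : 2 ≤ n / 2 := by omega
  have h2F_of : p ≠ 2 → (2 : F) ≠ 0 := by
    intro hp2 h
    have h' : ((2 : ℕ) : F) = 0 := by exact_mod_cast h
    rw [CharP.cast_eq_zero_iff F p 2] at h'
    exact hp2 ((Nat.prime_dvd_prime_iff_eq hp Nat.prime_two).1 h')
  constructor
  · intro hall
    have hnoder : ¬ Cfsg.Agent.Lib.H11.SuDec.IsDer D q r := by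
      rintro ⟨x, hx, hxr, hns, hno⟩
      obtain ⟨g, hg, hmem⟩ := hall x hx hxr hns
      exact hno g hg hmem
    by_cases hrp : r = p
    · exfalso
      apply hnoder
      obtain ⟨c, hc, hc0⟩ := Cfsg.Agent.Lib.H13.AutPSU.exists_skew_ne_zero Du
      have hc' : Du.τ c = -c := hc
      rw [hrp]
      exact Cfsg.Agent.Lib.H11.SuDec.der_transvection (Cfsg.Agent.Lib.H11.SuDec.phi_pow Du)
        (Cfsg.Agent.Lib.H11.SuDec.phi_phi Du) hP hk
        ⟨c, hc0, by
          show c + Du.τ c = 0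
          rw [hc']; ring⟩
    have hrq : ¬ r ∣ q := by
      rw [ha]
      intro h
      exact hrp ((Nat.prime_dvd_prime_iff_eq hr hp).1 (hr.dvd_of_dvd_pow h))
    by_cases hr2 : r = 2
    · have hp2 : p ≠ 2 := fun h => hrp (hr2.trans h.symm)
      have hqodd : Odd q := by
        rw [ha]
        exact (hp.odd_of_ne_two hp2).pow
      refine ⟨hr2, hqodd, ?_⟩
      by_contra hcon
      push Not at hcon
      apply hnoder
      rw [hr2]
      exact Cfsg.Agent.Lib.H11.SuDec.der_two hq Du hP hk hqodd (h2F_of hp2) hcon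
    · exfalso
      obtain ⟨j, hjodd, hjn, hjdvd⟩ :=
        Cfsg.Agent.Lib.H11.SuDec.exists_odd_dvd hq hP (by omega) r hrq hΩ
      have hpow : (-(q : ZMod r)) ^ j = 1 := by
        rw [hjodd.neg_pow]
        have h1 : ((q ^ j + 1 : ℕ) : ZMod r) = 0 := (ZMod.natCast_eq_zero_iff _ _).2 hjdvd
        push_cast at h1
        linear_combination -h1
      have hdj : orderOf (-(q : ZMod r)) ∣ j := orderOf_dvd_of_pow_eq_one hpow
      have hdodd : Odd (orderOf (-(q : ZMod r))) := Odd.of_dvd_nat hjodd hdj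
      have hdle : orderOf (-(q : ZMod r)) ≤ j := Nat.le_of_dvd hjodd.pos hdj
      by_cases hd1 : orderOf (-(q : ZMod r)) = 1
      · have h1 : -(q : ZMod r) = 1 := orderOf_eq_one_iff.1 hd1
        have hrq1 : r ∣ q + 1 := by
          rw [← ZMod.natCast_eq_zero_iff]
          push_cast
          linear_combination -h1
        exact hnoder (Cfsg.Agent.Lib.H11.SuDec.der_odd_one hq Du hP (by omega) r hr2 hrq1)
      · have hd2 : 2 ≤ orderOf (-(q : ZMod r)) := by
          have := hdodd.pos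
          omega
        exact hnoder (Cfsg.Agent.Lib.H11.SuDec.der_odd_block (p := p) hq Du hP (by omega) r hr2 hrp
          _ rfl hd2 hdodd (by omega))
  · rintro ⟨hr2, hqodd, hv⟩ x hx ⟨z, hz⟩ _
    have hp2 : p ≠ 2 := by
      intro h
      rw [ha, h] at hqodd
      rcases Nat.eq_zero_or_pos a with h0 | h0
      · rw [ha, h0, pow_zero] at hq2
        omega
      · exact (Nat.not_even_iff_odd.2 hqodd) ((Nat.even_pow.2 ⟨even_two, h0.ne'⟩))
    rw [hr2] at hz
    exact Cfsg.Agent.Lib.H11.SuDec.fuse_two hq hP (by omega) (h2F_of hp2) hqodd hv x hx z hz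

end Cfsg.Agent.S5984
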