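import Cfsg.Statements.S5989
import Cfsg.Agent.Lib.H11.OrtOd12
import Cfsg.Agent.Lib.H11.OrtOd13

set_option autoImplicit false
open scoped MatrixGroups
open Cfsg

namespace Cfsg.Agent.S5989

open Cfsg.Agent.Lib.H11.OrtOd Cfsg.Agent.Lib.H10.OrtNd Cfsg.Agent.Lib.H24.Elus in
theorem stdGram_plus {F : Type*} [Field F] (d : ℕ) :
    stdGram (Cfsg.Agent.Lib.H13.plusQF F d) = Cfsg.Agent.Lib.H13.gramPlus d F := by
  unfold stdGram
  have h : PB (Cfsg.Agent.Lib.H13.plusQF F d) = Matrix.toBilin' (Cfsg.Agent.Lib.H13.gramPlus d F) := by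
    apply LinearMap.ext₂
    intro u v
    rw [PB_apply, Cfsg.Agent.S0287.coe_plusQF, Cfsg.Agent.Lib.H13.polar_quadFormPlus]
  rw [h, LinearMap.BilinForm.toMatrix'_toBilin']

theorem two_cond_plus {F : Type*} [Field F] [Fintype F] {q : ℕ} (hq : Fintype.card F = q)
    (hodd : Odd q) (h2 : (2 : F) ≠ 0) (d : ℕ) :
    ¬ (IsSquare ((-1 : F) ^ d) ∧ IsSquare ((2 : F) ^ d)) ↔ (Odd d ∧ q % 8 ≠ 1) := by
  rcases Nat.even_or_odd d with hd | hd
  · have h1 : IsSquare ((-1 : F) ^ d) := by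
      rw [Even.neg_one_pow hd]; exact ⟨1, by ring⟩
    have h3 : IsSquare ((2 : F) ^ d) := by
      obtain ⟨k, hk⟩ := hd
      exact ⟨2 ^ k, by rw [hk, pow_add]⟩
    constructor
    · intro h
      exact absurd ⟨h1, h3⟩ h
    · rintro ⟨h, -⟩
      exact absurd hd (Nat.not_even_iff_odd.mpr h)
  · obtain ⟨k, hk⟩ := hd
    have h1 : (-1 : F) ^ d = -1 := Odd.neg_one_pow ⟨k, hk⟩
    have h3 : (2 : F) ^ d = (2 ^ k) ^ 2 * 2 := by
      rw [hk, pow_succ, pow_mul, ← pow_mul, ← pow_mul, mul_comm k 2]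
    rw [h1, h3, Cfsg.Agent.Lib.H10.OrtNd.isSquare_sq_mul (pow_ne_zero k h2),
      FiniteField.isSquare_neg_one_iff, FiniteField.isSquare_two_iff, hq]
    obtain ⟨j, hj⟩ := hodd
    constructor
    · intro h
      refine ⟨⟨k, hk⟩, ?_⟩
      intro h8
      apply h
      omega
    · rintro ⟨-, h8⟩ ⟨h4, h5, h6⟩
      omega

theorem arith_plus (i c d m : ℕ) (hc : c = if Even i then i else 2 * i) (hi0 : 0 < i)
    (hm : Odd m) :
    ((((2 * d) % c = 0 ∧ ¬ (True ↔ (¬ Even i ∨ Even ((2 * d) / c)))) ∨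
      (c ≤ m ∧ m % c < (2 * d) % c))) ↔
    ((Odd i ∧ c ≤ m ∧ 0 < m % c ∧ m % c < (2 * d) % c) ∨
      (Even i ∧ (((2 * d) % c = 0 ∧ Odd ((2 * d) / i)) ∨
        (i ≤ m ∧ 0 < m % c ∧ m % c < (2 * d) % c)))) := by
  have hceven : ∃ N, 0 < N ∧ c = 2 * N := by
    by_cases hev : Even i
    · rw [if_pos hev] at hc
      obtain ⟨N, hN⟩ := hev
      exact ⟨N, by omega, by omega⟩
    · rw [if_neg hev] at hc
      exact ⟨i, hi0, hc⟩
  obtain ⟨N, hN, hcN⟩ := hceven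
  have hmc : 0 < m % c := by
    obtain ⟨k, hk⟩ := hm
    have h1 := Nat.div_add_mod m c
    have h3 : c * (m / c) = 2 * (N * (m / c)) := by rw [hcN]; ring
    omega
  by_cases hev : Even i
  · rw [if_pos hev] at hc
    subst hc
    have hno : ¬ Odd c := Nat.not_odd_iff_even.mpr hev
    constructor
    · rintro (⟨h1, h3⟩ | ⟨h1, h3⟩)
      · right
        refine ⟨hev, Or.inl ⟨h1, ?_⟩⟩
        rw [← Nat.not_even_iff_odd]
        intro h4
        exact h3 ⟨fun _ => Or.inr h4, fun _ => trivial⟩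
      · right
        exact ⟨hev, Or.inr ⟨h1, hmc, h3⟩⟩
    · rintro (⟨h1, -⟩ | ⟨-, ⟨h1, h3⟩ | ⟨h1, -, h3⟩⟩)
      · exact absurd h1 hno
      · left
        refine ⟨h1, ?_⟩
        intro h4
        rcases h4.mp trivial with h5 | h5
        · exact h5 hev
        · exact (Nat.not_even_iff_odd.mpr h3) h5
      · right
        exact ⟨h1, h3⟩
  · rw [if_neg hev] at hc
    have hoddi : Odd i := Nat.not_even_iff_odd.mp hev
    constructor
    · rintro (⟨h1, h3⟩ | ⟨h1, h3⟩)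
      · exact absurd ⟨fun _ => Or.inl hev, fun _ => trivial⟩ h3
      · left
        exact ⟨hoddi, h1, hmc, h3⟩
    · rintro (⟨-, h1, -, h3⟩ | ⟨h1, -⟩)
      · right
        exact ⟨h1, h3⟩
      · exact absurd h1 hev


/-- Elements of prime order of PΩ⁺_n(q), q odd, with no fixed nondegenerate `m`-space of odd dimension. Here `T = PΩ⁺_n(F)`, `n = 2d ≥ 8`, realised through `Ω⁺_n(q)`, the commutator subgroup of the isometry group of `Q = Σ xᵢyᵢ` over the field `F` with `q` elements; an element of `T` of prime order `r` is an element `x` of `Ω⁺_n(q)` with `x^r` scalar and `x` not scalar; `q` and `m` are odd, `1 ≤ m < n/2`. The nondegenerate `m`-spaces (subspaces on which the polar form is nondegenerate) fall into two isometry classes, each an orbit of `T`, and the two actions are equivalent; fix one such space `W₀` and let Ω be the set of nondegenerate `m`-spaces isometric to `W₀` (some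 linear isomorphism preserves `Q`). Let `r` be a prime dividing the size of Ω; for `r ≠ p` let `i` be the multiplicative order of `q` modulo `r`, `c = i` for `i` even and `c = 2i` for `i` odd, and write `k = n mod c`, `ℓ = m mod i`, `ℓ' = m mod c`, `n' = ⌊n/i⌋`, `m' = ⌊m/i⌋`, `t = (r−1)/i`. Then every element of `T` of order `r` fixes a member of Ω if and only if one of: (i) `r = 2`, `n ≡ 2 (mod 4)` and `q ≢ 1 (mod 8)`; (ii) `r ≠ p` odd, `i` odd, `c ≤ m` and `k > ℓ' > 0`; (iii) `r ≠ p` odd, `i` even, and either `k = 0` and `n/i` odd, or `i ≤ m` and `k > ℓ' > 0`. (For `r = p` there is always an element of order `p` fixing no member of Ω.) -/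
theorem result {F : Type*} [Field F] [Fintype F] {p : ℕ} [Fact p.Prime] [CharP F p] {q : ℕ} (hq : Fintype.card F = q)
    (hodd : Odd q) (d m : ℕ) (hd : 4 ≤ d) (hm : Odd m) (hmd : m < d)
    (W₀ : Submodule F (Fin d ⊕ Fin d → F)) (hW₀ : Module.finrank F ↥W₀ = m ∧ Cfsg.Geo.IsNondegenerateOn (QuadraticMap.polar (Cfsg.quadFormPlus d F)) W₀)
    (r : ℕ) [Fact r.Prime]
    (hrΩ : r ∣ Nat.card {W : Submodule F (Fin d ⊕ Fin d → F) // Module.finrank F ↥W = m ∧ Cfsg.Geo.IsNondegenerateOn (QuadraticMap.polar (Cfsg.quadFormPlus d F)) W ∧ Cfsg.Geo.AreIsometricFor (Cfsg.quadFormPlus d F) W W₀})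
    (i c : ℕ) (hi : i = orderOf (q : ZMod r)) (hc : c = if Even i then i else 2 * i) :
    (∀ x : GL (Fin d ⊕ Fin d) F, x ∈ Cfsg.Geo.omegaGL (Cfsg.quadFormPlus d F) →
      (∃ z : F, ((x ^ r : GL (Fin d ⊕ Fin d) F) : Matrix (Fin d ⊕ Fin d) (Fin d ⊕ Fin d) F) = z • (1 : Matrix (Fin d ⊕ Fin d) (Fin d ⊕ Fin d) F)) →
      (∀ z : F, (x : Matrix (Fin d ⊕ Fin d) (Fin d ⊕ Fin d) F) ≠ z • (1 : Matrix (Fin d ⊕ Fin d) (Fin d ⊕ Fin d) F)) →
      ∃ W : Submodule F (Fin d ⊕ Fin d → F), (Module.finrank F ↥W = m ∧ Cfsg.Geo.IsNondegenerateOn (QuadraticMap.polar (Cfsg.quadFormPlus d F)) W ∧ Cfsg.Geo.AreIsometricFor (Cfsg.quadFormPlus d F) W W₀) ∧ W.map (Matrix.toLin' (x : Matrix (Fin d ⊕ Fin d) (Fin d ⊕ Fin d) F)) ≤ W) ↔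
    ((r = 2 ∧ Odd d ∧ q % 8 ≠ 1) ∨
     (r ≠ p ∧ 2 < r ∧ Odd i ∧ c ≤ m ∧ 0 < m % c ∧ m % c < (2 * d) % c) ∨
     (r ≠ p ∧ 2 < r ∧ Even i ∧ (((2 * d) % c = 0 ∧ Odd ((2 * d) / i)) ∨ (i ≤ m ∧ 0 < m % c ∧ m % c < (2 * d) % c)))) := by
  classical
  have h2 : (2 : F) ≠ 0 := Cfsg.Agent.S0286.two_ne_zero_of_odd (by rw [hq]; exact hodd)
  have hp := (Fact.out : p.Prime)
  have hr := (Fact.out : r.Prime)
  have hQ := Cfsg.Agent.S0287.nondeg (F := F) d
  have hcard : Fintype.card (Fin d ⊕ Fin d) = 2 * d := by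
    rw [Fintype.card_sum, Fintype.card_fin]; ring
  have hpcase : r = p → ¬ (∀ x : GL (Fin d ⊕ Fin d) F,
      x ∈ Cfsg.Geo.omegaGL ⇑(Cfsg.Agent.Lib.H13.plusQF F d) →
      (∃ z : F, ((x ^ r : GL (Fin d ⊕ Fin d) F) : Matrix (Fin d ⊕ Fin d) (Fin d ⊕ Fin d) F) =
        z • (1 : Matrix (Fin d ⊕ Fin d) (Fin d ⊕ Fin d) F)) →
      (∀ z : F, (x : Matrix (Fin d ⊕ Fin d) (Fin d ⊕ Fin d) F) ≠
        z • (1 : Matrix (Fin d ⊕ Fin d) (Fin d ⊕ Fin d) F)) →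
      ∃ W : Submodule F (Fin d ⊕ Fin d → F), (Module.finrank F ↥W = m ∧
        Cfsg.Geo.IsNondegenerateOn (QuadraticMap.polar ⇑(Cfsg.Agent.Lib.H13.plusQF F d)) W ∧
        Cfsg.Geo.AreIsometricFor ⇑(Cfsg.Agent.Lib.H13.plusQF F d) W W₀) ∧
        W.map (Matrix.toLin' (x : Matrix (Fin d ⊕ Fin d) (Fin d ⊕ Fin d) F)) ≤ W) := by
    intro hrp H
    subst hrp
    exact Cfsg.Agent.Lib.H11.OrtOd.p_case_plus (p := r) h2 d m hd hm
      (fun W => Cfsg.Geo.AreIsometricFor ⇑(Cfsg.Agent.Lib.H13.plusQF F d) W W₀)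
      (fun x hxΩ hxp hxs => H x hxΩ ⟨1, by rw [hxp, one_smul]; rfl⟩ hxs)
  have key := Cfsg.Agent.Lib.H11.OrtOd.main_assembly (Cfsg.Agent.Lib.H13.plusQF F d) hq hodd hQ d
    hcard m hm hmd W₀ (by rw [Cfsg.Agent.S0287.coe_plusQF]; exact hW₀) r
    (by rw [Cfsg.Agent.S0287.coe_plusQF]; exact hrΩ) hpcase
  rw [Cfsg.Agent.S0287.coe_plusQF] at key
  rw [key]
  have hi0 : r ≠ p → 0 < i := by
    intro hrp
    rw [hi]
    exact Cfsg.Agent.Lib.H13.CycFactor.orderOf_pos hq hr hrp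
  have hcOf : Cfsg.Agent.Lib.H24.Elus.cOf (orderOf (q : ZMod r)) = c := by
    unfold Cfsg.Agent.Lib.H24.Elus.cOf
    rw [← hi, hc]
  rw [hcOf, ← hi]
  have hDtop : Cfsg.Agent.Lib.H10.OrtNd.DSq (Cfsg.Agent.Lib.H13.plusQF F d) ⊤ ↔
      IsSquare ((-1 : F) ^ d) := by
    rw [Cfsg.Agent.Lib.H11.OrtOd.DSq_top_iff, stdGram_plus,
      Cfsg.Agent.Lib.H11.OrthReal.det_gramPlus]
  have hPlus : Cfsg.Agent.Lib.H10.OrtNd.PlusOn (Cfsg.Agent.Lib.H13.plusQF F d)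
      (⊤ : Submodule F (Fin d ⊕ Fin d → F)) := by
    rw [Cfsg.Agent.Lib.H10.OrtNd.plus_iff_DSq _ h2 (Cfsg.Agent.Lib.H11.OrtOd.NDon_top _ hQ)
      (show Module.finrank F ↥(⊤ : Submodule F (Fin d ⊕ Fin d → F)) = 2 * d by
        rw [finrank_top, Module.finrank_fintype_fun_eq_card, hcard])]
    exact hDtop.symm
  have hPT : Cfsg.Agent.Lib.H10.OrtNd.PlusOn (Cfsg.Agent.Lib.H13.plusQF F d)
      (⊤ : Submodule F (Fin d ⊕ Fin d → F)) ↔ True := iff_true_intro hPlus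
  rw [hDtop, two_cond_plus hq hodd h2 d, hPT]
  constructor
  · rintro (h | ⟨h1, h3, h4⟩)
    · exact Or.inl h
    · rcases (arith_plus i c d m hc (hi0 h1) hm).mp h4 with h5 | h5
      · exact Or.inr (Or.inl ⟨h1, h3, h5⟩)
      · exact Or.inr (Or.inr ⟨h1, h3, h5⟩)
  · rintro (h | ⟨h1, h3, h4⟩ | ⟨h1, h3, h4⟩)
    · exact Or.inl h
    · exact Or.inr ⟨h1, h3, (arith_plus i c d m hc (hi0 h1) hm).mpr (Or.inl h4)⟩
    · exact Or.inr ⟨h1, h3, (arith_plus i c d m hc (hi0 h1) hm).mpr (Or.inr h4)⟩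

end Cfsg.Agent.S5989
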