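import Cfsg.Statements.S5991
import Cfsg.Agent.Lib.H11.OrtOd16

set_option autoImplicit false
open scoped MatrixGroups
open Cfsg

namespace Cfsg.Agent.S5991

open Cfsg.Agent.Lib.H11.OrtOd Cfsg.Agent.Lib.H10.OrtNd Cfsg.Agent.Lib.H24.Elus in
theorem stdGram_minus {F : Type*} [Field F] (k : ℕ) (a b : F) :
    stdGram (Cfsg.Agent.Lib.H13.minusQF F k a b) = Cfsg.Agent.Lib.H13.gramMinus k F a b := by
  unfold stdGram
  have h : PB (Cfsg.Agent.Lib.H13.minusQF F k a b) =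
      Matrix.toBilin' (Cfsg.Agent.Lib.H13.gramMinus k F a b) := by
    apply LinearMap.ext₂
    intro u v
    rw [PB_apply, Cfsg.Agent.S0288.coe_minusQF, Cfsg.Agent.Lib.H13.polar_quadFormMinus]
  rw [h, LinearMap.BilinForm.toMatrix'_toBilin']

theorem two_cond_minus {F : Type*} [Field F] [Fintype F] {q : ℕ} (hq : Fintype.card F = q)
    (hodd : Odd q) (h2 : (2 : F) ≠ 0) (d : ℕ) (D : F) (hD : ¬ IsSquare D) :
    ¬ (IsSquare ((-1 : F) ^ d * D) ∧ IsSquare ((2 : F) ^ d)) ↔ (Even d ∨ q % 8 ≠ 7) := by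
  have hD0 : D ≠ 0 := by
    rintro rfl
    exact hD ⟨0, by ring⟩
  rcases Nat.even_or_odd d with hd | hd
  · have h1 : ¬ IsSquare ((-1 : F) ^ d * D) := by
      rw [Even.neg_one_pow hd, one_mul]; exact hD
    constructor
    · intro _
      exact Or.inl hd
    · intro _ h
      exact h1 h.1
  · obtain ⟨k, hk⟩ := hd
    have h1 : (-1 : F) ^ d = -1 := Odd.neg_one_pow ⟨k, hk⟩
    have h3 : (2 : F) ^ d = (2 ^ k) ^ 2 * 2 := by
      rw [hk, pow_succ, pow_mul, ← pow_mul, ← pow_mul, mul_comm k 2]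
    rw [h1, h3, Cfsg.Agent.Lib.H10.OrtNd.isSquare_sq_mul (pow_ne_zero k h2),
      Cfsg.Agent.Lib.H10.OrtNd.isSquare_mul_iff h2 (neg_ne_zero.mpr one_ne_zero) hD0,
      FiniteField.isSquare_neg_one_iff, FiniteField.isSquare_two_iff, hq]
    obtain ⟨j, hj⟩ := hodd
    have hnotev : ¬ Even d := by
      rw [Nat.not_even_iff_odd]; exact ⟨k, hk⟩
    constructor
    · intro h
      right
      intro h8
      apply h
      refine ⟨⟨fun h4 => absurd h4 (by omega), fun h4 => absurd h4 hD⟩, by omega, by omega⟩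
    · rintro (h | h8) ⟨h4, h5, h6⟩
      · exact hnotev h
      · have h7 : ¬ (q % 4 ≠ 3) := fun h9 => hD (h4.mp h9)
        omega

theorem arith_minus (i c d m : ℕ) (hc : c = if Even i then i else 2 * i) (hi0 : 0 < i)
    (hm : Odd m) :
    ((((2 * d) % c = 0 ∧ ¬ (False ↔ (¬ Even i ∨ Even ((2 * d) / c)))) ∨
      (c ≤ m ∧ m % c < (2 * d) % c))) ↔
    ((Odd i ∧ ((2 * d) % c = 0 ∨ (c ≤ m ∧ 0 < m % c ∧ m % c < (2 * d) % c))) ∨
      (Even i ∧ (((2 * d) % c = 0 ∧ Even ((2 * d) / i)) ∨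
        (0 < (2 * d) % c ∧ i ≤ m ∧ 0 < m % c ∧ m % c < (2 * d) % c)))) := by
  have hceven : ∃ N, 0 < N ∧ c = 2 * N := by
    by_cases hev : Even i
    · rw [if_pos hev] at hc
      obtain ⟨N, hN⟩ := hev
      exact ⟨N, by omega, by omega⟩
    · rw [if_neg hev] at hc
      exact ⟨i, hi0, hc⟩
  obtain ⟨N, hN, hcN⟩ := hceven
  have hmc : 0 < m % c := by
    obtain ⟨k, hk⟩ := hm
    have h1 := Nat.div_add_mod m c
    have h3 : c * (m / c) = 2 * (N * (m / c)) := by rw [hcN]; ring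
    omega
  by_cases hev : Even i
  · rw [if_pos hev] at hc
    subst hc
    have hno : ¬ Odd c := Nat.not_odd_iff_even.mpr hev
    constructor
    · rintro (⟨h1, h3⟩ | ⟨h1, h3⟩)
      · right
        refine ⟨hev, Or.inl ⟨h1, ?_⟩⟩
        by_contra h4
        apply h3
        constructor
        · intro hf
          exact absurd hf id
        · rintro (h5 | h5)
          · exact absurd hev h5
          · exact absurd h5 h4
      · right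
        exact ⟨hev, Or.inr ⟨by omega, h1, hmc, h3⟩⟩
    · rintro (⟨h1, -⟩ | ⟨-, ⟨h1, h3⟩ | ⟨-, h1, -, h3⟩⟩)
      · exact absurd h1 hno
      · left
        refine ⟨h1, ?_⟩
        intro h4
        exact h4.mpr (Or.inr h3)
      · right
        exact ⟨h1, h3⟩
  · rw [if_neg hev] at hc
    have hoddi : Odd i := Nat.not_even_iff_odd.mp hev
    constructor
    · rintro (⟨h1, h3⟩ | ⟨h1, h3⟩)
      · left
        exact ⟨hoddi, Or.inl h1⟩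
      · left
        exact ⟨hoddi, Or.inr ⟨h1, hmc, h3⟩⟩
    · rintro (⟨-, h1 | ⟨h1, -, h3⟩⟩ | ⟨h1, -⟩)
      · left
        refine ⟨h1, ?_⟩
        intro h4
        exact h4.mpr (Or.inl hev)
      · right
        exact ⟨h1, h3⟩
      · exact absurd h1 hev

theorem result_aux {F : Type*} [Field F] [Fintype F] {p : ℕ} [Fact p.Prime] [CharP F p] {q : ℕ}
    (hq : Fintype.card F = q) (hodd : Odd q) (k m : ℕ) (hd : 3 ≤ k) (hm : Odd m)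
    (hmd : m < k + 1) (a b : F)
    (hab : ∀ x y : F, x ^ 2 + a * x * y + b * y ^ 2 = 0 → x = 0 ∧ y = 0)
    (W₀ : Submodule F ((Fin k ⊕ Fin k) ⊕ Fin 2 → F))
    (hW₀ : Module.finrank F ↥W₀ = m ∧ Cfsg.Geo.IsNondegenerateOn
      (QuadraticMap.polar (Cfsg.quadFormMinus k F a b)) W₀)
    (r : ℕ) [Fact r.Prime]
    (hrΩ : r ∣ Nat.card {W : Submodule F ((Fin k ⊕ Fin k) ⊕ Fin 2 → F) //
      Module.finrank F ↥W = m ∧ Cfsg.Geo.IsNondegenerateOn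
        (QuadraticMap.polar (Cfsg.quadFormMinus k F a b)) W ∧
        Cfsg.Geo.AreIsometricFor (Cfsg.quadFormMinus k F a b) W W₀})
    (i c : ℕ) (hi : i = orderOf (q : ZMod r)) (hc : c = if Even i then i else 2 * i) :
    (∀ x : GL ((Fin k ⊕ Fin k) ⊕ Fin 2) F, x ∈ Cfsg.Geo.omegaGL (Cfsg.quadFormMinus k F a b) →
      (∃ z : F, ((x ^ r : GL ((Fin k ⊕ Fin k) ⊕ Fin 2) F) :
        Matrix ((Fin k ⊕ Fin k) ⊕ Fin 2) ((Fin k ⊕ Fin k) ⊕ Fin 2) F) =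
        z • (1 : Matrix ((Fin k ⊕ Fin k) ⊕ Fin 2) ((Fin k ⊕ Fin k) ⊕ Fin 2) F)) →
      (∀ z : F, (x : Matrix ((Fin k ⊕ Fin k) ⊕ Fin 2) ((Fin k ⊕ Fin k) ⊕ Fin 2) F) ≠
        z • (1 : Matrix ((Fin k ⊕ Fin k) ⊕ Fin 2) ((Fin k ⊕ Fin k) ⊕ Fin 2) F)) →
      ∃ W : Submodule F ((Fin k ⊕ Fin k) ⊕ Fin 2 → F), (Module.finrank F ↥W = m ∧
        Cfsg.Geo.IsNondegenerateOn (QuadraticMap.polar (Cfsg.quadFormMinus k F a b)) W ∧
        Cfsg.Geo.AreIsometricFor (Cfsg.quadFormMinus k F a b) W W₀) ∧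
        W.map (Matrix.toLin'
          (x : Matrix ((Fin k ⊕ Fin k) ⊕ Fin 2) ((Fin k ⊕ Fin k) ⊕ Fin 2) F)) ≤ W) ↔
    ((r = 2 ∧ (Even (k + 1) ∨ q % 8 ≠ 7)) ∨
     (r ≠ p ∧ 2 < r ∧ Odd i ∧ ((2 * (k + 1)) % c = 0 ∨
        (c ≤ m ∧ 0 < m % c ∧ m % c < (2 * (k + 1)) % c))) ∨
     (r ≠ p ∧ 2 < r ∧ Even i ∧ (((2 * (k + 1)) % c = 0 ∧ Even ((2 * (k + 1)) / i)) ∨
        (0 < (2 * (k + 1)) % c ∧ i ≤ m ∧ 0 < m % c ∧ m % c < (2 * (k + 1)) % c)))) := by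
  classical
  have h2 : (2 : F) ≠ 0 := Cfsg.Agent.S0286.two_ne_zero_of_odd (by rw [hq]; exact hodd)
  have hp := (Fact.out : p.Prime)
  have hr := (Fact.out : r.Prime)
  have hQ := Cfsg.Agent.S0288.nondeg (F := F) a b hab k
  have hcard : Fintype.card ((Fin k ⊕ Fin k) ⊕ Fin 2) = 2 * (k + 1) := by
    rw [Fintype.card_sum, Fintype.card_sum, Fintype.card_fin, Fintype.card_fin]; ring
  have hpcase : r = p → ¬ (∀ x : GL ((Fin k ⊕ Fin k) ⊕ Fin 2) F,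
      x ∈ Cfsg.Geo.omegaGL ⇑(Cfsg.Agent.Lib.H13.minusQF F k a b) →
      (∃ z : F, ((x ^ r : GL ((Fin k ⊕ Fin k) ⊕ Fin 2) F) :
        Matrix ((Fin k ⊕ Fin k) ⊕ Fin 2) ((Fin k ⊕ Fin k) ⊕ Fin 2) F) =
        z • (1 : Matrix ((Fin k ⊕ Fin k) ⊕ Fin 2) ((Fin k ⊕ Fin k) ⊕ Fin 2) F)) →
      (∀ z : F, (x : Matrix ((Fin k ⊕ Fin k) ⊕ Fin 2) ((Fin k ⊕ Fin k) ⊕ Fin 2) F) ≠
        z • (1 : Matrix ((Fin k ⊕ Fin k) ⊕ Fin 2) ((Fin k ⊕ Fin k) ⊕ Fin 2) F)) →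
      ∃ W : Submodule F ((Fin k ⊕ Fin k) ⊕ Fin 2 → F), (Module.finrank F ↥W = m ∧
        Cfsg.Geo.IsNondegenerateOn
          (QuadraticMap.polar ⇑(Cfsg.Agent.Lib.H13.minusQF F k a b)) W ∧
        Cfsg.Geo.AreIsometricFor ⇑(Cfsg.Agent.Lib.H13.minusQF F k a b) W W₀) ∧
        W.map (Matrix.toLin'
          (x : Matrix ((Fin k ⊕ Fin k) ⊕ Fin 2) ((Fin k ⊕ Fin k) ⊕ Fin 2) F)) ≤ W) := by
    intro hrp H
    subst hrp
    exact Cfsg.Agent.Lib.H11.OrtOd.p_case_minus (p := r) h2 k m hd hm a b hab W₀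
      (fun x hxΩ hxp hxs => H x hxΩ ⟨1, by rw [hxp, one_smul]; rfl⟩ hxs)
  have key := Cfsg.Agent.Lib.H11.OrtOd.main_assembly (Cfsg.Agent.Lib.H13.minusQF F k a b) hq hodd
    hQ (k + 1) hcard m hm hmd W₀ (by rw [Cfsg.Agent.S0288.coe_minusQF]; exact hW₀) r
    (by rw [Cfsg.Agent.S0288.coe_minusQF]; exact hrΩ) hpcase
  rw [Cfsg.Agent.S0288.coe_minusQF] at key
  rw [key]
  have hi0 : r ≠ p → 0 < i := by
    intro hrp
    rw [hi]
    exact Cfsg.Agent.Lib.H13.CycFactor.orderOf_pos hq hr hrp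
  have hcOf : Cfsg.Agent.Lib.H24.Elus.cOf (orderOf (q : ZMod r)) = c := by
    unfold Cfsg.Agent.Lib.H24.Elus.cOf
    rw [← hi, hc]
  rw [hcOf, ← hi]
  have hDisc : ¬ IsSquare (a ^ 2 - 4 * b) := Cfsg.Agent.Lib.H13.disc_nonsquare h2 a b hab
  have hDisc0 : a ^ 2 - 4 * b ≠ 0 := by
    intro h0
    apply hDisc
    rw [h0]
    exact ⟨0, by ring⟩
  have hDtop : Cfsg.Agent.Lib.H10.OrtNd.DSq (Cfsg.Agent.Lib.H13.minusQF F k a b) ⊤ ↔
      IsSquare ((-1 : F) ^ (k + 1) * (a ^ 2 - 4 * b)) := by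
    rw [Cfsg.Agent.Lib.H11.OrtOd.DSq_top_iff, stdGram_minus, Cfsg.Agent.Lib.H13.det_gramMinus]
    have e1 : (-1 : F) ^ k * (4 * b - a ^ 2) = (-1 : F) ^ (k + 1) * (a ^ 2 - 4 * b) := by ring
    rw [e1]
  have hPlus : ¬ Cfsg.Agent.Lib.H10.OrtNd.PlusOn (Cfsg.Agent.Lib.H13.minusQF F k a b)
      (⊤ : Submodule F ((Fin k ⊕ Fin k) ⊕ Fin 2 → F)) := by
    rw [Cfsg.Agent.Lib.H10.OrtNd.plus_iff_DSq _ h2 (Cfsg.Agent.Lib.H11.OrtOd.NDon_top _ hQ)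
      (show Module.finrank F ↥(⊤ : Submodule F ((Fin k ⊕ Fin k) ⊕ Fin 2 → F)) = 2 * (k + 1) by
        rw [finrank_top, Module.finrank_fintype_fun_eq_card, hcard]),
      hDtop, Cfsg.Agent.Lib.H10.OrtNd.isSquare_mul_iff h2
        (pow_ne_zero _ (neg_ne_zero.mpr one_ne_zero)) hDisc0]
    intro h
    apply hDisc
    by_cases h5 : IsSquare ((-1 : F) ^ (k + 1))
    · exact (h.mp h5).mp h5
    · by_contra h6
      exact h5 (h.mpr ⟨fun h7 => absurd h7 h5, fun h7 => absurd h7 h6⟩)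
  have hPT : Cfsg.Agent.Lib.H10.OrtNd.PlusOn (Cfsg.Agent.Lib.H13.minusQF F k a b)
      (⊤ : Submodule F ((Fin k ⊕ Fin k) ⊕ Fin 2 → F)) ↔ False := iff_false_intro hPlus
  rw [hDtop, two_cond_minus hq hodd h2 (k + 1) _ hDisc, hPT]
  constructor
  · rintro (h | ⟨h1, h3, h4⟩)
    · exact Or.inl h
    · rcases (arith_minus i c (k + 1) m hc (hi0 h1) hm).mp h4 with h5 | h5
      · exact Or.inr (Or.inl ⟨h1, h3, h5⟩)
      · exact Or.inr (Or.inr ⟨h1, h3, h5⟩)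
  · rintro (h | ⟨h1, h3, h4⟩ | ⟨h1, h3, h4⟩)
    · exact Or.inl h
    · exact Or.inr ⟨h1, h3, (arith_minus i c (k + 1) m hc (hi0 h1) hm).mpr (Or.inl h4)⟩
    · exact Or.inr ⟨h1, h3, (arith_minus i c (k + 1) m hc (hi0 h1) hm).mpr (Or.inr h4)⟩


/-- Elements of prime order of PΩ⁻_n(q), q odd, with no fixed nondegenerate `m`-space of odd dimension. Here `T = PΩ⁻_n(F)`, `n = 2d ≥ 8`, realised through `Ω⁻_n(q)`, the commutator subgroup of the isometry group of `Q = Σ_{i<d−1} xᵢyᵢ + z₁² + a z₁z₂ + b z₂²` with `z₁² + a z₁z₂ + b z₂²` anisotropic, over the field `F` with `q` elements; an element of `T` of prime order `r` is an element `x` of `Ω⁻_n(q)` with `x^r` scalar and `x` not scalar; `q` and `m` are odd, `1 ≤ m < n/2`. The nondegenerate `m`-spaces fall into two isometry classes, each an orbit of `T`, with equivalent actions; fix one such space `W₀` and let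 Ω be the set of nondegenerate `m`-spaces isometric to `W₀`. Let `r` be a prime dividing the size of Ω; for `r ≠ p` let `i` be the multiplicative order of `q` modulo `r`, `c = i` for `i` even and `c = 2i` for `i` odd, and write `k = n mod c`, `ℓ = m mod i`, `ℓ' = m mod c`, `n' = ⌊n/i⌋`, `m' = ⌊m/i⌋`, `t = (r−1)/i`. Then every element of `T` of order `r` fixes a member of Ω if and only if one of: (i) `r = 2` and (`n ≡ 0 (mod 4)` or `q ≢ 7 (mod 8)`); (ii) `r ≠ p` odd, `i` odd, and `k = 0` or (`c ≤ m` and `k > ℓ' > 0`); (iii) `r ≠ p` odd, `i` even, and either `k = 0` and `n/i` even, or `k > 0`, `i ≤ m` and `k > ℓ' > 0`. (For `r = p` there is always an element of order `p` fixing no member of Ω.) -/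
theorem result {F : Type*} [Field F] [Fintype F] {p : ℕ} [Fact p.Prime] [CharP F p] {q : ℕ} (hq : Fintype.card F = q)
    (hodd : Odd q) (d m : ℕ) (hd : 4 ≤ d) (hm : Odd m) (hmd : m < d) (a b : F) (hab : ∀ x y : F, x ^ 2 + a * x * y + b * y ^ 2 = 0 → x = 0 ∧ y = 0)
    (W₀ : Submodule F ((Fin (d - 1) ⊕ Fin (d - 1)) ⊕ Fin 2 → F)) (hW₀ : Module.finrank F ↥W₀ = m ∧ Cfsg.Geo.IsNondegenerateOn (QuadraticMap.polar (Cfsg.quadFormMinus (d - 1) F a b)) W₀)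
    (r : ℕ) [Fact r.Prime]
    (hrΩ : r ∣ Nat.card {W : Submodule F ((Fin (d - 1) ⊕ Fin (d - 1)) ⊕ Fin 2 → F) // Module.finrank F ↥W = m ∧ Cfsg.Geo.IsNondegenerateOn (QuadraticMap.polar (Cfsg.quadFormMinus (d - 1) F a b)) W ∧ Cfsg.Geo.AreIsometricFor (Cfsg.quadFormMinus (d - 1) F a b) W W₀})
    (i c : ℕ) (hi : i = orderOf (q : ZMod r)) (hc : c = if Even i then i else 2 * i) :
    (∀ x : GL ((Fin (d - 1) ⊕ Fin (d - 1)) ⊕ Fin 2) F, x ∈ Cfsg.Geo.omegaGL (Cfsg.quadFormMinus (d - 1) F a b) →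
      (∃ z : F, ((x ^ r : GL ((Fin (d - 1) ⊕ Fin (d - 1)) ⊕ Fin 2) F) : Matrix ((Fin (d - 1) ⊕ Fin (d - 1)) ⊕ Fin 2) ((Fin (d - 1) ⊕ Fin (d - 1)) ⊕ Fin 2) F) = z • (1 : Matrix ((Fin (d - 1) ⊕ Fin (d - 1)) ⊕ Fin 2) ((Fin (d - 1) ⊕ Fin (d - 1)) ⊕ Fin 2) F)) →
      (∀ z : F, (x : Matrix ((Fin (d - 1) ⊕ Fin (d - 1)) ⊕ Fin 2) ((Fin (d - 1) ⊕ Fin (d - 1)) ⊕ Fin 2) F) ≠ z • (1 : Matrix ((Fin (d - 1) ⊕ Fin (d - 1)) ⊕ Fin 2) ((Fin (d - 1) ⊕ Fin (d - 1)) ⊕ Fin 2) F)) →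
      ∃ W : Submodule F ((Fin (d - 1) ⊕ Fin (d - 1)) ⊕ Fin 2 → F), (Module.finrank F ↥W = m ∧ Cfsg.Geo.IsNondegenerateOn (QuadraticMap.polar (Cfsg.quadFormMinus (d - 1) F a b)) W ∧ Cfsg.Geo.AreIsometricFor (Cfsg.quadFormMinus (d - 1) F a b) W W₀) ∧ W.map (Matrix.toLin' (x : Matrix ((Fin (d - 1) ⊕ Fin (d - 1)) ⊕ Fin 2) ((Fin (d - 1) ⊕ Fin (d - 1)) ⊕ Fin 2) F)) ≤ W) ↔
    ((r = 2 ∧ (Even d ∨ q % 8 ≠ 7)) ∨
     (r ≠ p ∧ 2 < r ∧ Odd i ∧ ((2 * d) % c = 0 ∨ (c ≤ m ∧ 0 < m % c ∧ m % c < (2 * d) % c))) ∨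
     (r ≠ p ∧ 2 < r ∧ Even i ∧ (((2 * d) % c = 0 ∧ Even ((2 * d) / i)) ∨ (0 < (2 * d) % c ∧ i ≤ m ∧ 0 < m % c ∧ m % c < (2 * d) % c)))) := by
  obtain ⟨k, rfl⟩ : ∃ k, d = k + 1 := ⟨d - 1, by omega⟩
  exact result_aux hq hodd k m (by omega) hm hmd a b hab W₀ hW₀ r hrΩ i c hi hc

end Cfsg.Agent.S5991
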