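import Cfsg.Statements.S5993
import Mathlib
import Cfsg.Agent.Lib.H10.OrtNdV

set_option autoImplicit false
open scoped MatrixGroups
open Cfsg

namespace Cfsg.Agent.S5993


/-- Elements of prime order of Ω_n(q), nq odd, with no fixed elliptic `m`-space. Here `T = Ω_n(F)`, `n = 2d+1 ≥ 7`, `q` odd, realised as the commutator subgroup of the isometry group of `Q = x₀² + Σ xᵢyᵢ` over the field `F` with `q` elements (trivial centre, so its elements of prime order `r` are used directly); a nondegenerate `m`-space (even `m`) is a subspace on which the polar form of `Q` is nondegenerate; it is hyperbolic if it contains an `m/2`-dimensional subspace on which `Q` vanishes, elliptic otherwise. Let `m` be even with `2 ≤ m ≤ n − 1` (no restriction `m < n/2`) and let `r` be a prime dividing the number of elliptic `m`-spaces; for `r ≠ p` let `i` be the multiplicative order of `q` modulo `r`, `c = i` for `i` even and `c = 2i` for `i` odd,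 and write `k = n mod c`, `ℓ' = m mod c`. Then every element of `T` of order `r` fixes some elliptic `m`-space if and only if `r = 2`, or `r ≠ p` is odd and one of: (i) `i` odd, `c ≤ m` and `k > ℓ' > 0`; (ii) `i` even, `i ≤ m`, `k > ℓ'`, and `m/i` odd whenever `ℓ' = 0`. (For `r = p` there is always an element of order `p` fixing no elliptic `m`-space.) -/
theorem result {F : Type*} [Field F] [Fintype F] {p : ℕ} [Fact p.Prime] [CharP F p] {q : ℕ} (hq : Fintype.card F = q) (hqodd : Odd q)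
    (d m : ℕ) (hd : 3 ≤ d) (hm : 2 ≤ m) (hme : Even m) (hmn : m ≤ 2 * d)
    (r : ℕ) [Fact r.Prime]
    (hrΩ : r ∣ Nat.card {W : Submodule F (Unit ⊕ (Fin d ⊕ Fin d) → F) // Module.finrank F ↥W = m ∧ Cfsg.Geo.IsNondegenerateOn (QuadraticMap.polar (Cfsg.quadFormOdd d F)) W ∧ ¬ Cfsg.Geo.IsPlusTypeOn (Cfsg.quadFormOdd d F) W})
    (i c : ℕ) (hi : i = orderOf (q : ZMod r)) (hc : c = if Even i then i else 2 * i) :
    (∀ x : GL (Unit ⊕ (Fin d ⊕ Fin d)) F, x ∈ Cfsg.Geo.omegaGL (Cfsg.quadFormOdd d F) → orderOf x = r →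
      ∃ W : Submodule F (Unit ⊕ (Fin d ⊕ Fin d) → F), (Module.finrank F ↥W = m ∧ Cfsg.Geo.IsNondegenerateOn (QuadraticMap.polar (Cfsg.quadFormOdd d F)) W ∧ ¬ Cfsg.Geo.IsPlusTypeOn (Cfsg.quadFormOdd d F) W) ∧ W.map (Matrix.toLin' (x : Matrix (Unit ⊕ (Fin d ⊕ Fin d)) (Unit ⊕ (Fin d ⊕ Fin d)) F)) ≤ W) ↔
    (r = 2 ∨
     (r ≠ p ∧ 2 < r ∧ Odd i ∧ c ≤ m ∧ 0 < m % c ∧ m % c < (2 * d + 1) % c) ∨
     (r ≠ p ∧ 2 < r ∧ Even i ∧ i ≤ m ∧ m % c < (2 * d + 1) % c ∧ (0 < m % c ∨ Odd (m / i)))) := by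
  classical
  have hr : r.Prime := Fact.out
  subst hi
  have hc' : c = Cfsg.Agent.Lib.H24.Elus.cOf (orderOf (q : ZMod r)) := hc
  have hconv : (∀ x : GL (Unit ⊕ (Fin d ⊕ Fin d)) F, x ∈ Cfsg.Geo.omegaGL (Cfsg.quadFormOdd d F) →
      orderOf x = r → ∃ W : Submodule F (Unit ⊕ (Fin d ⊕ Fin d) → F),
        (Module.finrank F ↥W = m ∧
          Cfsg.Geo.IsNondegenerateOn (QuadraticMap.polar (Cfsg.quadFormOdd d F)) W ∧
          ¬ Cfsg.Geo.IsPlusTypeOn (Cfsg.quadFormOdd d F) W) ∧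
        W.map (Matrix.toLin' (x : Matrix (Unit ⊕ (Fin d ⊕ Fin d)) (Unit ⊕ (Fin d ⊕ Fin d)) F)) ≤
          W) ↔
      (∀ x : GL (Unit ⊕ (Fin d ⊕ Fin d)) F, x ∈ Cfsg.Geo.omegaGL (Cfsg.quadFormOdd d F) →
      orderOf x = r → ∃ W : Submodule F (Unit ⊕ (Fin d ⊕ Fin d) → F),
        W ∈ Cfsg.Agent.Lib.H10.OrtNd.TypeSet (Cfsg.Agent.S0286.oddQF F d) m False ∧
        W.map (Matrix.toLin' (x : Matrix (Unit ⊕ (Fin d ⊕ Fin d)) (Unit ⊕ (Fin d ⊕ Fin d)) F)) ≤
          W) := by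
    constructor
    · intro h x hx hxr
      obtain ⟨W, hW, hWinv⟩ := h x hx hxr
      exact ⟨W, (Cfsg.Agent.Lib.H10.OrtNd.mem_typeSet_false_iff d m W).mpr hW, hWinv⟩
    · intro h x hx hxr
      obtain ⟨W, hW, hWinv⟩ := h x hx hxr
      exact ⟨W, (Cfsg.Agent.Lib.H10.OrtNd.mem_typeSet_false_iff d m W).mp hW, hWinv⟩
  rw [hconv]
  by_cases hrp : r = p
  · -- the unipotent case: both sides are false
    subst hrp
    have hp2 : r ≠ 2 := by
      intro h
      have h2 : (2 : F) ≠ 0 := by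
        subst hq
        exact Cfsg.Agent.S0286.two_ne_zero_of_odd hqodd
      apply h2
      have := CharP.cast_eq_zero F r
      rw [h] at this
      exact_mod_cast this
    constructor
    · intro h
      exact absurd h (Cfsg.Agent.Lib.H10.OrtNd.not_all_fix_minus hq hqodd d m (by omega) hme)
    · rintro (h | ⟨h, -⟩ | ⟨h, -⟩)
      · exact absurd h hp2
      · exact absurd rfl h
      · exact absurd rfl h
  · rw [← Cfsg.Agent.Lib.H10.OrtNd.card_typeSet_false d m] at hrΩ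
    have hcore := Cfsg.Agent.Lib.H10.OrtNd.core_iff hq hqodd d m (by omega) hm hme hmn hrp False hrΩ
    rw [← hc'] at hcore
    rw [hcore, Cfsg.Agent.Lib.H10.OrtNd.rhs_minus_iff r m (2 * d + 1) (orderOf (q : ZMod r)) c
      hr.two_le hc]
    constructor
    · rintro (h | ⟨h1, h3⟩ | ⟨h1, h3⟩)
      · exact Or.inl h
      · exact Or.inr (Or.inl ⟨hrp, h1, h3⟩)
      · exact Or.inr (Or.inr ⟨hrp, h1, h3⟩)
    · rintro (h | ⟨-, h1, h3⟩ | ⟨-, h1, h3⟩)
      · exact Or.inl h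
      · exact Or.inr (Or.inl ⟨h1, h3⟩)
      · exact Or.inr (Or.inr ⟨h1, h3⟩)

end Cfsg.Agent.S5993
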