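import Cfsg.Statements.S5994
import Cfsg.Agent.Lib.H11.OrthReal4

set_option autoImplicit false
open scoped MatrixGroups
open Cfsg

namespace Cfsg.Agent.S5994

/-- A necessary condition for every element of order p of PΩ⁻_n(q), q odd, to fix an elliptic `m`-space. Here `T = PΩ⁻_n(F)`, `n = 2d ≥ 8`, realised through `Ω⁻_n(q)`, the commutator subgroup of the isometry group of `Q = Σ_{i<d−1} xᵢyᵢ + z₁² + a z₁z₂ + b z₂²` with `z₁² + a z₁z₂ + b z₂²` anisotropic, over the field `F` with `q` elements; an element of `T` of prime order `r` is an element `x` of `Ω⁻_n(q)` with `x^r` scalar and `x` not scalar; `q` is odd; a nondegenerate `m`-space (even `m`) is a subspace on which the polar form of `Q` is nondegenerate; it is hyperbolic if it contains an `m/2`-dimensional subspace on which `Q` vanishes, elliptic otherwise. Let `m` be even with `2 ≤ m ≤ n − 2` and suppose `p` divides the number of elliptic `m`-spaces. If every element of `T` of order `p` fixes some elliptic `m`-space, then `n ≡ m (mod 4)` and every partition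 of `n` into parts of size at most `p` in which every even part has even multiplicity contains (as a sub-multiset) a partition of `m` in which every even part has even multiplicity. -/
theorem result {F : Type*} [Field F] [Fintype F] {p : ℕ} [Fact p.Prime] [CharP F p] {q : ℕ} (hq : Fintype.card F = q) (hqodd : Odd q)
    (d m : ℕ) (hd : 4 ≤ d) (hm : 2 ≤ m) (hme : Even m) (hmn : m + 2 ≤ 2 * d) (a b : F) (hab : ∀ x y : F, x ^ 2 + a * x * y + b * y ^ 2 = 0 → x = 0 ∧ y = 0)
    (hpΩ : p ∣ Nat.card {W : Submodule F ((Fin (d - 1) ⊕ Fin (d - 1)) ⊕ Fin 2 → F) // Module.finrank F ↥W = m ∧ Cfsg.Geo.IsNondegenerateOn (QuadraticMap.polar (Cfsg.quadFormMinus (d - 1) F a b)) W ∧ ¬ Cfsg.Geo.IsPlusTypeOn (Cfsg.quadFormMinus (d - 1) F a b) W}) :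
    (∀ x : GL ((Fin (d - 1) ⊕ Fin (d - 1)) ⊕ Fin 2) F, x ∈ Cfsg.Geo.omegaGL (Cfsg.quadFormMinus (d - 1) F a b) →
      (∃ z : F, ((x ^ p : GL ((Fin (d - 1) ⊕ Fin (d - 1)) ⊕ Fin 2) F) : Matrix ((Fin (d - 1) ⊕ Fin (d - 1)) ⊕ Fin 2) ((Fin (d - 1) ⊕ Fin (d - 1)) ⊕ Fin 2) F) = z • (1 : Matrix ((Fin (d - 1) ⊕ Fin (d - 1)) ⊕ Fin 2) ((Fin (d - 1) ⊕ Fin (d - 1)) ⊕ Fin 2) F)) →
      (∀ z : F, (x : Matrix ((Fin (d - 1) ⊕ Fin (d - 1)) ⊕ Fin 2) ((Fin (d - 1) ⊕ Fin (d - 1)) ⊕ Fin 2) F) ≠ z • (1 : Matrix ((Fin (d - 1) ⊕ Fin (d - 1)) ⊕ Fin 2) ((Fin (d - 1) ⊕ Fin (d - 1)) ⊕ Fin 2) F)) →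
      ∃ W : Submodule F ((Fin (d - 1) ⊕ Fin (d - 1)) ⊕ Fin 2 → F), (Module.finrank F ↥W = m ∧ Cfsg.Geo.IsNondegenerateOn (QuadraticMap.polar (Cfsg.quadFormMinus (d - 1) F a b)) W ∧ ¬ Cfsg.Geo.IsPlusTypeOn (Cfsg.quadFormMinus (d - 1) F a b) W) ∧ W.map (Matrix.toLin' (x : Matrix ((Fin (d - 1) ⊕ Fin (d - 1)) ⊕ Fin 2) ((Fin (d - 1) ⊕ Fin (d - 1)) ⊕ Fin 2) F)) ≤ W) →
    ((2 * d) % 4 = m % 4 ∧ (∀ μ : Multiset ℕ, (∀ e ∈ μ, 0 < e ∧ e ≤ p) → (∀ e : ℕ, Even e → Even (μ.count e)) → μ.sum = 2 * d →
        ∃ ν : Multiset ℕ, ν ≤ μ ∧ ν.sum = m ∧ ∀ e : ℕ, Even e → Even (ν.count e))) := by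
  classical
  intro H
  have h2 : (2 : F) ≠ 0 := Cfsg.Agent.S0286.two_ne_zero_of_odd (by rw [hq]; exact hqodd)
  have hp := (Fact.out : p.Prime)
  have hp2 : p ≠ 2 := by
    rintro rfl
    apply h2
    have := CharP.cast_eq_zero F 2
    exact_mod_cast this
  have hp3 : 3 ≤ p := by
    have := hp.two_le
    omega
  have hpodd : Odd p := hp.odd_of_ne_two hp2
  obtain ⟨k, hk⟩ : ∃ k, d = k + 1 := ⟨d - 1, by omega⟩
  subst hk
  rw [Nat.add_sub_cancel] at H
  have hcard : 2 ≤ Fintype.card ((Fin k ⊕ Fin k) ⊕ Fin 2) := by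
    rw [Fintype.card_sum, Fintype.card_sum, Fintype.card_fin, Fintype.card_fin]
    omega
  rw [← Cfsg.Agent.S0288.coe_minusQF] at H
  -- the key consequence of the hypothesis for realisable types
  have key : ∀ μ : Multiset ℕ, (∀ e ∈ μ, 0 < e ∧ e ≤ p) →
      (∀ e : ℕ, Even e → Even (μ.count e)) → μ.sum = 2 * (k + 1) → (∃ e ∈ μ, Odd e) →
      (∃ e ∈ μ, 2 ≤ e) →
      ∃ ν : Multiset ℕ, ν ≤ μ ∧ ν.sum = m ∧ (∀ e : ℕ, Even e → Even (ν.count e)) ∧
        ¬ (∀ e ∈ ν, e = 2) := by
    intro μ hμ hpar hsum hodd hbig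
    have hpos : ∀ a ∈ μ, 0 < a := fun a ha => (hμ a ha).1
    have hle : ∀ a ∈ μ, a ≤ p := fun a ha => (hμ a ha).2
    obtain ⟨x, hx, hT⟩ := Cfsg.Agent.Lib.H11.OrthReal.exists_minus (F := F) h2 k a b hab μ hpos
      hpar hodd hsum
    rw [← Cfsg.Agent.S0288.coe_minusQF] at hx
    obtain ⟨W, ν, hWP, hνμ, hνsum, hνpar, hνplus⟩ :=
      Cfsg.Agent.Lib.H11.OrthReal.sub_type_of_fixed (Cfsg.Agent.Lib.H13.minusQF F k a b)
        (Cfsg.Agent.S0288.nondeg a b hab k) h2 hcard m
        (fun W => ¬ Cfsg.Geo.IsPlusTypeOn (⇑(Cfsg.Agent.Lib.H13.minusQF F k a b)) W)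
        (fun x hxΩ hxp hxs => H x hxΩ ⟨1, by rw [hxp, one_smul]; rfl⟩ hxs) x hx μ hT hpos hle
        hbig
    exact ⟨ν, hνμ, hνsum, hνpar, fun hall => hWP (hνplus hall)⟩
  constructor
  · -- the congruence modulo 4
    rcases Nat.even_or_odd (k + 1) with hd2 | hd2
    · -- `d` even: type `(2^(d-2), 3, 1)`
      obtain ⟨μ₀, hμ₀⟩ : ∃ μ₀ : Multiset ℕ,
          μ₀ = Multiset.replicate (k - 1) 2 + {3} + {1} := ⟨_, rfl⟩
      have hmem : ∀ e ∈ μ₀, e = 2 ∨ e = 3 ∨ e = 1 := by
        intro e he
        rw [hμ₀, Multiset.mem_add, Multiset.mem_add, Multiset.mem_singleton,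
          Multiset.mem_singleton] at he
        rcases he with (he | he) | he
        · exact Or.inl (Multiset.eq_of_mem_replicate he)
        · exact Or.inr (Or.inl he)
        · exact Or.inr (Or.inr he)
      obtain ⟨ν, hνμ, hνsum, hνpar, _⟩ := key μ₀ (by
          intro e he
          rcases hmem e he with rfl | rfl | rfl <;> omega) (by
          intro e he
          rw [hμ₀, Multiset.count_add, Multiset.count_add, Multiset.count_replicate,
            Multiset.count_singleton, Multiset.count_singleton]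
          have h3 : ¬ (e = 3) := by
            rintro rfl
            exact absurd he (by decide)
          have h1 : ¬ (e = 1) := by
            rintro rfl
            exact absurd he (by decide)
          rw [if_neg h3, if_neg h1, add_zero, add_zero]
          split_ifs
          · obtain ⟨j, hj⟩ := hd2
            exact ⟨j - 1, by omega⟩
          · exact ⟨0, rfl⟩) (by
          rw [hμ₀, Multiset.sum_add, Multiset.sum_add, Multiset.sum_replicate,
            Multiset.sum_singleton, Multiset.sum_singleton, smul_eq_mul]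
          omega) ⟨3, by rw [hμ₀]; simp, by decide⟩ ⟨3, by rw [hμ₀]; simp, by omega⟩
      have hmemν : ∀ e ∈ ν, e = 1 ∨ e = 2 ∨ e = 3 := by
        intro e he
        rcases hmem e (Multiset.mem_of_le hνμ he) with h | h | h <;> omega
      have hs := Cfsg.Agent.Lib.H11.OrthReal.sum_eq_counts ν hmemν
      have h1 : Multiset.count 1 ν ≤ 1 := by
        have h1 := Multiset.count_le_of_le 1 hνμ
        rw [hμ₀, Multiset.count_add, Multiset.count_add, Multiset.count_replicate,
          Multiset.count_singleton, Multiset.count_singleton] at h1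
        split_ifs at h1 <;> omega
      have h3 : Multiset.count 3 ν ≤ 1 := by
        have h3 := Multiset.count_le_of_le 3 hνμ
        rw [hμ₀, Multiset.count_add, Multiset.count_add, Multiset.count_replicate,
          Multiset.count_singleton, Multiset.count_singleton] at h3
        split_ifs at h3 <;> omega
      obtain ⟨j, hj⟩ := hνpar 2 (by decide)
      obtain ⟨i, hi⟩ := hme
      obtain ⟨l, hl⟩ := hd2
      rcases (by omega : Multiset.count 1 ν = 0 ∨ Multiset.count 1 ν = 1) with h1' | h1' <;>
        rcases (by omega : Multiset.count 3 ν = 0 ∨ Multiset.count 3 ν = 1) with h3' | h3' <;>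
        omega
    · -- `d` odd: type `(2^(d-1), 1, 1)`
      obtain ⟨μ₀, hμ₀⟩ : ∃ μ₀ : Multiset ℕ,
          μ₀ = Multiset.replicate k 2 + {1} + {1} := ⟨_, rfl⟩
      have hmem : ∀ e ∈ μ₀, e = 2 ∨ e = 1 := by
        intro e he
        rw [hμ₀, Multiset.mem_add, Multiset.mem_add, Multiset.mem_singleton] at he
        rcases he with (he | he) | he
        · exact Or.inl (Multiset.eq_of_mem_replicate he)
        · exact Or.inr he
        · exact Or.inr he
      obtain ⟨ν, hνμ, hνsum, hνpar, hνnot⟩ := key μ₀ (by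
          intro e he
          rcases hmem e he with rfl | rfl <;> omega) (by
          intro e he
          rw [hμ₀, Multiset.count_add, Multiset.count_add, Multiset.count_replicate,
            Multiset.count_singleton]
          have h1 : ¬ (e = 1) := by
            rintro rfl
            exact absurd he (by decide)
          rw [if_neg h1, add_zero, add_zero]
          split_ifs
          · obtain ⟨j, hj⟩ := hd2
            exact ⟨j, by omega⟩
          · exact ⟨0, rfl⟩) (by
          rw [hμ₀, Multiset.sum_add, Multiset.sum_add, Multiset.sum_replicate,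
            Multiset.sum_singleton, smul_eq_mul]
          omega) ⟨1, by rw [hμ₀]; simp, by decide⟩
          ⟨2, by rw [hμ₀]; simp [Multiset.mem_replicate]; omega, by omega⟩
      have hmemν : ∀ e ∈ ν, e = 1 ∨ e = 2 ∨ e = 3 := by
        intro e he
        rcases hmem e (Multiset.mem_of_le hνμ he) with h | h <;> omega
      have hs := Cfsg.Agent.Lib.H11.OrthReal.sum_eq_counts ν hmemν
      have h1 : Multiset.count 1 ν ≤ 2 := by
        have h1 := Multiset.count_le_of_le 1 hνμ
        rw [hμ₀, Multiset.count_add, Multiset.count_add, Multiset.count_replicate,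
          Multiset.count_singleton] at h1
        split_ifs at h1 <;> omega
      have h3 : Multiset.count 3 ν = 0 := by
        have h3 := Multiset.count_le_of_le 3 hνμ
        rw [hμ₀, Multiset.count_add, Multiset.count_add, Multiset.count_replicate,
          Multiset.count_singleton] at h3
        split_ifs at h3 <;> omega
      have h10 : Multiset.count 1 ν ≠ 0 := by
        intro h0
        apply hνnot
        intro e he
        rcases hmem e (Multiset.mem_of_le hνμ he) with h | h
        · exact h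
        · exfalso
          rw [h] at he
          exact (Multiset.count_eq_zero.mp h0) he
      obtain ⟨j, hj⟩ := hνpar 2 (by decide)
      obtain ⟨i, hi⟩ := hme
      obtain ⟨l, hl⟩ := hd2
      rcases (by omega : Multiset.count 1 ν = 1 ∨ Multiset.count 1 ν = 2) with h1' | h1' <;>
        omega
  · -- the partition condition
    intro μ hμ hpar hsum
    have hpos : ∀ a ∈ μ, 0 < a := fun a ha => (hμ a ha).1
    by_cases hbig : ∃ a ∈ μ, 2 ≤ a
    · by_cases hodd : ∃ e ∈ μ, Odd e
      · obtain ⟨ν, hνμ, hνsum, hνpar, _⟩ := key μ hμ hpar hsum hodd hbig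
        exact ⟨ν, hνμ, hνsum, hνpar⟩
      · -- all parts even: exchange a pair
        push Not at hodd
        have hev : ∀ e ∈ μ, Even e := fun e he => Nat.not_odd_iff_even.mp (hodd e he)
        obtain ⟨c, hc, hc2⟩ := hbig
        have hce := hev c hc
        have hcount : 2 ≤ Multiset.count c μ := by
          have h1 : 1 ≤ Multiset.count c μ := Multiset.one_le_count_iff_mem.mpr hc
          obtain ⟨j, hj⟩ := hpar c hce
          omega
        have hc' : c ∈ μ.erase c := by
          rw [← Multiset.count_pos, Multiset.count_erase_self]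
          omega
        obtain ⟨μ₀, hμ₀⟩ : ∃ μ₀, μ₀ = (μ.erase c).erase c := ⟨_, rfl⟩
        have hμeq : μ = c ::ₘ c ::ₘ μ₀ := by
          rw [hμ₀, Multiset.cons_erase hc', Multiset.cons_erase hc]
        have hμ₀ev : ∀ e ∈ μ₀, Even e := by
          intro e he
          apply hev
          rw [hμeq]
          exact Multiset.mem_cons_of_mem (Multiset.mem_cons_of_mem he)
        have hcp : c + 1 ≤ p := by
          have h1 := (hμ c hc).2
          obtain ⟨j, hj⟩ := hce
          obtain ⟨i, hi⟩ := hpodd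
          omega
        obtain ⟨μ', hμ'⟩ : ∃ μ', μ' = (c + 1) ::ₘ (c - 1) ::ₘ μ₀ := ⟨_, rfl⟩
        have hodd1 : ¬ Even (c + 1) := by
          rw [Nat.even_add_one]
          exact not_not.mpr hce
        have hodd2 : ¬ Even (c - 1) := by
          obtain ⟨j, hj⟩ := hce
          rw [Nat.not_even_iff_odd]
          exact ⟨j - 1, by omega⟩
        obtain ⟨ν', hν'μ, hν'sum, hν'par, _⟩ := key μ' (by
            intro e he
            rw [hμ', Multiset.mem_cons, Multiset.mem_cons] at he
            rcases he with rfl | rfl | he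
            · omega
            · have := (hμ c hc).2
              omega
            · apply hμ
              rw [hμeq]
              exact Multiset.mem_cons_of_mem (Multiset.mem_cons_of_mem he)) (by
            intro e he
            have h1 : e ≠ c + 1 := by
              rintro rfl
              exact hodd1 he
            have h2' : e ≠ c - 1 := by
              rintro rfl
              exact hodd2 he
            rw [hμ', Multiset.count_cons_of_ne h1, Multiset.count_cons_of_ne h2']
            have := hpar e he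
            rw [hμeq, Multiset.count_cons, Multiset.count_cons] at this
            obtain ⟨j, hj⟩ := this
            split_ifs at hj
            · exact ⟨j - 1, by omega⟩
            · exact ⟨j, by omega⟩) (by
            rw [hμ', Multiset.sum_cons, Multiset.sum_cons, ← hsum, hμeq, Multiset.sum_cons,
              Multiset.sum_cons]
            omega) ⟨c + 1, by rw [hμ']; exact Multiset.mem_cons_self _ _,
              Nat.not_even_iff_odd.mp hodd1⟩
            ⟨c + 1, by rw [hμ']; exact Multiset.mem_cons_self _ _, by omega⟩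
        rw [hμ'] at hν'μ
        obtain ⟨ν, hνμ, hνsum, hνpar⟩ := Cfsg.Agent.Lib.H11.OrthReal.exchange_pair μ₀ hμ₀ev c hce
          hc2 m hme ν' hν'μ hν'sum hν'par
        rw [← hμeq] at hνμ
        exact ⟨ν, hνμ, hνsum, hνpar⟩
    · exact Cfsg.Agent.Lib.H11.OrthReal.exists_sub_of_all_ones μ hpos hbig m (by omega)

end Cfsg.Agent.S5994
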