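import Cfsg.Statements.S5995
import Cfsg.Agent.Lib.H11.OrthReal4

set_option autoImplicit false
open scoped MatrixGroups
open Cfsg

namespace Cfsg.Agent.S5995

/-- A necessary condition for every element of order p of Ω_n(q), nq odd, to fix a hyperbolic `m`-space. Here `T = Ω_n(F)`, `n = 2d+1 ≥ 7`, `q` odd, realised as the commutator subgroup of the isometry group of `Q = x₀² + Σ xᵢyᵢ` over the field `F` with `q` elements (trivial centre, so its elements of prime order `r` are used directly); a nondegenerate `m`-space (even `m`) is a subspace on which the polar form of `Q` is nondegenerate; it is hyperbolic if it contains an `m/2`-dimensional subspace on which `Q` vanishes, elliptic otherwise. Let `m` be even with `2 ≤ m ≤ n − 1` and suppose `p` divides the number of hyperbolic `m`-spaces. If every element of `T` of order `p` fixes some hyperbolic `m`-space, then `m ≡ 0 (mod 4)` and every partition of `n` into parts of size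 at most `p` in which every even part has even multiplicity contains (as a sub-multiset) a partition of `m` in which every even part has even multiplicity. -/
theorem result {F : Type*} [Field F] [Fintype F] {p : ℕ} [Fact p.Prime] [CharP F p] {q : ℕ} (hq : Fintype.card F = q) (hqodd : Odd q)
    (d m : ℕ) (hd : 3 ≤ d) (hm : 2 ≤ m) (hme : Even m) (hmn : m ≤ 2 * d)
    (hpΩ : p ∣ Nat.card {W : Submodule F (Unit ⊕ (Fin d ⊕ Fin d) → F) // Module.finrank F ↥W = m ∧ Cfsg.Geo.IsNondegenerateOn (QuadraticMap.polar (Cfsg.quadFormOdd d F)) W ∧ Cfsg.Geo.IsPlusTypeOn (Cfsg.quadFormOdd d F) W}) :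
    (∀ x : GL (Unit ⊕ (Fin d ⊕ Fin d)) F, x ∈ Cfsg.Geo.omegaGL (Cfsg.quadFormOdd d F) → orderOf x = p →
      ∃ W : Submodule F (Unit ⊕ (Fin d ⊕ Fin d) → F), (Module.finrank F ↥W = m ∧ Cfsg.Geo.IsNondegenerateOn (QuadraticMap.polar (Cfsg.quadFormOdd d F)) W ∧ Cfsg.Geo.IsPlusTypeOn (Cfsg.quadFormOdd d F) W) ∧ W.map (Matrix.toLin' (x : Matrix (Unit ⊕ (Fin d ⊕ Fin d)) (Unit ⊕ (Fin d ⊕ Fin d)) F)) ≤ W) →
    (m % 4 = 0 ∧ (∀ μ : Multiset ℕ, (∀ e ∈ μ, 0 < e ∧ e ≤ p) → (∀ e : ℕ, Even e → Even (μ.count e)) → μ.sum = 2 * d + 1 →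
        ∃ ν : Multiset ℕ, ν ≤ μ ∧ ν.sum = m ∧ ∀ e : ℕ, Even e → Even (ν.count e))) := by
  classical
  intro H
  have h2 : (2 : F) ≠ 0 := Cfsg.Agent.S0286.two_ne_zero_of_odd (by rw [hq]; exact hqodd)
  have hp := (Fact.out : p.Prime)
  have hp2 : p ≠ 2 := by
    rintro rfl
    apply h2
    have := CharP.cast_eq_zero F 2
    exact_mod_cast this
  have hp3 : 3 ≤ p := by
    have := hp.two_le
    omega
  have hcard : 2 ≤ Fintype.card (Unit ⊕ (Fin d ⊕ Fin d)) := by
    rw [Fintype.card_sum, Fintype.card_sum, Fintype.card_fin, Fintype.card_unit]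
    omega
  -- reformulate `H`
  have H' : ∀ x : GL (Unit ⊕ (Fin d ⊕ Fin d)) F,
      x ∈ Cfsg.Geo.omegaGL ⇑(Cfsg.Agent.S0286.oddQF F d) → x ^ p = 1 →
      (∀ z : F, (x : Matrix (Unit ⊕ (Fin d ⊕ Fin d)) (Unit ⊕ (Fin d ⊕ Fin d)) F) ≠
        z • (1 : Matrix (Unit ⊕ (Fin d ⊕ Fin d)) (Unit ⊕ (Fin d ⊕ Fin d)) F)) →
      ∃ W : Submodule F (Unit ⊕ (Fin d ⊕ Fin d) → F), (Module.finrank F ↥W = m ∧
        Cfsg.Geo.IsNondegenerateOn (QuadraticMap.polar ⇑(Cfsg.Agent.S0286.oddQF F d)) W ∧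
        Cfsg.Geo.IsPlusTypeOn (⇑(Cfsg.Agent.S0286.oddQF F d)) W) ∧
        W.map (Matrix.toLin' (x : Matrix (Unit ⊕ (Fin d ⊕ Fin d)) (Unit ⊕ (Fin d ⊕ Fin d)) F)) ≤
          W := by
    intro x hxΩ hxp hxs
    rw [Cfsg.Agent.S0286.coe_oddQF] at hxΩ ⊢
    apply H x hxΩ
    have hx1 : x ≠ 1 := by
      rintro rfl
      exact hxs 1 (by rw [one_smul]; rfl)
    exact orderOf_eq_prime hxp hx1
  have key : ∀ μ : Multiset ℕ, (∀ e ∈ μ, 0 < e ∧ e ≤ p) →
      (∀ e : ℕ, Even e → Even (μ.count e)) → μ.sum = 2 * d + 1 →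
      ∃ ν : Multiset ℕ, ν ≤ μ ∧ ν.sum = m ∧ ∀ e : ℕ, Even e → Even (ν.count e) := by
    intro μ hμ hpar hsum
    have hpos : ∀ a ∈ μ, 0 < a := fun a ha => (hμ a ha).1
    have hle : ∀ a ∈ μ, a ≤ p := fun a ha => (hμ a ha).2
    by_cases hbig : ∃ a ∈ μ, 2 ≤ a
    · obtain ⟨x, hx, hT⟩ := Cfsg.Agent.Lib.H11.OrthReal.exists_odd (F := F) h2 d μ hpos hpar hsum
      rw [← Cfsg.Agent.S0286.coe_oddQF] at hx
      obtain ⟨W, ν, _, hνμ, hνsum, hνpar, _⟩ :=
        Cfsg.Agent.Lib.H11.OrthReal.sub_type_of_fixed (Cfsg.Agent.S0286.oddQF F d)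
          (Cfsg.Agent.S0286.nondeg h2 d) h2 hcard m
          (fun W => Cfsg.Geo.IsPlusTypeOn (⇑(Cfsg.Agent.S0286.oddQF F d)) W) H' x hx μ hT hpos
          hle hbig
      exact ⟨ν, hνμ, hνsum, hνpar⟩
    · exact Cfsg.Agent.Lib.H11.OrthReal.exists_sub_of_all_ones μ hpos hbig m (by omega)
  refine ⟨?_, key⟩
  -- `m ≡ 0 (mod 4)` from the type `(2^(2a), r)`, `r ∈ {1, 3}`
  obtain ⟨a, ha⟩ : ∃ a, a = d / 2 := ⟨_, rfl⟩
  obtain ⟨r, hr⟩ : ∃ r, r = 2 * d + 1 - 4 * a := ⟨_, rfl⟩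
  have hr13 : r = 1 ∨ r = 3 := by omega
  obtain ⟨μ₀, hμ₀⟩ : ∃ μ₀ : Multiset ℕ, μ₀ = Multiset.replicate (2 * a) 2 + {r} := ⟨_, rfl⟩
  have hmem : ∀ e ∈ μ₀, e = 2 ∨ e = r := by
    intro e he
    rw [hμ₀, Multiset.mem_add, Multiset.mem_singleton] at he
    rcases he with he | he
    · exact Or.inl (Multiset.eq_of_mem_replicate he)
    · exact Or.inr he
  obtain ⟨ν, hνμ, hνsum, hνpar⟩ := key μ₀ (by
      intro e he
      rcases hmem e he with rfl | rfl
      · omega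
      · omega) (by
      intro e he
      rw [hμ₀, Multiset.count_add, Multiset.count_replicate, Multiset.count_singleton]
      have her : ¬ (e = r) := by
        rintro rfl
        rcases hr13 with h | h <;> rw [h] at he <;> exact absurd he (by decide)
      rw [if_neg her, add_zero]
      split_ifs
      · exact ⟨a, by ring⟩
      · exact ⟨0, rfl⟩) (by
      rw [hμ₀, Multiset.sum_add, Multiset.sum_replicate, Multiset.sum_singleton, smul_eq_mul]
      omega)
  have hmemν : ∀ e ∈ ν, e = 1 ∨ e = 2 ∨ e = 3 := by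
    intro e he
    rcases hmem e (Multiset.mem_of_le hνμ he) with h | h
    · exact Or.inr (Or.inl h)
    · rcases hr13 with h' | h' <;> omega
  have hs := Cfsg.Agent.Lib.H11.OrthReal.sum_eq_counts ν hmemν
  have hc1 : Multiset.count 1 ν + Multiset.count 3 ν ≤ 1 := by
    have h1 := Multiset.count_le_of_le 1 hνμ
    have h3 := Multiset.count_le_of_le 3 hνμ
    rw [hμ₀, Multiset.count_add, Multiset.count_replicate, Multiset.count_singleton] at h1 h3
    rcases hr13 with h | h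
    · rw [h] at h1 h3
      split_ifs at h1 h3 <;> omega
    · rw [h] at h1 h3
      split_ifs at h1 h3 <;> omega
  obtain ⟨j, hj⟩ := hνpar 2 (by decide)
  obtain ⟨i, hi⟩ := hme
  omega

end Cfsg.Agent.S5995
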