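import Mathlib
import Cfsg.Statements.S5997
import Cfsg.Agent.Lib.H5.Q8Normalizer

set_option autoImplicit false
open Cfsg

namespace Cfsg.Agent.S5997

open Cfsg.Agent.Lib.H5.Q8Normalizer in
/-- Elements of prime order of PSL_2(p) and the normalizer of a quaternion subgroup. Here `T = PSL_2(F)` for the field `F` with `p` elements, `p ≥ 5` prime; `R` is a subgroup of GL_2(F) isomorphic to the quaternion group of order 8 (an absolutely irreducible 2-group of symplectic type), and `H` is the subgroup of matrices of determinant 1 normalizing `R` — a subgroup of type 2^{1+2}.O₂⁻(2), isomorphic modulo scalars to A₄ or S₄ (maximality is not assumed). Ω is the set of cosets of `H` in `T`, so an element of `T` of prime order `r` (a matrix `x` of determinant 1 with `x^r` scalar, `x` not scalar) fixes a point of Ω exactly when some conjugate of `x` by a matrix of determinant 1 normalizes `R`. Let `r` be a prime dividing the index of `H`. Then every element of `T` of order `r` fixes a point of Ω if and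 only if `r = 2` or `r = 3`. -/
theorem result {F : Type*} [Field F] [Fintype F] {p : ℕ} [Fact p.Prime] [CharP F p] (hF : Fintype.card F = p) (hp : 5 ≤ p)
    (R : Subgroup (GL (Fin 2) F)) (hR : Nonempty (↥R ≃* QuaternionGroup 2))
    (r : ℕ) [Fact r.Prime]
    (hΩ : r ∣ (Cfsg.Geo.subgroupNormalizer R).relIndex (Cfsg.Geo.specialLinear (Fin 2) F)) :
    (∀ x ∈ Cfsg.Geo.specialLinear (Fin 2) F, (∃ z : F, ((x ^ r : GL (Fin 2) F) : Matrix (Fin 2) (Fin 2) F) = z • (1 : Matrix (Fin 2) (Fin 2) F)) →
      (∀ z : F, (x : Matrix (Fin 2) (Fin 2) F) ≠ z • (1 : Matrix (Fin 2) (Fin 2) F)) →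
      ∃ g ∈ Cfsg.Geo.specialLinear (Fin 2) F, g⁻¹ * x * g ∈ Cfsg.Geo.subgroupNormalizer R) ↔ (r = 2 ∨ r = 3) := by
  obtain ⟨e⟩ := hR
  have hpp : p.Prime := Fact.out
  have hrp : r.Prime := Fact.out
  have h2 : (2 : F) ≠ 0 := by
    intro h
    have h' : ((2 : ℕ) : F) = 0 := by exact_mod_cast h
    rw [CharP.cast_eq_zero_iff F p] at h'
    have := Nat.le_of_dvd (by norm_num) h'
    omega
  have h3 : (3 : F) ≠ 0 := by
    intro h
    have h' : ((3 : ℕ) : F) = 0 := by exact_mod_cast h
    rw [CharP.cast_eq_zero_iff F p] at h'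
    have := Nat.le_of_dvd (by norm_num) h'
    omega
  have hodd : Odd (Fintype.card F) := by
    rw [hF]
    exact hpp.odd_of_ne_two (by omega)
  constructor
  · intro h
    by_contra hr
    push Not at hr
    have hr5 : 5 ≤ r := by
      by_contra hlt
      have h2' := hrp.two_le
      have : r = 4 := by omega
      rw [this] at hrp
      norm_num at hrp
    have hdvd : r ∣ Nat.card ↥(Cfsg.Geo.specialLinear (Fin 2) F) :=
      hΩ.trans (Subgroup.relIndex_dvd_card _ _)
    obtain ⟨x₀, hx₀⟩ := exists_prime_orderOf_dvd_card' r hdvd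
    have hord : orderOf (x₀ : GL (Fin 2) F) = r := by rw [Subgroup.orderOf_coe, hx₀]
    have hxr : (x₀ : GL (Fin 2) F) ^ r = 1 := by rw [← hord, pow_orderOf_eq_one]
    have hdet := (mem_specialLinear_iff (x₀ : GL (Fin 2) F)).mp x₀.2
    have hns : ∀ z : F, ((x₀ : GL (Fin 2) F) : Matrix (Fin 2) (Fin 2) F) ≠
        z • (1 : Matrix (Fin 2) (Fin 2) F) := by
      intro z hz
      rw [hz, Matrix.det_smul, Matrix.det_one, Fintype.card_fin, mul_one] at hdet
      have hxx : (x₀ : GL (Fin 2) F) ^ 2 = 1 := by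
        apply Units.ext
        rw [pow_two, Units.val_mul, hz, Units.val_one, smul_mul_smul_comm, mul_one, ← pow_two, hdet,
          one_smul]
      have := orderOf_dvd_of_pow_eq_one hxx
      rw [hord] at this
      have := Nat.le_of_dvd (by norm_num) this
      omega
    obtain ⟨g, hg, hgN⟩ := h (x₀ : GL (Fin 2) F) x₀.2 ⟨1, by rw [hxr]; simp⟩ hns
    have hyr : (g⁻¹ * (x₀ : GL (Fin 2) F) * g) ^ r = 1 := by
      have : g⁻¹ * (x₀ : GL (Fin 2) F) * g = g⁻¹ * (x₀ : GL (Fin 2) F) * (g⁻¹)⁻¹ := by rw [inv_inv]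
      rw [this, conj_pow, hxr, mul_one, mul_inv_cancel]
    obtain ⟨a, ha⟩ := scalar_of_mem_normalizer h2 R e hr5 hgN hyr
    apply hns a
    have hx' : (x₀ : GL (Fin 2) F) = g * (g⁻¹ * (x₀ : GL (Fin 2) F) * g) * g⁻¹ := by group
    rw [hx', Units.val_mul, Units.val_mul, ha, Matrix.mul_smul, Matrix.smul_mul, mul_one,
      Units.mul_inv]
  · rintro (rfl | rfl)
    · intro x hxS hx hns
      exact conj_mem_of_sq hodd h2 R e x hxS hx hns
    · intro x hxS hx hns
      exact conj_mem_of_cube hodd h2 h3 R e x hxS hx hns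

end Cfsg.Agent.S5997
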